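import Mathlib

set_option autoImplicit false

namespace Cfsg.Agent.Lib.Helper15

open Module QuadraticMap

variable {F V : Type*} [Field F] [AddCommGroup V] [Module F V] [FiniteDimensional F V]

/-- a totally singular subspace lies in its own orthogonal complement -/
theorem le_orthogonal_of_singular (Q : QuadraticForm F V) (U : Submodule F V) (hU : ∀ u ∈ U, Q u = 0) :
    U ≤ LinearMap.BilinForm.orthogonal (polarBilin Q) U := by
  intro u hu w hw
  show polarBilin Q w u = 0
  rw [polarBilin_apply_apply]
  unfold polar
  rw [hU _ (U.add_mem hw hu), hU _ hw, hU _ hu]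
  simp

theorem two_mul_finrank_le_of_singular (Q : QuadraticForm F V) (hQ : (polarBilin Q).Nondegenerate)
    (U : Submodule F V) (hU : ∀ u ∈ U, Q u = 0) : 2 * finrank F U ≤ finrank F V := by
  have h1 := Submodule.finrank_mono (le_orthogonal_of_singular Q U hU)
  have h2 := LinearMap.BilinForm.finrank_orthogonal hQ U
  have h3 := Submodule.finrank_le U
  omega

theorem orthogonal_eq_of_singular (Q : QuadraticForm F V) (hQ : (polarBilin Q).Nondegenerate)
    (U : Submodule F V) (hU : ∀ u ∈ U, Q u = 0) (hdim : 2 * finrank F U = finrank F V) :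
    LinearMap.BilinForm.orthogonal (polarBilin Q) U = U := by
  symm
  apply Submodule.eq_of_le_of_finrank_le (le_orthogonal_of_singular Q U hU)
  have h2 := LinearMap.BilinForm.finrank_orthogonal hQ U
  omega

/-- fibres of a nonzero functional -/
theorem card_fiber_functional [Finite F] {U : Type*} [AddCommGroup U] [Module F U] [FiniteDimensional F U]
    (φ : U →ₗ[F] F) (hφ : φ ≠ 0) (c : F) (m : ℕ) (hm : finrank F U = m) :
    Nat.card {u : U // φ u = c} = Nat.card F ^ (m - 1) := by
  have hsurj : Function.Surjective φ := by
    obtain ⟨u, hu⟩ : ∃ u, φ u ≠ 0 := by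
      by_contra hcon
      push Not at hcon
      exact hφ (LinearMap.ext hcon)
    intro a
    refine ⟨(a * (φ u)⁻¹) • u, ?_⟩
    rw [map_smul, smul_eq_mul, mul_assoc, inv_mul_cancel₀ hu, mul_one]
  obtain ⟨u₀, hu₀⟩ := hsurj c
  have hker : finrank F (LinearMap.ker φ) = m - 1 := by
    have := LinearMap.finrank_range_add_finrank_ker φ
    rw [LinearMap.range_eq_top.mpr hsurj, finrank_top, Module.finrank_self, hm] at this
    omega
  have hcard : Nat.card (LinearMap.ker φ) = Nat.card F ^ (m - 1) := by
    rw [← hker]; exact Module.natCard_eq_pow_finrank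
  rw [← hcard]
  apply Nat.card_congr
  exact
    { toFun := fun u => ⟨u.1 - u₀, by rw [LinearMap.mem_ker, map_sub, u.2, hu₀, sub_self]⟩
      invFun := fun k => ⟨k.1 + u₀, by rw [map_add, LinearMap.mem_ker.mp k.2, hu₀, zero_add]⟩
      left_inv := fun u => by simp
      right_inv := fun k => by simp }


/-- the number of zeros of a quadratic form having a totally singular subspace of half dimension -/
theorem card_zeros_of_maximal_singular [Finite F] (Q : QuadraticForm F V) (hQ : (polarBilin Q).Nondegenerate)
    (U : Submodule F V) (hU : ∀ u ∈ U, Q u = 0) (m : ℕ) (hm : finrank F U = m) (hV : finrank F V = 2 * m) :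
    Nat.card {v : V // Q v = 0} * Nat.card F ^ m =
      Nat.card F ^ m * Nat.card F ^ m + (Nat.card F ^ (2 * m) - Nat.card F ^ m) * Nat.card F ^ (m - 1) := by
  classical
  have : Finite V := Module.finite_of_finite F
  have := Fintype.ofFinite V
  have := Fintype.ofFinite F
  have hcU : Nat.card U = Nat.card F ^ m := by rw [← hm]; exact Module.natCard_eq_pow_finrank
  have hcV : Nat.card V = Nat.card F ^ (2 * m) := by rw [← hV]; exact Module.natCard_eq_pow_finrank
  have horth := orthogonal_eq_of_singular Q hQ U hU (by omega)
  -- the set of pairs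
  have e1 : {p : V × U // Q (p.1 + p.2) = 0} ≃ {z : V // Q z = 0} × U :=
    { toFun := fun p => (⟨p.1.1 + p.1.2, p.2⟩, p.1.2)
      invFun := fun p => ⟨(p.1.1 - p.2, p.2), by simpa using p.1.2⟩
      left_inv := fun p => by
        apply Subtype.ext
        simp
      right_inv := fun p => by
        apply Prod.ext
        · apply Subtype.ext
          simp
        · rfl }
  have h1 : Nat.card {p : V × U // Q (p.1 + p.2) = 0} = Nat.card {z : V // Q z = 0} * Nat.card F ^ m := by
    rw [Nat.card_congr e1, Nat.card_prod, hcU]
  have e2 : {p : V × U // Q (p.1 + p.2) = 0} ≃ Σ v : V, {u : U // Q (v + u) = 0} :=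
    Equiv.subtypeProdEquivSigmaSubtype (fun (v : V) (u : U) => Q (v + u) = 0)
  have hN : ∀ v : V, Nat.card {u : U // Q (v + u) = 0} = if v ∈ U then Nat.card F ^ m else Nat.card F ^ (m - 1) := by
    intro v
    by_cases hv : v ∈ U
    · rw [if_pos hv, ← hcU]
      apply Nat.card_congr
      exact Equiv.subtypeUnivEquiv (fun u => hU _ (U.add_mem hv u.2))
    · rw [if_neg hv]
      let φ : U →ₗ[F] F := (polarBilin Q v).comp U.subtype
      have hφ : φ ≠ 0 := by
        intro h0
        apply hv
        rw [← horth]
        intro w hw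
        show polarBilin Q w v = 0
        have := congrArg (fun ψ : U →ₗ[F] F => ψ ⟨w, hw⟩) h0
        simp only [φ, LinearMap.comp_apply, Submodule.subtype_apply, LinearMap.zero_apply, polarBilin_apply_apply] at this
        rw [polarBilin_apply_apply, polar_comm]
        exact this
      rw [← card_fiber_functional φ hφ (-Q v) m hm]
      apply Nat.card_congr
      apply Equiv.subtypeEquivRight
      intro u
      have hexp : Q (v + u) = Q v + φ u := by
        have : Q (v + (u : V)) = Q v + Q (u : V) + polar Q v u := by unfold polar; ring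
        rw [this, hU _ u.2]
        simp [φ]
      rw [hexp]
      constructor
      · intro h; exact eq_neg_of_add_eq_zero_right h
      · intro h; rw [h]; ring
  have h2 : Nat.card {p : V × U // Q (p.1 + p.2) = 0} =
      Nat.card F ^ m * Nat.card F ^ m + (Nat.card F ^ (2 * m) - Nat.card F ^ m) * Nat.card F ^ (m - 1) := by
    rw [Nat.card_congr e2, Nat.card_sigma]
    simp only [hN]
    rw [Finset.sum_ite, Finset.sum_const, Finset.sum_const, smul_eq_mul, smul_eq_mul]
    have hc1 : (Finset.univ.filter (fun v : V => v ∈ U)).card = Nat.card F ^ m := by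
      rw [← hcU, Nat.card_eq_fintype_card, Fintype.card_subtype]
    have hc2 : (Finset.univ.filter (fun v : V => ¬ v ∈ U)).card = Nat.card F ^ (2 * m) - Nat.card F ^ m := by
      have := Finset.card_filter_add_card_filter_not (s := (Finset.univ : Finset V)) (fun v : V => v ∈ U)
      rw [hc1, Finset.card_univ, ← Nat.card_eq_fintype_card, hcV] at this
      omega
    rw [hc1, hc2]
  rw [← h1, h2]

end Cfsg.Agent.Lib.Helper15
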