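import Mathlib
import Cfsg.Agent.Lib.Helper15.QuadF2b
set_option autoImplicit false
namespace Cfsg.Agent.Lib.Helper15

open Module

section symp
variable {F V : Type*} [Field F] [AddCommGroup V] [Module F V]

/-- hyperbolic (symplectic) family of size `k` for a bilinear form -/
structure IsSympFam (B : V →ₗ[F] V →ₗ[F] F) {k : ℕ} (e f : Fin k → V) : Prop where
  ee : ∀ i j, B (e i) (e j) = 0
  ff : ∀ i j, B (f i) (f j) = 0
  ef : ∀ i j, B (e i) (f j) = if i = j then 1 else 0

variable (B : V →ₗ[F] V →ₗ[F] F) (halt : ∀ x, B x x = 0)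

include halt in
theorem alt_swap (x y : V) : B x y = - B y x := by
  have h := halt (x + y)
  simp only [map_add, LinearMap.add_apply, halt, zero_add, add_zero] at h
  exact eq_neg_of_add_eq_zero_left (by rw [add_comm]; exact h)

include halt in
theorem IsSympFam.fe {k : ℕ} {e f : Fin k → V} (h : IsSympFam B e f) (i j : Fin k) :
    B (f i) (e j) = if i = j then -1 else 0 := by
  rw [alt_swap B halt, h.ef]
  by_cases hij : i = j
  · simp [hij]
  · simp [hij, Ne.symm hij]

/-- the coordinate map attached to a symplectic family -/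
def sympCoord {k : ℕ} (e f : Fin k → V) : V →ₗ[F] (Fin k → F) × (Fin k → F) where
  toFun x := (fun i => B x (f i), fun i => B x (e i))
  map_add' x y := by ext i <;> simp
  map_smul' c x := by ext i <;> simp

/-- the orthogonal complement of a symplectic family -/
def sympPerp {k : ℕ} (e f : Fin k → V) : Submodule F V := LinearMap.ker (sympCoord B e f)

theorem mem_sympPerp {k : ℕ} (e f : Fin k → V) (x : V) :
    x ∈ sympPerp B e f ↔ ∀ i, B x (e i) = 0 ∧ B x (f i) = 0 := by
  unfold sympPerp sympCoord
  rw [LinearMap.mem_ker]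
  simp only [LinearMap.coe_mk, AddHom.coe_mk, Prod.mk_eq_zero, funext_iff, Pi.zero_apply]
  constructor
  · rintro ⟨h1, h2⟩ i; exact ⟨h2 i, h1 i⟩
  · intro h; exact ⟨fun i => (h i).2, fun i => (h i).1⟩

/-- the combination attached to coordinates -/
def sympComb {k : ℕ} (e f : Fin k → V) (a b : Fin k → F) : V := ∑ i, a i • e i - ∑ i, b i • f i

include halt in
theorem sympCoord_sympComb {k : ℕ} {e f : Fin k → V} (h : IsSympFam B e f) (a b : Fin k → F) :
    sympCoord B e f (sympComb e f a b) = (a, b) := by
  apply Prod.ext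
  · funext j
    show B (sympComb e f a b) (f j) = a j
    unfold sympComb
    simp only [map_sub, map_sum, map_smul, LinearMap.sub_apply, LinearMap.sum_apply, LinearMap.smul_apply,
      smul_eq_mul, h.ef, h.ff]
    simp
  · funext j
    show B (sympComb e f a b) (e j) = b j
    unfold sympComb
    simp only [map_sub, map_sum, map_smul, LinearMap.sub_apply, LinearMap.sum_apply, LinearMap.smul_apply,
      smul_eq_mul, h.ee, h.fe B halt]
    simp

include halt in
theorem sympCoord_surjective {k : ℕ} {e f : Fin k → V} (h : IsSympFam B e f) :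
    Function.Surjective (sympCoord B e f) := fun p => ⟨sympComb e f p.1 p.2, sympCoord_sympComb B halt h p.1 p.2⟩

include halt in
theorem finrank_sympPerp [FiniteDimensional F V] {k : ℕ} {e f : Fin k → V} (h : IsSympFam B e f) :
    finrank F (sympPerp B e f) + 2 * k = finrank F V := by
  have h1 := LinearMap.finrank_range_add_finrank_ker (sympCoord B e f)
  rw [LinearMap.range_eq_top.mpr (sympCoord_surjective B halt h), finrank_top, Module.finrank_prod,
    Module.finrank_pi, Fintype.card_fin] at h1
  unfold sympPerp
  omega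

include halt in
/-- the projection of `x` to the perp -/
theorem sub_sympComb_mem {k : ℕ} {e f : Fin k → V} (h : IsSympFam B e f) (x : V) :
    x - sympComb e f (fun i => B x (f i)) (fun i => B x (e i)) ∈ sympPerp B e f := by
  unfold sympPerp
  rw [LinearMap.mem_ker, map_sub, sympCoord_sympComb B halt h]
  exact sub_self _

include halt in
theorem sympPerp_nondeg {k : ℕ} {e f : Fin k → V} (h : IsSympFam B e f)
    (hnd : ∀ x, (∀ y, B x y = 0) → x = 0) (u : V) (hu : u ∈ sympPerp B e f)
    (hu0 : ∀ y ∈ sympPerp B e f, B u y = 0) : u = 0 := by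
  apply hnd
  intro y
  have h1 := hu0 _ (sub_sympComb_mem B halt h y)
  rw [map_sub, sub_eq_zero] at h1
  rw [h1]
  unfold sympComb
  rw [mem_sympPerp] at hu
  simp only [map_sub, map_sum, map_smul, (hu _).1, (hu _).2, smul_zero, Finset.sum_const_zero, sub_zero]

end symp

section count
variable {F V : Type*} [Field F] [AddCommGroup V] [Module F V] [Finite F] [FiniteDimensional F V]
variable (B : V →ₗ[F] V →ₗ[F] F) (halt : ∀ x, B x x = 0) (hnd : ∀ x, (∀ y, B x y = 0) → x = 0)

include halt hnd in
theorem card_hyp_pairs {k : ℕ} {e f : Fin k → V} (h : IsSympFam B e f) (d : ℕ)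
    (hd : finrank F (sympPerp B e f) = d) :
    Nat.card {p : (sympPerp B e f) × (sympPerp B e f) // B p.1.1 p.2.1 = 1} =
      (Nat.card F ^ d - 1) * Nat.card F ^ (d - 1) := by
  classical
  haveI : Finite V := Module.finite_of_finite F
  haveI : Fintype (sympPerp B e f) := Fintype.ofFinite _
  haveI : Fintype {u : sympPerp B e f // u ≠ 0} := Fintype.ofFinite _
  have hU : Nat.card (sympPerp B e f) = Nat.card F ^ d := by
    rw [← hd]; exact Module.natCard_eq_pow_finrank
  have hU0 : Nat.card {u : sympPerp B e f // u ≠ 0} = Nat.card F ^ d - 1 := by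
    rw [← hU, Nat.card_eq_fintype_card, Nat.card_eq_fintype_card, Fintype.card_subtype_compl,
      Fintype.card_subtype_eq]
  let E : {p : (sympPerp B e f) × (sympPerp B e f) // B p.1.1 p.2.1 = 1} ≃
      Σ u : {u : sympPerp B e f // u ≠ 0}, {v : sympPerp B e f // B u.1.1 v.1 = 1} :=
    { toFun := fun p => ⟨⟨p.1.1, by
        intro h0
        have := p.2
        rw [h0] at this
        simp at this⟩, ⟨p.1.2, p.2⟩⟩
      invFun := fun s => ⟨(s.1.1, s.2.1), s.2.2⟩
      left_inv := fun p => rfl
      right_inv := fun s => rfl }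
  rw [Nat.card_congr E, Nat.card_sigma]
  have hfib : ∀ u : {u : sympPerp B e f // u ≠ 0}, Nat.card {v : sympPerp B e f // B u.1.1 v.1 = 1} =
      Nat.card F ^ (d - 1) := by
    intro u
    let φ : sympPerp B e f →ₗ[F] F := (B u.1.1).domRestrict (sympPerp B e f)
    have hφ : φ ≠ 0 := by
      intro h0
      apply u.2
      apply Subtype.ext
      apply sympPerp_nondeg B halt h hnd u.1.1 u.1.2
      intro y hy
      have := LinearMap.congr_fun h0 ⟨y, hy⟩
      exact this
    exact card_fiber_functional φ hφ 1 d hd
  simp only [hfib, Finset.sum_const, Finset.card_univ, smul_eq_mul]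
  rw [← Nat.card_eq_fintype_card, hU0]

end count


section fam
variable {F V : Type*} [Field F] [AddCommGroup V] [Module F V]
variable (B : V →ₗ[F] V →ₗ[F] F)

/-- the type of symplectic families of size `k` -/
abbrev SympFam (k : ℕ) : Type _ := {p : (Fin k → V) × (Fin k → V) // IsSympFam B p.1 p.2}

/-- restriction of a family -/
def SympFam.init {k : ℕ} (x : SympFam B (k + 1)) : SympFam B k :=
  ⟨(Fin.init x.1.1, Fin.init x.1.2), by
    have h := x.2
    refine ⟨fun i j => h.ee _ _, fun i j => h.ff _ _, fun i j => ?_⟩
    show B (x.1.1 i.castSucc) (x.1.2 j.castSucc) = _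
    rw [h.ef]
    simp [Fin.ext_iff]⟩

variable (halt : ∀ x, B x x = 0)

include halt in
theorem isSympFam_snoc {k : ℕ} {e f : Fin k → V} (h : IsSympFam B e f) (u v : V)
    (hu : u ∈ sympPerp B e f) (hv : v ∈ sympPerp B e f) (huv : B u v = 1) :
    IsSympFam B (Fin.snoc e u : Fin (k + 1) → V) (Fin.snoc f v : Fin (k + 1) → V) := by
  rw [mem_sympPerp] at hu hv
  refine ⟨fun i j => ?_, fun i j => ?_, fun i j => ?_⟩
  · induction i using Fin.lastCases with
    | last =>
      induction j using Fin.lastCases with
      | last => simp only [Fin.snoc_last]; exact halt u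
      | cast j => simp only [Fin.snoc_last, Fin.snoc_castSucc]; exact (hu j).1
    | cast i =>
      induction j using Fin.lastCases with
      | last => simp only [Fin.snoc_last, Fin.snoc_castSucc]; rw [alt_swap B halt, (hu i).1, neg_zero]
      | cast j => simp only [Fin.snoc_castSucc]; exact h.ee i j
  · induction i using Fin.lastCases with
    | last =>
      induction j using Fin.lastCases with
      | last => simp only [Fin.snoc_last]; exact halt v
      | cast j => simp only [Fin.snoc_last, Fin.snoc_castSucc]; exact (hv j).2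
    | cast i =>
      induction j using Fin.lastCases with
      | last => simp only [Fin.snoc_last, Fin.snoc_castSucc]; rw [alt_swap B halt, (hv i).2, neg_zero]
      | cast j => simp only [Fin.snoc_castSucc]; exact h.ff i j
  · induction i using Fin.lastCases with
    | last =>
      induction j using Fin.lastCases with
      | last => simp only [Fin.snoc_last]; rw [huv]; simp
      | cast j =>
        simp only [Fin.snoc_last, Fin.snoc_castSucc]
        rw [(hu j).2, if_neg]
        exact (Fin.castSucc_lt_last j).ne'
    | cast i =>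
      induction j using Fin.lastCases with
      | last =>
        simp only [Fin.snoc_last, Fin.snoc_castSucc]
        rw [alt_swap B halt, (hv i).1, neg_zero, if_neg]
        exact (Fin.castSucc_lt_last i).ne
      | cast j =>
        simp only [Fin.snoc_castSucc]
        rw [h.ef]
        simp [Fin.ext_iff]

include halt in
/-- fibre of the restriction map -/
noncomputable def fiberEquiv {k : ℕ} (p : SympFam B k) :
    {x : SympFam B (k + 1) // x.init B = p} ≃
      {q : (sympPerp B p.1.1 p.1.2) × (sympPerp B p.1.1 p.1.2) // B q.1.1 q.2.1 = 1} where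
  toFun x := ⟨(⟨x.1.1.1 (Fin.last k), by
      have hx := x.1.2
      have hp1 : Fin.init x.1.1.1 = p.1.1 := congrArg (fun z : SympFam B k => z.1.1) x.2
      have hp2 : Fin.init x.1.1.2 = p.1.2 := congrArg (fun z : SympFam B k => z.1.2) x.2
      rw [← hp1, ← hp2, mem_sympPerp]
      intro i
      constructor
      · exact hx.ee _ _
      · show B _ (x.1.1.2 i.castSucc) = 0
        rw [hx.ef, if_neg]
        exact (Fin.castSucc_lt_last i).ne'⟩,
    ⟨x.1.1.2 (Fin.last k), by
      have hx := x.1.2
      have hp1 : Fin.init x.1.1.1 = p.1.1 := congrArg (fun z : SympFam B k => z.1.1) x.2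
      have hp2 : Fin.init x.1.1.2 = p.1.2 := congrArg (fun z : SympFam B k => z.1.2) x.2
      rw [← hp1, ← hp2, mem_sympPerp]
      intro i
      constructor
      · show B _ (x.1.1.1 i.castSucc) = 0
        rw [hx.fe B halt, if_neg]
        exact (Fin.castSucc_lt_last i).ne'
      · exact hx.ff _ _⟩), by
      have hx := x.1.2
      show B (x.1.1.1 (Fin.last k)) (x.1.1.2 (Fin.last k)) = 1
      rw [hx.ef]; simp⟩
  invFun q := ⟨⟨(Fin.snoc p.1.1 q.1.1.1, Fin.snoc p.1.2 q.1.2.1),
      isSympFam_snoc B halt p.2 _ _ q.1.1.2 q.1.2.2 q.2⟩, by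
    apply Subtype.ext
    apply Prod.ext
    · show Fin.init (Fin.snoc p.1.1 q.1.1.1 : Fin (k + 1) → V) = p.1.1
      exact Fin.init_snoc _ _
    · show Fin.init (Fin.snoc p.1.2 q.1.2.1 : Fin (k + 1) → V) = p.1.2
      exact Fin.init_snoc _ _⟩
  left_inv x := by
    apply Subtype.ext
    apply Subtype.ext
    have hp1 : Fin.init x.1.1.1 = p.1.1 := congrArg (fun z : SympFam B k => z.1.1) x.2
    have hp2 : Fin.init x.1.1.2 = p.1.2 := congrArg (fun z : SympFam B k => z.1.2) x.2
    apply Prod.ext
    · show Fin.snoc p.1.1 (x.1.1.1 (Fin.last k)) = x.1.1.1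
      rw [← hp1]
      exact Fin.snoc_init_self _
    · show Fin.snoc p.1.2 (x.1.1.2 (Fin.last k)) = x.1.1.2
      rw [← hp2]
      exact Fin.snoc_init_self _
  right_inv q := by
    apply Subtype.ext
    apply Prod.ext
    · apply Subtype.ext
      show (Fin.snoc p.1.1 q.1.1.1 : Fin (k + 1) → V) (Fin.last k) = _
      exact Fin.snoc_last _ _
    · apply Subtype.ext
      show (Fin.snoc p.1.2 q.1.2.1 : Fin (k + 1) → V) (Fin.last k) = _
      exact Fin.snoc_last _ _

end fam


section famcount
variable {F V : Type*} [Field F] [AddCommGroup V] [Module F V] [Finite F] [FiniteDimensional F V]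
variable (B : V →ₗ[F] V →ₗ[F] F) (halt : ∀ x, B x x = 0) (hnd : ∀ x, (∀ y, B x y = 0) → x = 0)

instance : Finite (SympFam B (V := V) 0) := by
  haveI : Finite V := Module.finite_of_finite F
  unfold SympFam
  infer_instance

theorem finite_sympFam (k : ℕ) : Finite (SympFam B k) := by
  haveI : Finite V := Module.finite_of_finite F
  unfold SympFam
  infer_instance

include halt hnd in
theorem card_sympFam_succ (k d : ℕ) (hd : d + 2 * k = finrank F V) :
    Nat.card (SympFam B (k + 1)) =
      Nat.card (SympFam B k) * ((Nat.card F ^ d - 1) * Nat.card F ^ (d - 1)) := by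
  classical
  haveI := finite_sympFam B k
  haveI := finite_sympFam B (k + 1)
  haveI : Fintype (SympFam B k) := Fintype.ofFinite _
  rw [Nat.card_congr (Equiv.sigmaFiberEquiv (SympFam.init B (k := k))).symm, Nat.card_sigma]
  have hfib : ∀ p : SympFam B k, Nat.card {x : SympFam B (k + 1) // x.init B = p} =
      (Nat.card F ^ d - 1) * Nat.card F ^ (d - 1) := by
    intro p
    rw [Nat.card_congr (fiberEquiv B halt p)]
    apply card_hyp_pairs B halt hnd p.2
    have := finrank_sympPerp B halt p.2
    omega
  simp only [hfib, Finset.sum_const, Finset.card_univ, smul_eq_mul]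
  rw [Nat.card_eq_fintype_card (α := SympFam B k)]

include halt hnd in
theorem card_sympFam (m : ℕ) (hV : finrank F V = 2 * m) (k : ℕ) (hk : k ≤ m) :
    Nat.card (SympFam B k) =
      ∏ j ∈ Finset.range k, ((Nat.card F ^ (2 * (m - j)) - 1) * Nat.card F ^ (2 * (m - j) - 1)) := by
  induction k with
  | zero =>
    rw [Finset.range_zero, Finset.prod_empty]
    haveI : Unique (SympFam B (V := V) 0) :=
      { default := ⟨(Fin.elim0, Fin.elim0), ⟨fun i => i.elim0, fun i => i.elim0, fun i => i.elim0⟩⟩
        uniq := fun x => by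
          apply Subtype.ext
          apply Prod.ext <;> funext i <;> exact i.elim0 }
    exact Nat.card_unique
  | succ k ih =>
    rw [card_sympFam_succ B halt hnd k (2 * (m - k)) (by omega), ih (by omega), Finset.prod_range_succ]

end famcount

end Cfsg.Agent.Lib.Helper15
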