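import Mathlib
import Cfsg.Agent.Lib.Helper15.SympCount
import Cfsg.Agent.Lib.Helper6.Symp
set_option autoImplicit false
namespace Cfsg.Agent.Lib.Helper15

open Matrix Module
open Cfsg.Agent.Lib.Helper6

variable {m : ℕ} {F : Type*} [Field F]

/-- the standard symplectic form as a bilinear map -/
noncomputable def stdSymp (m : ℕ) (F : Type*) [Field F] :
    (Fin m ⊕ Fin m → F) →ₗ[F] (Fin m ⊕ Fin m → F) →ₗ[F] F :=
  LinearMap.mk₂ F (Cfsg.sympForm m F) sympForm_add_left (fun c u v => by rw [sympForm_smul_left, smul_eq_mul])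
    sympForm_add_right (fun c u v => by rw [sympForm_smul_right, smul_eq_mul])

@[simp] theorem stdSymp_apply (u v : Fin m ⊕ Fin m → F) : stdSymp m F u v = Cfsg.sympForm m F u v := rfl

theorem stdSymp_alt (x : Fin m ⊕ Fin m → F) : stdSymp m F x x = 0 := sympForm_self x

theorem sympForm_single_right_inl (x : Fin m ⊕ Fin m → F) (i : Fin m) :
    Cfsg.sympForm m F x (Pi.single (Sum.inl i) 1) = x (Sum.inr i) := by
  rw [sympForm_eq_sum]
  simp [Pi.single_apply]

theorem sympForm_single_right_inr (x : Fin m ⊕ Fin m → F) (i : Fin m) :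
    Cfsg.sympForm m F x (Pi.single (Sum.inr i) 1) = - x (Sum.inl i) := by
  rw [sympForm_eq_sum]
  simp [Pi.single_apply]

theorem stdSymp_nondeg (x : Fin m ⊕ Fin m → F) (h : ∀ y, stdSymp m F x y = 0) : x = 0 := by
  funext c
  rcases c with i | i
  · have := h (Pi.single (Sum.inr i) 1)
    rw [stdSymp_apply, sympForm_single_right_inr, neg_eq_zero] at this
    exact this
  · have := h (Pi.single (Sum.inl i) 1)
    rw [stdSymp_apply, sympForm_single_right_inl] at this
    exact this

/-- a matrix preserving the form on basis vectors is symplectic -/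
theorem mem_symp_of_basis (A : Matrix (Fin m ⊕ Fin m) (Fin m ⊕ Fin m) F)
    (h : ∀ c c', Cfsg.sympForm m F (A *ᵥ Pi.single c 1) (A *ᵥ Pi.single c' 1) =
      Cfsg.sympForm m F (Pi.single c 1) (Pi.single c' 1)) :
    A ∈ Matrix.symplecticGroup (Fin m) F := by
  rw [SymplecticGroup.mem_iff']
  have key : ∀ u v : Fin m ⊕ Fin m → F, Cfsg.sympForm m F (A *ᵥ u) (A *ᵥ v)
      = u ⬝ᵥ ((Aᵀ * Matrix.J (Fin m) F * A) *ᵥ v) := by
    intro u v
    rw [sympForm_def]
    symm
    rw [← mulVec_mulVec, ← mulVec_mulVec, dotProduct_mulVec, vecMul_transpose]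
  ext i j
  have := h i j
  rw [key, sympForm_def] at this
  simpa using this

/-- the standard family -/
theorem std_isSympFam : IsSympFam (stdSymp m F) (fun i : Fin m => (Pi.single (Sum.inr i) 1 : Fin m ⊕ Fin m → F))
    (fun i : Fin m => (Pi.single (Sum.inl i) 1 : Fin m ⊕ Fin m → F)) := by
  refine ⟨fun i j => ?_, fun i j => ?_, fun i j => ?_⟩
  · rw [stdSymp_apply, sympForm_single_right_inr]; simp
  · rw [stdSymp_apply, sympForm_single_right_inl]; simp
  · rw [stdSymp_apply, sympForm_single_right_inl]; simp [Pi.single_apply, eq_comm]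


/-- the family of columns of a symplectic matrix -/
theorem cols_isSympFam (A : Matrix.symplecticGroup (Fin m) F) :
    IsSympFam (stdSymp m F) (fun i : Fin m => A.1 *ᵥ (Pi.single (Sum.inr i) 1 : Fin m ⊕ Fin m → F))
      (fun i : Fin m => A.1 *ᵥ (Pi.single (Sum.inl i) 1 : Fin m ⊕ Fin m → F)) := by
  have hA := (mem_symplecticGroup_iff_preserves A.1).mp A.2
  have hs := std_isSympFam (m := m) (F := F)
  refine ⟨fun i j => ?_, fun i j => ?_, fun i j => ?_⟩
  · rw [stdSymp_apply, hA]; exact hs.ee i j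
  · rw [stdSymp_apply, hA]; exact hs.ff i j
  · rw [stdSymp_apply, hA]; exact hs.ef i j

/-- matrix with prescribed columns -/
def matOfFam (e f : Fin m → (Fin m ⊕ Fin m → F)) : Matrix (Fin m ⊕ Fin m) (Fin m ⊕ Fin m) F :=
  Matrix.of fun r c => Sum.elim (fun i => f i r) (fun i => e i r) c

theorem matOfFam_mulVec_inr (e f : Fin m → (Fin m ⊕ Fin m → F)) (i : Fin m) :
    matOfFam e f *ᵥ (Pi.single (Sum.inr i) 1) = e i := by
  rw [mulVec_single_one]; rfl

theorem matOfFam_mulVec_inl (e f : Fin m → (Fin m ⊕ Fin m → F)) (i : Fin m) :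
    matOfFam e f *ᵥ (Pi.single (Sum.inl i) 1) = f i := by
  rw [mulVec_single_one]; rfl

theorem matOfFam_mem {e f : Fin m → (Fin m ⊕ Fin m → F)} (h : IsSympFam (stdSymp m F) e f) :
    matOfFam e f ∈ Matrix.symplecticGroup (Fin m) F := by
  have hs := std_isSympFam (m := m) (F := F)
  apply mem_symp_of_basis
  intro c c'
  rcases c with i | i <;> rcases c' with j | j
  · rw [matOfFam_mulVec_inl, matOfFam_mulVec_inl]; exact (h.ff i j).trans (hs.ff i j).symm
  · rw [matOfFam_mulVec_inl, matOfFam_mulVec_inr]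
    exact (h.fe _ stdSymp_alt i j).trans (hs.fe _ stdSymp_alt i j).symm
  · rw [matOfFam_mulVec_inr, matOfFam_mulVec_inl]; exact (h.ef i j).trans (hs.ef i j).symm
  · rw [matOfFam_mulVec_inr, matOfFam_mulVec_inr]; exact (h.ee i j).trans (hs.ee i j).symm

/-- symplectic matrices correspond to symplectic bases -/
noncomputable def sympEquivFam : Matrix.symplecticGroup (Fin m) F ≃ SympFam (stdSymp m F) m where
  toFun A := ⟨(fun i => A.1 *ᵥ Pi.single (Sum.inr i) 1, fun i => A.1 *ᵥ Pi.single (Sum.inl i) 1), cols_isSympFam A⟩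
  invFun p := ⟨matOfFam p.1.1 p.1.2, matOfFam_mem p.2⟩
  left_inv A := by
    apply Subtype.ext
    ext r c
    rcases c with i | i
    · show (A.1 *ᵥ Pi.single (Sum.inl i) 1) r = _
      rw [mulVec_single_one]; rfl
    · show (A.1 *ᵥ Pi.single (Sum.inr i) 1) r = _
      rw [mulVec_single_one]; rfl
  right_inv p := by
    apply Subtype.ext
    apply Prod.ext
    · funext i
      exact matOfFam_mulVec_inr _ _ i
    · funext i
      exact matOfFam_mulVec_inl _ _ i

theorem sum_range_odd (m : ℕ) : ∑ j ∈ Finset.range m, (2 * (j + 1) - 1) = m ^ 2 := by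
  induction m with
  | zero => rfl
  | succ m ih => rw [Finset.sum_range_succ, ih]; have : 2 * (m + 1) - 1 = 2 * m + 1 := by omega
                 rw [this]; ring

/-- the order of the symplectic group -/
theorem card_symplecticGroup [Fintype F] (m : ℕ) :
    Nat.card (Matrix.symplecticGroup (Fin m) F) =
      Fintype.card F ^ (m ^ 2) * ∏ i ∈ Finset.range m, (Fintype.card F ^ (2 * (i + 1)) - 1) := by
  rw [Nat.card_congr sympEquivFam]
  rw [card_sympFam (stdSymp m F) stdSymp_alt stdSymp_nondeg m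
    (by rw [Module.finrank_pi, Fintype.card_sum, Fintype.card_fin]; ring) m le_rfl]
  rw [Nat.card_eq_fintype_card, ← Finset.prod_range_reflect]
  have h1 : ∀ j ∈ Finset.range m, (Fintype.card F ^ (2 * (m - (m - 1 - j))) - 1) *
      Fintype.card F ^ (2 * (m - (m - 1 - j)) - 1) =
      Fintype.card F ^ (2 * (j + 1) - 1) * (Fintype.card F ^ (2 * (j + 1)) - 1) := by
    intro j hj
    rw [Finset.mem_range] at hj
    have : m - (m - 1 - j) = j + 1 := by omega
    rw [this, mul_comm]
  rw [Finset.prod_congr rfl h1, Finset.prod_mul_distrib, Finset.prod_pow_eq_pow_sum, sum_range_odd]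

end Cfsg.Agent.Lib.Helper15
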