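import Mathlib

set_option autoImplicit false

namespace Cfsg.Agent.Lib.Helper15

open Module QuadraticMap

variable {F V : Type*} [Field F] [AddCommGroup V] [Module F V]

theorem quad_expand3 (Q : QuadraticForm F V) (u : Fin 3 → V) (c : Fin 3 → F) :
    Q (∑ i, c i • u i) = c 0 * c 0 * Q (u 0) + c 1 * c 1 * Q (u 1) + c 2 * c 2 * Q (u 2)
      + c 0 * c 1 * polar Q (u 0) (u 1) + c 0 * c 2 * polar Q (u 0) (u 2) + c 1 * c 2 * polar Q (u 1) (u 2) := by
  rw [Fin.sum_univ_three]
  have h1 : ∀ a b : V, Q (a + b) = Q a + Q b + polar Q a b := fun a b => by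
    unfold polar; ring
  rw [h1, h1, polar_add_left]
  simp only [QuadraticMap.map_smul, polar_smul_left, polar_smul_right, smul_eq_mul]
  ring

theorem exists_singular_of_three_le_finrank [Finite F] [FiniteDimensional F V] (Q : QuadraticForm F V)
    (h3 : 3 ≤ finrank F V) : ∃ x : V, x ≠ 0 ∧ Q x = 0 := by
  classical
  have := Fintype.ofFinite F
  obtain ⟨p, hp⟩ := CharP.exists F
  have : Fact p.Prime := ⟨CharP.char_is_prime F p⟩
  obtain ⟨u, hu⟩ := exists_linearIndependent_of_le_finrank h3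
  let P : MvPolynomial (Fin 3) F :=
    MvPolynomial.C (Q (u 0)) * MvPolynomial.X 0 * MvPolynomial.X 0
    + MvPolynomial.C (Q (u 1)) * MvPolynomial.X 1 * MvPolynomial.X 1
    + MvPolynomial.C (Q (u 2)) * MvPolynomial.X 2 * MvPolynomial.X 2
    + MvPolynomial.C (polar Q (u 0) (u 1)) * MvPolynomial.X 0 * MvPolynomial.X 1
    + MvPolynomial.C (polar Q (u 0) (u 2)) * MvPolynomial.X 0 * MvPolynomial.X 2
    + MvPolynomial.C (polar Q (u 1) (u 2)) * MvPolynomial.X 1 * MvPolynomial.X 2
  have hterm : ∀ (a : F) (i j : Fin 3), (MvPolynomial.C a * MvPolynomial.X i * MvPolynomial.X j : MvPolynomial (Fin 3) F).totalDegree ≤ 2 := by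
    intro a i j
    calc (MvPolynomial.C a * MvPolynomial.X i * MvPolynomial.X j : MvPolynomial (Fin 3) F).totalDegree
        ≤ (MvPolynomial.C a * MvPolynomial.X i : MvPolynomial (Fin 3) F).totalDegree + (MvPolynomial.X j : MvPolynomial (Fin 3) F).totalDegree :=
          MvPolynomial.totalDegree_mul _ _
      _ ≤ ((MvPolynomial.C a : MvPolynomial (Fin 3) F).totalDegree + (MvPolynomial.X i : MvPolynomial (Fin 3) F).totalDegree) + (MvPolynomial.X j : MvPolynomial (Fin 3) F).totalDegree :=
          Nat.add_le_add_right (MvPolynomial.totalDegree_mul _ _) _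
      _ = 2 := by
          rw [MvPolynomial.totalDegree_C, MvPolynomial.totalDegree_X, MvPolynomial.totalDegree_X]
  have hdeg : P.totalDegree ≤ 2 := by
    refine (MvPolynomial.totalDegree_add _ _).trans (max_le ?_ (hterm _ _ _))
    refine (MvPolynomial.totalDegree_add _ _).trans (max_le ?_ (hterm _ _ _))
    refine (MvPolynomial.totalDegree_add _ _).trans (max_le ?_ (hterm _ _ _))
    refine (MvPolynomial.totalDegree_add _ _).trans (max_le ?_ (hterm _ _ _))
    refine (MvPolynomial.totalDegree_add _ _).trans (max_le (hterm _ _ _) (hterm _ _ _))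
  have heval : ∀ c : Fin 3 → F, MvPolynomial.eval c P = Q (∑ i, c i • u i) := by
    intro c
    rw [quad_expand3]
    simp only [P, map_add, map_mul, MvPolynomial.eval_C, MvPolynomial.eval_X]
    ring
  have hdvd := char_dvd_card_solutions p (f := P) (by rw [Fintype.card_fin]; omega)
  have hpos : 0 < Fintype.card {x : Fin 3 → F // MvPolynomial.eval x P = 0} :=
    Fintype.card_pos_iff.mpr ⟨⟨0, by rw [heval]; simp⟩⟩
  have h2 : 1 < Fintype.card {x : Fin 3 → F // MvPolynomial.eval x P = 0} := by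
    have := Nat.le_of_dvd hpos hdvd
    have := (Fact.out : p.Prime).two_le
    omega
  obtain ⟨⟨c, hc⟩, ⟨c', hc'⟩, hne⟩ := Fintype.one_lt_card_iff.mp h2
  have : ∃ c : Fin 3 → F, c ≠ 0 ∧ MvPolynomial.eval c P = 0 := by
    by_cases h0 : c = 0
    · refine ⟨c', ?_, hc'⟩
      intro h0'
      apply hne
      rw [Subtype.mk.injEq, h0, h0']
    · exact ⟨c, h0, hc⟩
  obtain ⟨c, hc0, hc⟩ := this
  refine ⟨∑ i, c i • u i, ?_, by rw [← heval]; exact hc⟩
  intro h
  apply hc0
  funext i
  exact Fintype.linearIndependent_iff.mp hu c h i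

end Cfsg.Agent.Lib.Helper15
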