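import Mathlib
import Cfsg.Agent.Lib.Helper15.Witt1

set_option autoImplicit false

namespace Cfsg.Agent.Lib.Helper15

open Module QuadraticMap

variable {F V : Type*} [Field F] [AddCommGroup V] [Module F V]

theorem quad_add (Q : QuadraticForm F V) (a b : V) : Q (a + b) = Q a + Q b + polar Q a b := by
  unfold polar; ring

theorem polar_comp_subtype (Q : QuadraticForm F V) (W : Submodule F V) (a b : W) :
    polar (Q.comp W.subtype) a b = polar Q (a : V) (b : V) := by
  unfold polar
  simp only [QuadraticMap.comp_apply, Submodule.subtype_apply, Submodule.coe_add]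

/-- hyperbolic partner of a singular vector -/
theorem exists_hyperbolic_partner (Q : QuadraticForm F V) (hQ : (polarBilin Q).Nondegenerate) (x : V)
    (hx : x ≠ 0) (hQx : Q x = 0) : ∃ y : V, Q y = 0 ∧ polar Q x y = 1 := by
  have h1 : ∃ y₀, polar Q x y₀ ≠ 0 := by
    by_contra hcon
    push Not at hcon
    exact hx (hQ.1 x hcon)
  obtain ⟨y₀, hy₀⟩ := h1
  obtain ⟨y₁, h2⟩ : ∃ y₁, polar Q x y₁ = 1 :=
    ⟨(polar Q x y₀)⁻¹ • y₀, by rw [polar_smul_right, smul_eq_mul, inv_mul_cancel₀ hy₀]⟩
  have key : ∀ (a : V) (c : F), Q (a - c • x) = Q a + c * c * Q x - c * polar Q a x := by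
    intro a c
    rw [sub_eq_add_neg, quad_add, QuadraticMap.map_neg, QuadraticMap.map_smul, polar_neg_right, polar_smul_right]
    simp only [smul_eq_mul]
    ring
  refine ⟨y₁ - Q y₁ • x, ?_, ?_⟩
  · rw [key, hQx, polar_comm, h2]
    ring
  · rw [polar_sub_right, polar_smul_right, polar_self, hQx, h2]
    simp

/-- the orthogonal complement of a pair -/
def perpPair (Q : QuadraticForm F V) (x y : V) : Submodule F V :=
  LinearMap.ker (polarBilin Q x) ⊓ LinearMap.ker (polarBilin Q y)

theorem mem_perpPair (Q : QuadraticForm F V) (x y v : V) :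
    v ∈ perpPair Q x y ↔ polar Q x v = 0 ∧ polar Q y v = 0 := by
  unfold perpPair
  rw [Submodule.mem_inf, LinearMap.mem_ker, LinearMap.mem_ker]
  rfl

theorem finrank_perpPair [FiniteDimensional F V] (Q : QuadraticForm F V) (x y : V)
    (hQy : Q y = 0) (hQx : Q x = 0) (hxy : polar Q x y = 1) :
    finrank F (perpPair Q x y) + 2 = finrank F V := by
  let φ : V →ₗ[F] F × F := (polarBilin Q x).prod (polarBilin Q y)
  have hker : LinearMap.ker φ = perpPair Q x y := by
    ext v
    rw [LinearMap.mem_ker, mem_perpPair]
    show (polarBilin Q x v, polarBilin Q y v) = 0 ↔ _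
    rw [Prod.mk_eq_zero]
    rfl
  have hrange : LinearMap.range φ = ⊤ := by
    rw [eq_top_iff]
    rintro ⟨a, b⟩ -
    refine ⟨a • y + b • x, ?_⟩
    show (polarBilin Q x (a • y + b • x), polarBilin Q y (a • y + b • x)) = (a, b)
    rw [map_add, map_add, map_smul, map_smul, map_smul, map_smul, polarBilin_apply_apply, polarBilin_apply_apply,
      polarBilin_apply_apply, polarBilin_apply_apply, polar_self, polar_self, hQx, hQy, hxy, polar_comm Q y x, hxy]
    simp
  have := LinearMap.finrank_range_add_finrank_ker φ
  rw [hrange, hker, finrank_top, Module.finrank_prod, Module.finrank_self] at this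
  omega

theorem nondegenerate_perpPair (Q : QuadraticForm F V) (hQ : (polarBilin Q).Nondegenerate) (x y : V)
    (hQy : Q y = 0) (hQx : Q x = 0) (hxy : polar Q x y = 1) :
    (polarBilin (Q.comp (perpPair Q x y).subtype)).Nondegenerate := by
  have hleft : ∀ v : perpPair Q x y, (∀ w : perpPair Q x y, polar Q (v : V) (w : V) = 0) → v = 0 := by
    intro v hv
    apply Subtype.ext
    apply hQ.1
    intro u
    obtain ⟨hv1, hv2⟩ := (mem_perpPair Q x y v).mp v.2
    have hu' : u - polar Q y u • x - polar Q x u • y ∈ perpPair Q x y := by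
      rw [mem_perpPair]
      constructor
      · rw [polar_sub_right, polar_sub_right, polar_smul_right, polar_smul_right, polar_self, hQx, hxy]
        simp
      · rw [polar_sub_right, polar_sub_right, polar_smul_right, polar_smul_right, polar_self, hQy, polar_comm Q y x, hxy]
        simp
    have h1 := hv ⟨_, hu'⟩
    simp only at h1
    rw [polar_sub_right, polar_sub_right, polar_smul_right, polar_smul_right, polar_comm Q v x, polar_comm Q v y,
      hv1, hv2] at h1
    simpa using h1
  constructor
  · intro v hv
    apply hleft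
    intro w
    have := hv w
    rwa [polarBilin_apply_apply, polar_comp_subtype] at this
  · intro v hv
    apply hleft
    intro w
    have := hv w
    rwa [polarBilin_apply_apply, polar_comp_subtype, polar_comm] at this

end Cfsg.Agent.Lib.Helper15
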