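import Mathlib
import Cfsg.Agent.Lib.Helper15.Witt2

set_option autoImplicit false

namespace Cfsg.Agent.Lib.Helper15

open Module QuadraticMap

variable {F : Type*} [Field F]

theorem exists_quad_eq_one {V : Type*} [AddCommGroup V] [Module F V] [Finite F] [FiniteDimensional F V]
    (Q : QuadraticForm F V) (h2 : finrank F V = 2)
    (haniso : ∀ v, Q v = 0 → v = 0) : ∃ x, Q x = 1 := by
  let Q' : QuadraticForm F (V × F) := Q.prod ((-1 : F) • (QuadraticMap.sq : QuadraticForm F F))
  have hQ' : ∀ p : V × F, Q' p = Q p.1 - p.2 * p.2 := by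
    intro p
    simp only [Q', QuadraticMap.prod_apply, _root_.smul_apply, QuadraticMap.sq_apply, smul_eq_mul]
    ring
  have h3 : 3 ≤ finrank F (V × F) := by
    rw [Module.finrank_prod, h2, Module.finrank_self]
  obtain ⟨⟨v, c⟩, hne, hq⟩ := exists_singular_of_three_le_finrank Q' h3
  rw [hQ'] at hq
  simp only at hq
  have hc : c ≠ 0 := by
    intro hc
    apply hne
    rw [hc, mul_zero, sub_zero] at hq
    rw [haniso v hq, hc]
    rfl
  refine ⟨c⁻¹ • v, ?_⟩
  rw [QuadraticMap.map_smul, smul_eq_mul]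
  have : Q v = c * c := sub_eq_zero.mp hq
  rw [this]
  field_simp

theorem exists_elliptic_pair {V : Type*} [AddCommGroup V] [Module F V] [Finite F] [FiniteDimensional F V]
    (Q : QuadraticForm F V) (hQ : (polarBilin Q).Nondegenerate) (h2 : finrank F V = 2)
    (haniso : ∀ v, Q v = 0 → v = 0) :
    ∃ (x y : V) (ζ : F), Q x = 1 ∧ polar Q x y = 1 ∧ Q y = ζ ∧ ∀ t : F, t ^ 2 + t + ζ ≠ 0 := by
  obtain ⟨x, hx⟩ := exists_quad_eq_one Q h2 haniso
  have hx0 : x ≠ 0 := by
    intro h
    rw [h, QuadraticMap.map_zero] at hx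
    exact zero_ne_one hx
  -- a vector outside the span of `x`
  have hlt : Submodule.span F {x} < ⊤ := by
    rw [lt_top_iff_ne_top]
    intro h
    have := finrank_span_singleton (K := F) hx0
    rw [h, finrank_top, h2] at this
    omega
  obtain ⟨u, -, hu⟩ := SetLike.exists_of_lt hlt
  -- a vector with `polar x y₁ = 1`
  obtain ⟨y₀, hy₀⟩ : ∃ y₀, polar Q x y₀ ≠ 0 := by
    by_contra hcon
    push Not at hcon
    exact hx0 (hQ.1 x hcon)
  obtain ⟨y₁, h1⟩ : ∃ y₁, polar Q x y₁ = 1 :=
    ⟨(polar Q x y₀)⁻¹ • y₀, by rw [polar_smul_right, smul_eq_mul, inv_mul_cancel₀ hy₀]⟩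
  obtain ⟨y, hy1, hyx⟩ : ∃ y, polar Q x y = 1 ∧ y ∉ Submodule.span F {x} := by
    by_cases hmem : y₁ ∈ Submodule.span F {x}
    · refine ⟨(1 - polar Q x u) • y₁ + u, ?_, ?_⟩
      · rw [polar_add_right, polar_smul_right, h1]
        simp
      · intro h
        apply hu
        have := Submodule.sub_mem _ h (Submodule.smul_mem _ (1 - polar Q x u) hmem)
        simpa using this
    · exact ⟨y₁, h1, hmem⟩
  refine ⟨x, y, Q y, hx, hy1, rfl, ?_⟩
  intro t ht
  have h3 : Q (t • x + y) = t ^ 2 + t + Q y := by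
    rw [quad_add, QuadraticMap.map_smul, polar_smul_left, hx, hy1]
    simp only [smul_eq_mul]
    ring
  rw [ht] at h3
  have h4 := haniso _ h3
  apply hyx
  have : y = (-t) • x := by
    rw [neg_smul]
    exact eq_neg_of_add_eq_zero_right h4
  rw [this]
  exact Submodule.smul_mem _ _ (Submodule.mem_span_singleton_self x)

end Cfsg.Agent.Lib.Helper15
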