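import Mathlib
import Cfsg.Agent.Lib.Helper15.Witt3

set_option autoImplicit false

namespace Cfsg.Agent.Lib.Helper15

open Module QuadraticMap

universe u v

variable {F : Type v} [Field F]

/-- hyperbolic relations for a family of pairs -/
def IsHypFamily {V : Type*} [AddCommGroup V] [Module F V] (Q : QuadraticForm F V) {k : ℕ} (e f : Fin k → V) : Prop :=
  (∀ i, Q (e i) = 0) ∧ (∀ i, Q (f i) = 0) ∧ (∀ i j, polar Q (e i) (f j) = if i = j then 1 else 0) ∧
    (∀ i j, polar Q (e i) (e j) = 0) ∧ (∀ i j, polar Q (f i) (f j) = 0)

/-- The Witt decomposition over a finite field. -/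
theorem witt_main [Finite F] (d : ℕ) : ∀ {V : Type u} [AddCommGroup V] [Module F V] [FiniteDimensional F V]
    (Q : QuadraticForm F V), (polarBilin Q).Nondegenerate → finrank F V = d →
    ∃ (k : ℕ) (e f : Fin k → V), IsHypFamily Q e f ∧
      (d = 2 * k ∨
       (d = 2 * k + 1 ∧ ∃ z, Q z ≠ 0 ∧ ∀ i, polar Q z (e i) = 0 ∧ polar Q z (f i) = 0) ∨
       (d = 2 * k + 2 ∧ ∃ (x y : V) (ζ : F), Q x = 1 ∧ polar Q x y = 1 ∧ Q y = ζ ∧ (∀ t : F, t ^ 2 + t + ζ ≠ 0) ∧
          ∀ i, polar Q x (e i) = 0 ∧ polar Q x (f i) = 0 ∧ polar Q y (e i) = 0 ∧ polar Q y (f i) = 0)) := by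
  induction d using Nat.strong_induction_on with
  | _ d ih =>
    intro V _ _ _ Q hQ hd
    by_cases hsing : ∃ x : V, x ≠ 0 ∧ Q x = 0
    · obtain ⟨x, hx0, hQx⟩ := hsing
      obtain ⟨y, hQy, hxy⟩ := exists_hyperbolic_partner Q hQ x hx0 hQx
      have hfr := finrank_perpPair Q x y hQy hQx hxy
      have hnd := nondegenerate_perpPair Q hQ x y hQy hQx hxy
      obtain ⟨k, e, f, ⟨he, hf, hef, hee, hff⟩, hcase⟩ := ih (d - 2) (by omega) (Q.comp (perpPair Q x y).subtype) hnd (by omega)
      have hperp : ∀ w : perpPair Q x y, polar Q x (w : V) = 0 ∧ polar Q y (w : V) = 0 := fun w =>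
        (mem_perpPair Q x y w).mp w.2
      refine ⟨k + 1, Fin.cons x (fun i => (e i : V)), Fin.cons y (fun i => (f i : V)), ⟨?_, ?_, ?_, ?_, ?_⟩, ?_⟩
      · intro i
        refine Fin.cases ?_ (fun i => ?_) i
        · simpa using hQx
        · simpa using he i
      · intro i
        refine Fin.cases ?_ (fun i => ?_) i
        · simpa using hQy
        · simpa using hf i
      · intro i j
        refine Fin.cases ?_ (fun i => ?_) i <;> refine Fin.cases ?_ (fun j => ?_) j
        · simpa using hxy
        · simp only [Fin.cons_zero, Fin.cons_succ]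
          rw [(hperp (f j)).1, if_neg (Fin.succ_ne_zero j).symm]
        · simp only [Fin.cons_zero, Fin.cons_succ]
          rw [polar_comm, (hperp (e i)).2, if_neg (Fin.succ_ne_zero i)]
        · simp only [Fin.cons_succ]
          have := hef i j
          rw [polar_comp_subtype] at this
          rw [this]
          simp only [Fin.succ_inj]
      · intro i j
        refine Fin.cases ?_ (fun i => ?_) i <;> refine Fin.cases ?_ (fun j => ?_) j
        · simp only [Fin.cons_zero]
          rw [polar_self, hQx, smul_zero]
        · simp only [Fin.cons_zero, Fin.cons_succ]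
          exact (hperp (e j)).1
        · simp only [Fin.cons_zero, Fin.cons_succ]
          rw [polar_comm]
          exact (hperp (e i)).1
        · simp only [Fin.cons_succ]
          have := hee i j
          rwa [polar_comp_subtype] at this
      · intro i j
        refine Fin.cases ?_ (fun i => ?_) i <;> refine Fin.cases ?_ (fun j => ?_) j
        · simp only [Fin.cons_zero]
          rw [polar_self, hQy, smul_zero]
        · simp only [Fin.cons_zero, Fin.cons_succ]
          exact (hperp (f j)).2
        · simp only [Fin.cons_zero, Fin.cons_succ]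
          rw [polar_comm]
          exact (hperp (f i)).2
        · simp only [Fin.cons_succ]
          have := hff i j
          rwa [polar_comp_subtype] at this
      · rcases hcase with h | ⟨h, z, hz, hzef⟩ | ⟨h, x', y', ζ, hx', hxy', hy', hirr, hxyef⟩
        · left; omega
        · right; left
          refine ⟨by omega, (z : V), hz, ?_⟩
          intro i
          refine Fin.cases ?_ (fun i => ?_) i
          · simp only [Fin.cons_zero]
            rw [polar_comm, (hperp z).1, polar_comm, (hperp z).2]
            exact ⟨rfl, rfl⟩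
          · simp only [Fin.cons_succ]
            have h1 := (hzef i).1
            have h2 := (hzef i).2
            rw [polar_comp_subtype] at h1 h2
            exact ⟨h1, h2⟩
        · right; right
          refine ⟨by omega, (x' : V), (y' : V), ζ, hx', ?_, hy', hirr, ?_⟩
          · rwa [polar_comp_subtype] at hxy'
          · intro i
            refine Fin.cases ?_ (fun i => ?_) i
            · simp only [Fin.cons_zero]
              rw [polar_comm, (hperp x').1, polar_comm, (hperp x').2, polar_comm, (hperp y').1, polar_comm, (hperp y').2]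
              exact ⟨rfl, rfl, rfl, rfl⟩
            · simp only [Fin.cons_succ]
              obtain ⟨h1, h2, h3, h4⟩ := hxyef i
              rw [polar_comp_subtype] at h1 h2 h3 h4
              exact ⟨h1, h2, h3, h4⟩
    · have haniso : ∀ v, Q v = 0 → v = 0 := by
        intro v hv
        by_contra hne
        exact hsing ⟨v, hne, hv⟩
      have hd2 : d ≤ 2 := by
        by_contra hlt
        push Not at hlt
        exact hsing (exists_singular_of_three_le_finrank Q (by omega))
      refine ⟨0, Fin.elim0, Fin.elim0, ⟨fun i => i.elim0, fun i => i.elim0, fun i => i.elim0, fun i => i.elim0,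
        fun i => i.elim0⟩, ?_⟩
      interval_cases d
      · left; rfl
      · right; left
        refine ⟨rfl, ?_⟩
        have : 0 < finrank F V := by omega
        obtain ⟨z, hz⟩ := (Module.finrank_pos_iff_exists_ne_zero (R := F)).mp this
        exact ⟨z, fun h => hz (haniso z h), fun i => i.elim0⟩
      · right; right
        refine ⟨rfl, ?_⟩
        obtain ⟨x, y, ζ, h1, h2, h3, h4⟩ := exists_elliptic_pair Q hQ hd haniso
        exact ⟨x, y, ζ, h1, h2, h3, h4, fun i => i.elim0⟩

end Cfsg.Agent.Lib.Helper15
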