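import Mathlib
import Cfsg.Agent.Lib.Helper15.Witt4

set_option autoImplicit false

namespace Cfsg.Agent.Lib.Helper15

open Module QuadraticMap

variable {F : Type*} [Field F] {V : Type*} [AddCommGroup V] [Module F V]

theorem hyp_coeff (Q : QuadraticForm F V) {k : ℕ} (e f : Fin k → V) (h : IsHypFamily Q e f)
    (a b : Fin k → F) (w : V) (hw : ∀ i, polar Q w (e i) = 0 ∧ polar Q w (f i) = 0)
    (hsum : ∑ i, a i • e i + ∑ i, b i • f i + w = 0) : (∀ i, a i = 0) ∧ (∀ i, b i = 0) ∧ w = 0 := by
  classical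
  obtain ⟨he, hf, hef, hee, hff⟩ := h
  have ha : ∀ j, a j = 0 := by
    intro j
    have := congrArg ((polarBilin Q).flip (f j)) hsum
    simp only [map_add, map_sum, map_smul, LinearMap.flip_apply, polarBilin_apply_apply, hef, hff, (hw j).2,
      smul_eq_mul, mul_zero, Finset.sum_const_zero, add_zero, map_zero, mul_ite, mul_one,
      Finset.sum_ite_eq', Finset.mem_univ, if_true] at this
    exact this
  have hb : ∀ j, b j = 0 := by
    intro j
    have := congrArg ((polarBilin Q).flip (e j)) hsum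
    have hfe : ∀ i, polar Q (f i) (e j) = if i = j then 1 else 0 := by
      intro i
      rw [polar_comm, hef]
      simp only [eq_comm]
    simp only [map_add, map_sum, map_smul, LinearMap.flip_apply, polarBilin_apply_apply, hfe, hee, (hw j).1,
      smul_eq_mul, mul_zero, Finset.sum_const_zero, add_zero, zero_add, map_zero, mul_ite, mul_one,
      Finset.sum_ite_eq', Finset.mem_univ, if_true] at this
    exact this
  refine ⟨ha, hb, ?_⟩
  simpa [ha, hb] using hsum




theorem hyp_basis (Q : QuadraticForm F V) {k : ℕ} (hk : 0 < k) (e f : Fin k → V) (h : IsHypFamily Q e f)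
    (hd : finrank F V = 2 * k) :
    ∃ b : Module.Basis (Fin k ⊕ Fin k) F V, (∀ i, b (Sum.inl i) = e i) ∧ (∀ i, b (Sum.inr i) = f i) := by
  classical
  have hli : LinearIndependent F (Sum.elim e f) := by
    rw [Fintype.linearIndependent_iff]
    intro g hg
    rw [Fintype.sum_sum_type] at hg
    simp only [Sum.elim_inl, Sum.elim_inr] at hg
    obtain ⟨ha, hb, -⟩ := hyp_coeff Q e f h (fun i => g (Sum.inl i)) (fun i => g (Sum.inr i)) 0
      (fun i => by simp) (by rw [add_zero]; exact hg)
    rintro (i | i)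
    · exact ha i
    · exact hb i
  have hcard : Fintype.card (Fin k ⊕ Fin k) = finrank F V := by
    rw [hd]; simp; ring
  have : Nonempty (Fin k ⊕ Fin k) := ⟨Sum.inl ⟨0, hk⟩⟩
  refine ⟨basisOfLinearIndependentOfCardEqFinrank hli hcard, ?_, ?_⟩
  · intro i
    rw [coe_basisOfLinearIndependentOfCardEqFinrank]; rfl
  · intro i
    rw [coe_basisOfLinearIndependentOfCardEqFinrank]; rfl

theorem odd_basis (Q : QuadraticForm F V) {k : ℕ} (e f : Fin k → V) (h : IsHypFamily Q e f)
    (hd : finrank F V = 2 * k + 1) (z : V) (hz : Q z ≠ 0)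
    (hzef : ∀ i, polar Q z (e i) = 0 ∧ polar Q z (f i) = 0) :
    ∃ b : Module.Basis (Unit ⊕ (Fin k ⊕ Fin k)) F V, b (Sum.inl ()) = z ∧ (∀ i, b (Sum.inr (Sum.inl i)) = e i) ∧
      (∀ i, b (Sum.inr (Sum.inr i)) = f i) := by
  classical
  have hz0 : z ≠ 0 := by
    intro h0
    rw [h0, QuadraticMap.map_zero] at hz
    exact hz rfl
  have hli : LinearIndependent F (Sum.elim (fun _ : Unit => z) (Sum.elim e f)) := by
    rw [Fintype.linearIndependent_iff]
    intro g hg
    rw [Fintype.sum_sum_type, Fintype.sum_sum_type] at hg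
    simp only [Sum.elim_inl, Sum.elim_inr, Finset.univ_unique, Finset.sum_singleton] at hg
    obtain ⟨ha, hb, hw⟩ := hyp_coeff Q e f h (fun i => g (Sum.inr (Sum.inl i))) (fun i => g (Sum.inr (Sum.inr i)))
      (g (Sum.inl ()) • z)
      (fun i => by rw [polar_smul_left, polar_smul_left, (hzef i).1, (hzef i).2]; simp)
      (by rw [add_comm]; exact hg)
    rintro (i | i | i)
    · exact (smul_eq_zero.mp hw).resolve_right hz0
    · exact ha i
    · exact hb i
  have hcard : Fintype.card (Unit ⊕ (Fin k ⊕ Fin k)) = finrank F V := by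
    rw [hd]; simp; ring
  refine ⟨basisOfLinearIndependentOfCardEqFinrank hli hcard, ?_, ?_, ?_⟩
  · rw [coe_basisOfLinearIndependentOfCardEqFinrank]; rfl
  · intro i
    rw [coe_basisOfLinearIndependentOfCardEqFinrank]; rfl
  · intro i
    rw [coe_basisOfLinearIndependentOfCardEqFinrank]; rfl

theorem ell_basis (Q : QuadraticForm F V) {k : ℕ} (e f : Fin k → V) (h : IsHypFamily Q e f)
    (hd : finrank F V = 2 * k + 2) (x y : V) (ζ : F) (hx : Q x = 1) (hxy : polar Q x y = 1) (hy : Q y = ζ)
    (hirr : ∀ t : F, t ^ 2 + t + ζ ≠ 0)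
    (hxyef : ∀ i, polar Q x (e i) = 0 ∧ polar Q x (f i) = 0 ∧ polar Q y (e i) = 0 ∧ polar Q y (f i) = 0) :
    ∃ b : Module.Basis ((Fin k ⊕ Fin k) ⊕ Fin 2) F V, (∀ i, b (Sum.inl (Sum.inl i)) = e i) ∧
      (∀ i, b (Sum.inl (Sum.inr i)) = f i) ∧ b (Sum.inr 0) = x ∧ b (Sum.inr 1) = y := by
  classical
  have hli : LinearIndependent F (Sum.elim (Sum.elim e f) ![x, y]) := by
    rw [Fintype.linearIndependent_iff]
    intro g hg
    rw [Fintype.sum_sum_type, Fintype.sum_sum_type, Fin.sum_univ_two] at hg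
    simp only [Sum.elim_inl, Sum.elim_inr, Matrix.cons_val_zero, Matrix.cons_val_one] at hg
    obtain ⟨ha, hb, hw⟩ := hyp_coeff Q e f h (fun i => g (Sum.inl (Sum.inl i))) (fun i => g (Sum.inl (Sum.inr i)))
      (g (Sum.inr 0) • x + g (Sum.inr 1) • y)
      (fun i => by
        obtain ⟨h1, h2, h3, h4⟩ := hxyef i
        rw [polar_add_left, polar_add_left, polar_smul_left, polar_smul_left, polar_smul_left, polar_smul_left,
          h1, h2, h3, h4]
        simp)
      hg
    have hq : g (Sum.inr 0) ^ 2 + g (Sum.inr 0) * g (Sum.inr 1) + ζ * g (Sum.inr 1) ^ 2 = 0 := by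
      have := congrArg Q hw
      rw [quad_add, QuadraticMap.map_smul, QuadraticMap.map_smul, polar_smul_left, polar_smul_right, hx, hy, hxy,
        QuadraticMap.map_zero] at this
      simp only [smul_eq_mul] at this
      linear_combination this
    have hb0 : g (Sum.inr 1) = 0 := by
      by_contra hne
      apply hirr (g (Sum.inr 0) / g (Sum.inr 1))
      field_simp
      linear_combination hq
    have ha0 : g (Sum.inr 0) = 0 := by
      rw [hb0] at hq
      simpa using hq
    rintro ((i | i) | i)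
    · exact ha i
    · exact hb i
    · fin_cases i
      · exact ha0
      · exact hb0
  have hcard : Fintype.card ((Fin k ⊕ Fin k) ⊕ Fin 2) = finrank F V := by
    rw [hd]; simp; ring
  refine ⟨basisOfLinearIndependentOfCardEqFinrank hli hcard, ?_, ?_, ?_, ?_⟩
  · intro i
    rw [coe_basisOfLinearIndependentOfCardEqFinrank]; rfl
  · intro i
    rw [coe_basisOfLinearIndependentOfCardEqFinrank]; rfl
  · rw [coe_basisOfLinearIndependentOfCardEqFinrank]; rfl
  · rw [coe_basisOfLinearIndependentOfCardEqFinrank]; rfl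

end Cfsg.Agent.Lib.Helper15
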