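import Mathlib
import Cfsg.Agent.Lib.Helper15.Witt5
import Cfsg.Prelude.Def_Classical

set_option autoImplicit false

namespace Cfsg.Agent.Lib.Helper15

open Module QuadraticMap

variable {F : Type*} [Field F] {V : Type*} [AddCommGroup V] [Module F V]

theorem polar_sum_left (Q : QuadraticForm F V) {ι : Type*} (s : Finset ι) (a : ι → F) (e : ι → V) (y : V) :
    polar Q (∑ i ∈ s, a i • e i) y = ∑ i ∈ s, a i * polar Q (e i) y := by
  have := map_sum ((polarBilin Q).flip y) (fun i => a i • e i) s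
  simp only [LinearMap.flip_apply, polarBilin_apply_apply, map_smul, smul_eq_mul] at this
  simpa only [polar_smul_left, smul_eq_mul] using this

theorem polar_sum_right (Q : QuadraticForm F V) {ι : Type*} (s : Finset ι) (a : ι → F) (e : ι → V) (y : V) :
    polar Q y (∑ i ∈ s, a i • e i) = ∑ i ∈ s, a i * polar Q y (e i) := by
  rw [polar_comm, polar_sum_left]
  refine Finset.sum_congr rfl fun i _ => ?_
  rw [polar_comm]

/-- a quadratic form vanishes on the span of a totally singular family -/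
theorem quad_sum_singular (Q : QuadraticForm F V) {ι : Type*} [DecidableEq ι] (s : Finset ι) (a : ι → F) (e : ι → V)
    (he : ∀ i, Q (e i) = 0) (hee : ∀ i j, polar Q (e i) (e j) = 0) : Q (∑ i ∈ s, a i • e i) = 0 := by
  induction s using Finset.induction_on with
  | empty => simp
  | insert j s hj ih =>
    rw [Finset.sum_insert hj, quad_add, ih, QuadraticMap.map_smul, he, polar_sum_right]
    simp [polar_smul_left, hee]

theorem quad_hyp_expand (Q : QuadraticForm F V) {k : ℕ} (e f : Fin k → V) (h : IsHypFamily Q e f) (a b : Fin k → F) :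
    Q (∑ i, a i • e i + ∑ i, b i • f i) = ∑ i, a i * b i := by
  classical
  obtain ⟨he, hf, hef, hee, hff⟩ := h
  rw [quad_add, quad_sum_singular Q _ a e he hee, quad_sum_singular Q _ b f hf hff, polar_sum_left]
  simp only [polar_sum_right, hef, mul_ite, mul_one, mul_zero, Finset.sum_ite_eq, Finset.mem_univ, if_true, zero_add]


theorem quad_eq_plus_of_basis (Q : QuadraticForm F V) {k : ℕ} (b : Module.Basis (Fin k ⊕ Fin k) F V)
    (h : IsHypFamily Q (fun i => b (Sum.inl i)) (fun i => b (Sum.inr i))) (v : V) :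
    Q v = Cfsg.quadFormPlus k F (b.equivFun v) := by
  conv_lhs => rw [← b.sum_equivFun v, Fintype.sum_sum_type]
  rw [quad_hyp_expand Q _ _ h]
  rfl

theorem quad_eq_minus_of_basis (Q : QuadraticForm F V) {k : ℕ} (b : Module.Basis ((Fin k ⊕ Fin k) ⊕ Fin 2) F V)
    (h : IsHypFamily Q (fun i => b (Sum.inl (Sum.inl i))) (fun i => b (Sum.inl (Sum.inr i)))) (ζ : F)
    (hx : Q (b (Sum.inr 0)) = 1) (hxy : polar Q (b (Sum.inr 0)) (b (Sum.inr 1)) = 1) (hy : Q (b (Sum.inr 1)) = ζ)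
    (horth : ∀ i, polar Q (b (Sum.inr 0)) (b (Sum.inl (Sum.inl i))) = 0 ∧ polar Q (b (Sum.inr 0)) (b (Sum.inl (Sum.inr i))) = 0 ∧
      polar Q (b (Sum.inr 1)) (b (Sum.inl (Sum.inl i))) = 0 ∧ polar Q (b (Sum.inr 1)) (b (Sum.inl (Sum.inr i))) = 0)
    (v : V) :
    Q v = Cfsg.quadFormMinus k F 1 ζ (b.equivFun v) := by
  conv_lhs => rw [← b.sum_equivFun v, Fintype.sum_sum_type, Fintype.sum_sum_type, Fin.sum_univ_two]
  rw [quad_add, quad_hyp_expand Q _ _ h, quad_add, QuadraticMap.map_smul, QuadraticMap.map_smul, hx, hy,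
    polar_smul_left, polar_smul_right, hxy, polar_comm, polar_add_right, polar_sum_right, polar_sum_right]
  have h0 : ∀ (c : (Fin k ⊕ Fin k) ⊕ Fin 2 → F),
      ∑ i, c (Sum.inl (Sum.inl i)) * polar Q (c (Sum.inr 0) • b (Sum.inr 0) + c (Sum.inr 1) • b (Sum.inr 1)) (b (Sum.inl (Sum.inl i))) = 0 := by
    intro c
    apply Finset.sum_eq_zero
    intro i _
    obtain ⟨h1, h2, h3, h4⟩ := horth i
    rw [polar_add_left, polar_smul_left, polar_smul_left, h1, h3]
    simp
  have h0' : ∀ (c : (Fin k ⊕ Fin k) ⊕ Fin 2 → F),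
      ∑ i, c (Sum.inl (Sum.inr i)) * polar Q (c (Sum.inr 0) • b (Sum.inr 0) + c (Sum.inr 1) • b (Sum.inr 1)) (b (Sum.inl (Sum.inr i))) = 0 := by
    intro c
    apply Finset.sum_eq_zero
    intro i _
    obtain ⟨h1, h2, h3, h4⟩ := horth i
    rw [polar_add_left, polar_smul_left, polar_smul_left, h2, h4]
    simp
  rw [h0, h0']
  unfold Cfsg.quadFormMinus
  simp only [smul_eq_mul]
  ring

/-- classification of nondegenerate quadratic forms in even dimension over a finite field -/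
theorem classify_even [Finite F] [FiniteDimensional F V] (Q : QuadraticForm F V) (hQ : (polarBilin Q).Nondegenerate)
    (m : ℕ) (hm : 1 ≤ m) (hV : finrank F V = 2 * m) :
    (∃ g : V ≃ₗ[F] (Fin m ⊕ Fin m → F), ∀ v, Q v = Cfsg.quadFormPlus m F (g v)) ∨
    (∃ ζ : F, (∀ t : F, t ^ 2 + t + ζ ≠ 0) ∧ ∃ g : V ≃ₗ[F] ((Fin (m - 1) ⊕ Fin (m - 1)) ⊕ Fin 2 → F),
      ∀ v, Q v = Cfsg.quadFormMinus (m - 1) F 1 ζ (g v)) := by
  obtain ⟨k, e, f, hyp, hcase⟩ := witt_main (2 * m) Q hQ hV
  rcases hcase with h | ⟨h, -⟩ | ⟨h, x, y, ζ, hx, hxy, hy, hirr, hxyef⟩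
  · left
    obtain rfl : k = m := by omega
    obtain ⟨b, hbe, hbf⟩ := hyp_basis Q (by omega) e f hyp hV
    refine ⟨b.equivFun, quad_eq_plus_of_basis Q b ?_⟩
    simp only [hbe, hbf]
    exact hyp
  · omega
  · right
    obtain rfl : k = m - 1 := by omega
    obtain ⟨b, hbe, hbf, hbx, hby⟩ := ell_basis Q e f hyp (by omega) x y ζ hx hxy hy hirr hxyef
    refine ⟨ζ, hirr, b.equivFun, quad_eq_minus_of_basis Q b ?_ ζ ?_ ?_ ?_ ?_⟩
    · simp only [hbe, hbf]
      exact hyp
    · rw [hbx]; exact hx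
    · rw [hbx, hby]; exact hxy
    · rw [hby]; exact hy
    · intro i
      rw [hbx, hby, hbe, hbf]
      exact hxyef i

end Cfsg.Agent.Lib.Helper15
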