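import Mathlib
import Cfsg.Prelude.Def_Classical
import Cfsg.Agent.Lib.Helper15.QuadF2b
set_option autoImplicit false
namespace Cfsg.Agent.Lib.Helper15

open Matrix Module

section concrete
variable {F : Type*} [Field F] [Fintype F] [DecidableEq F] {ι : Type*} [Fintype ι] [DecidableEq ι]

/-- fibres of the dot product with a nonzero vector -/
theorem card_dot_eq (x : ι → F) (hx : x ≠ 0) (c : F) :
    Nat.card {y : ι → F // x ⬝ᵥ y = c} = Fintype.card F ^ (Fintype.card ι - 1) := by
  let φ : (ι → F) →ₗ[F] F :=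
    { toFun := fun y => x ⬝ᵥ y
      map_add' := dotProduct_add x
      map_smul' := fun a y => by simp }
  have hφ : φ ≠ 0 := by
    intro h0
    apply hx
    funext i
    have := LinearMap.congr_fun h0 (Pi.single i 1)
    simpa [φ] using this
  have := card_fiber_functional φ hφ c (Fintype.card ι) (by rw [Module.finrank_pi])
  rw [Nat.card_eq_fintype_card (α := F)] at this
  exact this

/-- number of pairs with given dot product -/
theorem card_hyp_value (c : F) :
    Nat.card {p : (ι → F) × (ι → F) // p.1 ⬝ᵥ p.2 = c} =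
      (Fintype.card F ^ Fintype.card ι - 1) * Fintype.card F ^ (Fintype.card ι - 1) +
        (if c = 0 then Fintype.card F ^ Fintype.card ι else 0) := by
  classical
  let E : {p : (ι → F) × (ι → F) // p.1 ⬝ᵥ p.2 = c} ≃ Σ x : ι → F, {y : ι → F // x ⬝ᵥ y = c} :=
    { toFun := fun p => ⟨p.1.1, p.1.2, p.2⟩
      invFun := fun s => ⟨(s.1, s.2.1), s.2.2⟩
      left_inv := fun p => rfl
      right_inv := fun s => rfl }
  rw [Nat.card_congr E, Nat.card_sigma, ← Finset.add_sum_erase _ _ (Finset.mem_univ (0 : ι → F))]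
  have h0 : Nat.card {y : ι → F // (0 : ι → F) ⬝ᵥ y = c} = if c = 0 then Fintype.card F ^ Fintype.card ι else 0 := by
    split_ifs with hc
    · subst hc
      simp only [zero_dotProduct]
      rw [Nat.card_eq_fintype_card, Fintype.card_subtype_true, Fintype.card_fun]
    · simp only [zero_dotProduct]
      rw [Nat.card_eq_zero]
      left
      exact ⟨fun y => hc y.2.symm⟩
  have h1 : ∀ x ∈ (Finset.univ : Finset (ι → F)).erase 0, Nat.card {y : ι → F // x ⬝ᵥ y = c} =
      Fintype.card F ^ (Fintype.card ι - 1) := by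
    intro x hx
    exact card_dot_eq x (Finset.ne_of_mem_erase hx) c
  rw [h0, Finset.sum_congr rfl h1, Finset.sum_const, Finset.card_erase_of_mem (Finset.mem_univ _), Finset.card_univ,
    Fintype.card_fun, smul_eq_mul, add_comm]

/-- adding hyperbolic planes to an arbitrary function -/
theorem card_sum_hyp {W : Type*} [Fintype W] (Q₀ : W → F) (c : F) :
    Nat.card {p : W × ((ι → F) × (ι → F)) // Q₀ p.1 + p.2.1 ⬝ᵥ p.2.2 = c} =
      Fintype.card F ^ Fintype.card ι * Nat.card {w : W // Q₀ w = c} +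
        (Fintype.card F ^ Fintype.card ι - 1) * Fintype.card F ^ (Fintype.card ι - 1) * Fintype.card W := by
  classical
  let E : {p : W × ((ι → F) × (ι → F)) // Q₀ p.1 + p.2.1 ⬝ᵥ p.2.2 = c} ≃
      Σ w : W, {p : (ι → F) × (ι → F) // p.1 ⬝ᵥ p.2 = c - Q₀ w} :=
    { toFun := fun p => ⟨p.1.1, p.1.2, eq_sub_of_add_eq' p.2⟩
      invFun := fun s => ⟨(s.1, s.2.1), by rw [s.2.2]; ring⟩
      left_inv := fun p => rfl
      right_inv := fun s => rfl }
  rw [Nat.card_congr E, Nat.card_sigma]
  simp only [card_hyp_value]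
  rw [Finset.sum_add_distrib, Finset.sum_const, Finset.card_univ, smul_eq_mul, add_comm, mul_comm (Fintype.card W)]
  congr 1
  rw [← Finset.sum_filter, Finset.sum_const, smul_eq_mul, mul_comm, Nat.card_eq_fintype_card, Fintype.card_subtype]
  congr 2
  apply Finset.filter_congr
  intro w _
  rw [sub_eq_zero, eq_comm]

end concrete



section std
variable {F : Type*} [Field F] [Fintype F] [DecidableEq F]

/-- value counts of the plus form -/
theorem card_plus_value (m : ℕ) (c : F) :
    Nat.card {v : Fin m ⊕ Fin m → F // Cfsg.quadFormPlus m F v = c} =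
      (Fintype.card F ^ m - 1) * Fintype.card F ^ (m - 1) + (if c = 0 then Fintype.card F ^ m else 0) := by
  have := card_hyp_value (F := F) (ι := Fin m) c
  rw [Fintype.card_fin] at this
  rw [← this]
  apply Nat.card_congr
  exact (Equiv.sumArrowEquivProdArrow (Fin m) (Fin m) F).subtypeEquiv (fun v => Iff.rfl)

/-- value counts of a form `Q₀ ⊥ hyperbolic` with the anisotropic part first -/
theorem card_odd_shape (m : ℕ) {κ : Type*} [Fintype κ] [DecidableEq κ] (Q₀ : (κ → F) → F) (c : F) :
    Nat.card {v : κ ⊕ (Fin m ⊕ Fin m) → F // Q₀ (fun i => v (Sum.inl i)) +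
        ∑ i : Fin m, v (Sum.inr (Sum.inl i)) * v (Sum.inr (Sum.inr i)) = c} =
      Fintype.card F ^ m * Nat.card {w : κ → F // Q₀ w = c} +
        (Fintype.card F ^ m - 1) * Fintype.card F ^ (m - 1) * Fintype.card F ^ Fintype.card κ := by
  have := card_sum_hyp (F := F) (ι := Fin m) Q₀ c
  rw [Fintype.card_fin, Fintype.card_fun] at this
  rw [← this]
  apply Nat.card_congr
  exact ((Equiv.sumArrowEquivProdArrow κ (Fin m ⊕ Fin m) F).trans
    (Equiv.prodCongr (Equiv.refl _) (Equiv.sumArrowEquivProdArrow (Fin m) (Fin m) F))).subtypeEquiv (fun v => Iff.rfl)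

/-- value counts of a form `hyperbolic ⊥ Q₀` with the anisotropic part last -/
theorem card_minus_shape (m : ℕ) {κ : Type*} [Fintype κ] [DecidableEq κ] (Q₀ : (κ → F) → F) (c : F) :
    Nat.card {v : (Fin m ⊕ Fin m) ⊕ κ → F // (∑ i : Fin m, v (Sum.inl (Sum.inl i)) * v (Sum.inl (Sum.inr i))) +
        Q₀ (fun i => v (Sum.inr i)) = c} =
      Fintype.card F ^ m * Nat.card {w : κ → F // Q₀ w = c} +
        (Fintype.card F ^ m - 1) * Fintype.card F ^ (m - 1) * Fintype.card F ^ Fintype.card κ := by
  have := card_sum_hyp (F := F) (ι := Fin m) Q₀ c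
  rw [Fintype.card_fin, Fintype.card_fun] at this
  rw [← this]
  apply Nat.card_congr
  exact ((Equiv.sumArrowEquivProdArrow (Fin m ⊕ Fin m) κ F).trans
    ((Equiv.prodComm _ _).trans
    (Equiv.prodCongr (Equiv.refl _) (Equiv.sumArrowEquivProdArrow (Fin m) (Fin m) F)))).subtypeEquiv
      (fun v => by
        show _ ↔ Q₀ (fun i => v (Sum.inr i)) + (fun i => v (Sum.inl (Sum.inl i))) ⬝ᵥ (fun i => v (Sum.inl (Sum.inr i))) = c
        rw [add_comm]; rfl)

end std
end Cfsg.Agent.Lib.Helper15
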