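import Mathlib
import Cfsg.Agent.Lib.Helper15.QuadCount1
import Cfsg.Agent.Lib.Helper15.QuadClassify
set_option autoImplicit false
namespace Cfsg.Agent.Lib.Helper15

open Matrix Module QuadraticMap

section decomp
variable {F V : Type*} [Field F] [AddCommGroup V] [Module F V] (Q : QuadraticForm F V)

/-- coordinates with respect to a hyperbolic family -/
def hypCoord {k : ℕ} (e f : Fin k → V) : V →ₗ[F] (Fin k → F) × (Fin k → F) where
  toFun x := (fun i => polar Q x (f i), fun i => polar Q x (e i))
  map_add' x y := by ext i <;> simp [polar_add_left]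
  map_smul' c x := by ext i <;> simp [polar_smul_left]

/-- orthogonal complement of a hyperbolic family -/
def hypPerp {k : ℕ} (e f : Fin k → V) : Submodule F V := LinearMap.ker (hypCoord Q e f)

theorem mem_hypPerp {k : ℕ} (e f : Fin k → V) (x : V) :
    x ∈ hypPerp Q e f ↔ ∀ i, polar Q x (e i) = 0 ∧ polar Q x (f i) = 0 := by
  unfold hypPerp hypCoord
  rw [LinearMap.mem_ker]
  simp only [LinearMap.coe_mk, AddHom.coe_mk, Prod.mk_eq_zero, funext_iff, Pi.zero_apply]
  constructor
  · rintro ⟨h1, h2⟩ i; exact ⟨h2 i, h1 i⟩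
  · intro h; exact ⟨fun i => (h i).2, fun i => (h i).1⟩

/-- the combination attached to coordinates -/
def hypComb {k : ℕ} (e f : Fin k → V) (a b : Fin k → F) : V := ∑ i, a i • e i + ∑ i, b i • f i

variable {Q}

theorem hypCoord_hypComb {k : ℕ} {e f : Fin k → V} (h : IsHypFamily Q e f) (a b : Fin k → F) :
    hypCoord Q e f (hypComb e f a b) = (a, b) := by
  obtain ⟨he, hf, hef, hee, hff⟩ := h
  apply Prod.ext
  · funext j
    show polar Q (hypComb e f a b) (f j) = a j
    unfold hypComb
    rw [polar_add_left, polar_sum_left, polar_sum_left]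
    simp only [hef, hff, mul_zero, Finset.sum_const_zero, add_zero, mul_ite, mul_one, Finset.sum_ite_eq',
      Finset.mem_univ, if_true]
  · funext j
    show polar Q (hypComb e f a b) (e j) = b j
    unfold hypComb
    rw [polar_add_left, polar_sum_left, polar_sum_left]
    have : ∀ i, polar Q (f i) (e j) = if i = j then 1 else 0 := by
      intro i
      rw [polar_comm, hef]
      by_cases hij : i = j
      · simp [hij]
      · simp [hij, Ne.symm hij]
    simp only [hee, this, mul_zero, Finset.sum_const_zero, zero_add, mul_ite, mul_one, Finset.sum_ite_eq',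
      Finset.mem_univ, if_true]

theorem hypCoord_surjective {k : ℕ} {e f : Fin k → V} (h : IsHypFamily Q e f) :
    Function.Surjective (hypCoord Q e f) := fun p => ⟨hypComb e f p.1 p.2, hypCoord_hypComb h p.1 p.2⟩

theorem finrank_hypPerp [FiniteDimensional F V] {k : ℕ} {e f : Fin k → V} (h : IsHypFamily Q e f) :
    finrank F (hypPerp Q e f) + 2 * k = finrank F V := by
  have h1 := LinearMap.finrank_range_add_finrank_ker (hypCoord Q e f)
  rw [LinearMap.range_eq_top.mpr (hypCoord_surjective h), finrank_top, Module.finrank_prod,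
    Module.finrank_pi, Fintype.card_fin] at h1
  unfold hypPerp
  omega

theorem sub_hypComb_mem {k : ℕ} {e f : Fin k → V} (h : IsHypFamily Q e f) (x : V) :
    x - hypComb e f (fun i => polar Q x (f i)) (fun i => polar Q x (e i)) ∈ hypPerp Q e f := by
  unfold hypPerp
  rw [LinearMap.mem_ker, map_sub, hypCoord_hypComb h]
  exact sub_self _

theorem polar_hypComb_right {k : ℕ} {e f : Fin k → V} (u : V) (hu : u ∈ hypPerp Q e f) (a b : Fin k → F) :
    polar Q u (hypComb e f a b) = 0 := by
  rw [mem_hypPerp] at hu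
  unfold hypComb
  rw [polar_add_right, polar_sum_right, polar_sum_right]
  simp only [(hu _).1, (hu _).2, mul_zero, Finset.sum_const_zero, add_zero]

theorem hypPerp_nondeg {k : ℕ} {e f : Fin k → V} (h : IsHypFamily Q e f)
    (hnd : ∀ x, (∀ y, polar Q x y = 0) → x = 0) (u : V) (hu : u ∈ hypPerp Q e f)
    (hu0 : ∀ y ∈ hypPerp Q e f, polar Q u y = 0) : u = 0 := by
  apply hnd
  intro y
  have h1 := hu0 _ (sub_hypComb_mem h y)
  rw [polar_sub_right, sub_eq_zero] at h1
  rw [h1, polar_hypComb_right u hu]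

theorem quad_add_hypComb {k : ℕ} {e f : Fin k → V} (h : IsHypFamily Q e f) (w : V) (hw : w ∈ hypPerp Q e f)
    (a b : Fin k → F) : Q (w + hypComb e f a b) = Q w + a ⬝ᵥ b := by
  rw [quad_add, polar_hypComb_right w hw, add_zero]
  unfold hypComb
  rw [quad_hyp_expand Q e f h]
  rfl

/-- orthogonal decomposition along a hyperbolic family -/
def hypDecomp {k : ℕ} {e f : Fin k → V} (h : IsHypFamily Q e f) :
    V ≃ hypPerp Q e f × ((Fin k → F) × (Fin k → F)) where
  toFun x := (⟨x - hypComb e f (fun i => polar Q x (f i)) (fun i => polar Q x (e i)), sub_hypComb_mem h x⟩,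
    hypCoord Q e f x)
  invFun p := p.1.1 + hypComb e f p.2.1 p.2.2
  left_inv x := by
    show x - hypComb e f _ _ + hypComb e f _ _ = x
    exact sub_add_cancel _ _
  right_inv p := by
    have h1 : hypCoord Q e f (p.1.1 + hypComb e f p.2.1 p.2.2) = p.2 := by
      rw [map_add, hypCoord_hypComb h]
      have : hypCoord Q e f p.1.1 = 0 := p.1.2
      rw [this, zero_add]
    apply Prod.ext
    · apply Subtype.ext
      show p.1.1 + hypComb e f p.2.1 p.2.2 - hypComb e f _ _ = p.1.1
      have h2 : (fun i => polar Q (p.1.1 + hypComb e f p.2.1 p.2.2) (f i)) = p.2.1 := congrArg Prod.fst h1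
      have h3 : (fun i => polar Q (p.1.1 + hypComb e f p.2.1 p.2.2) (e i)) = p.2.2 := congrArg Prod.snd h1
      rw [h2, h3, add_sub_cancel_right]
    · exact h1

theorem card_value_decomp [Fintype F] [Finite V] {k : ℕ} {e f : Fin k → V} (h : IsHypFamily Q e f) (c : F) :
    Nat.card {v : V // Q v = c} =
      Fintype.card F ^ k * Nat.card {w : hypPerp Q e f // Q w.1 = c} +
        (Fintype.card F ^ k - 1) * Fintype.card F ^ (k - 1) * Nat.card (hypPerp Q e f) := by
  classical
  have : Fintype (hypPerp Q e f) := Fintype.ofFinite _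
  have := card_sum_hyp (F := F) (ι := Fin k) (fun w : hypPerp Q e f => Q w.1) c
  rw [Fintype.card_fin] at this
  rw [Nat.card_eq_fintype_card (α := hypPerp Q e f), ← this]
  apply Nat.card_congr
  refine (hypDecomp h).subtypeEquiv (fun v => ?_)
  have h1 := quad_add_hypComb h ((hypDecomp h) v).1.1 ((hypDecomp h) v).1.2 ((hypDecomp h) v).2.1 ((hypDecomp h) v).2.2
  have h2 : ((hypDecomp h) v).1.1 + hypComb e f ((hypDecomp h) v).2.1 ((hypDecomp h) v).2.2 = v :=
    (hypDecomp h).left_inv v
  rw [h2] at h1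
  rw [h1]

end decomp



section pairs
variable {F V : Type*} [Field F] [AddCommGroup V] [Module F V] {Q : QuadraticForm F V}

theorem nondegenerate_hypPerp {k : ℕ} {e f : Fin k → V} (h : IsHypFamily Q e f)
    (hQ : (polarBilin Q).Nondegenerate) :
    (polarBilin (Q.comp (hypPerp Q e f).subtype)).Nondegenerate := by
  have hleft : ∀ v : hypPerp Q e f, (∀ w : hypPerp Q e f, polar Q (v : V) (w : V) = 0) → v = 0 := by
    intro v hv
    apply Subtype.ext
    exact hypPerp_nondeg h (fun x hx => hQ.1 x hx) v.1 v.2 (fun y hy => hv ⟨y, hy⟩)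
  constructor
  · intro v hv
    apply hleft
    intro w
    have := hv w
    rwa [polarBilin_apply_apply, polar_comp_subtype] at this
  · intro v hv
    apply hleft
    intro w
    have := hv w
    rwa [polarBilin_apply_apply, polar_comp_subtype, polar_comm] at this

theorem isHypFamily_pair (u v : V) (hu : Q u = 0) (hv : Q v = 0) (huv : polar Q u v = 1) :
    IsHypFamily Q (fun _ : Fin 1 => u) (fun _ : Fin 1 => v) := by
  refine ⟨fun _ => hu, fun _ => hv, fun i j => ?_, fun _ _ => ?_, fun _ _ => ?_⟩
  · rw [if_pos (Subsingleton.elim i j)]; exact huv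
  · rw [polar_self, hu, smul_zero]
  · rw [polar_self, hv, smul_zero]

/-- number of hyperbolic partners of a singular vector -/
theorem card_partners [Fintype F] [FiniteDimensional F V] (hQ : (polarBilin Q).Nondegenerate) (d : ℕ)
    (hd : finrank F V = d) (u : V) (hu0 : u ≠ 0) (hu : Q u = 0) :
    Nat.card {v : V // Q v = 0 ∧ polar Q u v = 1} = Fintype.card F ^ (d - 2) := by
  obtain ⟨v₀, hv₀, huv₀⟩ := exists_hyperbolic_partner Q hQ u hu0 hu
  have h := isHypFamily_pair u v₀ hu hv₀ huv₀
  have hfr := finrank_hypPerp h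
  have hcard : Nat.card (hypPerp Q (fun _ : Fin 1 => u) (fun _ : Fin 1 => v₀)) = Fintype.card F ^ (d - 2) := by
    rw [← Nat.card_eq_fintype_card, show d - 2 = finrank F (hypPerp Q (fun _ : Fin 1 => u) (fun _ : Fin 1 => v₀)) by omega]
    exact Module.natCard_eq_pow_finrank
  rw [← hcard]
  apply Nat.card_congr
  refine ⟨fun v => ((hypDecomp h) v.1).1, fun w => ⟨w.1 + hypComb (fun _ : Fin 1 => u) (fun _ : Fin 1 => v₀)
    (fun _ => - Q w.1) (fun _ => 1), ?_, ?_⟩, ?_, ?_⟩
  · rw [quad_add_hypComb h w.1 w.2]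
    simp [dotProduct]
  · have hw := (mem_hypPerp Q _ _ w.1).1 w.2 0
    rw [polar_add_right, polar_comm, hw.1, zero_add]
    unfold hypComb
    simp only [Finset.univ_unique, Finset.sum_singleton]
    rw [polar_add_right, polar_smul_right, polar_smul_right, polar_self, hu, huv₀]
    simp
  · intro v
    apply Subtype.ext
    show ((hypDecomp h) v.1).1.1 + hypComb _ _ (fun _ => - Q ((hypDecomp h) v.1).1.1) (fun _ => 1) = v.1
    have h1 : ((hypDecomp h) v.1).1.1 + hypComb _ _ ((hypDecomp h) v.1).2.1 ((hypDecomp h) v.1).2.2 = v.1 :=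
      (hypDecomp h).left_inv v.1
    have h2 := quad_add_hypComb h ((hypDecomp h) v.1).1.1 ((hypDecomp h) v.1).1.2 ((hypDecomp h) v.1).2.1 ((hypDecomp h) v.1).2.2
    rw [h1, v.2.1] at h2
    have hb : ((hypDecomp h) v.1).2.2 = fun _ => 1 := by
      funext i
      show polar Q v.1 u = 1
      rw [polar_comm]; exact v.2.2
    have ha : ((hypDecomp h) v.1).2.1 = fun _ => - Q ((hypDecomp h) v.1).1.1 := by
      funext i
      rw [hb] at h2
      simp only [dotProduct, Finset.univ_unique, Finset.sum_singleton, mul_one] at h2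
      have : i = default := Subsingleton.elim _ _
      rw [this]
      linear_combination -h2
    rw [← ha, ← hb]
    exact h1
  · intro w
    apply Subtype.ext
    have := (hypDecomp h).right_inv (w, ((fun _ => - Q w.1), (fun _ => 1)))
    exact congrArg (fun p => p.1.1) this

/-- number of hyperbolic pairs -/
theorem card_hyp_pairs_quad [Fintype F] [FiniteDimensional F V] (hQ : (polarBilin Q).Nondegenerate) (d : ℕ)
    (hd : finrank F V = d) :
    Nat.card {p : V × V // Q p.1 = 0 ∧ Q p.2 = 0 ∧ polar Q p.1 p.2 = 1} =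
      (Nat.card {v : V // Q v = 0} - 1) * Fintype.card F ^ (d - 2) := by
  classical
  have : Finite V := Module.finite_of_finite F
  have : Fintype V := Fintype.ofFinite _
  let E : {p : V × V // Q p.1 = 0 ∧ Q p.2 = 0 ∧ polar Q p.1 p.2 = 1} ≃
      Σ u : {u : V // Q u = 0 ∧ u ≠ 0}, {v : V // Q v = 0 ∧ polar Q u.1 v = 1} :=
    { toFun := fun p => ⟨⟨p.1.1, p.2.1, by
        intro h0
        have := p.2.2.2
        rw [h0, polar_zero_left] at this
        exact zero_ne_one this⟩, ⟨p.1.2, p.2.2.1, p.2.2.2⟩⟩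
      invFun := fun s => ⟨(s.1.1, s.2.1), s.1.2.1, s.2.2.1, s.2.2.2⟩
      left_inv := fun p => rfl
      right_inv := fun s => rfl }
  rw [Nat.card_congr E, Nat.card_sigma]
  simp only [fun u : {u : V // Q u = 0 ∧ u ≠ 0} => card_partners hQ d hd u.1 u.2.2 u.2.1]
  rw [Finset.sum_const, Finset.card_univ, smul_eq_mul]
  congr 1
  rw [Nat.card_eq_fintype_card, Fintype.card_subtype, Fintype.card_subtype]
  have : Finset.univ.filter (fun u : V => Q u = 0 ∧ u ≠ 0) = (Finset.univ.filter (fun u : V => Q u = 0)).erase 0 := by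
    ext u
    simp only [Finset.mem_filter, Finset.mem_univ, true_and, Finset.mem_erase]
    tauto
  rw [this, Finset.card_erase_of_mem (by simp)]

end pairs


section fam
variable {F V : Type*} [Field F] [AddCommGroup V] [Module F V] (Q : QuadraticForm F V)

/-- the type of hyperbolic families of size `k` -/
abbrev HypFam (k : ℕ) : Type _ := {p : (Fin k → V) × (Fin k → V) // IsHypFamily Q p.1 p.2}

variable {Q}

theorem IsHypFamily.fe {k : ℕ} {e f : Fin k → V} (h : IsHypFamily Q e f) (i j : Fin k) :
    polar Q (f i) (e j) = if i = j then 1 else 0 := by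
  rw [polar_comm, h.2.2.1]
  by_cases hij : i = j
  · simp [hij]
  · simp [hij, Ne.symm hij]

theorem isHypFamily_init {k : ℕ} {e f : Fin (k + 1) → V} (h : IsHypFamily Q e f) :
    IsHypFamily Q (Fin.init e) (Fin.init f) := by
  obtain ⟨he, hf, hef, hee, hff⟩ := h
  refine ⟨fun i => he _, fun i => hf _, fun i j => ?_, fun i j => hee _ _, fun i j => hff _ _⟩
  show polar Q (e i.castSucc) (f j.castSucc) = _
  rw [hef]
  simp [Fin.ext_iff]

/-- restriction of a family -/
def HypFam.init {k : ℕ} (x : HypFam Q (k + 1)) : HypFam Q k :=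
  ⟨(Fin.init x.1.1, Fin.init x.1.2), isHypFamily_init x.2⟩

theorem isHypFamily_snoc {k : ℕ} {e f : Fin k → V} (h : IsHypFamily Q e f) (u v : V)
    (hu : u ∈ hypPerp Q e f) (hv : v ∈ hypPerp Q e f) (hQu : Q u = 0) (hQv : Q v = 0) (huv : polar Q u v = 1) :
    IsHypFamily Q (Fin.snoc e u : Fin (k + 1) → V) (Fin.snoc f v : Fin (k + 1) → V) := by
  rw [mem_hypPerp] at hu hv
  obtain ⟨he, hf, hef, hee, hff⟩ := h
  refine ⟨fun i => ?_, fun i => ?_, fun i j => ?_, fun i j => ?_, fun i j => ?_⟩
  · induction i using Fin.lastCases with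
    | last => simp only [Fin.snoc_last]; exact hQu
    | cast i => simp only [Fin.snoc_castSucc]; exact he i
  · induction i using Fin.lastCases with
    | last => simp only [Fin.snoc_last]; exact hQv
    | cast i => simp only [Fin.snoc_castSucc]; exact hf i
  · induction i using Fin.lastCases with
    | last =>
      induction j using Fin.lastCases with
      | last => simp only [Fin.snoc_last]; rw [huv]; simp
      | cast j =>
        simp only [Fin.snoc_last, Fin.snoc_castSucc]
        rw [(hu j).2, if_neg]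
        exact (Fin.castSucc_lt_last j).ne'
    | cast i =>
      induction j using Fin.lastCases with
      | last =>
        simp only [Fin.snoc_last, Fin.snoc_castSucc]
        rw [polar_comm, (hv i).1, if_neg]
        exact (Fin.castSucc_lt_last i).ne
      | cast j =>
        simp only [Fin.snoc_castSucc]
        rw [hef]
        simp [Fin.ext_iff]
  · induction i using Fin.lastCases with
    | last =>
      induction j using Fin.lastCases with
      | last => simp only [Fin.snoc_last]; rw [polar_self, hQu, smul_zero]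
      | cast j => simp only [Fin.snoc_last, Fin.snoc_castSucc]; exact (hu j).1
    | cast i =>
      induction j using Fin.lastCases with
      | last => simp only [Fin.snoc_last, Fin.snoc_castSucc]; rw [polar_comm, (hu i).1]
      | cast j => simp only [Fin.snoc_castSucc]; exact hee i j
  · induction i using Fin.lastCases with
    | last =>
      induction j using Fin.lastCases with
      | last => simp only [Fin.snoc_last]; rw [polar_self, hQv, smul_zero]
      | cast j => simp only [Fin.snoc_last, Fin.snoc_castSucc]; exact (hv j).2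
    | cast i =>
      induction j using Fin.lastCases with
      | last => simp only [Fin.snoc_last, Fin.snoc_castSucc]; rw [polar_comm, (hv i).2]
      | cast j => simp only [Fin.snoc_castSucc]; exact hff i j

theorem last_mem_hypPerp_init {k : ℕ} {e f : Fin (k + 1) → V} (h : IsHypFamily Q e f) :
    e (Fin.last k) ∈ hypPerp Q (Fin.init e) (Fin.init f) ∧ f (Fin.last k) ∈ hypPerp Q (Fin.init e) (Fin.init f) := by
  have hfe := h.fe
  obtain ⟨he, hf, hef, hee, hff⟩ := h
  constructor
  · rw [mem_hypPerp]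
    intro i
    constructor
    · exact hee _ _
    · show polar Q _ (f i.castSucc) = 0
      rw [hef, if_neg]
      exact (Fin.castSucc_lt_last i).ne'
  · rw [mem_hypPerp]
    intro i
    constructor
    · show polar Q _ (e i.castSucc) = 0
      rw [hfe, if_neg]
      exact (Fin.castSucc_lt_last i).ne'
    · exact hff _ _

/-- fibre of the restriction map -/
noncomputable def hypFiberEquiv {k : ℕ} (p : HypFam Q k) :
    {x : HypFam Q (k + 1) // x.init = p} ≃
      {q : (hypPerp Q p.1.1 p.1.2) × (hypPerp Q p.1.1 p.1.2) //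
        (Q.comp (hypPerp Q p.1.1 p.1.2).subtype) q.1 = 0 ∧ (Q.comp (hypPerp Q p.1.1 p.1.2).subtype) q.2 = 0 ∧
          polar (Q.comp (hypPerp Q p.1.1 p.1.2).subtype) q.1 q.2 = 1} where
  toFun x := ⟨(⟨x.1.1.1 (Fin.last k), by
      have hp1 : Fin.init x.1.1.1 = p.1.1 := congrArg (fun z : HypFam Q k => z.1.1) x.2
      have hp2 : Fin.init x.1.1.2 = p.1.2 := congrArg (fun z : HypFam Q k => z.1.2) x.2
      rw [← hp1, ← hp2]
      exact (last_mem_hypPerp_init x.1.2).1⟩,
    ⟨x.1.1.2 (Fin.last k), by
      have hp1 : Fin.init x.1.1.1 = p.1.1 := congrArg (fun z : HypFam Q k => z.1.1) x.2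
      have hp2 : Fin.init x.1.1.2 = p.1.2 := congrArg (fun z : HypFam Q k => z.1.2) x.2
      rw [← hp1, ← hp2]
      exact (last_mem_hypPerp_init x.1.2).2⟩), by
      obtain ⟨he, hf, hef, hee, hff⟩ := x.1.2
      refine ⟨he _, hf _, ?_⟩
      rw [polar_comp_subtype]
      show polar Q (x.1.1.1 (Fin.last k)) (x.1.1.2 (Fin.last k)) = 1
      rw [hef]; simp⟩
  invFun q := ⟨⟨(Fin.snoc p.1.1 q.1.1.1, Fin.snoc p.1.2 q.1.2.1),
      isHypFamily_snoc p.2 _ _ q.1.1.2 q.1.2.2 q.2.1 q.2.2.1 (by
        have := q.2.2.2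
        rwa [polar_comp_subtype] at this)⟩, by
    apply Subtype.ext
    apply Prod.ext
    · show Fin.init (Fin.snoc p.1.1 q.1.1.1 : Fin (k + 1) → V) = p.1.1
      exact Fin.init_snoc _ _
    · show Fin.init (Fin.snoc p.1.2 q.1.2.1 : Fin (k + 1) → V) = p.1.2
      exact Fin.init_snoc _ _⟩
  left_inv x := by
    apply Subtype.ext
    apply Subtype.ext
    have hp1 : Fin.init x.1.1.1 = p.1.1 := congrArg (fun z : HypFam Q k => z.1.1) x.2
    have hp2 : Fin.init x.1.1.2 = p.1.2 := congrArg (fun z : HypFam Q k => z.1.2) x.2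
    apply Prod.ext
    · show Fin.snoc p.1.1 (x.1.1.1 (Fin.last k)) = x.1.1.1
      rw [← hp1]
      exact Fin.snoc_init_self _
    · show Fin.snoc p.1.2 (x.1.1.2 (Fin.last k)) = x.1.1.2
      rw [← hp2]
      exact Fin.snoc_init_self _
  right_inv q := by
    apply Subtype.ext
    apply Prod.ext
    · apply Subtype.ext
      show (Fin.snoc p.1.1 q.1.1.1 : Fin (k + 1) → V) (Fin.last k) = _
      exact Fin.snoc_last _ _
    · apply Subtype.ext
      show (Fin.snoc p.1.2 q.1.2.1 : Fin (k + 1) → V) (Fin.last k) = _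
      exact Fin.snoc_last _ _

end fam


section famcount

/-- value count of `hyp^j ⊥ T` where `T` has dimension `r` and value count `x` -/
def hypCount (q r x j : ℕ) : ℕ := q ^ j * x + (q ^ j - 1) * q ^ (j - 1) * q ^ r

theorem hypCount_add (q r x j k : ℕ) (hq : 1 ≤ q) :
    q ^ k * hypCount q r x j + (q ^ k - 1) * q ^ (k - 1) * q ^ (2 * j + r) = hypCount q r x (j + k) := by
  unfold hypCount
  rcases Nat.eq_zero_or_pos j with rfl | hj
  · simp
  rcases Nat.eq_zero_or_pos k with rfl | hk
  · simp
  obtain ⟨j', rfl⟩ : ∃ j', j = j' + 1 := ⟨j - 1, by omega⟩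
  obtain ⟨k', rfl⟩ : ∃ k', k = k' + 1 := ⟨k - 1, by omega⟩
  have h1 : 1 ≤ q ^ (j' + 1) := Nat.one_le_pow _ _ hq
  have h2 : 1 ≤ q ^ (k' + 1) := Nat.one_le_pow _ _ hq
  have h3 : 1 ≤ q ^ (j' + 1 + (k' + 1)) := Nat.one_le_pow _ _ hq
  have e1 : j' + 1 + (k' + 1) - 1 = j' + k' + 1 := by omega
  rw [Nat.add_sub_cancel, Nat.add_sub_cancel, e1]
  zify [h1, h2, h3]
  ring

variable {F V : Type*} [Field F] [Fintype F] [AddCommGroup V] [Module F V] [FiniteDimensional F V]
variable {Q : QuadraticForm F V}

theorem finite_hypFam (k : ℕ) : Finite (HypFam Q k) := by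
  have : Finite V := Module.finite_of_finite F
  unfold HypFam
  infer_instance

theorem card_value_hypPerp (m r : ℕ) (hd : finrank F V = 2 * m + r) (c : F) (x : ℕ)
    (hN : Nat.card {v : V // Q v = c} = hypCount (Fintype.card F) r x m) (k : ℕ) (hk : k ≤ m) (p : HypFam Q k) :
    Nat.card {w : hypPerp Q p.1.1 p.1.2 // Q w.1 = c} = hypCount (Fintype.card F) r x (m - k) := by
  have : Finite V := Module.finite_of_finite F
  have h1 := card_value_decomp p.2 c
  have hfr := finrank_hypPerp p.2
  have hcard : Nat.card (hypPerp Q p.1.1 p.1.2) = Fintype.card F ^ (2 * (m - k) + r) := by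
    rw [← Nat.card_eq_fintype_card, show 2 * (m - k) + r = finrank F (hypPerp Q p.1.1 p.1.2) by omega]
    exact Module.natCard_eq_pow_finrank
  have hq : 1 ≤ Fintype.card F := Fintype.card_pos
  have h3 := hypCount_add (Fintype.card F) r x (m - k) k hq
  rw [Nat.sub_add_cancel hk] at h3
  rw [hN, hcard, ← h3] at h1
  have h2 := Nat.add_right_cancel h1
  exact (Nat.eq_of_mul_eq_mul_left (Nat.pow_pos hq) h2).symm

theorem card_hypFam_succ (hQ : (polarBilin Q).Nondegenerate) (k d n₀ : ℕ) (hd : finrank F V = d)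
    (hN : ∀ p : HypFam Q k, Nat.card {w : hypPerp Q p.1.1 p.1.2 // Q w.1 = 0} = n₀) :
    Nat.card (HypFam Q (k + 1)) =
      Nat.card (HypFam Q k) * ((n₀ - 1) * Fintype.card F ^ (d - 2 * k - 2)) := by
  classical
  have := finite_hypFam (Q := Q) k
  have := finite_hypFam (Q := Q) (k + 1)
  have : Fintype (HypFam Q k) := Fintype.ofFinite _
  rw [Nat.card_congr (Equiv.sigmaFiberEquiv (HypFam.init (Q := Q) (k := k))).symm, Nat.card_sigma]
  have hfib : ∀ p : HypFam Q k, Nat.card {x : HypFam Q (k + 1) // x.init = p} =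
      (n₀ - 1) * Fintype.card F ^ (d - 2 * k - 2) := by
    intro p
    rw [Nat.card_congr (hypFiberEquiv p)]
    have hfr := finrank_hypPerp p.2
    rw [card_hyp_pairs_quad (nondegenerate_hypPerp p.2 hQ) (d - 2 * k) (by omega)]
    congr 2
    exact hN p
  simp only [hfib, Finset.sum_const, Finset.card_univ, smul_eq_mul]
  rw [Nat.card_eq_fintype_card (α := HypFam Q k)]

theorem card_hypFam (hQ : (polarBilin Q).Nondegenerate) (m r n₀ : ℕ) (hd : finrank F V = 2 * m + r)
    (hN : Nat.card {v : V // Q v = 0} = hypCount (Fintype.card F) r n₀ m) (k : ℕ) (hk : k ≤ m) :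
    Nat.card (HypFam Q k) =
      ∏ j ∈ Finset.range k, ((hypCount (Fintype.card F) r n₀ (m - j) - 1) * Fintype.card F ^ (2 * (m - j) + r - 2)) := by
  induction k with
  | zero =>
    rw [Finset.range_zero, Finset.prod_empty]
    have : Unique (HypFam Q (V := V) 0) :=
      { default := ⟨(Fin.elim0, Fin.elim0), ⟨fun i => i.elim0, fun i => i.elim0, fun i => i.elim0, fun i => i.elim0,
          fun i => i.elim0⟩⟩
        uniq := fun x => by
          apply Subtype.ext
          apply Prod.ext <;> funext i <;> exact i.elim0 }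
    exact Nat.card_unique
  | succ k ih =>
    rw [card_hypFam_succ hQ k (2 * m + r) (hypCount (Fintype.card F) r n₀ (m - k)) hd
      (fun p => card_value_hypPerp m r hd 0 n₀ hN k (by omega) p), ih (by omega), Finset.prod_range_succ]
    congr 3
    omega

end famcount
end Cfsg.Agent.Lib.Helper15
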