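import Mathlib
import Cfsg.Agent.Lib.Helper15.QuadCount2
set_option autoImplicit false
namespace Cfsg.Agent.Lib.Helper15

open Matrix Module QuadraticMap

section gen
variable {F : Type*} [Field F] (k : ℕ) {κ : Type} [Fintype κ] [DecidableEq κ] (T : QuadraticForm F (κ → F))

/-- the orthogonal sum of `k` hyperbolic planes and `T` -/
noncomputable def Qgen : QuadraticForm F ((Fin k ⊕ Fin k) ⊕ κ → F) :=
  (∑ i : Fin k, QuadraticMap.proj (R := F) (A := F) (Sum.inl (Sum.inl i)) (Sum.inl (Sum.inr i))) +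
    T.comp (LinearMap.funLeft F F Sum.inr)

theorem Qgen_apply (v : (Fin k ⊕ Fin k) ⊕ κ → F) :
    Qgen k T v = ∑ i : Fin k, v (Sum.inl (Sum.inl i)) * v (Sum.inl (Sum.inr i)) + T (fun a => v (Sum.inr a)) := by
  unfold Qgen
  rw [_root_.add_apply, _root_.sum_apply]
  rfl

theorem polar_Qgen (u v : (Fin k ⊕ Fin k) ⊕ κ → F) :
    polar (Qgen k T) u v =
      ∑ i : Fin k, (u (Sum.inl (Sum.inl i)) * v (Sum.inl (Sum.inr i)) + u (Sum.inl (Sum.inr i)) * v (Sum.inl (Sum.inl i)))
        + polar T (fun a => u (Sum.inr a)) (fun a => v (Sum.inr a)) := by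
  unfold polar
  rw [Qgen_apply, Qgen_apply, Qgen_apply]
  have h1 : ∀ (A B C A' B' C' : F), (A + A') - (B + B') - (C + C') = (A - B - C) + (A' - B' - C') := by
    intros; ring
  rw [h1, ← Finset.sum_sub_distrib, ← Finset.sum_sub_distrib]
  congr 1
  refine Finset.sum_congr rfl fun i _ => ?_
  simp only [Pi.add_apply]
  ring

/-- extension by zero of a vector of the `T`-part -/
def extT (w : κ → F) : (Fin k ⊕ Fin k) ⊕ κ → F := Sum.elim 0 w

theorem nondegenerate_Qgen (hT : (polarBilin T).Nondegenerate) : (polarBilin (Qgen k T)).Nondegenerate := by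
  classical
  have hleft : ∀ u : (Fin k ⊕ Fin k) ⊕ κ → F, (∀ v, polar (Qgen k T) u v = 0) → u = 0 := by
    intro u hu
    have h3 : (fun a => u (Sum.inr a)) = 0 := by
      apply hT.1
      intro w
      have := hu (extT k w)
      rw [polar_Qgen] at this
      simpa [extT] using this
    funext j
    rcases j with (j | j) | j
    · have := hu (Pi.single (Sum.inl (Sum.inr j)) 1)
      rw [polar_Qgen] at this
      have h4 : (fun a => (Pi.single (Sum.inl (Sum.inr j)) 1 : (Fin k ⊕ Fin k) ⊕ κ → F) (Sum.inr a)) = 0 := by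
        funext a; simp
      rw [h4, polar_zero_right] at this
      simpa [Pi.single_apply, Finset.sum_ite_eq] using this
    · have := hu (Pi.single (Sum.inl (Sum.inl j)) 1)
      rw [polar_Qgen] at this
      have h4 : (fun a => (Pi.single (Sum.inl (Sum.inl j)) 1 : (Fin k ⊕ Fin k) ⊕ κ → F) (Sum.inr a)) = 0 := by
        funext a; simp
      rw [h4, polar_zero_right] at this
      simpa [Pi.single_apply, Finset.sum_ite_eq] using this
    · exact congrFun h3 j
  constructor
  · intro u hu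
    exact hleft u hu
  · intro u hu
    apply hleft u
    intro v
    rw [polar_comm]
    exact hu v

/-- standard hyperbolic family -/
def stdE (i : Fin k) : (Fin k ⊕ Fin k) ⊕ κ → F := Pi.single (Sum.inl (Sum.inl i)) 1
/-- standard hyperbolic family -/
def stdF (i : Fin k) : (Fin k ⊕ Fin k) ⊕ κ → F := Pi.single (Sum.inl (Sum.inr i)) 1
/-- standard basis of the `T`-part -/
def stdT (a : κ) : (Fin k ⊕ Fin k) ⊕ κ → F := Pi.single (Sum.inr a) 1

theorem std_isHypFamily : IsHypFamily (Qgen k T) (stdE k (κ := κ)) (stdF k) := by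
  have h4 : ∀ x : Fin k ⊕ Fin k, (fun a => (Pi.single (Sum.inl x) 1 : (Fin k ⊕ Fin k) ⊕ κ → F) (Sum.inr a)) = 0 := by
    intro x; funext a; simp
  refine ⟨fun i => ?_, fun i => ?_, fun i j => ?_, fun i j => ?_, fun i j => ?_⟩
  · unfold stdE
    rw [Qgen_apply, h4, map_zero]
    simp [Pi.single_apply]
  · unfold stdF
    rw [Qgen_apply, h4, map_zero]
    simp [Pi.single_apply]
  · unfold stdE stdF
    rw [polar_Qgen, h4, polar_zero_left]
    simp [Pi.single_apply, eq_comm]
  · unfold stdE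
    rw [polar_Qgen, h4, polar_zero_left]
    simp [Pi.single_apply]
  · unfold stdF
    rw [polar_Qgen, h4, polar_zero_left]
    simp [Pi.single_apply]

theorem stdT_mem_hypPerp (a : κ) : stdT k a ∈ hypPerp (Qgen k T) (stdE k (κ := κ)) (stdF k) := by
  rw [mem_hypPerp]
  have h4 : ∀ x : Fin k ⊕ Fin k, (fun a => (Pi.single (Sum.inl x) 1 : (Fin k ⊕ Fin k) ⊕ κ → F) (Sum.inr a)) = 0 := by
    intro x; funext a; simp
  intro i
  constructor
  · unfold stdT stdE
    rw [polar_Qgen, h4, polar_zero_right]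
    simp [Pi.single_apply]
  · unfold stdT stdF
    rw [polar_Qgen, h4, polar_zero_right]
    simp [Pi.single_apply]

theorem Qgen_sum_stdT (w : κ → F) : Qgen k T (∑ a, w a • stdT k a) = T w := by
  have : ∑ a, w a • stdT k a = extT k w := by
    funext x
    rcases x with x | a
    · simp [stdT, extT, Finset.sum_apply, Pi.single_apply]
    · simp [stdT, extT, Finset.sum_apply, Pi.single_apply]
  rw [this, Qgen_apply]
  simp [extT]

end gen



section frames
variable {F : Type*} [Field F] (k : ℕ) {κ : Type} [Fintype κ] [DecidableEq κ] (T : QuadraticForm F (κ → F))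

/-- isometric embeddings of `T` into a submodule -/
abbrev TEmb {V : Type*} [AddCommGroup V] [Module F V] (Q : QuadraticForm F V) (W : Submodule F V) : Type _ :=
  {t : κ → W // ∀ w : κ → F, Q (∑ a, w a • (t a : V)) = T w}

theorem mem_isometryGroup_iff {ι : Type} [Fintype ι] [DecidableEq ι] (Qf : (ι → F) → F) (g : GL ι F) :
    g ∈ Cfsg.isometryGroup F Qf ↔ ∀ u, Qf ((g : Matrix ι ι F) *ᵥ u) = Qf u :=
  ⟨fun h u => h u u, fun h u _ => h u⟩

/-- the matrix with prescribed columns -/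
def frameMat (e f : Fin k → ((Fin k ⊕ Fin k) ⊕ κ → F)) (t : κ → ((Fin k ⊕ Fin k) ⊕ κ → F)) :
    Matrix ((Fin k ⊕ Fin k) ⊕ κ) ((Fin k ⊕ Fin k) ⊕ κ) F :=
  Matrix.of fun r c => Sum.elim (Sum.elim (fun i => e i r) (fun i => f i r)) (fun a => t a r) c

theorem frameMat_mulVec (e f : Fin k → ((Fin k ⊕ Fin k) ⊕ κ → F)) (t : κ → ((Fin k ⊕ Fin k) ⊕ κ → F))
    (v : (Fin k ⊕ Fin k) ⊕ κ → F) :
    frameMat k e f t *ᵥ v = ∑ a, v (Sum.inr a) • t a +
      hypComb e f (fun i => v (Sum.inl (Sum.inl i))) (fun i => v (Sum.inl (Sum.inr i))) := by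
  funext r
  unfold frameMat hypComb
  simp only [mulVec, dotProduct, Fintype.sum_sum_type, Matrix.of_apply, Sum.elim_inl, Sum.elim_inr, Pi.add_apply,
    Finset.sum_apply, Pi.smul_apply, smul_eq_mul]
  simp only [mul_comm]
  ring

theorem frameMat_col_e (e f : Fin k → ((Fin k ⊕ Fin k) ⊕ κ → F)) (t : κ → ((Fin k ⊕ Fin k) ⊕ κ → F)) (i : Fin k) :
    frameMat k e f t *ᵥ Pi.single (Sum.inl (Sum.inl i)) 1 = e i := by
  rw [mulVec_single_one]; rfl

theorem frameMat_col_f (e f : Fin k → ((Fin k ⊕ Fin k) ⊕ κ → F)) (t : κ → ((Fin k ⊕ Fin k) ⊕ κ → F)) (i : Fin k) :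
    frameMat k e f t *ᵥ Pi.single (Sum.inl (Sum.inr i)) 1 = f i := by
  rw [mulVec_single_one]; rfl

theorem frameMat_col_t (e f : Fin k → ((Fin k ⊕ Fin k) ⊕ κ → F)) (t : κ → ((Fin k ⊕ Fin k) ⊕ κ → F)) (a : κ) :
    frameMat k e f t *ᵥ Pi.single (Sum.inr a) 1 = t a := by
  rw [mulVec_single_one]; rfl

theorem frameMat_isometry (p : HypFam (Qgen k T) k)
    (t : TEmb T (Qgen k T) (hypPerp (Qgen k T) p.1.1 p.1.2)) (v : (Fin k ⊕ Fin k) ⊕ κ → F) :
    Qgen k T (frameMat k p.1.1 p.1.2 (fun a => (t.1 a : (Fin k ⊕ Fin k) ⊕ κ → F)) *ᵥ v) = Qgen k T v := by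
  rw [frameMat_mulVec, quad_add_hypComb p.2 _ (Submodule.sum_mem _ (fun a _ => Submodule.smul_mem _ _ (t.1 a).2)),
    t.2, Qgen_apply, add_comm]
  rfl

theorem isometry_polar {ι : Type} [Fintype ι] [DecidableEq ι] (Q : QuadraticForm F (ι → F)) (M : Matrix ι ι F)
    (hM : ∀ v, Q (M *ᵥ v) = Q v) (x y : ι → F) : polar Q (M *ᵥ x) (M *ᵥ y) = polar Q x y := by
  unfold polar
  rw [← mulVec_add, hM, hM, hM]

theorem isometry_isUnit {ι : Type} [Fintype ι] [DecidableEq ι] (Q : QuadraticForm F (ι → F))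
    (hQ : (polarBilin Q).Nondegenerate) (M : Matrix ι ι F) (hM : ∀ v, Q (M *ᵥ v) = Q v) : IsUnit M := by
  rw [← mulVec_injective_iff_isUnit]
  intro x y hxy
  have h0 : M *ᵥ (x - y) = 0 := by rw [mulVec_sub, hxy, sub_self]
  have : x - y = 0 := by
    apply hQ.1
    intro z
    rw [polarBilin_apply_apply, ← isometry_polar Q M hM, h0, polar_zero_left]
  exact sub_eq_zero.1 this

end frames


section equiv
variable {F : Type*} [Field F] (k : ℕ) {κ : Type} [Fintype κ] [DecidableEq κ] (T : QuadraticForm F (κ → F))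

/-- full frames of type `hyp^k ⊥ T` -/
abbrev FullFrame : Type _ :=
  {x : ((Fin k → ((Fin k ⊕ Fin k) ⊕ κ → F)) × (Fin k → ((Fin k ⊕ Fin k) ⊕ κ → F))) × (κ → ((Fin k ⊕ Fin k) ⊕ κ → F)) //
    IsHypFamily (Qgen k T) x.1.1 x.1.2 ∧ (∀ a, x.2 a ∈ hypPerp (Qgen k T) x.1.1 x.1.2) ∧
      ∀ w : κ → F, Qgen k T (∑ a, w a • x.2 a) = T w}

/-- isometries correspond to full frames -/
noncomputable def isoEquivFrames (hT : (polarBilin T).Nondegenerate) :
    Cfsg.isometryGroup F (⇑(Qgen k T)) ≃ FullFrame k T where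
  toFun g := ⟨((fun i => g.1.1 *ᵥ stdE k i, fun i => g.1.1 *ᵥ stdF k i),
      fun a => g.1.1 *ᵥ stdT k a), by
    have hM := (mem_isometryGroup_iff _ g.1).1 g.2
    have hpol := isometry_polar (Qgen k T) _ hM
    obtain ⟨he, hf, hef, hee, hff⟩ := std_isHypFamily k T
    refine ⟨⟨fun i => ?_, fun i => ?_, fun i j => ?_, fun i j => ?_, fun i j => ?_⟩, fun a => ?_, fun w => ?_⟩
    · exact (hM _).trans (he i)
    · exact (hM _).trans (hf i)
    · exact (hpol _ _).trans (hef i j)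
    · exact (hpol _ _).trans (hee i j)
    · exact (hpol _ _).trans (hff i j)
    · rw [mem_hypPerp]
      intro i
      have := (mem_hypPerp _ _ _ _).1 (stdT_mem_hypPerp k T a) i
      exact ⟨(hpol _ _).trans this.1, (hpol _ _).trans this.2⟩
    · show Qgen k T (∑ a, w a • (g.1.1 *ᵥ stdT k a)) = T w
      have : ∑ a, w a • (g.1.1 *ᵥ stdT k a) = g.1.1 *ᵥ ∑ a, w a • stdT k a := by
        rw [mulVec_sum]
        refine Finset.sum_congr rfl fun a _ => ?_
        rw [mulVec_smul]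
      rw [this, hM, Qgen_sum_stdT]⟩
  invFun x := ⟨(isometry_isUnit (Qgen k T) (nondegenerate_Qgen k T hT) (frameMat k x.1.1.1 x.1.1.2 x.1.2)
      (frameMat_isometry k T ⟨x.1.1, x.2.1⟩ ⟨fun a => ⟨x.1.2 a, x.2.2.1 a⟩, x.2.2.2⟩)).unit, by
    rw [mem_isometryGroup_iff]
    exact frameMat_isometry k T ⟨x.1.1, x.2.1⟩ ⟨fun a => ⟨x.1.2 a, x.2.2.1 a⟩, x.2.2.2⟩⟩
  left_inv g := by
    apply Subtype.ext
    apply Units.ext
    show frameMat k _ _ _ = g.1.1
    ext r c
    rcases c with (i | i) | a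
    · show (g.1.1 *ᵥ stdE k i) r = _
      unfold stdE
      rw [mulVec_single_one]; rfl
    · show (g.1.1 *ᵥ stdF k i) r = _
      unfold stdF
      rw [mulVec_single_one]; rfl
    · show (g.1.1 *ᵥ stdT k a) r = _
      unfold stdT
      rw [mulVec_single_one]; rfl
  right_inv x := by
    apply Subtype.ext
    apply Prod.ext
    · apply Prod.ext
      · funext i
        exact frameMat_col_e k _ _ _ i
      · funext i
        exact frameMat_col_f k _ _ _ i
    · funext a
      exact frameMat_col_t k _ _ _ a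

/-- the hyperbolic family of a full frame -/
def frameProj (x : FullFrame k T) : HypFam (Qgen k T) k := ⟨x.1.1, x.2.1⟩

/-- fibres of `frameProj` -/
def frameFiberEquiv (p : HypFam (Qgen k T) k) :
    {x : FullFrame k T // frameProj k T x = p} ≃ TEmb T (Qgen k T) (hypPerp (Qgen k T) p.1.1 p.1.2) where
  toFun x := ⟨fun a => ⟨x.1.1.2 a, by
      have h1 : x.1.1.1 = p.1 := congrArg Subtype.val x.2
      rw [← h1]
      exact x.1.2.2.1 a⟩, x.1.2.2.2⟩
  invFun t := ⟨⟨(p.1, fun a => (t.1 a).1), p.2, fun a => (t.1 a).2, t.2⟩, rfl⟩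
  left_inv x := by
    apply Subtype.ext
    apply Subtype.ext
    have h1 : x.1.1.1 = p.1 := congrArg Subtype.val x.2
    apply Prod.ext
    · exact h1.symm
    · rfl
  right_inv t := rfl

theorem card_isometryGroup_Qgen [Fintype F] (hT : (polarBilin T).Nondegenerate) (t₀ : ℕ)
    (ht : ∀ p : HypFam (Qgen k T) k, Nat.card (TEmb T (Qgen k T) (hypPerp (Qgen k T) p.1.1 p.1.2)) = t₀) :
    Nat.card (Cfsg.isometryGroup F (⇑(Qgen k T))) = Nat.card (HypFam (Qgen k T) k) * t₀ := by
  classical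
  have := finite_hypFam (Q := Qgen k T) k
  have : Fintype (HypFam (Qgen k T) k) := Fintype.ofFinite _
  have : Finite (FullFrame k T) := by unfold FullFrame; infer_instance
  rw [Nat.card_congr (isoEquivFrames k T hT), Nat.card_congr (Equiv.sigmaFiberEquiv (frameProj k T)).symm,
    Nat.card_sigma]
  simp only [fun p => Nat.card_congr (frameFiberEquiv k T p), ht, Finset.sum_const, Finset.card_univ, smul_eq_mul]
  rw [Nat.card_eq_fintype_card]

end equiv
end Cfsg.Agent.Lib.Helper15
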