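import Mathlib
import Cfsg.Agent.Lib.Helper15.QuadCount3
set_option autoImplicit false
namespace Cfsg.Agent.Lib.Helper15

open Matrix Module QuadraticMap

section reindex
variable {F : Type*} [Field F]

theorem reindex_mulVec {ι ι' : Type} [Fintype ι] [DecidableEq ι] [Fintype ι'] [DecidableEq ι'] (e : ι ≃ ι')
    (M : Matrix ι ι F) (v : ι' → F) : (Matrix.reindex e e M) *ᵥ v = (M *ᵥ (v ∘ e)) ∘ e.symm := by
  rw [Matrix.reindex_apply, Matrix.submatrix_mulVec_equiv]
  rfl

/-- reindexing the coordinates does not change the order of the isometry group -/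
theorem card_isometryGroup_reindex {ι ι' : Type} [Fintype ι] [DecidableEq ι] [Fintype ι'] [DecidableEq ι']
    (e : ι ≃ ι') (Qf : (ι → F) → F) (Qf' : (ι' → F) → F) (h : ∀ v : ι' → F, Qf' v = Qf (v ∘ e)) :
    Nat.card (Cfsg.isometryGroup F Qf) = Nat.card (Cfsg.isometryGroup F Qf') := by
  apply Nat.card_congr
  refine (Units.mapEquiv (Matrix.reindexAlgEquiv F F e).toMulEquiv).toEquiv.subtypeEquiv (fun g => ?_)
  rw [mem_isometryGroup_iff, mem_isometryGroup_iff]
  have hval : ((Units.mapEquiv (Matrix.reindexAlgEquiv F F e).toMulEquiv).toEquiv g : Matrix ι' ι' F) =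
      Matrix.reindex e e (g : Matrix ι ι F) := by
    show (Matrix.reindexAlgEquiv F F e) (g : Matrix ι ι F) = _
    rw [Matrix.coe_reindexAlgEquiv]
  rw [hval]
  constructor
  · intro hg v
    rw [reindex_mulVec, h, h]
    have : ((↑g *ᵥ (v ∘ ⇑e)) ∘ ⇑e.symm) ∘ ⇑e = (g : Matrix ι ι F) *ᵥ (v ∘ ⇑e) := by
      funext i; simp
    rw [this, hg]
  · intro hg u
    have h1 := hg (u ∘ e.symm)
    rw [reindex_mulVec, h, h] at h1
    have h2 : (u ∘ ⇑e.symm) ∘ ⇑e = u := by funext i; simp
    have h3 : ((↑g *ᵥ u) ∘ ⇑e.symm) ∘ ⇑e = (g : Matrix ι ι F) *ᵥ u := by funext i; simp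
    rw [h2, h3] at h1
    exact h1

end reindex



section counts
variable {F : Type*} [Field F] [Fintype F] (k : ℕ) {κ : Type} [Fintype κ] [DecidableEq κ] (T : QuadraticForm F (κ → F))

theorem finrank_Qgen_space : finrank F ((Fin k ⊕ Fin k) ⊕ κ → F) = 2 * k + Fintype.card κ := by
  rw [Module.finrank_pi, Fintype.card_sum, Fintype.card_sum, Fintype.card_fin]; ring

theorem card_value_Qgen (c : F) :
    Nat.card {v : (Fin k ⊕ Fin k) ⊕ κ → F // Qgen k T v = c} =
      hypCount (Fintype.card F) (Fintype.card κ) (Nat.card {w : κ → F // T w = c}) k := by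
  classical
  have := card_minus_shape (F := F) k (κ := κ) (fun w => T w) c
  unfold hypCount
  rw [← this]
  apply Nat.card_congr
  exact Equiv.subtypeEquivRight (fun v => by rw [Qgen_apply])

/-- value counts of the perp of a full hyperbolic family -/
theorem card_value_perp_Qgen (p : HypFam (Qgen k T) k) (c : F) :
    Nat.card {w : hypPerp (Qgen k T) p.1.1 p.1.2 // Qgen k T w.1 = c} = Nat.card {w : κ → F // T w = c} := by
  have := card_value_hypPerp (Q := Qgen k T) k (Fintype.card κ) (finrank_Qgen_space k) c _ (card_value_Qgen k T c) k le_rfl p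
  rw [this]
  unfold hypCount
  simp

theorem finrank_perp_Qgen (p : HypFam (Qgen k T) k) :
    finrank F (hypPerp (Qgen k T) p.1.1 p.1.2) = Fintype.card κ := by
  have := finrank_hypPerp p.2
  rw [finrank_Qgen_space] at this
  omega

theorem card_hypFam_Qgen (hT : (polarBilin T).Nondegenerate) :
    Nat.card (HypFam (Qgen k T) k) =
      ∏ j ∈ Finset.range k, ((hypCount (Fintype.card F) (Fintype.card κ) (Nat.card {w : κ → F // T w = 0}) (k - j) - 1) *
        Fintype.card F ^ (2 * (k - j) + Fintype.card κ - 2)) :=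
  card_hypFam (nondegenerate_Qgen k T hT) k (Fintype.card κ) _ (finrank_Qgen_space k) (card_value_Qgen k T 0) k le_rfl

end counts


section plus
variable {F : Type*} [Field F] [Fintype F]

theorem nondegenerate_zero_fin0 : (polarBilin (0 : QuadraticForm F (Fin 0 → F))).Nondegenerate := by
  constructor
  · intro x _; exact Subsingleton.elim _ _
  · intro x _; exact Subsingleton.elim _ _

theorem card_isometryGroup_plus (m : ℕ) :
    Nat.card (Cfsg.isometryGroup F (Cfsg.quadFormPlus m F)) =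
      ∏ j ∈ Finset.range m, ((hypCount (Fintype.card F) 0 1 (m - j) - 1) * Fintype.card F ^ (2 * (m - j) - 2)) := by
  classical
  have h1 := card_isometryGroup_reindex (F := F) (Equiv.sumEmpty (Fin m ⊕ Fin m) (Fin 0)).symm
    (Cfsg.quadFormPlus m F) (⇑(Qgen m (0 : QuadraticForm F (Fin 0 → F)))) (fun v => by
      rw [Qgen_apply, _root_.zero_apply, add_zero]
      rfl)
  rw [h1, card_isometryGroup_Qgen m 0 nondegenerate_zero_fin0 1, mul_one, card_hypFam_Qgen m 0 nondegenerate_zero_fin0]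
  · have h0 : Nat.card {w : Fin 0 → F // (0 : QuadraticForm F (Fin 0 → F)) w = 0} = 1 := by
      rw [Nat.card_eq_one_iff_unique]
      exact ⟨⟨fun x y => Subtype.ext (Subsingleton.elim _ _)⟩, ⟨⟨0, rfl⟩⟩⟩
    rw [h0, Fintype.card_fin]
    rfl
  · intro p
    rw [Nat.card_eq_one_iff_unique]
    refine ⟨⟨fun x y => Subtype.ext (funext fun a => a.elim0)⟩, ⟨⟨fun a => a.elim0, fun w => ?_⟩⟩⟩
    rw [Finset.univ_eq_empty, Finset.sum_empty, map_zero, _root_.zero_apply]

end plus

section arithplus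

theorem hypCount_plus_sub_one (q i : ℕ) (hq : 1 ≤ q) :
    hypCount q 0 1 (i + 1) - 1 = (q ^ (i + 1) - 1) * (q ^ i + 1) := by
  unfold hypCount
  obtain ⟨A, hA⟩ : ∃ A, q ^ (i + 1) = A + 1 := ⟨q ^ (i + 1) - 1, by have := Nat.one_le_pow (i + 1) q hq; omega⟩
  rw [hA, Nat.add_sub_cancel, Nat.add_sub_cancel, pow_zero, mul_one, mul_one]
  have : A + 1 + A * q ^ i - 1 = A + A * q ^ i := by omega
  rw [this]; ring

theorem plus_arith (q : ℕ) (hq : 1 ≤ q) (n : ℕ) :
    ∏ i ∈ Finset.range (n + 1), ((hypCount q 0 1 (i + 1) - 1) * q ^ (2 * (i + 1) - 2)) =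
      2 * q ^ ((n + 1) * n) * (q ^ (n + 1) - 1) * ∏ i ∈ Finset.range n, (q ^ (2 * (i + 1)) - 1) := by
  induction n with
  | zero =>
    rw [Finset.prod_range_one, hypCount_plus_sub_one q 0 hq]
    simp
    ring
  | succ n ih =>
    rw [Finset.prod_range_succ, ih, Finset.prod_range_succ, hypCount_plus_sub_one q (n + 1) hq]
    obtain ⟨A, hA⟩ : ∃ A, q ^ (n + 1) = A + 1 := ⟨q ^ (n + 1) - 1, by have := Nat.one_le_pow (n + 1) q hq; omega⟩
    obtain ⟨B, hB⟩ : ∃ B, q ^ (n + 1 + 1) = B + 1 := ⟨q ^ (n + 1 + 1) - 1, by have := Nat.one_le_pow (n + 1 + 1) q hq; omega⟩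
    have h2 : q ^ (2 * (n + 1)) - 1 = A * (A + 2) := by
      rw [two_mul, pow_add, hA]
      have : (A + 1) * (A + 1) = A * (A + 2) + 1 := by ring
      rw [this, Nat.add_sub_cancel]
    have h3 : 2 * (n + 1 + 1) - 2 = 2 * (n + 1) := by omega
    have h4 : q ^ ((n + 1 + 1) * (n + 1)) = q ^ ((n + 1) * n) * q ^ (2 * (n + 1)) := by
      rw [← pow_add]; congr 1; ring
    rw [h2, h3, h4, hA, hB, Nat.add_sub_cancel, Nat.add_sub_cancel]
    ring

theorem prod_reflect_succ (g : ℕ → ℕ) (m : ℕ) :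
    ∏ j ∈ Finset.range m, g (m - j) = ∏ i ∈ Finset.range m, g (i + 1) := by
  rw [← Finset.prod_range_reflect]
  apply Finset.prod_congr rfl
  intro j hj
  rw [Finset.mem_range] at hj
  congr 1
  omega

end arithplus
end Cfsg.Agent.Lib.Helper15
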