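import Mathlib
import Cfsg.Agent.Lib.Helper15.QuadCount4
import Cfsg.Agent.Lib.Helper15.SympOrder
set_option autoImplicit false
namespace Cfsg.Agent.Lib.Helper15

open Matrix Module QuadraticMap

section odd
variable {F : Type*} [Field F]

/-- the one-dimensional form `x²` -/
noncomputable def sqForm (F : Type*) [Field F] : QuadraticForm F (Unit → F) := QuadraticMap.proj (R := F) (A := F) () ()

theorem sqForm_apply (w : Unit → F) : sqForm F w = w () * w () := rfl

theorem nondegenerate_sqForm (h2 : (2 : F) ≠ 0) : (polarBilin (sqForm F)).Nondegenerate := by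
  have hleft : ∀ u : Unit → F, (∀ v, polar (sqForm F) u v = 0) → u = 0 := by
    intro u hu
    have := hu (fun _ => 1)
    unfold polar at this
    simp only [sqForm_apply, Pi.add_apply] at this
    funext x
    cases x
    have h3 : 2 * u () = 0 := by linear_combination this
    rcases mul_eq_zero.1 h3 with h | h
    · exact absurd h h2
    · exact h
  constructor
  · intro u hu
    exact hleft u hu
  · intro u hu
    apply hleft u
    intro v
    rw [polar_comm]
    exact hu v

theorem card_sqForm_zero [Fintype F] : Nat.card {w : Unit → F // sqForm F w = 0} = 1 := by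
  rw [Nat.card_eq_one_iff_unique]
  refine ⟨⟨fun x y => ?_⟩, ⟨⟨0, by simp [sqForm_apply]⟩⟩⟩
  apply Subtype.ext
  funext u
  cases u
  have hx := x.2
  have hy := y.2
  rw [sqForm_apply, mul_self_eq_zero] at hx hy
  rw [hx, hy]

theorem card_sqForm_one [Fintype F] (h2 : (2 : F) ≠ 0) : Nat.card {w : Unit → F // sqForm F w = 1} = 2 := by
  classical
  have hne : (1 : F) ≠ -1 := by
    intro h
    apply h2
    have : (1 : F) + 1 = 0 := by nth_rewrite 2 [h]; ring
    rw [← this]; norm_num
  rw [Nat.card_eq_two_iff]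
  refine ⟨⟨fun _ => 1, by simp [sqForm_apply]⟩, ⟨fun _ => -1, by simp [sqForm_apply]⟩, ?_, ?_⟩
  · intro h
    have := congrFun (congrArg Subtype.val h) ()
    exact hne this
  · ext x
    simp only [Set.mem_insert_iff, Set.mem_singleton_iff, Set.mem_univ, iff_true]
    have hx := x.2
    rw [sqForm_apply, mul_self_eq_one_iff] at hx
    rcases hx with h | h
    · left; apply Subtype.ext; funext u; cases u; exact h
    · right; apply Subtype.ext; funext u; cases u; exact h

/-- embeddings of `x²` are vectors of norm one -/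
def tembSqEquiv {V : Type*} [AddCommGroup V] [Module F V] (Q : QuadraticForm F V) (W : Submodule F V) :
    TEmb (sqForm F) Q W ≃ {x : W // Q x.1 = 1} where
  toFun t := ⟨t.1 (), by
    have := t.2 (fun _ => 1)
    simpa [sqForm_apply] using this⟩
  invFun x := ⟨fun _ => x.1, fun w => by
    simp only [Finset.univ_unique, Finset.sum_singleton]
    rw [QuadraticMap.map_smul, x.2, sqForm_apply]
    simp⟩
  left_inv t := by
    apply Subtype.ext
    funext u
    cases u
    rfl
  right_inv x := rfl

theorem card_isometryGroup_odd [Fintype F] (h2 : (2 : F) ≠ 0) (m : ℕ) :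
    Nat.card (Cfsg.isometryGroup F (Cfsg.quadFormOdd m F)) =
      (∏ j ∈ Finset.range m, ((hypCount (Fintype.card F) 1 1 (m - j) - 1) * Fintype.card F ^ (2 * (m - j) + 1 - 2))) * 2 := by
  classical
  have h1 := card_isometryGroup_reindex (F := F) (Equiv.sumComm Unit (Fin m ⊕ Fin m))
    (Cfsg.quadFormOdd m F) (⇑(Qgen m (sqForm F))) (fun v => by
      rw [Qgen_apply, sqForm_apply, add_comm]
      unfold Cfsg.quadFormOdd
      rw [_root_.sq]
      rfl)
  rw [h1, card_isometryGroup_Qgen m (sqForm F) (nondegenerate_sqForm h2) 2, card_hypFam_Qgen m (sqForm F) (nondegenerate_sqForm h2),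
    card_sqForm_zero, Fintype.card_unit]
  intro p
  rw [Nat.card_congr (tembSqEquiv _ _), card_value_perp_Qgen m (sqForm F) p 1, card_sqForm_one h2]

end odd



section aritho

theorem hypCount_odd (q i : ℕ) (hq : 1 ≤ q) : hypCount q 1 1 (i + 1) = q ^ (2 * (i + 1)) := by
  unfold hypCount
  obtain ⟨A, hA⟩ : ∃ A, q ^ (i + 1) = A + 1 := ⟨q ^ (i + 1) - 1, by have := Nat.one_le_pow (i + 1) q hq; omega⟩
  have h1 : q ^ (2 * (i + 1)) = (A + 1) * (A + 1) := by rw [two_mul, pow_add, hA]
  have h2 : q ^ i * q ^ 1 = A + 1 := by rw [← pow_add]; exact hA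
  rw [Nat.add_sub_cancel, mul_assoc, h2, h1, hA, Nat.add_sub_cancel]
  ring

theorem sum_odd_range (m : ℕ) : ∑ i ∈ Finset.range m, (2 * i + 1) = m ^ 2 := by
  induction m with
  | zero => rfl
  | succ m ih => rw [Finset.sum_range_succ, ih]; ring

theorem odd_arith (q : ℕ) (hq : 1 ≤ q) (m : ℕ) :
    (∏ j ∈ Finset.range m, ((hypCount q 1 1 (m - j) - 1) * q ^ (2 * (m - j) + 1 - 2))) * 2 =
      2 * q ^ (m ^ 2) * ∏ i ∈ Finset.range m, (q ^ (2 * (i + 1)) - 1) := by
  rw [prod_reflect_succ (fun i => (hypCount q 1 1 i - 1) * q ^ (2 * i + 1 - 2)) m]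
  have h1 : ∀ i ∈ Finset.range m, (hypCount q 1 1 (i + 1) - 1) * q ^ (2 * (i + 1) + 1 - 2) =
      (q ^ (2 * (i + 1)) - 1) * q ^ (2 * i + 1) := by
    intro i _
    rw [hypCount_odd q i hq]
    congr 2
  rw [Finset.prod_congr rfl h1, Finset.prod_mul_distrib, Finset.prod_pow_eq_pow_sum, sum_odd_range]
  ring

end aritho
end Cfsg.Agent.Lib.Helper15
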