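import Mathlib
import Cfsg.Agent.Lib.Helper15.QuadCount5
set_option autoImplicit false
namespace Cfsg.Agent.Lib.Helper15

open Matrix Module QuadraticMap

section binform
variable {F : Type*} [Field F] (a b : F)

/-- the binary form `x² + a x y + b y²` -/
noncomputable def binForm : QuadraticForm F (Fin 2 → F) :=
  QuadraticMap.proj (R := F) (A := F) 0 0 + a • QuadraticMap.proj (R := F) (A := F) 0 1 +
    b • QuadraticMap.proj (R := F) (A := F) 1 1

theorem binForm_apply (w : Fin 2 → F) : binForm a b w = w 0 ^ 2 + a * w 0 * w 1 + b * w 1 ^ 2 := by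
  unfold binForm
  rw [_root_.add_apply, _root_.add_apply, _root_.smul_apply, _root_.smul_apply]
  simp only [proj_apply, smul_eq_mul]
  ring

theorem polar_binForm (u v : Fin 2 → F) :
    polar (binForm a b) u v = 2 * u 0 * v 0 + a * (u 0 * v 1 + u 1 * v 0) + 2 * b * u 1 * v 1 := by
  unfold polar
  rw [binForm_apply, binForm_apply, binForm_apply]
  simp only [Pi.add_apply]
  ring

/-- multiplication in the quadratic algebra `F[θ]`, `θ² = aθ - b` -/
def mulB (u z : Fin 2 → F) : Fin 2 → F := ![u 0 * z 0 - b * u 1 * z 1, u 0 * z 1 + u 1 * z 0 + a * u 1 * z 1]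

/-- conjugation -/
def conjB (u : Fin 2 → F) : Fin 2 → F := ![u 0 + a * u 1, - u 1]

theorem binForm_mulB (u z : Fin 2 → F) : binForm a b (mulB a b u z) = binForm a b u * binForm a b z := by
  rw [binForm_apply, binForm_apply, binForm_apply]
  simp only [mulB, Matrix.cons_val_zero, Matrix.cons_val_one]
  ring

theorem binForm_conjB (u : Fin 2 → F) : binForm a b (conjB a u) = binForm a b u := by
  rw [binForm_apply, binForm_apply]
  simp only [conjB, Matrix.cons_val_zero, Matrix.cons_val_one]
  ring

theorem mulB_conjB_mulB (u z : Fin 2 → F) : mulB a b (conjB a u) (mulB a b u z) = binForm a b u • z := by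
  funext i
  fin_cases i
  · simp only [mulB, conjB, Matrix.cons_val_zero, Matrix.cons_val_one, Fin.zero_eta, Pi.smul_apply, smul_eq_mul,
      binForm_apply]
    ring
  · simp only [mulB, conjB, Matrix.cons_val_zero, Matrix.cons_val_one, Fin.mk_one, Pi.smul_apply, smul_eq_mul,
      binForm_apply]
    ring

theorem mulB_mulB_conjB (u z : Fin 2 → F) : mulB a b u (mulB a b (conjB a u) z) = binForm a b u • z := by
  funext i
  fin_cases i
  · simp only [mulB, conjB, Matrix.cons_val_zero, Matrix.cons_val_one, Fin.zero_eta, Pi.smul_apply, smul_eq_mul,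
      binForm_apply]
    ring
  · simp only [mulB, conjB, Matrix.cons_val_zero, Matrix.cons_val_one, Fin.mk_one, Pi.smul_apply, smul_eq_mul,
      binForm_apply]
    ring

theorem mulB_add (u z z' : Fin 2 → F) : mulB a b u (z + z') = mulB a b u z + mulB a b u z' := by
  funext i
  fin_cases i
  · simp only [mulB, Matrix.cons_val_zero, Matrix.cons_val_one, Fin.zero_eta, Pi.add_apply]; ring
  · simp only [mulB, Matrix.cons_val_zero, Matrix.cons_val_one, Fin.mk_one, Pi.add_apply]; ring

theorem mulB_one (u : Fin 2 → F) : mulB a b u ![1, 0] = u := by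
  funext i
  fin_cases i
  · simp [mulB]
  · simp [mulB]

theorem polar_mulB (u z z' : Fin 2 → F) :
    polar (binForm a b) (mulB a b u z) (mulB a b u z') = binForm a b u * polar (binForm a b) z z' := by
  unfold polar
  rw [← mulB_add, binForm_mulB, binForm_mulB, binForm_mulB]
  ring

end binform



section bincount
variable {F : Type*} [Field F] [Fintype F] (a b : F)
variable (hab : ∀ z₁ z₂ : F, z₁ ^ 2 + a * z₁ * z₂ + b * z₂ ^ 2 = 0 → z₁ = 0 ∧ z₂ = 0)

include hab in
theorem binForm_eq_zero_iff (z : Fin 2 → F) : binForm a b z = 0 ↔ z = 0 := by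
  constructor
  · intro h
    rw [binForm_apply] at h
    obtain ⟨h0, h1⟩ := hab _ _ h
    funext i
    fin_cases i
    · exact h0
    · exact h1
  · rintro rfl
    exact map_zero _

include hab in
theorem card_binForm_zero : Nat.card {z : Fin 2 → F // binForm a b z = 0} = 1 := by
  rw [Nat.card_eq_one_iff_unique]
  refine ⟨⟨fun x y => ?_⟩, ⟨⟨0, map_zero _⟩⟩⟩
  apply Subtype.ext
  rw [(binForm_eq_zero_iff a b hab x.1).1 x.2, (binForm_eq_zero_iff a b hab y.1).1 y.2]

include hab in
/-- every nonzero value is represented -/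
theorem exists_binForm_eq (c : F) : ∃ u : Fin 2 → F, binForm a b u = c := by
  let Q3 : QuadraticForm F (Fin 3 → F) :=
    QuadraticMap.proj (R := F) (A := F) 0 0 + a • QuadraticMap.proj (R := F) (A := F) 0 1 +
      b • QuadraticMap.proj (R := F) (A := F) 1 1 - c • QuadraticMap.proj (R := F) (A := F) 2 2
  have hQ3 : ∀ v : Fin 3 → F, Q3 v = v 0 ^ 2 + a * v 0 * v 1 + b * v 1 ^ 2 - c * v 2 ^ 2 := by
    intro v
    show ((QuadraticMap.proj (R := F) (A := F) 0 0 + a • QuadraticMap.proj (R := F) (A := F) 0 1 +
      b • QuadraticMap.proj (R := F) (A := F) 1 1 - c • QuadraticMap.proj (R := F) (A := F) 2 2 :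
        QuadraticForm F (Fin 3 → F))) v = _
    rw [_root_.sub_apply, _root_.add_apply, _root_.add_apply, _root_.smul_apply, _root_.smul_apply, _root_.smul_apply]
    simp only [proj_apply, smul_eq_mul]
    ring
  obtain ⟨v, hv0, hv⟩ := exists_singular_of_three_le_finrank Q3 (by rw [Module.finrank_pi, Fintype.card_fin])
  rw [hQ3] at hv
  have hv2 : v 2 ≠ 0 := by
    intro h2
    rw [h2] at hv
    have := hab (v 0) (v 1) (by linear_combination hv)
    apply hv0
    funext i
    fin_cases i
    · exact this.1
    · exact this.2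
    · exact h2
  refine ⟨![v 0 / v 2, v 1 / v 2], ?_⟩
  rw [binForm_apply]
  simp only [Matrix.cons_val_zero, Matrix.cons_val_one]
  field_simp
  linear_combination hv

include hab in
theorem card_binForm_eq_one (c : F) (hc : c ≠ 0) :
    Nat.card {z : Fin 2 → F // binForm a b z = c} = Nat.card {z : Fin 2 → F // binForm a b z = 1} := by
  obtain ⟨u, hu⟩ := exists_binForm_eq a b hab c
  symm
  apply Nat.card_congr
  refine ⟨fun z => ⟨mulB a b u z.1, by rw [binForm_mulB, hu, z.2, mul_one]⟩,
    fun z => ⟨c⁻¹ • mulB a b (conjB a u) z.1, by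
      rw [QuadraticMap.map_smul, binForm_mulB, binForm_conjB, hu, z.2, smul_eq_mul]
      field_simp⟩, ?_, ?_⟩
  · intro z
    apply Subtype.ext
    show c⁻¹ • mulB a b (conjB a u) (mulB a b u z.1) = z.1
    rw [mulB_conjB_mulB, hu, smul_smul, inv_mul_cancel₀ hc, one_smul]
  · intro z
    apply Subtype.ext
    show mulB a b u (c⁻¹ • mulB a b (conjB a u) z.1) = z.1
    have hsm : ∀ (t : F) (x : Fin 2 → F), mulB a b u (t • x) = t • mulB a b u x := by
      intro t x
      funext i
      fin_cases i
      · simp only [mulB, Matrix.cons_val_zero, Matrix.cons_val_one, Fin.zero_eta, Pi.smul_apply, smul_eq_mul]; ring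
      · simp only [mulB, Matrix.cons_val_zero, Matrix.cons_val_one, Fin.mk_one, Pi.smul_apply, smul_eq_mul]; ring
    rw [hsm, mulB_mulB_conjB, hu, smul_smul, inv_mul_cancel₀ hc, one_smul]

include hab in
theorem card_binForm_one : Nat.card {z : Fin 2 → F // binForm a b z = 1} = Fintype.card F + 1 := by
  classical
  have h1 : Fintype.card (Fin 2 → F) = ∑ c : F, Nat.card {z : Fin 2 → F // binForm a b z = c} := by
    rw [← Nat.card_eq_fintype_card, Nat.card_congr (Equiv.sigmaFiberEquiv (fun z : Fin 2 → F => binForm a b z)).symm,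
      Nat.card_sigma]
  rw [← Finset.add_sum_erase _ _ (Finset.mem_univ (0 : F)), card_binForm_zero a b hab] at h1
  have h2 : ∀ c ∈ (Finset.univ : Finset F).erase 0, Nat.card {z : Fin 2 → F // binForm a b z = c} =
      Nat.card {z : Fin 2 → F // binForm a b z = 1} := fun c hc =>
    card_binForm_eq_one a b hab c (Finset.ne_of_mem_erase hc)
  rw [Finset.sum_congr rfl h2, Finset.sum_const, Finset.card_erase_of_mem (Finset.mem_univ _), Finset.card_univ,
    smul_eq_mul, Fintype.card_fun, Fintype.card_fin] at h1
  have hq : 2 ≤ Fintype.card F := Fintype.one_lt_card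
  obtain ⟨r, hr⟩ : ∃ r, Fintype.card F = r + 1 := ⟨Fintype.card F - 1, by omega⟩
  rw [hr, Nat.add_sub_cancel] at h1
  rw [hr]
  have hr0 : 0 < r := by omega
  have : r * Nat.card {z : Fin 2 → F // binForm a b z = 1} = r * (r + 2) := by
    nlinarith [h1]
  exact Nat.eq_of_mul_eq_mul_left hr0 this

include hab in
theorem card_binForm_value (c : F) [Decidable (c = 0)] :
    Nat.card {z : Fin 2 → F // binForm a b z = c} = if c = 0 then 1 else Fintype.card F + 1 := by
  split_ifs with hc
  · rw [hc]; exact card_binForm_zero a b hab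
  · rw [card_binForm_eq_one a b hab c hc, card_binForm_one a b hab]

end bincount


section binorth
variable {F : Type*} [Field F] [Fintype F] (a b : F)
variable (hab : ∀ z₁ z₂ : F, z₁ ^ 2 + a * z₁ * z₂ + b * z₂ ^ 2 = 0 → z₁ = 0 ∧ z₂ = 0)

include hab in
theorem a_ne_zero_of_two_eq_zero (h2 : (2 : F) = 0) : a ≠ 0 := by
  intro ha
  have : CharP F 2 := CharTwo.of_one_ne_zero_of_two_eq_zero one_ne_zero h2
  obtain ⟨β, hβ⟩ := FiniteField.isSquare_of_char_two (ringChar.eq F 2) b
  have := hab β 1 (by rw [ha, hβ]; linear_combination β ^ 2 * h2)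
  exact one_ne_zero this.2

include hab in
theorem nondegenerate_binForm : (polarBilin (binForm a b)).Nondegenerate := by
  have hleft : ∀ u : Fin 2 → F, (∀ v, polar (binForm a b) u v = 0) → u = 0 := by
    intro u hu
    by_cases h2 : (2 : F) = 0
    · have ha := a_ne_zero_of_two_eq_zero a b hab h2
      have h10 := hu ![1, 0]
      have h01 := hu ![0, 1]
      rw [polar_binForm] at h10 h01
      simp only [Matrix.cons_val_zero, Matrix.cons_val_one] at h10 h01
      have e1 : a * u 1 = 0 := by linear_combination h10 - u 0 * h2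
      have e0 : a * u 0 = 0 := by linear_combination h01 - b * u 1 * h2
      funext i
      fin_cases i
      · exact (mul_eq_zero.1 e0).resolve_left ha
      · exact (mul_eq_zero.1 e1).resolve_left ha
    · have h := hu u
      rw [polar_self, two_smul] at h
      have hT : binForm a b u = 0 := by
        have h3 : (2 : F) * binForm a b u = 0 := by linear_combination h
        exact (mul_eq_zero.1 h3).resolve_left h2
      exact (binForm_eq_zero_iff a b hab u).1 hT
  constructor
  · intro u hu
    exact hleft u hu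
  · intro u hu
    apply hleft u
    intro v
    rw [polar_comm]
    exact hu v

include hab in
/-- roots of `X² - aX + b` in the quadratic algebra -/
theorem card_binForm_roots :
    Nat.card {v : Fin 2 → F // binForm a b v = b ∧ polar (binForm a b) ![1, 0] v = a} = 2 := by
  have hne : (![0, 1] : Fin 2 → F) ≠ ![a, -1] := by
    intro h
    have h0 : (0 : F) = a := congrFun h 0
    have h1 : (1 : F) = -1 := congrFun h 1
    have h2 : (2 : F) = 0 := by linear_combination h1
    exact a_ne_zero_of_two_eq_zero a b hab h2 h0.symm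
  rw [Nat.card_eq_two_iff]
  refine ⟨⟨![0, 1], by rw [binForm_apply, polar_binForm]; simp⟩,
    ⟨![a, -1], by rw [binForm_apply, polar_binForm]; simp; constructor <;> ring⟩, ?_, ?_⟩
  · intro h
    exact hne (congrArg Subtype.val h)
  · ext v
    simp only [Set.mem_insert_iff, Set.mem_singleton_iff, Set.mem_univ, iff_true]
    obtain ⟨h1, h2⟩ := v.2
    rw [binForm_apply] at h1
    rw [polar_binForm] at h2
    simp only [Matrix.cons_val_zero, Matrix.cons_val_one] at h2
    have key : binForm a b ![v.1 0, v.1 1 - 1] * binForm a b ![v.1 0 - a, v.1 1 + 1] = 0 := by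
      rw [binForm_apply, binForm_apply]
      simp only [Matrix.cons_val_zero, Matrix.cons_val_one]
      have h1' : v.1 0 ^ 2 + a * v.1 0 * v.1 1 + b * v.1 1 ^ 2 - b = 0 := by linear_combination h1
      have h2' : 2 * v.1 0 + a * v.1 1 - a = 0 := by linear_combination h2
      linear_combination ((v.1 0 ^ 2 + a * v.1 0 * v.1 1 + b * v.1 1 ^ 2 - b) - 2 * (2 * v.1 0 + a * v.1 1 - a) * v.1 0
        - a * (2 * v.1 0 + a * v.1 1 - a) * v.1 1) * h1' +
        ((2 * v.1 0 + a * v.1 1 - a) * (v.1 0 ^ 2 + a * v.1 0 * v.1 1 + b * v.1 1 ^ 2)) * h2'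
    rcases mul_eq_zero.1 key with h | h
    · left
      have := (binForm_eq_zero_iff a b hab _).1 h
      apply Subtype.ext
      funext i
      fin_cases i
      · exact congrFun this 0
      · have h3 : v.1 1 - 1 = 0 := congrFun this 1
        show v.1 1 = 1
        linear_combination h3
    · right
      have := (binForm_eq_zero_iff a b hab _).1 h
      apply Subtype.ext
      funext i
      fin_cases i
      · have h3 : v.1 0 - a = 0 := congrFun this 0
        show v.1 0 = a
        linear_combination h3
      · have h3 : v.1 1 + 1 = 0 := congrFun this 1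
        show v.1 1 = -1
        linear_combination h3

end binorth


section selfemb
variable {F : Type*} [Field F] [Fintype F] (a b : F)
variable (hab : ∀ z₁ z₂ : F, z₁ ^ 2 + a * z₁ * z₂ + b * z₂ ^ 2 = 0 → z₁ = 0 ∧ z₂ = 0)

theorem quad_two_comb {V : Type*} [AddCommGroup V] [Module F V] (Q : QuadraticForm F V) (u v : V) (x y : F) :
    Q (x • u + y • v) = x ^ 2 * Q u + y ^ 2 * Q v + x * y * polar Q u v := by
  rw [quad_add, QuadraticMap.map_smul, QuadraticMap.map_smul, polar_smul_left, polar_smul_right]
  simp only [smul_eq_mul]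
  ring

/-- isometric embeddings of the binary form, as pairs -/
def embPairEquiv {V : Type*} [AddCommGroup V] [Module F V] (Q : QuadraticForm F V) :
    {s : Fin 2 → V // ∀ w : Fin 2 → F, Q (∑ i, w i • s i) = binForm a b w} ≃
      {p : V × V // Q p.1 = 1 ∧ Q p.2 = b ∧ polar Q p.1 p.2 = a} where
  toFun s := ⟨(s.1 0, s.1 1), by
    have h10 := s.2 ![1, 0]
    have h01 := s.2 ![0, 1]
    have h11 := s.2 ![1, 1]
    rw [Fin.sum_univ_two, binForm_apply] at h10 h01 h11
    simp only [Matrix.cons_val_zero, Matrix.cons_val_one, one_smul, zero_smul, add_zero, zero_add] at h10 h01 h11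
    refine ⟨by rw [h10]; ring, by rw [h01]; ring, ?_⟩
    rw [quad_add, h10, h01] at h11
    linear_combination h11⟩
  invFun p := ⟨![p.1.1, p.1.2], fun w => by
    rw [Fin.sum_univ_two, binForm_apply]
    simp only [Matrix.cons_val_zero, Matrix.cons_val_one]
    rw [quad_two_comb, p.2.1, p.2.2.1, p.2.2.2]
    ring⟩
  left_inv s := by
    apply Subtype.ext
    funext i
    fin_cases i <;> rfl
  right_inv p := rfl

include hab in
theorem card_partner_binForm (u : Fin 2 → F) (hu : binForm a b u = 1) :
    Nat.card {v : Fin 2 → F // binForm a b v = b ∧ polar (binForm a b) u v = a} = 2 := by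
  refine Eq.trans ?_ (card_binForm_roots a b hab)
  have h1 : mulB a b (conjB a u) u = ![1, 0] := by
    have := mulB_conjB_mulB a b u ![1, 0]
    rw [mulB_one, hu, one_smul] at this
    exact this
  apply Nat.card_congr
  refine ⟨fun v => ⟨mulB a b (conjB a u) v.1, by rw [binForm_mulB, binForm_conjB, hu, one_mul]; exact v.2.1, by
      rw [← h1, polar_mulB, binForm_conjB, hu, one_mul]; exact v.2.2⟩,
    fun v => ⟨mulB a b u v.1, by rw [binForm_mulB, hu, one_mul]; exact v.2.1, by
      have h2 := polar_mulB a b u ![1, 0] v.1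
      rw [mulB_one, hu, one_mul] at h2
      rw [h2]; exact v.2.2⟩, ?_, ?_⟩
  · intro v
    apply Subtype.ext
    show mulB a b u (mulB a b (conjB a u) v.1) = v.1
    rw [mulB_mulB_conjB, hu, one_smul]
  · intro v
    apply Subtype.ext
    show mulB a b (conjB a u) (mulB a b u v.1) = v.1
    rw [mulB_conjB_mulB, hu, one_smul]

include hab in
theorem card_selfEmb :
    Nat.card {s : Fin 2 → (Fin 2 → F) // ∀ w : Fin 2 → F, binForm a b (∑ i, w i • s i) = binForm a b w} =
      2 * (Fintype.card F + 1) := by
  classical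
  rw [Nat.card_congr (embPairEquiv a b (binForm a b))]
  let E : {p : (Fin 2 → F) × (Fin 2 → F) // binForm a b p.1 = 1 ∧ binForm a b p.2 = b ∧
      polar (binForm a b) p.1 p.2 = a} ≃
      Σ u : {u : Fin 2 → F // binForm a b u = 1}, {v : Fin 2 → F // binForm a b v = b ∧ polar (binForm a b) u.1 v = a} :=
    { toFun := fun p => ⟨⟨p.1.1, p.2.1⟩, ⟨p.1.2, p.2.2⟩⟩
      invFun := fun s => ⟨(s.1.1, s.2.1), s.1.2, s.2.2⟩
      left_inv := fun p => rfl
      right_inv := fun s => rfl }
  rw [Nat.card_congr E, Nat.card_sigma]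
  simp only [fun u : {u : Fin 2 → F // binForm a b u = 1} => card_partner_binForm a b hab u.1 u.2]
  rw [Finset.sum_const, Finset.card_univ, smul_eq_mul, ← Nat.card_eq_fintype_card, card_binForm_one a b hab, mul_comm]

end selfemb
end Cfsg.Agent.Lib.Helper15
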