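import Mathlib
import Cfsg.Agent.Lib.Helper15.QuadCount6
set_option autoImplicit false
namespace Cfsg.Agent.Lib.Helper15

open Matrix Module QuadraticMap

section graph
variable {F : Type*} [Field F] [Fintype F] (a b : F)
variable (hab : ∀ z₁ z₂ : F, z₁ ^ 2 + a * z₁ * z₂ + b * z₂ ^ 2 = 0 → z₁ = 0 ∧ z₂ = 0)
variable {W : Type*} [AddCommGroup W] [Module F W] [FiniteDimensional F W] (Q : QuadraticForm F W)

theorem nondegenerate_prod_neg (hQ : (polarBilin Q).Nondegenerate) (T : QuadraticForm F (Fin 2 → F))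
    (hT : (polarBilin T).Nondegenerate) : (polarBilin (Q.prod (-T))).Nondegenerate := by
  have hleft : ∀ u : W × (Fin 2 → F), (∀ v, polar (Q.prod (-T)) u v = 0) → u = 0 := by
    intro u hu
    apply Prod.ext
    · apply hQ.1
      intro w
      have := hu (w, 0)
      rw [polar_prod, polar_zero_right, add_zero] at this
      exact this
    · apply hT.1
      intro t
      have := hu (0, t)
      rw [polar_prod] at this
      have h2 : polar (⇑(-T)) u.2 t = - polar T u.2 t := by
        unfold polar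
        simp only [QuadraticMap.neg_apply]
        ring
      rw [h2, polar_zero_right, zero_add, neg_eq_zero] at this
      exact this
  constructor
  · intro u hu
    exact hleft u hu
  · intro u hu
    apply hleft u
    intro v
    rw [polar_comm]
    exact hu v

include hab in
/-- zero count of `Q ⊥ (-T)` when `Q` has the value counts of the anisotropic binary form `T` -/
theorem card_zero_prod_neg
    (hN : ∀ c, Nat.card {w : W // Q w = c} = Nat.card {z : Fin 2 → F // binForm a b z = c}) :
    Nat.card {u : W × (Fin 2 → F) // (Q.prod (-(binForm a b))) u = 0} =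
      1 + (Fintype.card F - 1) * (Fintype.card F + 1) ^ 2 := by
  classical
  have : Finite W := Module.finite_of_finite F
  let E : {u : W × (Fin 2 → F) // (Q.prod (-(binForm a b))) u = 0} ≃
      Σ c : F, {w : W // Q w = c} × {z : Fin 2 → F // binForm a b z = c} :=
    { toFun := fun u => ⟨Q u.1.1, ⟨u.1.1, rfl⟩, ⟨u.1.2, by
        have := u.2
        rw [QuadraticMap.prod_apply, QuadraticMap.neg_apply] at this
        linear_combination -this⟩⟩
      invFun := fun s => ⟨(s.2.1.1, s.2.2.1), by
        rw [QuadraticMap.prod_apply, QuadraticMap.neg_apply, s.2.1.2, s.2.2.2]; ring⟩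
      left_inv := fun u => rfl
      right_inv := fun s => by
        obtain ⟨c, ⟨w, hw⟩, ⟨z, hz⟩⟩ := s
        subst hw
        rfl }
  rw [Nat.card_congr E, Nat.card_sigma]
  simp only [Nat.card_prod, hN]
  rw [← Finset.add_sum_erase _ _ (Finset.mem_univ (0 : F)), card_binForm_zero a b hab]
  have h2 : ∀ c ∈ (Finset.univ : Finset F).erase 0, Nat.card {z : Fin 2 → F // binForm a b z = c} *
      Nat.card {z : Fin 2 → F // binForm a b z = c} = (Fintype.card F + 1) ^ 2 := by
    intro c hc
    rw [card_binForm_eq_one a b hab c (Finset.ne_of_mem_erase hc), card_binForm_one a b hab, _root_.sq]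
  rw [Finset.sum_congr rfl h2, Finset.sum_const, Finset.card_erase_of_mem (Finset.mem_univ _), Finset.card_univ,
    smul_eq_mul]

end graph



section graph2
variable {F : Type*} [Field F] [Fintype F] (a b : F)
variable (hab : ∀ z₁ z₂ : F, z₁ ^ 2 + a * z₁ * z₂ + b * z₂ ^ 2 = 0 → z₁ = 0 ∧ z₂ = 0)
variable {W : Type*} [AddCommGroup W] [Module F W] [FiniteDimensional F W] (Q : QuadraticForm F W)

theorem exists_singular_of_card {V : Type*} [AddCommGroup V] [Module F V] [Finite V] (Q : QuadraticForm F V)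
    (h : 1 < Nat.card {v : V // Q v = 0}) : ∃ v : V, v ≠ 0 ∧ Q v = 0 := by
  have : Fintype {v : V // Q v = 0} := Fintype.ofFinite _
  rw [Nat.card_eq_fintype_card] at h
  obtain ⟨x, hx⟩ := Fintype.exists_ne_of_one_lt_card h ⟨0, map_zero Q⟩
  exact ⟨x.1, fun h0 => hx (Subtype.ext h0), x.2⟩

include hab in
theorem exists_isometry_binForm (hQ : (polarBilin Q).Nondegenerate) (hd : finrank F W = 2)
    (hN : ∀ c, Nat.card {w : W // Q w = c} = Nat.card {z : Fin 2 → F // binForm a b z = c}) :
    ∃ Φ : (Fin 2 → F) →ₗ[F] W, ∀ x, Q (Φ x) = binForm a b x := by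
  classical
  have : Finite W := Module.finite_of_finite F
  set T := binForm a b with hTdef
  set QU := Q.prod (-T) with hQU
  have hq : 2 ≤ Fintype.card F := Fintype.one_lt_card
  have hQUapp : ∀ u : W × (Fin 2 → F), QU u = Q u.1 - T u.2 := by
    intro u
    rw [hQU, QuadraticMap.prod_apply, QuadraticMap.neg_apply]; ring
  have hnd : (polarBilin QU).Nondegenerate := nondegenerate_prod_neg Q hQ T (nondegenerate_binForm a b hab)
  have hNU := card_zero_prod_neg a b hab Q hN
  have hfr : finrank F (W × (Fin 2 → F)) = 4 := by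
    rw [Module.finrank_prod, hd, Module.finrank_pi, Fintype.card_fin]
  -- anisotropy of Q
  have hQan : ∀ w : W, Q w = 0 → w = 0 := by
    intro w hw
    have h1 := hN 0
    rw [card_binForm_zero a b hab, Nat.card_eq_one_iff_unique] at h1
    have := h1.1.elim ⟨w, hw⟩ ⟨0, map_zero Q⟩
    exact congrArg Subtype.val this
  -- first singular vector
  obtain ⟨e₁, he₁0, he₁⟩ := exists_singular_of_card QU (by
    rw [hNU]
    have : 0 < (Fintype.card F - 1) * (Fintype.card F + 1) ^ 2 := Nat.mul_pos (by omega) (Nat.pow_pos (by omega))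
    omega)
  obtain ⟨f₁, hf₁, hef⟩ := exists_hyperbolic_partner QU hnd e₁ he₁0 he₁
  have hfam := isHypFamily_pair e₁ f₁ he₁ hf₁ hef
  have hdec := card_value_decomp hfam 0
  have hfrP := finrank_hypPerp hfam
  have hcardP : Nat.card (hypPerp QU (fun _ : Fin 1 => e₁) (fun _ : Fin 1 => f₁)) = Fintype.card F ^ 2 := by
    have h2 : finrank F (hypPerp QU (fun _ : Fin 1 => e₁) (fun _ : Fin 1 => f₁)) = 2 := by omega
    calc Nat.card (hypPerp QU (fun _ : Fin 1 => e₁) (fun _ : Fin 1 => f₁))
        = Nat.card F ^ finrank F (hypPerp QU (fun _ : Fin 1 => e₁) (fun _ : Fin 1 => f₁)) :=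
          Module.natCard_eq_pow_finrank
      _ = Fintype.card F ^ 2 := by rw [h2, Nat.card_eq_fintype_card]
  rw [hNU, hcardP] at hdec
  -- second singular vector
  have hNP : 1 < Nat.card {w : hypPerp QU (fun _ : Fin 1 => e₁) (fun _ : Fin 1 => f₁) // QU w.1 = 0} := by
    obtain ⟨r, hr⟩ : ∃ r, Fintype.card F = r + 2 := ⟨Fintype.card F - 2, by omega⟩
    rw [hr] at hdec
    simp only [pow_one, pow_zero, mul_one, Nat.sub_self] at hdec
    have h3 : r + 2 - 1 = r + 1 := by omega
    rw [h3] at hdec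
    by_contra hcon
    push Not at hcon
    have : (r + 2) * Nat.card {w : hypPerp QU (fun _ : Fin 1 => e₁) (fun _ : Fin 1 => f₁) // QU w.1 = 0} ≤ (r + 2) * 1 :=
      Nat.mul_le_mul_left _ hcon
    nlinarith [hdec, this]
  obtain ⟨e₂', he₂0', he₂'⟩ := exists_singular_of_card (QU.comp (hypPerp QU (fun _ : Fin 1 => e₁) (fun _ : Fin 1 => f₁)).subtype) hNP
  have he₂0 : e₂'.1 ≠ 0 := fun h => he₂0' (Subtype.ext h)
  have he₂ : QU e₂'.1 = 0 := he₂'
  have hperp := (mem_hypPerp QU _ _ e₂'.1).1 e₂'.2 0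
  -- singular plane
  have hsing : ∀ x y : F, QU (x • e₁ + y • e₂'.1) = 0 := by
    intro x y
    rw [quad_two_comb, he₁, he₂, polar_comm, hperp.1]; ring
  have hgraph : ∀ x y : F, Q (x • e₁.1 + y • e₂'.1.1) = T (x • e₁.2 + y • e₂'.1.2) := by
    intro x y
    have := hsing x y
    rw [hQUapp] at this
    simp only [Prod.fst_add, Prod.smul_fst, Prod.snd_add, Prod.smul_snd] at this
    linear_combination this
  -- the matrix of second components
  let M : Matrix (Fin 2) (Fin 2) F := Matrix.of fun i j => ![e₁.2, e₂'.1.2] j i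
  have hM : ∀ c : Fin 2 → F, M *ᵥ c = c 0 • e₁.2 + c 1 • e₂'.1.2 := by
    intro c
    funext i
    simp only [M, mulVec, dotProduct, Fin.sum_univ_two, Matrix.of_apply, Matrix.cons_val_zero, Matrix.cons_val_one,
      Pi.add_apply, Pi.smul_apply, smul_eq_mul]
    ring
  have hMinj : Function.Injective M.mulVec := by
    intro c c' hcc
    have h0 : M *ᵥ (c - c') = 0 := by rw [mulVec_sub, hcc, sub_self]
    set d := c - c' with hd'
    rw [hM] at h0
    have h1 := hgraph (d 0) (d 1)
    rw [h0, map_zero] at h1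
    have h2 := hQan _ h1
    have h3 : d 0 • e₁ + d 1 • e₂'.1 = 0 := by
      apply Prod.ext
      · simpa using h2
      · simpa using h0
    have h4 : polar QU (d 0 • e₁ + d 1 • e₂'.1) f₁ = d 0 := by
      rw [polar_add_left, polar_smul_left, polar_smul_left, hef, hperp.2]
      simp
    rw [h3, polar_zero_left] at h4
    have h5 : d 1 • e₂'.1 = 0 := by rw [← h4, zero_smul, zero_add] at h3; exact h3
    have h6 : d 1 = 0 := (smul_eq_zero.1 h5).resolve_right he₂0
    have : d = 0 := by
      funext i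
      fin_cases i
      · exact h4.symm
      · exact h6
    exact sub_eq_zero.1 this
  have hMunit : IsUnit M := mulVec_injective_iff_isUnit.1 hMinj
  have hMdet : IsUnit M.det := (Matrix.isUnit_iff_isUnit_det M).1 hMunit
  refine ⟨(Fintype.linearCombination F ![e₁.1, e₂'.1.1]).comp (M⁻¹).mulVecLin, fun x => ?_⟩
  rw [LinearMap.comp_apply, Fintype.linearCombination_apply, Fin.sum_univ_two]
  simp only [Matrix.cons_val_zero, Matrix.cons_val_one, Matrix.mulVecLin_apply]
  rw [hgraph, ← hM, mulVec_mulVec, Matrix.mul_nonsing_inv M hMdet, one_mulVec]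

end graph2


section minusfinal
variable {F : Type*} [Field F] [Fintype F] (a b : F)
variable (hab : ∀ z₁ z₂ : F, z₁ ^ 2 + a * z₁ * z₂ + b * z₂ ^ 2 = 0 → z₁ = 0 ∧ z₂ = 0)

include hab in
theorem card_TEmb_binForm {V : Type*} [AddCommGroup V] [Module F V] [FiniteDimensional F V] (Q : QuadraticForm F V)
    (W : Submodule F V) (hW : (polarBilin (Q.comp W.subtype)).Nondegenerate) (hd : finrank F W = 2)
    (hN : ∀ c, Nat.card {w : W // Q w.1 = c} = Nat.card {z : Fin 2 → F // binForm a b z = c}) :
    Nat.card (TEmb (binForm a b) Q W) = 2 * (Fintype.card F + 1) := by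
  obtain ⟨Φ, hΦ⟩ := exists_isometry_binForm a b hab (Q.comp W.subtype) hW hd hN
  have hinj : Function.Injective Φ := by
    rw [← LinearMap.ker_eq_bot, LinearMap.ker_eq_bot']
    intro x hx
    have := hΦ x
    rw [hx, map_zero] at this
    exact (binForm_eq_zero_iff a b hab x).1 this.symm
  have hfr : finrank F (Fin 2 → F) = finrank F W := by rw [hd, Module.finrank_pi, Fintype.card_fin]
  have hsurj : Function.Surjective Φ := (LinearMap.injective_iff_surjective_of_finrank_eq_finrank hfr).1 hinj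
  let Φe : (Fin 2 → F) ≃ₗ[F] W := LinearEquiv.ofBijective Φ ⟨hinj, hsurj⟩
  have hΦe : ∀ x, Q ((Φe x : W) : V) = binForm a b x := hΦ
  rw [← card_selfEmb a b hab]
  apply Nat.card_congr
  refine ⟨fun t => ⟨fun i => Φe.symm (t.1 i), fun w => ?_⟩, fun s => ⟨fun i => Φe (s.1 i), fun w => ?_⟩, ?_, ?_⟩
  · have h1 : ∑ i, w i • Φe.symm (t.1 i) = Φe.symm (∑ i, w i • t.1 i) := by
      rw [map_sum]
      refine Finset.sum_congr rfl fun i _ => ?_
      rw [map_smul]
    rw [h1, ← hΦe, LinearEquiv.apply_symm_apply, ← t.2 w]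
    congr 1
  · have h1 : ∑ i, w i • ((Φe (s.1 i) : W) : V) = ((Φe (∑ i, w i • s.1 i) : W) : V) := by
      rw [map_sum, Submodule.coe_sum]
      refine Finset.sum_congr rfl fun i _ => ?_
      rw [map_smul]
      rfl
    rw [h1, hΦe, s.2 w]
  · intro t
    apply Subtype.ext
    funext i
    exact Φe.apply_symm_apply _
  · intro s
    apply Subtype.ext
    funext i
    exact Φe.symm_apply_apply _

include hab in
theorem card_isometryGroup_minus (k : ℕ) :
    Nat.card (Cfsg.isometryGroup F (Cfsg.quadFormMinus k F a b)) =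
      (∏ j ∈ Finset.range k, ((hypCount (Fintype.card F) 2 1 (k - j) - 1) * Fintype.card F ^ (2 * (k - j) + 2 - 2))) *
        (2 * (Fintype.card F + 1)) := by
  classical
  have hfun : Cfsg.quadFormMinus k F a b = ⇑(Qgen k (binForm a b)) := by
    funext v
    rw [Qgen_apply, binForm_apply]
    rfl
  have hT := nondegenerate_binForm a b hab
  rw [hfun, card_isometryGroup_Qgen k (binForm a b) hT (2 * (Fintype.card F + 1)), card_hypFam_Qgen k (binForm a b) hT,
    card_binForm_zero a b hab, Fintype.card_fin]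
  intro p
  apply card_TEmb_binForm a b hab
  · exact nondegenerate_hypPerp p.2 (nondegenerate_Qgen k (binForm a b) hT)
  · rw [finrank_perp_Qgen, Fintype.card_fin]
  · intro c
    exact card_value_perp_Qgen k (binForm a b) p c

end minusfinal


section arithminus

theorem hypCount_minus_sub_one (q i : ℕ) (hq : 1 ≤ q) :
    hypCount q 2 1 (i + 1) - 1 = (q ^ (i + 1) - 1) * (q ^ (i + 2) + 1) := by
  unfold hypCount
  obtain ⟨A, hA⟩ : ∃ A, q ^ (i + 1) = A + 1 := ⟨q ^ (i + 1) - 1, by have := Nat.one_le_pow (i + 1) q hq; omega⟩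
  rw [hA, Nat.add_sub_cancel, Nat.add_sub_cancel, mul_one, mul_assoc, ← pow_add]
  have : A + 1 + A * q ^ (i + 2) - 1 = A + A * q ^ (i + 2) := by omega
  rw [this]; ring

theorem minus_arith (q : ℕ) (hq : 1 ≤ q) (k : ℕ) :
    (∏ i ∈ Finset.range k, ((hypCount q 2 1 (i + 1) - 1) * q ^ (2 * (i + 1) + 2 - 2))) * (2 * (q + 1)) =
      2 * q ^ ((k + 1) * k) * (q ^ (k + 1) + 1) * ∏ i ∈ Finset.range k, (q ^ (2 * (i + 1)) - 1) := by
  induction k with
  | zero => simp
  | succ k ih =>
    rw [Finset.prod_range_succ, Finset.prod_range_succ, mul_right_comm, ih, hypCount_minus_sub_one q k hq]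
    obtain ⟨A, hA⟩ : ∃ A, q ^ (k + 1) = A + 1 := ⟨q ^ (k + 1) - 1, by have := Nat.one_le_pow (k + 1) q hq; omega⟩
    have h2 : q ^ (2 * (k + 1)) - 1 = A * (A + 2) := by
      rw [two_mul, pow_add, hA]
      have : (A + 1) * (A + 1) = A * (A + 2) + 1 := by ring
      rw [this, Nat.add_sub_cancel]
    have h3 : 2 * (k + 1) + 2 - 2 = 2 * (k + 1) := by omega
    have h4 : q ^ ((k + 1 + 1) * (k + 1)) = q ^ ((k + 1) * k) * q ^ (2 * (k + 1)) := by
      rw [← pow_add]; congr 1; ring
    rw [h2, h3, h4, hA, Nat.add_sub_cancel]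
    ring

end arithminus
end Cfsg.Agent.Lib.Helper15
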