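import Mathlib
set_option autoImplicit false
set_option linter.unusedSimpArgs false
namespace Cfsg.Agent.Lib.Helper15

section klein
variable {P : Type*} [Group P]

/-- the four-group generated by two commuting involutions -/
def kleinSub (u v : P) (hu : u * u = 1) (hv : v * v = 1) (huv : u * v = v * u) : Subgroup P where
  carrier := {x | x = 1 ∨ x = u ∨ x = v ∨ x = u * v}
  mul_mem' := by
    have e1 : u * (u * v) = v := by rw [← mul_assoc, hu, one_mul]
    have e2 : v * (u * v) = u := by rw [← mul_assoc, ← huv, mul_assoc, hv, mul_one]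
    have e3 : u * v * u = v := by rw [mul_assoc, ← huv, ← mul_assoc, hu, one_mul]
    have e4 : u * v * v = u := by rw [mul_assoc, hv, mul_one]
    have e5 : u * v * (u * v) = 1 := by rw [mul_assoc, e2, hu]
    have e6 : v * u = u * v := huv.symm
    intro a b ha hb
    simp only [Set.mem_ofPred_eq] at ha hb ⊢
    rcases ha with ha | ha | ha | ha <;> rcases hb with hb | hb | hb | hb <;> rw [ha, hb] <;>
    first
      | (apply Or.inl; simp only [hu, hv, e1, e2, e3, e4, e5, e6, mul_one, one_mul]; done)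
      | (apply Or.inr; apply Or.inl; simp only [hu, hv, e1, e2, e3, e4, e5, e6, mul_one, one_mul]; done)
      | (apply Or.inr; apply Or.inr; apply Or.inl; simp only [hu, hv, e1, e2, e3, e4, e5, e6, mul_one, one_mul]; done)
      | (apply Or.inr; apply Or.inr; apply Or.inr; simp only [hu, hv, e1, e2, e3, e4, e5, e6, mul_one, one_mul]; done)
  one_mem' := Or.inl rfl
  inv_mem' := by
    have e5 : u * v * (u * v) = 1 := by
      rw [mul_assoc, ← mul_assoc v, ← huv, mul_assoc u, hv, mul_one, hu]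
    intro a ha
    simp only [Set.mem_ofPred_eq] at ha ⊢
    rcases ha with ha | ha | ha | ha <;> rw [ha]
    · left; exact inv_one
    · right; left; exact inv_eq_of_mul_eq_one_right hu
    · right; right; left; exact inv_eq_of_mul_eq_one_right hv
    · right; right; right; exact inv_eq_of_mul_eq_one_right e5

theorem mem_kleinSub (u v : P) (hu : u * u = 1) (hv : v * v = 1) (huv : u * v = v * u) (x : P) :
    x ∈ kleinSub u v hu hv huv ↔ x = 1 ∨ x = u ∨ x = v ∨ x = u * v := Iff.rfl

theorem card_kleinSub (u v : P) (hu : u * u = 1) (hv : v * v = 1) (huv : u * v = v * u)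
    (hu1 : u ≠ 1) (hv1 : v ≠ 1) (hne : u ≠ v) : Nat.card (kleinSub u v hu hv huv) = 4 := by
  have hset : ((kleinSub u v hu hv huv : Subgroup P) : Set P) = {1, u, v, u * v} := by
    ext x
    simp only [SetLike.mem_coe, mem_kleinSub, Set.mem_insert_iff, Set.mem_singleton_iff]
  have h1 : u * v ≠ 1 := by
    intro h
    apply hne
    calc u = u * (v * v) := by rw [hv, mul_one]
      _ = (u * v) * v := by rw [mul_assoc]
      _ = v := by rw [h, one_mul]
  have h2 : u * v ≠ u := by
    intro h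
    exact hv1 (mul_left_cancel (h.trans (mul_one u).symm))
  have h3 : u * v ≠ v := by
    intro h
    exact hu1 (mul_right_cancel (h.trans (one_mul v).symm))
  show Nat.card ((kleinSub u v hu hv huv : Subgroup P) : Set P) = 4
  rw [hset, Nat.card_coe_set_eq, Set.ncard_insert_of_notMem, Set.ncard_insert_of_notMem, Set.ncard_pair]
  · exact fun h => h3 h.symm
  · simp only [Set.mem_insert_iff, Set.mem_singleton_iff, not_or]
    exact ⟨hne, fun h => h2 h.symm⟩
  · simp only [Set.mem_insert_iff, Set.mem_singleton_iff, not_or]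
    exact ⟨fun h => hu1 h.symm, fun h => hv1 h.symm, fun h => h1 h.symm⟩

theorem isKleinFour_kleinSub (u v : P) (hu : u * u = 1) (hv : v * v = 1) (huv : u * v = v * u)
    (hu1 : u ≠ 1) (hv1 : v ≠ 1) (hne : u ≠ v) : IsKleinFour (kleinSub u v hu hv huv) where
  card_four := card_kleinSub u v hu hv huv hu1 hv1 hne
  exponent_two := by
    have hcard := card_kleinSub u v hu hv huv hu1 hv1 hne
    have hdvd : Monoid.exponent (kleinSub u v hu hv huv) ∣ 2 := by
      apply Monoid.exponent_dvd_of_forall_pow_eq_one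
      rintro ⟨x, hx⟩
      apply Subtype.ext
      show x ^ 2 = 1
      rw [pow_two]
      rcases hx with hx | hx | hx | hx <;> rw [hx]
      · exact one_mul 1
      · exact hu
      · exact hv
      · rw [mul_assoc, ← mul_assoc v, ← huv, mul_assoc u, hv, mul_one, hu]
    rcases (Nat.dvd_prime Nat.prime_two).1 hdvd with h | h
    · exfalso
      rw [Monoid.exp_eq_one_iff] at h
      have := Nat.card_of_subsingleton (1 : kleinSub u v hu hv huv)
      omega
    · exact h

/-- a Klein four-subgroup is generated by any two distinct non-trivial elements -/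
theorem eq_kleinSub_of_isKleinFour (V : Subgroup P) (hV : IsKleinFour V) (u v : P) (huV : u ∈ V) (hvV : v ∈ V)
    (hu1 : u ≠ 1) (hv1 : v ≠ 1) (hne : u ≠ v) :
    ∃ (hu : u * u = 1) (hv : v * v = 1) (huv : u * v = v * u), V = kleinSub u v hu hv huv := by
  have hu : u * u = 1 := by
    have := IsKleinFour.mul_self (⟨u, huV⟩ : V)
    exact congrArg Subtype.val this
  have hv : v * v = 1 := by
    have := IsKleinFour.mul_self (⟨v, hvV⟩ : V)
    exact congrArg Subtype.val this
  have huv : u * v = v * u := by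
    have := mul_comm_of_exponent_two (IsKleinFour.exponent_two (G := V)) (⟨u, huV⟩ : V) ⟨v, hvV⟩
    exact congrArg Subtype.val this
  refine ⟨hu, hv, huv, ?_⟩
  symm
  have : Finite V := IsKleinFour.instFinite
  apply Subgroup.eq_of_le_of_card_ge
  · intro x hx
    rcases hx with hx | hx | hx | hx <;> rw [hx]
    · exact V.one_mem
    · exact huV
    · exact hvV
    · exact V.mul_mem huV hvV
  · rw [card_kleinSub u v hu hv huv hu1 hv1 hne, IsKleinFour.card_four]

theorem card_offdiag_ne {α : Type*} (e : α) (h4 : Nat.card α = 4) :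
    Nat.card {p : α × α // p.1 ≠ e ∧ p.2 ≠ e ∧ p.1 ≠ p.2} = 6 := by
  classical
  have : Finite α := Nat.finite_of_card_ne_zero (by omega)
  haveI := Fintype.ofFinite α
  rw [Nat.card_eq_fintype_card, Fintype.card_subtype]
  have e1 : (Finset.univ.filter (fun p : α × α => p.1 ≠ e ∧ p.2 ≠ e ∧ p.1 ≠ p.2)) =
      (Finset.univ.erase e).offDiag := by
    ext ⟨a, b⟩
    simp only [Finset.mem_filter, Finset.mem_univ, true_and, Finset.mem_offDiag, Finset.mem_erase, and_true]
  rw [e1, Finset.offDiag_card, Finset.card_erase_of_mem (Finset.mem_univ e), Finset.card_univ,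
    ← Nat.card_eq_fintype_card, h4]

/-- ordered pairs of distinct commuting involutions -/
def kleinPairs (P : Type*) [Group P] : Set (P × P) :=
  {p | p.1 ≠ 1 ∧ p.2 ≠ 1 ∧ p.1 ≠ p.2 ∧ p.1 * p.1 = 1 ∧ p.2 * p.2 = 1 ∧ p.1 * p.2 = p.2 * p.1}

theorem card_kleinPairs [Finite P] :
    Nat.card (kleinPairs P) = 6 * Nat.card {V : Subgroup P // IsKleinFour V} := by
  classical
  haveI := Fintype.ofFinite {V : Subgroup P // IsKleinFour V}
  let Φ : (Σ V : {V : Subgroup P // IsKleinFour V},
      {p : V.1 × V.1 // p.1 ≠ 1 ∧ p.2 ≠ 1 ∧ p.1 ≠ p.2}) → kleinPairs P :=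
    fun x => ⟨((x.2.1.1 : P), (x.2.1.2 : P)), by
      obtain ⟨⟨V, hV⟩, ⟨⟨u, v⟩, h1, h2, h3⟩⟩ := x
      obtain ⟨hu, hv, huv, -⟩ := eq_kleinSub_of_isKleinFour V hV u.1 v.1 u.2 v.2
        (fun h => h1 (Subtype.ext h)) (fun h => h2 (Subtype.ext h)) (fun h => h3 (Subtype.ext h))
      exact ⟨fun h => h1 (Subtype.ext h), fun h => h2 (Subtype.ext h), fun h => h3 (Subtype.ext h), hu, hv, huv⟩⟩
  have hbij : Function.Bijective Φ := by
    constructor
    · rintro ⟨⟨V, hV⟩, ⟨⟨u, v⟩, h1, h2, h3⟩⟩ ⟨⟨V', hV'⟩, ⟨⟨u', v'⟩, h1', h2', h3'⟩⟩ h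
      have h' := congrArg Subtype.val h
      simp only [Φ, Prod.mk.injEq] at h'
      obtain ⟨hu, hv⟩ := h'
      obtain ⟨a1, a2, a3, e1⟩ := eq_kleinSub_of_isKleinFour V hV u.1 v.1 u.2 v.2
        (fun h => h1 (Subtype.ext h)) (fun h => h2 (Subtype.ext h)) (fun h => h3 (Subtype.ext h))
      obtain ⟨b1, b2, b3, e2⟩ := eq_kleinSub_of_isKleinFour V' hV' u'.1 v'.1 u'.2 v'.2
        (fun h => h1' (Subtype.ext h)) (fun h => h2' (Subtype.ext h)) (fun h => h3' (Subtype.ext h))
      have hVV : V = V' := by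
        rw [e1, e2]
        congr 1
      subst hVV
      have hu' : u = u' := Subtype.ext hu
      have hv' : v = v' := Subtype.ext hv
      subst hu' hv'
      rfl
    · rintro ⟨⟨u, v⟩, h1, h2, h3, hu, hv, huv⟩
      refine ⟨⟨⟨kleinSub u v hu hv huv, isKleinFour_kleinSub u v hu hv huv h1 h2 h3⟩,
        ⟨(⟨u, Or.inr (Or.inl rfl)⟩, ⟨v, Or.inr (Or.inr (Or.inl rfl))⟩), ?_, ?_, ?_⟩⟩, rfl⟩
      · exact fun h => h1 (congrArg Subtype.val h)
      · exact fun h => h2 (congrArg Subtype.val h)
      · exact fun h => h3 (congrArg Subtype.val h)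
  rw [← Nat.card_congr (Equiv.ofBijective Φ hbij), Nat.card_sigma]
  have : ∀ V : {V : Subgroup P // IsKleinFour V},
      Nat.card {p : V.1 × V.1 // p.1 ≠ 1 ∧ p.2 ≠ 1 ∧ p.1 ≠ p.2} = 6 := by
    rintro ⟨V, hV⟩
    exact card_offdiag_ne (1 : V) hV.card_four
  simp only [this, Finset.sum_const, Finset.card_univ, smul_eq_mul, Nat.card_eq_fintype_card]
  ring

end klein
end Cfsg.Agent.Lib.Helper15
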