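import Mathlib
set_option autoImplicit false
namespace Cfsg.Agent.Lib.Helper15

section dicyclic
variable {N : Type*} [Group N]

theorem commute_card_central [Finite N] (T : Subgroup N)
    (hcomm : ∀ x ∈ T, ∀ y ∈ T, x * y = y * x)
    (hinv : ∀ g, g ∉ T → ∀ h ∈ T, g * h * g⁻¹ = h⁻¹) (g : N) (hg : g ∈ T) (hgg : g * g = 1) :
    Nat.card {b : N // Commute g b} = Nat.card N := by
  apply Nat.card_congr
  refine Equiv.subtypeUnivEquiv ?_
  intro b
  by_cases hb : b ∈ T
  · exact hcomm g hg b hb
  · have h1 := hinv b hb g hg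
    have h2 : g⁻¹ = g := inv_eq_of_mul_eq_one_left hgg
    rw [h2] at h1
    show g * b = b * g
    calc g * b = (b * g * b⁻¹) * b := by rw [h1]
      _ = b * g := by group

theorem commute_card_noncentral (T : Subgroup N)
    (hcomm : ∀ x ∈ T, ∀ y ∈ T, x * y = y * x)
    (hinv : ∀ g, g ∉ T → ∀ h ∈ T, g * h * g⁻¹ = h⁻¹) (g : N) (hg : g ∈ T) (hgg : g * g ≠ 1) :
    Nat.card {b : N // Commute g b} = Nat.card T := by
  apply Nat.card_congr
  refine Equiv.subtypeEquivRight ?_
  intro b
  constructor
  · intro hc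
    by_contra hb
    have h1 := hinv b hb g hg
    have h2 : b * g * b⁻¹ = g := by
      have : g * b = b * g := hc
      rw [← this]; group
    rw [h2] at h1
    apply hgg
    calc g * g = g * g⁻¹ := by rw [← h1]
      _ = 1 := mul_inv_cancel g
  · intro hb
    exact hcomm g hg b hb

theorem commute_card_outside [Finite N] (T : Subgroup N) (hidx : T.index = 2)
    (hinv : ∀ g, g ∉ T → ∀ h ∈ T, g * h * g⁻¹ = h⁻¹) (g : N) (hg : g ∉ T) :
    Nat.card {b : N // Commute g b} = 2 * Nat.card {h : N // h ∈ T ∧ h * h = 1} := by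
  have key : ∀ h ∈ T, (Commute g h ↔ h * h = 1) := by
    intro h hh
    have h1 := hinv g hg h hh
    constructor
    · intro hc
      have h2 : g * h * g⁻¹ = h := by
        have : g * h = h * g := hc
        rw [this]; group
      rw [h2] at h1
      calc h * h = h * h⁻¹ := by rw [← h1]
        _ = 1 := mul_inv_cancel h
    · intro hhh
      have h2 : h⁻¹ = h := inv_eq_of_mul_eq_one_left hhh
      rw [h2] at h1
      show g * h = h * g
      calc g * h = (g * h * g⁻¹) * g := by group
        _ = h * g := by rw [h1]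
  have hmem : ∀ a b : N, a * b ∈ T ↔ (a ∈ T ↔ b ∈ T) := fun a b => Subgroup.mul_mem_iff_of_index_two hidx
  have hginv : g⁻¹ ∉ T := fun h => hg (by simpa using T.inv_mem h)
  rw [two_mul, ← Nat.card_sum]
  symm
  apply Nat.card_congr
  refine Equiv.ofBijective (fun x => Sum.elim (fun h => ⟨h.1, (key h.1 h.2.1).2 h.2.2⟩)
    (fun h => ⟨g * h.1, ?_⟩) x) ⟨?_, ?_⟩
  · have hc : Commute g h.1 := (key h.1 h.2.1).2 h.2.2
    exact (Commute.refl g).mul_right hc
  · rintro (⟨h, hh⟩ | ⟨h, hh⟩) (⟨h', hh'⟩ | ⟨h', hh'⟩) heq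
    · simp only [Sum.elim_inl, Subtype.mk.injEq] at heq
      subst heq; rfl
    · simp only [Sum.elim_inl, Sum.elim_inr, Subtype.mk.injEq] at heq
      exfalso
      have : g * h' ∈ T := heq ▸ hh.1
      rw [hmem] at this
      exact hg (this.2 hh'.1)
    · simp only [Sum.elim_inl, Sum.elim_inr, Subtype.mk.injEq] at heq
      exfalso
      have : g * h ∈ T := heq ▸ hh'.1
      rw [hmem] at this
      exact hg (this.2 hh.1)
    · simp only [Sum.elim_inr, Subtype.mk.injEq] at heq
      have := mul_left_cancel heq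
      subst this; rfl
  · rintro ⟨b, hb⟩
    by_cases hbT : b ∈ T
    · exact ⟨Sum.inl ⟨b, hbT, (key b hbT).1 hb⟩, rfl⟩
    · have h1 : g⁻¹ * b ∈ T := by
        rw [hmem]
        exact ⟨fun h => absurd h hginv, fun h => absurd h hbT⟩
      have h2 : Commute g (g⁻¹ * b) := (Commute.refl g).inv_right.mul_right hb
      refine ⟨Sum.inr ⟨g⁻¹ * b, h1, (key _ h1).1 h2⟩, ?_⟩
      simp

theorem card_conjClasses_of_inverting [Finite N] (T : Subgroup N)
    (hcomm : ∀ x ∈ T, ∀ y ∈ T, x * y = y * x) (hidx : T.index = 2)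
    (hinv : ∀ g, g ∉ T → ∀ h ∈ T, g * h * g⁻¹ = h⁻¹)
    (hsq : Nat.card {h : N // h ∈ T ∧ h * h = 1} = 2) :
    Nat.card (ConjClasses N) = Nat.card T / 2 + 3 := by
  classical
  haveI : Fintype N := Fintype.ofFinite N
  have hN : Nat.card N = 2 * Nat.card T := by
    rw [← Subgroup.card_mul_index T, hidx, mul_comm]
  have hTpos : 0 < Nat.card T := Nat.card_pos
  have hmain := card_comm_eq_card_conjClasses_mul_card N
  rw [Nat.card_congr (Equiv.subtypeProdEquivSigmaSubtype (Commute (S := N))), Nat.card_sigma] at hmain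
  have hterm : ∀ g : N, Nat.card {b : N // Commute g b} =
      (if g ∈ T ∧ g * g = 1 then 2 * Nat.card T else 0) + (if g ∈ T ∧ ¬ g * g = 1 then Nat.card T else 0) +
        (if g ∉ T then 4 else 0) := by
    intro g
    by_cases hg : g ∈ T
    · by_cases hgg : g * g = 1
      · rw [commute_card_central T hcomm hinv g hg hgg, hN]
        simp [hg, hgg]
      · rw [commute_card_noncentral T hcomm hinv g hg hgg]
        simp [hg, hgg]
    · rw [commute_card_outside T hidx hinv g hg, hsq]
      simp [hg]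
  rw [Finset.sum_congr rfl (fun g _ => hterm g), Finset.sum_add_distrib, Finset.sum_add_distrib] at hmain
  simp only [Finset.sum_ite, Finset.sum_const_zero, add_zero, Finset.sum_const, smul_eq_mul] at hmain
  have c1 : (Finset.univ.filter (fun g : N => g ∈ T ∧ g * g = 1)).card = 2 := by
    rw [← hsq, Nat.card_eq_fintype_card, Fintype.card_subtype]
  have cT : (Finset.univ.filter (fun g : N => g ∈ T)).card = Nat.card T := by
    rw [Nat.card_eq_fintype_card, ← Fintype.card_subtype]
  have c2 : (Finset.univ.filter (fun g : N => g ∈ T ∧ ¬ g * g = 1)).card = Nat.card T - 2 := by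
    have hdisj : (Finset.univ.filter (fun g : N => g ∈ T)) =
        (Finset.univ.filter (fun g : N => g ∈ T ∧ g * g = 1)) ∪ (Finset.univ.filter (fun g : N => g ∈ T ∧ ¬ g * g = 1)) := by
      ext g
      simp only [Finset.mem_filter, Finset.mem_univ, true_and, Finset.mem_union]
      tauto
    have hd : Disjoint (Finset.univ.filter (fun g : N => g ∈ T ∧ g * g = 1))
        (Finset.univ.filter (fun g : N => g ∈ T ∧ ¬ g * g = 1)) := by
      rw [Finset.disjoint_filter]
      intro g _ h1 h2
      exact h2.2 h1.2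
    have := congrArg Finset.card hdisj
    rw [Finset.card_union_of_disjoint hd, cT, c1] at this
    omega
  have c3 : (Finset.univ.filter (fun g : N => g ∉ T)).card = Nat.card T := by
    have h1 := Finset.card_filter_add_card_filter_not (s := (Finset.univ : Finset N)) (fun g : N => g ∈ T)
    rw [cT, Finset.card_univ, ← Nat.card_eq_fintype_card, hN] at h1
    omega
  rw [c1, c2, c3, hN] at hmain
  have h2T : 2 ≤ Nat.card T := by
    have hsub : (Finset.univ.filter (fun g : N => g ∈ T ∧ g * g = 1)) ⊆ (Finset.univ.filter (fun g : N => g ∈ T)) := by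
      intro g hg
      rw [Finset.mem_filter] at hg ⊢
      exact ⟨hg.1, hg.2.1⟩
    have := Finset.card_le_card hsub
    rw [c1, cT] at this
    exact this
  set t := Nat.card T with ht
  set k := Nat.card (ConjClasses N) with hk
  -- 2 * (2 t) + (t - 2) * t + t * 4 = k * (2 t)
  obtain ⟨r, hr⟩ := Nat.exists_eq_add_of_le h2T
  rw [hr] at hmain ⊢
  rw [Nat.add_sub_cancel_left] at hmain
  have h3 : (2 + r) * (r + 8) = (2 + r) * (2 * k) := by nlinarith [hmain]
  have h4 : r + 8 = 2 * k := Nat.eq_of_mul_eq_mul_left (by omega) h3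
  omega

end dicyclic
end Cfsg.Agent.Lib.Helper15
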