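import Mathlib
import Cfsg.Agent.Lib.Helper15.QuadCount7
import Cfsg.Agent.Lib.Helper10.DihedralRecog
set_option autoImplicit false
namespace Cfsg.Agent.Lib.Helper15

open Matrix

theorem dihedral_of_card {G : Type*} [Group G] (n : ℕ) [NeZero n] (a x : G)
    (hx : orderOf x = n) (ha2 : a * a = 1) (hinv : a * x * a⁻¹ = x⁻¹)
    (ha : a ∉ Subgroup.zpowers x) (hcard : Nat.card G = 2 * n) : Nonempty (G ≃* DihedralGroup n) := by
  obtain ⟨e⟩ := Cfsg.Agent.Lib.Helper10.nonempty_mulEquiv_dihedralGroup n a x hx ha2 hinv ha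
  have hfin : Finite G := Nat.finite_of_card_ne_zero (by rw [hcard]; have := NeZero.ne n; omega)
  have hH : Nat.card ↥(Subgroup.zpowers a ⊔ Subgroup.zpowers x) = Nat.card G := by
    rw [Nat.card_congr e.toEquiv, DihedralGroup.nat_card, hcard]
  have htop := Subgroup.eq_top_of_card_eq _ hH
  exact ⟨(Subgroup.topEquiv.symm.trans (MulEquiv.subgroupCongr htop.symm)).trans e⟩

section plus2
variable {F : Type*} [Field F]

/-- diagonal entries `(t, t⁻¹)` -/
def torusFun : Fˣ →* (Fin 1 ⊕ Fin 1 → F) where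
  toFun t := Sum.elim (fun _ => (t : F)) (fun _ => ((t⁻¹ : Fˣ) : F))
  map_one' := by
    funext i
    rcases i with i | i <;> simp
  map_mul' s t := by
    funext i
    rcases i with i | i <;> simp [mul_comm]

/-- the torus `t ↦ diag(t, t⁻¹)` in `GL₂` -/
def torusGL : Fˣ →* GL (Fin 1 ⊕ Fin 1) F :=
  (Units.map (Matrix.diagonalRingHom (Fin 1 ⊕ Fin 1) F).toMonoidHom).comp (MonoidHom.toHomUnits torusFun)

theorem torusGL_coe (t : Fˣ) : ((torusGL t : GL (Fin 1 ⊕ Fin 1) F) : Matrix (Fin 1 ⊕ Fin 1) (Fin 1 ⊕ Fin 1) F)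
    = Matrix.diagonal (Sum.elim (fun _ => (t : F)) (fun _ => ((t⁻¹ : Fˣ) : F))) := rfl

theorem torusGL_mem (t : Fˣ) : torusGL t ∈ Cfsg.isometryGroup F (Cfsg.quadFormPlus 1 F) := by
  rw [mem_isometryGroup_iff]
  intro u
  rw [torusGL_coe]
  unfold Cfsg.quadFormPlus
  refine Finset.sum_congr rfl (fun i _ => ?_)
  simp only [Matrix.mulVec_diagonal, Sum.elim_inl, Sum.elim_inr]
  have : (t : F) * ((t⁻¹ : Fˣ) : F) = 1 := by rw [← Units.val_mul, mul_inv_cancel, Units.val_one]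
  calc (t : F) * u (Sum.inl i) * (((t⁻¹ : Fˣ) : F) * u (Sum.inr i))
      = ((t : F) * ((t⁻¹ : Fˣ) : F)) * (u (Sum.inl i) * u (Sum.inr i)) := by ring
    _ = _ := by rw [this, one_mul]

/-- the torus inside the isometry group -/
def torusIso : Fˣ →* Cfsg.isometryGroup F (Cfsg.quadFormPlus 1 F) :=
  MonoidHom.codRestrict torusGL _ torusGL_mem

theorem torusIso_injective : Function.Injective (torusIso (F := F)) := by
  intro s t h
  have h1 : ((torusGL s : GL (Fin 1 ⊕ Fin 1) F) : Matrix (Fin 1 ⊕ Fin 1) (Fin 1 ⊕ Fin 1) F) = (torusGL t : GL (Fin 1 ⊕ Fin 1) F) := by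
    have := congrArg (fun g : Cfsg.isometryGroup F (Cfsg.quadFormPlus 1 F) => ((g : GL (Fin 1 ⊕ Fin 1) F) : Matrix (Fin 1 ⊕ Fin 1) (Fin 1 ⊕ Fin 1) F)) h
    exact this
  rw [torusGL_coe, torusGL_coe] at h1
  have h2 := congrFun (Matrix.diagonal_injective h1) (Sum.inl 0)
  simp only [Sum.elim_inl] at h2
  exact Units.ext h2

/-- the swap matrix -/
def swapMat (F : Type*) [Field F] : Matrix (Fin 1 ⊕ Fin 1) (Fin 1 ⊕ Fin 1) F := Matrix.fromBlocks 0 1 1 0

theorem swapMat_mul_self : swapMat F * swapMat F = 1 := by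
  unfold swapMat
  rw [Matrix.fromBlocks_multiply]
  simp [Matrix.fromBlocks_one]

def swapGL (F : Type*) [Field F] : GL (Fin 1 ⊕ Fin 1) F := ⟨swapMat F, swapMat F, swapMat_mul_self, swapMat_mul_self⟩

theorem swapGL_mem : swapGL F ∈ Cfsg.isometryGroup F (Cfsg.quadFormPlus 1 F) := by
  rw [mem_isometryGroup_iff]
  intro u
  show Cfsg.quadFormPlus 1 F (swapMat F *ᵥ u) = _
  unfold swapMat
  rw [Matrix.fromBlocks_mulVec]
  unfold Cfsg.quadFormPlus
  refine Finset.sum_congr rfl (fun i _ => ?_)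
  simp only [Sum.elim_inl, Sum.elim_inr, Matrix.zero_mulVec, Matrix.one_mulVec, zero_add, add_zero, Function.comp_apply]
  exact mul_comm _ _

def swapIso (F : Type*) [Field F] : Cfsg.isometryGroup F (Cfsg.quadFormPlus 1 F) := ⟨swapGL F, swapGL_mem⟩

theorem swapIso_mul_self : swapIso F * swapIso F = 1 := by
  apply Subtype.ext
  apply Units.ext
  exact swapMat_mul_self

theorem swapIso_conj (t : Fˣ) : swapIso F * torusIso t * (swapIso F)⁻¹ = (torusIso t)⁻¹ := by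
  have h1 : (swapIso F)⁻¹ = swapIso F := inv_eq_of_mul_eq_one_left swapIso_mul_self
  rw [h1, ← map_inv]
  apply Subtype.ext
  apply Units.ext
  show swapMat F * ((torusGL t : GL (Fin 1 ⊕ Fin 1) F) : Matrix (Fin 1 ⊕ Fin 1) (Fin 1 ⊕ Fin 1) F) * swapMat F = ((torusGL t⁻¹ : GL (Fin 1 ⊕ Fin 1) F) : Matrix (Fin 1 ⊕ Fin 1) (Fin 1 ⊕ Fin 1) F)
  rw [torusGL_coe, torusGL_coe]
  unfold swapMat
  ext i j
  rcases i with i | i <;> rcases j with j | j <;> obtain rfl := Subsingleton.elim i 0 <;> obtain rfl := Subsingleton.elim j 0 <;>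
    simp [Matrix.mul_apply, Fintype.sum_sum_type, Matrix.diagonal_apply]

theorem swapIso_not_mem (g : Fˣ) : swapIso F ∉ Subgroup.zpowers (torusIso g) := by
  rintro ⟨k, hk⟩
  change torusIso g ^ k = swapIso F at hk
  rw [← map_zpow] at hk
  have h1 := congrArg (fun g : Cfsg.isometryGroup F (Cfsg.quadFormPlus 1 F) => ((g : GL (Fin 1 ⊕ Fin 1) F) : Matrix (Fin 1 ⊕ Fin 1) (Fin 1 ⊕ Fin 1) F) (Sum.inl 0) (Sum.inr 0)) hk
  change ((torusGL (g ^ k) : GL (Fin 1 ⊕ Fin 1) F) : Matrix (Fin 1 ⊕ Fin 1) (Fin 1 ⊕ Fin 1) F) (Sum.inl 0) (Sum.inr 0) = swapMat F (Sum.inl 0) (Sum.inr 0) at h1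
  rw [torusGL_coe] at h1
  unfold swapMat at h1
  simp at h1

theorem plus2_dihedral [Fintype F] : Nonempty (Cfsg.isometryGroup F (Cfsg.quadFormPlus 1 F) ≃* DihedralGroup (Fintype.card F - 1)) := by
  classical
  obtain ⟨g, hg⟩ := IsCyclic.exists_generator (α := Fˣ)
  have hq : 2 ≤ Fintype.card F := Fintype.one_lt_card
  have : NeZero (Fintype.card F - 1) := ⟨by omega⟩
  refine dihedral_of_card (Fintype.card F - 1) (swapIso F) (torusIso g) ?_ swapIso_mul_self (swapIso_conj g) (swapIso_not_mem g) ?_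
  · rw [orderOf_injective torusIso torusIso_injective, orderOf_eq_card_of_forall_mem_zpowers hg, Nat.card_eq_fintype_card, Fintype.card_units]
  · rw [card_isometryGroup_plus, Finset.prod_range_one]
    unfold hypCount
    simp only [Nat.sub_zero, pow_one, Nat.sub_self, pow_zero, mul_one]
    omega

end plus2
end Cfsg.Agent.Lib.Helper15
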