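import Mathlib
import Cfsg.Agent.Lib.Helper15.QuadCount7
import Cfsg.Agent.Lib.Helper15.DihOrthPlus
set_option autoImplicit false
namespace Cfsg.Agent.Lib.Helper15

open Matrix

section reindexEquiv
variable {F : Type*} [Field F]

theorem mem_isometryGroup_reindex_iff {ι ι' : Type} [Fintype ι] [DecidableEq ι] [Fintype ι'] [DecidableEq ι']
    (e : ι ≃ ι') (Qf : (ι → F) → F) (Qf' : (ι' → F) → F) (h : ∀ v : ι' → F, Qf' v = Qf (v ∘ e)) (g : GL ι F) :
    g ∈ Cfsg.isometryGroup F Qf ↔
      (Units.mapEquiv (Matrix.reindexAlgEquiv F F e).toMulEquiv) g ∈ Cfsg.isometryGroup F Qf' := by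
  rw [mem_isometryGroup_iff, mem_isometryGroup_iff]
  have hval : ((Units.mapEquiv (Matrix.reindexAlgEquiv F F e).toMulEquiv) g : Matrix ι' ι' F) =
      Matrix.reindex e e (g : Matrix ι ι F) := by
    show (Matrix.reindexAlgEquiv F F e) (g : Matrix ι ι F) = _
    rw [Matrix.coe_reindexAlgEquiv]
  rw [hval]
  constructor
  · intro hg v
    rw [reindex_mulVec, h, h]
    have : ((↑g *ᵥ (v ∘ ⇑e)) ∘ ⇑e.symm) ∘ ⇑e = (g : Matrix ι ι F) *ᵥ (v ∘ ⇑e) := by
      funext i; simp
    rw [this, hg]
  · intro hg u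
    have h1 := hg (u ∘ e.symm)
    rw [reindex_mulVec, h, h] at h1
    have h2 : (u ∘ ⇑e.symm) ∘ ⇑e = u := by funext i; simp
    have h3 : ((↑g *ᵥ u) ∘ ⇑e.symm) ∘ ⇑e = (g : Matrix ι ι F) *ᵥ u := by funext i; simp
    rw [h2, h3] at h1
    exact h1

/-- reindexing the coordinates gives an isomorphic isometry group -/
def isometryGroupReindex {ι ι' : Type} [Fintype ι] [DecidableEq ι] [Fintype ι'] [DecidableEq ι']
    (e : ι ≃ ι') (Qf : (ι → F) → F) (Qf' : (ι' → F) → F) (h : ∀ v : ι' → F, Qf' v = Qf (v ∘ e)) :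
    Cfsg.isometryGroup F Qf ≃* Cfsg.isometryGroup F Qf' where
  toEquiv := (Units.mapEquiv (Matrix.reindexAlgEquiv F F e).toMulEquiv).toEquiv.subtypeEquiv
    (fun g => mem_isometryGroup_reindex_iff e Qf Qf' h g)
  map_mul' x y := Subtype.ext (map_mul (Units.mapEquiv (Matrix.reindexAlgEquiv F F e).toMulEquiv) x.1 y.1)

end reindexEquiv

section minus2
variable {F : Type*} [Field F] (a b : F)

theorem fact_of_anisotropic (hab : ∀ z₁ z₂ : F, z₁ ^ 2 + a * z₁ * z₂ + b * z₂ ^ 2 = 0 → z₁ = 0 ∧ z₂ = 0) :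
    Fact (∀ r : F, r ^ 2 ≠ -b + a * r) := by
  refine ⟨fun r hr => ?_⟩
  have := (hab r (-1) (by rw [hr]; ring)).2
  exact one_ne_zero (neg_eq_zero.1 this)

theorem binForm_repr (z : QuadraticAlgebra F (-b) a) :
    binForm a b ((QuadraticAlgebra.basis (-b) a).repr z) = QuadraticAlgebra.norm z := by
  rw [QuadraticAlgebra.basis_repr_apply, binForm_apply, QuadraticAlgebra.norm_def]
  simp only [Matrix.cons_val_zero, Matrix.cons_val_one]
  ring

/-- multiplication by a norm one element as a matrix -/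
noncomputable def rotGL : (unitary (QuadraticAlgebra F (-b) a)) →* GL (Fin 2) F :=
  (Units.map (Algebra.leftMulMatrix (QuadraticAlgebra.basis (-b) a)).toMonoidHom).comp Unitary.toUnits

theorem rotGL_coe (u : unitary (QuadraticAlgebra F (-b) a)) :
    ((rotGL a b u : GL (Fin 2) F) : Matrix (Fin 2) (Fin 2) F) =
      Algebra.leftMulMatrix (QuadraticAlgebra.basis (-b) a) (u : QuadraticAlgebra F (-b) a) := rfl

theorem rotGL_mulVec (u : unitary (QuadraticAlgebra F (-b) a)) (z : QuadraticAlgebra F (-b) a) :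
    ((rotGL a b u : GL (Fin 2) F) : Matrix (Fin 2) (Fin 2) F) *ᵥ (QuadraticAlgebra.basis (-b) a).repr z =
      (QuadraticAlgebra.basis (-b) a).repr ((u : QuadraticAlgebra F (-b) a) * z) := by
  rw [rotGL_coe, Algebra.leftMulMatrix_mulVec_repr]

theorem exists_repr (v : Fin 2 → F) : ∃ z : QuadraticAlgebra F (-b) a, (QuadraticAlgebra.basis (-b) a).repr z = v := by
  refine ⟨⟨v 0, v 1⟩, ?_⟩
  rw [QuadraticAlgebra.basis_repr_apply]
  funext i
  fin_cases i <;> rfl

theorem rotGL_mem (u : unitary (QuadraticAlgebra F (-b) a)) :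
    rotGL a b u ∈ Cfsg.isometryGroup F (binForm a b) := by
  rw [mem_isometryGroup_iff]
  intro v
  obtain ⟨z, rfl⟩ := exists_repr a b v
  rw [rotGL_mulVec, binForm_repr, binForm_repr, map_mul, QuadraticAlgebra.norm_eq_one_iff_mem_unitary.2 u.2, one_mul]

/-- the rotation subgroup -/
noncomputable def rotIso : (unitary (QuadraticAlgebra F (-b) a)) →* Cfsg.isometryGroup F (binForm a b) :=
  MonoidHom.codRestrict (rotGL a b) _ (rotGL_mem a b)

theorem rotIso_injective : Function.Injective (rotIso a b) := by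
  intro s t h
  have h1 : ((rotGL a b s : GL (Fin 2) F) : Matrix (Fin 2) (Fin 2) F) = (rotGL a b t : GL (Fin 2) F) := by
    have := congrArg (fun g : Cfsg.isometryGroup F (binForm a b) => ((g : GL (Fin 2) F) : Matrix (Fin 2) (Fin 2) F)) h
    exact this
  rw [rotGL_coe, rotGL_coe] at h1
  exact Subtype.ext (Algebra.leftMulMatrix_injective _ h1)

/-- the conjugation matrix -/
def conjMat : Matrix (Fin 2) (Fin 2) F := !![1, a; 0, -1]

theorem conjMat_mul_self : conjMat a * conjMat a = 1 := by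
  unfold conjMat
  rw [Matrix.mul_fin_two, Matrix.one_fin_two]
  simp

theorem conjMat_mulVec (z : QuadraticAlgebra F (-b) a) :
    conjMat a *ᵥ (QuadraticAlgebra.basis (-b) a).repr z = (QuadraticAlgebra.basis (-b) a).repr (star z) := by
  rw [QuadraticAlgebra.basis_repr_apply, QuadraticAlgebra.basis_repr_apply]
  unfold conjMat
  funext i
  fin_cases i <;> simp [Matrix.mulVec, dotProduct, Fin.sum_univ_two]

def conjGL : GL (Fin 2) F := ⟨conjMat a, conjMat a, conjMat_mul_self a, conjMat_mul_self a⟩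

theorem conjGL_mem : conjGL a ∈ Cfsg.isometryGroup F (binForm a b) := by
  rw [mem_isometryGroup_iff]
  intro v
  obtain ⟨z, rfl⟩ := exists_repr a b v
  show binForm a b (conjMat a *ᵥ _) = _
  rw [conjMat_mulVec, binForm_repr, binForm_repr, QuadraticAlgebra.norm_star]

def conjIso : Cfsg.isometryGroup F (binForm a b) := ⟨conjGL a, conjGL_mem a b⟩

theorem conjIso_mul_self : conjIso a b * conjIso a b = 1 := by
  apply Subtype.ext
  apply Units.ext
  exact conjMat_mul_self a

theorem conjIso_conj (u : unitary (QuadraticAlgebra F (-b) a)) :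
    conjIso a b * rotIso a b u * (conjIso a b)⁻¹ = (rotIso a b u)⁻¹ := by
  have h1 : (conjIso a b)⁻¹ = conjIso a b := inv_eq_of_mul_eq_one_left (conjIso_mul_self a b)
  rw [h1, eq_inv_iff_mul_eq_one]
  apply Subtype.ext
  apply Units.ext
  show conjMat a * ((rotGL a b u : GL (Fin 2) F) : Matrix (Fin 2) (Fin 2) F) * conjMat a * ((rotGL a b u : GL (Fin 2) F) : Matrix (Fin 2) (Fin 2) F) = 1
  apply Matrix.toLin'.injective
  apply LinearMap.ext
  intro v
  obtain ⟨z, rfl⟩ := exists_repr a b v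
  rw [Matrix.toLin'_apply, ← Matrix.mulVec_mulVec, ← Matrix.mulVec_mulVec, ← Matrix.mulVec_mulVec, rotGL_mulVec, conjMat_mulVec,
    rotGL_mulVec, conjMat_mulVec, Matrix.toLin'_one, LinearMap.id_apply]
  congr 1
  rw [star_mul, star_star, mul_comm (u : QuadraticAlgebra F (-b) a) z, mul_assoc, ← QuadraticAlgebra.algebraMap_norm_eq_mul_star,
    QuadraticAlgebra.norm_eq_one_iff_mem_unitary.2 u.2, map_one, mul_one]

end minus2

section minus2fin
variable {F : Type*} [Field F] [Fintype F] (a b : F)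
variable (hab : ∀ z₁ z₂ : F, z₁ ^ 2 + a * z₁ * z₂ + b * z₂ ^ 2 = 0 → z₁ = 0 ∧ z₂ = 0)

include hab in
theorem conjIso_not_mem (g : unitary (QuadraticAlgebra F (-b) a)) :
    conjIso a b ∉ Subgroup.zpowers (rotIso a b g) := by
  rintro ⟨k, hk⟩
  change rotIso a b g ^ k = conjIso a b at hk
  rw [← map_zpow] at hk
  have h1 : ((rotGL a b (g ^ k) : GL (Fin 2) F) : Matrix (Fin 2) (Fin 2) F) = conjMat a := by
    have := congrArg (fun g : Cfsg.isometryGroup F (binForm a b) => ((g : GL (Fin 2) F) : Matrix (Fin 2) (Fin 2) F)) hk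
    exact this
  have h2 : ((rotGL a b (g ^ k) : GL (Fin 2) F) : Matrix (Fin 2) (Fin 2) F) *ᵥ (QuadraticAlgebra.basis (-b) a).repr (1 : QuadraticAlgebra F (-b) a)
      = conjMat a *ᵥ (QuadraticAlgebra.basis (-b) a).repr (1 : QuadraticAlgebra F (-b) a) := by rw [h1]
  rw [rotGL_mulVec, conjMat_mulVec, star_one, mul_one] at h2
  have h3 : ((g ^ k : unitary (QuadraticAlgebra F (-b) a)) : QuadraticAlgebra F (-b) a) = 1 := by
    have := DFunLike.coe_injective h2
    exact (QuadraticAlgebra.basis (-b) a).repr.injective this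
  rw [rotGL_coe, h3, map_one] at h1
  have e1 := congrFun (congrFun h1 1) 1
  have e2 := congrFun (congrFun h1 0) 1
  unfold conjMat at e1 e2
  simp at e1 e2
  have h2' : (2 : F) = 0 := by
    have : (1 : F) + 1 = 0 := by nth_rewrite 1 [e1]; exact neg_add_cancel 1
    rw [← this]; norm_num
  exact a_ne_zero_of_two_eq_zero a b hab h2' e2.symm

include hab in
theorem card_unitary_quadAlg : Nat.card (unitary (QuadraticAlgebra F (-b) a)) = Fintype.card F + 1 := by
  rw [← card_binForm_one a b hab]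
  apply Nat.card_congr
  refine (QuadraticAlgebra.basis (-b) a).equivFun.toEquiv.subtypeEquiv (fun z => ?_)
  rw [← QuadraticAlgebra.norm_eq_one_iff_mem_unitary, ← binForm_repr]
  rfl

include hab in
theorem minus2_dihedral_bin : Nonempty (Cfsg.isometryGroup F (binForm a b) ≃* DihedralGroup (Fintype.card F + 1)) := by
  classical
  have hfact := fact_of_anisotropic a b hab
  have hfin : Finite (QuadraticAlgebra F (-b) a) := Finite.of_equiv _ (QuadraticAlgebra.equivProd (-b) a).symm
  have hfinU : Finite (unitary (QuadraticAlgebra F (-b) a)) := Subtype.finite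
  have hcyc : IsCyclic (unitary (QuadraticAlgebra F (-b) a)) :=
    isCyclic_of_injective_ringHom (unitary (QuadraticAlgebra F (-b) a)).subtype Subtype.coe_injective
  obtain ⟨g, hg⟩ := hcyc.exists_generator
  refine dihedral_of_card (Fintype.card F + 1) (conjIso a b) (rotIso a b g) ?_ (conjIso_mul_self a b) (conjIso_conj a b g)
    (conjIso_not_mem a b hab g) ?_
  · rw [orderOf_injective (rotIso a b) (rotIso_injective a b), orderOf_eq_card_of_forall_mem_zpowers hg,
      card_unitary_quadAlg a b hab]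
  · have h1 := card_isometryGroup_reindex (F := F) (Equiv.emptySum (Fin 0 ⊕ Fin 0) (Fin 2))
      (Cfsg.quadFormMinus 0 F a b) (⇑(binForm a b)) (fun v => by
        rw [binForm_apply]
        unfold Cfsg.quadFormMinus
        simp)
    rw [← h1, card_isometryGroup_minus a b hab 0]
    simp

include hab in
theorem minus2_dihedral :
    Nonempty (Cfsg.isometryGroup F (Cfsg.quadFormMinus 0 F a b) ≃* DihedralGroup (Fintype.card F + 1)) := by
  obtain ⟨e⟩ := minus2_dihedral_bin a b hab
  exact ⟨(isometryGroupReindex (F := F) (Equiv.emptySum (Fin 0 ⊕ Fin 0) (Fin 2))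
      (Cfsg.quadFormMinus 0 F a b) (⇑(binForm a b)) (fun v => by
        rw [binForm_apply]
        unfold Cfsg.quadFormMinus
        simp)).trans e⟩

end minus2fin
end Cfsg.Agent.Lib.Helper15
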