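import Mathlib
set_option autoImplicit false
namespace Cfsg.Agent.Lib.Helper15

section centmod
variable {G : Type*} [Group G]

/-- preimage of the centraliser of the image of `g` in `G/Z(G)` -/
def centMod (g : G) : Subgroup G :=
  (Subgroup.centralizer {(QuotientGroup.mk' (Subgroup.center G)) g}).comap (QuotientGroup.mk' (Subgroup.center G))

theorem index_centMod (g : G) :
    (centMod g).index = (Subgroup.centralizer {(QuotientGroup.mk' (Subgroup.center G)) g}).index :=
  Subgroup.index_comap_of_surjective _ (QuotientGroup.mk'_surjective _)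

theorem mem_centMod_iff (g h : G) : h ∈ centMod g ↔ h * g * h⁻¹ * g⁻¹ ∈ Subgroup.center G := by
  unfold centMod
  rw [Subgroup.mem_comap, Subgroup.mem_centralizer_singleton_iff, ← map_mul, ← map_mul, QuotientGroup.mk'_apply,
    QuotientGroup.mk'_apply, QuotientGroup.eq]
  constructor
  · intro hc
    have h1 : h * g * h⁻¹ * g⁻¹ = (h * g) * ((h * g)⁻¹ * (g * h))⁻¹ * (h * g)⁻¹ := by group
    rw [h1, Subgroup.mem_center_iff.1 (inv_mem hc) (h * g), mul_inv_cancel_right]
    exact inv_mem hc
  · intro hc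
    have h1 : (h * g)⁻¹ * (g * h) = (h * g)⁻¹ * (h * g * h⁻¹ * g⁻¹)⁻¹ * (h * g) := by group
    rw [h1, mul_assoc, ← Subgroup.mem_center_iff.1 (inv_mem hc) (h * g), inv_mul_cancel_left]
    exact inv_mem hc

theorem centralizer_le_centMod (g : G) : Subgroup.centralizer {g} ≤ centMod g := by
  intro h hh
  rw [Subgroup.mem_centralizer_singleton_iff] at hh
  rw [mem_centMod_iff, hh, mul_inv_cancel_right, mul_inv_cancel]
  exact one_mem _

/-- the commutator with `g` as a homomorphism to the centre -/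
def kappa (g : G) : centMod g →* Subgroup.center G where
  toFun h := ⟨h.1 * g * h.1⁻¹ * g⁻¹, (mem_centMod_iff g h.1).1 h.2⟩
  map_one' := by
    apply Subtype.ext
    show (1 : G) * g * (1 : G)⁻¹ * g⁻¹ = 1
    group
  map_mul' h₁ h₂ := by
    apply Subtype.ext
    show (h₁.1 * h₂.1) * g * (h₁.1 * h₂.1)⁻¹ * g⁻¹ = (h₁.1 * g * h₁.1⁻¹ * g⁻¹) * (h₂.1 * g * h₂.1⁻¹ * g⁻¹)
    have hz := (mem_centMod_iff g h₂.1).1 h₂.2
    have e1 : (h₁.1 * h₂.1) * g * (h₁.1 * h₂.1)⁻¹ * g⁻¹ = h₁.1 * (h₂.1 * g * h₂.1⁻¹ * g⁻¹) * (g * h₁.1⁻¹ * g⁻¹) := by group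
    rw [e1, Subgroup.mem_center_iff.1 hz h₁.1, Subgroup.mem_center_iff.1 hz (h₁.1 * g * h₁.1⁻¹ * g⁻¹)]
    group

theorem kappa_coe (g : G) (h : centMod g) : ((kappa g h : Subgroup.center G) : G) = h.1 * g * h.1⁻¹ * g⁻¹ := rfl

theorem relIndex_centralizer_centMod (g : G) :
    (Subgroup.centralizer {g}).relIndex (centMod g) = Nat.card (kappa g).range := by
  unfold Subgroup.relIndex
  have : (Subgroup.centralizer {g}).subgroupOf (centMod g) = (kappa g).ker := by
    ext h
    rw [Subgroup.mem_subgroupOf, MonoidHom.mem_ker, Subgroup.mem_centralizer_singleton_iff, ← Subtype.coe_inj, kappa_coe,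
      Subgroup.coe_one]
    constructor
    · intro hh
      rw [hh, mul_inv_cancel_right, mul_inv_cancel]
    · intro hh
      have : h.1 * g = (h.1 * g * h.1⁻¹ * g⁻¹) * (g * h.1) := by group
      rw [this, hh, one_mul]
  rw [this, Subgroup.index_ker]

theorem index_centralizer_eq (g : G) :
    (Subgroup.centralizer {g}).index = Nat.card (kappa g).range * (centMod g).index := by
  rw [← relIndex_centralizer_centMod, Subgroup.relIndex_mul_index (centralizer_le_centMod g)]

theorem card_range_kappa [Finite G] (hZ : Nat.card (Subgroup.center G) = 2) (g : G) :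
    ((∃ h z : G, z ∈ Subgroup.center G ∧ z ≠ 1 ∧ h * g * h⁻¹ = z * g) → Nat.card (kappa g).range = 2) ∧
    ((¬ ∃ h z : G, z ∈ Subgroup.center G ∧ z ≠ 1 ∧ h * g * h⁻¹ = z * g) → Nat.card (kappa g).range = 1) := by
  have hdvd : Nat.card (kappa g).range ∣ 2 := by
    rw [← hZ]
    exact Subgroup.card_subgroup_dvd_card _
  constructor
  · rintro ⟨h, z, hz, hz1, hh⟩
    have hmem : h ∈ centMod g := by
      rw [mem_centMod_iff, hh, mul_inv_cancel_right]
      exact hz
    have hne : (kappa g).range ≠ ⊥ := by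
      intro hbot
      have h1 : kappa g ⟨h, hmem⟩ ∈ (kappa g).range := ⟨_, rfl⟩
      rw [hbot, Subgroup.mem_bot, ← Subtype.coe_inj, kappa_coe, Subgroup.coe_one] at h1
      apply hz1
      have : h * g * h⁻¹ * g⁻¹ = z := by rw [hh, mul_inv_cancel_right]
      rw [← this]
      exact h1
    rcases (Nat.dvd_prime Nat.prime_two).1 hdvd with h1 | h2
    · exact absurd (Subgroup.eq_bot_of_card_eq _ h1) hne
    · exact h2
  · intro hno
    have : (kappa g).range = ⊥ := by
      rw [eq_bot_iff]
      rintro _ ⟨h, rfl⟩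
      rw [Subgroup.mem_bot]
      by_contra hne
      apply hno
      refine ⟨h.1, (kappa g h : G), (kappa g h).2, ?_, ?_⟩
      · intro h1
        apply hne
        exact Subtype.ext h1
      · rw [kappa_coe]
        group
    rw [this, Subgroup.card_bot]

end centmod
end Cfsg.Agent.Lib.Helper15
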