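import Mathlib
import Cfsg.Agent.Lib.Helper14.GL2Cent
import Cfsg.Agent.Lib.Helper14.SL2Unip
import Cfsg.Agent.Lib.Helper14.SL2Order
import Cfsg.Agent.Lib.Helper15.QuadCount6
set_option autoImplicit false
namespace Cfsg.Agent.Lib.Helper15

open Matrix
open Cfsg.Agent.Lib.Helper14

section cent
variable {F : Type*} [Field F]

theorem det_add_smul (g : Matrix (Fin 2) (Fin 2) F) (x y : F) :
    (x • (1 : Matrix (Fin 2) (Fin 2) F) + y • g).det = x ^ 2 + g.trace * x * y + g.det * y ^ 2 := by
  rw [det_fin_two, det_fin_two, trace_fin_two]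
  simp only [Matrix.add_apply, Matrix.smul_apply, one_apply_eq, smul_eq_mul, mul_one, ne_eq, zero_ne_one, one_ne_zero,
    not_false_eq_true, one_apply_ne, mul_zero, zero_add]
  ring

/-- the centralizer of a non-scalar element of `SL₂` is the norm one group of `F[g]` -/
theorem card_centralizer_SL2 [Finite F] (g : SpecialLinearGroup (Fin 2) F)
    (hg : ¬ IsScalar2 (g : Matrix (Fin 2) (Fin 2) F)) :
    Nat.card (Subgroup.centralizer ({g} : Set (SpecialLinearGroup (Fin 2) F))) =
      Nat.card {p : F × F // p.1 ^ 2 + (g : Matrix (Fin 2) (Fin 2) F).trace * p.1 * p.2 + p.2 ^ 2 = 1} := by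
  symm
  have hdet : ∀ x y : F, (x • (1 : Matrix (Fin 2) (Fin 2) F) + y • (g : Matrix (Fin 2) (Fin 2) F)).det =
      x ^ 2 + (g : Matrix (Fin 2) (Fin 2) F).trace * x * y + y ^ 2 := by
    intro x y
    rw [det_add_smul, g.det_coe, one_mul]
  let φ : {p : F × F // p.1 ^ 2 + (g : Matrix (Fin 2) (Fin 2) F).trace * p.1 * p.2 + p.2 ^ 2 = 1} →
      Subgroup.centralizer ({g} : Set (SpecialLinearGroup (Fin 2) F)) :=
    fun p => ⟨⟨p.1.1 • (1 : Matrix (Fin 2) (Fin 2) F) + p.1.2 • (g : Matrix (Fin 2) (Fin 2) F), by rw [hdet, p.2]⟩, by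
      refine Subgroup.mem_centralizer_iff.mpr ?_
      intro h hh
      rw [Set.mem_singleton_iff] at hh
      subst hh
      apply Subtype.ext
      show (h : Matrix (Fin 2) (Fin 2) F) * (p.1.1 • (1 : Matrix (Fin 2) (Fin 2) F) + p.1.2 • (h : Matrix (Fin 2) (Fin 2) F)) =
        (p.1.1 • (1 : Matrix (Fin 2) (Fin 2) F) + p.1.2 • (h : Matrix (Fin 2) (Fin 2) F)) * (h : Matrix (Fin 2) (Fin 2) F)
      simp [Matrix.mul_add, Matrix.add_mul]⟩
  apply Nat.card_eq_of_bijective φ
  constructor
  · rintro ⟨⟨x, y⟩, hp⟩ ⟨⟨x', y'⟩, hp'⟩ h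
    have h1 := congrArg (fun z : Subgroup.centralizer ({g} : Set (SpecialLinearGroup (Fin 2) F)) =>
      ((z : SpecialLinearGroup (Fin 2) F) : Matrix (Fin 2) (Fin 2) F)) h
    have h2 : x • (1 : Matrix (Fin 2) (Fin 2) F) + y • (g : Matrix (Fin 2) (Fin 2) F) =
      x' • (1 : Matrix (Fin 2) (Fin 2) F) + y' • (g : Matrix (Fin 2) (Fin 2) F) := h1
    obtain ⟨rfl, rfl⟩ := add_smul_injective _ hg x y x' y' h2
    rfl
  · rintro ⟨h, hh⟩
    rw [Subgroup.mem_centralizer_iff] at hh
    have hcomm := hh g rfl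
    have hcomm' : (h : Matrix (Fin 2) (Fin 2) F) * (g : Matrix (Fin 2) (Fin 2) F) =
        (g : Matrix (Fin 2) (Fin 2) F) * (h : Matrix (Fin 2) (Fin 2) F) := by
      have := congrArg Subtype.val hcomm
      exact this.symm
    obtain ⟨x, y, hxy⟩ := exists_eq_add_smul_of_commute _ _ hg hcomm'
    have hone : x ^ 2 + (g : Matrix (Fin 2) (Fin 2) F).trace * x * y + y ^ 2 = 1 := by
      rw [← hdet, ← hxy, h.det_coe]
    refine ⟨⟨(x, y), hone⟩, ?_⟩
    apply Subtype.ext
    apply Subtype.ext
    exact hxy.symm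

end cent

section counts
variable {F : Type*} [Field F] [Fintype F]

theorem card_normOne_aniso (t : F) (hab : ∀ z₁ z₂ : F, z₁ ^ 2 + t * z₁ * z₂ + 1 * z₂ ^ 2 = 0 → z₁ = 0 ∧ z₂ = 0) :
    Nat.card {p : F × F // p.1 ^ 2 + t * p.1 * p.2 + p.2 ^ 2 = 1} = Fintype.card F + 1 := by
  rw [← card_binForm_one t 1 hab]
  apply Nat.card_congr
  refine ((finTwoArrowEquiv F).subtypeEquiv (fun z => ?_)).symm
  rw [binForm_apply, one_mul]
  rfl

theorem card_normOne_split (α β : F) (hαβ : α * β = 1) (hne : α ≠ β) :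
    Nat.card {p : F × F // p.1 ^ 2 + (α + β) * p.1 * p.2 + p.2 ^ 2 = 1} = Fintype.card F - 1 := by
  classical
  have hd : α - β ≠ 0 := sub_ne_zero.2 hne
  let e : F × F ≃ F × F :=
    { toFun := fun p => (p.1 + α * p.2, p.1 + β * p.2)
      invFun := fun w => ((α * w.2 - β * w.1) / (α - β), (w.1 - w.2) / (α - β))
      left_inv := by
        rintro ⟨x, y⟩
        simp only [Prod.mk.injEq]
        constructor <;> field_simp <;> ring
      right_inv := by
        rintro ⟨u, v⟩
        simp only [Prod.mk.injEq]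
        constructor <;> field_simp <;> ring }
  have h1 : Nat.card {p : F × F // p.1 ^ 2 + (α + β) * p.1 * p.2 + p.2 ^ 2 = 1} = Nat.card {w : F × F // w.1 * w.2 = 1} := by
    apply Nat.card_congr
    refine e.subtypeEquiv (fun p => ?_)
    show _ ↔ (p.1 + α * p.2) * (p.1 + β * p.2) = 1
    have : (p.1 + α * p.2) * (p.1 + β * p.2) = p.1 ^ 2 + (α + β) * p.1 * p.2 + p.2 ^ 2 := by
      linear_combination p.2 ^ 2 * hαβ
    rw [this]
  have h2 : Nat.card {w : F × F // w.1 * w.2 = 1} = Nat.card Fˣ := by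
    apply Nat.card_congr
    exact
      { toFun := fun w => ⟨w.1.1, w.1.2, w.2, by rw [mul_comm]; exact w.2⟩
        invFun := fun u => ⟨((u : F), ((u⁻¹ : Fˣ) : F)), u.mul_inv⟩
        left_inv := by
          rintro ⟨⟨a, b⟩, h⟩
          rfl
        right_inv := by
          intro u
          apply Units.ext
          rfl }
  rw [h1, h2, Nat.card_eq_fintype_card, Fintype.card_units]

theorem card_normOne_unip (ε : F) (hε : ε * ε = 1) :
    Nat.card {p : F × F // p.1 ^ 2 + (2 * ε) * p.1 * p.2 + p.2 ^ 2 = 1} = Nat.card {s : F // s * s = 1} * Fintype.card F := by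
  rw [← Nat.card_eq_fintype_card (α := F), ← Nat.card_prod]
  apply Nat.card_congr
  exact
    { toFun := fun p => (⟨p.1.1 + ε * p.1.2, by
        have := p.2
        linear_combination this + p.1.2 ^ 2 * hε⟩, p.1.2)
      invFun := fun w => ⟨(w.1.1 - ε * w.2, w.2), by
        have := w.1.2
        simp only
        linear_combination this - w.2 ^ 2 * hε⟩
      left_inv := by
        rintro ⟨⟨x, y⟩, h⟩
        apply Subtype.ext
        simp
      right_inv := by
        rintro ⟨⟨s, hs⟩, y⟩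
        simp }

end counts

section transport

theorem index_centralizer_equiv {G H : Type*} [Group G] [Group H] (e : G ≃* H) (g : G) :
    (Subgroup.centralizer ({e g} : Set H)).index = (Subgroup.centralizer ({g} : Set G)).index := by
  have : Subgroup.centralizer ({e g} : Set H) = (Subgroup.centralizer ({g} : Set G)).map e.toMonoidHom := by
    ext x
    rw [Subgroup.mem_centralizer_singleton_iff, Subgroup.mem_map]
    constructor
    · intro hx
      refine ⟨e.symm x, ?_, e.apply_symm_apply x⟩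
      rw [Subgroup.mem_centralizer_singleton_iff]
      apply e.injective
      rw [map_mul, map_mul, e.apply_symm_apply]
      exact hx
    · rintro ⟨y, hy, rfl⟩
      rw [Subgroup.mem_centralizer_singleton_iff] at hy
      show e y * e g = e g * e y
      rw [← map_mul, ← map_mul, hy]
  rw [this]
  exact Subgroup.index_map_equiv _ e

end transport
end Cfsg.Agent.Lib.Helper15
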