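import Mathlib
import Cfsg.Agent.Lib.Helper15.SL2Cent
import Cfsg.Agent.S3660
set_option autoImplicit false
namespace Cfsg.Agent.Lib.Helper15

open Matrix
open Cfsg.Agent.Lib.Helper14

section arith

theorem sq_sub_one_eq (q : ℕ) (hq : 1 ≤ q) : q ^ 2 - 1 = (q - 1) * (q + 1) := by
  obtain ⟨r, rfl⟩ := Nat.exists_eq_add_of_le hq
  rw [Nat.add_sub_cancel_left]
  have : (1 + r) ^ 2 = r * (1 + r + 1) + 1 := by ring
  rw [this, Nat.add_sub_cancel]

theorem index_eq_of_mul {i c v N : ℕ} (hc : 0 < c) (h : i * c = N) (hv : v * c = N) : i = v :=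
  Nat.eq_of_mul_eq_mul_right hc (h.trans hv.symm)

end arith

section even
variable {F : Type*} [Field F] [Fintype F] [CharP F 2]

theorem two_eq_zero_F : (2 : F) = 0 := Cfsg.Agent.S3660.char_two

theorem eq_one_of_sq_eq_one_char2 (a : F) (h : a * a = 1) : a = 1 := by
  have h2 : (a - 1) ^ 2 = 0 := by linear_combination h + (1 - a) * (two_eq_zero_F (F := F))
  exact sub_eq_zero.1 (pow_eq_zero_iff two_ne_zero |>.1 h2)

theorem eq_one_of_isScalar2 (g : SpecialLinearGroup (Fin 2) F) (hg : IsScalar2 (g : Matrix (Fin 2) (Fin 2) F)) : g = 1 := by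
  obtain ⟨h01, h10, h00⟩ := hg
  have hdet := g.det_coe
  rw [det_fin_two, h01, h10, ← h00, mul_zero, sub_zero] at hdet
  have h1 := eq_one_of_sq_eq_one_char2 _ hdet
  apply Subtype.ext
  apply mat2_ext
  · rw [h1]; rfl
  · rw [h01]; rfl
  · rw [h10]; rfl
  · rw [← h00, h1]; rfl

theorem index_mul_card_centralizer (g : SpecialLinearGroup (Fin 2) F) :
    (Subgroup.centralizer ({g} : Set (SpecialLinearGroup (Fin 2) F))).index *
      Nat.card (Subgroup.centralizer ({g} : Set (SpecialLinearGroup (Fin 2) F))) =
      Fintype.card F * (Fintype.card F ^ 2 - 1) := by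
  rw [Subgroup.index_mul_card, card_SL2]

/-- the three centraliser orders of non-central elements in characteristic two -/
theorem card_centralizer_cases (g : SpecialLinearGroup (Fin 2) F) (hg : ¬ IsScalar2 (g : Matrix (Fin 2) (Fin 2) F)) :
    Nat.card (Subgroup.centralizer ({g} : Set (SpecialLinearGroup (Fin 2) F))) = Fintype.card F ∨
    Nat.card (Subgroup.centralizer ({g} : Set (SpecialLinearGroup (Fin 2) F))) = Fintype.card F - 1 ∨
    Nat.card (Subgroup.centralizer ({g} : Set (SpecialLinearGroup (Fin 2) F))) = Fintype.card F + 1 := by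
  rw [card_centralizer_SL2 g hg]
  set t := (g : Matrix (Fin 2) (Fin 2) F).trace with ht
  by_cases ht0 : t = 0
  · left
    have : t = 2 * 1 := by rw [ht0, two_eq_zero_F, zero_mul]
    rw [this, card_normOne_unip 1 (one_mul 1), card_sq_eq_one_char_two, one_mul]
  · by_cases hroot : ∃ α : F, α ^ 2 + t * α + 1 = 0
    · right; left
      obtain ⟨α, hα⟩ := hroot
      have hα0 : α ≠ 0 := by
        rintro rfl
        simp at hα
      have hsum : t = α + α⁻¹ := by
        have h1 : t * α = α ^ 2 + 1 := by linear_combination hα - (α ^ 2 + 1) * (two_eq_zero_F (F := F))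
        field_simp
        linear_combination h1
      have hne : α ≠ α⁻¹ := by
        intro h
        have h1 : α * α = 1 := by
          nth_rewrite 2 [h]
          exact mul_inv_cancel₀ hα0
        have h2 := eq_one_of_sq_eq_one_char2 α h1
        apply ht0
        rw [hsum, h2, inv_one]
        linear_combination (two_eq_zero_F (F := F))
      rw [hsum, card_normOne_split α α⁻¹ (mul_inv_cancel₀ hα0) hne]
    · right; right
      apply card_normOne_aniso
      intro z₁ z₂ h
      by_cases hz : z₂ = 0
      · subst hz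
        simp at h
        exact ⟨h, rfl⟩
      · exfalso
        apply hroot
        refine ⟨z₁ / z₂, ?_⟩
        field_simp
        linear_combination h

theorem index_centralizer_mem (hq : 2 ≤ Fintype.card F) (g : SpecialLinearGroup (Fin 2) F) :
    (Subgroup.centralizer ({g} : Set (SpecialLinearGroup (Fin 2) F))).index ∈
      ({1, Fintype.card F * (Fintype.card F - 1), Fintype.card F ^ 2 - 1, Fintype.card F * (Fintype.card F + 1)} : Set ℕ) := by
  have hsq := sq_sub_one_eq (Fintype.card F) (by omega)
  by_cases hg : IsScalar2 (g : Matrix (Fin 2) (Fin 2) F)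
  · left
    rw [eq_one_of_isScalar2 g hg, Subgroup.index_eq_one]
    ext x
    simp [Subgroup.mem_centralizer_singleton_iff]
  · have hidx := index_mul_card_centralizer g
    rcases card_centralizer_cases g hg with h | h | h
    · right; right; left
      rw [h] at hidx
      exact index_eq_of_mul (by omega) hidx (mul_comm _ _)
    · right; right; right
      rw [h] at hidx
      refine index_eq_of_mul (by omega) hidx ?_
      rw [hsq]; ring
    · right; left
      rw [h] at hidx
      refine index_eq_of_mul (by omega) hidx ?_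
      rw [hsq]; ring

theorem exists_no_root : ∃ t : F, ∀ α : F, α ^ 2 + t * α + 1 ≠ 0 := by
  classical
  by_contra h
  push Not at h
  have hsurj : Function.Surjective (fun u : Fˣ => (u : F) + ((u⁻¹ : Fˣ) : F)) := by
    intro t
    obtain ⟨α, hα⟩ := h t
    have hα0 : α ≠ 0 := by
      rintro rfl
      simp at hα
    refine ⟨Units.mk0 α hα0, ?_⟩
    show α + α⁻¹ = t
    have h1 : t * α = α ^ 2 + 1 := by linear_combination hα - (α ^ 2 + 1) * (two_eq_zero_F (F := F))
    field_simp
    linear_combination -h1
  have := Fintype.card_le_of_surjective _ hsurj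
  rw [Fintype.card_units] at this
  have : 0 < Fintype.card F := Fintype.card_pos
  omega

theorem exists_index_centralizer (hq : 3 ≤ Fintype.card F) (n : ℕ)
    (hn : n ∈ ({1, Fintype.card F * (Fintype.card F - 1), Fintype.card F ^ 2 - 1, Fintype.card F * (Fintype.card F + 1)} : Set ℕ)) :
    ∃ g : SpecialLinearGroup (Fin 2) F, (Subgroup.centralizer ({g} : Set (SpecialLinearGroup (Fin 2) F))).index = n := by
  classical
  have hsq := sq_sub_one_eq (Fintype.card F) (by omega)
  rcases hn with rfl | rfl | rfl | rfl
  · refine ⟨1, ?_⟩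
    rw [Subgroup.index_eq_one]
    ext x
    simp [Subgroup.mem_centralizer_singleton_iff]
  · -- nonsplit
    obtain ⟨t, ht⟩ := exists_no_root (F := F)
    refine ⟨comp2SL t, ?_⟩
    have hns : ¬ IsScalar2 ((comp2SL t : SpecialLinearGroup (Fin 2) F) : Matrix (Fin 2) (Fin 2) F) := by
      rw [comp2SL_coe]; exact comp2_not_isScalar2 t 1
    have hidx := index_mul_card_centralizer (comp2SL t)
    rw [card_centralizer_SL2 _ hns, comp2SL_coe, comp2_trace, card_normOne_aniso t (by
      intro z₁ z₂ h
      by_cases hz : z₂ = 0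
      · subst hz
        simp at h
        exact ⟨h, rfl⟩
      · exfalso
        apply ht (z₁ / z₂)
        field_simp
        linear_combination h)] at hidx
    refine index_eq_of_mul (by omega) hidx ?_
    rw [hsq]; ring
  · -- unipotent
    refine ⟨upperSL 1 1 (one_mul 1), ?_⟩
    have hns : ¬ IsScalar2 ((upperSL 1 1 (one_mul 1) : SpecialLinearGroup (Fin 2) F) : Matrix (Fin 2) (Fin 2) F) := by
      rw [upperSL_coe]
      rintro ⟨h, -, -⟩
      simp at h
    have hidx := index_mul_card_centralizer (upperSL (1 : F) 1 (one_mul 1))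
    rw [card_centralizer_upperSL 1 1 (one_mul 1) one_ne_zero, card_sq_eq_one_char_two, one_mul] at hidx
    exact index_eq_of_mul (by omega) hidx (mul_comm _ _)
  · -- split
    obtain ⟨α, hα0, hα1⟩ : ∃ α : F, α ≠ 0 ∧ α ≠ 1 := by
      by_contra h
      push Not at h
      have : Fintype.card F ≤ 2 := by
        rw [← Fintype.card_fin 2]
        refine Fintype.card_le_of_injective (fun x : F => if x = 0 then (0 : Fin 2) else 1) ?_
        intro x y hxy
        by_cases hx : x = 0 <;> by_cases hy : y = 0
        · rw [hx, hy]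
        · simp [hx, hy] at hxy
        · simp [hx, hy] at hxy
        · rw [h x hx, h y hy]
      omega
    let g : SpecialLinearGroup (Fin 2) F := ⟨!![α, 0; 0, α⁻¹], by simp [det_fin_two, hα0]⟩
    have hne : α ≠ α⁻¹ := by
      intro h
      have h1 : α * α = 1 := by
        nth_rewrite 2 [h]
        exact mul_inv_cancel₀ hα0
      exact hα1 (eq_one_of_sq_eq_one_char2 α h1)
    have hns : ¬ IsScalar2 (g : Matrix (Fin 2) (Fin 2) F) := by
      rintro ⟨-, -, h⟩
      exact hne h
    have htr : (g : Matrix (Fin 2) (Fin 2) F).trace = α + α⁻¹ := by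
      show (!![α, 0; 0, α⁻¹] : Matrix (Fin 2) (Fin 2) F).trace = _
      rw [trace_fin_two]
      rfl
    refine ⟨g, ?_⟩
    have hidx := index_mul_card_centralizer g
    rw [card_centralizer_SL2 _ hns, htr, card_normOne_split α α⁻¹ (mul_inv_cancel₀ hα0) hne] at hidx
    refine index_eq_of_mul (by omega) hidx ?_
    rw [hsq]; ring

theorem range_index_centralizer_SL2 (hq : 3 ≤ Fintype.card F) :
    Set.range (fun g : SpecialLinearGroup (Fin 2) F => (Subgroup.centralizer ({g} : Set (SpecialLinearGroup (Fin 2) F))).index) =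
      {1, Fintype.card F * (Fintype.card F - 1), Fintype.card F ^ 2 - 1, Fintype.card F * (Fintype.card F + 1)} := by
  ext n
  constructor
  · rintro ⟨g, rfl⟩
    exact index_centralizer_mem (by omega) g
  · intro hn
    exact exists_index_centralizer hq n hn

theorem range_index_centralizer_PSL2 (hq : 3 ≤ Fintype.card F) :
    Set.range (fun g : ProjectiveSpecialLinearGroup (Fin 2) F => (Subgroup.centralizer ({g} : Set (ProjectiveSpecialLinearGroup (Fin 2) F))).index) =
      {1, Fintype.card F * (Fintype.card F - 1), Fintype.card F ^ 2 - 1, Fintype.card F * (Fintype.card F + 1)} := by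
  rw [← range_index_centralizer_SL2 hq]
  let e : SpecialLinearGroup (Fin 2) F ≃* ProjectiveSpecialLinearGroup (Fin 2) F :=
    MulEquiv.ofBijective (QuotientGroup.mk' (Subgroup.center (SpecialLinearGroup (Fin 2) F))) Cfsg.Agent.S3660.mk_bijective
  ext n
  constructor
  · rintro ⟨g, rfl⟩
    obtain ⟨g', rfl⟩ := e.surjective g
    exact ⟨g', (index_centralizer_equiv e g').symm⟩
  · rintro ⟨g, rfl⟩
    exact ⟨e g, index_centralizer_equiv e g⟩

end even
end Cfsg.Agent.Lib.Helper15
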