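import Mathlib
import Cfsg.Agent.Lib.Helper15.SL2Cent
import Cfsg.Agent.Lib.Helper15.PSL2ClassEven
import Cfsg.Agent.Lib.Helper15.CentMod
import Cfsg.Agent.Lib.Helper3.CardSL
set_option autoImplicit false
namespace Cfsg.Agent.Lib.Helper15

open Matrix
open Cfsg.Agent.Lib.Helper14

section odd
variable {F : Type*} [Field F] [Fintype F]

theorem four_ne_zero_of_two (h2 : (2 : F) ≠ 0) : (4 : F) ≠ 0 := by
  have : (4 : F) = 2 * 2 := by norm_num
  rw [this]
  exact mul_ne_zero h2 h2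

omit [Fintype F] in
theorem neg_one_mem_center_SL2 :
    (-1 : SpecialLinearGroup (Fin 2) F) ∈ Subgroup.center (SpecialLinearGroup (Fin 2) F) := by
  rw [Subgroup.mem_center_iff]
  intro h
  rw [mul_neg, neg_mul, mul_one, one_mul]

omit [Fintype F] in
theorem isScalar2_mem_center (g : SpecialLinearGroup (Fin 2) F) (hg : IsScalar2 (g : Matrix (Fin 2) (Fin 2) F)) :
    g ∈ Subgroup.center (SpecialLinearGroup (Fin 2) F) := by
  obtain ⟨h01, h10, h00⟩ := hg
  have hg' : (g : Matrix (Fin 2) (Fin 2) F) = (g : Matrix (Fin 2) (Fin 2) F) 0 0 • (1 : Matrix (Fin 2) (Fin 2) F) := by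
    apply mat2_ext <;> simp [h01, h10, ← h00]
  rw [Subgroup.mem_center_iff]
  intro h
  apply Subtype.ext
  show (h : Matrix (Fin 2) (Fin 2) F) * (g : Matrix (Fin 2) (Fin 2) F) = (g : Matrix (Fin 2) (Fin 2) F) * (h : Matrix (Fin 2) (Fin 2) F)
  rw [hg']
  simp

/-- in `SL₂` a non-scalar element of nonzero trace is not conjugate to a proper central multiple -/
theorem no_twist_of_trace_ne_zero (g : SpecialLinearGroup (Fin 2) F)
    (ht : (g : Matrix (Fin 2) (Fin 2) F).trace ≠ 0) :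
    ¬ ∃ h z : SpecialLinearGroup (Fin 2) F, z ∈ Subgroup.center (SpecialLinearGroup (Fin 2) F) ∧ z ≠ 1 ∧ h * g * h⁻¹ = z * g := by
  rintro ⟨h, z, hz, hz1, hh⟩
  rw [Matrix.SpecialLinearGroup.mem_center_iff] at hz
  obtain ⟨r, -, hr⟩ := hz
  have h1 : ((h * g * h⁻¹ : SpecialLinearGroup (Fin 2) F) : Matrix (Fin 2) (Fin 2) F).trace = (g : Matrix (Fin 2) (Fin 2) F).trace :=
    (trace_conj_SL (isConj_iff.2 ⟨h, rfl⟩)).symm
  rw [hh, Matrix.SpecialLinearGroup.coe_mul, ← hr] at h1
  have h2 : (Matrix.scalar (Fin 2) r * (g : Matrix (Fin 2) (Fin 2) F)).trace = r * (g : Matrix (Fin 2) (Fin 2) F).trace := by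
    rw [Matrix.scalar_apply, Matrix.trace_fin_two, Matrix.trace_fin_two]
    simp [Matrix.mul_apply, Fin.sum_univ_two]
    ring
  rw [h2] at h1
  have h3 : (r - 1) * (g : Matrix (Fin 2) (Fin 2) F).trace = 0 := by linear_combination h1
  have hr1 : r = 1 := sub_eq_zero.1 ((mul_eq_zero.1 h3).resolve_right ht)
  apply hz1
  apply Subtype.ext
  rw [← hr, hr1, map_one]
  rfl

/-- in odd characteristic a non-scalar element of trace zero is conjugate to its negative -/
theorem exists_twist_of_trace_eq_zero (h2 : (2 : F) ≠ 0) (g : SpecialLinearGroup (Fin 2) F)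
    (hns : ¬ IsScalar2 (g : Matrix (Fin 2) (Fin 2) F)) (ht : (g : Matrix (Fin 2) (Fin 2) F).trace = 0) :
    ∃ h z : SpecialLinearGroup (Fin 2) F, z ∈ Subgroup.center (SpecialLinearGroup (Fin 2) F) ∧ z ≠ 1 ∧ h * g * h⁻¹ = z * g := by
  have h4 := four_ne_zero_of_two h2
  have hneg : ((-1 * g : SpecialLinearGroup (Fin 2) F) : Matrix (Fin 2) (Fin 2) F) = - (g : Matrix (Fin 2) (Fin 2) F) := by
    rw [neg_mul, one_mul, Matrix.SpecialLinearGroup.coe_neg]
  have hns' : ¬ IsScalar2 ((-1 * g : SpecialLinearGroup (Fin 2) F) : Matrix (Fin 2) (Fin 2) F) := by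
    rw [hneg]
    rintro ⟨h01, h10, h00⟩
    apply hns
    simp only [Matrix.neg_apply, neg_eq_zero, neg_inj] at h01 h10 h00
    exact ⟨h01, h10, h00⟩
  have ht' : ((-1 * g : SpecialLinearGroup (Fin 2) F) : Matrix (Fin 2) (Fin 2) F).trace = 0 := by
    rw [hneg, Matrix.trace_neg, ht, neg_zero]
  have c1 := isConj_comp2SL g hns (by rw [ht]; simpa using h4.symm)
  have c2 := isConj_comp2SL (-1 * g) hns' (by rw [ht']; simpa using h4.symm)
  rw [ht] at c1
  rw [ht'] at c2
  obtain ⟨h, hh⟩ := isConj_iff.1 (c1.trans c2.symm)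
  refine ⟨h, -1, neg_one_mem_center_SL2, ?_, hh⟩
  intro h1
  have := congrArg (fun A : SpecialLinearGroup (Fin 2) F => (A : Matrix (Fin 2) (Fin 2) F) 0 0) h1
  simp at this
  apply h2
  linear_combination (-1 : F) * this

/-- centraliser order and index data for the image in `PSL₂` -/
theorem centMod_index_data (h2 : (2 : F) ≠ 0) (g : SpecialLinearGroup (Fin 2) F)
    (hns : ¬ IsScalar2 (g : Matrix (Fin 2) (Fin 2) F)) :
    ((g : Matrix (Fin 2) (Fin 2) F).trace ≠ 0 →
      (centMod g).index * Nat.card (Subgroup.centralizer ({g} : Set (SpecialLinearGroup (Fin 2) F))) =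
        Fintype.card F * (Fintype.card F ^ 2 - 1)) ∧
    ((g : Matrix (Fin 2) (Fin 2) F).trace = 0 →
      2 * (centMod g).index * Nat.card (Subgroup.centralizer ({g} : Set (SpecialLinearGroup (Fin 2) F))) =
        Fintype.card F * (Fintype.card F ^ 2 - 1)) := by
  have hZ := Cfsg.Agent.Lib.Helper3.CardSL.card_center_SL2 h2
  have hk := card_range_kappa hZ g
  have hidx := index_centralizer_eq g
  have hmain : (Subgroup.centralizer ({g} : Set (SpecialLinearGroup (Fin 2) F))).index *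
      Nat.card (Subgroup.centralizer ({g} : Set (SpecialLinearGroup (Fin 2) F))) =
      Fintype.card F * (Fintype.card F ^ 2 - 1) := by
    rw [Subgroup.index_mul_card, card_SL2]
  constructor
  · intro ht
    rw [hk.2 (no_twist_of_trace_ne_zero g ht), one_mul] at hidx
    rw [← hidx]
    exact hmain
  · intro ht
    rw [hk.1 (exists_twist_of_trace_eq_zero h2 g hns ht)] at hidx
    rw [← hidx]
    exact hmain

theorem centMod_index_scalar (g : SpecialLinearGroup (Fin 2) F) (hs : IsScalar2 (g : Matrix (Fin 2) (Fin 2) F)) :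
    (centMod g).index = 1 := by
  rw [Subgroup.index_eq_one, eq_top_iff]
  intro h _
  rw [mem_centMod_iff]
  have := Subgroup.mem_center_iff.1 (isScalar2_mem_center g hs) h
  rw [this, mul_inv_cancel_right, mul_inv_cancel]
  exact one_mem _

/-- split trace: `t = a + a⁻¹` -/
def IsSplitTrace (t : F) : Prop := ∃ a : F, a ≠ 0 ∧ t = a + a⁻¹

omit [Fintype F] in
theorem trace_eq_add_inv (t a : F) (ha0 : a ≠ 0) (ha : a ^ 2 - t * a + 1 = 0) : t = a + a⁻¹ := by
  have h1 : t * a = a ^ 2 + 1 := by linear_combination -ha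
  calc t = (t * a) * a⁻¹ := by rw [mul_assoc, mul_inv_cancel₀ ha0, mul_one]
    _ = (a ^ 2 + 1) * a⁻¹ := by rw [h1]
    _ = a + a⁻¹ := by rw [add_mul, one_mul, pow_two, mul_assoc, mul_inv_cancel₀ ha0, mul_one]

theorem card_centralizer_unip_odd (h2 : (2 : F) ≠ 0) (g : SpecialLinearGroup (Fin 2) F)
    (hns : ¬ IsScalar2 (g : Matrix (Fin 2) (Fin 2) F)) (ht : (g : Matrix (Fin 2) (Fin 2) F).trace ^ 2 = 4) :
    Nat.card (Subgroup.centralizer ({g} : Set (SpecialLinearGroup (Fin 2) F))) = 2 * Fintype.card F := by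
  have h4 := four_ne_zero_of_two h2
  rw [card_centralizer_SL2 g hns]
  have hε : ((g : Matrix (Fin 2) (Fin 2) F).trace / 2) * ((g : Matrix (Fin 2) (Fin 2) F).trace / 2) = 1 := by
    field_simp
    linear_combination ht
  have ht2 : (g : Matrix (Fin 2) (Fin 2) F).trace = 2 * ((g : Matrix (Fin 2) (Fin 2) F).trace / 2) := by
    field_simp
  rw [ht2, card_normOne_unip _ hε, card_sq_eq_one_odd h2]

theorem card_centralizer_split_odd (g : SpecialLinearGroup (Fin 2) F)
    (hns : ¬ IsScalar2 (g : Matrix (Fin 2) (Fin 2) F)) (ht : (g : Matrix (Fin 2) (Fin 2) F).trace ^ 2 ≠ 4)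
    (hs : IsSplitTrace (g : Matrix (Fin 2) (Fin 2) F).trace) :
    Nat.card (Subgroup.centralizer ({g} : Set (SpecialLinearGroup (Fin 2) F))) = Fintype.card F - 1 := by
  obtain ⟨a, ha0, hta⟩ := hs
  rw [card_centralizer_SL2 g hns, hta]
  apply card_normOne_split a a⁻¹ (mul_inv_cancel₀ ha0)
  intro h
  apply ht
  have h1 : a * a = 1 := by
    nth_rewrite 2 [h]
    exact mul_inv_cancel₀ ha0
  rw [hta, ← h]
  linear_combination 4 * h1

theorem card_centralizer_nonsplit_odd (g : SpecialLinearGroup (Fin 2) F)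
    (hns : ¬ IsScalar2 (g : Matrix (Fin 2) (Fin 2) F))
    (hs : ¬ IsSplitTrace (g : Matrix (Fin 2) (Fin 2) F).trace) :
    Nat.card (Subgroup.centralizer ({g} : Set (SpecialLinearGroup (Fin 2) F))) = Fintype.card F + 1 := by
  rw [card_centralizer_SL2 g hns]
  apply card_normOne_aniso
  intro z₁ z₂ h
  by_cases hz : z₂ = 0
  · subst hz
    simp at h
    exact ⟨h, rfl⟩
  · exfalso
    apply hs
    have ha : (-z₁ / z₂) ^ 2 - (g : Matrix (Fin 2) (Fin 2) F).trace * (-z₁ / z₂) + 1 = 0 := by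
      field_simp
      linear_combination h
    have ha0 : -z₁ / z₂ ≠ 0 := by
      intro h0
      rw [h0] at ha
      simp at ha
    exact ⟨-z₁ / z₂, ha0, trace_eq_add_inv _ _ ha0 ha⟩

theorem not_split_of_sq (t : F) (ht : t ^ 2 = 4) (h2 : (2 : F) ≠ 0) : IsSplitTrace t := by
  have ht0 : t ≠ 0 := by
    rintro rfl
    apply four_ne_zero_of_two h2
    rw [← ht]; ring
  refine ⟨t / 2, div_ne_zero ht0 h2, ?_⟩
  rw [inv_div]
  field_simp
  linear_combination ht

end odd
end Cfsg.Agent.Lib.Helper15
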