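import Mathlib
import Cfsg.Agent.Lib.Helper15.PSL2ClassOdd1
set_option autoImplicit false
namespace Cfsg.Agent.Lib.Helper15

open Matrix
open Cfsg.Agent.Lib.Helper14

section arith2

theorem arithA1 (q i : ℕ) (hq : 1 ≤ q) (h : i * (2 * q) = q * (q ^ 2 - 1)) : i = (q ^ 2 - 1) / 2 := by
  have h1 : q * (i * 2) = q * (q ^ 2 - 1) := by rw [← h]; ring
  have h2 := Nat.eq_of_mul_eq_mul_left (by omega) h1
  omega

theorem arithA2 (q i : ℕ) (hq : 2 ≤ q) (h : i * (q - 1) = q * (q ^ 2 - 1)) : i = q * (q + 1) := by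
  rw [sq_sub_one_eq q (by omega)] at h
  have h1 : i * (q - 1) = (q * (q + 1)) * (q - 1) := by rw [h]; ring
  exact Nat.eq_of_mul_eq_mul_right (by omega) h1

theorem arithA3 (q i : ℕ) (hq : 2 ≤ q) (h : 2 * i * (q - 1) = q * (q ^ 2 - 1)) : i = q * (q + 1) / 2 := by
  rw [sq_sub_one_eq q (by omega)] at h
  have h1 : (2 * i) * (q - 1) = (q * (q + 1)) * (q - 1) := by rw [h]; ring
  have h2 := Nat.eq_of_mul_eq_mul_right (by omega) h1
  omega

theorem arithA4 (q i : ℕ) (hq : 2 ≤ q) (h : i * (q + 1) = q * (q ^ 2 - 1)) : i = q * (q - 1) := by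
  rw [sq_sub_one_eq q (by omega)] at h
  have h1 : i * (q + 1) = (q * (q - 1)) * (q + 1) := by rw [h]; ring
  exact Nat.eq_of_mul_eq_mul_right (by omega) h1

theorem arithA5 (q i : ℕ) (hq : 2 ≤ q) (h : 2 * i * (q + 1) = q * (q ^ 2 - 1)) : i = q * (q - 1) / 2 := by
  rw [sq_sub_one_eq q (by omega)] at h
  have h1 : (2 * i) * (q + 1) = (q * (q - 1)) * (q + 1) := by rw [h]; ring
  have h2 := Nat.eq_of_mul_eq_mul_right (by omega) h1
  omega

end arith2

section oddidx
variable {F : Type*} [Field F] [Fintype F]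

theorem zero_sq_ne_four (h2 : (2 : F) ≠ 0) : (0 : F) ^ 2 ≠ 4 := by
  have := four_ne_zero_of_two h2
  intro h
  apply this
  rw [← h]; ring

theorem idx_unip (h2 : (2 : F) ≠ 0) (g : SpecialLinearGroup (Fin 2) F)
    (hns : ¬ IsScalar2 (g : Matrix (Fin 2) (Fin 2) F)) (ht : (g : Matrix (Fin 2) (Fin 2) F).trace ^ 2 = 4) :
    (centMod g).index = (Fintype.card F ^ 2 - 1) / 2 := by
  have ht0 : (g : Matrix (Fin 2) (Fin 2) F).trace ≠ 0 := by
    intro h
    rw [h] at ht
    exact zero_sq_ne_four h2 ht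
  have := (centMod_index_data h2 g hns).1 ht0
  rw [card_centralizer_unip_odd h2 g hns ht] at this
  exact arithA1 _ _ Fintype.card_pos this

theorem idx_split_ne (h2 : (2 : F) ≠ 0) (g : SpecialLinearGroup (Fin 2) F)
    (hns : ¬ IsScalar2 (g : Matrix (Fin 2) (Fin 2) F)) (ht : (g : Matrix (Fin 2) (Fin 2) F).trace ^ 2 ≠ 4)
    (hs : IsSplitTrace (g : Matrix (Fin 2) (Fin 2) F).trace) (ht0 : (g : Matrix (Fin 2) (Fin 2) F).trace ≠ 0) :
    (centMod g).index = Fintype.card F * (Fintype.card F + 1) := by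
  have := (centMod_index_data h2 g hns).1 ht0
  rw [card_centralizer_split_odd g hns ht hs] at this
  exact arithA2 _ _ Fintype.one_lt_card this

theorem idx_split_zero (h2 : (2 : F) ≠ 0) (g : SpecialLinearGroup (Fin 2) F)
    (hns : ¬ IsScalar2 (g : Matrix (Fin 2) (Fin 2) F))
    (hs : IsSplitTrace (g : Matrix (Fin 2) (Fin 2) F).trace) (ht0 : (g : Matrix (Fin 2) (Fin 2) F).trace = 0) :
    (centMod g).index = Fintype.card F * (Fintype.card F + 1) / 2 := by
  have := (centMod_index_data h2 g hns).2 ht0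
  rw [card_centralizer_split_odd g hns (by rw [ht0]; exact zero_sq_ne_four h2) hs] at this
  exact arithA3 _ _ Fintype.one_lt_card this

theorem idx_nonsplit_ne (h2 : (2 : F) ≠ 0) (g : SpecialLinearGroup (Fin 2) F)
    (hns : ¬ IsScalar2 (g : Matrix (Fin 2) (Fin 2) F))
    (hs : ¬ IsSplitTrace (g : Matrix (Fin 2) (Fin 2) F).trace) (ht0 : (g : Matrix (Fin 2) (Fin 2) F).trace ≠ 0) :
    (centMod g).index = Fintype.card F * (Fintype.card F - 1) := by
  have := (centMod_index_data h2 g hns).1 ht0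
  rw [card_centralizer_nonsplit_odd g hns hs] at this
  exact arithA4 _ _ Fintype.one_lt_card this

theorem idx_nonsplit_zero (h2 : (2 : F) ≠ 0) (g : SpecialLinearGroup (Fin 2) F)
    (hns : ¬ IsScalar2 (g : Matrix (Fin 2) (Fin 2) F))
    (hs : ¬ IsSplitTrace (g : Matrix (Fin 2) (Fin 2) F).trace) (ht0 : (g : Matrix (Fin 2) (Fin 2) F).trace = 0) :
    (centMod g).index = Fintype.card F * (Fintype.card F - 1) / 2 := by
  have := (centMod_index_data h2 g hns).2 ht0
  rw [card_centralizer_nonsplit_odd g hns hs] at this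
  exact arithA5 _ _ Fintype.one_lt_card this

omit [Fintype F] in
theorem split_zero_iff : IsSplitTrace (0 : F) ↔ IsSquare (-1 : F) := by
  constructor
  · rintro ⟨a, ha0, ha⟩
    refine ⟨a, ?_⟩
    have h1 : a * (a + a⁻¹) = 0 := by rw [← ha, mul_zero]
    rw [mul_add, mul_inv_cancel₀ ha0] at h1
    linear_combination -h1
  · rintro ⟨a, ha⟩
    have ha0 : a ≠ 0 := by
      rintro rfl
      simp at ha
    refine ⟨a, ha0, ?_⟩
    apply trace_eq_add_inv _ _ ha0
    linear_combination -ha

theorem psl_index_cases (h2 : (2 : F) ≠ 0) (g : SpecialLinearGroup (Fin 2) F) :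
    (centMod g).index = 1 ∨ (centMod g).index = (Fintype.card F ^ 2 - 1) / 2 ∨
    (centMod g).index = Fintype.card F * (Fintype.card F + 1) ∨
    ((centMod g).index = Fintype.card F * (Fintype.card F + 1) / 2 ∧ IsSquare (-1 : F)) ∨
    (centMod g).index = Fintype.card F * (Fintype.card F - 1) ∨
    ((centMod g).index = Fintype.card F * (Fintype.card F - 1) / 2 ∧ ¬ IsSquare (-1 : F)) := by
  by_cases hsc : IsScalar2 (g : Matrix (Fin 2) (Fin 2) F)
  · left; exact centMod_index_scalar g hsc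
  by_cases ht4 : (g : Matrix (Fin 2) (Fin 2) F).trace ^ 2 = 4
  · right; left; exact idx_unip h2 g hsc ht4
  by_cases hs : IsSplitTrace (g : Matrix (Fin 2) (Fin 2) F).trace
  · by_cases ht0 : (g : Matrix (Fin 2) (Fin 2) F).trace = 0
    · right; right; right; left
      refine ⟨idx_split_zero h2 g hsc hs ht0, ?_⟩
      rw [ht0] at hs
      exact split_zero_iff.1 hs
    · right; right; left
      exact idx_split_ne h2 g hsc ht4 hs ht0
  · by_cases ht0 : (g : Matrix (Fin 2) (Fin 2) F).trace = 0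
    · right; right; right; right; right
      refine ⟨idx_nonsplit_zero h2 g hsc hs ht0, ?_⟩
      rw [ht0] at hs
      exact fun h => hs (split_zero_iff.2 h)
    · right; right; right; right; left
      exact idx_nonsplit_ne h2 g hsc hs ht0

end oddidx

section exist
variable {F : Type*} [Field F] [Fintype F]

/-- diagonal element of `SL₂` -/
def diagSL (a : F) (ha : a ≠ 0) : SpecialLinearGroup (Fin 2) F := ⟨!![a, 0; 0, a⁻¹], by simp [det_fin_two, ha]⟩

omit [Fintype F] in
theorem diagSL_trace (a : F) (ha : a ≠ 0) : ((diagSL a ha : SpecialLinearGroup (Fin 2) F) : Matrix (Fin 2) (Fin 2) F).trace = a + a⁻¹ := by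
  show (!![a, 0; 0, a⁻¹] : Matrix (Fin 2) (Fin 2) F).trace = _
  rw [trace_fin_two]
  rfl

omit [Fintype F] in
theorem diagSL_not_scalar (a : F) (ha : a ≠ 0) (h : a ≠ a⁻¹) :
    ¬ IsScalar2 ((diagSL a ha : SpecialLinearGroup (Fin 2) F) : Matrix (Fin 2) (Fin 2) F) := by
  rintro ⟨-, -, h00⟩
  exact h h00

theorem exists_unit_pow_ne_one (k : ℕ) (hk : k < Fintype.card F - 1) (hk0 : 0 < k) : ∃ u : Fˣ, u ^ k ≠ 1 := by
  classical
  obtain ⟨u, hu⟩ := IsCyclic.exists_generator (α := Fˣ)
  refine ⟨u, fun h => ?_⟩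
  have h1 : orderOf u = Fintype.card F - 1 := by
    rw [orderOf_eq_card_of_forall_mem_zpowers hu, Nat.card_eq_fintype_card, Fintype.card_units]
  have h2 := orderOf_dvd_of_pow_eq_one h
  rw [h1] at h2
  have := Nat.le_of_dvd hk0 h2
  omega

theorem exists_idx_one : ∃ g : SpecialLinearGroup (Fin 2) F, (centMod g).index = 1 :=
  ⟨1, centMod_index_scalar 1 (by
    change IsScalar2 (1 : Matrix (Fin 2) (Fin 2) F)
    exact ⟨by simp, by simp, by simp⟩)⟩

theorem exists_idx_unip (h2 : (2 : F) ≠ 0) :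
    ∃ g : SpecialLinearGroup (Fin 2) F, (centMod g).index = (Fintype.card F ^ 2 - 1) / 2 := by
  refine ⟨upperSL 1 1 (one_mul 1), idx_unip h2 _ ?_ ?_⟩
  · rw [upperSL_coe]
    rintro ⟨h, -, -⟩
    simp at h
  · rw [upperSL_coe, trace_fin_two]
    simp only [of_apply, cons_val', cons_val_zero, cons_val_fin_one, cons_val_one]
    norm_num

theorem exists_idx_split_ne (h2 : (2 : F) ≠ 0) (h7 : 7 ≤ Fintype.card F) :
    ∃ g : SpecialLinearGroup (Fin 2) F, (centMod g).index = Fintype.card F * (Fintype.card F + 1) := by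
  obtain ⟨u, hu⟩ := exists_unit_pow_ne_one (F := F) 4 (by omega) (by norm_num)
  have ha0 : (u : F) ≠ 0 := u.ne_zero
  have ha4 : (u : F) ^ 4 ≠ 1 := by
    intro h
    apply hu
    apply Units.ext
    rw [Units.val_pow_eq_pow_val, h, Units.val_one]
  set a := (u : F) with ha
  have hinv : a * a⁻¹ = 1 := mul_inv_cancel₀ ha0
  have hne : a ≠ a⁻¹ := by
    intro h
    apply ha4
    have h1 : a * a = 1 := by
      nth_rewrite 2 [h]
      exact hinv
    calc a ^ 4 = (a * a) * (a * a) := by ring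
      _ = 1 := by rw [h1, one_mul]
  have ht0 : a + a⁻¹ ≠ 0 := by
    intro h
    apply ha4
    have h1 : a * a = -1 := by
      have : a * (a + a⁻¹) = 0 := by rw [h, mul_zero]
      rw [mul_add, hinv] at this
      linear_combination this
    calc a ^ 4 = (a * a) * (a * a) := by ring
      _ = 1 := by rw [h1]; ring
  have ht4 : (a + a⁻¹) ^ 2 ≠ 4 := by
    intro h
    apply hne
    have h1 : (a - a⁻¹) ^ 2 = 0 := by linear_combination h - 4 * hinv
    exact sub_eq_zero.1 (pow_eq_zero_iff two_ne_zero |>.1 h1)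
  refine ⟨diagSL a ha0, idx_split_ne h2 _ (diagSL_not_scalar a ha0 hne) ?_ ?_ ?_⟩
  · rw [diagSL_trace]; exact ht4
  · rw [diagSL_trace]; exact ⟨a, ha0, rfl⟩
  · rw [diagSL_trace]; exact ht0

theorem exists_idx_split_zero (h2 : (2 : F) ≠ 0) (hsq : IsSquare (-1 : F)) :
    ∃ g : SpecialLinearGroup (Fin 2) F, (centMod g).index = Fintype.card F * (Fintype.card F + 1) / 2 := by
  obtain ⟨a, ha⟩ := hsq
  have ha0 : a ≠ 0 := by
    rintro rfl
    simp at ha
  have hinv : a⁻¹ = -a := by
    apply inv_eq_of_mul_eq_one_right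
    linear_combination ha
  have hne : a ≠ a⁻¹ := by
    rw [hinv]
    intro h
    have : 2 * a = 0 := by linear_combination h
    rcases mul_eq_zero.1 this with h | h
    · exact h2 h
    · exact ha0 h
  have htr : ((diagSL a ha0 : SpecialLinearGroup (Fin 2) F) : Matrix (Fin 2) (Fin 2) F).trace = 0 := by
    rw [diagSL_trace, hinv, add_neg_cancel]
  refine ⟨diagSL a ha0, idx_split_zero h2 _ (diagSL_not_scalar a ha0 hne) ?_ htr⟩
  rw [htr]
  exact split_zero_iff.2 ⟨a, ha⟩

theorem exists_nonsplit_ne_zero (h5 : 5 ≤ Fintype.card F) : ∃ t : F, t ≠ 0 ∧ ¬ IsSplitTrace t := by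
  classical
  by_contra hcon
  push Not at hcon
  have hch : ∀ v : Fˣ, ∃ w : Fˣ, (v : F) = (w : F) + ((w⁻¹ : Fˣ) : F) := by
    intro v
    obtain ⟨a, ha0, ha⟩ := hcon (v : F) v.ne_zero
    refine ⟨Units.mk0 a ha0, ?_⟩
    rw [ha]
    rfl
  choose ψ hψ using hch
  have hinj : Function.Injective ψ := by
    intro v v' h
    apply Units.ext
    rw [hψ v, hψ v', h]
  have hsurj := Finite.injective_iff_surjective.1 hinj
  obtain ⟨u, hu⟩ := exists_unit_pow_ne_one (F := F) 2 (by omega) (by norm_num)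
  obtain ⟨v, hv⟩ := hsurj u
  obtain ⟨v', hv'⟩ := hsurj u⁻¹
  have h1 : (v : F) = (v' : F) := by
    rw [hψ v, hψ v', hv, hv', inv_inv, add_comm]
  have h2 : v = v' := Units.ext h1
  apply hu
  rw [pow_two]
  have : u = u⁻¹ := by
    calc u = ψ v := hv.symm
      _ = ψ v' := by rw [h2]
      _ = u⁻¹ := hv'
  nth_rewrite 2 [this]
  exact mul_inv_cancel u

theorem exists_idx_nonsplit_ne (h2 : (2 : F) ≠ 0) (h5 : 5 ≤ Fintype.card F) :
    ∃ g : SpecialLinearGroup (Fin 2) F, (centMod g).index = Fintype.card F * (Fintype.card F - 1) := by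
  obtain ⟨t, ht0, hts⟩ := exists_nonsplit_ne_zero h5
  refine ⟨comp2SL t, idx_nonsplit_ne h2 _ ?_ ?_ ?_⟩
  · rw [comp2SL_coe]; exact comp2_not_isScalar2 t 1
  · rw [comp2SL_coe, comp2_trace]; exact hts
  · rw [comp2SL_coe, comp2_trace]; exact ht0

theorem exists_idx_nonsplit_zero (h2 : (2 : F) ≠ 0) (hsq : ¬ IsSquare (-1 : F)) :
    ∃ g : SpecialLinearGroup (Fin 2) F, (centMod g).index = Fintype.card F * (Fintype.card F - 1) / 2 := by
  refine ⟨comp2SL 0, idx_nonsplit_zero h2 _ ?_ ?_ ?_⟩
  · rw [comp2SL_coe]; exact comp2_not_isScalar2 0 1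
  · rw [comp2SL_coe, comp2_trace]; exact fun h => hsq (split_zero_iff.1 h)
  · rw [comp2SL_coe, comp2_trace]

theorem range_psl_eq_range_centMod :
    Set.range (fun g : ProjectiveSpecialLinearGroup (Fin 2) F => (Subgroup.centralizer ({g} : Set (ProjectiveSpecialLinearGroup (Fin 2) F))).index) =
    Set.range (fun g : SpecialLinearGroup (Fin 2) F => (centMod g).index) := by
  ext n
  constructor
  · rintro ⟨g, rfl⟩
    obtain ⟨g', rfl⟩ := QuotientGroup.mk'_surjective (Subgroup.center (SpecialLinearGroup (Fin 2) F)) g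
    exact ⟨g', index_centMod g'⟩
  · rintro ⟨g, rfl⟩
    exact ⟨QuotientGroup.mk' _ g, (index_centMod g).symm⟩

theorem range_psl_odd (h2 : (2 : F) ≠ 0) (h7 : 7 ≤ Fintype.card F) :
    (Fintype.card F % 4 = 1 →
      Set.range (fun g : ProjectiveSpecialLinearGroup (Fin 2) F => (Subgroup.centralizer ({g} : Set (ProjectiveSpecialLinearGroup (Fin 2) F))).index) =
        {1, (Fintype.card F ^ 2 - 1) / 2, Fintype.card F * (Fintype.card F + 1) / 2,
          Fintype.card F * (Fintype.card F - 1), Fintype.card F * (Fintype.card F + 1)}) ∧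
    (Fintype.card F % 4 = 3 →
      Set.range (fun g : ProjectiveSpecialLinearGroup (Fin 2) F => (Subgroup.centralizer ({g} : Set (ProjectiveSpecialLinearGroup (Fin 2) F))).index) =
        {1, (Fintype.card F ^ 2 - 1) / 2, Fintype.card F * (Fintype.card F - 1) / 2,
          Fintype.card F * (Fintype.card F + 1), Fintype.card F * (Fintype.card F - 1)}) := by
  rw [range_psl_eq_range_centMod]
  constructor
  · intro h1
    have hsq : IsSquare (-1 : F) := FiniteField.isSquare_neg_one_iff.2 (by omega)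
    ext n
    constructor
    · rintro ⟨g, rfl⟩
      rcases psl_index_cases h2 g with h | h | h | ⟨h, -⟩ | h | ⟨-, h⟩
      · left; exact h
      · right; left; exact h
      · right; right; right; right; exact h
      · right; right; left; exact h
      · right; right; right; left; exact h
      · exact absurd hsq h
    · rintro (rfl | rfl | rfl | rfl | rfl)
      · exact exists_idx_one
      · exact exists_idx_unip h2
      · exact exists_idx_split_zero h2 hsq
      · exact exists_idx_nonsplit_ne h2 (by omega)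
      · exact exists_idx_split_ne h2 h7
  · intro h3
    have hsq : ¬ IsSquare (-1 : F) := fun h => (FiniteField.isSquare_neg_one_iff.1 h) h3
    ext n
    constructor
    · rintro ⟨g, rfl⟩
      rcases psl_index_cases h2 g with h | h | h | ⟨-, h⟩ | h | ⟨h, -⟩
      · left; exact h
      · right; left; exact h
      · right; right; right; left; exact h
      · exact absurd h hsq
      · right; right; right; right; exact h
      · right; right; left; exact h
    · rintro (rfl | rfl | rfl | rfl | rfl)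
      · exact exists_idx_one
      · exact exists_idx_unip h2
      · exact exists_idx_nonsplit_zero h2 hsq
      · exact exists_idx_split_ne h2 h7
      · exact exists_idx_nonsplit_ne h2 (by omega)

end exist
end Cfsg.Agent.Lib.Helper15
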