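import Mathlib
import Cfsg.Agent.Lib.Helper15.PSL2ClassOdd2
set_option autoImplicit false
namespace Cfsg.Agent.Lib.Helper15

open Matrix
open Cfsg.Agent.Lib.Helper14

section general
variable {F : Type*} [Field F]

theorem cayley2 (M : Matrix (Fin 2) (Fin 2) F) : M * M = M.trace • M - M.det • (1 : Matrix (Fin 2) (Fin 2) F) := by
  ext i j
  fin_cases i <;> fin_cases j <;>
    simp [Matrix.mul_apply, Fin.sum_univ_two, Matrix.trace_fin_two, Matrix.det_fin_two] <;> ring

theorem center_mul_self (z : SpecialLinearGroup (Fin 2) F) (hz : z ∈ Subgroup.center (SpecialLinearGroup (Fin 2) F)) :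
    z * z = 1 := by
  rw [Matrix.SpecialLinearGroup.mem_center_iff] at hz
  obtain ⟨r, hr, hrz⟩ := hz
  rw [Fintype.card_fin] at hr
  apply Subtype.ext
  rw [Matrix.SpecialLinearGroup.coe_mul, ← hrz, ← map_mul, ← pow_two, hr, map_one]
  rfl

theorem isScalar2_of_mem_center (z : SpecialLinearGroup (Fin 2) F) (hz : z ∈ Subgroup.center (SpecialLinearGroup (Fin 2) F)) :
    IsScalar2 (z : Matrix (Fin 2) (Fin 2) F) := by
  rw [Matrix.SpecialLinearGroup.mem_center_iff] at hz
  obtain ⟨r, -, hrz⟩ := hz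
  rw [← hrz]
  refine ⟨?_, ?_, ?_⟩ <;> simp [Matrix.scalar_apply]

/-- an involution of `SL₂` in characteristic not two is central -/
theorem mem_center_of_mul_self (h2 : (2 : F) ≠ 0) (h : SpecialLinearGroup (Fin 2) F) (hh : h * h = 1) :
    h ∈ Subgroup.center (SpecialLinearGroup (Fin 2) F) := by
  apply isScalar2_mem_center
  have h1 : (h : Matrix (Fin 2) (Fin 2) F) * (h : Matrix (Fin 2) (Fin 2) F) = 1 := by
    have := congrArg Subtype.val hh
    exact this
  rw [cayley2, h.det_coe, one_smul] at h1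
  have h3 : (h : Matrix (Fin 2) (Fin 2) F).trace • (h : Matrix (Fin 2) (Fin 2) F) = (2 : F) • (1 : Matrix (Fin 2) (Fin 2) F) := by
    rw [two_smul]
    exact sub_eq_iff_eq_add.1 h1
  have ht : (h : Matrix (Fin 2) (Fin 2) F).trace ≠ 0 := by
    intro h0
    rw [h0, zero_smul] at h3
    have := congrFun (congrFun h3 0) 0
    simp at this
    exact h2 this.symm
  have e01 := congrFun (congrFun h3 0) 1
  have e10 := congrFun (congrFun h3 1) 0
  have e00 := congrFun (congrFun h3 0) 0
  have e11 := congrFun (congrFun h3 1) 1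
  simp only [Matrix.smul_apply, smul_eq_mul, Matrix.one_apply_eq, Matrix.one_apply_ne, ne_eq, zero_ne_one, one_ne_zero,
    not_false_eq_true, mul_zero, mul_one] at e01 e10 e00 e11
  refine ⟨(mul_eq_zero.1 e01).resolve_left ht, (mul_eq_zero.1 e10).resolve_left ht, ?_⟩
  exact mul_left_cancel₀ ht (e00.trans e11.symm)

theorem mk_pow_eq_one_iff (g : SpecialLinearGroup (Fin 2) F) (k : ℕ) :
    (QuotientGroup.mk' (Subgroup.center (SpecialLinearGroup (Fin 2) F)) g) ^ k = 1 ↔
      g ^ k ∈ Subgroup.center (SpecialLinearGroup (Fin 2) F) := by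
  rw [← map_pow, QuotientGroup.mk'_apply, QuotientGroup.eq_one_iff]

/-- if `tr g = 2ε` with `ε² = 1` then `g^p = ε^p` in characteristic `p` -/
theorem pow_char_central (p : ℕ) [Fact p.Prime] [CharP F p] (g : SpecialLinearGroup (Fin 2) F) (ε : F) (hε : ε * ε = 1)
    (ht : (g : Matrix (Fin 2) (Fin 2) F).trace = 2 * ε) :
    g ^ p ∈ Subgroup.center (SpecialLinearGroup (Fin 2) F) := by
  apply isScalar2_mem_center
  rw [Matrix.SpecialLinearGroup.coe_pow]
  set M := (g : Matrix (Fin 2) (Fin 2) F) with hM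
  set N := M - ε • (1 : Matrix (Fin 2) (Fin 2) F) with hN
  have hNN : N * N = 0 := by
    rw [hN, Matrix.sub_mul, Matrix.mul_sub, Matrix.mul_sub, cayley2, g.det_coe, ht]
    simp only [Matrix.mul_smul, Matrix.smul_mul, Matrix.mul_one, Matrix.one_mul, smul_smul, hε]
    ext i j
    simp only [Matrix.sub_apply, Matrix.smul_apply, smul_eq_mul, Matrix.zero_apply]
    ring
  have hcomm : Commute (ε • (1 : Matrix (Fin 2) (Fin 2) F)) N := by
    apply Commute.smul_left
    exact Commute.one_left N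
  have hMsum : M = ε • (1 : Matrix (Fin 2) (Fin 2) F) + N := by rw [hN]; abel
  have hp2 : 2 ≤ p := (Fact.out : p.Prime).two_le
  have hNp : N ^ p = 0 := by
    obtain ⟨r, rfl⟩ := Nat.exists_eq_add_of_le hp2
    rw [pow_add, pow_two, hNN, zero_mul]
  rw [hMsum, add_pow_char_of_commute _ hcomm, hNp, add_zero, smul_pow, one_pow]
  refine ⟨?_, ?_, ?_⟩ <;> simp

end general
end Cfsg.Agent.Lib.Helper15
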