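import Mathlib
import Cfsg.Agent.Lib.Helper15.PSL2Orders1
import Cfsg.Agent.Lib.Helper15.DihOrthMinus
set_option autoImplicit false
namespace Cfsg.Agent.Lib.Helper15

open Matrix
open Cfsg.Agent.Lib.Helper14

section parity
variable {F : Type*} [Field F] [Fintype F]

theorem two_dvd_card_iff : 2 ∣ Fintype.card F ↔ (2 : F) = 0 := by
  constructor
  · intro h2
    obtain ⟨p, hp⟩ := CharP.exists F
    have hpp : Fact p.Prime := ⟨CharP.char_is_prime F p⟩
    obtain ⟨n, hn⟩ := FiniteField.card F p
    have hp2 : p = 2 := by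
      rw [hn.2] at h2
      exact ((Nat.prime_dvd_prime_iff_eq Nat.prime_two hn.1).1 (Nat.Prime.dvd_of_dvd_pow Nat.prime_two h2)).symm
    subst hp2
    exact_mod_cast CharP.cast_eq_zero F 2
  · intro h
    have hc : CharP F 2 := CharTwo.of_one_ne_zero_of_two_eq_zero one_ne_zero h
    obtain ⟨n, -, hn⟩ := FiniteField.card F 2
    rw [hn]
    exact dvd_pow_self 2 n.ne_zero

theorem gcd_two_of_ne (h2 : (2 : F) ≠ 0) : Nat.gcd 2 (Fintype.card F - 1) = 2 := by
  have : ¬ 2 ∣ Fintype.card F := fun h => h2 (two_dvd_card_iff.1 h)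
  have hpos : 0 < Fintype.card F := Fintype.card_pos
  apply Nat.gcd_eq_left
  omega

theorem gcd_two_of_eq (h2 : (2 : F) = 0) : Nat.gcd 2 (Fintype.card F - 1) = 1 := by
  have : 2 ∣ Fintype.card F := two_dvd_card_iff.2 h2
  have hpos : 0 < Fintype.card F := Fintype.card_pos
  have hodd : (Fintype.card F - 1) % 2 = 1 := by omega
  rw [Nat.gcd_rec, hodd]
  rfl

end parity

section subset
variable {F : Type*} [Field F] [Fintype F]

theorem trace_sq_of_isScalar2 (g : SpecialLinearGroup (Fin 2) F) (hg : IsScalar2 (g : Matrix (Fin 2) (Fin 2) F)) :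
    (g : Matrix (Fin 2) (Fin 2) F).trace ^ 2 = 4 := by
  obtain ⟨h01, h10, h00⟩ := hg
  have hdet := g.det_coe
  rw [det_fin_two, h01, h10, ← h00, mul_zero, sub_zero] at hdet
  rw [trace_fin_two, ← h00]
  linear_combination 4 * hdet

theorem pow_card_centralizer (g : SpecialLinearGroup (Fin 2) F) :
    g ^ Nat.card (Subgroup.centralizer ({g} : Set (SpecialLinearGroup (Fin 2) F))) = 1 := by
  have hmem : g ∈ Subgroup.centralizer ({g} : Set (SpecialLinearGroup (Fin 2) F)) := by
    rw [Subgroup.mem_centralizer_singleton_iff]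
  have := pow_card_eq_one' (G := Subgroup.centralizer ({g} : Set (SpecialLinearGroup (Fin 2) F))) (x := ⟨g, hmem⟩)
  have h2 := congrArg Subtype.val this
  exact h2

theorem orderOf_mk_dvd (p : ℕ) [Fact p.Prime] [CharP F p] (g : SpecialLinearGroup (Fin 2) F) :
    orderOf (QuotientGroup.mk' (Subgroup.center (SpecialLinearGroup (Fin 2) F)) g) ∣ p ∨
    orderOf (QuotientGroup.mk' (Subgroup.center (SpecialLinearGroup (Fin 2) F)) g) ∣
      (Fintype.card F - 1) / Nat.gcd 2 (Fintype.card F - 1) ∨
    orderOf (QuotientGroup.mk' (Subgroup.center (SpecialLinearGroup (Fin 2) F)) g) ∣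
      (Fintype.card F + 1) / Nat.gcd 2 (Fintype.card F - 1) := by
  by_cases ht4 : (g : Matrix (Fin 2) (Fin 2) F).trace ^ 2 = 4
  · left
    apply orderOf_dvd_of_pow_eq_one
    rw [mk_pow_eq_one_iff]
    by_cases h2 : (2 : F) = 0
    · have ht0 : (g : Matrix (Fin 2) (Fin 2) F).trace = 0 := by
        have h4 : (4 : F) = 0 := by
          have : (4 : F) = 2 * 2 := by norm_num
          rw [this, h2, zero_mul]
        rw [h4] at ht4
        exact pow_eq_zero_iff two_ne_zero |>.1 ht4
      exact pow_char_central p g 1 (one_mul 1) (by rw [ht0, h2, zero_mul])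
    · refine pow_char_central p g ((g : Matrix (Fin 2) (Fin 2) F).trace / 2) ?_ ?_
      · field_simp
        linear_combination ht4
      · field_simp
  · right
    have hns : ¬ IsScalar2 (g : Matrix (Fin 2) (Fin 2) F) := fun h => ht4 (trace_sq_of_isScalar2 g h)
    have hpow := pow_card_centralizer g
    have key : ∀ n : ℕ, g ^ n = 1 → n % 2 = (Fintype.card F - 1) % 2 →
        orderOf (QuotientGroup.mk' (Subgroup.center (SpecialLinearGroup (Fin 2) F)) g) ∣ n / Nat.gcd 2 (Fintype.card F - 1) := by
      intro n hn hpar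
      by_cases h2 : (2 : F) = 0
      · rw [gcd_two_of_eq h2, Nat.div_one]
        apply orderOf_dvd_of_pow_eq_one
        rw [← map_pow, hn, map_one]
      · rw [gcd_two_of_ne h2]
        have hq : ¬ 2 ∣ Fintype.card F := fun h => h2 (two_dvd_card_iff.1 h)
        have hpos : 0 < Fintype.card F := Fintype.card_pos
        have hn2 : n = n / 2 + n / 2 := by omega
        apply orderOf_dvd_of_pow_eq_one
        rw [mk_pow_eq_one_iff]
        apply mem_center_of_mul_self h2
        rw [← pow_add, ← hn2, hn]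
    by_cases hs : IsSplitTrace (g : Matrix (Fin 2) (Fin 2) F).trace
    · left
      rw [card_centralizer_split_odd g hns ht4 hs] at hpow
      exact key _ hpow rfl
    · right
      rw [card_centralizer_nonsplit_odd g hns hs] at hpow
      refine key _ hpow ?_
      have hpos : 0 < Fintype.card F := Fintype.card_pos
      omega

end subset
end Cfsg.Agent.Lib.Helper15
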