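import Mathlib
import Cfsg.Agent.Lib.Helper15.PSL2Orders2
set_option autoImplicit false
namespace Cfsg.Agent.Lib.Helper15

open Matrix
open Cfsg.Agent.Lib.Helper14

section supset
variable {F : Type*} [Field F]

theorem orderOf_mk_of_orderOf (w : SpecialLinearGroup (Fin 2) F) (n : ℕ) (hn : 0 < n) (hw : orderOf w = n)
    (H : (2 : F) ≠ 0 ∨ n % 2 = 1) :
    orderOf (QuotientGroup.mk' (Subgroup.center (SpecialLinearGroup (Fin 2) F)) w) = n / Nat.gcd 2 n := by
  have key : ∀ k : ℕ, (QuotientGroup.mk' (Subgroup.center (SpecialLinearGroup (Fin 2) F)) w) ^ k = 1 ↔ (n / Nat.gcd 2 n) ∣ k := by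
    intro k
    rw [mk_pow_eq_one_iff]
    have hfwd : w ^ k ∈ Subgroup.center (SpecialLinearGroup (Fin 2) F) → n ∣ k + k := by
      intro hc
      have := center_mul_self _ hc
      rw [← pow_add] at this
      rw [← hw]
      exact orderOf_dvd_of_pow_eq_one this
    rcases Nat.even_or_odd' n with ⟨n', rfl | rfl⟩
    · -- even
      have hg : Nat.gcd 2 (2 * n') = 2 := Nat.gcd_eq_left (dvd_mul_right 2 n')
      rw [hg, Nat.mul_div_cancel_left _ (by norm_num : 0 < 2)]
      have h2 : (2 : F) ≠ 0 := by
        rcases H with h | h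
        · exact h
        · omega
      constructor
      · intro hc
        have := hfwd hc
        rw [← two_mul] at this
        exact (Nat.mul_dvd_mul_iff_left (by norm_num : 0 < 2)).1 this
      · rintro ⟨j, rfl⟩
        apply mem_center_of_mul_self h2
        rw [← pow_add]
        have : n' * j + n' * j = (2 * n') * j := by ring
        rw [this, pow_mul, ← hw, pow_orderOf_eq_one, one_pow]
    · -- odd
      have hg : Nat.gcd 2 (2 * n' + 1) = 1 := by
        rw [Nat.gcd_rec]
        have : (2 * n' + 1) % 2 = 1 := by omega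
        rw [this]
        rfl
      rw [hg, Nat.div_one]
      constructor
      · intro hc
        have := hfwd hc
        rw [← two_mul] at this
        have hcop : Nat.Coprime (2 * n' + 1) 2 := by
          rw [Nat.coprime_comm]
          exact hg
        exact hcop.dvd_of_dvd_mul_left this
      · rintro ⟨j, rfl⟩
        rw [pow_mul, ← hw, pow_orderOf_eq_one, one_pow]
        exact one_mem _
  apply Nat.dvd_antisymm
  · apply orderOf_dvd_of_pow_eq_one
    rw [key]
  · rw [← key]
    exact pow_orderOf_eq_one _

/-- the split torus -/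
def diagHom : Fˣ →* SpecialLinearGroup (Fin 2) F where
  toFun u := ⟨!![(u : F), 0; 0, ((u⁻¹ : Fˣ) : F)], by simp [det_fin_two]⟩
  map_one' := by
    apply Subtype.ext
    show !![((1 : Fˣ) : F), 0; 0, (((1 : Fˣ)⁻¹ : Fˣ) : F)] = (1 : Matrix (Fin 2) (Fin 2) F)
    rw [Matrix.one_fin_two]
    simp
  map_mul' u v := by
    apply Subtype.ext
    show !![((u * v : Fˣ) : F), 0; 0, (((u * v)⁻¹ : Fˣ) : F)] =
      !![(u : F), 0; 0, ((u⁻¹ : Fˣ) : F)] * !![(v : F), 0; 0, ((v⁻¹ : Fˣ) : F)]
    rw [Matrix.mul_fin_two, mul_inv]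
    simp

theorem diagHom_injective : Function.Injective (diagHom (F := F)) := by
  intro u v h
  have h1 := congrArg (fun A : SpecialLinearGroup (Fin 2) F => (A : Matrix (Fin 2) (Fin 2) F) 0 0) h
  exact Units.ext h1

/-- the matrix of multiplication by `z` in the quadratic algebra -/
def torMat (a b : F) (z : QuadraticAlgebra F a b) : Matrix (Fin 2) (Fin 2) F :=
  !![z.re, a * z.im; z.im, z.re + b * z.im]

theorem torMat_mul (a b : F) (z w : QuadraticAlgebra F a b) : torMat a b (z * w) = torMat a b z * torMat a b w := by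
  unfold torMat
  rw [Matrix.mul_fin_two]
  simp only [QuadraticAlgebra.re_mul, QuadraticAlgebra.im_mul]
  apply mat2_mk_eq <;> ring

theorem torMat_one (a b : F) : torMat a b (1 : QuadraticAlgebra F a b) = 1 := by
  unfold torMat
  rw [Matrix.one_fin_two]
  simp [QuadraticAlgebra.re_one, QuadraticAlgebra.im_one]

theorem det_torMat (a b : F) (z : QuadraticAlgebra F a b) : (torMat a b z).det = QuadraticAlgebra.norm z := by
  unfold torMat
  rw [det_fin_two, QuadraticAlgebra.norm_def]
  simp only [of_apply, cons_val', cons_val_zero, cons_val_fin_one, cons_val_one]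
  ring

/-- the norm one torus of a quadratic algebra inside `SL₂` -/
def torSL (a b : F) : unitary (QuadraticAlgebra F a b) →* SpecialLinearGroup (Fin 2) F where
  toFun z := ⟨torMat a b z.1, by rw [det_torMat, QuadraticAlgebra.norm_eq_one_iff_mem_unitary.2 z.2]⟩
  map_one' := by
    apply Subtype.ext
    exact torMat_one a b
  map_mul' z w := by
    apply Subtype.ext
    exact torMat_mul a b z.1 w.1

theorem torSL_injective (a b : F) : Function.Injective (torSL a b) := by
  intro z w h
  have h1 := congrArg (fun A : SpecialLinearGroup (Fin 2) F => (A : Matrix (Fin 2) (Fin 2) F)) h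
  have h2 : torMat a b z.1 = torMat a b w.1 := h1
  have e0 := congrFun (congrFun h2 0) 0
  have e1 := congrFun (congrFun h2 1) 0
  unfold torMat at e0 e1
  simp at e0 e1
  apply Subtype.ext
  exact QuadraticAlgebra.ext e0 e1

end supset
end Cfsg.Agent.Lib.Helper15
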