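import Mathlib
import Cfsg.Agent.Lib.Helper15.PSL2Orders3
set_option autoImplicit false
namespace Cfsg.Agent.Lib.Helper15

open Matrix
open Cfsg.Agent.Lib.Helper14

section final
variable {F : Type*} [Field F] [Fintype F]

theorem exists_orderOf_of_dvd {G : Type*} [Group G] (x : G) (m : ℕ) (hm : m ∣ orderOf x) (hx : 0 < orderOf x) :
    ∃ y : G, orderOf y = m := by
  have hm0 : 0 < m := Nat.pos_of_dvd_of_pos hm hx
  refine ⟨x ^ (orderOf x / m), ?_⟩
  rw [orderOf_pow_of_dvd (Nat.div_pos (Nat.le_of_dvd hx hm) hm0).ne' (Nat.div_dvd_of_dvd hm), Nat.div_div_self hm hx.ne']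

theorem exists_orderOf_sub_one : ∃ w : SpecialLinearGroup (Fin 2) F, orderOf w = Fintype.card F - 1 := by
  classical
  obtain ⟨u, hu⟩ := IsCyclic.exists_generator (α := Fˣ)
  refine ⟨diagHom u, ?_⟩
  rw [orderOf_injective diagHom diagHom_injective, orderOf_eq_card_of_forall_mem_zpowers hu, Nat.card_eq_fintype_card,
    Fintype.card_units]

omit [Fintype F] in
theorem aniso_of_forall_ne (t : F) (h : ∀ α : F, α ^ 2 + t * α + 1 ≠ 0) :
    ∀ z₁ z₂ : F, z₁ ^ 2 + t * z₁ * z₂ + 1 * z₂ ^ 2 = 0 → z₁ = 0 ∧ z₂ = 0 := by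
  intro z₁ z₂ hz
  by_cases hz2 : z₂ = 0
  · subst hz2
    simp at hz
    exact ⟨hz, rfl⟩
  · exfalso
    apply h (z₁ / z₂)
    field_simp
    linear_combination hz

theorem exists_aniso (hq : 4 ≤ Fintype.card F) :
    ∃ t : F, ∀ z₁ z₂ : F, z₁ ^ 2 + t * z₁ * z₂ + 1 * z₂ ^ 2 = 0 → z₁ = 0 ∧ z₂ = 0 := by
  by_cases h2 : (2 : F) = 0
  · have hc : CharP F 2 := CharTwo.of_one_ne_zero_of_two_eq_zero one_ne_zero h2
    obtain ⟨t, ht⟩ := exists_no_root (F := F)
    exact ⟨t, aniso_of_forall_ne t ht⟩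
  · have hq5 : 5 ≤ Fintype.card F := by
      have : ¬ 2 ∣ Fintype.card F := fun h => h2 (two_dvd_card_iff.1 h)
      omega
    obtain ⟨t, -, hts⟩ := exists_nonsplit_ne_zero hq5
    refine ⟨-t, aniso_of_forall_ne (-t) ?_⟩
    intro α hα
    apply hts
    have hα0 : α ≠ 0 := by
      rintro rfl
      simp at hα
    exact ⟨α, hα0, trace_eq_add_inv t α hα0 (by linear_combination hα)⟩

theorem exists_orderOf_add_one (hq : 4 ≤ Fintype.card F) :
    ∃ w : SpecialLinearGroup (Fin 2) F, orderOf w = Fintype.card F + 1 := by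
  classical
  obtain ⟨t, hab⟩ := exists_aniso hq
  have hfact := fact_of_anisotropic t 1 hab
  have hfin : Finite (QuadraticAlgebra F (-1) t) := Finite.of_equiv _ (QuadraticAlgebra.equivProd (-1) t).symm
  have hfinU : Finite (unitary (QuadraticAlgebra F (-1) t)) := Subtype.finite
  have hcyc : IsCyclic (unitary (QuadraticAlgebra F (-1) t)) :=
    isCyclic_of_injective_ringHom (unitary (QuadraticAlgebra F (-1) t)).subtype Subtype.coe_injective
  obtain ⟨z, hz⟩ := hcyc.exists_generator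
  refine ⟨torSL (-1) t z, ?_⟩
  rw [orderOf_injective (torSL (-1) t) (torSL_injective (-1) t), orderOf_eq_card_of_forall_mem_zpowers hz,
    card_unitary_quadAlg t 1 hab]

theorem exists_orderOf_psl_char (p : ℕ) [Fact p.Prime] [CharP F p] :
    ∃ x : ProjectiveSpecialLinearGroup (Fin 2) F, orderOf x = p := by
  refine ⟨QuotientGroup.mk' _ (upperSL 1 1 (one_mul 1)), ?_⟩
  apply orderOf_eq_prime
  · rw [← map_pow, ← orderOf_upperSL p (1 : F) one_ne_zero, pow_orderOf_eq_one, map_one]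
  · intro h
    rw [QuotientGroup.mk'_apply, QuotientGroup.eq_one_iff] at h
    have := isScalar2_of_mem_center _ h
    rw [upperSL_coe] at this
    obtain ⟨h01, -, -⟩ := this
    simp at h01

theorem range_orderOf_psl (p : ℕ) [Fact p.Prime] [CharP F p] (h4 : 4 ≤ Fintype.card F) :
    Set.range (orderOf : ProjectiveSpecialLinearGroup (Fin 2) F → ℕ) =
      {m : ℕ | m ∣ p ∨ m ∣ (Fintype.card F - 1) / Nat.gcd 2 (Fintype.card F - 1) ∨
        m ∣ (Fintype.card F + 1) / Nat.gcd 2 (Fintype.card F - 1)} := by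
  ext m
  constructor
  · rintro ⟨x, rfl⟩
    obtain ⟨g, rfl⟩ := QuotientGroup.mk'_surjective (Subgroup.center (SpecialLinearGroup (Fin 2) F)) x
    exact orderOf_mk_dvd p g
  · have hdle : Nat.gcd 2 (Fintype.card F - 1) ≤ 2 := Nat.le_of_dvd (by norm_num) (Nat.gcd_dvd_left _ _)
    have hdpos : 0 < Nat.gcd 2 (Fintype.card F - 1) := Nat.gcd_pos_of_pos_left _ (by norm_num)
    have hH : ∀ n : ℕ, n % 2 = (Fintype.card F - 1) % 2 → ((2 : F) ≠ 0 ∨ n % 2 = 1) := by
      intro n hn
      by_cases h2 : (2 : F) = 0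
      · right
        have : 2 ∣ Fintype.card F := two_dvd_card_iff.2 h2
        omega
      · left; exact h2
    rintro (hm | hm | hm)
    · obtain ⟨x, hx⟩ := exists_orderOf_psl_char (F := F) p
      exact exists_orderOf_of_dvd x m (by rw [hx]; exact hm) (by rw [hx]; exact (Fact.out : p.Prime).pos)
    · obtain ⟨w, hw⟩ := exists_orderOf_sub_one (F := F)
      have hx := orderOf_mk_of_orderOf w _ (by omega) hw (hH _ rfl)
      refine exists_orderOf_of_dvd _ m (by rw [hx]; exact hm) ?_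
      rw [hx]
      exact Nat.div_pos (by omega) hdpos
    · obtain ⟨w, hw⟩ := exists_orderOf_add_one (F := F) h4
      have hx := orderOf_mk_of_orderOf w _ (by omega) hw (hH _ (by omega))
      have hg : Nat.gcd 2 (Fintype.card F + 1) = Nat.gcd 2 (Fintype.card F - 1) := by
        have : Fintype.card F + 1 = (Fintype.card F - 1) + 2 := by omega
        rw [this, Nat.gcd_add_self_right]
      rw [hg] at hx
      refine exists_orderOf_of_dvd _ m (by rw [hx]; exact hm) ?_
      rw [hx]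
      exact Nat.div_pos (by omega) hdpos

end final
end Cfsg.Agent.Lib.Helper15
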