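import Mathlib
import Cfsg.Agent.Lib.Helper15.PSL2Orders4
set_option autoImplicit false
namespace Cfsg.Agent.Lib.Helper15

open Matrix
open Cfsg.Agent.Lib.Helper14

section cover
variable {F : Type*} [Field F]

/-- A non-scalar `G ∈ SL₂` is conjugate, by an invertible matrix, to the companion matrix of its trace. -/
theorem exists_conj_comp2 (G : SpecialLinearGroup (Fin 2) F) (hG : ¬ IsScalar2 (G : Matrix (Fin 2) (Fin 2) F)) :
    ∃ P Q : Matrix (Fin 2) (Fin 2) F, P * Q = 1 ∧ Q * P = 1 ∧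
      (G : Matrix (Fin 2) (Fin 2) F) = P * comp2 (G : Matrix (Fin 2) (Fin 2) F).trace 1 * Q := by
  obtain ⟨x, y, hxy⟩ := exists_cyc2_ne_zero _ hG
  set P := cycMat2 (G : Matrix (Fin 2) (Fin 2) F) x y with hP
  have hdet : IsUnit P.det := by
    rw [hP, det_cycMat2]
    exact isUnit_iff_ne_zero.2 hxy
  refine ⟨P, P⁻¹, Matrix.mul_nonsing_inv P hdet, Matrix.nonsing_inv_mul P hdet, ?_⟩
  have h1 := mul_cycMat2 (G : Matrix (Fin 2) (Fin 2) F) x y
  rw [G.det_coe] at h1
  rw [← hP] at h1
  rw [← h1, Matrix.mul_assoc, Matrix.mul_nonsing_inv P hdet, Matrix.mul_one]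

/-- Factorisation of a non-scalar `G ∈ SL₂` as a product of two elements with prescribed traces,
given a solution of the associated conic. -/
theorem exists_factor (G : SpecialLinearGroup (Fin 2) F) (hG : ¬ IsScalar2 (G : Matrix (Fin 2) (Fin 2) F))
    (a b c d : F) (hdet : a * d - b * c = 1) :
    ∃ X₁ X₂ : SpecialLinearGroup (Fin 2) F, X₁ * X₂ = G ∧
      (X₁ : Matrix (Fin 2) (Fin 2) F).trace = a + d ∧
      (X₂ : Matrix (Fin 2) (Fin 2) F).trace = -b + c + a * (G : Matrix (Fin 2) (Fin 2) F).trace := by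
  obtain ⟨P, Q, hPQ, hQP, hGeq⟩ := exists_conj_comp2 G hG
  set t := (G : Matrix (Fin 2) (Fin 2) F).trace with ht
  have hdetPQ : P.det * Q.det = 1 := by rw [← Matrix.det_mul, hPQ, Matrix.det_one]
  set Y : Matrix (Fin 2) (Fin 2) F := !![a, b; c, d] with hY
  set Z : Matrix (Fin 2) (Fin 2) F := !![-b, -d - b * t; a, c + a * t] with hZ
  have hYdet : Y.det = 1 := by rw [hY, Matrix.det_fin_two_of]; exact hdet
  have hZdet : Z.det = 1 := by rw [hZ, Matrix.det_fin_two_of]; linear_combination hdet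
  have hYZ : Y * Z = comp2 t 1 := by
    rw [hY, hZ, comp2]
    ext i j
    fin_cases i <;> fin_cases j <;> simp [Matrix.mul_apply, Fin.sum_univ_two]
    · ring
    · linear_combination -hdet
    · linear_combination hdet
    · linear_combination t * hdet
  have hdet1 : (P * Y * Q).det = 1 := by
    rw [Matrix.det_mul, Matrix.det_mul, hYdet, mul_one, hdetPQ]
  have hdet2 : (P * Z * Q).det = 1 := by
    rw [Matrix.det_mul, Matrix.det_mul, hZdet, mul_one, hdetPQ]
  refine ⟨⟨P * Y * Q, hdet1⟩, ⟨P * Z * Q, hdet2⟩, ?_, ?_, ?_⟩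
  · apply Subtype.ext
    show (P * Y * Q) * (P * Z * Q) = (G : Matrix (Fin 2) (Fin 2) F)
    rw [hGeq]
    calc (P * Y * Q) * (P * Z * Q) = P * Y * (Q * P) * Z * Q := by simp only [Matrix.mul_assoc]
      _ = P * (Y * Z) * Q := by rw [hQP, Matrix.mul_one]; simp only [Matrix.mul_assoc]
      _ = P * comp2 t 1 * Q := by rw [hYZ]
  · show (P * Y * Q).trace = a + d
    rw [Matrix.trace_mul_cycle, hQP, Matrix.one_mul, hY, Matrix.trace_fin_two_of]
  · show (P * Z * Q).trace = -b + c + a * t
    rw [Matrix.trace_mul_cycle, hQP, Matrix.one_mul, hZ, Matrix.trace_fin_two_of]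
    ring

/-- the split solution of the conic -/
theorem exists_conic_split (α t : F) (hα : α ≠ 0) :
    ∃ a b c d : F, a * d - b * c = 1 ∧ a + d = α + α⁻¹ ∧ -b + c + a * t = α + α⁻¹ :=
  ⟨α, 0, α + α⁻¹ - α * t, α⁻¹, by rw [mul_inv_cancel₀ hα]; ring, rfl, by ring⟩

variable [Fintype F]

theorem exists_conic_odd (h2 : (2 : F) ≠ 0) (s t : F) (hs : s ≠ 0) :
    ∃ a b c d s' : F, (s' = s ∨ s' = -s) ∧ a * d - b * c = 1 ∧ a + d = s ∧ -b + c + a * t = s' := by
  have h4 : (4 : F) ≠ 0 := four_ne_zero_of_two h2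
  have h8 : (8 : F) ≠ 0 := by
    have : (8 : F) = 2 * 4 := by norm_num
    rw [this]; exact mul_ne_zero h2 h4
  have h16 : (16 : F) ≠ 0 := by
    have : (16 : F) = 4 * 4 := by norm_num
    rw [this]; exact mul_ne_zero h4 h4
  by_cases ht : t ^ 2 = 4
  · refine ⟨(4 + 3 * s ^ 2) / (8 * s), t * (4 - s ^ 2) / (16 * s), -t * (15 * s ^ 2 + 4) / (16 * s),
      (5 * s ^ 2 - 4) / (8 * s), -t * s / 2, ?_, ?_, ?_, ?_⟩
    · have h3 : (t - 2) * (t + 2) = 0 := by linear_combination ht
      rcases mul_eq_zero.1 h3 with h | h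
      · right
        have : t = 2 := by linear_combination h
        rw [this]; field_simp
      · left
        have : t = -2 := by linear_combination h
        rw [this]; field_simp
    · field_simp
      linear_combination 64 * (4 - s ^ 2) * (15 * s ^ 2 + 4) * ht
    · field_simp
      ring
    · field_simp
      ring
  · have hlead : (-(t ^ 2 - 4) : F) ≠ 0 := by
      intro h
      apply ht
      linear_combination -h
    have hodd : Fintype.card F % 2 = 1 := by
      have : ¬ 2 ∣ Fintype.card F := fun h => h2 (two_dvd_card_iff.1 h)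
      omega
    obtain ⟨u, b, hub⟩ := FiniteField.exists_root_sum_quadratic
      (f := Polynomial.C (4 : F) * Polynomial.X ^ 2)
      (g := Polynomial.C (-(t ^ 2 - 4)) * Polynomial.X ^ 2 + Polynomial.C (-(2 * t * s - 4 * s)) * Polynomial.X
        + Polynomial.C (-(s ^ 2 - 4)))
      (by rw [Polynomial.degree_C_mul_X_pow 2 h4]; rfl)
      (Polynomial.degree_quadratic hlead) hodd
    simp only [Polynomial.eval_add, Polynomial.eval_mul, Polynomial.eval_C, Polynomial.eval_pow,
      Polynomial.eval_X] at hub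
    refine ⟨u + (t * b + s) / 2, b, s + b - (u + (t * b + s) / 2) * t, s - (u + (t * b + s) / 2), s,
      Or.inl rfl, ?_, ?_, ?_⟩
    · field_simp
      linear_combination (-1 : F) * hub
    · ring
    · ring

end cover
end Cfsg.Agent.Lib.Helper15
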