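import Mathlib
import Cfsg.Agent.Lib.Helper15.PSL2Cover1
set_option autoImplicit false
namespace Cfsg.Agent.Lib.Helper15

open Matrix
open Cfsg.Agent.Lib.Helper14

section cover2
variable {F : Type*} [Field F] [Fintype F]

theorem isConj_of_trace_eq (X Y : SpecialLinearGroup (Fin 2) F)
    (h : (Y : Matrix (Fin 2) (Fin 2) F).trace = (X : Matrix (Fin 2) (Fin 2) F).trace)
    (h4 : (X : Matrix (Fin 2) (Fin 2) F).trace ^ 2 ≠ 4) : IsConj X Y := by
  have hX : ¬ IsScalar2 (X : Matrix (Fin 2) (Fin 2) F) := fun hs => h4 (trace_sq_of_isScalar2 X hs)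
  have h4' : (Y : Matrix (Fin 2) (Fin 2) F).trace ^ 2 ≠ 4 := by rw [h]; exact h4
  have hY : ¬ IsScalar2 (Y : Matrix (Fin 2) (Fin 2) F) := fun hs => h4' (trace_sq_of_isScalar2 Y hs)
  have c1 := isConj_comp2SL X hX h4
  have c2 := isConj_comp2SL Y hY h4'
  rw [h] at c2
  exact c1.trans c2.symm

theorem exists_conj_mk_of_trace (X Y : SpecialLinearGroup (Fin 2) F)
    (h : (Y : Matrix (Fin 2) (Fin 2) F).trace = (X : Matrix (Fin 2) (Fin 2) F).trace ∨
      (Y : Matrix (Fin 2) (Fin 2) F).trace = -(X : Matrix (Fin 2) (Fin 2) F).trace)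
    (h4 : (X : Matrix (Fin 2) (Fin 2) F).trace ^ 2 ≠ 4) :
    ∃ v : SpecialLinearGroup (Fin 2) F ⧸ Subgroup.center (SpecialLinearGroup (Fin 2) F),
      QuotientGroup.mk' (Subgroup.center (SpecialLinearGroup (Fin 2) F)) Y =
        v * QuotientGroup.mk' (Subgroup.center (SpecialLinearGroup (Fin 2) F)) X * v⁻¹ := by
  rcases h with h | h
  · obtain ⟨c, hc⟩ := isConj_iff.1 (isConj_of_trace_eq X Y h h4)
    refine ⟨QuotientGroup.mk' _ c, ?_⟩
    rw [← hc, map_mul, map_mul, map_inv]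
  · have hneg : ((-Y : SpecialLinearGroup (Fin 2) F) : Matrix (Fin 2) (Fin 2) F).trace =
        (X : Matrix (Fin 2) (Fin 2) F).trace := by
      rw [Matrix.SpecialLinearGroup.coe_neg, Matrix.trace_neg, h, neg_neg]
    obtain ⟨c, hc⟩ := isConj_iff.1 (isConj_of_trace_eq X (-Y) hneg h4)
    refine ⟨QuotientGroup.mk' _ c, ?_⟩
    have hY : QuotientGroup.mk' (Subgroup.center (SpecialLinearGroup (Fin 2) F)) Y =
        QuotientGroup.mk' (Subgroup.center (SpecialLinearGroup (Fin 2) F)) (-Y) := by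
      have : (-Y : SpecialLinearGroup (Fin 2) F) = Y * (-1) := by rw [mul_neg, mul_one]
      rw [this, map_mul]
      have h1 : QuotientGroup.mk' (Subgroup.center (SpecialLinearGroup (Fin 2) F)) (-1) = 1 := by
        rw [QuotientGroup.mk'_apply, QuotientGroup.eq_one_iff]
        exact neg_one_mem_center_SL2
      rw [h1, mul_one]
    rw [hY, ← hc, map_mul, map_mul, map_inv]

theorem cover_of_conic (X G : SpecialLinearGroup (Fin 2) F)
    (h4 : (X : Matrix (Fin 2) (Fin 2) F).trace ^ 2 ≠ 4)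
    (hG : ¬ IsScalar2 (G : Matrix (Fin 2) (Fin 2) F))
    (a b c d s' : F) (hs' : s' = (X : Matrix (Fin 2) (Fin 2) F).trace ∨ s' = -(X : Matrix (Fin 2) (Fin 2) F).trace)
    (hdet : a * d - b * c = 1) (h1 : a + d = (X : Matrix (Fin 2) (Fin 2) F).trace)
    (h2 : -b + c + a * (G : Matrix (Fin 2) (Fin 2) F).trace = s') :
    ∃ u v : SpecialLinearGroup (Fin 2) F ⧸ Subgroup.center (SpecialLinearGroup (Fin 2) F),
      QuotientGroup.mk' (Subgroup.center (SpecialLinearGroup (Fin 2) F)) G =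
        (u * QuotientGroup.mk' (Subgroup.center (SpecialLinearGroup (Fin 2) F)) X * u⁻¹) *
        (v * QuotientGroup.mk' (Subgroup.center (SpecialLinearGroup (Fin 2) F)) X * v⁻¹) := by
  obtain ⟨X₁, X₂, hprod, ht1, ht2⟩ := exists_factor G hG a b c d hdet
  obtain ⟨u, hu⟩ := exists_conj_mk_of_trace X X₁ (Or.inl (ht1.trans h1)) h4
  obtain ⟨v, hv⟩ := exists_conj_mk_of_trace X X₂ (by rw [ht2, h2]; exact hs') h4
  refine ⟨u, v, ?_⟩
  rw [← hu, ← hv, ← map_mul, hprod]

theorem two_ne_zero_of_char (p : ℕ) [Fact p.Prime] [CharP F p] (hp : p ≠ 2) : (2 : F) ≠ 0 := by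
  intro h
  have h' : ((2 : ℕ) : F) = 0 := by exact_mod_cast h
  rw [CharP.cast_eq_zero_iff F p] at h'
  exact hp ((Nat.prime_dvd_prime_iff_eq Fact.out Nat.prime_two).1 h')

/-- trace zero gives an element of order at most 2 in `PSL₂` -/
theorem mk_sq_eq_one_of_trace_zero (X : SpecialLinearGroup (Fin 2) F)
    (h0 : (X : Matrix (Fin 2) (Fin 2) F).trace = 0) :
    (QuotientGroup.mk' (Subgroup.center (SpecialLinearGroup (Fin 2) F)) X) ^ 2 = 1 := by
  rw [mk_pow_eq_one_iff]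
  apply isScalar2_mem_center
  rw [Matrix.SpecialLinearGroup.coe_pow, pow_two, cayley2, X.det_coe, h0]
  refine ⟨?_, ?_, ?_⟩ <;> simp

theorem cover_odd (p : ℕ) [Fact p.Prime] [CharP F p] (hp : p ≠ 2)
    (x : SpecialLinearGroup (Fin 2) F ⧸ Subgroup.center (SpecialLinearGroup (Fin 2) F))
    (hx2 : 2 < orderOf x) (hxp : ¬ p ∣ orderOf x)
    (g : SpecialLinearGroup (Fin 2) F ⧸ Subgroup.center (SpecialLinearGroup (Fin 2) F)) (hg : g ≠ 1) :
    ∃ u v : SpecialLinearGroup (Fin 2) F ⧸ Subgroup.center (SpecialLinearGroup (Fin 2) F),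
      g = (u * x * u⁻¹) * (v * x * v⁻¹) := by
  have h2 : (2 : F) ≠ 0 := two_ne_zero_of_char p hp
  obtain ⟨X, rfl⟩ := QuotientGroup.mk'_surjective _ x
  obtain ⟨G, rfl⟩ := QuotientGroup.mk'_surjective _ g
  have hs0 : (X : Matrix (Fin 2) (Fin 2) F).trace ≠ 0 := by
    intro h0
    have := orderOf_dvd_of_pow_eq_one (mk_sq_eq_one_of_trace_zero X h0)
    have := Nat.le_of_dvd (by norm_num) this
    omega
  have hs4 : (X : Matrix (Fin 2) (Fin 2) F).trace ^ 2 ≠ 4 := by
    intro h4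
    have hc := pow_char_central p X ((X : Matrix (Fin 2) (Fin 2) F).trace / 2)
      (by field_simp; linear_combination h4) (by field_simp)
    rw [← mk_pow_eq_one_iff] at hc
    have hd := orderOf_dvd_of_pow_eq_one hc
    rcases (Nat.dvd_prime Fact.out).1 hd with h | h
    · omega
    · exact hxp (by rw [h])
  have hG : ¬ IsScalar2 (G : Matrix (Fin 2) (Fin 2) F) := by
    intro hs
    apply hg
    rw [QuotientGroup.mk'_apply, QuotientGroup.eq_one_iff]
    exact isScalar2_mem_center G hs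
  obtain ⟨a, b, c, d, s', hs', hdet, h1, h2'⟩ :=
    exists_conic_odd h2 (X : Matrix (Fin 2) (Fin 2) F).trace (G : Matrix (Fin 2) (Fin 2) F).trace hs0
  exact cover_of_conic X G hs4 hG a b c d s' hs' hdet h1 h2'

theorem cover_even [CharP F 2]
    (x : SpecialLinearGroup (Fin 2) F ⧸ Subgroup.center (SpecialLinearGroup (Fin 2) F))
    (hx2 : 2 < orderOf x) (hxq : ¬ orderOf x ∣ Fintype.card F + 1)
    (g : SpecialLinearGroup (Fin 2) F ⧸ Subgroup.center (SpecialLinearGroup (Fin 2) F)) (hg : g ≠ 1) :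
    ∃ u v : SpecialLinearGroup (Fin 2) F ⧸ Subgroup.center (SpecialLinearGroup (Fin 2) F),
      g = (u * x * u⁻¹) * (v * x * v⁻¹) := by
  haveI : Fact (Nat.Prime 2) := ⟨Nat.prime_two⟩
  obtain ⟨X, rfl⟩ := QuotientGroup.mk'_surjective _ x
  obtain ⟨G, rfl⟩ := QuotientGroup.mk'_surjective _ g
  have h20 : (2 : F) = 0 := by
    have : ((2 : ℕ) : F) = 0 := CharP.cast_eq_zero F 2
    exact_mod_cast this
  have hs4 : (X : Matrix (Fin 2) (Fin 2) F).trace ^ 2 ≠ 4 := by
    intro h4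
    have h40 : (4 : F) = 0 := by
      have : (4 : F) = 2 * 2 := by norm_num
      rw [this, h20, zero_mul]
    rw [h40] at h4
    have ht0 : (X : Matrix (Fin 2) (Fin 2) F).trace = 0 := pow_eq_zero_iff two_ne_zero |>.1 h4
    have := orderOf_dvd_of_pow_eq_one (mk_sq_eq_one_of_trace_zero X ht0)
    have := Nat.le_of_dvd (by norm_num) this
    omega
  have hns : ¬ IsScalar2 (X : Matrix (Fin 2) (Fin 2) F) := fun h => hs4 (trace_sq_of_isScalar2 X h)
  have hsplit : IsSplitTrace (X : Matrix (Fin 2) (Fin 2) F).trace := by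
    by_contra hs
    have hpow := pow_card_centralizer X
    rw [card_centralizer_nonsplit_odd X hns hs] at hpow
    apply hxq
    apply orderOf_dvd_of_pow_eq_one
    rw [← map_pow, hpow, map_one]
  obtain ⟨α, hα0, hα⟩ := hsplit
  have hG : ¬ IsScalar2 (G : Matrix (Fin 2) (Fin 2) F) := by
    intro hs
    apply hg
    rw [QuotientGroup.mk'_apply, QuotientGroup.eq_one_iff]
    exact isScalar2_mem_center G hs
  obtain ⟨a, b, c, d, hdet, h1, h2'⟩ := exists_conic_split α (G : Matrix (Fin 2) (Fin 2) F).trace hα0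
  exact cover_of_conic X G hs4 hG a b c d _ (Or.inl rfl) hdet (h1.trans hα.symm) (h2'.trans hα.symm)

end cover2
end Cfsg.Agent.Lib.Helper15
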