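import Mathlib
import Cfsg.Agent.Lib.Helper15.PSL2Cover2
set_option autoImplicit false
namespace Cfsg.Agent.Lib.Helper15

open Matrix
open Cfsg.Agent.Lib.Helper14

section AH
variable {F : Type*} [Field F]

/-- `[[s, 1], [-1, 0]]` in `SL₂` -/
def compL (s : F) : SpecialLinearGroup (Fin 2) F := ⟨!![s, 1; -1, 0], by simp [Matrix.det_fin_two]⟩

/-- `[[0, -v⁻¹], [v, s]]` in `SL₂` -/
def compV (s v : F) (hv : v ≠ 0) : SpecialLinearGroup (Fin 2) F :=
  ⟨!![0, -v⁻¹; v, s], by simp [Matrix.det_fin_two, hv]⟩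

/-- `[[ε, 0], [-c, ε]]` in `SL₂` -/
def lowerSL (ε c : F) (hε : ε * ε = 1) : SpecialLinearGroup (Fin 2) F :=
  ⟨!![ε, 0; -c, ε], by simp [Matrix.det_fin_two, hε]⟩

theorem compL_trace (s : F) : ((compL s : SpecialLinearGroup (Fin 2) F) : Matrix (Fin 2) (Fin 2) F).trace = s := by
  simp [compL, Matrix.trace_fin_two]

theorem compV_trace (s v : F) (hv : v ≠ 0) :
    ((compV s v hv : SpecialLinearGroup (Fin 2) F) : Matrix (Fin 2) (Fin 2) F).trace = s := by
  simp [compV, Matrix.trace_fin_two]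

theorem trace_compL_mul_compV (s₁ s₂ v : F) (hv : v ≠ 0) :
    ((compL s₁ * compV s₂ v hv : SpecialLinearGroup (Fin 2) F) : Matrix (Fin 2) (Fin 2) F).trace = v + v⁻¹ := by
  rw [Matrix.SpecialLinearGroup.coe_mul]
  simp [compL, compV, Matrix.trace_fin_two]

theorem trace_upperSL_mul_compV (ε β s v : F) (hε : ε * ε = 1) (hv : v ≠ 0) :
    ((upperSL ε β hε * compV s v hv : SpecialLinearGroup (Fin 2) F) : Matrix (Fin 2) (Fin 2) F).trace = β * v + ε * s := by
  rw [Matrix.SpecialLinearGroup.coe_mul]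
  simp [upperSL, compV, Matrix.trace_fin_two]

theorem trace_upperSL_mul_upperSL (ε₁ β ε₂ γ : F) (h1 : ε₁ * ε₁ = 1) (h2 : ε₂ * ε₂ = 1) :
    ((upperSL ε₁ β h1 * upperSL ε₂ γ h2 : SpecialLinearGroup (Fin 2) F) : Matrix (Fin 2) (Fin 2) F).trace = 2 * (ε₁ * ε₂) := by
  rw [Matrix.SpecialLinearGroup.coe_mul]
  simp [upperSL, Matrix.trace_fin_two]
  ring

theorem trace_upperSL_mul_lowerSL (ε₁ β ε₂ γ : F) (h1 : ε₁ * ε₁ = 1) (h2 : ε₂ * ε₂ = 1) :
    ((upperSL ε₁ β h1 * lowerSL ε₂ γ h2 : SpecialLinearGroup (Fin 2) F) : Matrix (Fin 2) (Fin 2) F).trace =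
      2 * (ε₁ * ε₂) - β * γ := by
  rw [Matrix.SpecialLinearGroup.coe_mul]
  simp [upperSL, lowerSL, Matrix.trace_fin_two]
  ring

theorem isConj_upperSL_lowerSL (ε γ : F) (hε : ε * ε = 1) : IsConj (upperSL ε γ hε) (lowerSL ε γ hε) := by
  apply isConj_of_intertwine _ _ !![0, 1; -1, 0]
  · simp [Matrix.det_fin_two]
  · rw [upperSL_coe]
    show _ = !![ε, 0; -γ, ε] * _
    rw [Matrix.mul_fin_two, Matrix.mul_fin_two]
    apply mat2_mk_eq <;> ring

theorem exists_ne3 [Fintype F] (h4 : 4 ≤ Fintype.card F) (x y z : F) : ∃ v : F, v ≠ x ∧ v ≠ y ∧ v ≠ z := by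
  classical
  by_contra h
  push Not at h
  have hsub : (Finset.univ : Finset F) ⊆ {x, y, z} := by
    intro v _
    by_cases h1 : v = x
    · simp [h1]
    by_cases h2 : v = y
    · simp [h2]
    have := h v h1 h2
    simp [this]
  have h1 := Finset.card_le_card hsub
  have h3 : ({x, y, z} : Finset F).card ≤ 3 := Finset.card_le_three
  rw [Finset.card_univ] at h1
  omega

/-- a non-scalar element is either of trace² ≠ 4 or conjugate to an upper unitriangular-type element -/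
theorem ss_or_unip (A : SpecialLinearGroup (Fin 2) F) (hA : ¬ IsScalar2 (A : Matrix (Fin 2) (Fin 2) F)) :
    (A : Matrix (Fin 2) (Fin 2) F).trace ^ 2 ≠ 4 ∨
      ∃ (ε β : F) (hε : ε * ε = 1), β ≠ 0 ∧ IsConj A (upperSL ε β hε) := by
  by_cases h : (A : Matrix (Fin 2) (Fin 2) F).trace ^ 2 = 4
  · right
    by_cases h2 : (2 : F) = 0
    · have h40 : (4 : F) = 0 := by
        have : (4 : F) = 2 * 2 := by norm_num
        rw [this, h2, zero_mul]
      rw [h40] at h
      have ht0 : (A : Matrix (Fin 2) (Fin 2) F).trace = 0 := pow_eq_zero_iff two_ne_zero |>.1 h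
      obtain ⟨b, hb, hc⟩ := exists_isConj_upperSL A hA 1 (one_mul 1) (by rw [ht0, h2, zero_mul])
      exact ⟨1, b, one_mul 1, hb, hc⟩
    · have h4 : (4 : F) ≠ 0 := by
        have : (4 : F) = 2 * 2 := by norm_num
        rw [this]; exact mul_ne_zero h2 h2
      have hε : (A : Matrix (Fin 2) (Fin 2) F).trace / 2 * ((A : Matrix (Fin 2) (Fin 2) F).trace / 2) = 1 := by
        field_simp
        linear_combination h
      obtain ⟨b, hb, hc⟩ := exists_isConj_upperSL A hA _ hε (by field_simp)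
      exact ⟨_, b, hε, hb, hc⟩
  · left; exact h

variable [Fintype F]

theorem sq_eq_one_of_mul_self (ε : F) (hε : ε * ε = 1) : ε ^ 2 = 1 := by rw [pow_two, hε]

/-- Case II: unipotent-type times semisimple -/
theorem traces_unip_ss (h4 : 4 ≤ Fintype.card F) (ε β : F) (hε : ε * ε = 1) (hβ : β ≠ 0)
    (B : SpecialLinearGroup (Fin 2) F) (hB : (B : Matrix (Fin 2) (Fin 2) F).trace ^ 2 ≠ 4) :
    ∃ B₁ B₂ : SpecialLinearGroup (Fin 2) F, IsConj B B₁ ∧ IsConj B B₂ ∧
      ((upperSL ε β hε * B₁ : SpecialLinearGroup (Fin 2) F) : Matrix (Fin 2) (Fin 2) F).trace ^ 2 = 4 ∧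
      ((upperSL ε β hε * B₂ : SpecialLinearGroup (Fin 2) F) : Matrix (Fin 2) (Fin 2) F).trace ^ 2 ≠ 4 := by
  set s := (B : Matrix (Fin 2) (Fin 2) F).trace with hs
  have hε2 : ε ^ 2 = 1 := sq_eq_one_of_mul_self ε hε
  have hε0 : ε ≠ 0 := by
    intro h; rw [h] at hε; simp at hε
  -- first value
  have hv1 : ε * (2 - s) / β ≠ 0 := by
    apply div_ne_zero _ hβ
    apply mul_ne_zero hε0
    intro h
    apply hB
    have : s = 2 := by linear_combination -h
    rw [this]; norm_num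
  obtain ⟨v2, hv20, hv2a, hv2b⟩ := exists_ne3 h4 (0 : F) ((2 - ε * s) / β) ((-2 - ε * s) / β)
  refine ⟨compV s _ hv1, compV s v2 hv20, ?_, ?_, ?_, ?_⟩
  · exact isConj_of_trace_eq B _ (compV_trace s _ hv1) hB
  · exact isConj_of_trace_eq B _ (compV_trace s _ hv20) hB
  · rw [trace_upperSL_mul_compV]
    have : β * (ε * (2 - s) / β) + ε * s = 2 * ε := by
      field_simp
      ring
    rw [this]
    linear_combination 4 * hε2
  · rw [trace_upperSL_mul_compV]
    intro h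
    have h' : (β * v2 + ε * s - 2) * (β * v2 + ε * s + 2) = 0 := by linear_combination h
    rcases mul_eq_zero.1 h' with h1 | h1
    · apply hv2a
      field_simp
      linear_combination h1
    · apply hv2b
      field_simp
      linear_combination h1

theorem exists_two_traces (h4 : 4 ≤ Fintype.card F) (A B : SpecialLinearGroup (Fin 2) F)
    (hA : ¬ IsScalar2 (A : Matrix (Fin 2) (Fin 2) F)) (hB : ¬ IsScalar2 (B : Matrix (Fin 2) (Fin 2) F)) :
    ∃ A₁ B₁ A₂ B₂ : SpecialLinearGroup (Fin 2) F, IsConj A A₁ ∧ IsConj B B₁ ∧ IsConj A A₂ ∧ IsConj B B₂ ∧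
      ((A₁ * B₁ : SpecialLinearGroup (Fin 2) F) : Matrix (Fin 2) (Fin 2) F).trace ^ 2 = 4 ∧
      ((A₂ * B₂ : SpecialLinearGroup (Fin 2) F) : Matrix (Fin 2) (Fin 2) F).trace ^ 2 ≠ 4 := by
  rcases ss_or_unip A hA with hsA | ⟨ε₁, β, hε₁, hβ, hcA⟩
  · rcases ss_or_unip B hB with hsB | ⟨ε₂, γ, hε₂, hγ, hcB⟩
    · -- case I
      obtain ⟨v, hv0, hv1, hv2⟩ := exists_ne3 h4 (0 : F) 1 (-1)
      refine ⟨compL _, compV _ 1 one_ne_zero, compL _, compV _ v hv0,
        isConj_of_trace_eq A _ (compL_trace _) hsA, isConj_of_trace_eq B _ (compV_trace _ _ _) hsB,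
        isConj_of_trace_eq A _ (compL_trace _) hsA, isConj_of_trace_eq B _ (compV_trace _ _ _) hsB, ?_, ?_⟩
      · rw [trace_compL_mul_compV]; norm_num
      · rw [trace_compL_mul_compV]
        intro h
        have h' : (v - 1) ^ 2 * (v + 1) ^ 2 = 0 := by
          have hvv : v * v⁻¹ = 1 := mul_inv_cancel₀ hv0
          have : (v + v⁻¹) ^ 2 - 4 = 0 := by rw [h]; ring
          have e : (v - 1) ^ 2 * (v + 1) ^ 2 = v ^ 2 * ((v + v⁻¹) ^ 2 - 4) := by
            have : v ^ 2 * ((v + v⁻¹) ^ 2 - 4) = v ^ 4 + 2 * v ^ 2 * (v * v⁻¹) + (v * v⁻¹) ^ 2 - 4 * v ^ 2 := by ring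
            rw [this, hvv]; ring
          rw [e, this, mul_zero]
        rcases mul_eq_zero.1 h' with h1 | h1
        · exact hv1 (by linear_combination (pow_eq_zero_iff two_ne_zero).1 h1)
        · exact hv2 (by linear_combination (pow_eq_zero_iff two_ne_zero).1 h1)
    · -- A semisimple, B unipotent type
      obtain ⟨A₁, A₂, hc1, hc2, ht1, ht2⟩ := traces_unip_ss h4 ε₂ γ hε₂ hγ A hsA
      refine ⟨A₁, upperSL ε₂ γ hε₂, A₂, upperSL ε₂ γ hε₂, hc1, hcB, hc2, hcB, ?_, ?_⟩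
      · rw [Matrix.SpecialLinearGroup.coe_mul, Matrix.trace_mul_comm, ← Matrix.SpecialLinearGroup.coe_mul]
        exact ht1
      · rw [Matrix.SpecialLinearGroup.coe_mul, Matrix.trace_mul_comm, ← Matrix.SpecialLinearGroup.coe_mul]
        exact ht2
  · rcases ss_or_unip B hB with hsB | ⟨ε₂, γ, hε₂, hγ, hcB⟩
    · obtain ⟨B₁, B₂, hc1, hc2, ht1, ht2⟩ := traces_unip_ss h4 ε₁ β hε₁ hβ B hsB
      exact ⟨upperSL ε₁ β hε₁, B₁, upperSL ε₁ β hε₁, B₂, hcA, hc1, hcA, hc2, ht1, ht2⟩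
    · -- both unipotent type
      have e1 : ε₁ ^ 2 = 1 := sq_eq_one_of_mul_self ε₁ hε₁
      have e2 : ε₂ ^ 2 = 1 := sq_eq_one_of_mul_self ε₂ hε₂
      have e12 : (ε₁ * ε₂) ^ 2 = 1 := by rw [mul_pow, e1, e2, one_mul]
      obtain ⟨δ, hδ0, hδ1, hδ2⟩ := exists_ne3 h4 (0 : F) 1 (-1)
      have hδsq : δ ^ 2 ≠ 1 := by
        intro h
        have h' : (δ - 1) * (δ + 1) = 0 := by linear_combination h
        rcases mul_eq_zero.1 h' with h1 | h1
        · exact hδ1 (by linear_combination h1)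
        · exact hδ2 (by linear_combination h1)
      have key : ∃ d : F, d ≠ 0 ∧ β * d ^ 2 * γ ≠ 4 * (ε₁ * ε₂) := by
        by_cases hbg : β * γ = 4 * (ε₁ * ε₂)
        · refine ⟨δ, hδ0, ?_⟩
          intro h
          have h' : β * γ * (δ ^ 2 - 1) = 0 := by linear_combination h - hbg
          rcases mul_eq_zero.1 h' with h1 | h1
          · exact (mul_ne_zero hβ hγ) h1
          · exact hδsq (by linear_combination h1)
        · exact ⟨1, one_ne_zero, by rw [one_pow, mul_one]; exact hbg⟩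
      obtain ⟨d, hd0, hd⟩ := key
      refine ⟨upperSL ε₁ β hε₁, upperSL ε₂ γ hε₂, upperSL ε₁ (β * d ^ 2) hε₁, lowerSL ε₂ γ hε₂,
        hcA, hcB, hcA.trans (isConj_upperSL_mul_sq ε₁ β d hε₁ hd0), hcB.trans (isConj_upperSL_lowerSL ε₂ γ hε₂), ?_, ?_⟩
      · rw [trace_upperSL_mul_upperSL]
        linear_combination 4 * e12
      · rw [trace_upperSL_mul_lowerSL]
        intro h
        have h' : (β * d ^ 2 * γ) * (β * d ^ 2 * γ - 4 * (ε₁ * ε₂)) = 0 := by
          linear_combination h - 4 * e12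
        rcases mul_eq_zero.1 h' with h1 | h1
        · exact (mul_ne_zero (mul_ne_zero hβ (pow_ne_zero 2 hd0)) hγ) h1
        · exact hd (by linear_combination h1)

end AH
end Cfsg.Agent.Lib.Helper15
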