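import Mathlib
import Cfsg.Agent.Lib.Helper15.PSL2AH1
set_option autoImplicit false
namespace Cfsg.Agent.Lib.Helper15

open Matrix
open Cfsg.Agent.Lib.Helper14

section AH2
variable {F : Type*} [Field F]

theorem trace_sq_mul_center (W z : SpecialLinearGroup (Fin 2) F)
    (hz : z ∈ Subgroup.center (SpecialLinearGroup (Fin 2) F)) :
    ((W * z : SpecialLinearGroup (Fin 2) F) : Matrix (Fin 2) (Fin 2) F).trace ^ 2 =
      (W : Matrix (Fin 2) (Fin 2) F).trace ^ 2 := by
  obtain ⟨h01, h10, h00⟩ := isScalar2_of_mem_center z hz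
  have hdet := z.det_coe
  rw [Matrix.det_fin_two, h01, h10, ← h00, mul_zero, sub_zero] at hdet
  rw [Matrix.SpecialLinearGroup.coe_mul, Matrix.trace_fin_two, Matrix.trace_fin_two]
  simp only [Matrix.mul_apply, Fin.sum_univ_two, h01, h10, ← h00, mul_zero, add_zero, zero_add]
  linear_combination ((W : Matrix (Fin 2) (Fin 2) F) 0 0 + (W : Matrix (Fin 2) (Fin 2) F) 1 1) ^ 2 * hdet

theorem trace_sq_eq_of_isConj_mk (X Y : SpecialLinearGroup (Fin 2) F)
    (h : IsConj (QuotientGroup.mk' (Subgroup.center (SpecialLinearGroup (Fin 2) F)) X)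
      (QuotientGroup.mk' (Subgroup.center (SpecialLinearGroup (Fin 2) F)) Y)) :
    (X : Matrix (Fin 2) (Fin 2) F).trace ^ 2 = (Y : Matrix (Fin 2) (Fin 2) F).trace ^ 2 := by
  obtain ⟨c, hc⟩ := isConj_iff.1 h
  obtain ⟨C, rfl⟩ := QuotientGroup.mk'_surjective _ c
  rw [← map_inv, ← map_mul, ← map_mul, QuotientGroup.mk'_apply, QuotientGroup.mk'_apply, QuotientGroup.eq] at hc
  set z := (C * X * C⁻¹)⁻¹ * Y with hz
  have hY : Y = (C * X * C⁻¹) * z := by rw [hz]; group
  rw [hY, trace_sq_mul_center _ z hc]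
  have hconj : IsConj X (C * X * C⁻¹) := isConj_iff.2 ⟨C, rfl⟩
  rw [trace_conj_SL hconj]

variable [Fintype F]

theorem arad_herzog_psl2 (h4 : 4 ≤ Fintype.card F)
    (a b : SpecialLinearGroup (Fin 2) F ⧸ Subgroup.center (SpecialLinearGroup (Fin 2) F))
    (ha : a ≠ 1) (hb : b ≠ 1)
    (c : SpecialLinearGroup (Fin 2) F ⧸ Subgroup.center (SpecialLinearGroup (Fin 2) F)) :
    {g : SpecialLinearGroup (Fin 2) F ⧸ Subgroup.center (SpecialLinearGroup (Fin 2) F) |
      ∃ u v : SpecialLinearGroup (Fin 2) F ⧸ Subgroup.center (SpecialLinearGroup (Fin 2) F),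
        g = (u * a * u⁻¹) * (v * b * v⁻¹)} ≠ {g | IsConj c g} := by
  obtain ⟨A, rfl⟩ := QuotientGroup.mk'_surjective _ a
  obtain ⟨B, rfl⟩ := QuotientGroup.mk'_surjective _ b
  have hA : ¬ IsScalar2 (A : Matrix (Fin 2) (Fin 2) F) := by
    intro hs
    apply ha
    rw [QuotientGroup.mk'_apply, QuotientGroup.eq_one_iff]
    exact isScalar2_mem_center A hs
  have hB : ¬ IsScalar2 (B : Matrix (Fin 2) (Fin 2) F) := by
    intro hs
    apply hb
    rw [QuotientGroup.mk'_apply, QuotientGroup.eq_one_iff]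
    exact isScalar2_mem_center B hs
  obtain ⟨A₁, B₁, A₂, B₂, hA1, hB1, hA2, hB2, ht1, ht2⟩ := exists_two_traces h4 A B hA hB
  intro hset
  have mem : ∀ A' B' : SpecialLinearGroup (Fin 2) F, IsConj A A' → IsConj B B' →
      IsConj c (QuotientGroup.mk' (Subgroup.center (SpecialLinearGroup (Fin 2) F)) (A' * B')) := by
    intro A' B' hA' hB'
    obtain ⟨u, hu⟩ := isConj_iff.1 hA'
    obtain ⟨v, hv⟩ := isConj_iff.1 hB'
    have : QuotientGroup.mk' (Subgroup.center (SpecialLinearGroup (Fin 2) F)) (A' * B') ∈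
        {g : SpecialLinearGroup (Fin 2) F ⧸ Subgroup.center (SpecialLinearGroup (Fin 2) F) |
          ∃ u v : SpecialLinearGroup (Fin 2) F ⧸ Subgroup.center (SpecialLinearGroup (Fin 2) F),
            g = (u * QuotientGroup.mk' _ A * u⁻¹) * (v * QuotientGroup.mk' _ B * v⁻¹)} := by
      refine ⟨QuotientGroup.mk' _ u, QuotientGroup.mk' _ v, ?_⟩
      rw [← hu, ← hv]
      simp only [map_mul, map_inv]
    rw [hset] at this
    exact this
  have h1 := mem A₁ B₁ hA1 hB1
  have h2 := mem A₂ B₂ hA2 hB2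
  have h12 := (h1.symm.trans h2)
  have := trace_sq_eq_of_isConj_mk _ _ h12
  rw [ht1] at this
  exact ht2 this.symm

end AH2
end Cfsg.Agent.Lib.Helper15
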