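import Mathlib
import Cfsg.Agent.Lib.Helper15.PSL2AH2
import Cfsg.Agent.Lib.Helper15.DicClass
set_option autoImplicit false
namespace Cfsg.Agent.Lib.Helper15

open Matrix
open Cfsg.Agent.Lib.Helper14

section torus
variable {F : Type*} [Field F]

theorem mem_centralizer_iff_eq_add_smul (g₀ : SpecialLinearGroup (Fin 2) F)
    (hg₀ : ¬ IsScalar2 (g₀ : Matrix (Fin 2) (Fin 2) F)) (h : SpecialLinearGroup (Fin 2) F) :
    h ∈ Subgroup.centralizer ({g₀} : Set (SpecialLinearGroup (Fin 2) F)) ↔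
      ∃ x y : F, (h : Matrix (Fin 2) (Fin 2) F) = x • (1 : Matrix (Fin 2) (Fin 2) F) + y • (g₀ : Matrix (Fin 2) (Fin 2) F) := by
  rw [Subgroup.mem_centralizer_singleton_iff]
  constructor
  · intro hc
    have hc' : (h : Matrix (Fin 2) (Fin 2) F) * (g₀ : Matrix (Fin 2) (Fin 2) F) =
        (g₀ : Matrix (Fin 2) (Fin 2) F) * (h : Matrix (Fin 2) (Fin 2) F) := congrArg Subtype.val hc
    exact exists_eq_add_smul_of_commute _ _ hg₀ hc'
  · rintro ⟨x, y, hxy⟩
    apply Subtype.ext
    rw [Matrix.SpecialLinearGroup.coe_mul, Matrix.SpecialLinearGroup.coe_mul, hxy]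
    simp [Matrix.mul_add, Matrix.add_mul]

theorem commute_add_smul (G : Matrix (Fin 2) (Fin 2) F) (x y x' y' : F) :
    (x • (1 : Matrix (Fin 2) (Fin 2) F) + y • G) * (x' • (1 : Matrix (Fin 2) (Fin 2) F) + y' • G) =
      (x' • (1 : Matrix (Fin 2) (Fin 2) F) + y' • G) * (x • (1 : Matrix (Fin 2) (Fin 2) F) + y • G) := by
  have c : Commute (x • (1 : Matrix (Fin 2) (Fin 2) F) + y • G) (x' • (1 : Matrix (Fin 2) (Fin 2) F) + y' • G) := by
    apply Commute.add_left
    · exact (Commute.one_left _).smul_left x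
    · apply Commute.smul_left
      apply Commute.add_right
      · exact (Commute.one_right _).smul_right x'
      · exact (Commute.refl G).smul_right y'
  exact c

theorem centralizer_commute (g₀ : SpecialLinearGroup (Fin 2) F)
    (hg₀ : ¬ IsScalar2 (g₀ : Matrix (Fin 2) (Fin 2) F)) (h k : SpecialLinearGroup (Fin 2) F)
    (hh : h ∈ Subgroup.centralizer ({g₀} : Set (SpecialLinearGroup (Fin 2) F)))
    (hk : k ∈ Subgroup.centralizer ({g₀} : Set (SpecialLinearGroup (Fin 2) F))) : h * k = k * h := by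
  obtain ⟨x, y, hxy⟩ := (mem_centralizer_iff_eq_add_smul g₀ hg₀ h).1 hh
  obtain ⟨x', y', hxy'⟩ := (mem_centralizer_iff_eq_add_smul g₀ hg₀ k).1 hk
  apply Subtype.ext
  rw [Matrix.SpecialLinearGroup.coe_mul, Matrix.SpecialLinearGroup.coe_mul, hxy, hxy']
  exact commute_add_smul _ x y x' y'

theorem self_mem_centralizer (g₀ : SpecialLinearGroup (Fin 2) F) :
    g₀ ∈ Subgroup.centralizer ({g₀} : Set (SpecialLinearGroup (Fin 2) F)) := by
  rw [Subgroup.mem_centralizer_singleton_iff]

theorem isScalar2_smul_one (x : F) : IsScalar2 (x • (1 : Matrix (Fin 2) (Fin 2) F)) := by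
  refine ⟨?_, ?_, ?_⟩ <;> simp

theorem centralizer_eq_of_mem (g₀ : SpecialLinearGroup (Fin 2) F)
    (hg₀ : ¬ IsScalar2 (g₀ : Matrix (Fin 2) (Fin 2) F)) (h : SpecialLinearGroup (Fin 2) F)
    (hh : h ∈ Subgroup.centralizer ({g₀} : Set (SpecialLinearGroup (Fin 2) F)))
    (hns : ¬ IsScalar2 (h : Matrix (Fin 2) (Fin 2) F)) :
    Subgroup.centralizer ({h} : Set (SpecialLinearGroup (Fin 2) F)) =
      Subgroup.centralizer ({g₀} : Set (SpecialLinearGroup (Fin 2) F)) := by
  obtain ⟨x, y, hxy⟩ := (mem_centralizer_iff_eq_add_smul g₀ hg₀ h).1 hh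
  have hy : y ≠ 0 := by
    rintro rfl
    apply hns
    rw [hxy, zero_smul, add_zero]
    exact isScalar2_smul_one x
  have hG : (g₀ : Matrix (Fin 2) (Fin 2) F) = (-(y⁻¹ * x)) • (1 : Matrix (Fin 2) (Fin 2) F) + y⁻¹ • (h : Matrix (Fin 2) (Fin 2) F) := by
    rw [hxy, smul_add, smul_smul, smul_smul, inv_mul_cancel₀ hy, one_smul, neg_smul, ← add_assoc, neg_add_cancel, zero_add]
  ext k
  rw [Subgroup.mem_centralizer_singleton_iff, Subgroup.mem_centralizer_singleton_iff]
  constructor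
  · intro hc
    have hc' : (k : Matrix (Fin 2) (Fin 2) F) * (h : Matrix (Fin 2) (Fin 2) F) =
        (h : Matrix (Fin 2) (Fin 2) F) * (k : Matrix (Fin 2) (Fin 2) F) := congrArg Subtype.val hc
    apply Subtype.ext
    rw [Matrix.SpecialLinearGroup.coe_mul, Matrix.SpecialLinearGroup.coe_mul, hG]
    simp only [Matrix.mul_add, Matrix.add_mul, Matrix.mul_smul, Matrix.smul_mul, Matrix.mul_one, Matrix.one_mul, hc']
  · intro hc
    have hc' : (k : Matrix (Fin 2) (Fin 2) F) * (g₀ : Matrix (Fin 2) (Fin 2) F) =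
        (g₀ : Matrix (Fin 2) (Fin 2) F) * (k : Matrix (Fin 2) (Fin 2) F) := congrArg Subtype.val hc
    apply Subtype.ext
    rw [Matrix.SpecialLinearGroup.coe_mul, Matrix.SpecialLinearGroup.coe_mul, hxy]
    simp only [Matrix.mul_add, Matrix.add_mul, Matrix.mul_smul, Matrix.smul_mul, Matrix.mul_one, Matrix.one_mul, hc']

theorem centralizer_centralizer (g₀ : SpecialLinearGroup (Fin 2) F)
    (hg₀ : ¬ IsScalar2 (g₀ : Matrix (Fin 2) (Fin 2) F)) :
    Subgroup.centralizer ((Subgroup.centralizer ({g₀} : Set (SpecialLinearGroup (Fin 2) F)) :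
      Subgroup (SpecialLinearGroup (Fin 2) F)) : Set (SpecialLinearGroup (Fin 2) F)) =
      Subgroup.centralizer ({g₀} : Set (SpecialLinearGroup (Fin 2) F)) := by
  ext k
  constructor
  · intro hk
    rw [Subgroup.mem_centralizer_iff] at hk
    rw [Subgroup.mem_centralizer_singleton_iff]
    exact (hk g₀ (self_mem_centralizer g₀)).symm
  · intro hk
    rw [Subgroup.mem_centralizer_iff]
    intro h hh
    exact centralizer_commute g₀ hg₀ h k hh hk

/-- the inverse in `SL₂` as `trace - g` -/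
theorem coe_inv_eq (g : SpecialLinearGroup (Fin 2) F) :
    ((g⁻¹ : SpecialLinearGroup (Fin 2) F) : Matrix (Fin 2) (Fin 2) F) =
      (g : Matrix (Fin 2) (Fin 2) F).trace • (1 : Matrix (Fin 2) (Fin 2) F) - (g : Matrix (Fin 2) (Fin 2) F) := by
  rw [Matrix.SpecialLinearGroup.coe_inv, Matrix.adjugate_fin_two]
  apply mat2_ext <;> simp [Matrix.trace_fin_two]

/-- elements of the torus with the same trace as `g₀` -/
theorem trace_eq_cases (h2 : (2 : F) ≠ 0) (g₀ : SpecialLinearGroup (Fin 2) F)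
    (hg₀ : ¬ IsScalar2 (g₀ : Matrix (Fin 2) (Fin 2) F))
    (ht : (g₀ : Matrix (Fin 2) (Fin 2) F).trace ^ 2 ≠ 4) (h : SpecialLinearGroup (Fin 2) F)
    (hh : h ∈ Subgroup.centralizer ({g₀} : Set (SpecialLinearGroup (Fin 2) F)))
    (htr : (h : Matrix (Fin 2) (Fin 2) F).trace = (g₀ : Matrix (Fin 2) (Fin 2) F).trace) :
    h = g₀ ∨ h = g₀⁻¹ := by
  obtain ⟨x, y, hxy⟩ := (mem_centralizer_iff_eq_add_smul g₀ hg₀ h).1 hh
  set s := (g₀ : Matrix (Fin 2) (Fin 2) F).trace with hs
  have h0 : (h : Matrix (Fin 2) (Fin 2) F).trace = 2 * x + y * s := by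
    rw [hxy, Matrix.trace_add, Matrix.trace_smul, Matrix.trace_smul, Matrix.trace_one, Fintype.card_fin, ← hs]
    simp
    ring
  have h1 : 2 * x + y * s = s := by rw [← h0, htr]
  have h3 : x ^ 2 + s * x * y + y ^ 2 = 1 := by
    have := h.det_coe
    rw [hxy, det_add_smul, g₀.det_coe, ← hs] at this
    linear_combination this
  have h4 : (y - 1) * (y + 1) * (s ^ 2 - 4) = 0 := by
    have hx : 2 * x = s * (1 - y) := by linear_combination h1
    linear_combination (-4 : F) * h3 + (2 * x + s * (1 - y) + 2 * s * y) * hx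
  have hs4 : s ^ 2 - 4 ≠ 0 := sub_ne_zero.2 ht
  rcases mul_eq_zero.1 h4 with h5 | h5
  · rcases mul_eq_zero.1 h5 with h6 | h6
    · left
      have hy : y = 1 := by linear_combination h6
      have hx : x = 0 := by
        have : 2 * x = 0 := by rw [hy] at h1; linear_combination h1
        exact (mul_eq_zero.1 this).resolve_left h2
      apply Subtype.ext
      rw [hxy, hx, hy, zero_smul, zero_add, one_smul]
    · right
      have hy : y = -1 := by linear_combination h6
      have hx : x = s := by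
        have : 2 * (x - s) = 0 := by rw [hy] at h1; linear_combination h1
        have := (mul_eq_zero.1 this).resolve_left h2
        linear_combination this
      apply Subtype.ext
      rw [hxy, hx, hy, coe_inv_eq, neg_one_smul, sub_eq_add_neg]
  · exact absurd h5 hs4

end torus
end Cfsg.Agent.Lib.Helper15
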