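import Mathlib
import Cfsg.Agent.Lib.Helper15.Torus1
set_option autoImplicit false
namespace Cfsg.Agent.Lib.Helper15

open Matrix
open Cfsg.Agent.Lib.Helper14

section normalizer
variable {F : Type*} [Field F]

theorem trace_conj_eq (n g : SpecialLinearGroup (Fin 2) F) :
    ((n * g * n⁻¹ : SpecialLinearGroup (Fin 2) F) : Matrix (Fin 2) (Fin 2) F).trace =
      (g : Matrix (Fin 2) (Fin 2) F).trace :=
  (trace_conj_SL (isConj_iff.2 ⟨n, rfl⟩)).symm

theorem normalizer_conj_cases (h2 : (2 : F) ≠ 0) (g₀ : SpecialLinearGroup (Fin 2) F)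
    (hg₀ : ¬ IsScalar2 (g₀ : Matrix (Fin 2) (Fin 2) F))
    (ht : (g₀ : Matrix (Fin 2) (Fin 2) F).trace ^ 2 ≠ 4) (n : SpecialLinearGroup (Fin 2) F)
    (hn : n ∈ Subgroup.normalizer ((Subgroup.centralizer ({g₀} : Set (SpecialLinearGroup (Fin 2) F)) :
      Subgroup (SpecialLinearGroup (Fin 2) F)) : Set (SpecialLinearGroup (Fin 2) F))) :
    n * g₀ * n⁻¹ = g₀ ∨ n * g₀ * n⁻¹ = g₀⁻¹ := by
  have h1 := (Subgroup.mem_normalizer_iff.1 hn g₀).1 (self_mem_centralizer g₀)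
  exact trace_eq_cases h2 g₀ hg₀ ht _ h1 (trace_conj_eq n g₀)

/-- `g₀ ≠ g₀⁻¹` for non-scalar `g₀` in odd characteristic -/
theorem ne_inv_of_not_scalar (h2 : (2 : F) ≠ 0) (g₀ : SpecialLinearGroup (Fin 2) F)
    (hg₀ : ¬ IsScalar2 (g₀ : Matrix (Fin 2) (Fin 2) F)) : g₀ ≠ g₀⁻¹ := by
  intro h
  apply hg₀
  apply isScalar2_of_mem_center
  apply mem_center_of_mul_self h2
  calc g₀ * g₀ = g₀ * g₀⁻¹ := by rw [← h]
    _ = 1 := mul_inv_cancel g₀

theorem mem_centralizer_iff_conj_eq (g₀ n : SpecialLinearGroup (Fin 2) F) :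
    n ∈ Subgroup.centralizer ({g₀} : Set (SpecialLinearGroup (Fin 2) F)) ↔ n * g₀ * n⁻¹ = g₀ := by
  rw [Subgroup.mem_centralizer_singleton_iff, mul_inv_eq_iff_eq_mul]

/-- an element inverting `g₀` conjugates each `h` of the torus to `h⁻¹` -/
theorem inverting_torus (g₀ : SpecialLinearGroup (Fin 2) F)
    (hg₀ : ¬ IsScalar2 (g₀ : Matrix (Fin 2) (Fin 2) F)) (n : SpecialLinearGroup (Fin 2) F)
    (hn : n * g₀ * n⁻¹ = g₀⁻¹) (h : SpecialLinearGroup (Fin 2) F)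
    (hh : h ∈ Subgroup.centralizer ({g₀} : Set (SpecialLinearGroup (Fin 2) F))) :
    n * h * n⁻¹ = h⁻¹ := by
  obtain ⟨x, y, hxy⟩ := (mem_centralizer_iff_eq_add_smul g₀ hg₀ h).1 hh
  have hn' : (n : Matrix (Fin 2) (Fin 2) F) * (g₀ : Matrix (Fin 2) (Fin 2) F) * ((n⁻¹ : SpecialLinearGroup (Fin 2) F) : Matrix (Fin 2) (Fin 2) F) =
      ((g₀⁻¹ : SpecialLinearGroup (Fin 2) F) : Matrix (Fin 2) (Fin 2) F) := congrArg Subtype.val hn
  have hnn : (n : Matrix (Fin 2) (Fin 2) F) * ((n⁻¹ : SpecialLinearGroup (Fin 2) F) : Matrix (Fin 2) (Fin 2) F) = 1 := by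
    have : n * n⁻¹ = 1 := mul_inv_cancel n
    exact congrArg Subtype.val this
  apply Subtype.ext
  rw [Matrix.SpecialLinearGroup.coe_mul, Matrix.SpecialLinearGroup.coe_mul, coe_inv_eq h, hxy]
  simp only [Matrix.mul_add, Matrix.add_mul, Matrix.mul_smul, Matrix.smul_mul, Matrix.mul_one, hnn, hn', coe_inv_eq g₀,
    Matrix.trace_add, Matrix.trace_smul, Matrix.trace_one, Fintype.card_fin, smul_eq_mul]
  apply mat2_ext <;> simp <;> ring

/-- an element inverting `g₀` has trace zero, hence squares to `-1` -/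
theorem inverting_sq (g₀ : SpecialLinearGroup (Fin 2) F)
    (hg₀ : ¬ IsScalar2 (g₀ : Matrix (Fin 2) (Fin 2) F)) (n : SpecialLinearGroup (Fin 2) F)
    (hn : n * g₀ * n⁻¹ = g₀⁻¹) :
    ((n * n : SpecialLinearGroup (Fin 2) F) : Matrix (Fin 2) (Fin 2) F) = -1 := by
  have hn1 : n * g₀ = g₀⁻¹ * n := by rw [← hn]; group
  have hn' : (n : Matrix (Fin 2) (Fin 2) F) * (g₀ : Matrix (Fin 2) (Fin 2) F) =
      ((g₀⁻¹ : SpecialLinearGroup (Fin 2) F) : Matrix (Fin 2) (Fin 2) F) * (n : Matrix (Fin 2) (Fin 2) F) :=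
    congrArg Subtype.val hn1
  rw [Matrix.SpecialLinearGroup.coe_inv, Matrix.adjugate_fin_two] at hn'
  have e00 := congrFun (congrFun hn' 0) 0
  have e01 := congrFun (congrFun hn' 0) 1
  have e10 := congrFun (congrFun hn' 1) 0
  have e11 := congrFun (congrFun hn' 1) 1
  simp only [Matrix.mul_apply, Fin.sum_univ_two, Matrix.of_apply, Matrix.cons_val_zero, Matrix.cons_val_one,
    Matrix.cons_val', Matrix.cons_val_fin_one] at e00 e01 e10 e11
  have htr : (n : Matrix (Fin 2) (Fin 2) F).trace = 0 := by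
    rw [Matrix.trace_fin_two]
    by_contra hne
    apply hg₀
    refine ⟨?_, ?_, ?_⟩
    · have : ((n : Matrix (Fin 2) (Fin 2) F) 0 0 + (n : Matrix (Fin 2) (Fin 2) F) 1 1) * (g₀ : Matrix (Fin 2) (Fin 2) F) 0 1 = 0 := by
        linear_combination e01
      exact (mul_eq_zero.1 this).resolve_left hne
    · have : ((n : Matrix (Fin 2) (Fin 2) F) 0 0 + (n : Matrix (Fin 2) (Fin 2) F) 1 1) * (g₀ : Matrix (Fin 2) (Fin 2) F) 1 0 = 0 := by
        linear_combination e10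
      exact (mul_eq_zero.1 this).resolve_left hne
    · have : ((n : Matrix (Fin 2) (Fin 2) F) 0 0 + (n : Matrix (Fin 2) (Fin 2) F) 1 1) *
          ((g₀ : Matrix (Fin 2) (Fin 2) F) 0 0 - (g₀ : Matrix (Fin 2) (Fin 2) F) 1 1) = 0 := by
        linear_combination e00 - e11
      exact sub_eq_zero.1 ((mul_eq_zero.1 this).resolve_left hne)
  rw [Matrix.SpecialLinearGroup.coe_mul, cayley2, n.det_coe, htr]
  simp

end normalizer
end Cfsg.Agent.Lib.Helper15
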