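import Mathlib
import Cfsg.Agent.Lib.Helper15.Torus2
set_option autoImplicit false
namespace Cfsg.Agent.Lib.Helper15

open Matrix
open Cfsg.Agent.Lib.Helper14

section normalizer2
variable {F : Type*} [Field F]

theorem eq_one_or_neg_one_of_mul_self (h2 : (2 : F) ≠ 0) (h : SpecialLinearGroup (Fin 2) F) (hh : h * h = 1) :
    h = 1 ∨ h = -1 := by
  have hc := mem_center_of_mul_self h2 h hh
  obtain ⟨h01, h10, h00⟩ := isScalar2_of_mem_center h hc
  have hdet := h.det_coe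
  rw [Matrix.det_fin_two, h01, h10, ← h00, mul_zero, sub_zero] at hdet
  have h3 : ((h : Matrix (Fin 2) (Fin 2) F) 0 0 - 1) * ((h : Matrix (Fin 2) (Fin 2) F) 0 0 + 1) = 0 := by
    linear_combination hdet
  rcases mul_eq_zero.1 h3 with h4 | h4
  · left
    have h5 : (h : Matrix (Fin 2) (Fin 2) F) 0 0 = 1 := by linear_combination h4
    apply Subtype.ext
    apply mat2_ext
    · rw [h5]; rfl
    · rw [h01]; rfl
    · rw [h10]; rfl
    · rw [← h00, h5]; rfl
  · right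
    have h5 : (h : Matrix (Fin 2) (Fin 2) F) 0 0 = -1 := by linear_combination h4
    apply Subtype.ext
    rw [Matrix.SpecialLinearGroup.coe_neg]
    apply mat2_ext
    · rw [h5]; simp
    · rw [h01]; simp
    · rw [h10]; simp
    · rw [← h00, h5]; simp

theorem one_ne_neg_one_SL2 (h2 : (2 : F) ≠ 0) : (1 : SpecialLinearGroup (Fin 2) F) ≠ -1 := by
  intro h
  have h1 := congrArg (fun A : SpecialLinearGroup (Fin 2) F => (A : Matrix (Fin 2) (Fin 2) F) 0 0) h
  simp only [Matrix.SpecialLinearGroup.coe_neg, Matrix.SpecialLinearGroup.coe_one, Matrix.neg_apply,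
    Matrix.one_apply_eq] at h1
  apply h2
  linear_combination h1

theorem conj_inv_eq (n g : SpecialLinearGroup (Fin 2) F) : n * g⁻¹ * n⁻¹ = (n * g * n⁻¹)⁻¹ := by group

theorem mem_normalizer_of_inverting (g₀ : SpecialLinearGroup (Fin 2) F)
    (hg₀ : ¬ IsScalar2 (g₀ : Matrix (Fin 2) (Fin 2) F)) (n : SpecialLinearGroup (Fin 2) F)
    (hn : n * g₀ * n⁻¹ = g₀⁻¹) :
    n ∈ Subgroup.normalizer ((Subgroup.centralizer ({g₀} : Set (SpecialLinearGroup (Fin 2) F)) :
      Subgroup (SpecialLinearGroup (Fin 2) F)) : Set (SpecialLinearGroup (Fin 2) F)) := by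
  rw [Subgroup.mem_normalizer_iff]
  intro h
  constructor
  · intro hh
    rw [inverting_torus g₀ hg₀ n hn h hh]
    exact Subgroup.inv_mem _ hh
  · intro hh
    have hn' : n⁻¹ * g₀ * n⁻¹⁻¹ = g₀⁻¹ := by
      have : g₀ = n⁻¹ * g₀⁻¹ * n := by rw [← hn]; group
      calc n⁻¹ * g₀ * n⁻¹⁻¹ = (n⁻¹ * g₀⁻¹ * n)⁻¹ := by group
        _ = g₀⁻¹ := by rw [← this]
    have h1 := inverting_torus g₀ hg₀ n⁻¹ hn' _ hh
    have h2 : h = (n * h * n⁻¹)⁻¹ := by rw [← h1]; group
    rw [h2]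
    exact Subgroup.inv_mem _ hh

variable [Fintype F]

theorem exists_inverting (g₀ : SpecialLinearGroup (Fin 2) F)
    (ht : (g₀ : Matrix (Fin 2) (Fin 2) F).trace ^ 2 ≠ 4) :
    ∃ w : SpecialLinearGroup (Fin 2) F, w * g₀ * w⁻¹ = g₀⁻¹ := by
  have htr : ((g₀⁻¹ : SpecialLinearGroup (Fin 2) F) : Matrix (Fin 2) (Fin 2) F).trace =
      (g₀ : Matrix (Fin 2) (Fin 2) F).trace := by
    rw [coe_inv_eq, Matrix.trace_sub, Matrix.trace_smul, Matrix.trace_one, Fintype.card_fin]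
    simp
    ring
  exact isConj_iff.1 (isConj_of_trace_eq g₀ g₀⁻¹ htr ht)

theorem torus_index_two (h2 : (2 : F) ≠ 0) (g₀ : SpecialLinearGroup (Fin 2) F)
    (hg₀ : ¬ IsScalar2 (g₀ : Matrix (Fin 2) (Fin 2) F))
    (ht : (g₀ : Matrix (Fin 2) (Fin 2) F).trace ^ 2 ≠ 4) :
    ((Subgroup.centralizer ({g₀} : Set (SpecialLinearGroup (Fin 2) F))).subgroupOf
      (Subgroup.normalizer ((Subgroup.centralizer ({g₀} : Set (SpecialLinearGroup (Fin 2) F)) :
        Subgroup (SpecialLinearGroup (Fin 2) F)) : Set (SpecialLinearGroup (Fin 2) F)))).index = 2 := by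
  obtain ⟨w, hw⟩ := exists_inverting g₀ ht
  have hne := ne_inv_of_not_scalar h2 g₀ hg₀
  rw [Subgroup.index_eq_two_iff]
  refine ⟨⟨w, mem_normalizer_of_inverting g₀ hg₀ w hw⟩, ?_⟩
  rintro ⟨b, hb⟩
  simp only [Subgroup.mem_subgroupOf, Subgroup.coe_mul]
  rw [mem_centralizer_iff_conj_eq, mem_centralizer_iff_conj_eq]
  have hbw : b * w * g₀ * (b * w)⁻¹ = (b * g₀ * b⁻¹)⁻¹ := by
    calc b * w * g₀ * (b * w)⁻¹ = b * (w * g₀ * w⁻¹) * b⁻¹ := by group
      _ = b * g₀⁻¹ * b⁻¹ := by rw [hw]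
      _ = (b * g₀ * b⁻¹)⁻¹ := conj_inv_eq b g₀
  rw [hbw]
  rcases normalizer_conj_cases h2 g₀ hg₀ ht b hb with h | h
  · right
    rw [h]
    exact ⟨rfl, fun h' => hne h'.symm⟩
  · left
    rw [h, inv_inv]
    exact ⟨rfl, fun h' => hne h'.symm⟩

theorem card_torus_normalizer (h2 : (2 : F) ≠ 0) (g₀ : SpecialLinearGroup (Fin 2) F)
    (hg₀ : ¬ IsScalar2 (g₀ : Matrix (Fin 2) (Fin 2) F))
    (ht : (g₀ : Matrix (Fin 2) (Fin 2) F).trace ^ 2 ≠ 4) :
    Nat.card (Subgroup.normalizer ((Subgroup.centralizer ({g₀} : Set (SpecialLinearGroup (Fin 2) F)) :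
        Subgroup (SpecialLinearGroup (Fin 2) F)) : Set (SpecialLinearGroup (Fin 2) F))) =
      2 * Nat.card (Subgroup.centralizer ({g₀} : Set (SpecialLinearGroup (Fin 2) F))) := by
  have h1 := Subgroup.card_mul_index ((Subgroup.centralizer ({g₀} : Set (SpecialLinearGroup (Fin 2) F))).subgroupOf
      (Subgroup.normalizer ((Subgroup.centralizer ({g₀} : Set (SpecialLinearGroup (Fin 2) F)) :
        Subgroup (SpecialLinearGroup (Fin 2) F)) : Set (SpecialLinearGroup (Fin 2) F))))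
  rw [torus_index_two h2 g₀ hg₀ ht, Nat.card_congr (Subgroup.subgroupOfEquivOfLe Subgroup.le_normalizer).toEquiv] at h1
  rw [← h1, mul_comm]

theorem not_mem_torus_inverting (h2 : (2 : F) ≠ 0) (g₀ : SpecialLinearGroup (Fin 2) F)
    (hg₀ : ¬ IsScalar2 (g₀ : Matrix (Fin 2) (Fin 2) F))
    (ht : (g₀ : Matrix (Fin 2) (Fin 2) F).trace ^ 2 ≠ 4) (n : SpecialLinearGroup (Fin 2) F)
    (hn : n ∈ Subgroup.normalizer ((Subgroup.centralizer ({g₀} : Set (SpecialLinearGroup (Fin 2) F)) :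
      Subgroup (SpecialLinearGroup (Fin 2) F)) : Set (SpecialLinearGroup (Fin 2) F)))
    (hnT : n ∉ Subgroup.centralizer ({g₀} : Set (SpecialLinearGroup (Fin 2) F))) :
    n * g₀ * n⁻¹ = g₀⁻¹ := by
  rcases normalizer_conj_cases h2 g₀ hg₀ ht n hn with h | h
  · exact absurd ((mem_centralizer_iff_conj_eq g₀ n).2 h) hnT
  · exact h

theorem card_conjClasses_torus_normalizer (h2 : (2 : F) ≠ 0) (g₀ : SpecialLinearGroup (Fin 2) F)
    (hg₀ : ¬ IsScalar2 (g₀ : Matrix (Fin 2) (Fin 2) F))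
    (ht : (g₀ : Matrix (Fin 2) (Fin 2) F).trace ^ 2 ≠ 4) :
    Nat.card (ConjClasses (Subgroup.normalizer ((Subgroup.centralizer ({g₀} : Set (SpecialLinearGroup (Fin 2) F)) :
        Subgroup (SpecialLinearGroup (Fin 2) F)) : Set (SpecialLinearGroup (Fin 2) F)))) =
      Nat.card (Subgroup.centralizer ({g₀} : Set (SpecialLinearGroup (Fin 2) F))) / 2 + 3 := by
  set T := Subgroup.centralizer ({g₀} : Set (SpecialLinearGroup (Fin 2) F)) with hT
  set N := Subgroup.normalizer (T : Set (SpecialLinearGroup (Fin 2) F)) with hN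
  have hTN : T ≤ N := Subgroup.le_normalizer
  rw [← Nat.card_congr (Subgroup.subgroupOfEquivOfLe hTN).toEquiv]
  apply card_conjClasses_of_inverting (T.subgroupOf N)
  · rintro ⟨x, hx⟩ hxT ⟨y, hy⟩ hyT
    rw [Subgroup.mem_subgroupOf] at hxT hyT
    apply Subtype.ext
    exact centralizer_commute g₀ hg₀ x y hxT hyT
  · exact torus_index_two h2 g₀ hg₀ ht
  · rintro ⟨g, hg⟩ hgT ⟨h, hh⟩ hhT
    rw [Subgroup.mem_subgroupOf] at hgT hhT
    apply Subtype.ext
    exact inverting_torus g₀ hg₀ g (not_mem_torus_inverting h2 g₀ hg₀ ht g hg hgT) h hhT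
  · rw [Nat.card_eq_two_iff]
    have h1T : (1 : SpecialLinearGroup (Fin 2) F) ∈ T := Subgroup.one_mem _
    have hm1T : (-1 : SpecialLinearGroup (Fin 2) F) ∈ T := by
      rw [hT, Subgroup.mem_centralizer_singleton_iff]
      rw [neg_mul, mul_neg, one_mul, mul_one]
    refine ⟨⟨⟨1, hTN h1T⟩, by rw [Subgroup.mem_subgroupOf]; exact h1T, by simp⟩,
      ⟨⟨-1, hTN hm1T⟩, by rw [Subgroup.mem_subgroupOf]; exact hm1T, by
        apply Subtype.ext
        show (-1 : SpecialLinearGroup (Fin 2) F) * -1 = 1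
        rw [neg_mul_neg, one_mul]⟩, ?_, ?_⟩
    · intro h
      have h' := congrArg (fun z => ((z.1 : N) : SpecialLinearGroup (Fin 2) F)) h
      exact one_ne_neg_one_SL2 h2 h'
    · ext ⟨⟨x, hxN⟩, hxT, hxx⟩
      simp only [Set.mem_insert_iff, Set.mem_singleton_iff, Set.mem_univ, iff_true]
      have hxx' : x * x = 1 := congrArg Subtype.val hxx
      rcases eq_one_or_neg_one_of_mul_self h2 x hxx' with h | h
      · left
        apply Subtype.ext
        apply Subtype.ext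
        exact h
      · right
        apply Subtype.ext
        apply Subtype.ext
        exact h

end normalizer2
end Cfsg.Agent.Lib.Helper15
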