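import Mathlib
import Cfsg.Agent.Lib.Helper15.Torus3
import Cfsg.Agent.Lib.Helper14.SL2Odd
set_option autoImplicit false
namespace Cfsg.Agent.Lib.Helper15

open Matrix
open Cfsg.Agent.Lib.Helper14

section nonsplit
variable {F : Type*} [Field F] [Fintype F]

theorem exists_nonsplit (hodd : Odd (Fintype.card F)) : ∃ t : F, ¬ IsSplitTrace t := by
  by_cases h5 : 5 ≤ Fintype.card F
  · obtain ⟨t, -, ht⟩ := exists_nonsplit_ne_zero h5
    exact ⟨t, ht⟩
  · have h1 : 1 < Fintype.card F := Fintype.one_lt_card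
    have h3 : Fintype.card F = 3 := by
      obtain ⟨k, hk⟩ := hodd
      omega
    refine ⟨0, ?_⟩
    rw [split_zero_iff, FiniteField.isSquare_neg_one_iff]
    omega

omit [Fintype F] in
theorem not_isSquare_of_nonsplit (h2 : (2 : F) ≠ 0) (t : F) (hns : ¬ IsSplitTrace t) : ¬ IsSquare (t ^ 2 - 4) := by
  rintro ⟨r, hr⟩
  apply hns
  have h4 : (4 : F) ≠ 0 := by
    have : (4 : F) = 2 * 2 := by norm_num
    rw [this]; exact mul_ne_zero h2 h2
  have hα : ((t + r) / 2) ^ 2 - t * ((t + r) / 2) + 1 = 0 := by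
    field_simp
    linear_combination -hr
  have hα0 : (t + r) / 2 ≠ 0 := by
    intro h0
    rw [h0] at hα
    simp at hα
  exact ⟨(t + r) / 2, hα0, trace_eq_add_inv t _ hα0 hα⟩

omit [Fintype F] in
theorem forall_ne_of_nonsplit (t : F) (hns : ¬ IsSplitTrace t) : ∀ α : F, α ^ 2 + t * α + 1 ≠ 0 := by
  intro α hα
  apply hns
  have h0 : -α ≠ 0 := by
    intro h
    have : α = 0 := neg_eq_zero.1 h
    rw [this] at hα
    simp at hα
  exact ⟨-α, h0, trace_eq_add_inv t (-α) h0 (by linear_combination hα)⟩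

omit [Fintype F] in
/-- no eigenvector implies the trace is non-split -/
theorem nonsplit_of_no_eigenvector (g : SpecialLinearGroup (Fin 2) F)
    (hg : ∀ (c : F) (v : Fin 2 → F), v ≠ 0 → (g : Matrix (Fin 2) (Fin 2) F).mulVec v ≠ c • v) :
    ¬ IsSplitTrace (g : Matrix (Fin 2) (Fin 2) F).trace := by
  rintro ⟨α, hα0, hα⟩
  have hdet : ((g : Matrix (Fin 2) (Fin 2) F) - α • (1 : Matrix (Fin 2) (Fin 2) F)).det = 0 := by
    have h1 := g.det_coe
    rw [Matrix.det_fin_two] at h1
    rw [Matrix.trace_fin_two] at hα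
    rw [Matrix.det_fin_two]
    simp only [Matrix.sub_apply, Matrix.smul_apply, Matrix.one_apply_eq, smul_eq_mul, mul_one, ne_eq, zero_ne_one,
      one_ne_zero, not_false_eq_true, Matrix.one_apply_ne, mul_zero, sub_zero]
    have hαα : α * α⁻¹ = 1 := mul_inv_cancel₀ hα0
    linear_combination h1 - α * hα - hαα
  obtain ⟨v, hv0, hv⟩ := Matrix.exists_mulVec_eq_zero_iff.2 hdet
  apply hg α v hv0
  rw [Matrix.sub_mulVec, Matrix.smul_mulVec, Matrix.one_mulVec, sub_eq_zero] at hv
  exact hv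

/-- every non-split trace occurs in the torus `C(J_t)` of a non-split `t` -/
theorem exists_mem_torus_trace (h2 : (2 : F) ≠ 0) (t s : F) (ht : ¬ IsSplitTrace t) (hs : ¬ IsSplitTrace s) :
    ∃ h : SpecialLinearGroup (Fin 2) F, h ∈ Subgroup.centralizer ({comp2SL t} : Set (SpecialLinearGroup (Fin 2) F)) ∧
      (h : Matrix (Fin 2) (Fin 2) F).trace = s := by
  have hsq := isSquare_mul_of_not_isSquare (not_isSquare_of_nonsplit h2 s hs) (not_isSquare_of_nonsplit h2 t ht)
  obtain ⟨r, hr⟩ := hsq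
  have ht4 : t ^ 2 - 4 ≠ 0 := by
    intro h
    exact not_isSquare_of_nonsplit h2 t ht (h ▸ IsSquare.zero)
  set y := r / (t ^ 2 - 4) with hy
  set x := (s - t * y) / 2 with hx
  have hyy : y ^ 2 * (t ^ 2 - 4) = s ^ 2 - 4 := by
    rw [hy]
    field_simp
    linear_combination -hr
  have h4 : (4 : F) ≠ 0 := by
    have : (4 : F) = 2 * 2 := by norm_num
    rw [this]; exact mul_ne_zero h2 h2
  have hnorm : x ^ 2 + t * x * y + y ^ 2 = 1 := by
    rw [hx]
    field_simp
    linear_combination -hyy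
  have hns : ¬ IsScalar2 ((comp2SL t : SpecialLinearGroup (Fin 2) F) : Matrix (Fin 2) (Fin 2) F) := by
    rw [comp2SL_coe]; exact comp2_not_isScalar2 t 1
  have hdet : (x • (1 : Matrix (Fin 2) (Fin 2) F) + y • ((comp2SL t : SpecialLinearGroup (Fin 2) F) : Matrix (Fin 2) (Fin 2) F)).det = 1 := by
    rw [det_add_smul, (comp2SL t).det_coe, comp2SL_coe, comp2_trace]
    linear_combination hnorm
  set h' : SpecialLinearGroup (Fin 2) F := ⟨x • (1 : Matrix (Fin 2) (Fin 2) F) + y • ((comp2SL t : SpecialLinearGroup (Fin 2) F) : Matrix (Fin 2) (Fin 2) F), hdet⟩ with hh'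
  refine ⟨h', ?_, ?_⟩
  · exact (mem_centralizer_iff_eq_add_smul _ hns h').2 ⟨x, y, rfl⟩
  · show (x • (1 : Matrix (Fin 2) (Fin 2) F) + y • ((comp2SL t : SpecialLinearGroup (Fin 2) F) : Matrix (Fin 2) (Fin 2) F)).trace = s
    rw [Matrix.trace_add, Matrix.trace_smul, Matrix.trace_smul, Matrix.trace_one, Fintype.card_fin, comp2SL_coe, comp2_trace, hx]
    simp
    field_simp
    ring

/-- the non-split torus is cyclic -/
theorem isCyclic_nonsplit_torus (h2 : (2 : F) ≠ 0) (t : F) (ht : ¬ IsSplitTrace t) :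
    IsCyclic (Subgroup.centralizer ({comp2SL t} : Set (SpecialLinearGroup (Fin 2) F))) := by
  classical
  have hab := aniso_of_forall_ne t (forall_ne_of_nonsplit t ht)
  have hfact := fact_of_anisotropic t 1 hab
  have hfin : Finite (QuadraticAlgebra F (-1) t) := Finite.of_equiv _ (QuadraticAlgebra.equivProd (-1) t).symm
  have hfinU : Finite (unitary (QuadraticAlgebra F (-1) t)) := Subtype.finite
  have hcyc : IsCyclic (unitary (QuadraticAlgebra F (-1) t)) :=
    isCyclic_of_injective_ringHom (unitary (QuadraticAlgebra F (-1) t)).subtype Subtype.coe_injective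
  obtain ⟨z, hz⟩ := hcyc.exists_generator
  have hord : orderOf (torSL (-1) t z) = Fintype.card F + 1 := by
    rw [orderOf_injective (torSL (-1) t) (torSL_injective (-1) t), orderOf_eq_card_of_forall_mem_zpowers hz,
      card_unitary_quadAlg t 1 hab]
  have hns : ¬ IsScalar2 ((comp2SL t : SpecialLinearGroup (Fin 2) F) : Matrix (Fin 2) (Fin 2) F) := by
    rw [comp2SL_coe]; exact comp2_not_isScalar2 t 1
  have hmem : torSL (-1) t z ∈ Subgroup.centralizer ({comp2SL t} : Set (SpecialLinearGroup (Fin 2) F)) := by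
    rw [mem_centralizer_iff_eq_add_smul _ hns]
    refine ⟨z.1.re, z.1.im, ?_⟩
    show torMat (-1) t z.1 = _
    rw [comp2SL_coe]
    apply mat2_ext <;> simp [torMat, comp2] <;> ring
  have hcard : Nat.card (Subgroup.centralizer ({comp2SL t} : Set (SpecialLinearGroup (Fin 2) F))) = Fintype.card F + 1 := by
    apply card_centralizer_nonsplit_odd _ hns
    rw [comp2SL_coe, comp2_trace]
    exact ht
  apply isCyclic_of_orderOf_eq_card (⟨torSL (-1) t z, hmem⟩ : Subgroup.centralizer ({comp2SL t} : Set (SpecialLinearGroup (Fin 2) F)))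
  rw [hcard, ← hord]
  exact Subgroup.orderOf_mk _ hmem

end nonsplit
end Cfsg.Agent.Lib.Helper15
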