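import Mathlib
import Cfsg.Agent.Lib.Helper15.Torus4
set_option autoImplicit false
namespace Cfsg.Agent.Lib.Helper15

open Matrix
open Cfsg.Agent.Lib.Helper14

section transport

theorem centralizer_map_equiv {G H : Type*} [Group G] [Group H] (e : G ≃* H) (g : G) :
    Subgroup.centralizer ({e g} : Set H) = (Subgroup.centralizer ({g} : Set G)).map e.toMonoidHom := by
  ext x
  rw [Subgroup.mem_centralizer_singleton_iff, Subgroup.mem_map]
  constructor
  · intro hx
    refine ⟨e.symm x, ?_, e.apply_symm_apply x⟩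
    rw [Subgroup.mem_centralizer_singleton_iff]
    apply e.injective
    rw [map_mul, map_mul, e.apply_symm_apply]
    exact hx
  · rintro ⟨y, hy, rfl⟩
    rw [Subgroup.mem_centralizer_singleton_iff] at hy
    show e y * e g = e g * e y
    rw [← map_mul, ← map_mul, hy]

theorem isCyclic_centralizer_of_isConj {G : Type*} [Group G] {g h : G} (hc : IsConj g h)
    (hcyc : IsCyclic (Subgroup.centralizer ({g} : Set G))) : IsCyclic (Subgroup.centralizer ({h} : Set G)) := by
  obtain ⟨c, rfl⟩ := isConj_iff.1 hc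
  have h1 := centralizer_map_equiv (MulAut.conj c) g
  rw [MulAut.conj_apply] at h1
  rw [h1]
  exact isCyclic_of_surjective ((MulAut.conj c).toMonoidHom.subgroupMap (Subgroup.centralizer ({g} : Set G)))
    (MonoidHom.subgroupMap_surjective _ _)

end transport

section split
variable {F : Type*} [Field F]

theorem mem_centralizer_diagSL_iff (a : F) (ha : a ≠ 0) (hne : a ≠ a⁻¹) (g : SpecialLinearGroup (Fin 2) F) :
    g ∈ Subgroup.centralizer ({diagSL a ha} : Set (SpecialLinearGroup (Fin 2) F)) ↔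
      ((g : Matrix (Fin 2) (Fin 2) F) 0 1 = 0 ∧ (g : Matrix (Fin 2) (Fin 2) F) 1 0 = 0) := by
  rw [Subgroup.mem_centralizer_singleton_iff]
  constructor
  · intro hc
    have hc' : (g : Matrix (Fin 2) (Fin 2) F) * !![a, 0; 0, a⁻¹] = !![a, 0; 0, a⁻¹] * (g : Matrix (Fin 2) (Fin 2) F) :=
      congrArg Subtype.val hc
    have e01 := congrFun (congrFun hc' 0) 1
    have e10 := congrFun (congrFun hc' 1) 0
    simp only [Matrix.mul_apply, Fin.sum_univ_two, Matrix.of_apply, Matrix.cons_val_zero, Matrix.cons_val_one,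
      Matrix.cons_val', Matrix.cons_val_fin_one, mul_zero, zero_mul, add_zero, zero_add] at e01 e10
    constructor
    · have : (g : Matrix (Fin 2) (Fin 2) F) 0 1 * (a⁻¹ - a) = 0 := by linear_combination e01
      exact (mul_eq_zero.1 this).resolve_right (sub_ne_zero.2 (Ne.symm hne))
    · have : (g : Matrix (Fin 2) (Fin 2) F) 1 0 * (a - a⁻¹) = 0 := by linear_combination e10
      exact (mul_eq_zero.1 this).resolve_right (sub_ne_zero.2 hne)
  · rintro ⟨h01, h10⟩
    apply Subtype.ext
    show (g : Matrix (Fin 2) (Fin 2) F) * !![a, 0; 0, a⁻¹] = !![a, 0; 0, a⁻¹] * (g : Matrix (Fin 2) (Fin 2) F)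
    apply mat2_ext <;> simp [Matrix.mul_apply, Fin.sum_univ_two, h01, h10, mul_comm]

theorem centralizer_diagSL_eq_range (a : F) (ha : a ≠ 0) (hne : a ≠ a⁻¹) :
    Subgroup.centralizer ({diagSL a ha} : Set (SpecialLinearGroup (Fin 2) F)) = (diagHom (F := F)).range := by
  ext g
  rw [mem_centralizer_diagSL_iff a ha hne, MonoidHom.mem_range]
  constructor
  · rintro ⟨h01, h10⟩
    have hdet := g.det_coe
    rw [Matrix.det_fin_two, h01, zero_mul, sub_zero] at hdet
    have h0 : (g : Matrix (Fin 2) (Fin 2) F) 0 0 ≠ 0 := by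
      intro h; rw [h, zero_mul] at hdet; exact zero_ne_one hdet
    refine ⟨Units.mk0 _ h0, ?_⟩
    apply Subtype.ext
    show !![((Units.mk0 _ h0 : Fˣ) : F), 0; 0, (((Units.mk0 _ h0)⁻¹ : Fˣ) : F)] = (g : Matrix (Fin 2) (Fin 2) F)
    apply mat2_ext
    · simp
    · simp [h01]
    · simp [h10]
    · simp only [Matrix.of_apply, Matrix.cons_val_one, Matrix.cons_val_fin_one, Units.val_inv_eq_inv_val, Units.val_mk0]
      exact (eq_inv_of_mul_eq_one_right hdet).symm
  · rintro ⟨u, rfl⟩
    have hcoe : ((diagHom u : SpecialLinearGroup (Fin 2) F) : Matrix (Fin 2) (Fin 2) F) =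
        !![(u : F), 0; 0, ((u⁻¹ : Fˣ) : F)] := rfl
    rw [hcoe]
    constructor <;> simp

theorem isCyclic_split_torus [Finite F] (a : F) (ha : a ≠ 0) (hne : a ≠ a⁻¹) :
    IsCyclic (Subgroup.centralizer ({diagSL a ha} : Set (SpecialLinearGroup (Fin 2) F))) := by
  rw [centralizer_diagSL_eq_range a ha hne]
  exact isCyclic_of_surjective (diagHom (F := F)).rangeRestrict (diagHom (F := F)).rangeRestrict_surjective

theorem isCyclic_torus [Fintype F] (h2 : (2 : F) ≠ 0) (x : SpecialLinearGroup (Fin 2) F)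
    (hns : ¬ IsScalar2 (x : Matrix (Fin 2) (Fin 2) F))
    (ht : (x : Matrix (Fin 2) (Fin 2) F).trace ^ 2 ≠ 4) :
    IsCyclic (Subgroup.centralizer ({x} : Set (SpecialLinearGroup (Fin 2) F))) := by
  by_cases hs : IsSplitTrace (x : Matrix (Fin 2) (Fin 2) F).trace
  · obtain ⟨a, ha0, hsa⟩ := hs
    have hne : a ≠ a⁻¹ := by
      intro h
      apply ht
      have h1 : a * a = 1 := by
        nth_rewrite 2 [h]
        exact mul_inv_cancel₀ ha0
      rw [hsa, ← h]
      linear_combination 4 * h1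
    have htr : (x : Matrix (Fin 2) (Fin 2) F).trace =
        ((diagSL a ha0 : SpecialLinearGroup (Fin 2) F) : Matrix (Fin 2) (Fin 2) F).trace := by
      rw [diagSL_trace, hsa]
    have ht' : ((diagSL a ha0 : SpecialLinearGroup (Fin 2) F) : Matrix (Fin 2) (Fin 2) F).trace ^ 2 ≠ 4 := by
      rw [← htr]; exact ht
    exact isCyclic_centralizer_of_isConj (isConj_of_trace_eq (diagSL a ha0) x htr ht') (isCyclic_split_torus a ha0 hne)
  · have hc := isConj_comp2SL x hns ht
    exact isCyclic_centralizer_of_isConj hc.symm (isCyclic_nonsplit_torus h2 _ hs)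

end split
end Cfsg.Agent.Lib.Helper15
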