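import Mathlib
import Cfsg.Agent.Lib.Helper15.Torus5
set_option autoImplicit false
namespace Cfsg.Agent.Lib.Helper15

open Matrix
open Cfsg.Agent.Lib.Helper14

section general

/-- the normalizer of a subset normalizes its centralizer -/
theorem normalizer_le_normalizer_centralizer {G : Type*} [Group G] (P : Subgroup G) :
    Subgroup.normalizer (P : Set G) ≤
      Subgroup.normalizer ((Subgroup.centralizer (P : Set G) : Subgroup G) : Set G) := by
  intro n hn
  rw [Subgroup.mem_normalizer_iff] at hn ⊢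
  intro t
  constructor
  · intro ht
    rw [Subgroup.mem_centralizer_iff] at ht ⊢
    intro y hy
    have hy' : n⁻¹ * y * n ∈ P := by
      rw [hn]
      have : n * (n⁻¹ * y * n) * n⁻¹ = y := by group
      rw [this]
      exact hy
    have h1 := ht _ hy'
    calc y * (n * t * n⁻¹) = n * ((n⁻¹ * y * n) * t) * n⁻¹ := by group
      _ = n * (t * (n⁻¹ * y * n)) * n⁻¹ := by rw [h1]
      _ = n * t * n⁻¹ * y := by group
  · intro ht
    rw [Subgroup.mem_centralizer_iff] at ht ⊢
    intro y hy
    have hy' : n * y * n⁻¹ ∈ P := (hn y).1 hy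
    have h1 := ht _ hy'
    have h2 : n * (y * t) * n⁻¹ = n * (t * y) * n⁻¹ := by
      calc n * (y * t) * n⁻¹ = (n * y * n⁻¹) * (n * t * n⁻¹) := by group
        _ = (n * t * n⁻¹) * (n * y * n⁻¹) := h1
        _ = n * (t * y) * n⁻¹ := by group
    have h3 := mul_right_cancel h2
    exact mul_left_cancel h3

/-- In a group, if a Sylow `ℓ`-subgroup `P` sits in a subgroup `T` whose elements commute pairwise,
then the normalizer of `T` normalizes `P`. -/
theorem normalizer_le_of_commutative {G : Type*} [Group G] [Finite G] (ℓ : ℕ) [Fact ℓ.Prime]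
    (P : Sylow ℓ G) (T : Subgroup G) (hPT : (P : Subgroup G) ≤ T)
    (hcomm : ∀ a ∈ T, ∀ b ∈ T, a * b = b * a) :
    Subgroup.normalizer ((T : Subgroup G) : Set G) ≤ Subgroup.normalizer ((P : Subgroup G) : Set G) := by
  intro n hn
  set N := Nat.card (P : Subgroup G) with hN
  let R : Subgroup G :=
    { carrier := {y | y ∈ T ∧ y ^ N = 1}
      mul_mem' := by
        rintro a b ⟨ha, ha1⟩ ⟨hb, hb1⟩
        refine ⟨T.mul_mem ha hb, ?_⟩
        have hc : Commute a b := hcomm a ha b hb
        rw [hc.mul_pow, ha1, hb1, one_mul]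
      one_mem' := ⟨T.one_mem, one_pow _⟩
      inv_mem' := by
        rintro a ⟨ha, ha1⟩
        refine ⟨T.inv_mem ha, ?_⟩
        rw [inv_pow, ha1, inv_one] }
  have hRmem : ∀ y, y ∈ R ↔ y ∈ T ∧ y ^ N = 1 := fun y => Iff.rfl
  obtain ⟨m, hm⟩ := (IsPGroup.iff_card.1 P.isPGroup')
  have hRp : IsPGroup ℓ R := by
    rintro ⟨y, hy⟩
    refine ⟨m, ?_⟩
    apply Subtype.ext
    rw [Subgroup.coe_pow, Subgroup.coe_one]
    show y ^ (ℓ ^ m) = 1
    rw [← hm]
    exact ((hRmem y).1 hy).2
  have hPR : (P : Subgroup G) ≤ R := by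
    intro y hy
    rw [hRmem]
    refine ⟨hPT hy, ?_⟩
    have h1 : (⟨y, hy⟩ : (P : Subgroup G)) ^ Nat.card (P : Subgroup G) = 1 := pow_card_eq_one'
    have h2 := congrArg Subtype.val h1
    rw [Subgroup.coe_pow, Subgroup.coe_one] at h2
    exact h2
  have hR : R = (P : Subgroup G) := P.is_maximal' hRp hPR
  have hcard : Nat.card ((n • P : Sylow ℓ G) : Subgroup G) = N := by
    rw [Sylow.coe_subgroup_smul]
    exact Nat.card_congr ((Subgroup.equivSMul (MulAut.conj n) (P : Subgroup G)).symm.toEquiv)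
  have hnPR : ((n • P : Sylow ℓ G) : Subgroup G) ≤ R := by
    intro y hy
    rw [hRmem]
    constructor
    · rw [Sylow.coe_subgroup_smul, Subgroup.mem_pointwise_smul_iff_inv_smul_mem] at hy
      have h1 : (MulAut.conj n)⁻¹ • y ∈ T := hPT hy
      rw [Subgroup.mem_normalizer_iff] at hn
      rw [hn] at h1
      have : n * ((MulAut.conj n)⁻¹ • y) * n⁻¹ = y := by
        rw [MulAut.smul_def, MulAut.conj_inv_apply]
        group
      rw [this] at h1
      exact h1
    · have h1 : (⟨y, hy⟩ : ((n • P : Sylow ℓ G) : Subgroup G)) ^ Nat.card ((n • P : Sylow ℓ G) : Subgroup G) = 1 :=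
        pow_card_eq_one'
      have h2 := congrArg Subtype.val h1
      rw [Subgroup.coe_pow, Subgroup.coe_one, hcard] at h2
      exact h2
  have hR' : R = ((n • P : Sylow ℓ G) : Subgroup G) := (n • P).is_maximal' hRp hnPR
  have : n • P = P := by
    apply Sylow.ext
    rw [← hR', hR]
  exact Sylow.smul_eq_iff_mem_normalizer.1 this

end general

section sl2

variable {F : Type*} [Field F] [Fintype F]

theorem odd_prime_dvd_card_SL2 (ℓ : ℕ)
    (hdvd : ℓ ∣ Fintype.card F - 1 ∨ ℓ ∣ Fintype.card F + 1) :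
    ℓ ∣ Nat.card (SpecialLinearGroup (Fin 2) F) := by
  rw [card_SL2]
  have hq : 2 ≤ Fintype.card F := Fintype.one_lt_card
  obtain ⟨k, hk⟩ : ∃ k, Fintype.card F = k + 2 := ⟨Fintype.card F - 2, by omega⟩
  have h1 : Fintype.card F ^ 2 - 1 = (Fintype.card F - 1) * (Fintype.card F + 1) := by
    rw [hk]
    have : (k + 2) ^ 2 = (k + 2 - 1) * (k + 2 + 1) + 1 := by
      have : k + 2 - 1 = k + 1 := by omega
      rw [this]; ring
    omega
  rw [h1]
  rcases hdvd with h | h
  · exact Dvd.dvd.mul_left (Dvd.dvd.mul_right h _) _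
  · exact Dvd.dvd.mul_left (Dvd.dvd.mul_left h _) _

theorem eq_one_of_pow_coprime {G : Type*} [Group G] (x : G) (a b : ℕ) (hab : Nat.Coprime a b)
    (ha : x ^ a = 1) (hb : x ^ b = 1) : x = 1 := by
  have h1 : orderOf x ∣ a := orderOf_dvd_of_pow_eq_one ha
  have h2 : orderOf x ∣ b := orderOf_dvd_of_pow_eq_one hb
  have h3 : orderOf x ∣ Nat.gcd a b := Nat.dvd_gcd h1 h2
  rw [hab] at h3
  exact orderOf_eq_one_iff.1 (Nat.dvd_one.1 h3)

/-- Structure of a Sylow `ℓ`-subgroup of `SL₂(q)`, `ℓ` an odd prime dividing `q² - 1`: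
its centralizer is a maximal torus `C(x)` and its normalizer is the normalizer of that torus. -/
theorem sylow_odd_torus (hodd : Odd (Fintype.card F)) (ℓ : ℕ) [Fact ℓ.Prime] (hℓ : ℓ ≠ 2)
    (P : Sylow ℓ (SpecialLinearGroup (Fin 2) F))
    (hdvd : ℓ ∣ Fintype.card F - 1 ∨ ℓ ∣ Fintype.card F + 1) :
    ∃ x : SpecialLinearGroup (Fin 2) F, ¬ IsScalar2 (x : Matrix (Fin 2) (Fin 2) F) ∧
      (x : Matrix (Fin 2) (Fin 2) F).trace ^ 2 ≠ 4 ∧
      Subgroup.centralizer ((P : Subgroup (SpecialLinearGroup (Fin 2) F)) : Set (SpecialLinearGroup (Fin 2) F)) =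
        Subgroup.centralizer ({x} : Set (SpecialLinearGroup (Fin 2) F)) ∧
      Subgroup.normalizer ((P : Subgroup (SpecialLinearGroup (Fin 2) F)) : Set (SpecialLinearGroup (Fin 2) F)) =
        Subgroup.normalizer ((Subgroup.centralizer ({x} : Set (SpecialLinearGroup (Fin 2) F)) :
          Subgroup (SpecialLinearGroup (Fin 2) F)) : Set (SpecialLinearGroup (Fin 2) F)) ∧
      ℓ ∣ Nat.card (Subgroup.centralizer ({x} : Set (SpecialLinearGroup (Fin 2) F))) := by
  have hℓp : ℓ.Prime := Fact.out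
  have h2 : (2 : F) ≠ 0 := by
    intro h
    have := (two_dvd_card_iff (F := F)).2 h
    rw [Nat.odd_iff] at hodd
    omega
  have hq : 2 ≤ Fintype.card F := Fintype.one_lt_card
  have hdvdG := odd_prime_dvd_card_SL2 (F := F) ℓ hdvd
  -- P is nontrivial
  have hPne : (P : Subgroup (SpecialLinearGroup (Fin 2) F)) ≠ ⊥ := P.ne_bot_of_dvd_card hdvdG
  have : Nontrivial (P : Subgroup (SpecialLinearGroup (Fin 2) F)) :=
    (Subgroup.nontrivial_iff_ne_bot _).2 hPne
  have hcen := IsPGroup.center_nontrivial P.isPGroup'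
  obtain ⟨⟨z, hzc⟩, hz1⟩ := exists_ne (1 : Subgroup.center (P : Subgroup (SpecialLinearGroup (Fin 2) F)))
  have hz1' : z ≠ 1 := fun h => hz1 (Subtype.ext h)
  set x : SpecialLinearGroup (Fin 2) F := z.1 with hx
  have hxP : x ∈ (P : Subgroup (SpecialLinearGroup (Fin 2) F)) := z.2
  have hx1 : x ≠ 1 := fun h => hz1' (Subtype.ext h)
  have hxcomm : ∀ y ∈ (P : Subgroup (SpecialLinearGroup (Fin 2) F)), y * x = x * y := by
    intro y hy
    rw [Subgroup.mem_center_iff] at hzc
    have := congrArg Subtype.val (hzc ⟨y, hy⟩)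
    exact this
  obtain ⟨k, hk⟩ := P.isPGroup' z
  have hxk : x ^ (ℓ ^ k) = 1 := by
    have := congrArg Subtype.val hk
    rw [Subgroup.coe_pow, Subgroup.coe_one] at this
    exact this
  have hℓodd : Nat.Coprime (ℓ ^ k) 2 := by
    apply Nat.Coprime.pow_left
    rw [Nat.coprime_primes hℓp Nat.prime_two]
    exact hℓ
  -- x is not scalar
  have hns : ¬ IsScalar2 (x : Matrix (Fin 2) (Fin 2) F) := by
    intro hs
    have hc := isScalar2_mem_center x hs
    have h3 := center_mul_self x hc
    apply hx1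
    apply eq_one_of_pow_coprime x (ℓ ^ k) 2 hℓodd hxk
    rw [pow_two]
    exact h3
  have hxT : x ∈ Subgroup.centralizer ({x} : Set (SpecialLinearGroup (Fin 2) F)) := self_mem_centralizer x
  -- ℓ does not divide q
  have hℓq : ¬ ℓ ∣ Fintype.card F := by
    intro h
    have h1 : ℓ ∣ 1 := by
      rcases hdvd with h' | h'
      · have := (Nat.dvd_sub h h')
        have e : Fintype.card F - (Fintype.card F - 1) = 1 := by omega
        rwa [e] at this
      · have := (Nat.dvd_sub h' h)
        have e : Fintype.card F + 1 - Fintype.card F = 1 := by omega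
        rwa [e] at this
    exact hℓp.one_lt.ne' (Nat.dvd_one.1 h1)
  have hxT' : (⟨x, hxT⟩ : Subgroup.centralizer ({x} : Set (SpecialLinearGroup (Fin 2) F))) ^
      Nat.card (Subgroup.centralizer ({x} : Set (SpecialLinearGroup (Fin 2) F))) = 1 := pow_card_eq_one'
  have hxT'' : x ^ Nat.card (Subgroup.centralizer ({x} : Set (SpecialLinearGroup (Fin 2) F))) = 1 := by
    have := congrArg Subtype.val hxT'
    rw [Subgroup.coe_pow, Subgroup.coe_one] at this
    exact this
  -- trace squared is not four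
  have ht : (x : Matrix (Fin 2) (Fin 2) F).trace ^ 2 ≠ 4 := by
    intro ht
    have hc := card_centralizer_unip_odd h2 x hns ht
    rw [hc] at hxT''
    apply hx1
    apply eq_one_of_pow_coprime x (ℓ ^ k) (2 * Fintype.card F) _ hxk hxT''
    apply Nat.Coprime.pow_left
    apply Nat.Coprime.mul_right
    · rw [Nat.coprime_primes hℓp Nat.prime_two]
      exact hℓ
    · exact (Nat.Prime.coprime_iff_not_dvd hℓp).2 hℓq
  -- P ≤ T
  have hPT : (P : Subgroup (SpecialLinearGroup (Fin 2) F)) ≤
      Subgroup.centralizer ({x} : Set (SpecialLinearGroup (Fin 2) F)) := by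
    intro y hy
    rw [Subgroup.mem_centralizer_singleton_iff]
    exact hxcomm y hy
  have hCP : Subgroup.centralizer ((P : Subgroup (SpecialLinearGroup (Fin 2) F)) : Set (SpecialLinearGroup (Fin 2) F)) =
        Subgroup.centralizer ({x} : Set (SpecialLinearGroup (Fin 2) F)) := by
    apply le_antisymm
    · intro g hg
      rw [Subgroup.mem_centralizer_iff] at hg
      rw [Subgroup.mem_centralizer_singleton_iff]
      exact (hg x hxP).symm
    · intro g hg
      rw [Subgroup.mem_centralizer_iff]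
      intro y hy
      exact centralizer_commute x hns y g (hPT hy) hg
  refine ⟨x, hns, ht, hCP, ?_, ?_⟩
  · apply le_antisymm
    · rw [← hCP]
      exact normalizer_le_normalizer_centralizer _
    · apply normalizer_le_of_commutative ℓ P _ hPT
      intro a ha b hb
      exact centralizer_commute x hns a b ha hb
  · have h1 : Nat.card (P : Subgroup (SpecialLinearGroup (Fin 2) F)) ∣
        Nat.card (Subgroup.centralizer ({x} : Set (SpecialLinearGroup (Fin 2) F))) :=
      Subgroup.card_dvd_of_le hPT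
    refine dvd_trans ?_ h1
    obtain ⟨m, hm⟩ := (IsPGroup.iff_card.1 P.isPGroup')
    rw [hm]
    have hm0 : m ≠ 0 := by
      rintro rfl
      rw [pow_zero] at hm
      exact hPne (Subgroup.card_eq_one.1 hm)
    exact dvd_pow_self ℓ hm0

end sl2

end Cfsg.Agent.Lib.Helper15
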