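import Mathlib
import Cfsg.Agent.Lib.Helper15.Torus6
set_option autoImplicit false
namespace Cfsg.Agent.Lib.Helper15

open Matrix
open Cfsg.Agent.Lib.Helper14

section order4
variable {F : Type*} [Field F]

/-- an element of `SL₂` squaring to `-1` has trace zero -/
theorem trace_eq_zero_of_sq (x : SpecialLinearGroup (Fin 2) F) (hx : x * x = -1) :
    (x : Matrix (Fin 2) (Fin 2) F).trace = 0 := by
  have h1 : x⁻¹ = -x := by
    apply inv_eq_of_mul_eq_one_right
    rw [mul_neg, hx, neg_neg]
  have h2 : ((x⁻¹ : SpecialLinearGroup (Fin 2) F) : Matrix (Fin 2) (Fin 2) F) =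
      ((-x : SpecialLinearGroup (Fin 2) F) : Matrix (Fin 2) (Fin 2) F) := by rw [h1]
  rw [coe_inv_eq, Matrix.SpecialLinearGroup.coe_neg] at h2
  have h3 := congrFun (congrFun h2 0) 0
  simp only [Matrix.sub_apply, Matrix.smul_apply, Matrix.one_apply_eq, smul_eq_mul, mul_one, Matrix.neg_apply] at h3
  linear_combination h3

theorem not_isScalar2_of_sq (h2 : (2 : F) ≠ 0) (x : SpecialLinearGroup (Fin 2) F) (hx : x * x = -1) :
    ¬ IsScalar2 (x : Matrix (Fin 2) (Fin 2) F) := by
  intro hs
  have h1 := center_mul_self x (isScalar2_mem_center x hs)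
  rw [hx] at h1
  exact one_ne_neg_one_SL2 h2 h1.symm

theorem trace_sq_ne_four_of_sq (h2 : (2 : F) ≠ 0) (x : SpecialLinearGroup (Fin 2) F) (hx : x * x = -1) :
    (x : Matrix (Fin 2) (Fin 2) F).trace ^ 2 ≠ 4 := by
  rw [trace_eq_zero_of_sq x hx]
  intro h
  apply h2
  have : (2 : F) * 2 = 0 := by linear_combination -h
  exact (mul_self_eq_zero.1 this)

/-- two elements of `SL₂(q)` squaring to `-1` are conjugate -/
theorem isConj_of_sq [Fintype F] (h2 : (2 : F) ≠ 0) (x y : SpecialLinearGroup (Fin 2) F)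
    (hx : x * x = -1) (hy : y * y = -1) : IsConj x y := by
  apply isConj_of_trace_eq x y _ (trace_sq_ne_four_of_sq h2 x hx)
  rw [trace_eq_zero_of_sq x hx, trace_eq_zero_of_sq y hy]

theorem orderOf_neg_one_SL2 (h2 : (2 : F) ≠ 0) : orderOf (-1 : SpecialLinearGroup (Fin 2) F) = 2 := by
  apply orderOf_eq_prime
  · rw [pow_two, neg_mul_neg, one_mul]
  · exact fun h => one_ne_neg_one_SL2 h2 h.symm

theorem orderOf_of_sq (h2 : (2 : F) ≠ 0) (x : SpecialLinearGroup (Fin 2) F) (hx : x * x = -1) : orderOf x = 4 := by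
  have h := orderOf_eq_prime_pow (p := 2) (n := 1) (x := x) ?_ ?_
  · simpa using h
  · rw [pow_one, pow_two, hx]
    exact fun h => one_ne_neg_one_SL2 h2 h.symm
  · have : x ^ 2 ^ (1 + 1) = (x * x) * (x * x) := by
      norm_num
      rw [show (4 : ℕ) = 2 + 2 from rfl, pow_add, pow_two]
    rw [this, hx, neg_mul_neg, one_mul]

/-- a subgroup of order four of `SL₂` in odd characteristic is generated by a square root of `-1` -/
theorem exists_gen_of_card_four (h2 : (2 : F) ≠ 0) (A : Subgroup (SpecialLinearGroup (Fin 2) F))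
    (hA : Nat.card A = 4) : ∃ x : SpecialLinearGroup (Fin 2) F, x * x = -1 ∧ A = Subgroup.zpowers x := by
  have hfin : Finite A := Nat.finite_of_card_ne_zero (by rw [hA]; norm_num)
  -- an element outside `{1, -1}`
  have hex : ∃ x ∈ A, x ≠ 1 ∧ x ≠ -1 := by
    by_contra hcon
    push Not at hcon
    have hle : A ≤ Subgroup.zpowers (-1 : SpecialLinearGroup (Fin 2) F) := by
      intro x hx
      by_cases h1 : x = 1
      · rw [h1]; exact Subgroup.one_mem _
      · rw [hcon x hx h1]; exact Subgroup.mem_zpowers _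
    have h3 := Subgroup.card_dvd_of_le hle
    rw [hA, Nat.card_zpowers, orderOf_neg_one_SL2 h2] at h3
    omega
  obtain ⟨x, hxA, hx1, hxm⟩ := hex
  have hx4 : x ^ 4 = 1 := by
    have h := pow_card_eq_one' (G := A) (x := ⟨x, hxA⟩)
    rw [hA] at h
    have := congrArg Subtype.val h
    rw [Subgroup.coe_pow, Subgroup.coe_one] at this
    exact this
  have hsq : (x * x) * (x * x) = 1 := by
    rw [← hx4, show (4 : ℕ) = 2 + 2 from rfl, pow_add, pow_two]
  have hxx : x * x = -1 := by
    rcases eq_one_or_neg_one_of_mul_self h2 (x * x) hsq with h | h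
    · rcases eq_one_or_neg_one_of_mul_self h2 x h with h' | h'
      · exact absurd h' hx1
      · exact absurd h' hxm
    · exact h
  refine ⟨x, hxx, ?_⟩
  symm
  apply Subgroup.eq_of_le_of_card_ge
  · rw [Subgroup.zpowers_le]
    exact hxA
  · rw [hA, Nat.card_zpowers, orderOf_of_sq h2 x hxx]

/-- the normalizer of a cyclic group of order four is the normalizer of the torus containing it -/
theorem normalizer_zpowers_of_sq (h2 : (2 : F) ≠ 0) (x : SpecialLinearGroup (Fin 2) F) (hx : x * x = -1) :
    Subgroup.normalizer ((Subgroup.zpowers x : Subgroup (SpecialLinearGroup (Fin 2) F)) : Set (SpecialLinearGroup (Fin 2) F)) =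
      Subgroup.normalizer ((Subgroup.centralizer ({x} : Set (SpecialLinearGroup (Fin 2) F)) :
        Subgroup (SpecialLinearGroup (Fin 2) F)) : Set (SpecialLinearGroup (Fin 2) F)) := by
  have hns := not_isScalar2_of_sq h2 x hx
  have ht := trace_sq_ne_four_of_sq h2 x hx
  have hle : Subgroup.zpowers x ≤ Subgroup.centralizer ({x} : Set (SpecialLinearGroup (Fin 2) F)) :=
    Subgroup.zpowers_le.2 (self_mem_centralizer x)
  apply le_antisymm
  · intro n hn
    have h1 : n * x * n⁻¹ ∈ Subgroup.zpowers x :=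
      (Subgroup.mem_normalizer_iff.1 hn x).1 (Subgroup.mem_zpowers x)
    rcases trace_eq_cases h2 x hns ht _ (hle h1) (trace_conj_eq n x) with h | h
    · exact Subgroup.le_normalizer ((mem_centralizer_iff_conj_eq x n).2 h)
    · exact mem_normalizer_of_inverting x hns n h
  · intro n hn
    have h1 : (Subgroup.zpowers x).map (MulAut.conj n).toMonoidHom = Subgroup.zpowers x := by
      rw [MonoidHom.map_zpowers]
      show Subgroup.zpowers (n * x * n⁻¹) = Subgroup.zpowers x
      rcases normalizer_conj_cases h2 x hns ht n hn with h | h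
      · rw [h]
      · rw [h, Subgroup.zpowers_inv]
    rw [Subgroup.mem_normalizer_iff]
    intro h
    have h3 : n * h * n⁻¹ ∈ (Subgroup.zpowers x).map (MulAut.conj n).toMonoidHom ↔ h ∈ Subgroup.zpowers x := by
      rw [Subgroup.mem_map_equiv]
      have : (MulAut.conj n).symm (n * h * n⁻¹) = h := by
        rw [MulAut.conj_symm_apply]
        group
      rw [this]
    rw [h1] at h3
    exact h3.symm

end order4

end Cfsg.Agent.Lib.Helper15
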