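import Mathlib
import Cfsg.Agent.Lib.Helper15.Order4
import Cfsg.Agent.Lib.Helper15.PSL2ClassOdd2
set_option autoImplicit false
namespace Cfsg.Agent.Lib.Helper15

open Matrix
open Cfsg.Agent.Lib.Helper14

section syl2
variable {F : Type*} [Field F]

/-- the standard element of order four -/
def w0 (F : Type*) [Field F] : SpecialLinearGroup (Fin 2) F := ⟨!![0, -1; 1, 0], by simp [det_fin_two]⟩

theorem w0_sq : w0 F * w0 F = -1 := by
  apply Subtype.ext
  rw [Matrix.SpecialLinearGroup.coe_mul, Matrix.SpecialLinearGroup.coe_neg, Matrix.SpecialLinearGroup.coe_one]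
  ext i j
  fin_cases i <;> fin_cases j <;> simp [w0, Matrix.mul_apply, Fin.sum_univ_two]

theorem conj_neg_one (g : SpecialLinearGroup (Fin 2) F) : g * (-1) * g⁻¹ = -1 := by
  rw [mul_neg, mul_one, neg_mul, mul_inv_cancel]

theorem conj_sq (g x : SpecialLinearGroup (Fin 2) F) (hx : x * x = -1) :
    (g * x * g⁻¹) * (g * x * g⁻¹) = -1 := by
  have : (g * x * g⁻¹) * (g * x * g⁻¹) = g * (x * x) * g⁻¹ := by group
  rw [this, hx, conj_neg_one]

variable [Fintype F]

/-- order of the torus of a square root of `-1` -/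
theorem card_torus_of_sq (h2 : (2 : F) ≠ 0) (x : SpecialLinearGroup (Fin 2) F) (hx : x * x = -1) :
    (Fintype.card F % 4 = 1 →
      Nat.card (Subgroup.centralizer ({x} : Set (SpecialLinearGroup (Fin 2) F))) = Fintype.card F - 1) ∧
    (Fintype.card F % 4 = 3 →
      Nat.card (Subgroup.centralizer ({x} : Set (SpecialLinearGroup (Fin 2) F))) = Fintype.card F + 1) := by
  have hns := not_isScalar2_of_sq h2 x hx
  have ht := trace_sq_ne_four_of_sq h2 x hx
  have htr := trace_eq_zero_of_sq x hx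
  constructor
  · intro hq
    have hs : IsSplitTrace (x : Matrix (Fin 2) (Fin 2) F).trace := by
      rw [htr, split_zero_iff, FiniteField.isSquare_neg_one_iff]
      omega
    exact card_centralizer_split_odd x hns ht hs
  · intro hq
    have hs : ¬ IsSplitTrace (x : Matrix (Fin 2) (Fin 2) F).trace := by
      rw [htr, split_zero_iff, FiniteField.isSquare_neg_one_iff]
      omega
    exact card_centralizer_nonsplit_odd x hns hs

theorem card_SL2_eq (k : ℕ) (hq : Fintype.card F = k) :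
    Nat.card (SpecialLinearGroup (Fin 2) F) = k * (k ^ 2 - 1) := by
  rw [card_SL2, hq]

/-- `|G| = 2 |T| · idx` with `idx` odd -/
theorem card_SL2_factor (hodd : Odd (Fintype.card F)) (h2 : (2 : F) ≠ 0) (x : SpecialLinearGroup (Fin 2) F)
    (hx : x * x = -1) :
    ∃ r : ℕ, Odd r ∧ Nat.card (SpecialLinearGroup (Fin 2) F) =
      2 * Nat.card (Subgroup.centralizer ({x} : Set (SpecialLinearGroup (Fin 2) F))) * r := by
  obtain ⟨h1, h3⟩ := card_torus_of_sq h2 x hx
  have hq2 : 2 ≤ Fintype.card F := Fintype.one_lt_card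
  have hcases : Fintype.card F % 4 = 1 ∨ Fintype.card F % 4 = 3 := by
    rw [Nat.odd_iff] at hodd
    omega
  rcases hcases with hq | hq
  · obtain ⟨k, hk⟩ : ∃ k, Fintype.card F = 4 * k + 1 := ⟨Fintype.card F / 4, by omega⟩
    refine ⟨(4 * k + 1) * (2 * k + 1), ?_, ?_⟩
    · exact Nat.odd_mul.2 ⟨⟨2 * k, by ring⟩, ⟨k, by ring⟩⟩
    · rw [h1 hq, card_SL2_eq _ hk, hk]
      have e1 : (4 * k + 1) ^ 2 - 1 = 8 * k * (2 * k + 1) := by
        have : (4 * k + 1) ^ 2 = 8 * k * (2 * k + 1) + 1 := by ring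
        omega
      have e2 : 4 * k + 1 - 1 = 4 * k := by omega
      rw [e1, e2]
      ring
  · obtain ⟨k, hk⟩ : ∃ k, Fintype.card F = 4 * k + 3 := ⟨Fintype.card F / 4, by omega⟩
    refine ⟨(4 * k + 3) * (2 * k + 1), ?_, ?_⟩
    · exact Nat.odd_mul.2 ⟨⟨2 * k + 1, by ring⟩, ⟨k, by ring⟩⟩
    · rw [h3 hq, card_SL2_eq _ hk, hk]
      have e1 : (4 * k + 3) ^ 2 - 1 = 8 * (k + 1) * (2 * k + 1) := by
        have : (4 * k + 3) ^ 2 = 8 * (k + 1) * (2 * k + 1) + 1 := by ring
        omega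
      rw [e1]
      ring

theorem odd_index_normalizer_torus (hodd : Odd (Fintype.card F)) (h2 : (2 : F) ≠ 0)
    (x : SpecialLinearGroup (Fin 2) F) (hx : x * x = -1) :
    Odd (Subgroup.normalizer ((Subgroup.centralizer ({x} : Set (SpecialLinearGroup (Fin 2) F)) :
        Subgroup (SpecialLinearGroup (Fin 2) F)) : Set (SpecialLinearGroup (Fin 2) F))).index := by
  obtain ⟨r, hr, hG⟩ := card_SL2_factor hodd h2 x hx
  have hns := not_isScalar2_of_sq h2 x hx
  have ht := trace_sq_ne_four_of_sq h2 x hx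
  have h1 := Subgroup.card_mul_index (Subgroup.normalizer ((Subgroup.centralizer ({x} : Set (SpecialLinearGroup (Fin 2) F)) :
        Subgroup (SpecialLinearGroup (Fin 2) F)) : Set (SpecialLinearGroup (Fin 2) F)))
  rw [card_torus_normalizer h2 x hns ht, hG] at h1
  have hpos : 0 < 2 * Nat.card (Subgroup.centralizer ({x} : Set (SpecialLinearGroup (Fin 2) F))) := by
    have : 0 < Nat.card (Subgroup.centralizer ({x} : Set (SpecialLinearGroup (Fin 2) F))) := Nat.card_pos
    omega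
  rw [Nat.eq_of_mul_eq_mul_left hpos h1]
  exact hr

/-- every Sylow `2`-subgroup normalizes the torus of some square root of `-1` -/
theorem exists_sq_normalized (hodd : Odd (Fintype.card F)) (h2 : (2 : F) ≠ 0)
    (S : Sylow 2 (SpecialLinearGroup (Fin 2) F)) :
    ∃ x : SpecialLinearGroup (Fin 2) F, x * x = -1 ∧
      ∀ s ∈ (S : Subgroup (SpecialLinearGroup (Fin 2) F)), s * x * s⁻¹ = x ∨ s * x * s⁻¹ = x⁻¹ := by
  set N₀ := Subgroup.normalizer ((Subgroup.centralizer ({w0 F} : Set (SpecialLinearGroup (Fin 2) F)) :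
        Subgroup (SpecialLinearGroup (Fin 2) F)) : Set (SpecialLinearGroup (Fin 2) F)) with hN₀
  have hidx : Odd N₀.index := odd_index_normalizer_torus hodd h2 (w0 F) w0_sq
  have hnd : ¬ 2 ∣ Nat.card (SpecialLinearGroup (Fin 2) F ⧸ N₀) := by
    intro h
    have h' : 2 ∣ N₀.index := h
    rw [Nat.odd_iff] at hidx
    omega
  obtain ⟨c, hc⟩ := S.isPGroup'.nonempty_fixed_point_of_prime_not_dvd_card
    (SpecialLinearGroup (Fin 2) F ⧸ N₀) hnd
  obtain ⟨g, rfl⟩ := QuotientGroup.mk_surjective c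
  rw [MulAction.mem_fixedPoints] at hc
  have hns := not_isScalar2_of_sq h2 (w0 F) w0_sq
  have ht := trace_sq_ne_four_of_sq h2 (w0 F) w0_sq
  refine ⟨g * w0 F * g⁻¹, conj_sq g (w0 F) w0_sq, ?_⟩
  intro s hs
  have h1 := hc ⟨s⁻¹, Subgroup.inv_mem _ hs⟩
  have h1' : (((s⁻¹ * g : SpecialLinearGroup (Fin 2) F)) : SpecialLinearGroup (Fin 2) F ⧸ N₀) = g := h1
  rw [QuotientGroup.eq] at h1'
  have h3 : g⁻¹ * s * g ∈ N₀ := by
    have : (s⁻¹ * g)⁻¹ * g = g⁻¹ * s * g := by group
    rw [← this]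
    exact h1'
  have e : ∀ z : SpecialLinearGroup (Fin 2) F,
      g * ((g⁻¹ * s * g) * z * (g⁻¹ * s * g)⁻¹) * g⁻¹ = s * (g * z * g⁻¹) * s⁻¹ := by
    intro z; group
  rcases normalizer_conj_cases h2 (w0 F) hns ht _ h3 with h | h
  · left
    rw [← e, h]
  · right
    rw [← e, h]
    group

end syl2

end Cfsg.Agent.Lib.Helper15
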