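import Mathlib
import Cfsg.Agent.Lib.Helper15.Syl2A
set_option autoImplicit false
namespace Cfsg.Agent.Lib.Helper15

open Matrix
open Cfsg.Agent.Lib.Helper14

section twopart

/-- the elements of `2`-power order of a commutative subgroup -/
def twoPartOf {G : Type*} [Group G] (T : Subgroup G) (hT : ∀ a ∈ T, ∀ b ∈ T, a * b = b * a) : Subgroup G where
  carrier := {t | t ∈ T ∧ ∃ k : ℕ, t ^ (2 ^ k) = 1}
  mul_mem' := by
    rintro a b ⟨ha, k, hk⟩ ⟨hb, l, hl⟩
    refine ⟨T.mul_mem ha hb, k + l, ?_⟩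
    have hc : Commute a b := hT a ha b hb
    rw [hc.mul_pow, pow_add, pow_mul, hk, one_pow, one_mul, mul_comm (2 ^ k) (2 ^ l), pow_mul, hl, one_pow]
  one_mem' := ⟨T.one_mem, 0, by simp⟩
  inv_mem' := by
    rintro a ⟨ha, k, hk⟩
    exact ⟨T.inv_mem ha, k, by rw [inv_pow, hk, inv_one]⟩

theorem mem_twoPartOf {G : Type*} [Group G] (T : Subgroup G) (hT : ∀ a ∈ T, ∀ b ∈ T, a * b = b * a) (t : G) :
    t ∈ twoPartOf T hT ↔ t ∈ T ∧ ∃ k : ℕ, t ^ (2 ^ k) = 1 := Iff.rfl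

theorem isPGroup_twoPartOf {G : Type*} [Group G] (T : Subgroup G) (hT : ∀ a ∈ T, ∀ b ∈ T, a * b = b * a) :
    IsPGroup 2 (twoPartOf T hT) := by
  rintro ⟨t, ht, k, hk⟩
  refine ⟨k, ?_⟩
  apply Subtype.ext
  rw [Subgroup.coe_pow, Subgroup.coe_one]
  exact hk

theorem normalizer_le_normalizer_twoPartOf {G : Type*} [Group G] (T : Subgroup G)
    (hT : ∀ a ∈ T, ∀ b ∈ T, a * b = b * a) :
    Subgroup.normalizer (T : Set G) ≤ Subgroup.normalizer ((twoPartOf T hT : Subgroup G) : Set G) := by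
  intro g hg
  rw [Subgroup.mem_normalizer_iff] at hg ⊢
  intro t
  rw [mem_twoPartOf, mem_twoPartOf, ← hg t]
  apply and_congr Iff.rfl
  apply exists_congr
  intro k
  rw [conj_pow]
  constructor
  · intro h; rw [h, mul_one, mul_inv_cancel]
  · intro h
    have : t ^ 2 ^ k = g⁻¹ * (g * t ^ 2 ^ k * g⁻¹) * g := by group
    rw [this, h, mul_one, inv_mul_cancel]

end twopart

section syl2b
variable {F : Type*} [Field F]

theorem torus_comm (h2 : (2 : F) ≠ 0) (x : SpecialLinearGroup (Fin 2) F) (hx : x * x = -1) :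
    ∀ a ∈ Subgroup.centralizer ({x} : Set (SpecialLinearGroup (Fin 2) F)),
      ∀ b ∈ Subgroup.centralizer ({x} : Set (SpecialLinearGroup (Fin 2) F)), a * b = b * a :=
  fun a ha b hb => centralizer_commute x (not_isScalar2_of_sq h2 x hx) a b ha hb

/-- the `2`-part of the torus of a square root of `-1` -/
def torusTwo (h2 : (2 : F) ≠ 0) (x : SpecialLinearGroup (Fin 2) F) (hx : x * x = -1) :
    Subgroup (SpecialLinearGroup (Fin 2) F) :=
  twoPartOf (Subgroup.centralizer ({x} : Set (SpecialLinearGroup (Fin 2) F))) (torus_comm h2 x hx)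

theorem mem_torusTwo (h2 : (2 : F) ≠ 0) (x : SpecialLinearGroup (Fin 2) F) (hx : x * x = -1)
    (t : SpecialLinearGroup (Fin 2) F) :
    t ∈ torusTwo h2 x hx ↔ t ∈ Subgroup.centralizer ({x} : Set (SpecialLinearGroup (Fin 2) F)) ∧
      ∃ k : ℕ, t ^ (2 ^ k) = 1 := Iff.rfl

theorem pow_four_of_sq (x : SpecialLinearGroup (Fin 2) F) (hx : x * x = -1) : x ^ 4 = 1 := by
  rw [show (4 : ℕ) = 2 + 2 from rfl, pow_add, pow_two, hx, neg_mul_neg, one_mul]

theorem self_mem_torusTwo (h2 : (2 : F) ≠ 0) (x : SpecialLinearGroup (Fin 2) F) (hx : x * x = -1) :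
    x ∈ torusTwo h2 x hx := by
  rw [mem_torusTwo]
  exact ⟨self_mem_centralizer x, 2, pow_four_of_sq x hx⟩

theorem inv_eq_neg_of_sq (x : SpecialLinearGroup (Fin 2) F) (hx : x * x = -1) : x⁻¹ = -x := by
  apply inv_eq_of_mul_eq_one_right
  rw [mul_neg, hx, neg_neg]

/-- elements conjugating `x` to `x` or `x⁻¹` normalize the torus -/
theorem mem_normalizer_torus_of_cases (h2 : (2 : F) ≠ 0) (x : SpecialLinearGroup (Fin 2) F) (hx : x * x = -1)
    (s : SpecialLinearGroup (Fin 2) F) (hs : s * x * s⁻¹ = x ∨ s * x * s⁻¹ = x⁻¹) :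
    s ∈ Subgroup.normalizer ((Subgroup.centralizer ({x} : Set (SpecialLinearGroup (Fin 2) F)) :
        Subgroup (SpecialLinearGroup (Fin 2) F)) : Set (SpecialLinearGroup (Fin 2) F)) := by
  rcases hs with h | h
  · exact Subgroup.le_normalizer ((mem_centralizer_iff_conj_eq x s).2 h)
  · exact mem_normalizer_of_inverting x (not_isScalar2_of_sq h2 x hx) s h

theorem torusTwo_le_sylow (h2 : (2 : F) ≠ 0) (x : SpecialLinearGroup (Fin 2) F) (hx : x * x = -1)
    (S : Sylow 2 (SpecialLinearGroup (Fin 2) F))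
    (hS : ∀ s ∈ (S : Subgroup (SpecialLinearGroup (Fin 2) F)), s * x * s⁻¹ = x ∨ s * x * s⁻¹ = x⁻¹) :
    torusTwo h2 x hx ≤ (S : Subgroup (SpecialLinearGroup (Fin 2) F)) := by
  have hle : (S : Subgroup (SpecialLinearGroup (Fin 2) F)) ≤
      Subgroup.normalizer ((torusTwo h2 x hx : Subgroup (SpecialLinearGroup (Fin 2) F)) :
        Set (SpecialLinearGroup (Fin 2) F)) := by
    intro s hs
    exact normalizer_le_normalizer_twoPartOf _ (torus_comm h2 x hx)
      (mem_normalizer_torus_of_cases h2 x hx s (hS s hs))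
  have hp := IsPGroup.to_sup_of_normal_right' S.isPGroup' (isPGroup_twoPartOf _ (torus_comm h2 x hx)) hle
  have := S.is_maximal' hp le_sup_left
  intro t ht
  rw [← this]
  exact Subgroup.mem_sup_right ht

theorem mem_torusTwo_of_mem_sylow (h2 : (2 : F) ≠ 0) (x : SpecialLinearGroup (Fin 2) F) (hx : x * x = -1)
    (S : Sylow 2 (SpecialLinearGroup (Fin 2) F)) (s : SpecialLinearGroup (Fin 2) F)
    (hs : s ∈ (S : Subgroup (SpecialLinearGroup (Fin 2) F)))
    (hsT : s ∈ Subgroup.centralizer ({x} : Set (SpecialLinearGroup (Fin 2) F))) :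
    s ∈ torusTwo h2 x hx := by
  rw [mem_torusTwo]
  refine ⟨hsT, ?_⟩
  obtain ⟨k, hk⟩ := S.isPGroup' ⟨s, hs⟩
  refine ⟨k, ?_⟩
  have := congrArg Subtype.val hk
  rw [Subgroup.coe_pow, Subgroup.coe_one] at this
  exact this

/-- a torus element normalizing `S` has `2`-power order -/
theorem mem_torusTwo_of_mem_normalizer (h2 : (2 : F) ≠ 0)
    (x : SpecialLinearGroup (Fin 2) F) (hx : x * x = -1)
    (S : Sylow 2 (SpecialLinearGroup (Fin 2) F))
    (s₀ : SpecialLinearGroup (Fin 2) F) (hs₀ : s₀ ∈ (S : Subgroup (SpecialLinearGroup (Fin 2) F)))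
    (hinv : s₀ * x * s₀⁻¹ = x⁻¹) (n : SpecialLinearGroup (Fin 2) F)
    (hnT : n ∈ Subgroup.centralizer ({x} : Set (SpecialLinearGroup (Fin 2) F)))
    (hnS : n ∈ Subgroup.normalizer ((S : Subgroup (SpecialLinearGroup (Fin 2) F)) : Set (SpecialLinearGroup (Fin 2) F))) :
    n ∈ torusTwo h2 x hx := by
  have hns := not_isScalar2_of_sq h2 x hx
  have h1 : n * s₀ * n⁻¹ ∈ (S : Subgroup (SpecialLinearGroup (Fin 2) F)) :=
    (Subgroup.mem_normalizer_iff.1 hnS s₀).1 hs₀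
  have h3 : s₀ * n⁻¹ * s₀⁻¹ = n := by
    have := inverting_torus x hns s₀ hinv n⁻¹ (Subgroup.inv_mem _ hnT)
    rw [this, inv_inv]
  have h4 : n * n = (n * s₀ * n⁻¹) * s₀⁻¹ := by
    calc n * n = n * (s₀ * n⁻¹ * s₀⁻¹) := by rw [h3]
      _ = (n * s₀ * n⁻¹) * s₀⁻¹ := by group
  have h5 : n * n ∈ (S : Subgroup (SpecialLinearGroup (Fin 2) F)) := by
    rw [h4]
    exact Subgroup.mul_mem _ h1 (Subgroup.inv_mem _ hs₀)
  have h6 := mem_torusTwo_of_mem_sylow h2 x hx S (n * n) h5 (Subgroup.mul_mem _ hnT hnT)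
  rw [mem_torusTwo] at h6 ⊢
  obtain ⟨_, k, hk⟩ := h6
  refine ⟨hnT, k + 1, ?_⟩
  rw [pow_succ', pow_mul, pow_two]
  exact hk

/-- `N(T) ∩ N(S) ≤ S` -/
theorem mem_sylow_of_mem_normalizer (h2 : (2 : F) ≠ 0)
    (x : SpecialLinearGroup (Fin 2) F) (hx : x * x = -1)
    (S : Sylow 2 (SpecialLinearGroup (Fin 2) F))
    (hS : ∀ s ∈ (S : Subgroup (SpecialLinearGroup (Fin 2) F)), s * x * s⁻¹ = x ∨ s * x * s⁻¹ = x⁻¹)
    (s₀ : SpecialLinearGroup (Fin 2) F) (hs₀ : s₀ ∈ (S : Subgroup (SpecialLinearGroup (Fin 2) F)))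
    (hinv : s₀ * x * s₀⁻¹ = x⁻¹) (n : SpecialLinearGroup (Fin 2) F)
    (hn : n * x * n⁻¹ = x ∨ n * x * n⁻¹ = x⁻¹)
    (hnS : n ∈ Subgroup.normalizer ((S : Subgroup (SpecialLinearGroup (Fin 2) F)) : Set (SpecialLinearGroup (Fin 2) F))) :
    n ∈ (S : Subgroup (SpecialLinearGroup (Fin 2) F)) := by
  have hRS := torusTwo_le_sylow h2 x hx S hS
  rcases hn with h | h
  · exact hRS (mem_torusTwo_of_mem_normalizer h2 x hx S s₀ hs₀ hinv n ((mem_centralizer_iff_conj_eq x n).2 h) hnS)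
  · have h1 : n * s₀⁻¹ ∈ Subgroup.centralizer ({x} : Set (SpecialLinearGroup (Fin 2) F)) := by
      rw [mem_centralizer_iff_conj_eq]
      have e : s₀⁻¹ * x * s₀ = x⁻¹ := by
        have : x = s₀⁻¹ * x⁻¹ * s₀ := by rw [← hinv]; group
        calc s₀⁻¹ * x * s₀ = (s₀⁻¹ * x⁻¹ * s₀)⁻¹ := by group
          _ = x⁻¹ := by rw [← this]
      calc n * s₀⁻¹ * x * (n * s₀⁻¹)⁻¹ = n * (s₀⁻¹ * x * s₀) * n⁻¹ := by group
        _ = n * x⁻¹ * n⁻¹ := by rw [e]
        _ = (n * x * n⁻¹)⁻¹ := by group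
        _ = x := by rw [h, inv_inv]
    have h2' : n * s₀⁻¹ ∈ Subgroup.normalizer ((S : Subgroup (SpecialLinearGroup (Fin 2) F)) : Set (SpecialLinearGroup (Fin 2) F)) :=
      Subgroup.mul_mem _ hnS (Subgroup.inv_mem _ (Subgroup.le_normalizer hs₀))
    have h3 := hRS (mem_torusTwo_of_mem_normalizer h2 x hx S s₀ hs₀ hinv _ h1 h2')
    have : n = (n * s₀⁻¹) * s₀ := by group
    rw [this]
    exact Subgroup.mul_mem _ h3 hs₀

variable [Fintype F]

theorem exists_inverting_mem_sylow (hodd : Odd (Fintype.card F)) (h2 : (2 : F) ≠ 0)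
    (x : SpecialLinearGroup (Fin 2) F) (hx : x * x = -1)
    (S : Sylow 2 (SpecialLinearGroup (Fin 2) F))
    (hS : ∀ s ∈ (S : Subgroup (SpecialLinearGroup (Fin 2) F)), s * x * s⁻¹ = x ∨ s * x * s⁻¹ = x⁻¹) :
    ∃ s₀ ∈ (S : Subgroup (SpecialLinearGroup (Fin 2) F)), s₀ * x * s₀⁻¹ = x⁻¹ := by
  by_contra hcon
  push Not at hcon
  have hle : (S : Subgroup (SpecialLinearGroup (Fin 2) F)) ≤
      Subgroup.centralizer ({x} : Set (SpecialLinearGroup (Fin 2) F)) := by
    intro s hs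
    rw [mem_centralizer_iff_conj_eq]
    exact (hS s hs).resolve_right (hcon s hs)
  obtain ⟨r, hr, hG⟩ := card_SL2_factor hodd h2 x hx
  have h1 := Subgroup.card_mul_index (Subgroup.centralizer ({x} : Set (SpecialLinearGroup (Fin 2) F)))
  have hpos : 0 < Nat.card (Subgroup.centralizer ({x} : Set (SpecialLinearGroup (Fin 2) F))) := Nat.card_pos
  have hidx : (Subgroup.centralizer ({x} : Set (SpecialLinearGroup (Fin 2) F))).index = 2 * r := by
    apply Nat.eq_of_mul_eq_mul_left hpos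
    rw [h1, hG]
    ring
  have hdvd := Subgroup.index_dvd_of_le hle
  rw [hidx] at hdvd
  exact S.not_dvd_index (dvd_trans (dvd_mul_right 2 r) hdvd)

/-- the centralizer of a Sylow `2`-subgroup of `SL₂(q)` is the centre -/
theorem centralizer_sylow_two (hodd : Odd (Fintype.card F)) (h2 : (2 : F) ≠ 0)
    (S : Sylow 2 (SpecialLinearGroup (Fin 2) F)) :
    Subgroup.centralizer ((S : Subgroup (SpecialLinearGroup (Fin 2) F)) : Set (SpecialLinearGroup (Fin 2) F)) =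
      Subgroup.center (SpecialLinearGroup (Fin 2) F) := by
  obtain ⟨x, hx, hS⟩ := exists_sq_normalized hodd h2 S
  obtain ⟨s₀, hs₀, hinv⟩ := exists_inverting_mem_sylow hodd h2 x hx S hS
  have hns := not_isScalar2_of_sq h2 x hx
  apply le_antisymm
  · intro g hg
    rw [Subgroup.mem_centralizer_iff] at hg
    have hxS : x ∈ (S : Subgroup (SpecialLinearGroup (Fin 2) F)) :=
      torusTwo_le_sylow h2 x hx S hS (self_mem_torusTwo h2 x hx)
    have hgT : g ∈ Subgroup.centralizer ({x} : Set (SpecialLinearGroup (Fin 2) F)) := by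
      rw [Subgroup.mem_centralizer_singleton_iff]
      exact (hg x hxS).symm
    have h1 := inverting_torus x hns s₀ hinv g hgT
    have h3 : s₀ * g * s₀⁻¹ = g := by
      rw [hg s₀ hs₀, mul_assoc, mul_inv_cancel, mul_one]
    have h4 : g * g = 1 := by
      have : g = g⁻¹ := by rw [← h1, h3]
      calc g * g = g * g⁻¹ := by rw [← this]
        _ = 1 := mul_inv_cancel g
    exact mem_center_of_mul_self h2 g h4
  · exact Subgroup.center_le_centralizer _

end syl2b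

end Cfsg.Agent.Lib.Helper15
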