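import Mathlib
import Cfsg.Agent.Lib.Helper15.Syl2B
set_option autoImplicit false
namespace Cfsg.Agent.Lib.Helper15

open Matrix
open Cfsg.Agent.Lib.Helper14

section syl2c
variable {F : Type*} [Field F]

theorem eq_neg_one_of_coe (z : SpecialLinearGroup (Fin 2) F)
    (h : (z : Matrix (Fin 2) (Fin 2) F) = -1) : z = -1 := by
  apply Subtype.ext
  rw [h, Matrix.SpecialLinearGroup.coe_neg, Matrix.SpecialLinearGroup.coe_one]

theorem pow_four_eq (z : SpecialLinearGroup (Fin 2) F) : z ^ 4 = (z * z) * (z * z) := by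
  rw [show (4 : ℕ) = 2 + 2 from rfl, pow_add, pow_two]

variable [Fintype F]

theorem exists_order_eight (h2 : (2 : F) ≠ 0) (x : SpecialLinearGroup (Fin 2) F) (hx : x * x = -1)
    (h8 : 8 ∣ Nat.card (Subgroup.centralizer ({x} : Set (SpecialLinearGroup (Fin 2) F)))) :
    ∃ y ∈ Subgroup.centralizer ({x} : Set (SpecialLinearGroup (Fin 2) F)), y ^ 8 = 1 ∧ y ^ 4 ≠ 1 := by
  have hns := not_isScalar2_of_sq h2 x hx
  have ht := trace_sq_ne_four_of_sq h2 x hx
  have := isCyclic_torus h2 x hns ht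
  obtain ⟨g, hg⟩ := IsCyclic.exists_generator (α := Subgroup.centralizer ({x} : Set (SpecialLinearGroup (Fin 2) F)))
  have hord : orderOf g = Nat.card (Subgroup.centralizer ({x} : Set (SpecialLinearGroup (Fin 2) F))) :=
    orderOf_eq_card_of_forall_mem_zpowers hg
  obtain ⟨m, hm⟩ := h8
  have hpos : 0 < Nat.card (Subgroup.centralizer ({x} : Set (SpecialLinearGroup (Fin 2) F))) := Nat.card_pos
  have hm0 : 0 < m := by
    rcases Nat.eq_zero_or_pos m with h | h
    · rw [h] at hm; omega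
    · exact h
  refine ⟨((g ^ m : Subgroup.centralizer ({x} : Set (SpecialLinearGroup (Fin 2) F))) : SpecialLinearGroup (Fin 2) F),
    (g ^ m).2, ?_, ?_⟩
  · rw [← Subgroup.coe_pow, ← pow_mul, mul_comm, ← hm, ← hord, pow_orderOf_eq_one, Subgroup.coe_one]
  · rw [← Subgroup.coe_pow, ← pow_mul]
    intro h
    have h' : g ^ (m * 4) = 1 := Subtype.ext (by rw [h, Subgroup.coe_one])
    have := pow_ne_one_of_lt_orderOf (x := g) (n := m * 4) (by omega) (by rw [hord, hm]; omega)
    exact this h'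

/-- `N(S) = S` when `8 ∣ |T|` -/
theorem normalizer_sylow_two_of_eight (hodd : Odd (Fintype.card F)) (h2 : (2 : F) ≠ 0)
    (S : Sylow 2 (SpecialLinearGroup (Fin 2) F))
    (hq : Fintype.card F % 8 = 1 ∨ Fintype.card F % 8 = 7) :
    Subgroup.normalizer ((S : Subgroup (SpecialLinearGroup (Fin 2) F)) : Set (SpecialLinearGroup (Fin 2) F)) =
      (S : Subgroup (SpecialLinearGroup (Fin 2) F)) := by
  obtain ⟨x, hx, hS⟩ := exists_sq_normalized hodd h2 S
  obtain ⟨s₀, hs₀, hinv⟩ := exists_inverting_mem_sylow hodd h2 x hx S hS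
  have hns := not_isScalar2_of_sq h2 x hx
  have ht := trace_sq_ne_four_of_sq h2 x hx
  have h8 : 8 ∣ Nat.card (Subgroup.centralizer ({x} : Set (SpecialLinearGroup (Fin 2) F))) := by
    obtain ⟨h1, h3⟩ := card_torus_of_sq h2 x hx
    have hq2 : 2 ≤ Fintype.card F := Fintype.one_lt_card
    rcases hq with hq | hq
    · rw [h1 (by omega)]; omega
    · rw [h3 (by omega)]; omega
  obtain ⟨y, hyT, hy8, hy4⟩ := exists_order_eight h2 x hx h8
  have hyR : y ∈ torusTwo h2 x hx := by
    rw [mem_torusTwo]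
    exact ⟨hyT, 3, hy8⟩
  have hyS := torusTwo_le_sylow h2 x hx S hS hyR
  apply le_antisymm
  · intro n hn
    have hzS : n * y * n⁻¹ ∈ (S : Subgroup (SpecialLinearGroup (Fin 2) F)) :=
      (Subgroup.mem_normalizer_iff.1 hn y).1 hyS
    have hz4 : (n * y * n⁻¹) ^ 4 ≠ 1 := by
      rw [conj_pow]
      intro h
      apply hy4
      have : y ^ 4 = n⁻¹ * (n * y ^ 4 * n⁻¹) * n := by group
      rw [this, h, mul_one, inv_mul_cancel]
    have hzT : n * y * n⁻¹ ∈ Subgroup.centralizer ({x} : Set (SpecialLinearGroup (Fin 2) F)) := by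
      rcases hS _ hzS with h | h
      · exact (mem_centralizer_iff_conj_eq x _).2 h
      · exfalso
        apply hz4
        have := eq_neg_one_of_coe _ (inverting_sq x hns _ h)
        rw [pow_four_eq, this, neg_mul_neg, one_mul]
    have hzns : ¬ IsScalar2 ((n * y * n⁻¹ : SpecialLinearGroup (Fin 2) F) : Matrix (Fin 2) (Fin 2) F) := by
      intro hs
      apply hz4
      have := center_mul_self _ (isScalar2_mem_center _ hs)
      rw [pow_four_eq, this, one_mul]
    have hC := centralizer_eq_of_mem x hns _ hzT hzns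
    have hxz : n * x * n⁻¹ ∈ Subgroup.centralizer ({x} : Set (SpecialLinearGroup (Fin 2) F)) := by
      rw [← hC, Subgroup.mem_centralizer_singleton_iff]
      have hxy : y * x = x * y := Subgroup.mem_centralizer_singleton_iff.1 hyT
      calc n * x * n⁻¹ * (n * y * n⁻¹) = n * (x * y) * n⁻¹ := by group
        _ = n * (y * x) * n⁻¹ := by rw [hxy]
        _ = n * y * n⁻¹ * (n * x * n⁻¹) := by group
    have hcases := trace_eq_cases h2 x hns ht _ hxz (trace_conj_eq n x)
    exact mem_sylow_of_mem_normalizer h2 x hx S hS s₀ hs₀ hinv n hcases hn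
  · exact Subgroup.le_normalizer

omit [Fintype F] in
/-- the `2`-part of the torus when `|T| ≡ 4 mod 8` -/
theorem torusTwo_cases (h2 : (2 : F) ≠ 0) (x : SpecialLinearGroup (Fin 2) F) (hx : x * x = -1)
    (h4 : Nat.card (Subgroup.centralizer ({x} : Set (SpecialLinearGroup (Fin 2) F))) % 8 = 4)
    (t : SpecialLinearGroup (Fin 2) F) (ht : t ∈ torusTwo h2 x hx) :
    t = 1 ∨ t = -1 ∨ t = x ∨ t = x⁻¹ := by
  have hns := not_isScalar2_of_sq h2 x hx
  have htr := trace_sq_ne_four_of_sq h2 x hx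
  obtain ⟨htT, k, hk⟩ := ht
  have h1 : orderOf t ∣ 2 ^ k := orderOf_dvd_of_pow_eq_one hk
  obtain ⟨j, hj, hoj⟩ := (Nat.dvd_prime_pow Nat.prime_two).1 h1
  have h3 : orderOf t ∣ Nat.card (Subgroup.centralizer ({x} : Set (SpecialLinearGroup (Fin 2) F))) := by
    have := orderOf_dvd_natCard (⟨t, htT⟩ : Subgroup.centralizer ({x} : Set (SpecialLinearGroup (Fin 2) F)))
    rwa [Subgroup.orderOf_mk] at this
  have hj2 : j ≤ 2 := by
    by_contra hcon
    push Not at hcon
    have : 8 ∣ orderOf t := by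
      rw [hoj]
      exact pow_dvd_pow 2 hcon
    have := dvd_trans this h3
    omega
  have ht4 : t ^ 4 = 1 := by
    apply orderOf_dvd_iff_pow_eq_one.1
    rw [hoj]
    exact pow_dvd_pow 2 hj2
  rw [pow_four_eq] at ht4
  rcases eq_one_or_neg_one_of_mul_self h2 (t * t) ht4 with h | h
  · rcases eq_one_or_neg_one_of_mul_self h2 t h with h' | h'
    · exact Or.inl h'
    · exact Or.inr (Or.inl h')
  · have e : (t : Matrix (Fin 2) (Fin 2) F).trace = (x : Matrix (Fin 2) (Fin 2) F).trace := by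
      rw [trace_eq_zero_of_sq t h, trace_eq_zero_of_sq x hx]
    rcases trace_eq_cases h2 x hns htr t htT e with h' | h'
    · exact Or.inr (Or.inr (Or.inl h'))
    · exact Or.inr (Or.inr (Or.inr h'))

end syl2c

end Cfsg.Agent.Lib.Helper15
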