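import Mathlib
import Cfsg.Agent.Lib.Helper15.Syl2C
set_option autoImplicit false
namespace Cfsg.Agent.Lib.Helper15

open Matrix
open Cfsg.Agent.Lib.Helper14

section syl2d
variable {F : Type*} [Field F]

/-- the matrix `(1 + X)(1 + J) / 2` -/
def omegaMat (X J : Matrix (Fin 2) (Fin 2) F) : Matrix (Fin 2) (Fin 2) F :=
  (2 : F)⁻¹ • ((1 + X) * (1 + J))

theorem det_one_add_of_trace_zero (X : Matrix (Fin 2) (Fin 2) F) (htr : X.trace = 0) (hdet : X.det = 1) :
    (1 + X).det = 2 := by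
  rw [Matrix.det_fin_two] at hdet ⊢
  rw [Matrix.trace_fin_two] at htr
  simp only [Matrix.add_apply, Matrix.one_apply_eq, Matrix.one_apply_ne, ne_eq, zero_ne_one, one_ne_zero,
    not_false_eq_true, zero_add]
  linear_combination htr + hdet

theorem det_omegaMat (h2 : (2 : F) ≠ 0) (X J : Matrix (Fin 2) (Fin 2) F) (hX : X.trace = 0) (hXd : X.det = 1)
    (hJ : J.trace = 0) (hJd : J.det = 1) : (omegaMat X J).det = 1 := by
  rw [omegaMat, Matrix.det_smul, Matrix.det_mul, det_one_add_of_trace_zero X hX hXd,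
    det_one_add_of_trace_zero J hJ hJd, Fintype.card_fin]
  field_simp

theorem omegaMat_mul_X (X J : Matrix (Fin 2) (Fin 2) F) (h1 : X * X = -1) (h2 : J * J = -1)
    (h3 : J * X = -(X * J)) : omegaMat X J * X = J * omegaMat X J := by
  rw [omegaMat, Matrix.smul_mul, Matrix.mul_smul]
  congr 1
  linear_combination (norm := noncomm_ring) h1 - h2 + X * h3 - h1 * J - h3 * J + X * h2

theorem omegaMat_mul_J (X J : Matrix (Fin 2) (Fin 2) F) (h1 : X * X = -1)
    (h3 : J * X = -(X * J)) : omegaMat X J * J = X * J * omegaMat X J := by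
  rw [omegaMat, Matrix.smul_mul, Matrix.mul_smul]
  congr 1
  linear_combination (norm := noncomm_ring) -X * h3 + h1 * J - X * h3 * J + h1 * J * J

/-- the element `(1 + x)(1 + s) / 2` of `SL₂` -/
def omegaSL (h2 : (2 : F) ≠ 0) (x s : SpecialLinearGroup (Fin 2) F) (hx : x * x = -1) (hs : s * s = -1) :
    SpecialLinearGroup (Fin 2) F :=
  ⟨omegaMat (x : Matrix (Fin 2) (Fin 2) F) (s : Matrix (Fin 2) (Fin 2) F),
    det_omegaMat h2 _ _ (trace_eq_zero_of_sq x hx) x.det_coe (trace_eq_zero_of_sq s hs) s.det_coe⟩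

theorem coe_sq_of_sq (x : SpecialLinearGroup (Fin 2) F) (hx : x * x = -1) :
    (x : Matrix (Fin 2) (Fin 2) F) * (x : Matrix (Fin 2) (Fin 2) F) = -1 := by
  have := congrArg Subtype.val hx
  rw [Matrix.SpecialLinearGroup.coe_mul, Matrix.SpecialLinearGroup.coe_neg, Matrix.SpecialLinearGroup.coe_one] at this
  exact this

theorem coe_anticomm (x s : SpecialLinearGroup (Fin 2) F) (hx : x * x = -1) (hinv : s * x * s⁻¹ = x⁻¹) :
    (s : Matrix (Fin 2) (Fin 2) F) * (x : Matrix (Fin 2) (Fin 2) F) =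
      -((x : Matrix (Fin 2) (Fin 2) F) * (s : Matrix (Fin 2) (Fin 2) F)) := by
  have h1 : s * x = -(x * s) := by
    have : s * x = x⁻¹ * s := by rw [← hinv]; group
    rw [this, inv_eq_neg_of_sq x hx, neg_mul]
  have := congrArg Subtype.val h1
  rw [Matrix.SpecialLinearGroup.coe_mul, Matrix.SpecialLinearGroup.coe_neg, Matrix.SpecialLinearGroup.coe_mul] at this
  exact this

theorem omegaSL_conj_x (h2 : (2 : F) ≠ 0) (x s : SpecialLinearGroup (Fin 2) F) (hx : x * x = -1) (hs : s * s = -1)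
    (hinv : s * x * s⁻¹ = x⁻¹) : omegaSL h2 x s hx hs * x * (omegaSL h2 x s hx hs)⁻¹ = s := by
  have h : omegaSL h2 x s hx hs * x = s * omegaSL h2 x s hx hs := by
    apply Subtype.ext
    rw [Matrix.SpecialLinearGroup.coe_mul, Matrix.SpecialLinearGroup.coe_mul]
    exact omegaMat_mul_X _ _ (coe_sq_of_sq x hx) (coe_sq_of_sq s hs) (coe_anticomm x s hx hinv)
  rw [h, mul_assoc, mul_inv_cancel, mul_one]

theorem omegaSL_conj_s (h2 : (2 : F) ≠ 0) (x s : SpecialLinearGroup (Fin 2) F) (hx : x * x = -1) (hs : s * s = -1)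
    (hinv : s * x * s⁻¹ = x⁻¹) : omegaSL h2 x s hx hs * s * (omegaSL h2 x s hx hs)⁻¹ = x * s := by
  have h : omegaSL h2 x s hx hs * s = x * s * omegaSL h2 x s hx hs := by
    apply Subtype.ext
    rw [Matrix.SpecialLinearGroup.coe_mul, Matrix.SpecialLinearGroup.coe_mul, Matrix.SpecialLinearGroup.coe_mul]
    exact omegaMat_mul_J _ _ (coe_sq_of_sq x hx) (coe_anticomm x s hx hinv)
  rw [h, mul_assoc, mul_inv_cancel, mul_one]

/-- the elements of `S` in the case `|T| ≡ 4 mod 8` -/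
theorem sylow_cases (h2 : (2 : F) ≠ 0) (x : SpecialLinearGroup (Fin 2) F) (hx : x * x = -1)
    (S : Sylow 2 (SpecialLinearGroup (Fin 2) F))
    (hS : ∀ s ∈ (S : Subgroup (SpecialLinearGroup (Fin 2) F)), s * x * s⁻¹ = x ∨ s * x * s⁻¹ = x⁻¹)
    (s₀ : SpecialLinearGroup (Fin 2) F) (hinv : s₀ * x * s₀⁻¹ = x⁻¹)
    (hs₀ : s₀ ∈ (S : Subgroup (SpecialLinearGroup (Fin 2) F)))
    (h4 : Nat.card (Subgroup.centralizer ({x} : Set (SpecialLinearGroup (Fin 2) F))) % 8 = 4)
    (s : SpecialLinearGroup (Fin 2) F) (hs : s ∈ (S : Subgroup (SpecialLinearGroup (Fin 2) F))) :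
    (s = 1 ∨ s = -1 ∨ s = x ∨ s = x⁻¹) ∨ (s = s₀ ∨ s = -s₀ ∨ s = x * s₀ ∨ s = x⁻¹ * s₀) := by
  rcases hS s hs with h | h
  · left
    exact torusTwo_cases h2 x hx h4 s
      (mem_torusTwo_of_mem_sylow h2 x hx S s hs ((mem_centralizer_iff_conj_eq x s).2 h))
  · right
    have h1 : s * s₀⁻¹ ∈ Subgroup.centralizer ({x} : Set (SpecialLinearGroup (Fin 2) F)) := by
      rw [mem_centralizer_iff_conj_eq]
      have e : s₀⁻¹ * x * s₀ = x⁻¹ := by
        have : x = s₀⁻¹ * x⁻¹ * s₀ := by rw [← hinv]; group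
        calc s₀⁻¹ * x * s₀ = (s₀⁻¹ * x⁻¹ * s₀)⁻¹ := by group
          _ = x⁻¹ := by rw [← this]
      calc s * s₀⁻¹ * x * (s * s₀⁻¹)⁻¹ = s * (s₀⁻¹ * x * s₀) * s⁻¹ := by group
        _ = s * x⁻¹ * s⁻¹ := by rw [e]
        _ = (s * x * s⁻¹)⁻¹ := by group
        _ = x := by rw [h, inv_inv]
    have h3 := torusTwo_cases h2 x hx h4 _
      (mem_torusTwo_of_mem_sylow h2 x hx S _ (Subgroup.mul_mem _ hs (Subgroup.inv_mem _ hs₀)) h1)
    have e : s = (s * s₀⁻¹) * s₀ := by group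
    rcases h3 with h' | h' | h' | h'
    · left; rw [e, h', one_mul]
    · right; left; rw [e, h', neg_mul, one_mul]
    · right; right; left; rw [e, h']
    · right; right; right; rw [e, h']

end syl2d

end Cfsg.Agent.Lib.Helper15
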