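import Mathlib
import Cfsg.Agent.Lib.Helper15.Syl2D
set_option autoImplicit false
namespace Cfsg.Agent.Lib.Helper15

open Matrix
open Cfsg.Agent.Lib.Helper14

section syl2e
variable {F : Type*} [Field F]

theorem sylow_sq_cases (h2 : (2 : F) ≠ 0) (x : SpecialLinearGroup (Fin 2) F) (hx : x * x = -1)
    (S : Sylow 2 (SpecialLinearGroup (Fin 2) F))
    (hS : ∀ s ∈ (S : Subgroup (SpecialLinearGroup (Fin 2) F)), s * x * s⁻¹ = x ∨ s * x * s⁻¹ = x⁻¹)
    (s₀ : SpecialLinearGroup (Fin 2) F) (hinv : s₀ * x * s₀⁻¹ = x⁻¹)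
    (hs₀ : s₀ ∈ (S : Subgroup (SpecialLinearGroup (Fin 2) F)))
    (h4 : Nat.card (Subgroup.centralizer ({x} : Set (SpecialLinearGroup (Fin 2) F))) % 8 = 4)
    (y : SpecialLinearGroup (Fin 2) F) (hy : y ∈ (S : Subgroup (SpecialLinearGroup (Fin 2) F)))
    (hyy : y * y = -1) :
    y = x ∨ y = x⁻¹ ∨ y = s₀ ∨ y = -s₀ ∨ y = x * s₀ ∨ y = x⁻¹ * s₀ := by
  rcases sylow_cases h2 x hx S hS s₀ hinv hs₀ h4 y hy with (h | h | h | h) | (h | h | h | h)
  · exfalso
    rw [h, one_mul] at hyy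
    exact one_ne_neg_one_SL2 h2 hyy
  · exfalso
    rw [h, neg_mul_neg, one_mul] at hyy
    exact one_ne_neg_one_SL2 h2 hyy
  · exact Or.inl h
  · exact Or.inr (Or.inl h)
  · exact Or.inr (Or.inr (Or.inl h))
  · exact Or.inr (Or.inr (Or.inr (Or.inl h)))
  · exact Or.inr (Or.inr (Or.inr (Or.inr (Or.inl h))))
  · exact Or.inr (Or.inr (Or.inr (Or.inr (Or.inr h))))

variable [Fintype F]

/-- `|G| = 8 · odd` when `|T| ≡ 4 mod 8` -/
theorem card_SL2_eight (hodd : Odd (Fintype.card F)) (h2 : (2 : F) ≠ 0)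
    (x : SpecialLinearGroup (Fin 2) F) (hx : x * x = -1)
    (h4 : Nat.card (Subgroup.centralizer ({x} : Set (SpecialLinearGroup (Fin 2) F))) % 8 = 4) :
    ∃ m : ℕ, Odd m ∧ Nat.card (SpecialLinearGroup (Fin 2) F) = 2 ^ 3 * m := by
  obtain ⟨r, hr, hG⟩ := card_SL2_factor hodd h2 x hx
  obtain ⟨a, ha⟩ : ∃ a, Nat.card (Subgroup.centralizer ({x} : Set (SpecialLinearGroup (Fin 2) F))) = 8 * a + 4 :=
    ⟨Nat.card (Subgroup.centralizer ({x} : Set (SpecialLinearGroup (Fin 2) F))) / 8, by omega⟩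
  refine ⟨(2 * a + 1) * r, Nat.odd_mul.2 ⟨⟨a, rfl⟩, hr⟩, ?_⟩
  rw [hG, ha]
  ring

theorem card_sylow_eight (hodd : Odd (Fintype.card F)) (h2 : (2 : F) ≠ 0)
    (x : SpecialLinearGroup (Fin 2) F) (hx : x * x = -1)
    (h4 : Nat.card (Subgroup.centralizer ({x} : Set (SpecialLinearGroup (Fin 2) F))) % 8 = 4)
    (S : Sylow 2 (SpecialLinearGroup (Fin 2) F)) : Nat.card S = 8 := by
  obtain ⟨m, hm, hG⟩ := card_SL2_eight hodd h2 x hx h4
  have hm0 : m ≠ 0 := by
    rintro rfl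
    exact (Nat.not_odd_iff_even.2 (by decide : Even 0)) hm
  have hm2 : ¬ 2 ∣ m := by
    rw [Nat.odd_iff] at hm
    omega
  rw [S.card_eq_multiplicity, hG, Nat.factorization_mul (by positivity) hm0, Finsupp.add_apply,
    Nat.Prime.factorization_pow Nat.prime_two, Nat.factorization_eq_zero_of_not_dvd hm2]
  simp

theorem not_sixteen_dvd (hodd : Odd (Fintype.card F)) (h2 : (2 : F) ≠ 0)
    (x : SpecialLinearGroup (Fin 2) F) (hx : x * x = -1)
    (h4 : Nat.card (Subgroup.centralizer ({x} : Set (SpecialLinearGroup (Fin 2) F))) % 8 = 4) :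
    ¬ 16 ∣ Nat.card (SpecialLinearGroup (Fin 2) F) := by
  obtain ⟨m, hm, hG⟩ := card_SL2_eight hodd h2 x hx h4
  rw [hG, Nat.odd_iff] at *
  omega

omit [Fintype F] in
theorem s0_sq (h2 : (2 : F) ≠ 0) (x : SpecialLinearGroup (Fin 2) F) (hx : x * x = -1)
    (s₀ : SpecialLinearGroup (Fin 2) F) (hinv : s₀ * x * s₀⁻¹ = x⁻¹) : s₀ * s₀ = -1 :=
  eq_neg_one_of_coe _ (inverting_sq x (not_isScalar2_of_sq h2 x hx) s₀ hinv)

/-- the element `ω` normalizes `S` -/
theorem omega_mem_normalizer (h2 : (2 : F) ≠ 0) (x : SpecialLinearGroup (Fin 2) F) (hx : x * x = -1)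
    (S : Sylow 2 (SpecialLinearGroup (Fin 2) F))
    (hS : ∀ s ∈ (S : Subgroup (SpecialLinearGroup (Fin 2) F)), s * x * s⁻¹ = x ∨ s * x * s⁻¹ = x⁻¹)
    (s₀ : SpecialLinearGroup (Fin 2) F) (hinv : s₀ * x * s₀⁻¹ = x⁻¹)
    (hs₀ : s₀ ∈ (S : Subgroup (SpecialLinearGroup (Fin 2) F)))
    (h4 : Nat.card (Subgroup.centralizer ({x} : Set (SpecialLinearGroup (Fin 2) F))) % 8 = 4) :
    omegaSL h2 x s₀ hx (s0_sq h2 x hx s₀ hinv) ∈
      Subgroup.normalizer ((S : Subgroup (SpecialLinearGroup (Fin 2) F)) : Set (SpecialLinearGroup (Fin 2) F)) := by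
  set ω := omegaSL h2 x s₀ hx (s0_sq h2 x hx s₀ hinv) with hω
  have hcx : ω * x * ω⁻¹ = s₀ := omegaSL_conj_x h2 x s₀ hx _ hinv
  have hcs : ω * s₀ * ω⁻¹ = x * s₀ := omegaSL_conj_s h2 x s₀ hx _ hinv
  have hxS : x ∈ (S : Subgroup (SpecialLinearGroup (Fin 2) F)) :=
    torusTwo_le_sylow h2 x hx S hS (self_mem_torusTwo h2 x hx)
  have hm1 : (-1 : SpecialLinearGroup (Fin 2) F) ∈ (S : Subgroup (SpecialLinearGroup (Fin 2) F)) := by
    rw [← hx]; exact Subgroup.mul_mem _ hxS hxS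
  -- the conjugates of the generators lie in `S`
  have hmul : ∀ a b : SpecialLinearGroup (Fin 2) F, ω * a * ω⁻¹ ∈ (S : Subgroup (SpecialLinearGroup (Fin 2) F)) →
      ω * b * ω⁻¹ ∈ (S : Subgroup (SpecialLinearGroup (Fin 2) F)) →
      ω * (a * b) * ω⁻¹ ∈ (S : Subgroup (SpecialLinearGroup (Fin 2) F)) := by
    intro a b ha hb
    have : ω * (a * b) * ω⁻¹ = (ω * a * ω⁻¹) * (ω * b * ω⁻¹) := by group
    rw [this]
    exact Subgroup.mul_mem _ ha hb
  have hinvm : ∀ a : SpecialLinearGroup (Fin 2) F, ω * a * ω⁻¹ ∈ (S : Subgroup (SpecialLinearGroup (Fin 2) F)) →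
      ω * a⁻¹ * ω⁻¹ ∈ (S : Subgroup (SpecialLinearGroup (Fin 2) F)) := by
    intro a ha
    have : ω * a⁻¹ * ω⁻¹ = (ω * a * ω⁻¹)⁻¹ := by group
    rw [this]
    exact Subgroup.inv_mem _ ha
  have hPx : ω * x * ω⁻¹ ∈ (S : Subgroup (SpecialLinearGroup (Fin 2) F)) := by rw [hcx]; exact hs₀
  have hPs : ω * s₀ * ω⁻¹ ∈ (S : Subgroup (SpecialLinearGroup (Fin 2) F)) := by
    rw [hcs]; exact Subgroup.mul_mem _ hxS hs₀
  have hP1 : ω * 1 * ω⁻¹ ∈ (S : Subgroup (SpecialLinearGroup (Fin 2) F)) := by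
    rw [mul_one, mul_inv_cancel]; exact Subgroup.one_mem _
  have hPm : ω * (-1) * ω⁻¹ ∈ (S : Subgroup (SpecialLinearGroup (Fin 2) F)) := by
    rw [conj_neg_one]; exact hm1
  have hle : (S : Subgroup (SpecialLinearGroup (Fin 2) F)).map (MulAut.conj ω).toMonoidHom ≤
      (S : Subgroup (SpecialLinearGroup (Fin 2) F)) := by
    rintro _ ⟨s, hs, rfl⟩
    show ω * s * ω⁻¹ ∈ (S : Subgroup (SpecialLinearGroup (Fin 2) F))
    rcases sylow_cases h2 x hx S hS s₀ hinv hs₀ h4 s hs with (h | h | h | h) | (h | h | h | h)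
    · rw [h]; exact hP1
    · rw [h]; exact hPm
    · rw [h]; exact hPx
    · rw [h]; exact hinvm x hPx
    · rw [h]; exact hPs
    · rw [h, show -s₀ = (-1) * s₀ by rw [neg_mul, one_mul]]; exact hmul _ _ hPm hPs
    · rw [h]; exact hmul _ _ hPx hPs
    · rw [h]; exact hmul _ _ (hinvm x hPx) hPs
  rw [Subgroup.mem_normalizer_iff_map_conj_eq]
  apply Subgroup.eq_of_le_of_card_ge hle
  rw [Subgroup.card_map_of_injective (MulAut.conj ω).injective]

omit [Fintype F] in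
theorem omega_not_mem (h2 : (2 : F) ≠ 0) (x : SpecialLinearGroup (Fin 2) F) (hx : x * x = -1)
    (S : Sylow 2 (SpecialLinearGroup (Fin 2) F))
    (hS : ∀ s ∈ (S : Subgroup (SpecialLinearGroup (Fin 2) F)), s * x * s⁻¹ = x ∨ s * x * s⁻¹ = x⁻¹)
    (s₀ : SpecialLinearGroup (Fin 2) F) (hinv : s₀ * x * s₀⁻¹ = x⁻¹) :
    omegaSL h2 x s₀ hx (s0_sq h2 x hx s₀ hinv) ∉ (S : Subgroup (SpecialLinearGroup (Fin 2) F)) := by
  intro hmem
  have hcx := omegaSL_conj_x h2 x s₀ hx (s0_sq h2 x hx s₀ hinv) hinv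
  have hne := ne_inv_of_not_scalar h2 x (not_isScalar2_of_sq h2 x hx)
  have hs₀T : s₀ ∈ Subgroup.centralizer ({x} : Set (SpecialLinearGroup (Fin 2) F)) := by
    rcases hS _ hmem with h | h
    · rw [hcx] at h; rw [h]; exact self_mem_centralizer x
    · rw [hcx] at h; rw [h]; exact Subgroup.inv_mem _ (self_mem_centralizer x)
  rw [mem_centralizer_iff_conj_eq, hinv] at hs₀T
  exact hne hs₀T.symm

/-- `|N(S)| ≤ 24` -/
theorem card_normalizer_le (h2 : (2 : F) ≠ 0) (x : SpecialLinearGroup (Fin 2) F) (hx : x * x = -1)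
    (S : Sylow 2 (SpecialLinearGroup (Fin 2) F))
    (hS : ∀ s ∈ (S : Subgroup (SpecialLinearGroup (Fin 2) F)), s * x * s⁻¹ = x ∨ s * x * s⁻¹ = x⁻¹)
    (s₀ : SpecialLinearGroup (Fin 2) F) (hinv : s₀ * x * s₀⁻¹ = x⁻¹)
    (hs₀ : s₀ ∈ (S : Subgroup (SpecialLinearGroup (Fin 2) F)))
    (h4 : Nat.card (Subgroup.centralizer ({x} : Set (SpecialLinearGroup (Fin 2) F))) % 8 = 4) :
    Nat.card (Subgroup.normalizer ((S : Subgroup (SpecialLinearGroup (Fin 2) F)) :
      Set (SpecialLinearGroup (Fin 2) F))) ≤ 24 := by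
  classical
  set N := Subgroup.normalizer ((S : Subgroup (SpecialLinearGroup (Fin 2) F)) :
      Set (SpecialLinearGroup (Fin 2) F)) with hN
  haveI : Fintype N := Fintype.ofFinite N
  rw [Nat.card_eq_fintype_card, ← Finset.card_univ]
  have hxS : x ∈ (S : Subgroup (SpecialLinearGroup (Fin 2) F)) :=
    torusTwo_le_sylow h2 x hx S hS (self_mem_torusTwo h2 x hx)
  let f : N → SpecialLinearGroup (Fin 2) F := fun n => (n : SpecialLinearGroup (Fin 2) F) * x * (n : SpecialLinearGroup (Fin 2) F)⁻¹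
  have himg : (Finset.univ.image f) ⊆
      ({x, x⁻¹, s₀, -s₀, x * s₀, x⁻¹ * s₀} : Finset (SpecialLinearGroup (Fin 2) F)) := by
    intro a ha
    obtain ⟨n, -, rfl⟩ := Finset.mem_image.1 ha
    have h1 : f n ∈ (S : Subgroup (SpecialLinearGroup (Fin 2) F)) :=
      (Subgroup.mem_normalizer_iff.1 n.2 x).1 hxS
    have h3 : f n * f n = -1 := conj_sq _ x hx
    have := sylow_sq_cases h2 x hx S hS s₀ hinv hs₀ h4 (f n) h1 h3
    simp only [Finset.mem_insert, Finset.mem_singleton]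
    exact this
  have hfib : ∀ a ∈ Finset.univ.image f, (Finset.univ.filter (fun n => f n = a)).card ≤ 4 := by
    intro a ha
    obtain ⟨n₀, -, rfl⟩ := Finset.mem_image.1 ha
    have hle : (Finset.univ.filter (fun n => f n = f n₀)).card ≤
        ({1, -1, x, x⁻¹} : Finset (SpecialLinearGroup (Fin 2) F)).card := by
      apply Finset.card_le_card_of_injOn (fun n : N => (n₀ : SpecialLinearGroup (Fin 2) F)⁻¹ * (n : SpecialLinearGroup (Fin 2) F))
      · intro n hn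
        have hn' : f n = f n₀ := (Finset.mem_filter.1 hn).2
        have hT : (n₀ : SpecialLinearGroup (Fin 2) F)⁻¹ * (n : SpecialLinearGroup (Fin 2) F) ∈
            Subgroup.centralizer ({x} : Set (SpecialLinearGroup (Fin 2) F)) := by
          rw [mem_centralizer_iff_conj_eq]
          calc (n₀ : SpecialLinearGroup (Fin 2) F)⁻¹ * n * x * ((n₀ : SpecialLinearGroup (Fin 2) F)⁻¹ * n)⁻¹
              = (n₀ : SpecialLinearGroup (Fin 2) F)⁻¹ * (f n) * n₀ := by simp only [f]; group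
            _ = (n₀ : SpecialLinearGroup (Fin 2) F)⁻¹ * (f n₀) * n₀ := by rw [hn']
            _ = x := by simp only [f]; group
        have hNm : (n₀ : SpecialLinearGroup (Fin 2) F)⁻¹ * (n : SpecialLinearGroup (Fin 2) F) ∈ N :=
          Subgroup.mul_mem _ (Subgroup.inv_mem _ n₀.2) n.2
        have hR := mem_torusTwo_of_mem_normalizer h2 x hx S s₀ hs₀ hinv _ hT hNm
        have := torusTwo_cases h2 x hx h4 _ hR
        simp only [Finset.coe_insert, Finset.coe_singleton, Set.mem_insert_iff, Set.mem_singleton_iff]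
        exact this
      · intro n _ n' _ h
        apply Subtype.ext
        exact mul_left_cancel h
    exact hle.trans Finset.card_le_four
  calc (Finset.univ : Finset N).card ≤ 4 * (Finset.univ.image f).card :=
        Finset.card_le_mul_card_image _ 4 hfib
    _ ≤ 4 * 6 := by
        apply Nat.mul_le_mul_left
        exact (Finset.card_le_card himg).trans Finset.card_le_six
    _ = 24 := by norm_num

/-- `|N(S)| = 3 |S|` when `q ≡ ±3 mod 8` -/
theorem card_normalizer_sylow_two (hodd : Odd (Fintype.card F)) (h2 : (2 : F) ≠ 0)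
    (S : Sylow 2 (SpecialLinearGroup (Fin 2) F))
    (hq : Fintype.card F % 8 = 3 ∨ Fintype.card F % 8 = 5) :
    Nat.card (Subgroup.normalizer ((S : Subgroup (SpecialLinearGroup (Fin 2) F)) :
      Set (SpecialLinearGroup (Fin 2) F))) = 3 * Nat.card S := by
  obtain ⟨x, hx, hS⟩ := exists_sq_normalized hodd h2 S
  obtain ⟨s₀, hs₀, hinv⟩ := exists_inverting_mem_sylow hodd h2 x hx S hS
  have h4 : Nat.card (Subgroup.centralizer ({x} : Set (SpecialLinearGroup (Fin 2) F))) % 8 = 4 := by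
    obtain ⟨h1, h3⟩ := card_torus_of_sq h2 x hx
    have hq2 : 2 ≤ Fintype.card F := Fintype.one_lt_card
    rcases hq with hq | hq
    · rw [h3 (by omega)]; omega
    · rw [h1 (by omega)]; omega
  have hcS := card_sylow_eight hodd h2 x hx h4 S
  have hle := card_normalizer_le h2 x hx S hS s₀ hinv hs₀ h4
  have h16 := not_sixteen_dvd hodd h2 x hx h4
  have hdvd : Nat.card S ∣ Nat.card (Subgroup.normalizer ((S : Subgroup (SpecialLinearGroup (Fin 2) F)) :
      Set (SpecialLinearGroup (Fin 2) F))) := Subgroup.card_dvd_of_le Subgroup.le_normalizer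
  have hdvd2 : Nat.card (Subgroup.normalizer ((S : Subgroup (SpecialLinearGroup (Fin 2) F)) :
      Set (SpecialLinearGroup (Fin 2) F))) ∣ Nat.card (SpecialLinearGroup (Fin 2) F) :=
    Subgroup.card_subgroup_dvd_card _
  have hne : Nat.card (Subgroup.normalizer ((S : Subgroup (SpecialLinearGroup (Fin 2) F)) :
      Set (SpecialLinearGroup (Fin 2) F))) ≠ 8 := by
    intro h
    have : (S : Subgroup (SpecialLinearGroup (Fin 2) F)) = Subgroup.normalizer ((S : Subgroup (SpecialLinearGroup (Fin 2) F)) :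
      Set (SpecialLinearGroup (Fin 2) F)) := by
      apply Subgroup.eq_of_le_of_card_ge Subgroup.le_normalizer
      rw [h]
      exact hcS.ge
    apply omega_not_mem h2 x hx S hS s₀ hinv
    rw [this]
    exact omega_mem_normalizer h2 x hx S hS s₀ hinv hs₀ h4
  have hpos : 0 < Nat.card (Subgroup.normalizer ((S : Subgroup (SpecialLinearGroup (Fin 2) F)) :
      Set (SpecialLinearGroup (Fin 2) F))) := Nat.card_pos
  rw [hcS] at hdvd ⊢
  obtain ⟨c, hc⟩ := hdvd
  rw [hc] at hle hne hpos hdvd2 ⊢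
  have hc3 : c ≤ 3 := by omega
  interval_cases c
  · omega
  · omega
  · exfalso; exact h16 hdvd2
  · rfl

end syl2e

end Cfsg.Agent.Lib.Helper15
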