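import Mathlib
import Cfsg.Agent.Lib.Helper15.Syl2E
import Cfsg.Agent.Lib.Helper15.Klein1
set_option autoImplicit false
namespace Cfsg.Agent.Lib.Helper15

open Matrix
open Cfsg.Agent.Lib.Helper14

section fibers

theorem card_mul_of_fibers {α β : Type*} [Finite α] [Finite β] (f : α → β) (c n : ℕ)
    (hf : ∀ b, c * Nat.card {a // f a = b} = n) : c * Nat.card α = Nat.card β * n := by
  classical
  have := Fintype.ofFinite β
  rw [← Nat.card_congr (Equiv.sigmaFiberEquiv f), Nat.card_sigma, Finset.mul_sum]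
  simp only [hf, Finset.sum_const, Finset.card_univ, smul_eq_mul, Nat.card_eq_fintype_card]

end fibers

section klein2
variable {F : Type*} [Field F]

/-- the projection `SL₂ → PSL₂` -/
def toPSL2 (F : Type*) [Field F] :
    SpecialLinearGroup (Fin 2) F →* ProjectiveSpecialLinearGroup (Fin 2) F :=
  QuotientGroup.mk' (Subgroup.center (SpecialLinearGroup (Fin 2) F))

theorem toPSL2_surjective : Function.Surjective (toPSL2 F) :=
  QuotientGroup.mk'_surjective _

theorem mem_center_SL2_iff (h2 : (2 : F) ≠ 0) (z : SpecialLinearGroup (Fin 2) F) :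
    z ∈ Subgroup.center (SpecialLinearGroup (Fin 2) F) ↔ z = 1 ∨ z = -1 := by
  constructor
  · intro hz
    exact eq_one_or_neg_one_of_mul_self h2 z (center_mul_self z hz)
  · rintro (rfl | rfl)
    · exact Subgroup.one_mem _
    · exact neg_one_mem_center_SL2

theorem toPSL2_eq_one_iff (h2 : (2 : F) ≠ 0) (g : SpecialLinearGroup (Fin 2) F) :
    toPSL2 F g = 1 ↔ g = 1 ∨ g = -1 := by
  rw [toPSL2, QuotientGroup.mk'_apply, QuotientGroup.eq_one_iff, mem_center_SL2_iff h2]

theorem toPSL2_eq_iff (h2 : (2 : F) ≠ 0) (g h : SpecialLinearGroup (Fin 2) F) :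
    toPSL2 F g = toPSL2 F h ↔ h = g ∨ h = -g := by
  rw [toPSL2, QuotientGroup.mk'_apply, QuotientGroup.mk'_apply, QuotientGroup.eq, mem_center_SL2_iff h2]
  constructor
  · rintro (hh | hh)
    · left
      calc h = g * (g⁻¹ * h) := by group
        _ = g := by rw [hh, mul_one]
    · right
      calc h = g * (g⁻¹ * h) := by group
        _ = -g := by rw [hh, mul_neg, mul_one]
  · rintro (rfl | rfl)
    · left; exact inv_mul_cancel _
    · right; rw [mul_neg, inv_mul_cancel]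

theorem toPSL2_neg (g : SpecialLinearGroup (Fin 2) F) : toPSL2 F (-g) = toPSL2 F g := by
  rw [toPSL2, QuotientGroup.mk'_apply, QuotientGroup.mk'_apply, QuotientGroup.eq]
  have : (-g)⁻¹ * g = -1 := by
    apply inv_mul_eq_of_eq_mul
    rw [neg_mul_neg, mul_one]
  rw [this]
  exact neg_one_mem_center_SL2

/-- involutions of `PSL₂` lift to square roots of `-1` -/
theorem toPSL2_invol_iff (h2 : (2 : F) ≠ 0) (g : SpecialLinearGroup (Fin 2) F) :
    (toPSL2 F g ≠ 1 ∧ toPSL2 F g * toPSL2 F g = 1) ↔ g * g = -1 := by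
  rw [← map_mul, toPSL2_eq_one_iff h2 (g * g), Ne, toPSL2_eq_one_iff h2 g]
  constructor
  · rintro ⟨h1, h3 | h3⟩
    · exact absurd (eq_one_or_neg_one_of_mul_self h2 g h3) h1
    · exact h3
  · intro h
    refine ⟨?_, Or.inr h⟩
    rintro (rfl | rfl)
    · rw [one_mul] at h; exact one_ne_neg_one_SL2 h2 h
    · rw [neg_mul_neg, one_mul] at h; exact one_ne_neg_one_SL2 h2 h

theorem center_SL2_eq_zpowers (h2 : (2 : F) ≠ 0) :
    Subgroup.center (SpecialLinearGroup (Fin 2) F) = Subgroup.zpowers (-1) := by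
  ext z
  rw [mem_center_SL2_iff h2]
  constructor
  · rintro (rfl | rfl)
    · exact Subgroup.one_mem _
    · exact Subgroup.mem_zpowers _
  · intro hz
    obtain ⟨k, rfl⟩ := Subgroup.mem_zpowers_iff.1 hz
    rcases Int.even_or_odd k with hk | hk
    · left; exact Even.neg_one_zpow hk
    · right; exact Odd.neg_one_zpow hk

theorem card_center_SL2 (h2 : (2 : F) ≠ 0) :
    Nat.card (Subgroup.center (SpecialLinearGroup (Fin 2) F)) = 2 := by
  rw [center_SL2_eq_zpowers h2, Nat.card_zpowers, orderOf_neg_one_SL2 h2]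

/-- the involutions of a group -/
def involSet (P : Type*) [Group P] : Set P := {u | u ≠ 1 ∧ u * u = 1}

/-- the involutions commuting with `u` and different from it -/
def kleinPartners {P : Type*} [Group P] (u : P) : Set P :=
  {v | v ≠ 1 ∧ v ≠ u ∧ v * v = 1 ∧ u * v = v * u}

theorem card_kleinPairs_fiber {P : Type*} [Group P] [Finite P] (c n : ℕ)
    (h : ∀ u ∈ involSet P, c * Nat.card (kleinPartners u) = n) :
    c * Nat.card (kleinPairs P) = Nat.card (involSet P) * n := by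
  let f : kleinPairs P → involSet P := fun p => ⟨p.1.1, ⟨p.2.1, p.2.2.2.2.1⟩⟩
  apply card_mul_of_fibers f c n
  rintro ⟨u, hu⟩
  rw [← h u hu]
  congr 1
  apply Nat.card_congr
  refine ⟨fun x => ⟨x.1.1.2, ?_⟩, fun v => ⟨⟨(u, v.1), ?_⟩, rfl⟩, ?_, ?_⟩
  · obtain ⟨⟨⟨u', v⟩, h1, h2, h3, h4, h5, h6⟩, hfp⟩ := x
    have : u' = u := congrArg Subtype.val hfp
    subst this
    exact ⟨h2, fun h => h3 h.symm, h5, h6⟩
  · obtain ⟨v, h1, h2, h3, h4⟩ := v
    exact ⟨hu.1, h1, fun h => h2 h.symm, hu.2, h3, h4⟩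
  · rintro ⟨⟨⟨u', v⟩, h1, h2, h3, h4, h5, h6⟩, hfp⟩
    have : u' = u := congrArg Subtype.val hfp
    subst this
    rfl
  · rintro ⟨v, hv⟩
    rfl

variable [Fintype F]

/-- the common order of the tori of square roots of `-1` -/
def tau (F : Type*) [Fintype F] : ℕ :=
  if Fintype.card F % 4 = 1 then Fintype.card F - 1 else Fintype.card F + 1

theorem card_torus_eq_tau (hodd : Odd (Fintype.card F)) (h2 : (2 : F) ≠ 0)
    (x : SpecialLinearGroup (Fin 2) F) (hx : x * x = -1) :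
    Nat.card (Subgroup.centralizer ({x} : Set (SpecialLinearGroup (Fin 2) F))) = tau F := by
  obtain ⟨h1, h3⟩ := card_torus_of_sq h2 x hx
  rw [tau]
  split_ifs with h
  · exact h1 h
  · apply h3
    rw [Nat.odd_iff] at hodd
    omega

theorem card_sqrt_mul_tau (hodd : Odd (Fintype.card F)) (h2 : (2 : F) ≠ 0) :
    Nat.card (SpecialLinearGroup (Fin 2) F) =
      Nat.card {a : SpecialLinearGroup (Fin 2) F // a * a = -1} * tau F := by
  let f : SpecialLinearGroup (Fin 2) F → {a : SpecialLinearGroup (Fin 2) F // a * a = -1} :=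
    fun g => ⟨g * w0 F * g⁻¹, conj_sq g (w0 F) w0_sq⟩
  have := card_mul_of_fibers f 1 (tau F) ?_
  · rw [one_mul] at this
    exact this
  rintro ⟨a, ha⟩
  obtain ⟨g₀, hg₀⟩ := isConj_iff.1 (isConj_of_sq h2 (w0 F) a w0_sq ha)
  rw [one_mul, ← card_torus_eq_tau hodd h2 (w0 F) w0_sq]
  apply Nat.card_congr
  refine ⟨fun g => ⟨g₀⁻¹ * g.1, ?_⟩, fun t => ⟨g₀ * t.1, ?_⟩, ?_, ?_⟩
  · obtain ⟨g, hg⟩ := g
    have hg' : g * w0 F * g⁻¹ = a := congrArg Subtype.val hg
    rw [mem_centralizer_iff_conj_eq]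
    calc g₀⁻¹ * g * w0 F * (g₀⁻¹ * g)⁻¹ = g₀⁻¹ * (g * w0 F * g⁻¹) * g₀ := by group
      _ = g₀⁻¹ * (g₀ * w0 F * g₀⁻¹) * g₀ := by rw [hg', hg₀]
      _ = w0 F := by group
  · obtain ⟨t, ht⟩ := t
    rw [mem_centralizer_iff_conj_eq] at ht
    apply Subtype.ext
    show g₀ * t * w0 F * (g₀ * t)⁻¹ = a
    calc g₀ * t * w0 F * (g₀ * t)⁻¹ = g₀ * (t * w0 F * t⁻¹) * g₀⁻¹ := by group
      _ = a := by rw [ht, hg₀]
  · rintro ⟨g, hg⟩
    apply Subtype.ext
    show g₀ * (g₀⁻¹ * g) = g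
    group
  · rintro ⟨t, ht⟩
    apply Subtype.ext
    show g₀⁻¹ * (g₀ * t) = t
    group

theorem card_inverting (hodd : Odd (Fintype.card F)) (h2 : (2 : F) ≠ 0)
    (a : SpecialLinearGroup (Fin 2) F) (ha : a * a = -1) :
    Nat.card {b : SpecialLinearGroup (Fin 2) F // b * a * b⁻¹ = a⁻¹} = tau F := by
  have hns := not_isScalar2_of_sq h2 a ha
  have ht := trace_sq_ne_four_of_sq h2 a ha
  obtain ⟨b₀, hb₀⟩ := exists_inverting a ht
  have e : b₀⁻¹ * a * b₀ = a⁻¹ := by
    have : a = b₀⁻¹ * a⁻¹ * b₀ := by rw [← hb₀]; group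
    calc b₀⁻¹ * a * b₀ = (b₀⁻¹ * a⁻¹ * b₀)⁻¹ := by group
      _ = a⁻¹ := by rw [← this]
  rw [← card_torus_eq_tau hodd h2 a ha]
  apply Nat.card_congr
  refine ⟨fun b => ⟨b.1 * b₀⁻¹, ?_⟩, fun t => ⟨t.1 * b₀, ?_⟩, ?_, ?_⟩
  · obtain ⟨b, hb⟩ := b
    rw [mem_centralizer_iff_conj_eq]
    calc b * b₀⁻¹ * a * (b * b₀⁻¹)⁻¹ = b * (b₀⁻¹ * a * b₀) * b⁻¹ := by group
      _ = b * a⁻¹ * b⁻¹ := by rw [e]
      _ = (b * a * b⁻¹)⁻¹ := by group
      _ = a := by rw [hb, inv_inv]
  · obtain ⟨t, ht'⟩ := t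
    rw [mem_centralizer_iff_conj_eq] at ht'
    show t * b₀ * a * (t * b₀)⁻¹ = a⁻¹
    calc t * b₀ * a * (t * b₀)⁻¹ = t * (b₀ * a * b₀⁻¹) * t⁻¹ := by group
      _ = t * a⁻¹ * t⁻¹ := by rw [hb₀]
      _ = (t * a * t⁻¹)⁻¹ := by group
      _ = a⁻¹ := by rw [ht']
  · rintro ⟨b, hb⟩
    apply Subtype.ext
    show b * b₀⁻¹ * b₀ = b
    group
  · rintro ⟨t, ht'⟩
    apply Subtype.ext
    show t * b₀ * b₀⁻¹ = t
    group

omit [Fintype F] in
/-- the preimage of the partners of `π a` is the set of elements inverting `a` -/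
theorem preimage_kleinPartners (h2 : (2 : F) ≠ 0) (a : SpecialLinearGroup (Fin 2) F) (ha : a * a = -1) :
    (fun g => toPSL2 F g) ⁻¹' (kleinPartners (toPSL2 F a)) =
      {b : SpecialLinearGroup (Fin 2) F | b * a * b⁻¹ = a⁻¹} := by
  have hns := not_isScalar2_of_sq h2 a ha
  have ht := trace_sq_ne_four_of_sq h2 a ha
  ext b
  simp only [Set.mem_preimage, kleinPartners, Set.mem_ofPred_eq]
  constructor
  · rintro ⟨h1, h3, h4, h5⟩
    have hbb : b * b = -1 := (toPSL2_invol_iff h2 b).1 ⟨h1, h4⟩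
    rw [← map_mul, ← map_mul, toPSL2_eq_iff h2] at h5
    rcases h5 with h5 | h5
    · exfalso
      apply h3
      have hbT : b ∈ Subgroup.centralizer ({a} : Set (SpecialLinearGroup (Fin 2) F)) :=
        Subgroup.mem_centralizer_singleton_iff.2 h5
      have etr : (b : Matrix (Fin 2) (Fin 2) F).trace = (a : Matrix (Fin 2) (Fin 2) F).trace := by
        rw [trace_eq_zero_of_sq b hbb, trace_eq_zero_of_sq a ha]
      rcases trace_eq_cases h2 a hns ht b hbT etr with h | h
      · rw [h]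
      · rw [h, inv_eq_neg_of_sq a ha, toPSL2_neg]
    · calc b * a * b⁻¹ = -(a * b) * b⁻¹ := by rw [h5]
        _ = -a := by rw [neg_mul, mul_assoc, mul_inv_cancel, mul_one]
        _ = a⁻¹ := (inv_eq_neg_of_sq a ha).symm
  · intro hb
    have hbb : b * b = -1 := eq_neg_one_of_coe _ (inverting_sq a hns b hb)
    obtain ⟨h1, h4⟩ := (toPSL2_invol_iff h2 b).2 hbb
    have hba : b * a = -(a * b) := by
      have : b * a = a⁻¹ * b := by rw [← hb]; group
      rw [this, inv_eq_neg_of_sq a ha, neg_mul]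
    refine ⟨h1, ?_, h4, ?_⟩
    · intro h
      rw [toPSL2_eq_iff h2] at h
      have hne := ne_inv_of_not_scalar h2 a hns
      apply hne
      rcases h with h | h
      · rw [← hb, h]; group
      · rw [← hb, h]; simp
    · rw [← map_mul, ← map_mul, hba, toPSL2_neg]

theorem card_kleinPartners (hodd : Odd (Fintype.card F)) (h2 : (2 : F) ≠ 0)
    (u : ProjectiveSpecialLinearGroup (Fin 2) F) (hu : u ∈ involSet (ProjectiveSpecialLinearGroup (Fin 2) F)) :
    2 * Nat.card (kleinPartners u) = tau F := by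
  obtain ⟨a, rfl⟩ := toPSL2_surjective u
  have ha : a * a = -1 := (toPSL2_invol_iff h2 a).1 hu
  have h1 := QuotientGroup.card_preimage_mk (Subgroup.center (SpecialLinearGroup (Fin 2) F))
    (kleinPartners (toPSL2 F a))
  rw [card_center_SL2 h2] at h1
  rw [← h1]
  have h3 := preimage_kleinPartners h2 a ha
  have h4 : (QuotientGroup.mk ⁻¹' kleinPartners (toPSL2 F a) : Set (SpecialLinearGroup (Fin 2) F)) =
      {b : SpecialLinearGroup (Fin 2) F | b * a * b⁻¹ = a⁻¹} := h3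
  rw [h4]
  exact card_inverting hodd h2 a ha

omit [Fintype F] in
theorem card_involSet_PSL2 (h2 : (2 : F) ≠ 0) :
    2 * Nat.card (involSet (ProjectiveSpecialLinearGroup (Fin 2) F)) =
      Nat.card {a : SpecialLinearGroup (Fin 2) F // a * a = -1} := by
  have h1 := QuotientGroup.card_preimage_mk (Subgroup.center (SpecialLinearGroup (Fin 2) F))
    (involSet (ProjectiveSpecialLinearGroup (Fin 2) F))
  rw [card_center_SL2 h2] at h1
  rw [← h1]
  have h4 : (QuotientGroup.mk ⁻¹' involSet (ProjectiveSpecialLinearGroup (Fin 2) F) : Set (SpecialLinearGroup (Fin 2) F)) =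
      {a : SpecialLinearGroup (Fin 2) F | a * a = -1} := by
    ext a
    exact toPSL2_invol_iff h2 a
  rw [h4]
  rfl

/-- twice the number of ordered pairs of distinct commuting involutions is `|PSL₂(q)|` -/
theorem card_kleinPairs_PSL2 (hodd : Odd (Fintype.card F)) (h2 : (2 : F) ≠ 0) :
    2 * Nat.card (kleinPairs (ProjectiveSpecialLinearGroup (Fin 2) F)) =
      Nat.card (ProjectiveSpecialLinearGroup (Fin 2) F) := by
  have h1 := card_kleinPairs_fiber (P := ProjectiveSpecialLinearGroup (Fin 2) F) 2 (tau F)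
    (card_kleinPartners hodd h2)
  have h3 := card_involSet_PSL2 (F := F) h2
  have h4 := card_sqrt_mul_tau (F := F) hodd h2
  have h5 := Subgroup.card_eq_card_quotient_mul_card_subgroup (Subgroup.center (SpecialLinearGroup (Fin 2) F))
  rw [card_center_SL2 h2] at h5
  have h6 : Nat.card (SpecialLinearGroup (Fin 2) F ⧸ Subgroup.center (SpecialLinearGroup (Fin 2) F)) =
      Nat.card (ProjectiveSpecialLinearGroup (Fin 2) F) := rfl
  rw [h6] at h5
  rw [h5, ← h3] at h4
  have : 2 * (2 * Nat.card (kleinPairs (ProjectiveSpecialLinearGroup (Fin 2) F))) =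
      2 * Nat.card (ProjectiveSpecialLinearGroup (Fin 2) F) := by
    rw [h1, mul_comm (Nat.card (ProjectiveSpecialLinearGroup (Fin 2) F)) 2] at *
    rw [h4]
    ring
  omega

/-- `12 · #{Klein four-subgroups} = |PSL₂(q)|` -/
theorem card_kleinFour_PSL2 (hodd : Odd (Fintype.card F)) (h2 : (2 : F) ≠ 0) :
    12 * Nat.card {V : Subgroup (ProjectiveSpecialLinearGroup (Fin 2) F) // IsKleinFour V} =
      Nat.card (ProjectiveSpecialLinearGroup (Fin 2) F) := by
  rw [← card_kleinPairs_PSL2 hodd h2, card_kleinPairs]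
  ring

end klein2
end Cfsg.Agent.Lib.Helper15
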