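import Mathlib
import Cfsg.Prelude.Def_LinearParabolics
set_option autoImplicit false
namespace Cfsg.Agent.Lib.Helper15

open Matrix

section blockcount
variable {n : Type*} [Fintype n] [DecidableEq n] {β : Type*} [Fintype β] [LinearOrder β]
variable {F : Type*} [Field F]

/-- diagonal positions -/
abbrev DPos (b : n → β) := {p : n × n // b p.1 = b p.2}
/-- strictly upper positions -/
abbrev UPos (b : n → β) := {p : n × n // b p.1 < b p.2}

/-- the diagonal block of a function on diagonal positions -/
def dblk (b : n → β) (d : DPos b → F) (a : β) : Matrix {i // b i = a} {i // b i = a} F :=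
  fun i j => d ⟨(i.1, j.1), i.2.trans j.2.symm⟩

/-- assemble a block triangular matrix -/
def assemble (b : n → β) (d : DPos b → F) (u : UPos b → F) : Matrix n n F :=
  fun i j => if h : b i = b j then d ⟨(i, j), h⟩ else if h' : b i < b j then u ⟨(i, j), h'⟩ else 0

theorem assemble_blockTriangular (b : n → β) (d : DPos b → F) (u : UPos b → F) :
    (assemble b d u).BlockTriangular b := by
  intro i j hij
  unfold assemble
  rw [dif_neg (ne_of_gt hij), dif_neg (not_lt.2 hij.le)]

theorem assemble_toSquareBlock (b : n → β) (d : DPos b → F) (u : UPos b → F) (a : β) :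
    (assemble b d u).toSquareBlock b a = dblk b d a := by
  ext i j
  show assemble b d u i.1 j.1 = _
  unfold assemble dblk
  rw [dif_pos (i.2.trans j.2.symm)]

/-- block triangular matrices with nonzero determinant -/
noncomputable def btEquiv (b : n → β) :
    {M : Matrix n n F // M.BlockTriangular b ∧ M.det ≠ 0} ≃
      {d : DPos b → F // ∀ a, (dblk b d a).det ≠ 0} × (UPos b → F) where
  toFun M := (⟨fun p => M.1 p.1.1 p.1.2, by
      intro a
      have h1 := M.2.1.det_fintype
      have h2 := M.2.2
      rw [h1] at h2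
      exact (Finset.prod_ne_zero_iff.1 h2) a (Finset.mem_univ a)⟩, fun p => M.1 p.1.1 p.1.2)
  invFun x := ⟨assemble b x.1.1 x.2, assemble_blockTriangular b _ _, by
      rw [(assemble_blockTriangular b _ _).det_fintype]
      apply Finset.prod_ne_zero_iff.2
      intro a _
      rw [assemble_toSquareBlock]
      exact x.1.2 a⟩
  left_inv M := by
    apply Subtype.ext
    ext i j
    show assemble b _ _ i j = _
    unfold assemble
    by_cases h : b i = b j
    · rw [dif_pos h]
    · rw [dif_neg h]
      by_cases h' : b i < b j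
      · rw [dif_pos h']
      · rw [dif_neg h']
        exact (M.2.1 (lt_of_le_of_ne (not_lt.1 h') (Ne.symm h))).symm
  right_inv x := by
    apply Prod.ext
    · apply Subtype.ext
      funext p
      show assemble b _ _ p.1.1 p.1.2 = _
      unfold assemble
      rw [dif_pos p.2]
    · funext p
      show assemble b _ _ p.1.1 p.1.2 = _
      unfold assemble
      rw [dif_neg (ne_of_lt p.2), dif_pos p.2]

/-- functions on diagonal positions are families of square blocks -/
def dposEquiv (b : n → β) :
    (DPos b → F) ≃ ((a : β) → Matrix {i // b i = a} {i // b i = a} F) where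
  toFun d := dblk b d
  invFun A := fun p => A (b p.1.1) ⟨p.1.1, rfl⟩ ⟨p.1.2, p.2.symm⟩
  left_inv d := by
    funext p
    rfl
  right_inv A := by
    funext a i j
    obtain ⟨i, rfl⟩ := i
    rfl

end blockcount



section glcard
variable {F : Type*} [Field F] [Fintype F]

/-- invertible matrices as a subtype -/
noncomputable def glEquivSubtype (k : Type*) [Fintype k] [DecidableEq k] :
    GL k F ≃ {A : Matrix k k F // A.det ≠ 0} where
  toFun g := ⟨g.1, by
    have := (Matrix.isUnit_iff_isUnit_det g.1).1 g.isUnit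
    exact this.ne_zero⟩
  invFun A := Matrix.GeneralLinearGroup.mkOfDetNeZero A.1 A.2
  left_inv g := by
    apply Units.ext
    rfl
  right_inv A := by
    apply Subtype.ext
    rfl

theorem card_det_ne_zero (k : Type*) [Fintype k] [DecidableEq k] :
    Nat.card {A : Matrix k k F // A.det ≠ 0} =
      ∏ i ∈ Finset.range (Fintype.card k), (Fintype.card F ^ Fintype.card k - Fintype.card F ^ i) := by
  classical
  let e := Fintype.equivFin k
  have h1 : {A : Matrix k k F // A.det ≠ 0} ≃ {A : Matrix (Fin (Fintype.card k)) (Fin (Fintype.card k)) F // A.det ≠ 0} :=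
    (Matrix.reindex e e).subtypeEquiv (fun A => by rw [Matrix.det_reindex_self])
  rw [Nat.card_congr h1, ← Nat.card_congr (glEquivSubtype (Fin (Fintype.card k))), Matrix.card_GL_field,
    Fin.prod_univ_eq_prod_range (fun i => Fintype.card F ^ Fintype.card k - Fintype.card F ^ i)]

end glcard

section blockcard
variable {n : Type*} [Fintype n] [DecidableEq n] {β : Type*} [Fintype β] [LinearOrder β]
variable {F : Type*} [Field F] [Fintype F]

theorem card_blockTriangular_det_ne_zero (b : n → β) :
    Nat.card {M : Matrix n n F // M.BlockTriangular b ∧ M.det ≠ 0} =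
      (∏ a : β, Nat.card {A : Matrix {i // b i = a} {i // b i = a} F // A.det ≠ 0}) *
        Fintype.card F ^ Fintype.card (UPos b) := by
  classical
  rw [Nat.card_congr (btEquiv b), Nat.card_prod, Nat.card_fun, Nat.card_eq_fintype_card (α := UPos b),
    Nat.card_eq_fintype_card (α := F)]
  congr 1
  have e1 : {d : DPos b → F // ∀ a, (dblk b d a).det ≠ 0} ≃
      {A : (a : β) → Matrix {i // b i = a} {i // b i = a} F // ∀ a, (A a).det ≠ 0} :=
    (dposEquiv b).subtypeEquiv (fun d => Iff.rfl)
  have e2 : {A : (a : β) → Matrix {i // b i = a} {i // b i = a} F // ∀ a, (A a).det ≠ 0} ≃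
      ((a : β) → {A : Matrix {i // b i = a} {i // b i = a} F // A.det ≠ 0}) :=
    Equiv.subtypePiEquivPi (p := fun a (A : Matrix {i // b i = a} {i // b i = a} F) => A.det ≠ 0)
  rw [Nat.card_congr e1, Nat.card_congr e2, Nat.card_pi]

theorem card_parabolic (b : n → β) (P : Subgroup (GL n F))
    (hP : ∀ g : GL n F, g ∈ P ↔ (g : Matrix n n F).BlockTriangular b) :
    Nat.card P = (∏ a : β, Nat.card {A : Matrix {i // b i = a} {i // b i = a} F // A.det ≠ 0}) *
        Fintype.card F ^ Fintype.card (UPos b) := by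
  rw [← card_blockTriangular_det_ne_zero]
  apply Nat.card_congr
  refine ⟨fun g => ⟨g.1.1, (hP g.1).1 g.2, (glEquivSubtype n g.1).2⟩,
    fun M => ⟨(glEquivSubtype n).symm ⟨M.1, M.2.2⟩, (hP _).2 M.2.1⟩, ?_, ?_⟩
  · intro g
    apply Subtype.ext
    apply Units.ext
    rfl
  · intro M
    apply Subtype.ext
    rfl

end blockcard


section poscount
variable {n : Type*} [Fintype n] [DecidableEq n] {β : Type*} [Fintype β] [LinearOrder β]

/-- diagonal positions as a sigma type -/
def dposSigma (b : n → β) : DPos b ≃ Σ a : β, {i // b i = a} × {i // b i = a} where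
  toFun p := ⟨b p.1.1, ⟨p.1.1, rfl⟩, ⟨p.1.2, p.2.symm⟩⟩
  invFun x := ⟨(x.2.1.1, x.2.2.1), x.2.1.2.trans x.2.2.2.symm⟩
  left_inv p := rfl
  right_inv x := by
    obtain ⟨a, ⟨i, hi⟩, ⟨j, hj⟩⟩ := x
    subst hi
    rfl

theorem card_dpos (b : n → β) : Fintype.card (DPos b) = ∑ a, Fintype.card {i // b i = a} ^ 2 := by
  rw [Fintype.card_congr (dposSigma b), Fintype.card_sigma]
  apply Finset.sum_congr rfl
  intro a _
  rw [Fintype.card_prod, sq]

theorem card_upos_swap (b : n → β) : Fintype.card {p : n × n // b p.2 < b p.1} = Fintype.card (UPos b) := by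
  apply Fintype.card_congr
  exact ⟨fun p => ⟨(p.1.2, p.1.1), p.2⟩, fun p => ⟨(p.1.2, p.1.1), p.2⟩, fun p => rfl, fun p => rfl⟩

theorem card_pos (b : n → β) :
    2 * Fintype.card (UPos b) + ∑ a, Fintype.card {i // b i = a} ^ 2 = Fintype.card n ^ 2 := by
  have key : Fintype.card (UPos b) + Fintype.card {p : n × n // b p.2 < b p.1} + Fintype.card (DPos b) =
      Fintype.card (n × n) := by
    simp only [Fintype.card_subtype, Finset.card_filter]
    rw [← Finset.sum_add_distrib, ← Finset.sum_add_distrib, ← Finset.card_univ, Finset.card_eq_sum_ones]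
    apply Finset.sum_congr rfl
    intro p _
    rcases lt_trichotomy (b p.1) (b p.2) with h | h | h
    · rw [if_pos h, if_neg (not_lt.2 h.le), if_neg (ne_of_lt h)]
    · rw [if_neg (by rw [h]; exact lt_irrefl _), if_neg (by rw [h]; exact lt_irrefl _), if_pos h]
    · rw [if_neg (not_lt.2 h.le), if_pos h, if_neg (ne_of_gt h)]
  rw [card_upos_swap, card_dpos, Fintype.card_prod] at key
  rw [sq (Fintype.card n), ← key]; ring

end poscount


section complabel
variable {n : ℕ} (μ : Fin n → ℕ)

/-- partial sums of a composition -/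
def partSum (a : ℕ) : ℕ := ∑ k ∈ Finset.univ.filter (fun k : Fin n => k.val < a), μ k

theorem partSum_zero : partSum μ 0 = 0 := by
  unfold partSum
  rw [Finset.filter_false_of_mem (by intro k _; exact Nat.not_lt_zero _), Finset.sum_empty]

theorem partSum_mono {a a' : ℕ} (h : a ≤ a') : partSum μ a ≤ partSum μ a' := by
  unfold partSum
  apply Finset.sum_le_sum_of_subset
  intro k hk
  rw [Finset.mem_filter] at hk ⊢
  exact ⟨hk.1, lt_of_lt_of_le hk.2 h⟩

theorem partSum_top : partSum μ n = ∑ i, μ i := by
  unfold partSum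
  rw [Finset.filter_true_of_mem (by intro k _; exact k.2)]

theorem partSum_succ (a : Fin n) : partSum μ (a.val + 1) = partSum μ a.val + μ a := by
  unfold partSum
  have : Finset.univ.filter (fun k : Fin n => k.val < a.val + 1) =
      insert a (Finset.univ.filter (fun k : Fin n => k.val < a.val)) := by
    ext k
    simp only [Finset.mem_filter, Finset.mem_univ, true_and, Finset.mem_insert]
    rw [Nat.lt_succ_iff_lt_or_eq, Fin.ext_iff]
    tauto
  rw [this, Finset.sum_insert (by simp), add_comm]

theorem compLabel_eq_sum (i : Fin n) :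
    Cfsg.compLabel μ i = (Finset.univ.filter fun j : Fin n => partSum μ (j.val + 1) ≤ i.val).card := by
  unfold Cfsg.compLabel partSum
  congr 1
  apply Finset.filter_congr
  intro j _
  have : Finset.univ.filter (fun k : Fin n => k ≤ j) = Finset.univ.filter (fun k : Fin n => k.val < j.val + 1) := by
    apply Finset.filter_congr
    intro k _
    rw [Nat.lt_succ_iff, Fin.le_def]
  rw [this]

theorem compLabel_eq_of_mem (i a : Fin n) (h1 : partSum μ a.val ≤ i.val) (h2 : i.val < partSum μ (a.val + 1)) :
    Cfsg.compLabel μ i = a.val := by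
  rw [compLabel_eq_sum]
  have : Finset.univ.filter (fun j : Fin n => partSum μ (j.val + 1) ≤ i.val) =
      Finset.univ.filter (fun j : Fin n => j.val < a.val) := by
    apply Finset.filter_congr
    intro j _
    constructor
    · intro hj
      by_contra hcon
      have := partSum_mono μ (show a.val + 1 ≤ j.val + 1 by omega)
      omega
    · intro hj
      have := partSum_mono μ (show j.val + 1 ≤ a.val by omega)
      omega
  rw [this, Fin.card_filter_val_lt]
  exact min_eq_right a.2.le

end complabel


section complabel2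
variable {n : ℕ} (μ : Fin n → ℕ) (hμ : ∑ i, μ i = n)

include hμ in
theorem exists_block (i : Fin n) : ∃ a : Fin n, partSum μ a.val ≤ i.val ∧ i.val < partSum μ (a.val + 1) := by
  classical
  have hex : ∃ a', i.val < partSum μ a' := ⟨n, by rw [partSum_top, hμ]; exact i.2⟩
  have h1 := Nat.find_spec hex
  have h0 : Nat.find hex ≠ 0 := by
    intro h
    rw [h, partSum_zero] at h1
    exact Nat.not_lt_zero _ h1
  have hle : Nat.find hex ≤ n := Nat.find_min' hex (by rw [partSum_top, hμ]; exact i.2)
  refine ⟨⟨Nat.find hex - 1, by omega⟩, ?_, ?_⟩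
  · have := Nat.find_min hex (show Nat.find hex - 1 < Nat.find hex by omega)
    exact not_lt.1 this
  · show i.val < partSum μ (Nat.find hex - 1 + 1)
    rw [Nat.sub_add_cancel (by omega)]
    exact h1

include hμ in
theorem compLabel_lt (i : Fin n) : Cfsg.compLabel μ i < n := by
  obtain ⟨a, h1, h2⟩ := exists_block μ hμ i
  rw [compLabel_eq_of_mem μ i a h1 h2]
  exact a.2

include hμ in
theorem compLabel_eq_iff (i a : Fin n) :
    Cfsg.compLabel μ i = a.val ↔ partSum μ a.val ≤ i.val ∧ i.val < partSum μ (a.val + 1) := by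
  constructor
  · intro h
    obtain ⟨a', h1, h2⟩ := exists_block μ hμ i
    have := compLabel_eq_of_mem μ i a' h1 h2
    have haa : a = a' := Fin.ext (h.symm.trans this)
    rw [haa]
    exact ⟨h1, h2⟩
  · rintro ⟨h1, h2⟩
    exact compLabel_eq_of_mem μ i a h1 h2

include hμ in
theorem card_block (a : Fin n) : Fintype.card {i : Fin n // Cfsg.compLabel μ i = a.val} = μ a := by
  classical
  rw [Fintype.card_subtype]
  have hB : partSum μ (a.val + 1) ≤ n := by
    have := partSum_mono μ (show a.val + 1 ≤ n from a.2)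
    rwa [partSum_top, hμ] at this
  have : (Finset.univ.filter (fun i : Fin n => Cfsg.compLabel μ i = a.val)).map Fin.valEmbedding =
      Finset.Ico (partSum μ a.val) (partSum μ (a.val + 1)) := by
    ext x
    simp only [Finset.mem_map, Finset.mem_filter, Finset.mem_univ, true_and, Fin.valEmbedding_apply, Finset.mem_Ico]
    constructor
    · rintro ⟨i, hi, rfl⟩
      exact (compLabel_eq_iff μ hμ i a).1 hi
    · rintro ⟨h1, h2⟩
      exact ⟨⟨x, by omega⟩, (compLabel_eq_iff μ hμ _ a).2 ⟨h1, h2⟩, rfl⟩
  rw [← Finset.card_map Fin.valEmbedding, this, Nat.card_Ico, partSum_succ]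
  omega

end complabel2


section arith

/-- q-factorial -/
def qFact (q r : ℕ) : ℕ := ∏ j ∈ Finset.range r, ∑ l ∈ Finset.range (j + 1), q ^ l

theorem geom_pred (r j : ℕ) : r * ∑ l ∈ Finset.range j, (r + 1) ^ l + 1 = (r + 1) ^ j := by
  induction j with
  | zero => simp
  | succ j ih => rw [Finset.sum_range_succ, mul_add, add_right_comm, ih, pow_succ]; ring

theorem card_gl_eq (q k : ℕ) (hq : 1 ≤ q) :
    ∏ i ∈ Finset.range k, (q ^ k - q ^ i) =
      q ^ (∑ i ∈ Finset.range k, i) * (q - 1) ^ k * qFact q k := by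
  obtain ⟨r, rfl⟩ : ∃ r, q = r + 1 := ⟨q - 1, by omega⟩
  rw [← Finset.prod_range_reflect, ← Finset.prod_pow_eq_pow_sum, ← Finset.prod_range_reflect (fun i => (r + 1) ^ i)]
  unfold qFact
  rw [Nat.add_sub_cancel]
  rw [show (r ^ k) = ∏ _i ∈ Finset.range k, r from by rw [Finset.prod_const, Finset.card_range]]
  rw [← Finset.prod_mul_distrib, ← Finset.prod_mul_distrib]
  apply Finset.prod_congr rfl
  intro j hj
  rw [Finset.mem_range] at hj
  have h1 : (r + 1) ^ k = (r + 1) ^ (k - 1 - j) * (r + 1) ^ (j + 1) := by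
    rw [← pow_add]; congr 1; omega
  rw [h1, ← geom_pred r (j + 1)]
  rw [mul_add, mul_one, Nat.add_sub_cancel]
  ring

end arith


section final
variable {F : Type*} [Field F] [Fintype F] {n : ℕ}

theorem two_mul_sum_range_add (k : ℕ) : 2 * ∑ i ∈ Finset.range k, i + k = k ^ 2 := by
  induction k with
  | zero => simp
  | succ k ih => rw [Finset.sum_range_succ]; nlinarith [ih]

theorem parabolic_index (μ : Fin n → ℕ) (hμ : ∑ i, μ i = n) :
    Nat.card (GL (Fin n) F ⧸ Cfsg.parabolicGL n F μ) * ∏ i : Fin n, qFact (Fintype.card F) (μ i) =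
      qFact (Fintype.card F) n := by
  classical
  set q := Fintype.card F with hq
  have hq2 : 2 ≤ q := Fintype.one_lt_card
  let b' : Fin n → Fin n := fun i => ⟨Cfsg.compLabel μ i, compLabel_lt μ hμ i⟩
  have hP : ∀ g : GL (Fin n) F, g ∈ Cfsg.parabolicGL n F μ ↔ (g : Matrix (Fin n) (Fin n) F).BlockTriangular b' :=
    fun g => ⟨fun h i j hij => h hij, fun h i j hij => h hij⟩
  have h1 := card_parabolic b' (Cfsg.parabolicGL n F μ) hP
  have hblk : ∀ a : Fin n, Fintype.card {i : Fin n // b' i = a} = μ a := by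
    intro a
    rw [← card_block μ hμ a]
    exact Fintype.card_congr (Equiv.subtypeEquivRight (fun i => Fin.ext_iff))
  have h2 : ∀ a : Fin n, Nat.card {A : Matrix {i // b' i = a} {i // b' i = a} F // A.det ≠ 0} =
      q ^ (∑ i ∈ Finset.range (μ a), i) * (q - 1) ^ (μ a) * qFact q (μ a) := by
    intro a
    rw [card_det_ne_zero, hblk a, card_gl_eq q (μ a) (by omega)]
  rw [Finset.prod_congr rfl (fun a _ => h2 a), Finset.prod_mul_distrib, Finset.prod_mul_distrib,
    Finset.prod_pow_eq_pow_sum, Finset.prod_pow_eq_pow_sum, hμ] at h1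
  have h3 : Nat.card (GL (Fin n) F) = q ^ (∑ i ∈ Finset.range n, i) * (q - 1) ^ n * qFact q n := by
    rw [Matrix.card_GL_field, Fin.prod_univ_eq_prod_range (fun i => q ^ n - q ^ i), card_gl_eq q n (by omega)]
  have h4 := Subgroup.card_mul_index (Cfsg.parabolicGL n F μ)
  rw [h1, h3] at h4
  have hexp : ∑ a : Fin n, ∑ i ∈ Finset.range (μ a), i + Fintype.card (UPos b') = ∑ i ∈ Finset.range n, i := by
    have h5 := card_pos b'
    rw [Fintype.card_fin] at h5
    have h6 : ∑ a : Fin n, Fintype.card {i // b' i = a} ^ 2 = ∑ a : Fin n, (2 * ∑ i ∈ Finset.range (μ a), i + μ a) := by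
      apply Finset.sum_congr rfl
      intro a _
      rw [hblk a, two_mul_sum_range_add]
    rw [h6, Finset.sum_add_distrib, ← Finset.mul_sum, hμ, ← two_mul_sum_range_add n] at h5
    omega
  have hpos : 0 < q ^ (∑ i ∈ Finset.range n, i) * (q - 1) ^ n := by
    apply Nat.mul_pos (Nat.pow_pos (by omega)) (Nat.pow_pos (by omega))
  have h7 : (Nat.card (GL (Fin n) F ⧸ Cfsg.parabolicGL n F μ) * ∏ i : Fin n, qFact q (μ i)) *
      (q ^ (∑ i ∈ Finset.range n, i) * (q - 1) ^ n) = qFact q n * (q ^ (∑ i ∈ Finset.range n, i) * (q - 1) ^ n) := by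
    rw [← hexp, pow_add]
    rw [← hexp, pow_add] at h4
    have : (Cfsg.parabolicGL n F μ).index = Nat.card (GL (Fin n) F ⧸ Cfsg.parabolicGL n F μ) := rfl
    rw [← this]
    linarith
  exact Nat.eq_of_mul_eq_mul_right hpos h7

end final
end Cfsg.Agent.Lib.Helper15
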