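import Mathlib
set_option autoImplicit false
namespace Cfsg.Agent.Lib.Helper15

open Matrix Matrix.SpecialLinearGroup

variable {F : Type*} [Field F] {ι : Type*} [DecidableEq ι] [Fintype ι]

/-- explicit equivalence splitting off two indices -/
def splitTwo {i j : ι} (hij : i ≠ j) : Fin 2 ⊕ {k : ι // k ≠ i ∧ k ≠ j} ≃ ι where
  toFun := Sum.elim ![i, j] Subtype.val
  invFun k := if hi : k = i then Sum.inl 0 else if hj : k = j then Sum.inl 1 else Sum.inr ⟨k, hi, hj⟩
  left_inv x := by
    rcases x with a | ⟨k, h1, h2⟩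
    · fin_cases a
      · simp
      · simp [hij.symm]
    · simp [h1, h2]
  right_inv k := by
    by_cases hi : k = i
    · simp [hi]
    · by_cases hj : k = j
      · simp [hj, hij.symm]
      · simp [hi, hj]

theorem diag2n_eq_reindex {i j : ι} (hij : i ≠ j) (a : F) (ha : a ≠ 0) :
    (diag2n hij a ha).1 = reindexAlgEquiv F F (splitTwo hij)
      (fromBlocks (diag2 a ha).1 0 0 (1 : Matrix {k : ι // k ≠ i ∧ k ≠ j} {k : ι // k ≠ i ∧ k ≠ j} F)) := by
  ext k l
  obtain ⟨x, rfl⟩ := (splitTwo hij).surjective k
  obtain ⟨y, rfl⟩ := (splitTwo hij).surjective l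
  rw [coe_reindexAlgEquiv, reindex_apply, submatrix_apply, Equiv.symm_apply_apply, Equiv.symm_apply_apply,
    diag2n_coe, diag2_coe']
  rcases x with a' | ⟨k, hk1, hk2⟩ <;> rcases y with b' | ⟨l, hl1, hl2⟩
  · fin_cases a' <;> fin_cases b' <;> simp [splitTwo, hij, hij.symm]
  · fin_cases a' <;> simp [splitTwo, Ne.symm hl1, Ne.symm hl2]
  · fin_cases b' <;> simp [splitTwo, hk1, hk2]
  · simp [splitTwo, diagonal_apply, hk1, hk2, one_apply, Subtype.ext_iff]

theorem diag2_eq_list_prod (a : F) (ha : a ≠ 0) :
    ∃ L : List (TransvectionStruct (Fin 2) F), (diag2 a ha).1 = (L.map TransvectionStruct.toMatrix).prod := by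
  refine ⟨[⟨0, 1, zero_ne_one, a⟩, ⟨1, 0, one_ne_zero, -a⁻¹⟩, ⟨0, 1, zero_ne_one, a⟩,
    ⟨0, 1, zero_ne_one, -1⟩, ⟨1, 0, one_ne_zero, 1⟩, ⟨0, 1, zero_ne_one, -1⟩], ?_⟩
  have := congrArg Subtype.val (diag2_decompose a ha)
  rw [this]
  simp only [List.map_cons, List.map_nil, List.prod_cons, List.prod_nil, mul_one, coe_mul, mul_assoc]
  rfl

theorem diag2n_eq_list_prod {i j : ι} (hij : i ≠ j) (a : F) (ha : a ≠ 0) :
    ∃ L : List (TransvectionStruct ι F), diag2n hij a ha = (L.map TransvectionStruct.toSpecialLinearGroup).prod := by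
  obtain ⟨L, hL⟩ := diag2_eq_list_prod a ha
  refine ⟨(L.map (TransvectionStruct.sumInl {k : ι // k ≠ i ∧ k ≠ j})).map
    (TransvectionStruct.reindexEquiv (splitTwo hij)), ?_⟩
  have h1 := TransvectionStruct.sumInl_toMatrix_prod_mul (p := {k : ι // k ≠ i ∧ k ≠ j})
    (1 : Matrix (Fin 2) (Fin 2) F) L (1 : Matrix {k : ι // k ≠ i ∧ k ≠ j} {k : ι // k ≠ i ∧ k ≠ j} F)
  rw [fromBlocks_one, mul_one, mul_one, ← List.map_map] at h1
  set L' := L.map (TransvectionStruct.sumInl {k : ι // k ≠ i ∧ k ≠ j}) with hL'
  have h2 := TransvectionStruct.toMatrix_reindexEquiv_prod (splitTwo hij) L'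
  apply coeMonoidHom_injective
  rw [map_list_prod, List.map_map]
  simp only [coeMonoidHom_apply]
  rw [diag2n_eq_reindex hij a ha, hL, ← h1, ← h2, ← List.map_map]
  rfl

theorem SLn_transvection_induction [Nontrivial ι] (P : SpecialLinearGroup ι F → Prop)
    (htransvec : ∀ (i j : ι) (h : i ≠ j) c, P (SpecialLinearGroup.transvection h c))
    (hmul : ∀ A B, P A → P B → P (A * B)) (A : SpecialLinearGroup ι F) : P A := by
  obtain ⟨i₀, j₀, hij₀⟩ := exists_pair_ne ι
  have hP1 : P 1 := transvection_coeff_zero (F := F) hij₀ ▸ htransvec i₀ j₀ hij₀ 0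
  have hlist (L : List (TransvectionStruct ι F)) :
      P (L.map TransvectionStruct.toSpecialLinearGroup).prod := by
    induction L with
    | nil => simpa using hP1
    | cons t L ih =>
      rw [List.map_cons, List.prod_cons, t.toSpecialLinearGroup_def]
      exact hmul _ _ (htransvec t.i t.j t.hij t.c) ih
  refine diagonal_transvection_induction' P A (fun i j hij c hc => ?_) htransvec hmul
  obtain ⟨L, hL⟩ := diag2n_eq_list_prod hij c hc
  rw [hL]
  exact hlist L

open scoped LinearAlgebra.Projectivization

theorem transvection_mem_lineStab' {i j : ι} (hij : i ≠ j) (b : F) :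
    SpecialLinearGroup.transvection hij b ∈ lineStab (Submodule.span F {(Pi.single i (1 : F) : ι → F)}) :=
  SL2Gen.transvection_mem_lineStab hij b

theorem iSup_lineStab_eq_top' [Nontrivial ι] :
    (⨆ p : ℙ F (ι → F), lineStab p.submodule) = (⊤ : Subgroup (SpecialLinearGroup ι F)) := by
  rw [eq_top_iff]
  intro A _
  refine SLn_transvection_induction (fun A => A ∈ ⨆ p : ℙ F (ι → F), lineStab p.submodule) ?_
    (fun _ _ => mul_mem) A
  intro i j hij c
  have hne : (Pi.single i (1 : F) : ι → F) ≠ 0 := Pi.single_ne_zero_iff.2 one_ne_zero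
  have := transvection_mem_lineStab' hij c
  rw [← Projectivization.submodule_mk (K := F) _ hne] at this
  exact Subgroup.mem_iSup_of_mem (Projectivization.mk F _ hne) this

open MulAction in
/-- The Iwasawa structure on SL(ι, F) acting on projective space. -/
noncomputable def SLn_Iwasawa [Nontrivial ι] : IwasawaStructure (SpecialLinearGroup ι F) (ℙ F (ι → F)) where
  T p := lineStab p.submodule
  is_comm p := by
    rw [← Projectivization.mk_rep p, Projectivization.submodule_mk]
    exact lineStab_isMulCommutative_of_span p.rep p.rep_nonzero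
  is_conj g p := by
    rw [PSL.smul_submodule, Matrix.SpecialLinearGroup.lineStab_smul]
  is_generator := iSup_lineStab_eq_top'

open scoped commutatorElement in
theorem transvection_eq_commutator {i j k : ι} (hij : i ≠ j) (hik : i ≠ k) (hkj : k ≠ j) (c : F) :
    SpecialLinearGroup.transvection hij c =
      ⁅SpecialLinearGroup.transvection hik c, SpecialLinearGroup.transvection hkj (1 : F)⁆ := by
  rw [commutatorElement_def, transvection_inv, transvection_inv]
  apply Subtype.ext
  simp only [coe_mul, transvection_coe]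
  simp only [mul_add, add_mul, mul_one, one_mul, single_mul_single_same, single_mul_single_of_ne _ _ _ _ hik.symm,
    single_mul_single_of_ne _ _ _ _ hkj.symm, single_mul_single_of_ne _ _ _ _ hij.symm,
    single_mul_single_of_ne _ _ _ _ hik, single_mul_single_of_ne _ _ _ _ hkj,
    single_mul_single_of_ne _ _ _ _ hij, mul_neg, neg_mul, mul_zero, zero_mul, add_zero, zero_add,
    neg_zero, ← single_neg]
  abel

theorem SLn_commutator_eq_top (h3 : 3 ≤ Fintype.card ι) : commutator (SpecialLinearGroup ι F) = ⊤ := by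
  haveI : Nontrivial ι := Fintype.one_lt_card_iff_nontrivial.mp (by omega)
  rw [eq_top_iff]
  intro A _
  refine SLn_transvection_induction (fun A => A ∈ commutator (SpecialLinearGroup ι F)) ?_
    (fun _ _ => mul_mem) A
  intro i j hij c
  obtain ⟨k, hki, hkj⟩ : ∃ k, k ≠ i ∧ k ≠ j := by
    by_contra hne
    push Not at hne
    have : Finset.univ ⊆ ({i, j} : Finset ι) := by
      intro k _
      by_cases hk : k = i
      · simp [hk]
      · simp [hne k hk]
    have := Finset.card_le_card this
    rw [Finset.card_univ] at this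
    have h2 : ({i, j} : Finset ι).card ≤ 2 := Finset.card_le_two
    omega
  rw [transvection_eq_commutator hij hki.symm hkj c]
  exact Subgroup.commutator_mem_commutator (Subgroup.mem_top _) (Subgroup.mem_top _)

/-- key matrix computation: if the commutator of `1 + E` and `A` is a scalar then `A` commutes with `E` -/
theorem commute_single_of_comm_scalar {i j : ι} (hij : i ≠ j) (A B : Matrix ι ι F) (hAB : A * B = 1) (hBA : B * A = 1)
    (r : F) (h : (1 + single i j (1 : F)) * A * (1 - single i j (1 : F)) * B = r • (1 : Matrix ι ι F)) :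
    Commute (single i j (1 : F)) A := by
  set E := single i j (1 : F) with hE
  have hEE : E * E = 0 := single_mul_single_of_ne _ _ _ _ hij.symm _
  set M := A * E * B with hM
  have hMM : M * M = 0 := by
    rw [hM]
    calc A * E * B * (A * E * B) = A * E * (B * A) * E * B := by simp only [mul_assoc]
      _ = A * (E * E) * B := by rw [hBA, mul_one, mul_assoc A E E]
      _ = 0 := by rw [hEE, mul_zero, zero_mul]
  have h1 : (1 + E) * (1 - M) = r • (1 : Matrix ι ι F) := by
    rw [← h, hM]
    calc (1 + E) * (1 - A * E * B) = (1 + E) * (A * B - A * E * B) := by rw [hAB]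
      _ = (1 + E) * A * (1 - E) * B := by
        simp only [mul_sub, sub_mul, mul_one, mul_assoc]
  have h2 : E * M = (1 - r) • E := by
    have := congrArg (fun X => E * X) h1
    simp only [mul_smul_comm, mul_one] at this
    rw [← mul_assoc, mul_add, mul_one, hEE, add_zero, mul_sub, mul_one] at this
    rw [sub_smul, one_smul, ← this]
    abel
  have h3 : M = (1 - r) • (1 : Matrix ι ι F) + r • E := by
    have h1' := h1
    rw [add_mul, one_mul, mul_sub, mul_one, h2] at h1'
    rw [sub_smul, one_smul, ← h1', sub_smul, one_smul]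
    abel
  have h4 : r = 1 := by
    have h5 : ((1 - r) * (1 - r)) • (1 : Matrix ι ι F) + ((1 - r) * r + r * (1 - r)) • E = 0 := by
      rw [← hMM, h3]
      simp only [add_mul, mul_add, smul_mul_assoc, mul_smul_comm, one_mul, mul_one, hEE, smul_zero, add_zero]
      module
    have h6 := congrFun (congrFun h5 i) i
    simp only [Matrix.add_apply, Matrix.smul_apply, one_apply_eq, Matrix.zero_apply, hE, single_apply, hij.symm,
      and_false, if_false, smul_eq_mul, mul_zero, mul_one, add_zero] at h6
    have := mul_self_eq_zero.mp h6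
    exact (sub_eq_zero.mp this).symm
  rw [h4, sub_self, zero_smul, zero_add, one_smul] at h3
  -- M = E
  show E * A = A * E
  calc E * A = M * A := by rw [h3]
    _ = A * E * (B * A) := by rw [hM]; simp only [mul_assoc]
    _ = A * E := by rw [hBA, mul_one]

open MulAction in
theorem SLn_normal_dichotomy [Nontrivial ι] (hperf : commutator (SpecialLinearGroup ι F) = ⊤)
    (G : Subgroup (GL ι F))
    (hG : ∀ s : SpecialLinearGroup ι F, ∀ g ∈ G,
      (SpecialLinearGroup.toGL s) * g * (SpecialLinearGroup.toGL s)⁻¹ ∈ G) :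
    (∀ g ∈ G, ∃ c : F, (g : Matrix ι ι F) = c • (1 : Matrix ι ι F)) ∨
      (SpecialLinearGroup.toGL : SpecialLinearGroup ι F →* _).range ≤ G := by
  classical
  let N : Subgroup (SpecialLinearGroup ι F) := G.comap SpecialLinearGroup.toGL
  have hN : N.Normal := by
    constructor
    intro x hx s
    show SpecialLinearGroup.toGL (s * x * s⁻¹) ∈ G
    rw [map_mul, map_mul, map_inv]
    exact hG s _ hx
  by_cases hfix : fixedPoints N (ℙ F (ι → F)) = Set.univ
  · left
    intro g hg
    have hmem : (g : Matrix ι ι F) ∈ Set.range (Matrix.scalar ι) := by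
      apply mem_range_scalar_of_commute_single
      intro i j hij
      set T := SpecialLinearGroup.transvection hij (1 : F) with hT
      -- the commutator element
      have hc : SpecialLinearGroup.toGL T * g * (SpecialLinearGroup.toGL T)⁻¹ * g⁻¹ ∈ G :=
        G.mul_mem (hG T g hg) (G.inv_mem hg)
      -- it lies in SL
      have hdet : ((SpecialLinearGroup.toGL T * g * (SpecialLinearGroup.toGL T)⁻¹ * g⁻¹ : GL ι F) :
          Matrix ι ι F).det = 1 := by
        have h1 : Matrix.GeneralLinearGroup.det (SpecialLinearGroup.toGL T * g * (SpecialLinearGroup.toGL T)⁻¹ * g⁻¹) = 1 := by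
          rw [map_mul, map_mul, map_mul, map_inv, map_inv]
          have : Matrix.GeneralLinearGroup.det (SpecialLinearGroup.toGL T) = 1 := by
            ext
            simp
          rw [this, one_mul, inv_one, mul_one, mul_inv_cancel]
        rw [← Matrix.GeneralLinearGroup.val_det_apply, h1, Units.val_one]
      obtain ⟨c', hc'⟩ : ∃ c' : SpecialLinearGroup ι F, SpecialLinearGroup.toGL c' =
          SpecialLinearGroup.toGL T * g * (SpecialLinearGroup.toGL T)⁻¹ * g⁻¹ :=
        ⟨⟨_, hdet⟩, by ext; rfl⟩
      have hc'N : c' ∈ N := by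
        show SpecialLinearGroup.toGL c' ∈ G
        rw [hc']; exact hc
      have hker : c' ∈ (MulAction.toPermHom (SpecialLinearGroup ι F) (ℙ F (ι → F))).ker := by
        rw [MonoidHom.mem_ker]
        ext p
        have hp : p ∈ fixedPoints N (ℙ F (ι → F)) := by rw [hfix]; trivial
        exact hp ⟨c', hc'N⟩
      rw [Projectivization.SL_mulAction_ker, Matrix.SpecialLinearGroup.mem_center_iff] at hker
      obtain ⟨r, -, hr⟩ := hker
      have hval : (c' : Matrix ι ι F) = (1 + single i j (1 : F)) * (g : Matrix ι ι F) * (1 - single i j (1 : F)) *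
          ((g⁻¹ : GL ι F) : Matrix ι ι F) := by
        have h1 : ((SpecialLinearGroup.toGL c' : GL ι F) : Matrix ι ι F) =
            ((SpecialLinearGroup.toGL T * g * (SpecialLinearGroup.toGL T)⁻¹ * g⁻¹ : GL ι F) : Matrix ι ι F) := by
          rw [hc']
        rw [SpecialLinearGroup.coe_GL_coe_matrix] at h1
        rw [h1]
        have hTinv : ((SpecialLinearGroup.toGL T)⁻¹ : GL ι F) = SpecialLinearGroup.toGL (T⁻¹) := by
          rw [map_inv]
        rw [hTinv, Units.val_mul, Units.val_mul, Units.val_mul, SpecialLinearGroup.coe_GL_coe_matrix,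
          SpecialLinearGroup.coe_GL_coe_matrix, hT, SpecialLinearGroup.transvection_inv,
          SpecialLinearGroup.transvection_coe, SpecialLinearGroup.transvection_coe, ← single_neg, sub_eq_add_neg]
      apply commute_single_of_comm_scalar hij (g : Matrix ι ι F) ((g⁻¹ : GL ι F) : Matrix ι ι F)
        (by rw [← Units.val_mul, mul_inv_cancel, Units.val_one])
        (by rw [← Units.val_mul, inv_mul_cancel, Units.val_one]) r
      rw [← hval, ← hr]
      ext a b
      simp [Matrix.scalar_apply, Matrix.diagonal_apply, Matrix.one_apply]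
    obtain ⟨c, hc⟩ := hmem
    refine ⟨c, ?_⟩
    rw [← hc]
    ext a b
    simp [Matrix.scalar_apply, Matrix.diagonal_apply, Matrix.one_apply]
  · right
    have hle := (SLn_Iwasawa (F := F) (ι := ι)).commutator_le N hfix
    rw [hperf] at hle
    rintro _ ⟨s, rfl⟩
    exact hle (Subgroup.mem_top s)

end Cfsg.Agent.Lib.Helper15
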