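import Mathlib
import Cfsg.Prelude.Def_GeometricClasses
import Cfsg.Agent.Lib.Helper15.SLNormal

/-!
# Monomial groups: core definitions for the maximality of `Mon ∩ SL_n` in `SL_n` (S5634, `m = 1`)
-/

set_option autoImplicit false
set_option linter.unusedSectionVars false

namespace Cfsg.Agent.Lib.Helper15.MonoMax

open Matrix

variable {ι : Type} [Fintype ι] [DecidableEq ι] {F : Type*} [Field F]

/-- `A` is monomial: for some permutation `σ`, `A i j = 0` unless `i = σ j`. -/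
def IsMono (A : Matrix ι ι F) : Prop := ∃ σ : Equiv.Perm ι, ∀ i j, i ≠ σ j → A i j = 0

theorem isMono_one : IsMono (1 : Matrix ι ι F) :=
  ⟨1, fun i j h => Matrix.one_apply_ne (by simpa using h)⟩

theorem IsMono.mul {A B : Matrix ι ι F} (hA : IsMono A) (hB : IsMono B) : IsMono (A * B) := by
  obtain ⟨σ, hσ⟩ := hA
  obtain ⟨τ, hτ⟩ := hB
  refine ⟨τ.trans σ, fun i j hij => ?_⟩
  rw [Matrix.mul_apply]
  apply Finset.sum_eq_zero
  intro l _
  by_cases hl : l = τ j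
  · subst hl
    rw [hσ i (τ j) (by simpa using hij), zero_mul]
  · rw [hτ l j hl, mul_zero]

/-- the nonzero entry of a monomial invertible matrix -/
theorem IsMono.entry_ne_zero {A B : Matrix ι ι F} (hBA : B * A = 1) {σ : Equiv.Perm ι}
    (hσ : ∀ i j, i ≠ σ j → A i j = 0) (j : ι) : A (σ j) j ≠ 0 := by
  intro h0
  have h1 : (B * A) j j = 1 := by rw [hBA, Matrix.one_apply_eq]
  rw [Matrix.mul_apply] at h1
  have : ∑ l, B j l * A l j = 0 := by
    apply Finset.sum_eq_zero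
    intro l _
    by_cases hl : l = σ j
    · subst hl; rw [h0, mul_zero]
    · rw [hσ l j hl, mul_zero]
  rw [this] at h1
  exact zero_ne_one h1

theorem isMono_inv (g : GL ι F) (h : IsMono (g : Matrix ι ι F)) :
    IsMono ((g⁻¹ : GL ι F) : Matrix ι ι F) := by
  obtain ⟨σ, hσ⟩ := h
  refine ⟨σ.symm, fun i j hij => ?_⟩
  -- (g⁻¹ * g) i (σ⁻¹ ... ) : use g⁻¹ g = 1 at column σ.symm j ... we show g⁻¹ i j * g j (σ⁻¹ j) = 0
  have hinv : ((g⁻¹ : GL ι F) : Matrix ι ι F) * (g : Matrix ι ι F) = 1 := by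
    rw [← Units.val_mul, inv_mul_cancel, Units.val_one]
  have hne := IsMono.entry_ne_zero hinv hσ (σ.symm j)
  rw [Equiv.apply_symm_apply] at hne
  have h1 : (((g⁻¹ : GL ι F) : Matrix ι ι F) * (g : Matrix ι ι F)) i (σ.symm j) = 0 := by
    rw [hinv, Matrix.one_apply_ne hij]
  rw [Matrix.mul_apply, Finset.sum_eq_single j] at h1
  · exact (mul_eq_zero.mp h1).resolve_right hne
  · intro l _ hl
    rw [hσ l (σ.symm j) (by rwa [Equiv.apply_symm_apply]), mul_zero]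
  · intro hj; exact absurd (Finset.mem_univ j) hj

/-- the monomial subgroup of `GL ι F` -/
def Mon (ι : Type) [Fintype ι] [DecidableEq ι] (F : Type*) [Field F] : Subgroup (GL ι F) where
  carrier := {g | IsMono (g : Matrix ι ι F)}
  mul_mem' {a b} ha hb := by
    change IsMono ((a * b : GL ι F) : Matrix ι ι F)
    rw [Units.val_mul]
    exact IsMono.mul ha hb
  one_mem' := by
    change IsMono ((1 : GL ι F) : Matrix ι ι F)
    rw [Units.val_one]
    exact isMono_one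
  inv_mem' {a} ha := isMono_inv a ha

theorem mem_Mon {g : GL ι F} : g ∈ Mon ι F ↔ IsMono (g : Matrix ι ι F) := Iff.rfl

/-- `Mon ∩ SL` -/
def HH (ι : Type) [Fintype ι] [DecidableEq ι] (F : Type*) [Field F] : Subgroup (GL ι F) :=
  Mon ι F ⊓ Cfsg.Geo.specialLinear ι F

theorem mem_SL_iff {g : GL ι F} :
    g ∈ Cfsg.Geo.specialLinear ι F ↔ (g : Matrix ι ι F).det = 1 := by
  change Matrix.GeneralLinearGroup.det g = 1 ↔ _
  rw [Units.ext_iff, Matrix.GeneralLinearGroup.val_det_apply, Units.val_one]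

theorem mem_HH {g : GL ι F} :
    g ∈ HH ι F ↔ IsMono (g : Matrix ι ι F) ∧ (g : Matrix ι ι F).det = 1 := by
  rw [HH, Subgroup.mem_inf, mem_Mon, mem_SL_iff]

/-- The "TI" hypothesis: an element of `K` one of whose columns is supported on a single
coordinate is monomial. -/
def TI (K : Subgroup (GL ι F)) : Prop :=
  ∀ k ∈ K, ∀ i j : ι, (∀ i', i' ≠ j → (k : Matrix ι ι F) i' i = 0) → k ∈ Mon ι F

/-! ### transvections (general index type; after helper13's `TransvSL`) -/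

/-- the transvection `x ↦ x + φ(x) a` -/
def tv (a φ : ι → F) : Matrix ι ι F := 1 + vecMulVec a φ

theorem tv_mulVec (a φ x : ι → F) : tv a φ *ᵥ x = x + (φ ⬝ᵥ x) • a := by
  rw [tv, add_mulVec, one_mulVec, vecMulVec_mulVec]
  congr 1
  ext i
  simp [mul_comm]

theorem tv_det (a φ : ι → F) (h : φ ⬝ᵥ a = 0) : (tv a φ).det = 1 := by
  rw [tv, Matrix.vecMulVec_eq Unit, Matrix.det_one_add_replicateCol_mul_replicateRow, h, add_zero]

theorem tv_mul_tv_neg (a φ : ι → F) (h : φ ⬝ᵥ a = 0) : tv a φ * tv a (-φ) = 1 := by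
  rw [tv, tv, mul_add, add_mul, add_mul, one_mul, mul_one, one_mul, vecMulVec_mul_vecMulVec, h,
    zero_smul]
  ext i j
  simp [vecMulVec_apply]

/-- the transvection as an element of `GL` -/
def tvGL (a φ : ι → F) (h : φ ⬝ᵥ a = 0) : GL ι F :=
  ⟨tv a φ, tv a (-φ), tv_mul_tv_neg a φ h, by
    have := tv_mul_tv_neg a (-φ) (by rw [neg_dotProduct, h, neg_zero])
    rwa [neg_neg] at this⟩

@[simp] theorem tvGL_val (a φ : ι → F) (h : φ ⬝ᵥ a = 0) :
    ((tvGL a φ h : GL ι F) : Matrix ι ι F) = tv a φ := rfl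

theorem tvGL_mem_SL (a φ : ι → F) (h : φ ⬝ᵥ a = 0) :
    tvGL a φ h ∈ Cfsg.Geo.specialLinear ι F := by
  rw [mem_SL_iff, tvGL_val, tv_det a φ h]

theorem conj_tv (k : GL ι F) (a φ : ι → F) :
    (k : Matrix ι ι F) * tv a (φ ᵥ* (k : Matrix ι ι F)) * ((k⁻¹ : GL ι F) : Matrix ι ι F) =
      tv ((k : Matrix ι ι F) *ᵥ a) φ := by
  rw [tv, tv, mul_add, add_mul, mul_one, mul_vecMulVec, vecMulVec_mul, vecMul_vecMul,
    ← Units.val_mul, mul_inv_cancel, Units.val_one, vecMul_one]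

/-- all transvections in the direction `a` belong to `M` -/
def TvIn (M : Subgroup (GL ι F)) (a : ι → F) : Prop :=
  ∀ φ : ι → F, φ ⬝ᵥ a = 0 → ∀ g : GL ι F, (g : Matrix ι ι F) = tv a φ → g ∈ M

/-- column `m` of `g` -/
def colv (g : GL ι F) (m : ι) : ι → F := fun a => (g : Matrix ι ι F) a m

theorem colv_eq_mulVec (g : GL ι F) (m : ι) :
    colv g m = (g : Matrix ι ι F) *ᵥ Pi.single m 1 := by
  rw [Matrix.mulVec_single_one]; rfl

/-- diagonal element of `GL` -/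
def dg (t : ι → Fˣ) : GL ι F :=
  ⟨Matrix.diagonal (fun i => (t i : F)), Matrix.diagonal (fun i => ((t i)⁻¹ : Fˣ)),
    by rw [Matrix.diagonal_mul_diagonal]; simp,
    by rw [Matrix.diagonal_mul_diagonal]; simp⟩

@[simp] theorem dg_val (t : ι → Fˣ) :
    ((dg t : GL ι F) : Matrix ι ι F) = Matrix.diagonal (fun i => (t i : F)) := rfl

theorem dg_mem_Mon (t : ι → Fˣ) : dg t ∈ Mon ι F :=
  ⟨1, fun i j h => by rw [dg_val]; exact Matrix.diagonal_apply_ne _ (by simpa using h)⟩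

theorem dg_mem_HH (t : ι → Fˣ) (h : ∏ i, t i = 1) : dg t ∈ HH ι F := by
  rw [mem_HH]
  refine ⟨dg_mem_Mon t, ?_⟩
  rw [dg_val, Matrix.det_diagonal, ← Units.coe_prod, h, Units.val_one]

/-- the torus parameter `δ_{kl}(x)`: `x` at `k`, `x⁻¹` at `l`, `1` elsewhere -/
def delta (k l : ι) (x : Fˣ) : ι → Fˣ := fun i => if i = k then x else if i = l then x⁻¹ else 1

theorem prod_delta {k l : ι} (hkl : k ≠ l) (x : Fˣ) : ∏ i, delta k l x i = 1 := by
  have h1 : ∀ i, delta k l x i = (if i = k then x else 1) * (if i = l then x⁻¹ else 1) := by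
    intro i
    unfold delta
    by_cases hk : i = k
    · subst hk; simp [hkl]
    · by_cases hl : i = l
      · subst hl; simp [hk]
      · simp [hk, hl]
  simp_rw [h1]
  rw [Finset.prod_mul_distrib, Finset.prod_ite_eq' , Finset.prod_ite_eq']
  simp

/-- the scaled swap of the coordinates `a`, `b` fixing `v` (a reflection):
`1 - ξ η` with `ξ = v_a e_a - v_b e_b`, `η = v_a⁻¹ e_a* - v_b⁻¹ e_b*`. -/
def sswap (v : ι → F) (a b : ι) : Matrix ι ι F :=
  1 - vecMulVec (v a • Pi.single a 1 - v b • Pi.single b 1)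
        ((v a)⁻¹ • Pi.single a 1 - (v b)⁻¹ • Pi.single b 1)

/-- the diagonal reflection `d_e(-1)` -/
def dneg (e : ι) : Matrix ι ι F := Matrix.diagonal (fun i => if i = e then (-1 : F) else 1)

/-- sum over `ι` split at `i₀` -/
theorem sum_split (i₀ : ι) (f : ι → F) :
    ∑ l, f l = f i₀ + ∑ l : {j : ι // j ≠ i₀}, f l := by
  rw [← Finset.add_sum_erase Finset.univ f (Finset.mem_univ i₀)]
  congr 1
  rw [← Finset.sum_subtype (Finset.univ.erase i₀) (fun x => by simp) f]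

/-- `k` fixes the line `⟨e_{i₀}⟩` -/
def FixPt (i₀ : ι) (k : Matrix ι ι F) : Prop := ∀ j : {j : ι // j ≠ i₀}, k j i₀ = 0

/-- the block of `k` on the coordinates `≠ i₀` -/
def blockOf (i₀ : ι) (k : Matrix ι ι F) : Matrix {j : ι // j ≠ i₀} {j : ι // j ≠ i₀} F :=
  fun a b => k a b

theorem FixPt.mul {i₀ : ι} {k₁ k₂ : Matrix ι ι F} (h₁ : FixPt i₀ k₁) (h₂ : FixPt i₀ k₂) :
    FixPt i₀ (k₁ * k₂) := by
  intro j
  rw [Matrix.mul_apply, sum_split i₀, h₁ j, zero_mul, zero_add]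
  apply Finset.sum_eq_zero
  intro l _
  rw [h₂ l, mul_zero]

theorem blockOf_mul {i₀ : ι} {k₁ k₂ : Matrix ι ι F} (h₁ : FixPt i₀ k₁) :
    blockOf i₀ (k₁ * k₂) = blockOf i₀ k₁ * blockOf i₀ k₂ := by
  ext a b
  change (k₁ * k₂) a b = _
  rw [Matrix.mul_apply, sum_split i₀, h₁ a, zero_mul, zero_add, Matrix.mul_apply]
  rfl

theorem FixPt.inv {i₀ : ι} (k : GL ι F) (h : FixPt i₀ (k : Matrix ι ι F)) :
    FixPt i₀ ((k⁻¹ : GL ι F) : Matrix ι ι F) := by
  -- k e_{i₀} = λ e_{i₀} with λ = k i₀ i₀ ≠ 0, so k⁻¹ e_{i₀} = λ⁻¹ e_{i₀}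
  have hk : (k : Matrix ι ι F) *ᵥ Pi.single i₀ 1 = (k : Matrix ι ι F) i₀ i₀ • Pi.single i₀ 1 := by
    rw [Matrix.mulVec_single_one]
    ext a
    by_cases ha : a = i₀
    · subst ha; simp [Matrix.col_apply]
    · have := h ⟨a, ha⟩
      simp [Matrix.col_apply, ha, this]
  have hinv : ((k⁻¹ : GL ι F) : Matrix ι ι F) * (k : Matrix ι ι F) = 1 := by
    rw [← Units.val_mul, inv_mul_cancel, Units.val_one]
  have h1 : ((k⁻¹ : GL ι F) : Matrix ι ι F) *ᵥ ((k : Matrix ι ι F) *ᵥ Pi.single i₀ 1) = Pi.single i₀ 1 := by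
    rw [Matrix.mulVec_mulVec, hinv, Matrix.one_mulVec]
  rw [hk, Matrix.mulVec_smul, Matrix.mulVec_single_one] at h1
  have hne : (k : Matrix ι ι F) i₀ i₀ ≠ 0 := by
    intro h0
    rw [h0, zero_smul] at h1
    have := congrFun h1 i₀
    simp at this
  intro j
  have := congrFun h1 j
  simp only [Pi.smul_apply, Matrix.col_apply, smul_eq_mul, Pi.single_apply, if_neg j.2] at this
  exact (mul_eq_zero.mp this).resolve_left hne

/-- the image in `GL {j // j ≠ i₀}` of the stabiliser of `⟨e_{i₀}⟩` in `K` -/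
def quotGroup (K : Subgroup (GL ι F)) (i₀ : ι) : Subgroup (GL {j : ι // j ≠ i₀} F) where
  carrier := {B : GL {j : ι // j ≠ i₀} F | ∃ k ∈ K, FixPt i₀ (k : Matrix ι ι F) ∧
    blockOf i₀ (k : Matrix ι ι F) = (B : Matrix {j : ι // j ≠ i₀} {j : ι // j ≠ i₀} F)}
  mul_mem' := by
    rintro B₁ B₂ ⟨k₁, hk₁, hf₁, hb₁⟩ ⟨k₂, hk₂, hf₂, hb₂⟩
    refine ⟨k₁ * k₂, K.mul_mem hk₁ hk₂, ?_, ?_⟩
    · rw [Units.val_mul]; exact hf₁.mul hf₂
    · rw [Units.val_mul, blockOf_mul hf₁, hb₁, hb₂, Units.val_mul]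
  one_mem' := by
    refine ⟨1, K.one_mem, ?_, ?_⟩
    · intro j; rw [Units.val_one, Matrix.one_apply_ne j.2]
    · ext a b
      change ((1 : GL ι F) : Matrix ι ι F) a b = _
      rw [Units.val_one, Units.val_one, Matrix.one_apply, Matrix.one_apply]
      simp [Subtype.ext_iff]
  inv_mem' := by
    rintro B ⟨k, hk, hf, hb⟩
    refine ⟨k⁻¹, K.inv_mem hk, FixPt.inv k hf, ?_⟩
    have h1 : blockOf i₀ ((k⁻¹ : GL ι F) : Matrix ι ι F) * (B : Matrix {j : ι // j ≠ i₀} {j : ι // j ≠ i₀} F) = 1 := by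
      rw [← hb, ← blockOf_mul (FixPt.inv k hf), ← Units.val_mul, inv_mul_cancel, Units.val_one]
      ext a b
      change (1 : Matrix ι ι F) a b = _
      rw [Matrix.one_apply, Matrix.one_apply]
      simp [Subtype.ext_iff]
    have h2 : ((B⁻¹ : GL {j : ι // j ≠ i₀} F) : Matrix {j : ι // j ≠ i₀} {j : ι // j ≠ i₀} F) = blockOf i₀ ((k⁻¹ : GL ι F) : Matrix ι ι F) := by
      have h3 : ((B⁻¹ : GL {j : ι // j ≠ i₀} F) : Matrix {j : ι // j ≠ i₀} {j : ι // j ≠ i₀} F) * (B : Matrix {j : ι // j ≠ i₀} {j : ι // j ≠ i₀} F) = 1 := by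
        rw [← Units.val_mul, inv_mul_cancel, Units.val_one]
      have hB : (B : Matrix {j : ι // j ≠ i₀} {j : ι // j ≠ i₀} F) * ((B⁻¹ : GL {j : ι // j ≠ i₀} F) : Matrix {j : ι // j ≠ i₀} {j : ι // j ≠ i₀} F) = 1 := by
        rw [← Units.val_mul, mul_inv_cancel, Units.val_one]
      calc ((B⁻¹ : GL {j : ι // j ≠ i₀} F) : Matrix {j : ι // j ≠ i₀} {j : ι // j ≠ i₀} F)
          = (blockOf i₀ ((k⁻¹ : GL ι F) : Matrix ι ι F) * (B : Matrix {j : ι // j ≠ i₀} {j : ι // j ≠ i₀} F)) *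
              ((B⁻¹ : GL {j : ι // j ≠ i₀} F) : Matrix {j : ι // j ≠ i₀} {j : ι // j ≠ i₀} F) := by rw [h1, one_mul]
        _ = blockOf i₀ ((k⁻¹ : GL ι F) : Matrix ι ι F) := by rw [mul_assoc, hB, mul_one]
    exact h2.symm

theorem mem_quotGroup {K : Subgroup (GL ι F)} {i₀ : ι} {B : GL {j : ι // j ≠ i₀} F} :
    B ∈ quotGroup K i₀ ↔ ∃ k ∈ K, FixPt i₀ (k : Matrix ι ι F) ∧
      blockOf i₀ (k : Matrix ι ι F) = (B : Matrix {j : ι // j ≠ i₀} {j : ι // j ≠ i₀} F) := Iff.rfl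

/-- the duality automorphism `g ↦ (g⁻¹)ᵀ` of `GL ι F` -/
def dualAut : GL ι F ≃* GL ι F where
  toFun g := ⟨((g⁻¹ : GL ι F) : Matrix ι ι F)ᵀ, (g : Matrix ι ι F)ᵀ,
    by rw [← Matrix.transpose_mul, ← Units.val_mul, mul_inv_cancel, Units.val_one, Matrix.transpose_one],
    by rw [← Matrix.transpose_mul, ← Units.val_mul, inv_mul_cancel, Units.val_one, Matrix.transpose_one]⟩
  invFun g := ⟨((g⁻¹ : GL ι F) : Matrix ι ι F)ᵀ, (g : Matrix ι ι F)ᵀ,
    by rw [← Matrix.transpose_mul, ← Units.val_mul, mul_inv_cancel, Units.val_one, Matrix.transpose_one],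
    by rw [← Matrix.transpose_mul, ← Units.val_mul, inv_mul_cancel, Units.val_one, Matrix.transpose_one]⟩
  left_inv g := by
    apply Units.ext
    change ((g : Matrix ι ι F)ᵀ)ᵀ = (g : Matrix ι ι F)
    exact Matrix.transpose_transpose _
  right_inv g := by
    apply Units.ext
    change ((g : Matrix ι ι F)ᵀ)ᵀ = (g : Matrix ι ι F)
    exact Matrix.transpose_transpose _
  map_mul' a b := by
    apply Units.ext
    change (((a * b)⁻¹ : GL ι F) : Matrix ι ι F)ᵀ =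
      ((a⁻¹ : GL ι F) : Matrix ι ι F)ᵀ * ((b⁻¹ : GL ι F) : Matrix ι ι F)ᵀ
    rw [_root_.mul_inv_rev, Units.val_mul, Matrix.transpose_mul]

theorem dualAut_val (g : GL ι F) :
    ((dualAut g : GL ι F) : Matrix ι ι F) = ((g⁻¹ : GL ι F) : Matrix ι ι F)ᵀ := rfl

theorem dualAut_inv_val (g : GL ι F) :
    (((dualAut g)⁻¹ : GL ι F) : Matrix ι ι F) = (g : Matrix ι ι F)ᵀ := rfl

end Cfsg.Agent.Lib.Helper15.MonoMax
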