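import Mathlib
import Cfsg.Prelude.Def_GeometricClasses
import Cfsg.Agent.Lib.Helper13.TensorNM
import Cfsg.Agent.Lib.Helper15.MonoA

/-!
# S5634, blocks of dimension `m ≥ 2`: core definitions ("BlkMax")

Adapted coordinates `Fin t × Fin m`; block `k` = the coordinates `(k, ·)`.
-/

set_option autoImplicit false

namespace Cfsg.Agent.Lib.Helper15.BlkMax

open Matrix Cfsg.Agent.Lib.Helper15.MonoMax

section general
variable {ι : Type} [Fintype ι] [DecidableEq ι] {F : Type*} [Field F]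

/-- "the transvection `tv c ψ` belongs to `M`" (used only together with `ψ ⬝ᵥ c = 0`) -/
def InTv (M : Subgroup (GL ι F)) (c ψ : ι → F) : Prop :=
  ∀ g : GL ι F, (g : Matrix ι ι F) = tv c ψ → g ∈ M

theorem tvIn_iff_inTv (M : Subgroup (GL ι F)) (a : ι → F) :
    TvIn M a ↔ ∀ φ : ι → F, φ ⬝ᵥ a = 0 → InTv M a φ := Iff.rfl

theorem inTv_iff (M : Subgroup (GL ι F)) (c ψ : ι → F) (h : ψ ⬝ᵥ c = 0) :
    InTv M c ψ ↔ tvGL c ψ h ∈ M := by
  constructor
  · intro H; exact H _ rfl
  · intro H g hg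
    have : g = tvGL c ψ h := Units.ext (by rw [hg, tvGL_val])
    rw [this]; exact H

end general

section blocks
variable {t m : ℕ} {F : Type*} [Field F]

/-- `x` is supported on block `k` -/
def OnBlk (k : Fin t) (x : Fin t × Fin m → F) : Prop :=
  ∀ a : Fin t × Fin m, a.1 ≠ k → x a = 0

theorem onBlk_iff_mem_blk (k : Fin t) (x : Fin t × Fin m → F) :
    OnBlk k x ↔ x ∈ Cfsg.Agent.Lib.Helper13.TNM.blk (F := F)
      (Prod.fst : Fin t × Fin m → Fin t) k := Iff.rfl

/-- the block stabiliser inside `SL`, in adapted coordinates -/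
def SS (t m : ℕ) (F : Type*) [Field F] : Subgroup (GL (Fin t × Fin m) F) :=
  Cfsg.Geo.decompositionStabilizer
      (Cfsg.Agent.Lib.Helper13.TNM.blk (F := F) (Prod.fst : Fin t × Fin m → Fin t)) ⊓
    Cfsg.Geo.specialLinear (Fin t × Fin m) F

/-- the goal of the commutator moves: a transvection of `M` with centre in block `k` and axis
not supported on block `k` -/
def Goal (M : Subgroup (GL (Fin t × Fin m) F)) : Prop :=
  ∃ (k : Fin t) (b θ : Fin t × Fin m → F), b ≠ 0 ∧ OnBlk k b ∧ θ ⬝ᵥ b = 0 ∧ ¬ OnBlk k θ ∧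
    InTv M b θ

end blocks

end Cfsg.Agent.Lib.Helper15.BlkMax
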