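import Mathlib

/-!
# S2362, part 1: elements of primitive prime order acting on a finite vector space
-/

set_option autoImplicit false

namespace Cfsg.Agent.Lib.Helper15.OddSp

open Module

/-- a primitive prime divisor of `q ^ d - 1` dividing `q ^ m - 1` forces `d ∣ m` -/
theorem ppd_dvd {q r d m : ℕ} (hd0 : 0 < d) (hrd : r ∣ q ^ d - 1)
    (hd : ∀ k, 0 < k → k < d → ¬ r ∣ q ^ k - 1) (hm : r ∣ q ^ m - 1) : d ∣ m := by
  have h1 : r ∣ Nat.gcd (q ^ d - 1) (q ^ m - 1) := Nat.dvd_gcd hrd hm
  rw [Nat.pow_sub_one_gcd_pow_sub_one] at h1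
  have h2 : 0 < Nat.gcd d m := Nat.gcd_pos_of_pos_left m hd0
  have h3 : Nat.gcd d m ≤ d := Nat.gcd_le_left m hd0
  have h4 : Nat.gcd d m = d := by
    by_contra hne
    exact hd _ h2 (lt_of_le_of_ne h3 hne) h1
  rw [← h4]
  exact Nat.gcd_dvd_right d m

section lin

variable {F : Type*} [Field F] [Fintype F] {V : Type*} [AddCommGroup V] [Module F V]
  [FiniteDimensional F V]

/-- an endomorphism of prime order `r` acting without nonzero fixed points on an invariant
subspace `U`: then `r ∣ q ^ dim U - 1` -/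
theorem dvd_card_sub_one_of_free (h : Module.End F V) (r : ℕ) (hr : r.Prime) (hh : h ^ r = 1)
    (U : Submodule F V) (hU : ∀ x ∈ U, h x ∈ U) (hfix : ∀ x ∈ U, h x = x → x = 0) :
    r ∣ Fintype.card F ^ finrank F U - 1 := by
  classical
  have : Fact r.Prime := ⟨hr⟩
  have hfinV : Finite V := Module.finite_of_finite F
  have : Fintype U := Fintype.ofFinite _
  let f : Function.End U := fun x => ⟨h x, hU x x.2⟩
  have hfpow : ∀ k : ℕ, ∀ x : U, ((f ^ k) x : V) = (h ^ k) x := by
    intro k
    induction k with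
    | zero => intro x; rfl
    | succ k ih =>
      intro x
      rw [pow_succ', pow_succ']
      show ((f ((f ^ k) x) : U) : V) = h ((h ^ k) x)
      rw [← ih x]
  have hf : f ^ r ^ 1 = 1 := by
    rw [pow_one]
    funext x
    apply Subtype.ext
    rw [hfpow, hh]
    rfl
  have h1 := Equiv.Perm.card_fixedPoints_modEq hf
  have h2 : Fintype.card (Function.fixedPoints f) = 1 := by
    rw [Fintype.card_eq_one_iff]
    refine ⟨⟨0, ?_⟩, ?_⟩
    · show f 0 = 0
      apply Subtype.ext
      show h ((0 : U) : V) = ((0 : U) : V)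
      rw [Submodule.coe_zero, map_zero]
    · rintro ⟨x, hx⟩
      apply Subtype.ext
      apply Subtype.ext
      show (x : V) = 0
      apply hfix x x.2
      have := congrArg Subtype.val hx
      exact this
  rw [h2, Module.card_eq_pow_finrank (K := F) (V := U)] at h1
  exact (Nat.modEq_iff_dvd' (Nat.one_le_pow _ _ Fintype.card_pos)).mp h1.symm

/-- the counting lemma: the dimension of a free invariant subspace is a multiple of `d` -/
theorem dvd_finrank_of_free (h : Module.End F V) (r : ℕ) (hr : r.Prime) (hh : h ^ r = 1)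
    (d : ℕ) (hd0 : 0 < d) (hrd : r ∣ Fintype.card F ^ d - 1)
    (hd : ∀ k, 0 < k → k < d → ¬ r ∣ Fintype.card F ^ k - 1)
    (U : Submodule F V) (hU : ∀ x ∈ U, h x ∈ U) (hfix : ∀ x ∈ U, h x = x → x = 0) :
    d ∣ finrank F U :=
  ppd_dvd hd0 hrd hd (dvd_card_sub_one_of_free h r hr hh U hU hfix)

omit [Fintype F] [FiniteDimensional F V] in
/-- the fixed space and the image of `h - 1` are disjoint -/
theorem disjoint_ker_range (h : Module.End F V) (r : ℕ) (hh : h ^ r = 1) (hrF : (r : F) ≠ 0) :
    Disjoint (LinearMap.ker (h - 1)) (LinearMap.range (h - 1)) := by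
  rw [Submodule.disjoint_def]
  intro v hv0 hv1
  rw [LinearMap.mem_ker, LinearMap.sub_apply, Module.End.one_apply, sub_eq_zero] at hv0
  obtain ⟨w, rfl⟩ := hv1
  set v := (h - 1) w with hvdef
  have hpow : ∀ i : ℕ, (h ^ i) v = v := by
    intro i
    induction i with
    | zero => rfl
    | succ i ih => rw [pow_succ, Module.End.mul_apply, hv0, ih]
  have h1 : (∑ i ∈ Finset.range r, h ^ i) v = (r : F) • v := by
    rw [LinearMap.sum_apply]
    simp only [hpow, Finset.sum_const, Finset.card_range]
    rw [Nat.cast_smul_eq_nsmul]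
  have h2 : (∑ i ∈ Finset.range r, h ^ i) v = 0 := by
    rw [hvdef, ← Module.End.mul_apply, geom_sum_mul, hh, sub_self, LinearMap.zero_apply]
  rw [h1] at h2
  exact (smul_eq_zero.1 h2).resolve_left hrF

omit [Fintype F] in
/-- the fixed space and the image of `h - 1` are complementary -/
theorem isCompl_ker_range (h : Module.End F V) (r : ℕ) (hh : h ^ r = 1) (hrF : (r : F) ≠ 0) :
    IsCompl (LinearMap.ker (h - 1)) (LinearMap.range (h - 1)) := by
  have hd := disjoint_ker_range h r hh hrF
  refine ⟨hd, ?_⟩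
  rw [codisjoint_iff]
  apply Submodule.eq_top_of_disjoint _ _ _ hd
  rw [add_comm]
  exact le_of_eq (LinearMap.finrank_range_add_finrank_ker (h - 1)).symm

omit [Fintype F] [FiniteDimensional F V] in
/-- maps commuting with `h` preserve the fixed space -/
theorem map_ker_of_commute (h c : Module.End F V) (hc : c * h = h * c) (x : V)
    (hx : x ∈ LinearMap.ker (h - 1)) : c x ∈ LinearMap.ker (h - 1) := by
  rw [LinearMap.mem_ker, LinearMap.sub_apply, Module.End.one_apply, sub_eq_zero] at hx ⊢
  rw [← Module.End.mul_apply, ← hc, Module.End.mul_apply, hx]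

omit [Fintype F] [FiniteDimensional F V] in
/-- maps commuting with `h` preserve the image of `h - 1` -/
theorem map_range_of_commute (h c : Module.End F V) (hc : c * h = h * c) (x : V)
    (hx : x ∈ LinearMap.range (h - 1)) : c x ∈ LinearMap.range (h - 1) := by
  obtain ⟨w, rfl⟩ := hx
  refine ⟨c w, ?_⟩
  rw [← Module.End.mul_apply, ← Module.End.mul_apply, mul_sub, sub_mul, hc, mul_one, one_mul]

omit [Fintype F] [FiniteDimensional F V] in
/-- the image of `h - 1` is free -/
theorem free_range (h : Module.End F V) (r : ℕ) (hh : h ^ r = 1) (hrF : (r : F) ≠ 0)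
    (x : V) (hx : x ∈ LinearMap.range (h - 1)) (hfix : h x = x) : x = 0 := by
  have hd := disjoint_ker_range h r hh hrF
  rw [Submodule.disjoint_def] at hd
  apply hd x _ hx
  rw [LinearMap.mem_ker, LinearMap.sub_apply, Module.End.one_apply, hfix, sub_self]

/-- the dimension of the image of `h - 1` -/
theorem finrank_range_eq (h : Module.End F V) (r : ℕ) (hr : r.Prime) (hh : h ^ r = 1)
    (hrF : (r : F) ≠ 0) (d : ℕ) (hd0 : 0 < d) (hrd : r ∣ Fintype.card F ^ d - 1)
    (hd : ∀ k, 0 < k → k < d → ¬ r ∣ Fintype.card F ^ k - 1)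
    (hdim : finrank F V < 2 * d) (hne : h ≠ 1) :
    finrank F (LinearMap.range (h - 1)) = d := by
  have h1 : d ∣ finrank F (LinearMap.range (h - 1)) :=
    dvd_finrank_of_free h r hr hh d hd0 hrd hd _
      (fun x hx => map_range_of_commute h h rfl x hx)
      (fun x hx hfix => free_range h r hh hrF x hx hfix)
  have h2 : finrank F (LinearMap.range (h - 1)) ≤ finrank F V := Submodule.finrank_le _
  have h3 : finrank F (LinearMap.range (h - 1)) ≠ 0 := by
    intro h0
    apply hne
    have hb : LinearMap.range (h - 1) = ⊥ := Submodule.finrank_eq_zero.mp h0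
    rw [LinearMap.range_eq_bot] at hb
    exact sub_eq_zero.mp hb
  obtain ⟨c, hc⟩ := h1
  have hc1 : c = 1 := by
    have hc0 : c ≠ 0 := by
      rintro rfl
      rw [mul_zero] at hc
      exact h3 hc
    have hc2 : c < 2 := by
      by_contra hcon
      have : 2 * d ≤ d * c := by
        rw [mul_comm]
        exact Nat.mul_le_mul_left d (by omega)
      omega
    omega
  rw [hc, hc1, mul_one]

/-- the image of `h - 1` is an irreducible `h`-module -/
theorem irreducible_range (h : Module.End F V) (r : ℕ) (hr : r.Prime) (hh : h ^ r = 1)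
    (hrF : (r : F) ≠ 0) (d : ℕ) (hd0 : 0 < d) (hrd : r ∣ Fintype.card F ^ d - 1)
    (hd : ∀ k, 0 < k → k < d → ¬ r ∣ Fintype.card F ^ k - 1)
    (hdim : finrank F (LinearMap.range (h - 1)) = d)
    (U : Submodule F V) (hUle : U ≤ LinearMap.range (h - 1)) (hU : ∀ x ∈ U, h x ∈ U) :
    U = ⊥ ∨ U = LinearMap.range (h - 1) := by
  have h1 : d ∣ finrank F U :=
    dvd_finrank_of_free h r hr hh d hd0 hrd hd U hU
      (fun x hx hfix => free_range h r hh hrF x (hUle hx) hfix)
  have h2 : finrank F U ≤ d := by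
    rw [← hdim]
    exact Submodule.finrank_mono hUle
  obtain ⟨c, hc⟩ := h1
  rcases Nat.eq_zero_or_pos c with h0 | hpos
  · left
    apply Submodule.finrank_eq_zero.mp
    rw [hc, h0, mul_zero]
  · right
    apply Submodule.eq_of_le_of_finrank_eq hUle
    rw [hdim]
    have : d ≤ d * c := Nat.le_mul_of_pos_right d hpos
    omega

end lin

end Cfsg.Agent.Lib.Helper15.OddSp
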