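import Mathlib
import Cfsg.Prelude.Def_Classical

/-!
# S3589, part a: realisations of element orders by isometries of quadratic spaces (char 2)
-/

set_option autoImplicit false

namespace Cfsg.Agent.Lib.Helper15.SO8

open Module QuadraticMap

section defs

variable (F : Type*) [Field F] [Fintype F]

/-- number of zeros of a quadratic form -/
noncomputable def nz {V : Type*} [AddCommGroup V] [Module F V] (Q : QuadraticForm F V) : ℕ :=
  Nat.card {v : V // Q v = 0}

/-- `RealIn F V s N`: some quadratic form on `V` with nondegenerate polar form, with more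
(`s = true`) resp. fewer (`s = false`) than `|V| / q` zeros, admits an isometry of order `N`. -/
def RealIn (V : Type*) [AddCommGroup V] [Module F V] (s : Bool) (N : ℕ) : Prop :=
  ∃ (Q : QuadraticForm F V) (g : V ≃ₗ[F] V), (polarBilin Q).Nondegenerate ∧ (∀ v, Q (g v) = Q v) ∧
    orderOf g = N ∧
    (if s then Nat.card V < Fintype.card F * nz F Q else Fintype.card F * nz F Q < Nat.card V)

end defs

section sum

variable {F : Type*} [Field F] [Fintype F]
variable {V W : Type*} [AddCommGroup V] [Module F V] [AddCommGroup W] [Module F W]

theorem nondegenerate_prod (Q : QuadraticForm F V) (R : QuadraticForm F W)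
    (hQ : (polarBilin Q).Nondegenerate) (hR : (polarBilin R).Nondegenerate) :
    (polarBilin (Q.prod R)).Nondegenerate := by
  have hleft : ∀ u : V × W, (∀ v, polar (Q.prod R) u v = 0) → u = 0 := by
    intro u hu
    apply Prod.ext
    · apply hQ.1
      intro w
      have := hu (w, 0)
      rw [polar_prod, polar_zero_right, add_zero] at this
      exact this
    · apply hR.1
      intro t
      have := hu (0, t)
      rw [polar_prod, polar_zero_right, zero_add] at this
      exact this
  constructor
  · intro u hu
    exact hleft u hu
  · intro u hu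
    apply hleft u
    intro v
    rw [polar_comm]
    exact hu v

/-- the block-diagonal embedding as a monoid homomorphism -/
def prodCongrHom : (V ≃ₗ[F] V) × (W ≃ₗ[F] W) →* ((V × W) ≃ₗ[F] (V × W)) where
  toFun p := p.1.prodCongr p.2
  map_one' := by
    ext x <;> rfl
  map_mul' p p' := by
    ext x <;> rfl

theorem prodCongrHom_injective : Function.Injective (prodCongrHom (F := F) (V := V) (W := W)) := by
  intro p p' h
  apply Prod.ext
  · ext v
    have := congrArg (fun e : (V × W) ≃ₗ[F] (V × W) => (e (v, 0)).1) h
    exact this
  · ext w
    have := congrArg (fun e : (V × W) ≃ₗ[F] (V × W) => (e (0, w)).2) h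
    exact this

theorem orderOf_prodCongr (g : V ≃ₗ[F] V) (h : W ≃ₗ[F] W) :
    orderOf (g.prodCongr h) = Nat.lcm (orderOf g) (orderOf h) := by
  have h1 : g.prodCongr h = prodCongrHom (g, h) := rfl
  rw [h1, orderOf_injective _ prodCongrHom_injective, Prod.orderOf]

end sum

end Cfsg.Agent.Lib.Helper15.SO8
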