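import Cfsg.Agent.Lib.Helper15.Spr2

/-!
# Matrices from finite-dimensional algebras; companion matrices (for S2510)
-/

set_option autoImplicit false

namespace Cfsg.Agent.Lib.Helper15.Spr

open Matrix Polynomial

variable {F : Type*} [Field F]

theorem scalar_eq_algebraMap {d : ℕ} (ν : F) :
    Matrix.scalar (Fin d) ν = algebraMap F (Matrix (Fin d) (Fin d) F) ν := by
  rw [Matrix.scalar_apply, Matrix.algebraMap_eq_diagonal]
  rfl

/-- Regular representation of a finite-dimensional commutative `F`-algebra in matrix form. -/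
theorem exists_matrix_of_algebra {𝒜 : Type*} [CommRing 𝒜] [Algebra F 𝒜] [Module.Finite F 𝒜]
    {d : ℕ} (hd : Module.finrank F 𝒜 = d) (a : 𝒜) :
    ∃ M : Matrix (Fin d) (Fin d) F, M.det = Algebra.norm F a ∧
      (∀ (j : ℕ) (ν : F), M ^ j = Matrix.scalar (Fin d) ν ↔ a ^ j = algebraMap F 𝒜 ν) ∧
      (∀ h : F[X], Polynomial.aeval M h = 0 ↔ Polynomial.aeval a h = 0) := by
  classical
  let b : Module.Basis (Fin d) F 𝒜 := Module.finBasisOfFinrankEq F 𝒜 hd
  have hφ : Function.Injective (Algebra.leftMulMatrix b) := Algebra.leftMulMatrix_injective b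
  refine ⟨Algebra.leftMulMatrix b a, (Algebra.norm_eq_matrix_det b a).symm, ?_, ?_⟩
  · intro j ν
    rw [scalar_eq_algebraMap, ← map_pow, ← AlgHom.commutes (Algebra.leftMulMatrix b) ν]
    exact hφ.eq_iff
  · intro h
    rw [Polynomial.aeval_algHom_apply, ← map_zero (Algebra.leftMulMatrix b)]
    exact hφ.eq_iff

/-- The companion matrix of a monic polynomial, with its basic properties. -/
theorem exists_companion (g : F[X]) (hg : g.Monic) :
    ∃ M : Matrix (Fin g.natDegree) (Fin g.natDegree) F,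
      M.det = (-1) ^ g.natDegree * g.coeff 0 ∧
      (∀ (j : ℕ) (ν : F), M ^ j = Matrix.scalar (Fin g.natDegree) ν ↔ g ∣ X ^ j - C ν) ∧
      (∀ h : F[X], Polynomial.aeval M h = 0 ↔ g ∣ h) := by
  have hg0 : g ≠ 0 := hg.ne_zero
  let pb := AdjoinRoot.powerBasis hg0
  have : Module.Finite F (AdjoinRoot g) := pb.finite
  have hfr : Module.finrank F (AdjoinRoot g) = g.natDegree := by
    rw [pb.finrank, AdjoinRoot.powerBasis_dim]
  obtain ⟨M, hdet, hpow, haev⟩ := exists_matrix_of_algebra hfr (AdjoinRoot.root g)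
  have hae : ∀ h : F[X], Polynomial.aeval (AdjoinRoot.root g) h = 0 ↔ g ∣ h := by
    intro h
    rw [AdjoinRoot.aeval_eq, AdjoinRoot.mk_eq_zero]
  refine ⟨M, ?_, ?_, fun h => (haev h).trans (hae h)⟩
  · rw [hdet]
    have h1 := Algebra.PowerBasis.norm_gen_eq_coeff_zero_minpoly pb
    rw [AdjoinRoot.powerBasis_gen, AdjoinRoot.powerBasis_dim, AdjoinRoot.minpoly_root hg0,
      hg.leadingCoeff, inv_one, map_one, mul_one] at h1
    exact h1
  · intro j ν
    rw [hpow, ← hae, map_sub, map_pow, Polynomial.aeval_X, Polynomial.aeval_C, sub_eq_zero]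

/-- Facts about the minimal polynomial of an invertible matrix. -/
theorem minpoly_facts {n : ℕ} (hn : 0 < n) (M : Matrix (Fin n) (Fin n) F) (hM : M.det ≠ 0) :
    (minpoly F M).Monic ∧ 0 < (minpoly F M).natDegree ∧ (minpoly F M).natDegree ≤ n ∧
    (minpoly F M).coeff 0 ≠ 0 ∧
    (∀ (j : ℕ) (ν : F), M ^ j = Matrix.scalar (Fin n) ν ↔ minpoly F M ∣ X ^ j - C ν) := by
  have : Nonempty (Fin n) := ⟨⟨0, hn⟩⟩
  have hint : IsIntegral F M := Matrix.isIntegral M
  have hmonic := minpoly.monic hint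
  have hdvd : ∀ h : F[X], minpoly F M ∣ h ↔ Polynomial.aeval M h = 0 := fun h =>
    minpoly.dvd_iff
  refine ⟨hmonic, minpoly.natDegree_pos hint, ?_, ?_, ?_⟩
  · have h1 := Polynomial.natDegree_le_of_dvd (Matrix.minpoly_dvd_charpoly M)
      (Matrix.charpoly_monic M).ne_zero
    rwa [Matrix.charpoly_natDegree_eq_dim, Fintype.card_fin] at h1
  · intro h0
    have hX : (X : F[X]) ∣ minpoly F M := Polynomial.X_dvd_iff.mpr h0
    obtain ⟨h, hh⟩ := hX
    have h1 : Polynomial.aeval M (X * h) = 0 := by rw [← hh]; exact minpoly.aeval F M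
    rw [map_mul, Polynomial.aeval_X] at h1
    have hMu : IsUnit M := (Matrix.isUnit_iff_isUnit_det M).mpr (isUnit_iff_ne_zero.mpr hM)
    have h2 : Polynomial.aeval M h = 0 := by
      generalize Polynomial.aeval M h = Y at h1
      obtain ⟨u, hu⟩ := hMu
      have := congrArg (fun Z => (↑u⁻¹ : Matrix (Fin n) (Fin n) F) * Z) h1
      simp only [mul_zero] at this
      rw [← mul_assoc, ← hu, Units.inv_mul, one_mul] at this
      exact this
    have h3 := (hdvd h).mpr h2
    have hh0 : h ≠ 0 := by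
      rintro rfl
      rw [mul_zero] at hh
      exact hmonic.ne_zero hh
    have h4 := Polynomial.natDegree_le_of_dvd h3 hh0
    have h5 : (minpoly F M).natDegree = 1 + h.natDegree := by
      rw [hh, Polynomial.natDegree_mul Polynomial.X_ne_zero hh0, Polynomial.natDegree_X]
    omega
  · intro j ν
    rw [hdvd, map_sub, map_pow, Polynomial.aeval_X, Polynomial.aeval_C, sub_eq_zero,
      scalar_eq_algebraMap]

end Cfsg.Agent.Lib.Helper15.Spr
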