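import Mathlib
import Cfsg.Agent.Lib.Helper15.SO8a
import Cfsg.Agent.Lib.Helper15.QuadCount7
import Cfsg.Agent.Lib.Helper15.Spr3

/-!
# S3589, part f: the plus-type atoms (hyperbolic spaces)
-/

set_option autoImplicit false
set_option linter.unusedSectionVars false

namespace Cfsg.Agent.Lib.Helper15.SO8

open Module QuadraticMap Matrix

variable {F : Type*} [Field F] [Fintype F]

section dotQ

variable (F) (ι : Type*) [Fintype ι] [DecidableEq ι]

/-- the hyperbolic quadratic form `(x, y) ↦ x ⬝ y` -/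
noncomputable def dotQ : QuadraticForm F ((ι → F) × (ι → F)) :=
  LinearMap.BilinMap.toQuadraticMap
    (LinearMap.mk₂ F (fun p p' : (ι → F) × (ι → F) => p.1 ⬝ᵥ p'.2)
      (fun p p' r => by simp [add_dotProduct])
      (fun c p r => by simp [smul_dotProduct])
      (fun p r r' => by simp [dotProduct_add])
      (fun c p r => by simp [dotProduct_smul]))

theorem dotQ_apply (p : (ι → F) × (ι → F)) : dotQ F ι p = p.1 ⬝ᵥ p.2 := by
  unfold dotQ
  rw [LinearMap.BilinMap.toQuadraticMap_apply]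
  rfl

theorem polar_dotQ (p p' : (ι → F) × (ι → F)) :
    polar (dotQ F ι) p p' = p.1 ⬝ᵥ p'.2 + p'.1 ⬝ᵥ p.2 := by
  unfold polar
  rw [dotQ_apply, dotQ_apply, dotQ_apply]
  simp only [Prod.fst_add, Prod.snd_add, add_dotProduct, dotProduct_add]
  ring

theorem nondegenerate_dotQ : (polarBilin (dotQ F ι)).Nondegenerate := by
  have hleft : ∀ u : (ι → F) × (ι → F), (∀ v, polar (dotQ F ι) u v = 0) → u = 0 := by
    intro u hu
    apply Prod.ext
    · funext i
      have := hu (0, Pi.single i 1)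
      rw [polar_dotQ] at this
      simpa using this
    · funext i
      have := hu (Pi.single i 1, 0)
      rw [polar_dotQ] at this
      simpa using this
  constructor
  · intro u hu
    exact hleft u hu
  · intro u hu
    apply hleft u
    intro v
    rw [polar_comm]
    exact hu v

theorem nz_dotQ : nz F (dotQ F ι) =
    (Fintype.card F ^ Fintype.card ι - 1) * Fintype.card F ^ (Fintype.card ι - 1) +
      Fintype.card F ^ Fintype.card ι := by
  classical
  unfold nz
  have := card_hyp_value (F := F) (ι := ι) 0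
  rw [if_pos rfl] at this
  rw [← this]
  apply Nat.card_congr
  exact Equiv.subtypeEquivRight (fun p => by rw [dotQ_apply])

theorem sign_dotQ (hι : 1 ≤ Fintype.card ι) :
    Nat.card ((ι → F) × (ι → F)) < Fintype.card F * nz F (dotQ F ι) := by
  rw [nz_dotQ, Nat.card_prod, Nat.card_eq_fintype_card, Fintype.card_fun]
  set q := Fintype.card F with hq
  set n := Fintype.card ι with hn
  have hq2 : 2 ≤ q := Fintype.one_lt_card
  have h1 : q * q ^ (n - 1) = q ^ n := by
    rw [← pow_succ', Nat.sub_add_cancel hι]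
  have hQ : 2 ≤ q ^ n := by
    calc 2 ≤ q := hq2
      _ = q ^ 1 := (pow_one q).symm
      _ ≤ q ^ n := Nat.pow_le_pow_right (by omega) hι
  have h2 : q * ((q ^ n - 1) * q ^ (n - 1) + q ^ n) = (q ^ n - 1) * q ^ n + q * q ^ n := by
    rw [mul_add, ← mul_assoc, mul_comm q (q ^ n - 1), mul_assoc, h1]
  rw [h2]
  obtain ⟨Q, hQdef⟩ : ∃ Q, Q = q ^ n := ⟨_, rfl⟩
  rw [← hQdef] at hQ ⊢
  obtain ⟨Q', rfl⟩ : ∃ Q', Q = Q' + 1 := ⟨Q - 1, by omega⟩
  simp only [Nat.add_sub_cancel]
  nlinarith

end dotQ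

section gl

variable {ι : Type*} [Fintype ι] [DecidableEq ι]

theorem orderOf_toLinearEquiv' (A : Matrix ι ι F) (hA : Invertible A) :
    orderOf (Matrix.toLinearEquiv' A hA) = orderOf A := by
  have h1 : orderOf (Matrix.toLinearEquiv' A hA) =
      orderOf ((Matrix.toLinearEquiv' A hA : (ι → F) ≃ₗ[F] (ι → F)) : Module.End F (ι → F)) := by
    rw [← orderOf_injective (LinearEquiv.automorphismGroup.toLinearMapMonoidHom (R := F) (M := ι → F))
      (fun a b h => LinearEquiv.toLinearMap_injective h)]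
    rfl
  rw [h1]
  have h2 : ((Matrix.toLinearEquiv' A hA : (ι → F) ≃ₗ[F] (ι → F)) : Module.End F (ι → F)) =
      Matrix.toLinAlgEquiv' A := rfl
  rw [h2]
  exact orderOf_injective (Matrix.toLinAlgEquiv' (R := F) (n := ι)).toMulEquiv.toMonoidHom
    (Matrix.toLinAlgEquiv' (R := F) (n := ι)).injective A

/-- the isometry `(x, y) ↦ (A x, A⁻ᵀ y)` of the hyperbolic space -/
noncomputable def hypIso (A B : Matrix ι ι F) (hAB : A * B = 1) (hBA : B * A = 1) :
    ((ι → F) × (ι → F)) ≃ₗ[F] ((ι → F) × (ι → F)) :=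
  (Matrix.toLinearEquiv' A ⟨B, hBA, hAB⟩).prodCongr
    (Matrix.toLinearEquiv' Bᵀ ⟨Aᵀ, by rw [← Matrix.transpose_mul, hBA, Matrix.transpose_one],
      by rw [← Matrix.transpose_mul, hAB, Matrix.transpose_one]⟩)

theorem dotQ_hypIso (A B : Matrix ι ι F) (hAB : A * B = 1) (hBA : B * A = 1) (p : (ι → F) × (ι → F)) :
    dotQ F ι (hypIso A B hAB hBA p) = dotQ F ι p := by
  rw [dotQ_apply, dotQ_apply]
  show (A *ᵥ p.1) ⬝ᵥ (Bᵀ *ᵥ p.2) = _
  rw [Matrix.dotProduct_mulVec, Matrix.vecMul_transpose, Matrix.mulVec_mulVec, hBA, Matrix.one_mulVec]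

theorem orderOf_transpose (A : Matrix ι ι F) : orderOf Aᵀ = orderOf A := by
  apply Nat.dvd_antisymm
  · rw [orderOf_dvd_iff_pow_eq_one, ← Matrix.transpose_pow, pow_orderOf_eq_one, Matrix.transpose_one]
  · rw [orderOf_dvd_iff_pow_eq_one]
    have : (A ^ orderOf Aᵀ)ᵀ = 1 := by rw [Matrix.transpose_pow, pow_orderOf_eq_one]
    rw [← Matrix.transpose_one] at this
    exact Matrix.transpose_injective this

theorem orderOf_inv_matrix (A B : Matrix ι ι F) (hAB : A * B = 1) (hBA : B * A = 1) :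
    orderOf B = orderOf A := by
  have hc : Commute A B := by rw [Commute, SemiconjBy, hAB, hBA]
  have key : ∀ j : ℕ, A ^ j * B ^ j = 1 := by
    intro j
    rw [← hc.mul_pow, hAB, one_pow]
  apply Nat.dvd_antisymm
  · rw [orderOf_dvd_iff_pow_eq_one]
    have := key (orderOf A)
    rwa [pow_orderOf_eq_one, one_mul] at this
  · rw [orderOf_dvd_iff_pow_eq_one]
    have := key (orderOf B)
    rwa [pow_orderOf_eq_one, mul_one] at this

theorem orderOf_hypIso (A B : Matrix ι ι F) (hAB : A * B = 1) (hBA : B * A = 1) :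
    orderOf (hypIso A B hAB hBA) = orderOf A := by
  unfold hypIso
  rw [orderOf_prodCongr, orderOf_toLinearEquiv', orderOf_toLinearEquiv', orderOf_transpose,
    orderOf_inv_matrix A B hAB hBA, Nat.lcm_self]

end gl

section atoms

/-- the Singer cycle of `GL_d(q)` on the hyperbolic space of dimension `2d` -/
theorem atom_plus (p : ℕ) [Fact p.Prime] [CharP F p] (d : ℕ) (hd : 1 ≤ d) :
    RealIn F ((Fin d → F) × (Fin d → F)) true (Fintype.card F ^ d - 1) := by
  classical
  have : NeZero d := ⟨by omega⟩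
  have hfr : Module.finrank F (FiniteField.Extension F p d) = d := FiniteField.finrank_extension F p d
  have hcard : Nat.card (FiniteField.Extension F p d) = Fintype.card F ^ d := by
    rw [FiniteField.natCard_extension, Nat.card_eq_fintype_card]
  obtain ⟨θ₀, hθ₀⟩ := IsCyclic.exists_generator (α := (FiniteField.Extension F p d)ˣ)
  have hord : orderOf θ₀ = Fintype.card F ^ d - 1 := by
    rw [orderOf_eq_card_of_forall_mem_zpowers hθ₀, Nat.card_units, hcard]
  obtain ⟨X, hXd, hXp, -⟩ := Cfsg.Agent.Lib.Helper15.Spr.exists_matrix_of_algebra hfr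
    (θ₀ : FiniteField.Extension F p d)
  have hX0 : X.det ≠ 0 := by
    rw [hXd, Ne, Algebra.norm_eq_zero_iff]
    exact θ₀.ne_zero
  have hXu : IsUnit X.det := isUnit_iff_ne_zero.mpr hX0
  have hAB : X * X⁻¹ = 1 := Matrix.mul_nonsing_inv X hXu
  have hBA : X⁻¹ * X = 1 := Matrix.nonsing_inv_mul X hXu
  have hordX : orderOf X = Fintype.card F ^ d - 1 := by
    rw [← hord]
    apply Nat.dvd_antisymm
    · rw [orderOf_dvd_iff_pow_eq_one]
      have := (hXp (orderOf θ₀) 1).mpr (by
        rw [map_one, ← Units.val_pow_eq_pow_val, pow_orderOf_eq_one, Units.val_one])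
      rwa [map_one] at this
    · rw [orderOf_dvd_iff_pow_eq_one]
      have := (hXp (orderOf X) 1).mp (by rw [pow_orderOf_eq_one, map_one])
      rw [map_one, ← Units.val_pow_eq_pow_val] at this
      exact Units.ext this
  refine ⟨dotQ F (Fin d), hypIso X X⁻¹ hAB hBA, nondegenerate_dotQ F (Fin d), dotQ_hypIso X X⁻¹ hAB hBA,
    ?_, ?_⟩
  · rw [orderOf_hypIso, hordX]
  · rw [if_pos rfl]
    exact sign_dotQ F (Fin d) (by rw [Fintype.card_fin]; exact hd)

/-- a reflection of the hyperbolic plane -/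
theorem atom_refl_plus : RealIn F ((Fin 1 → F) × (Fin 1 → F)) true 2 := by
  classical
  refine ⟨dotQ F (Fin 1), LinearEquiv.prodComm F (Fin 1 → F) (Fin 1 → F), nondegenerate_dotQ F (Fin 1), ?_, ?_, ?_⟩
  · intro p
    rw [dotQ_apply, dotQ_apply]
    exact dotProduct_comm _ _
  · apply orderOf_eq_prime
    · ext p <;> rfl
    · intro h
      have := congrArg (fun e : ((Fin 1 → F) × (Fin 1 → F)) ≃ₗ[F] ((Fin 1 → F) × (Fin 1 → F)) =>
        (e ((fun _ => 1), 0)).1 0) h
      simp at this
  · rw [if_pos rfl]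
    exact sign_dotQ F (Fin 1) (by simp)

/-- an isometry of order `4` of the hyperbolic space of dimension `4` -/
noncomputable def u4 : ((Fin 2 → F) × (Fin 2 → F)) ≃ₗ[F] ((Fin 2 → F) × (Fin 2 → F)) :=
  LinearEquiv.ofLinearMap
    { toFun := fun p => (![p.2 1, p.1 0], ![p.1 1, p.2 0])
      map_add' := fun p r => by
        ext i <;> fin_cases i <;> simp
      map_smul' := fun c p => by
        ext i <;> fin_cases i <;> simp }
    { toFun := fun p => (![p.1 1, p.2 0], ![p.2 1, p.1 0])
      map_add' := fun p r => by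
        ext i <;> fin_cases i <;> simp
      map_smul' := fun c p => by
        ext i <;> fin_cases i <;> simp }
    (by
      ext p i <;> fin_cases i <;> simp)
    (by
      ext p i <;> fin_cases i <;> simp)

theorem u4_apply (p : (Fin 2 → F) × (Fin 2 → F)) :
    u4 p = (![p.2 1, p.1 0], ![p.1 1, p.2 0]) := rfl

theorem atom_u4 : RealIn F ((Fin 2 → F) × (Fin 2 → F)) true 4 := by
  classical
  refine ⟨dotQ F (Fin 2), u4, nondegenerate_dotQ F (Fin 2), ?_, ?_, ?_⟩
  · intro p
    rw [dotQ_apply, dotQ_apply, u4_apply]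
    simp only [dotProduct, Fin.sum_univ_two, Matrix.cons_val_zero, Matrix.cons_val_one]
    ring
  · have h2 : ∀ p : (Fin 2 → F) × (Fin 2 → F), (u4 ^ 2) p = (p.2, p.1) := by
      intro p
      rw [pow_two, LinearEquiv.mul_apply, u4_apply, u4_apply]
      apply Prod.ext <;> funext i <;> fin_cases i <;> simp
    have := orderOf_eq_prime_pow (x := (u4 : ((Fin 2 → F) × (Fin 2 → F)) ≃ₗ[F] _)) (p := 2) (n := 1) ?_ ?_
    · simpa using this
    · intro h
      rw [pow_one] at h
      have := congrArg (fun e : ((Fin 2 → F) × (Fin 2 → F)) ≃ₗ[F] ((Fin 2 → F) × (Fin 2 → F)) =>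
        (e ((fun _ => 1), 0)).1 0) h
      simp only [h2] at this
      simp at this
    · ext p : 1
      have : (2 : ℕ) ^ (1 + 1) = 2 * 2 := by norm_num
      rw [this, pow_mul, pow_two, LinearEquiv.mul_apply, h2, h2]
      rfl
  · rw [if_pos rfl]
    exact sign_dotQ F (Fin 2) (by simp)

end atoms

end Cfsg.Agent.Lib.Helper15.SO8
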