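import Mathlib
import Cfsg.Agent.Lib.Helper15.SO8a
import Cfsg.Agent.Lib.Helper29.S3589A

/-!
# S3589, part g: orthogonal sums of realisations
-/

set_option autoImplicit false
set_option linter.unusedSectionVars false

namespace Cfsg.Agent.Lib.Helper15.SO8

open Module QuadraticMap

variable {F : Type*} [Field F] [Fintype F]
variable {V W : Type*} [AddCommGroup V] [Module F V] [AddCommGroup W] [Module F W]

theorem RealIn.sum [CharP F 2] [Finite V] [Finite W] {s t : Bool} {N M : ℕ}
    (h1 : RealIn F V s N) (h2 : RealIn F W t M) : RealIn F (V × W) (s == t) (Nat.lcm N M) := by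
  obtain ⟨Q, g, hQ, hg, hN, hs⟩ := h1
  obtain ⟨R, h, hR, hh, hM, ht⟩ := h2
  refine ⟨Q.prod R, g.prodCongr h, nondegenerate_prod Q R hQ hR, ?_, ?_, ?_⟩
  · intro v
    rw [QuadraticMap.prod_apply, QuadraticMap.prod_apply]
    show Q (g v.1) + R (h v.2) = _
    rw [hg, hh]
  · rw [orderOf_prodCongr, hN, hM]
  · have key := Cfsg.Agent.Lib.Helper29.S3589.card_zero_prod Q R
    change _ * (_ * (nz F (Q.prod R) : ℤ) - _) = (_ * (nz F Q : ℤ) - _) * (_ * (nz F R : ℤ) - _) at key
    have hq : (2 : ℤ) ≤ (Fintype.card F : ℤ) := by exact_mod_cast Fintype.one_lt_card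
    have hcard : (Nat.card (V × W) : ℤ) = (Nat.card V : ℤ) * (Nat.card W : ℤ) := by
      rw [Nat.card_prod]; push_cast; rfl
    have hq1 : (0 : ℤ) < (Fintype.card F : ℤ) - 1 := by linarith
    rcases s with _ | _ <;> rcases t with _ | _ <;> simp only [Bool.false_eq_true, if_false, if_true] at hs ht
    · -- minus, minus => plus
      show (if (false == false) = true then _ else _)
      simp only [beq_self_eq_true, if_true]
      have h1 : ((Fintype.card F : ℤ) * (nz F Q : ℤ) - (Nat.card V : ℤ)) < 0 := by
        have : ((Fintype.card F * nz F Q : ℕ) : ℤ) < (Nat.card V : ℤ) := by exact_mod_cast hs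
        push_cast at this; linarith
      have h2 : ((Fintype.card F : ℤ) * (nz F R : ℤ) - (Nat.card W : ℤ)) < 0 := by
        have : ((Fintype.card F * nz F R : ℕ) : ℤ) < (Nat.card W : ℤ) := by exact_mod_cast ht
        push_cast at this; linarith
      have h3 : 0 < ((Fintype.card F : ℤ) - 1) * ((Fintype.card F : ℤ) * (nz F (Q.prod R) : ℤ) - (Nat.card V : ℤ) * (Nat.card W : ℤ)) := by
        rw [key]; exact mul_pos_of_neg_of_neg h1 h2
      have h4 : 0 < (Fintype.card F : ℤ) * (nz F (Q.prod R) : ℤ) - (Nat.card V : ℤ) * (Nat.card W : ℤ) := by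
        exact (mul_pos_iff_of_pos_left hq1).mp h3
      have : (Nat.card (V × W) : ℤ) < ((Fintype.card F * nz F (Q.prod R) : ℕ) : ℤ) := by
        push_cast; rw [hcard]; linarith
      exact_mod_cast this
    · show (if (false == true) = true then _ else _)
      simp only [Bool.false_eq_true, if_false, show (false == true) = false from rfl]
      have h1 : ((Fintype.card F : ℤ) * (nz F Q : ℤ) - (Nat.card V : ℤ)) < 0 := by
        have : ((Fintype.card F * nz F Q : ℕ) : ℤ) < (Nat.card V : ℤ) := by exact_mod_cast hs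
        push_cast at this; linarith
      have h2 : 0 < ((Fintype.card F : ℤ) * (nz F R : ℤ) - (Nat.card W : ℤ)) := by
        have : (Nat.card W : ℤ) < ((Fintype.card F * nz F R : ℕ) : ℤ) := by exact_mod_cast ht
        push_cast at this; linarith
      have h3 : ((Fintype.card F : ℤ) - 1) * ((Fintype.card F : ℤ) * (nz F (Q.prod R) : ℤ) - (Nat.card V : ℤ) * (Nat.card W : ℤ)) < 0 := by
        rw [key]; exact mul_neg_of_neg_of_pos h1 h2
      have h4 : (Fintype.card F : ℤ) * (nz F (Q.prod R) : ℤ) - (Nat.card V : ℤ) * (Nat.card W : ℤ) < 0 := by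
        by_contra hcon
        push Not at hcon
        have := mul_nonneg hq1.le hcon
        linarith
      have : ((Fintype.card F * nz F (Q.prod R) : ℕ) : ℤ) < (Nat.card (V × W) : ℤ) := by
        push_cast; rw [hcard]; linarith
      exact_mod_cast this
    · show (if (true == false) = true then _ else _)
      simp only [Bool.false_eq_true, if_false, show (true == false) = false from rfl]
      have h1 : 0 < ((Fintype.card F : ℤ) * (nz F Q : ℤ) - (Nat.card V : ℤ)) := by
        have : (Nat.card V : ℤ) < ((Fintype.card F * nz F Q : ℕ) : ℤ) := by exact_mod_cast hs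
        push_cast at this; linarith
      have h2 : ((Fintype.card F : ℤ) * (nz F R : ℤ) - (Nat.card W : ℤ)) < 0 := by
        have : ((Fintype.card F * nz F R : ℕ) : ℤ) < (Nat.card W : ℤ) := by exact_mod_cast ht
        push_cast at this; linarith
      have h3 : ((Fintype.card F : ℤ) - 1) * ((Fintype.card F : ℤ) * (nz F (Q.prod R) : ℤ) - (Nat.card V : ℤ) * (Nat.card W : ℤ)) < 0 := by
        rw [key]; exact mul_neg_of_pos_of_neg h1 h2
      have h4 : (Fintype.card F : ℤ) * (nz F (Q.prod R) : ℤ) - (Nat.card V : ℤ) * (Nat.card W : ℤ) < 0 := by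
        by_contra hcon
        push Not at hcon
        have := mul_nonneg hq1.le hcon
        linarith
      have : ((Fintype.card F * nz F (Q.prod R) : ℕ) : ℤ) < (Nat.card (V × W) : ℤ) := by
        push_cast; rw [hcard]; linarith
      exact_mod_cast this
    · show (if (true == true) = true then _ else _)
      simp only [beq_self_eq_true, if_true]
      have h1 : 0 < ((Fintype.card F : ℤ) * (nz F Q : ℤ) - (Nat.card V : ℤ)) := by
        have : (Nat.card V : ℤ) < ((Fintype.card F * nz F Q : ℕ) : ℤ) := by exact_mod_cast hs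
        push_cast at this; linarith
      have h2 : 0 < ((Fintype.card F : ℤ) * (nz F R : ℤ) - (Nat.card W : ℤ)) := by
        have : (Nat.card W : ℤ) < ((Fintype.card F * nz F R : ℕ) : ℤ) := by exact_mod_cast ht
        push_cast at this; linarith
      have h3 : 0 < ((Fintype.card F : ℤ) - 1) * ((Fintype.card F : ℤ) * (nz F (Q.prod R) : ℤ) - (Nat.card V : ℤ) * (Nat.card W : ℤ)) := by
        rw [key]; exact mul_pos h1 h2
      have h4 : 0 < (Fintype.card F : ℤ) * (nz F (Q.prod R) : ℤ) - (Nat.card V : ℤ) * (Nat.card W : ℤ) := by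
        exact (mul_pos_iff_of_pos_left hq1).mp h3
      have : (Nat.card (V × W) : ℤ) < ((Fintype.card F * nz F (Q.prod R) : ℕ) : ℤ) := by
        push_cast; rw [hcard]; linarith
      exact_mod_cast this

end Cfsg.Agent.Lib.Helper15.SO8
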