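import Mathlib
import Cfsg.Agent.Lib.Helper15.SO8a
import Cfsg.Agent.Lib.Helper15.QuadCount7
import Cfsg.Agent.Lib.Helper15.QuadClassify
import Cfsg.Agent.Lib.Helper24.S3589C
import Cfsg.Agent.Lib.Helper29.S3589B
import Cfsg.Agent.Lib.Helper23.S3360FO8

/-!
# S3589, part h: the atoms involving an anisotropic plane
-/

set_option autoImplicit false
set_option linter.unusedSectionVars false

namespace Cfsg.Agent.Lib.Helper15.SO8

open Module QuadraticMap Matrix Cfsg.Agent.Lib.Helper15

variable {F : Type*} [Field F] [Fintype F]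

section bin

variable [CharP F 2] (a b : F)

theorem nondegenerate_binForm_two (ha : a ≠ 0) : (polarBilin (binForm a b)).Nondegenerate := by
  have h2 : (2 : F) = 0 := CharTwo.two_eq_zero
  have hleft : ∀ u : Fin 2 → F, (∀ v, polar (binForm a b) u v = 0) → u = 0 := by
    intro u hu
    have h10 := hu ![1, 0]
    have h01 := hu ![0, 1]
    rw [polar_binForm] at h10 h01
    simp only [Matrix.cons_val_zero, Matrix.cons_val_one, h2] at h10 h01
    have e1 : u 1 = 0 := by
      have : a * u 1 = 0 := by linear_combination h10
      exact (mul_eq_zero.mp this).resolve_left ha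
    have e0 : u 0 = 0 := by
      have : a * u 0 = 0 := by linear_combination h01
      exact (mul_eq_zero.mp this).resolve_left ha
    funext i
    fin_cases i
    · exact e0
    · exact e1
  constructor
  · intro u hu
    exact hleft u hu
  · intro u hu
    apply hleft u
    intro v
    rw [polar_comm]
    exact hu v

/-- conjugation of the quadratic algebra as a linear equivalence -/
noncomputable def conjL : (Fin 2 → F) ≃ₗ[F] (Fin 2 → F) :=
  LinearEquiv.ofLinearMap
    { toFun := fun u => conjB a u
      map_add' := fun u v => by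
        unfold conjB
        ext i; fin_cases i <;> simp <;> ring
      map_smul' := fun c u => by
        unfold conjB
        ext i; fin_cases i <;> simp <;> ring }
    { toFun := fun u => conjB a u
      map_add' := fun u v => by
        unfold conjB
        ext i; fin_cases i <;> simp <;> ring
      map_smul' := fun c u => by
        unfold conjB
        ext i; fin_cases i <;> simp <;> ring }
    (by
      ext u i
      fin_cases i <;> simp [conjB])
    (by
      ext u i
      fin_cases i <;> simp [conjB])

theorem conjL_apply (u : Fin 2 → F) : conjL a u = conjB a u := rfl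

/-- a reflection of the anisotropic plane -/
theorem atom_refl_minus (hab : ∀ z₁ z₂ : F, z₁ ^ 2 + a * z₁ * z₂ + b * z₂ ^ 2 = 0 → z₁ = 0 ∧ z₂ = 0) :
    RealIn F (Fin 2 → F) false 2 := by
  classical
  have h2 : (2 : F) = 0 := CharTwo.two_eq_zero
  have ha : a ≠ 0 := a_ne_zero_of_two_eq_zero a b hab h2
  refine ⟨binForm a b, conjL a, nondegenerate_binForm a b hab, fun v => binForm_conjB a b v, ?_, ?_⟩
  · apply orderOf_eq_prime
    · ext u i
      rw [pow_two, LinearEquiv.mul_apply, conjL_apply, conjL_apply]
      fin_cases i <;> simp [conjB]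
    · intro h
      have := congrArg (fun e : (Fin 2 → F) ≃ₗ[F] (Fin 2 → F) => e ![0, 1] 0) h
      simp only [conjL_apply, conjB, LinearEquiv.coe_one, id_eq, Matrix.cons_val_zero,
        Matrix.cons_val_one, zero_add, mul_one] at this
      exact ha this
  · simp only [Bool.false_eq_true, if_false]
    have hz : nz F (binForm a b) = 1 := card_binForm_zero a b hab
    rw [hz, mul_one, Nat.card_eq_fintype_card, Fintype.card_fun, Fintype.card_fin]
    have hq : 2 ≤ Fintype.card F := Fintype.one_lt_card
    nlinarith

end bin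

section u6

variable [CharP F 2] (a b : F)

theorem Qgen_two_eq (v : (Fin 2 ⊕ Fin 2) ⊕ Fin 2 → F) :
    Qgen 2 (binForm a b) v = Cfsg.quadFormMinus 2 F a b v := by
  rw [Qgen_apply, binForm_apply]
  rfl

/-- elements of order 8 in dimension 6, of either sign -/
theorem atom_u6 (ha : a ≠ 0) (s : Bool)
    (hs : if s then Fintype.card F < nz F (binForm a b) else nz F (binForm a b) < Fintype.card F) :
    RealIn F ((Fin 2 ⊕ Fin 2) ⊕ Fin 2 → F) s 8 := by
  classical
  obtain ⟨g, hg, h8, h4⟩ := Cfsg.Agent.Lib.Helper24.S3589.exists_order_eight a b ha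
  refine ⟨Qgen 2 (binForm a b), g, nondegenerate_Qgen 2 (binForm a b) (nondegenerate_binForm_two a b ha), ?_, ?_, ?_⟩
  · intro v
    rw [Qgen_two_eq, Qgen_two_eq, hg]
  · have := orderOf_eq_prime_pow (x := g) (p := 2) (n := 2) (by simpa using h4) (by simpa using h8)
    simpa using this
  · have hnz : nz F (Qgen 2 (binForm a b)) =
        hypCount (Fintype.card F) 2 (nz F (binForm a b)) 2 := by
      have := card_value_Qgen 2 (binForm a b) (0 : F)
      rw [Fintype.card_fin] at this
      exact this
    have hV : Nat.card ((Fin 2 ⊕ Fin 2) ⊕ Fin 2 → F) = Fintype.card F ^ 6 := by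
      rw [Nat.card_eq_fintype_card, Fintype.card_fun]
      simp
    rw [hnz, hV]
    unfold hypCount
    set q := Fintype.card F with hq
    set x := nz F (binForm a b) with hx
    have hq2 : 2 ≤ q := Fintype.one_lt_card
    have hq1 : 1 ≤ q ^ 2 := Nat.one_le_pow _ _ (by omega)
    have h21 : (2 : ℕ) - 1 = 1 := rfl
    rw [h21]
    have key : q * (q ^ 2 * x + (q ^ 2 - 1) * q ^ 1 * q ^ 2) + q ^ 4 = q ^ 3 * x + q ^ 6 := by
      zify [hq1]
      ring
    have hq4 : q ^ 4 = q ^ 3 * q := by ring
    have hq3 : 0 < q ^ 3 := by positivity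
    rcases s with _ | _
    · simp only [Bool.false_eq_true, if_false] at hs ⊢
      have : q ^ 3 * x < q ^ 3 * q := (Nat.mul_lt_mul_left hq3).mpr hs
      linarith
    · simp only [if_true] at hs ⊢
      have : q ^ 3 * q < q ^ 3 * x := (Nat.mul_lt_mul_left hq3).mpr hs
      linarith

theorem atom_u6_minus (hab : ∀ z₁ z₂ : F, z₁ ^ 2 + a * z₁ * z₂ + b * z₂ ^ 2 = 0 → z₁ = 0 ∧ z₂ = 0) :
    RealIn F ((Fin 2 ⊕ Fin 2) ⊕ Fin 2 → F) false 8 := by
  have h2 : (2 : F) = 0 := CharTwo.two_eq_zero
  have ha : a ≠ 0 := a_ne_zero_of_two_eq_zero a b hab h2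
  apply atom_u6 a b ha false
  simp only [Bool.false_eq_true, if_false]
  have hz : nz F (binForm a b) = 1 := card_binForm_zero a b hab
  rw [hz]
  exact Fintype.one_lt_card

theorem atom_u6_plus : RealIn F ((Fin 2 ⊕ Fin 2) ⊕ Fin 2 → F) true 8 := by
  classical
  apply atom_u6 (1 : F) 0 one_ne_zero true
  simp only [if_true]
  -- the zeros of z₁² + z₁ z₂ include (0, t) and (1, 1)
  let f : Option F → {z : Fin 2 → F // binForm (1 : F) 0 z = 0} := fun o =>
    match o with
    | none => ⟨![1, 1], by rw [binForm_apply]; simp; exact CharTwo.add_self_eq_zero 1⟩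
    | some t => ⟨![0, t], by rw [binForm_apply]; simp⟩
  have hf : Function.Injective f := by
    intro o o' h
    rcases o with _ | t <;> rcases o' with _ | t'
    · rfl
    · exfalso
      have := congrArg (fun z : {z : Fin 2 → F // binForm (1 : F) 0 z = 0} => z.1 0) h
      simp [f] at this
    · exfalso
      have := congrArg (fun z : {z : Fin 2 → F // binForm (1 : F) 0 z = 0} => z.1 0) h
      simp [f] at this
    · have := congrArg (fun z : {z : Fin 2 → F // binForm (1 : F) 0 z = 0} => z.1 1) h
      simp only [f, Matrix.cons_val_one] at this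
      simp at this
      rw [this]
  have := Nat.card_le_card_of_injective f hf
  rw [Nat.card_eq_fintype_card, Fintype.card_option] at this
  exact this

end u6

section singer

variable [CharP F 2]

/-- multiplication by a unit of a field extension, as a linear equivalence -/
noncomputable def mulL {K : Type*} [Field K] [Algebra F K] : Kˣ →* (K ≃ₗ[F] K) where
  toFun ζ := LinearEquiv.ofLinearMap (LinearMap.mulLeft F (ζ : K)) (LinearMap.mulLeft F ((ζ⁻¹ : Kˣ) : K))
    (by ext x; simp) (by ext x; simp)
  map_one' := by ext x; simp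
  map_mul' ζ ζ' := by ext x; simp [mul_assoc]

theorem mulL_apply {K : Type*} [Field K] [Algebra F K] (ζ : Kˣ) (x : K) : mulL (F := F) ζ x = (ζ : K) * x := rfl

theorem mulL_injective {K : Type*} [Field K] [Algebra F K] : Function.Injective (mulL (F := F) (K := K)) := by
  intro ζ ζ' h
  have := congrArg (fun e : K ≃ₗ[F] K => e 1) h
  simp only [mulL_apply, mul_one] at this
  exact Units.ext this

/-- the Singer atom of minus type -/
theorem atom_minus (d : ℕ) (hd : 1 ≤ d) :
    ∃ (K : Type) (_ : AddCommGroup K) (_ : Module F K) (_ : Module.Finite F K), finrank F K = 2 * d ∧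
      RealIn F K false (Fintype.card F ^ d + 1) := by
  classical
  obtain ⟨K, hKf, hKa, hKfin, hfr, Q, ζ, hQ, hζ, hinv⟩ :=
    Cfsg.Agent.Lib.Helper29.S3589.singer_minus_model (F := F) d hd
  have hmf : Module.Finite F K := Module.Finite.of_finite
  refine ⟨K, inferInstance, inferInstance, hmf, hfr, Q, mulL ζ, hQ, fun v => hinv v, ?_, ?_⟩
  · rw [orderOf_injective _ mulL_injective, hζ]
  · simp only [Bool.false_eq_true, if_false]
    set q := Fintype.card F with hq
    have hq2 : 2 ≤ q := Fintype.one_lt_card
    have hcardK : Nat.card K = q ^ (2 * d) := by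
      rw [Module.natCard_eq_pow_finrank (K := F) (V := K), hfr, Nat.card_eq_fintype_card]
    -- free action of ⟨ζ⟩ on the non-zero zeros
    let Z := {x : K // x ≠ 0 ∧ Q x = 0}
    let C := Subgroup.zpowers ζ
    have hCcard : Nat.card C = q ^ d + 1 := by rw [Nat.card_zpowers, hζ]
    have hpow : ∀ (k : ℤ) (x : K), Q (((ζ ^ k : Kˣ) : K) * x) = Q x := by
      intro k
      induction k using Int.induction_on with
      | zero => intro x; simp
      | succ i ih =>
        intro x
        rw [_root_.zpow_add_one, Units.val_mul, mul_assoc, ih, hinv]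
      | pred i ih =>
        intro x
        have h1 : Q (((ζ ^ (-(i : ℤ) - 1) : Kˣ) : K) * x) =
            Q ((ζ : K) * (((ζ ^ (-(i : ℤ) - 1) : Kˣ) : K) * x)) := (hinv _).symm
        rw [h1, ← mul_assoc, ← Units.val_mul, ← _root_.zpow_one_add,
          show (1 : ℤ) + (-(i : ℤ) - 1) = -(i : ℤ) by ring]
        exact ih x
    have hCinv : ∀ c : C, ∀ x : K, Q (((c : Kˣ) : K) * x) = Q x := by
      rintro ⟨c, hc⟩ x
      obtain ⟨k, rfl⟩ := Subgroup.mem_zpowers_iff.mp hc
      exact hpow k x
    let act : MulAction C Z :=
      { smul := fun c z => ⟨((c : Kˣ) : K) * z.1, mul_ne_zero (Units.ne_zero _) z.2.1, by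
          rw [hCinv]; exact z.2.2⟩
        one_smul := fun z => by
          apply Subtype.ext
          show (((1 : C) : Kˣ) : K) * z.1 = z.1
          simp
        mul_smul := fun c c' z => by
          apply Subtype.ext
          show (((c * c' : C) : Kˣ) : K) * z.1 = ((c : Kˣ) : K) * (((c' : Kˣ) : K) * z.1)
          simp [mul_assoc] }
    have hfree : ∀ (c : C) (z : Z), c • z = z → c = 1 := by
      intro c z h
      have h1 : ((c : Kˣ) : K) * z.1 = z.1 := congrArg Subtype.val h
      have h2 : ((c : Kˣ) : K) = 1 := by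
        have := mul_right_cancel₀ z.2.1 (h1.trans (one_mul _).symm)
        exact this
      apply Subtype.ext
      exact Units.ext h2
    have hdvd : q ^ d + 1 ∣ Nat.card Z := by
      rw [← hCcard]
      exact Cfsg.Agent.Lib.Helper23.S3360FO8.card_dvd_of_free hfree
    -- the zero count
    have hZ : nz F Q = Nat.card Z + 1 := by
      unfold nz
      have e : {v : K // Q v = 0} ≃ Option Z :=
        { toFun := fun v => if h : v.1 = 0 then none else some ⟨v.1, h, v.2⟩
          invFun := fun o => match o with
            | none => ⟨0, map_zero Q⟩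
            | some z => ⟨z.1, z.2.2⟩
          left_inv := fun v => by
            by_cases h : v.1 = 0
            · simp only [h, dite_true]
              exact Subtype.ext h.symm
            · simp only [h, dite_false]
          right_inv := fun o => by
            rcases o with _ | z
            · simp
            · have := z.2.1
              simp [this] }
      rw [Nat.card_congr e, Finite.card_option]
    -- classification
    rcases classify_even Q hQ d hd hfr with ⟨φ, hφ⟩ | ⟨ζ', hirr, φ, hφ⟩
    · -- plus type is impossible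
      exfalso
      have hcount : nz F Q = (q ^ d - 1) * q ^ (d - 1) + q ^ d := by
        unfold nz
        have := card_plus_value (F := F) d 0
        rw [if_pos rfl] at this
        rw [← this]
        apply Nat.card_congr
        exact φ.toEquiv.subtypeEquiv (fun v => by rw [hφ]; rfl)
      have hZc : Nat.card Z = (q ^ d - 1) * (q ^ (d - 1) + 1) := by
        have hQd : 1 ≤ q ^ d := Nat.one_le_pow _ _ (by omega)
        have : Nat.card Z + 1 = (q ^ d - 1) * q ^ (d - 1) + q ^ d := by rw [← hZ, hcount]
        have h3 : (q ^ d - 1) * (q ^ (d - 1) + 1) + 1 = (q ^ d - 1) * q ^ (d - 1) + q ^ d := by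
          rw [mul_add, mul_one]
          omega
        omega
      rw [hZc] at hdvd
      have hcop : Nat.Coprime (q ^ d + 1) (q ^ d - 1) := by
        have h2q : 2 ∣ q := by
          rw [← CharP.cast_eq_zero_iff F 2]
          exact Nat.cast_card_eq_zero F
        have hQd : 1 ≤ q ^ d := Nat.one_le_pow _ _ (by omega)
        have hev : 2 ∣ q ^ d := dvd_pow h2q (by omega)
        have hg : Nat.gcd (q ^ d + 1) (q ^ d - 1) ∣ 2 := by
          have h1 : Nat.gcd (q ^ d + 1) (q ^ d - 1) ∣ q ^ d + 1 := Nat.gcd_dvd_left _ _
          have h2 : Nat.gcd (q ^ d + 1) (q ^ d - 1) ∣ q ^ d - 1 := Nat.gcd_dvd_right _ _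
          have := Nat.dvd_sub h1 h2
          have h3 : q ^ d + 1 - (q ^ d - 1) = 2 := by omega
          rwa [h3] at this
        have hodd : ¬ 2 ∣ Nat.gcd (q ^ d + 1) (q ^ d - 1) := by
          intro h
          have := h.trans (Nat.gcd_dvd_left _ _)
          omega
        rcases (Nat.dvd_prime Nat.prime_two).mp hg with h | h
        · exact h
        · exfalso; apply hodd; rw [h]
      have hdvd2 : q ^ d + 1 ∣ q ^ (d - 1) + 1 := hcop.dvd_of_dvd_mul_left hdvd
      have hlt : q ^ (d - 1) + 1 < q ^ d + 1 := by
        have : q ^ (d - 1) < q ^ d := Nat.pow_lt_pow_right (by omega) (by omega)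
        omega
      have := Nat.le_of_dvd (by omega) hdvd2
      omega
    · -- minus type: count
      have hcount : nz F Q = hypCount q 2 1 (d - 1) := by
        unfold nz
        have h1 := card_value_Qgen (d - 1) (binForm (1 : F) ζ') (0 : F)
        have hab' : ∀ z₁ z₂ : F, z₁ ^ 2 + 1 * z₁ * z₂ + ζ' * z₂ ^ 2 = 0 → z₁ = 0 ∧ z₂ = 0 := by
          intro z₁ z₂ h
          by_cases hz2 : z₂ = 0
          · subst hz2
            simp at h
            exact ⟨h, rfl⟩
          · exfalso
            apply hirr (z₁ / z₂)
            field_simp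
            linear_combination h
        rw [card_binForm_zero (1 : F) ζ' hab', Fintype.card_fin] at h1
        rw [← h1]
        apply Nat.card_congr
        exact φ.toEquiv.subtypeEquiv (fun v => by
          rw [hφ, Qgen_apply, binForm_apply]
          rfl)
      rw [hcount, hcardK]
      unfold hypCount
      obtain ⟨e, rfl⟩ : ∃ e, d = e + 1 := ⟨d - 1, by omega⟩
      simp only [Nat.add_sub_cancel]
      rcases Nat.eq_zero_or_pos e with he | he
      · subst he
        simp only [pow_zero, Nat.sub_self, zero_mul, mul_one, add_zero, zero_add, Nat.zero_sub]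
        nlinarith
      · obtain ⟨e', rfl⟩ : ∃ e', e = e' + 1 := ⟨e - 1, by omega⟩
        simp only [Nat.add_sub_cancel]
        have hQ1 : 1 ≤ q ^ (e' + 1) := Nat.one_le_pow _ _ (by omega)
        have key : q * (q ^ (e' + 1) * 1 + (q ^ (e' + 1) - 1) * q ^ e' * q ^ 2) + q ^ (e' + 3) =
            q ^ (e' + 2) + q ^ (2 * (e' + 1 + 1)) := by
          zify [hQ1]
          ring
        have hlt : q ^ (e' + 2) < q ^ (e' + 3) := Nat.pow_lt_pow_right (by omega) (by omega)
        linarith

end singer

end Cfsg.Agent.Lib.Helper15.SO8
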