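import Mathlib

/-!
# S3590, part a: the semidirect product of a group with a module (affine-type group)
-/

set_option autoImplicit false
set_option linter.unusedSectionVars false

namespace Cfsg.Agent.Lib.Helper15.SO9

/-- the semidirect product `W ⋊ G` of an additive group with a group acting on it -/
@[ext] structure Aff (G W : Type*) where
  lin : G
  tr : W

namespace Aff

variable {G W : Type*} [Group G] [AddCommGroup W] [DistribMulAction G W]

instance : Mul (Aff G W) := ⟨fun x y => ⟨x.lin * y.lin, x.tr + x.lin • y.tr⟩⟩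
instance : One (Aff G W) := ⟨⟨1, 0⟩⟩
instance : Inv (Aff G W) := ⟨fun x => ⟨x.lin⁻¹, -(x.lin⁻¹ • x.tr)⟩⟩

@[simp] theorem mul_lin (x y : Aff G W) : (x * y).lin = x.lin * y.lin := rfl
@[simp] theorem mul_tr (x y : Aff G W) : (x * y).tr = x.tr + x.lin • y.tr := rfl
@[simp] theorem one_lin : (1 : Aff G W).lin = 1 := rfl
@[simp] theorem one_tr : (1 : Aff G W).tr = 0 := rfl
@[simp] theorem inv_lin (x : Aff G W) : (x⁻¹).lin = x.lin⁻¹ := rfl
@[simp] theorem inv_tr (x : Aff G W) : (x⁻¹).tr = -(x.lin⁻¹ • x.tr) := rfl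

instance : Group (Aff G W) where
  mul_assoc x y z := by
    ext
    · simp [mul_assoc]
    · simp [mul_smul, add_assoc]
  one_mul x := by ext <;> simp
  mul_one x := by ext <;> simp
  inv_mul_cancel x := by ext <;> simp

theorem pow_lin (x : Aff G W) (m : ℕ) : (x ^ m).lin = x.lin ^ m := by
  induction m with
  | zero => simp
  | succ m ih => rw [pow_succ, mul_lin, ih, pow_succ]

theorem pow_tr (x : Aff G W) (m : ℕ) : (x ^ m).tr = ∑ i ∈ Finset.range m, x.lin ^ i • x.tr := by
  induction m with
  | zero => simp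
  | succ m ih => rw [pow_succ, mul_tr, ih, pow_lin, Finset.sum_range_succ]

theorem pow_eq_one_iff (x : Aff G W) (m : ℕ) :
    x ^ m = 1 ↔ x.lin ^ m = 1 ∧ ∑ i ∈ Finset.range m, x.lin ^ i • x.tr = 0 := by
  rw [Aff.ext_iff, pow_lin, pow_tr, one_lin, one_tr]

/-- the underlying product -/
def equivProd : Aff G W ≃ G × W where
  toFun x := (x.lin, x.tr)
  invFun p := ⟨p.1, p.2⟩
  left_inv _ := rfl
  right_inv _ := rfl

instance [Finite G] [Finite W] : Finite (Aff G W) := Finite.of_equiv _ equivProd.symm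

theorem card_eq [Finite G] [Finite W] : Nat.card (Aff G W) = Nat.card G * Nat.card W := by
  rw [Nat.card_congr equivProd, Nat.card_prod]

end Aff

/-- rank of `g - 1` -/
noncomputable def rk {F V : Type*} [Field F] [AddCommGroup V] [Module F V] (g : V ≃ₗ[F] V) : ℕ :=
  Module.finrank F (LinearMap.range (g.toLinearMap - LinearMap.id))

end Cfsg.Agent.Lib.Helper15.SO9
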