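import Mathlib
import Cfsg.Agent.Lib.Helper15.SO8a
import Cfsg.Agent.Lib.Helper15.SO9a

/-!
# S3590, part c: affine realisations
-/

set_option autoImplicit false
set_option linter.unusedSectionVars false

namespace Cfsg.Agent.Lib.Helper15.SO9

open Module QuadraticMap Cfsg.Agent.Lib.Helper15.SO8

/-- `RealAff F V s e N`: some quadratic form `Q` on `V` with nondegenerate polar form, of sign `s`
(`true`: more than `|V|/q` zeros, `false`: fewer), admits an isometry `g` with `rank (g - 1)` even iff `e = true`,
and a vector `v`, such that every `m` with `(v, g) ^ m = 1` in the affine group (that is `g ^ m = 1` and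
`v + g v + ⋯ + g ^ (m-1) v = 0`) is a multiple of `N`. -/
def RealAff (F : Type*) [Field F] [Fintype F] (V : Type*) [AddCommGroup V] [Module F V] (s e : Bool) (N : ℕ) :
    Prop :=
  ∃ (Q : QuadraticForm F V) (g : V ≃ₗ[F] V) (v : V), (polarBilin Q).Nondegenerate ∧ (∀ x, Q (g x) = Q x) ∧
    (Even (rk g) ↔ e = true) ∧
    (∀ m : ℕ, g ^ m = 1 → (∑ i ∈ Finset.range m, (g ^ i) v) = 0 → N ∣ m) ∧
    (if s then Nat.card V < Fintype.card F * nz F Q else Fintype.card F * nz F Q < Nat.card V)

end Cfsg.Agent.Lib.Helper15.SO9
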