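import Mathlib
import Cfsg.Agent.Lib.Helper6.Symp
set_option autoImplicit false
namespace Cfsg.Agent.Lib.Helper15

open Matrix Module
open Cfsg.Agent.Lib.Helper6

/-- the range of `Nᵀ` is the dot-product annihilator of the kernel of `N` -/
theorem exists_transpose_mulVec_eq {F : Type*} [Field F] {n : Type*} [Fintype n] [DecidableEq n]
    (N : Matrix n n F) (d : n → F) (h : ∀ y, N *ᵥ y = 0 → d ⬝ᵥ y = 0) : ∃ z, Nᵀ *ᵥ z = d := by
  let φ : Module.Dual F (n → F) :=
    { toFun := fun y => d ⬝ᵥ y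
      map_add' := dotProduct_add d
      map_smul' := fun c y => by simp }
  have hφ : φ ∈ (LinearMap.ker N.mulVecLin).dualAnnihilator := by
    rw [Submodule.mem_dualAnnihilator]
    intro y hy
    exact h y (by simpa using hy)
  rw [← LinearMap.range_dualMap_eq_dualAnnihilator_ker] at hφ
  obtain ⟨ψ, hψ⟩ := hφ
  refine ⟨fun i => ψ (Pi.single i 1), ?_⟩
  funext j
  have h1 : φ (Pi.single j 1) = d j := by
    show d ⬝ᵥ Pi.single j 1 = d j
    simp
  rw [← h1, ← hψ, LinearMap.dualMap_apply, Matrix.mulVecLin_apply]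
  have h2 : N *ᵥ Pi.single j 1 = ∑ i, N i j • (Pi.single i 1 : n → F) := by
    funext k
    simp [Finset.sum_apply, Pi.single_apply]
  rw [h2, map_sum]
  simp only [mulVec, dotProduct, transpose_apply, map_smul, smul_eq_mul]



section char2
variable {m : ℕ} {F : Type*} [Field F]

/-- the matrix of the bilinear form `Σ u(inl i) v(inr i)` plus a rank-one square -/
def quadMat (m : ℕ) (F : Type*) [Field F] (c : Fin m ⊕ Fin m → F) : Matrix (Fin m ⊕ Fin m) (Fin m ⊕ Fin m) F :=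
  Matrix.fromBlocks 0 1 0 0 + vecMulVec c c

theorem quadMat_apply (c u v : Fin m ⊕ Fin m → F) :
    u ⬝ᵥ (quadMat m F c *ᵥ v) = ∑ i, u (Sum.inl i) * v (Sum.inr i) + (u ⬝ᵥ c) * (c ⬝ᵥ v) := by
  unfold quadMat
  rw [add_mulVec, dotProduct_add, vecMulVec_mulVec]
  congr 1
  · simp only [dotProduct, Fintype.sum_sum_type, mulVec, Matrix.fromBlocks_apply₁₁,
      Matrix.fromBlocks_apply₁₂, Matrix.fromBlocks_apply₂₁, Matrix.fromBlocks_apply₂₂, Matrix.zero_apply,
      Matrix.one_apply, zero_mul, Finset.sum_const_zero, zero_add, add_zero, mul_zero]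
    simp
  · rw [dotProduct_smul]
    simp [mul_comm]

/-- the quadratic form `Σ x_i y_i + (v·c)²` -/
noncomputable def quadOf (m : ℕ) (F : Type*) [Field F] (c : Fin m ⊕ Fin m → F) : QuadraticForm F (Fin m ⊕ Fin m → F) :=
  (quadMat m F c).toQuadraticForm'

theorem quadOf_apply (c v : Fin m ⊕ Fin m → F) :
    quadOf m F c v = ∑ i, v (Sum.inl i) * v (Sum.inr i) + (v ⬝ᵥ c) * (v ⬝ᵥ c) := by
  unfold quadOf Matrix.toQuadraticForm'
  rw [LinearMap.BilinMap.toQuadraticMap_apply, Matrix.toLinearMap₂'_apply', quadMat_apply, dotProduct_comm c v]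

theorem polar_quadOf [CharP F 2] (c u v : Fin m ⊕ Fin m → F) :
    QuadraticMap.polar (quadOf m F c) u v = Cfsg.sympForm m F u v := by
  unfold quadOf Matrix.toQuadraticForm'
  rw [LinearMap.BilinMap.polar_toQuadraticMap, Matrix.toLinearMap₂'_apply', Matrix.toLinearMap₂'_apply',
    quadMat_apply, quadMat_apply, sympForm_eq_sum]
  have h2 : (2 : F) = 0 := CharP.cast_eq_zero F 2
  rw [dotProduct_comm c v, dotProduct_comm c u, Finset.sum_sub_distrib]
  have : ∑ i, v (Sum.inl i) * u (Sum.inr i) = ∑ i, u (Sum.inr i) * v (Sum.inl i) :=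
    Finset.sum_congr rfl (fun i _ => mul_comm _ _)
  rw [this]
  linear_combination ((u ⬝ᵥ c) * (v ⬝ᵥ c) + ∑ i, u (Sum.inl i) * v (Sum.inr i)) * h2

end char2


section main
variable {m : ℕ} {F : Type*} [Field F]

theorem exists_invariant_quad [Finite F] [CharP F 2] (A : Matrix.symplecticGroup (Fin m) F) :
    ∃ c : Fin m ⊕ Fin m → F, ∀ v, quadOf m F c (A.1 *ᵥ v) = quadOf m F c v := by
  classical
  have : Fact (Nat.Prime 2) := ⟨Nat.prime_two⟩
  have hpres := (mem_symplecticGroup_iff_preserves A.1).1 A.2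
  have h2 : (2 : F) = 0 := CharP.cast_eq_zero F 2
  -- the defect of `Q₀`
  let φ : (Fin m ⊕ Fin m → F) →+ F := AddMonoidHom.mk' (fun v => quadOf m F 0 (A.1 *ᵥ v) - quadOf m F 0 v) (by
    intro u v
    rw [mulVec_add, QuadraticMap.map_add (quadOf m F 0), QuadraticMap.map_add (quadOf m F 0) u v, polar_quadOf, polar_quadOf,
      hpres]
    ring)
  have hφ : ∀ v, φ v = quadOf m F 0 (A.1 *ᵥ v) - quadOf m F 0 v := fun v => rfl
  have hφsmul : ∀ (a : F) v, φ (a • v) = a ^ 2 * φ v := by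
    intro a v
    rw [hφ, hφ, mulVec_smul, QuadraticMap.map_smul, QuadraticMap.map_smul]
    simp only [smul_eq_mul]; ring
  have hsq : ∀ i, ∃ s : F, φ (Pi.single i 1) = s * s := fun i =>
    FiniteField.isSquare_of_char_two (ringChar.eq F 2) _
  choose d hd using hsq
  have hφd : ∀ v, φ v = (v ⬝ᵥ d) ^ 2 := by
    intro v
    conv_lhs => rw [pi_eq_sum_univ' v, map_sum]
    rw [dotProduct, sum_pow_char 2]
    apply Finset.sum_congr rfl
    intro i _
    rw [hφsmul, hd]; ring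
  have hker : ∀ y, (A.1 - 1) *ᵥ y = 0 → d ⬝ᵥ y = 0 := by
    intro y hy
    rw [sub_mulVec, one_mulVec, sub_eq_zero] at hy
    have : φ y = 0 := by rw [hφ, hy, sub_self]
    rw [hφd] at this
    rw [dotProduct_comm]
    exact pow_eq_zero_iff (two_ne_zero) |>.1 this
  obtain ⟨c, hc⟩ := exists_transpose_mulVec_eq (A.1 - 1) d hker
  refine ⟨c, fun v => ?_⟩
  have h0 : ∀ c' w : Fin m ⊕ Fin m → F, quadOf m F c' w = quadOf m F 0 w + (w ⬝ᵥ c') * (w ⬝ᵥ c') := by
    intro c' w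
    rw [quadOf_apply, quadOf_apply, dotProduct_zero]; ring
  rw [h0 c, h0 c v]
  have h3 : quadOf m F 0 (A.1 *ᵥ v) = quadOf m F 0 v + (v ⬝ᵥ d) ^ 2 := by
    rw [← hφd, hφ]; ring
  have h4 : (A.1 *ᵥ v) ⬝ᵥ c = v ⬝ᵥ d + v ⬝ᵥ c := by
    rw [← hc, transpose_sub, sub_mulVec, transpose_one, one_mulVec, dotProduct_sub, dotProduct_mulVec, vecMul_transpose]
    ring
  rw [h3, h4]
  linear_combination ((v ⬝ᵥ d) ^ 2 + (v ⬝ᵥ d) * (v ⬝ᵥ c)) * h2

end main
end Cfsg.Agent.Lib.Helper15
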