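import Mathlib
import Cfsg.Agent.Lib.Helper15.SympQuad
import Cfsg.Agent.Lib.Helper15.SympOrder
import Cfsg.Agent.Lib.Helper15.QuadCount3
set_option autoImplicit false
namespace Cfsg.Agent.Lib.Helper15

open Matrix Module
open Cfsg.Agent.Lib.Helper6

section defect
variable {m : ℕ} {F : Type*} [Field F]

theorem quadOf_zero_apply (v : Fin m ⊕ Fin m → F) : quadOf m F 0 v = Cfsg.quadFormPlus m F v := by
  rw [quadOf_apply, dotProduct_zero, mul_zero, add_zero]
  rfl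

theorem polar_quadFormPlus [CharP F 2] (u v : Fin m ⊕ Fin m → F) :
    Cfsg.quadFormPlus m F (u + v) - Cfsg.quadFormPlus m F u - Cfsg.quadFormPlus m F v = Cfsg.sympForm m F u v := by
  rw [← quadOf_zero_apply, ← quadOf_zero_apply, ← quadOf_zero_apply, ← polar_quadOf (0 : Fin m ⊕ Fin m → F) u v]
  rfl

/-- in characteristic 2 a symplectic matrix changes the standard quadratic form by the square of a linear form -/
theorem exists_defect_vec [Finite F] [CharP F 2] (A : Matrix.symplecticGroup (Fin m) F) :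
    ∃ d : Fin m ⊕ Fin m → F, ∀ x, Cfsg.quadFormPlus m F (A.1 *ᵥ x) = Cfsg.quadFormPlus m F x + (x ⬝ᵥ d) ^ 2 := by
  classical
  have : Fact (Nat.Prime 2) := ⟨Nat.prime_two⟩
  have hpres := (mem_symplecticGroup_iff_preserves A.1).1 A.2
  let φ : (Fin m ⊕ Fin m → F) →+ F := AddMonoidHom.mk' (fun v => quadOf m F 0 (A.1 *ᵥ v) - quadOf m F 0 v) (by
    intro u v
    rw [mulVec_add, QuadraticMap.map_add (quadOf m F 0), QuadraticMap.map_add (quadOf m F 0) u v, polar_quadOf, polar_quadOf,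
      hpres]
    ring)
  have hφ : ∀ v, φ v = quadOf m F 0 (A.1 *ᵥ v) - quadOf m F 0 v := fun v => rfl
  have hφsmul : ∀ (a : F) v, φ (a • v) = a ^ 2 * φ v := by
    intro a v
    rw [hφ, hφ, mulVec_smul, QuadraticMap.map_smul, QuadraticMap.map_smul]
    simp only [smul_eq_mul]; ring
  have hsq : ∀ i, ∃ s : F, φ (Pi.single i 1) = s * s := fun i =>
    FiniteField.isSquare_of_char_two (ringChar.eq F 2) _
  choose d hd using hsq
  refine ⟨d, fun v => ?_⟩
  have hφd : φ v = (v ⬝ᵥ d) ^ 2 := by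
    conv_lhs => rw [pi_eq_sum_univ' v, map_sum]
    rw [dotProduct, sum_pow_char 2]
    apply Finset.sum_congr rfl
    intro i _
    rw [hφsmul, hd]; ring
  rw [← quadOf_zero_apply, ← quadOf_zero_apply, ← hφd, hφ]
  ring

end defect



section oddsp
variable {m : ℕ} {F : Type*} [Field F] [CharP F 2]

theorem quadFormOdd_eq (v : Unit ⊕ (Fin m ⊕ Fin m) → F) :
    Cfsg.quadFormOdd m F v = v (Sum.inl ()) ^ 2 + Cfsg.quadFormPlus m F (v ∘ Sum.inr) := rfl

omit [CharP F 2] in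
theorem two_eq_zero_of_charP [CharP F 2] : (2 : F) = 0 := CharP.cast_eq_zero F 2

theorem polar_quadFormOdd (u v : Unit ⊕ (Fin m ⊕ Fin m) → F) :
    Cfsg.quadFormOdd m F (u + v) - Cfsg.quadFormOdd m F u - Cfsg.quadFormOdd m F v =
      Cfsg.sympForm m F (u ∘ Sum.inr) (v ∘ Sum.inr) := by
  rw [quadFormOdd_eq, quadFormOdd_eq, quadFormOdd_eq, ← polar_quadFormPlus]
  have h2 : (2 : F) = 0 := CharP.cast_eq_zero F 2
  have : (u + v) ∘ Sum.inr = u ∘ Sum.inr + v ∘ Sum.inr := rfl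
  rw [this]
  simp only [Pi.add_apply]
  linear_combination u (Sum.inl ()) * v (Sum.inl ()) * h2

/-- extension by zero -/
def extOdd (x : Fin m ⊕ Fin m → F) : Unit ⊕ (Fin m ⊕ Fin m) → F := Sum.elim 0 x

omit [CharP F 2] in
theorem extOdd_inr (x : Fin m ⊕ Fin m → F) : (extOdd x) ∘ Sum.inr = x := rfl

theorem iso_symp (M : Matrix (Unit ⊕ (Fin m ⊕ Fin m)) (Unit ⊕ (Fin m ⊕ Fin m)) F)
    (hM : ∀ v, Cfsg.quadFormOdd m F (M *ᵥ v) = Cfsg.quadFormOdd m F v) (u v : Unit ⊕ (Fin m ⊕ Fin m) → F) :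
    Cfsg.sympForm m F ((M *ᵥ u) ∘ Sum.inr) ((M *ᵥ v) ∘ Sum.inr) = Cfsg.sympForm m F (u ∘ Sum.inr) (v ∘ Sum.inr) := by
  rw [← polar_quadFormOdd, ← polar_quadFormOdd, ← mulVec_add, hM, hM, hM]

theorem iso_e0 (g : Cfsg.isometryGroup F (Cfsg.quadFormOdd m F)) :
    (g.1.1 *ᵥ Pi.single (Sum.inl ()) 1 : Unit ⊕ (Fin m ⊕ Fin m) → F) = Pi.single (Sum.inl ()) 1 := by
  have hM := (mem_isometryGroup_iff _ g.1).1 g.2
  have hMi := (mem_isometryGroup_iff _ (g⁻¹).1).1 (g⁻¹).2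
  set w := (g.1.1 *ᵥ Pi.single (Sum.inl ()) 1 : Unit ⊕ (Fin m ⊕ Fin m) → F) with hw
  have h1 : w ∘ Sum.inr = 0 := by
    apply stdSymp_nondeg
    intro y
    rw [stdSymp_apply]
    have hy : extOdd y = g.1.1 *ᵥ ((g⁻¹).1.1 *ᵥ extOdd y) := by
      rw [mulVec_mulVec]
      have : g.1.1 * (g⁻¹).1.1 = 1 := by
        have := mul_inv_cancel g.1
        exact congrArg Units.val this
      rw [this, one_mulVec]
    rw [← extOdd_inr y, hy, hw, iso_symp g.1.1 hM]
    have : (Pi.single (Sum.inl ()) 1 : Unit ⊕ (Fin m ⊕ Fin m) → F) ∘ Sum.inr = 0 := by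
      funext x; simp
    rw [this, sympForm_zero_left]
  have h2 : w (Sum.inl ()) = 1 := by
    have h3 := hM (Pi.single (Sum.inl ()) 1)
    rw [← hw, quadFormOdd_eq, quadFormOdd_eq, h1] at h3
    have h4 : (Pi.single (Sum.inl ()) 1 : Unit ⊕ (Fin m ⊕ Fin m) → F) ∘ Sum.inr = 0 := by
      funext x; simp
    rw [h4] at h3
    have h5 : Cfsg.quadFormPlus m F 0 = 0 := by unfold Cfsg.quadFormPlus; simp
    rw [h5] at h3
    simp only [Pi.single_eq_same, add_zero, one_pow] at h3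
    have h2' : (2 : F) = 0 := CharP.cast_eq_zero F 2
    have : (w (Sum.inl ()) - 1) ^ 2 = 0 := by linear_combination h3 - w (Sum.inl ()) * h2' + h2'
    exact sub_eq_zero.1 ((pow_eq_zero_iff two_ne_zero).1 this)
  funext i
  rcases i with ⟨⟩ | x
  · rw [h2]; simp
  · have := congrFun h1 x
    simp only [Function.comp_apply, Pi.zero_apply] at this
    rw [this]; simp

theorem iso_blocks (g : Cfsg.isometryGroup F (Cfsg.quadFormOdd m F)) :
    g.1.1.toBlocks₂₁ = 0 ∧ g.1.1.toBlocks₁₁ = 1 := by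
  have h := iso_e0 g
  rw [mulVec_single_one] at h
  constructor
  · ext x u
    cases u
    have := congrFun h (Sum.inr x)
    simp only [Matrix.col_apply, Pi.single_apply, reduceCtorEq, if_false] at this
    exact this
  · ext u u'
    cases u; cases u'
    have := congrFun h (Sum.inl ())
    simp only [Matrix.col_apply, Pi.single_apply, if_true] at this
    exact this

end oddsp


section oddsp2
variable {m : ℕ} {F : Type*} [Field F] [CharP F 2]

omit [CharP F 2] in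
theorem mulVec_comp_inr (M : Matrix (Unit ⊕ (Fin m ⊕ Fin m)) (Unit ⊕ (Fin m ⊕ Fin m)) F)
    (v : Unit ⊕ (Fin m ⊕ Fin m) → F) :
    (M *ᵥ v) ∘ Sum.inr = M.toBlocks₂₁ *ᵥ (v ∘ Sum.inl) + M.toBlocks₂₂ *ᵥ (v ∘ Sum.inr) := by
  conv_lhs => rw [← fromBlocks_toBlocks M, fromBlocks_mulVec]
  rfl

omit [CharP F 2] in
theorem mulVec_comp_inl (M : Matrix (Unit ⊕ (Fin m ⊕ Fin m)) (Unit ⊕ (Fin m ⊕ Fin m)) F)
    (v : Unit ⊕ (Fin m ⊕ Fin m) → F) :
    (M *ᵥ v) ∘ Sum.inl = M.toBlocks₁₁ *ᵥ (v ∘ Sum.inl) + M.toBlocks₁₂ *ᵥ (v ∘ Sum.inr) := by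
  conv_lhs => rw [← fromBlocks_toBlocks M, fromBlocks_mulVec]
  rfl

theorem iso_block22_mem (g : Cfsg.isometryGroup F (Cfsg.quadFormOdd m F)) :
    g.1.1.toBlocks₂₂ ∈ Matrix.symplecticGroup (Fin m) F := by
  rw [mem_symplecticGroup_iff_preserves]
  intro x y
  have hM := (mem_isometryGroup_iff _ g.1).1 g.2
  have h := iso_symp g.1.1 hM (extOdd x) (extOdd y)
  rw [mulVec_comp_inr, mulVec_comp_inr, (iso_blocks g).1, zero_mulVec, zero_add, zero_mulVec, zero_add] at h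
  exact h

omit [CharP F 2] in
theorem toBlocks₂₂_mul (M N : Matrix (Unit ⊕ (Fin m ⊕ Fin m)) (Unit ⊕ (Fin m ⊕ Fin m)) F) :
    (M * N).toBlocks₂₂ = M.toBlocks₂₁ * N.toBlocks₁₂ + M.toBlocks₂₂ * N.toBlocks₂₂ := by
  conv_lhs => rw [← fromBlocks_toBlocks M, ← fromBlocks_toBlocks N, fromBlocks_multiply]
  rfl

/-- the projection of the odd-dimensional orthogonal group onto the symplectic group -/
def oddToSp (m : ℕ) (F : Type*) [Field F] [CharP F 2] :
    Cfsg.isometryGroup F (Cfsg.quadFormOdd m F) →* Matrix.symplecticGroup (Fin m) F where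
  toFun g := ⟨g.1.1.toBlocks₂₂, iso_block22_mem g⟩
  map_one' := by
    apply Subtype.ext
    show (1 : Matrix (Unit ⊕ (Fin m ⊕ Fin m)) (Unit ⊕ (Fin m ⊕ Fin m)) F).toBlocks₂₂ = 1
    ext i j
    simp [Matrix.toBlocks₂₂, Matrix.one_apply]
  map_mul' g h := by
    apply Subtype.ext
    show (g.1.1 * h.1.1).toBlocks₂₂ = g.1.1.toBlocks₂₂ * h.1.1.toBlocks₂₂
    rw [toBlocks₂₂_mul, (iso_blocks g).1, Matrix.zero_mul, zero_add]

theorem oddToSp_injective : Function.Injective (oddToSp m F) := by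
  rw [injective_iff_map_eq_one]
  intro g hg
  have hA : g.1.1.toBlocks₂₂ = 1 := congrArg Subtype.val hg
  have hM := (mem_isometryGroup_iff _ g.1).1 g.2
  obtain ⟨h21, h11⟩ := iso_blocks g
  have h12 : g.1.1.toBlocks₁₂ = 0 := by
    ext u j
    cases u
    have h := hM (extOdd (Pi.single j 1))
    rw [quadFormOdd_eq, quadFormOdd_eq, mulVec_comp_inr, h21, hA, zero_mulVec, zero_add, one_mulVec, extOdd_inr] at h
    have h3 : (g.1.1 *ᵥ extOdd (Pi.single j 1)) (Sum.inl ()) = g.1.1.toBlocks₁₂ () j := by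
      have := congrFun (mulVec_comp_inl g.1.1 (extOdd (Pi.single j 1))) ()
      simp only [Function.comp_apply] at this
      rw [this, h11]
      have h5 : (extOdd (Pi.single j (1 : F))) ∘ Sum.inl = (0 : Unit → F) := rfl
      rw [h5, extOdd_inr, mulVec_zero, zero_add, mulVec_single_one]
      rfl
    rw [h3] at h
    have h4 : (extOdd (Pi.single j (1 : F)) : Unit ⊕ (Fin m ⊕ Fin m) → F) (Sum.inl ()) = 0 := rfl
    rw [h4] at h
    have : g.1.1.toBlocks₁₂ () j ^ 2 = 0 := by linear_combination h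
    exact (pow_eq_zero_iff two_ne_zero).1 this
  apply Subtype.ext
  apply Units.ext
  show g.1.1 = 1
  rw [← fromBlocks_toBlocks g.1.1, h11, h12, h21, hA, fromBlocks_one]

end oddsp2

section oddsp3
variable {m : ℕ} {F : Type*} [Field F] [CharP F 2]

theorem oddToSp_surjective [Finite F] : Function.Surjective (oddToSp m F) := by
  intro A
  obtain ⟨d, hd⟩ := exists_defect_vec A
  set M : Matrix (Unit ⊕ (Fin m ⊕ Fin m)) (Unit ⊕ (Fin m ⊕ Fin m)) F :=
    Matrix.fromBlocks (1 : Matrix Unit Unit F) (Matrix.of fun _ j => d j) 0 A.1 with hMdef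
  have hMv : ∀ v : Unit ⊕ (Fin m ⊕ Fin m) → F,
      (M *ᵥ v) (Sum.inl ()) = v (Sum.inl ()) + (v ∘ Sum.inr) ⬝ᵥ d ∧ (M *ᵥ v) ∘ Sum.inr = A.1 *ᵥ (v ∘ Sum.inr) := by
    intro v
    rw [hMdef, fromBlocks_mulVec]
    constructor
    · simp only [Sum.elim_inl, Pi.add_apply, one_mulVec, Function.comp_apply]
      congr 1
      simp only [mulVec, dotProduct, Matrix.of_apply, Function.comp_apply]
      exact Finset.sum_congr rfl (fun j _ => mul_comm _ _)
    · funext x
      simp only [Function.comp_apply, Sum.elim_inr, Pi.add_apply, zero_mulVec, Pi.zero_apply, zero_add]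
  have hiso : ∀ v, Cfsg.quadFormOdd m F (M *ᵥ v) = Cfsg.quadFormOdd m F v := by
    intro v
    rw [quadFormOdd_eq, quadFormOdd_eq, (hMv v).1, (hMv v).2, hd]
    have h2 : (2 : F) = 0 := CharP.cast_eq_zero F 2
    linear_combination (v (Sum.inl ()) * ((v ∘ Sum.inr) ⬝ᵥ d) + ((v ∘ Sum.inr) ⬝ᵥ d) ^ 2) * h2
  have hunit : IsUnit M := by
    rw [Matrix.isUnit_iff_isUnit_det, hMdef, Matrix.det_fromBlocks_zero₂₁, Matrix.det_one, one_mul]
    exact _root_.SymplecticGroup.symplectic_det A.2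
  refine ⟨⟨hunit.unit, ?_⟩, ?_⟩
  · rw [mem_isometryGroup_iff]
    exact hiso
  · apply Subtype.ext
    show M.toBlocks₂₂ = A.1
    rw [hMdef, toBlocks_fromBlocks₂₂]

/-- in characteristic 2 the odd-dimensional orthogonal group is the symplectic group -/
theorem odd_orthogonal_equiv_symplectic [Finite F] :
    Nonempty (Cfsg.isometryGroup F (Cfsg.quadFormOdd m F) ≃* Matrix.symplecticGroup (Fin m) F) :=
  ⟨MulEquiv.ofBijective (oddToSp m F) ⟨oddToSp_injective, oddToSp_surjective⟩⟩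

end oddsp3

end Cfsg.Agent.Lib.Helper15
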