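import Mathlib
import Cfsg.Prelude.Def_Classical

set_option autoImplicit false

namespace Cfsg.Agent.Lib.Helper15

open Module QuadraticMap

variable (F : Type*) [Field F]

/-- `quadFormPlus` as a Mathlib quadratic form -/
noncomputable def QPlus (m : ℕ) : QuadraticForm F (Fin m ⊕ Fin m → F) :=
  ∑ i : Fin m, QuadraticMap.proj (R := F) (A := F) (Sum.inl i) (Sum.inr i)

theorem QPlus_apply (m : ℕ) (v : Fin m ⊕ Fin m → F) : QPlus F m v = Cfsg.quadFormPlus m F v := by
  unfold QPlus Cfsg.quadFormPlus
  rw [_root_.sum_apply]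
  rfl

/-- `quadFormMinus` as a Mathlib quadratic form -/
noncomputable def QMinus (k : ℕ) (a b : F) : QuadraticForm F ((Fin k ⊕ Fin k) ⊕ Fin 2 → F) :=
  (∑ i : Fin k, QuadraticMap.proj (R := F) (A := F) (Sum.inl (Sum.inl i)) (Sum.inl (Sum.inr i)))
    + (QuadraticMap.proj (R := F) (A := F) (Sum.inr 0) (Sum.inr 0) + a • QuadraticMap.proj (R := F) (A := F) (Sum.inr 0) (Sum.inr 1)
      + b • QuadraticMap.proj (R := F) (A := F) (Sum.inr 1) (Sum.inr 1))

theorem QMinus_apply (k : ℕ) (a b : F) (v : (Fin k ⊕ Fin k) ⊕ Fin 2 → F) :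
    QMinus F k a b v = Cfsg.quadFormMinus k F a b v := by
  unfold QMinus Cfsg.quadFormMinus
  rw [_root_.add_apply, _root_.sum_apply, _root_.add_apply, _root_.add_apply, _root_.smul_apply, _root_.smul_apply]
  simp only [proj_apply, smul_eq_mul]
  ring

theorem polar_QPlus (m : ℕ) (u v : Fin m ⊕ Fin m → F) :
    polar (QPlus F m) u v = ∑ i : Fin m, (u (Sum.inl i) * v (Sum.inr i) + u (Sum.inr i) * v (Sum.inl i)) := by
  unfold polar
  rw [QPlus_apply, QPlus_apply, QPlus_apply]
  unfold Cfsg.quadFormPlus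
  rw [← Finset.sum_sub_distrib, ← Finset.sum_sub_distrib]
  refine Finset.sum_congr rfl fun i _ => ?_
  simp only [Pi.add_apply]
  ring

theorem nondegenerate_QPlus (m : ℕ) : (polarBilin (QPlus F m)).Nondegenerate := by
  classical
  have hleft : ∀ u : Fin m ⊕ Fin m → F, (∀ v, polar (QPlus F m) u v = 0) → u = 0 := by
    intro u hu
    funext j
    rcases j with j | j
    · have := hu (Pi.single (Sum.inr j) 1)
      rw [polar_QPlus] at this
      simpa [Pi.single_apply, Finset.sum_ite_eq] using this
    · have := hu (Pi.single (Sum.inl j) 1)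
      rw [polar_QPlus] at this
      simpa [Pi.single_apply, Finset.sum_ite_eq] using this
  constructor
  · intro u hu
    exact hleft u hu
  · intro u hu
    apply hleft u
    intro v
    rw [polar_comm]
    exact hu v


theorem polar_QMinus (k : ℕ) (a b : F) (u v : (Fin k ⊕ Fin k) ⊕ Fin 2 → F) :
    polar (QMinus F k a b) u v =
      ∑ i : Fin k, (u (Sum.inl (Sum.inl i)) * v (Sum.inl (Sum.inr i)) + u (Sum.inl (Sum.inr i)) * v (Sum.inl (Sum.inl i)))
        + (2 * u (Sum.inr 0) * v (Sum.inr 0) + a * (u (Sum.inr 0) * v (Sum.inr 1) + u (Sum.inr 1) * v (Sum.inr 0))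
          + 2 * b * u (Sum.inr 1) * v (Sum.inr 1)) := by
  unfold polar
  rw [QMinus_apply, QMinus_apply, QMinus_apply]
  unfold Cfsg.quadFormMinus
  have h1 : ∀ (A B C A' B' C' : F), (A + A') - (B + B') - (C + C') = (A - B - C) + (A' - B' - C') := by
    intros; ring
  rw [h1, ← Finset.sum_sub_distrib, ← Finset.sum_sub_distrib]
  congr 1
  · refine Finset.sum_congr rfl fun i _ => ?_
    simp only [Pi.add_apply]
    ring
  · simp only [Pi.add_apply]
    ring

theorem nondegenerate_QMinus_two (k : ℕ) : (polarBilin (QMinus (ZMod 2) k 1 1)).Nondegenerate := by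
  classical
  have h2 : (2 : ZMod 2) = 0 := rfl
  have hleft : ∀ u : (Fin k ⊕ Fin k) ⊕ Fin 2 → ZMod 2, (∀ v, polar (QMinus (ZMod 2) k 1 1) u v = 0) → u = 0 := by
    intro u hu
    funext j
    rcases j with (j | j) | j
    · have := hu (Pi.single (Sum.inl (Sum.inr j)) 1)
      rw [polar_QMinus] at this
      simpa [Pi.single_apply, Finset.sum_ite_eq] using this
    · have := hu (Pi.single (Sum.inl (Sum.inl j)) 1)
      rw [polar_QMinus] at this
      simpa [Pi.single_apply, Finset.sum_ite_eq] using this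
    · fin_cases j
      · have := hu (Pi.single (Sum.inr 1) 1)
        rw [polar_QMinus] at this
        simpa [Pi.single_apply, Finset.sum_ite_eq, h2] using this
      · have := hu (Pi.single (Sum.inr 0) 1)
        rw [polar_QMinus] at this
        simpa [Pi.single_apply, Finset.sum_ite_eq, h2] using this
  constructor
  · intro u hu
    exact hleft u hu
  · intro u hu
    apply hleft u
    intro v
    rw [polar_comm]
    exact hu v

end Cfsg.Agent.Lib.Helper15
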