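import Mathlib
set_option autoImplicit false
namespace Cfsg.Agent.Lib.Helper15

section a4rec

/-- a group of order `12` with a non-normal subgroup of order `3` is `A₄` -/
theorem nonempty_mulEquiv_A4 {H : Type*} [Group H] (hH : Nat.card H = 12) (K : Subgroup H)
    (hK : Nat.card K = 3) (hn : ¬ K.Normal) : Nonempty (H ≃* alternatingGroup (Fin 4)) := by
  classical
  have hfin : Finite H := Nat.finite_of_card_ne_zero (by omega)
  haveI := Fintype.ofFinite (H ⧸ K)
  have hker : (MulAction.toPermHom H (H ⧸ K)).ker = ⊥ := by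
    rw [← Subgroup.normalCore_eq_ker]
    have hle := K.normalCore_le
    have hdvd := Subgroup.card_dvd_of_le hle
    rw [hK] at hdvd
    rcases (Nat.dvd_prime Nat.prime_three).1 hdvd with h | h
    · exact Subgroup.card_eq_one.1 h
    · exfalso
      apply hn
      have : K.normalCore = K := Subgroup.eq_of_le_of_card_ge hle (by rw [h, hK])
      rw [← this]
      infer_instance
  have hinj : Function.Injective (MulAction.toPermHom H (H ⧸ K)) :=
    (MonoidHom.ker_eq_bot_iff _).1 hker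
  have hcardQ : Nat.card (H ⧸ K) = 4 := by
    have := Subgroup.card_eq_card_quotient_mul_card_subgroup K
    rw [hH, hK] at this
    omega
  have hr : Nat.card (MulAction.toPermHom H (H ⧸ K)).range = 12 :=
    (Nat.card_congr (MonoidHom.ofInjective hinj).toEquiv).symm.trans hH
  have hidx : (MulAction.toPermHom H (H ⧸ K)).range.index = 2 := by
    have h1 := Subgroup.card_mul_index (MulAction.toPermHom H (H ⧸ K)).range
    rw [hr, Nat.card_perm, hcardQ] at h1
    have : (4 : ℕ).factorial = 24 := by decide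
    omega
  have hrange := Equiv.Perm.eq_alternatingGroup_of_index_eq_two hidx
  have hcardQ' : Fintype.card (H ⧸ K) = 4 := by rw [← Nat.card_eq_fintype_card]; exact hcardQ
  exact ⟨(MonoidHom.ofInjective hinj).trans ((MulEquiv.subgroupCongr hrange).trans
    (Equiv.altCongrHom (Fintype.equivFinOfCardEq hcardQ')))⟩

/-- the product of a subgroup with a subgroup normalizing it -/
def mulSub {G : Type*} [Group G] (V K : Subgroup G) (h : K ≤ Subgroup.normalizer (V : Set G)) : Subgroup G where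
  carrier := {x | ∃ v ∈ V, ∃ k ∈ K, x = v * k}
  mul_mem' := by
    rintro _ _ ⟨v, hv, k, hk, rfl⟩ ⟨v', hv', k', hk', rfl⟩
    refine ⟨v * (k * v' * k⁻¹), V.mul_mem hv ((Subgroup.mem_normalizer_iff.1 (h hk) v').1 hv'), k * k',
      K.mul_mem hk hk', ?_⟩
    group
  one_mem' := ⟨1, V.one_mem, 1, K.one_mem, (mul_one 1).symm⟩
  inv_mem' := by
    rintro _ ⟨v, hv, k, hk, rfl⟩
    refine ⟨k⁻¹ * v⁻¹ * k⁻¹⁻¹, (Subgroup.mem_normalizer_iff.1 (h (K.inv_mem hk)) v⁻¹).1 (V.inv_mem hv), k⁻¹,
      K.inv_mem hk, ?_⟩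
    group

theorem mem_mulSub {G : Type*} [Group G] (V K : Subgroup G) (h : K ≤ Subgroup.normalizer (V : Set G)) (x : G) :
    x ∈ mulSub V K h ↔ ∃ v ∈ V, ∃ k ∈ K, x = v * k := Iff.rfl

theorem left_le_mulSub {G : Type*} [Group G] (V K : Subgroup G) (h : K ≤ Subgroup.normalizer (V : Set G)) :
    V ≤ mulSub V K h := fun v hv => ⟨v, hv, 1, K.one_mem, (mul_one v).symm⟩

theorem right_le_mulSub {G : Type*} [Group G] (V K : Subgroup G) (h : K ≤ Subgroup.normalizer (V : Set G)) :
    K ≤ mulSub V K h := fun k hk => ⟨1, V.one_mem, k, hk, (one_mul k).symm⟩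

theorem card_mulSub {G : Type*} [Group G] (V K : Subgroup G) (h : K ≤ Subgroup.normalizer (V : Set G))
    (hd : Disjoint V K) : Nat.card (mulSub V K h) = Nat.card V * Nat.card K := by
  rw [← Nat.card_prod]
  symm
  apply Nat.card_congr
  refine Equiv.ofBijective (fun p : V × K => (⟨p.1.1 * p.2.1, ⟨p.1.1, p.1.2, p.2.1, p.2.2, rfl⟩⟩ : mulSub V K h)) ⟨?_, ?_⟩
  · intro p p' hpp
    exact Subgroup.mul_injective_of_disjoint hd (congrArg Subtype.val hpp)
  · rintro ⟨_, v, hv, k, hk, rfl⟩
    exact ⟨(⟨v, hv⟩, ⟨k, hk⟩), rfl⟩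

end a4rec
end Cfsg.Agent.Lib.Helper15
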