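import Mathlib
import Cfsg.Agent.Lib.Helper15.Klein1
import Cfsg.Agent.Lib.Helper15.A4Rec
set_option autoImplicit false
namespace Cfsg.Agent.Lib.Helper15

section a4data

theorem exists_A4_of_data {P : Type*} [Group P] (u v h : P) (hu : u * u = 1) (hv : v * v = 1)
    (huv : u * v = v * u) (hu1 : u ≠ 1) (hv1 : v ≠ 1) (hne : u ≠ v) (hh : h ^ 3 = 1)
    (hcu : h * u * h⁻¹ = v) (hcv : h * v * h⁻¹ = u * v) :
    ∃ H : Subgroup P, Nonempty (H ≃* alternatingGroup (Fin 4)) := by
  have hcuv : h * (u * v) * h⁻¹ = u := by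
    have : h * (u * v) * h⁻¹ = (h * u * h⁻¹) * (h * v * h⁻¹) := by group
    rw [this, hcu, hcv, ← mul_assoc, ← huv, mul_assoc, hv, mul_one]
  have hfwd : ∀ x, x ∈ kleinSub u v hu hv huv → h * x * h⁻¹ ∈ kleinSub u v hu hv huv := by
    intro x hx
    rcases hx with hx | hx | hx | hx
    · rw [hx, mul_one, mul_inv_cancel]; exact Subgroup.one_mem _
    · rw [hx, hcu]; exact Or.inr (Or.inr (Or.inl rfl))
    · rw [hx, hcv]; exact Or.inr (Or.inr (Or.inr rfl))
    · rw [hx, hcuv]; exact Or.inr (Or.inl rfl)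
  have hinv : h⁻¹ = h * h := by
    apply inv_eq_of_mul_eq_one_right
    rw [← hh, pow_succ, pow_two, mul_assoc]
  have hhn : h ∈ Subgroup.normalizer ((kleinSub u v hu hv huv : Subgroup P) : Set P) := by
    rw [Subgroup.mem_normalizer_iff]
    intro x
    refine ⟨hfwd x, fun hx => ?_⟩
    have h1 := hfwd _ (hfwd _ hx)
    have : h * (h * (h * x * h⁻¹) * h⁻¹) * h⁻¹ = x := by
      have e : h * (h * (h * x * h⁻¹) * h⁻¹) * h⁻¹ = (h * h * h) * x * (h * h * h)⁻¹ := by group
      have e3 : h * h * h = 1 := by rw [← hh, pow_succ, pow_two]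
      rw [e, e3, one_mul, inv_one, mul_one]
    rw [this] at h1
    exact h1
  have hK : Subgroup.zpowers h ≤ Subgroup.normalizer ((kleinSub u v hu hv huv : Subgroup P) : Set P) :=
    Subgroup.zpowers_le.2 hhn
  have hh1 : h ≠ 1 := by
    rintro rfl
    apply hne
    rw [← hcu]; group
  have hord : orderOf h = 3 := orderOf_eq_prime hh hh1
  have hcK : Nat.card (Subgroup.zpowers h) = 3 := by rw [Nat.card_zpowers, hord]
  have hd : Disjoint (kleinSub u v hu hv huv) (Subgroup.zpowers h) := by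
    rw [Subgroup.disjoint_def]
    intro x hxV hxK
    have hx2 : x * x = 1 := by
      rcases hxV with hx | hx | hx | hx <;> rw [hx]
      · exact one_mul 1
      · exact hu
      · exact hv
      · rw [mul_assoc, ← mul_assoc v, ← huv, mul_assoc u, hv, mul_one, hu]
    have hx3 : x ^ 3 = 1 := by
      obtain ⟨k, rfl⟩ := Subgroup.mem_zpowers_iff.1 hxK
      rw [← zpow_natCast, ← zpow_mul, mul_comm, zpow_mul, zpow_natCast, hh, one_zpow]
    calc x = x ^ 3 * (x * x)⁻¹ := by rw [pow_succ, pow_two]; group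
      _ = 1 := by rw [hx3, hx2, inv_one, mul_one]
  have hcH := card_mulSub _ _ hK hd
  rw [card_kleinSub u v hu hv huv hu1 hv1 hne, hcK] at hcH
  refine ⟨mulSub _ _ hK, ?_⟩
  apply nonempty_mulEquiv_A4 (by rw [hcH]) ((Subgroup.zpowers h).subgroupOf (mulSub _ _ hK))
  · rw [Nat.card_congr (Subgroup.subgroupOfEquivOfLe (right_le_mulSub _ _ hK)).toEquiv, hcK]
  · intro hnorm
    have huH : u ∈ mulSub _ _ hK := left_le_mulSub _ _ hK (Or.inr (Or.inl rfl))
    have hhH : h ∈ mulSub _ _ hK := right_le_mulSub _ _ hK (Subgroup.mem_zpowers h)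
    have hmem : (⟨h, hhH⟩ : mulSub _ _ hK) ∈ (Subgroup.zpowers h).subgroupOf (mulSub _ _ hK) := by
      rw [Subgroup.mem_subgroupOf]
      exact Subgroup.mem_zpowers h
    have h1 := hnorm.conj_mem _ hmem ⟨u, huH⟩
    rw [Subgroup.mem_subgroupOf] at h1
    have h1' : u * h * u⁻¹ ∈ Subgroup.zpowers h := h1
    have h3 : u * h * u⁻¹ * h⁻¹ ∈ Subgroup.zpowers h :=
      Subgroup.mul_mem _ h1' (Subgroup.inv_mem _ (Subgroup.mem_zpowers h))
    have h4 : u * h * u⁻¹ * h⁻¹ = u * v⁻¹ := by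
      rw [← hcu]; group
    have h5 : u * v⁻¹ ∈ kleinSub u v hu hv huv :=
      Subgroup.mul_mem _ (Or.inr (Or.inl rfl)) (Subgroup.inv_mem _ (Or.inr (Or.inr (Or.inl rfl))))
    rw [h4] at h3
    have h6 := (Subgroup.disjoint_def.1 hd) h5 h3
    apply hne
    calc u = u * v⁻¹ * v := by group
      _ = v := by rw [h6, one_mul]

end a4data
end Cfsg.Agent.Lib.Helper15
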