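import Mathlib
import Cfsg.Agent.Lib.Helper15.Klein2
set_option autoImplicit false
namespace Cfsg.Agent.Lib.Helper15

section cyclicsq

theorem cyclic_sq_or {C : Type*} [Group C] [IsCyclic C] (t₀ : C) (h : ¬ ∃ s : C, t₀ = s * s) (t : C) :
    (∃ s : C, t = s * s) ∨ (∃ s : C, t = s * s * t₀) := by
  obtain ⟨γ, hγ⟩ := IsCyclic.exists_generator (α := C)
  obtain ⟨k, hk⟩ := Subgroup.mem_zpowers_iff.1 (hγ t₀)
  obtain ⟨m, hm⟩ := Subgroup.mem_zpowers_iff.1 (hγ t)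
  have hkodd : Odd k := by
    rw [← Int.not_even_iff_odd]
    rintro ⟨j, hj⟩
    apply h
    refine ⟨γ ^ j, ?_⟩
    rw [← hk, hj, zpow_add]
  rcases Int.even_or_odd m with ⟨j, hj⟩ | hmodd
  · left
    refine ⟨γ ^ j, ?_⟩
    rw [← hm, hj, zpow_add]
  · right
    obtain ⟨j, hj⟩ : Even (m - k) := Odd.sub_odd hmodd hkodd
    refine ⟨γ ^ j, ?_⟩
    rw [← hk, ← hm, ← zpow_add, ← zpow_add]
    congr 1
    omega

theorem cyclic_exists_nonsq {C : Type*} [Group C] [IsCyclic C] [Finite C] (h : Even (Nat.card C)) :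
    ∃ t₀ : C, ¬ ∃ s : C, t₀ = s * s := by
  obtain ⟨γ, hγ⟩ := IsCyclic.exists_generator (α := C)
  refine ⟨γ, ?_⟩
  rintro ⟨s, hs⟩
  obtain ⟨j, hj⟩ := Subgroup.mem_zpowers_iff.1 (hγ s)
  have h1 : γ ^ (2 * j - 1) = 1 := by
    rw [zpow_sub, zpow_one, two_mul, zpow_add, hj, ← hs, mul_inv_cancel]
  have h3 := orderOf_dvd_iff_zpow_eq_one.2 h1
  rw [orderOf_eq_card_of_forall_mem_zpowers hγ] at h3
  obtain ⟨c, hc⟩ := h
  rw [hc] at h3
  have h4 : (2 : ℤ) ∣ 2 * j - 1 := dvd_trans ⟨(c : ℤ), by push_cast; ring⟩ h3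
  obtain ⟨d, hd⟩ := h4
  omega

end cyclicsq

open Matrix
open Cfsg.Agent.Lib.Helper14

section klein3
variable {F : Type*} [Field F]

/-- conjugating an inverting element by a torus element multiplies it by a square -/
theorem conj_inverting_eq (h2 : (2 : F) ≠ 0) (a : SpecialLinearGroup (Fin 2) F) (ha : a * a = -1)
    (b : SpecialLinearGroup (Fin 2) F) (hb : b * a * b⁻¹ = a⁻¹) (t : SpecialLinearGroup (Fin 2) F)
    (ht : t ∈ Subgroup.centralizer ({a} : Set (SpecialLinearGroup (Fin 2) F))) :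
    t * b * t⁻¹ = t * t * b := by
  have h1 := inverting_torus a (not_isScalar2_of_sq h2 a ha) b hb t⁻¹ (Subgroup.inv_mem _ ht)
  rw [inv_inv] at h1
  calc t * b * t⁻¹ = t * (b * t⁻¹ * b⁻¹) * b := by group
    _ = t * t * b := by rw [h1]

/-- an element inverting `a` times a torus element inverts `a` -/
theorem torus_mul_inverting (a : SpecialLinearGroup (Fin 2) F)
    (b : SpecialLinearGroup (Fin 2) F) (hb : b * a * b⁻¹ = a⁻¹) (t : SpecialLinearGroup (Fin 2) F)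
    (ht : t ∈ Subgroup.centralizer ({a} : Set (SpecialLinearGroup (Fin 2) F))) :
    (t * b) * a * (t * b)⁻¹ = a⁻¹ := by
  rw [mem_centralizer_iff_conj_eq] at ht
  calc t * b * a * (t * b)⁻¹ = t * (b * a * b⁻¹) * t⁻¹ := by group
    _ = t * a⁻¹ * t⁻¹ := by rw [hb]
    _ = (t * a * t⁻¹)⁻¹ := by group
    _ = a⁻¹ := by rw [ht]

/-- the quotient of two inverting elements lies in the torus -/
theorem inverting_mul_inv_mem (a : SpecialLinearGroup (Fin 2) F)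
    (b b' : SpecialLinearGroup (Fin 2) F) (hb : b * a * b⁻¹ = a⁻¹) (hb' : b' * a * b'⁻¹ = a⁻¹) :
    b' * b⁻¹ ∈ Subgroup.centralizer ({a} : Set (SpecialLinearGroup (Fin 2) F)) := by
  rw [mem_centralizer_iff_conj_eq]
  have e : b⁻¹ * a * b = a⁻¹ := by
    have : a = b⁻¹ * a⁻¹ * b := by rw [← hb]; group
    calc b⁻¹ * a * b = (b⁻¹ * a⁻¹ * b)⁻¹ := by group
      _ = a⁻¹ := by rw [← this]
  calc b' * b⁻¹ * a * (b' * b⁻¹)⁻¹ = b' * (b⁻¹ * a * b) * b'⁻¹ := by group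
    _ = b' * a⁻¹ * b'⁻¹ := by rw [e]
    _ = (b' * a * b'⁻¹)⁻¹ := by group
    _ = a := by rw [hb', inv_inv]

/-- elements of the normalizer of the torus conjugate an inverting element to a square multiple -/
theorem normalizer_conj_sq (h2 : (2 : F) ≠ 0) (a : SpecialLinearGroup (Fin 2) F) (ha : a * a = -1)
    (b : SpecialLinearGroup (Fin 2) F) (hb : b * a * b⁻¹ = a⁻¹) (g : SpecialLinearGroup (Fin 2) F)
    (hg : g * a * g⁻¹ = a ∨ g * a * g⁻¹ = a⁻¹) :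
    ∃ s ∈ Subgroup.centralizer ({a} : Set (SpecialLinearGroup (Fin 2) F)), g * b * g⁻¹ = s * s * b := by
  rcases hg with hg | hg
  · have hgT := (mem_centralizer_iff_conj_eq a g).2 hg
    exact ⟨g, hgT, conj_inverting_eq h2 a ha b hb g hgT⟩
  · have htT := inverting_mul_inv_mem a b g hb hg
    refine ⟨g * b⁻¹, htT, ?_⟩
    rw [← conj_inverting_eq h2 a ha b hb _ htT]
    group

variable [Fintype F]

theorem torus_sq_or (h2 : (2 : F) ≠ 0) (a : SpecialLinearGroup (Fin 2) F) (ha : a * a = -1)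
    (t₀ : SpecialLinearGroup (Fin 2) F)
    (hns : ¬ ∃ s ∈ Subgroup.centralizer ({a} : Set (SpecialLinearGroup (Fin 2) F)), t₀ = s * s)
    (ht₀ : t₀ ∈ Subgroup.centralizer ({a} : Set (SpecialLinearGroup (Fin 2) F)))
    (t : SpecialLinearGroup (Fin 2) F)
    (ht : t ∈ Subgroup.centralizer ({a} : Set (SpecialLinearGroup (Fin 2) F))) :
    (∃ s ∈ Subgroup.centralizer ({a} : Set (SpecialLinearGroup (Fin 2) F)), t = s * s) ∨
      (∃ s ∈ Subgroup.centralizer ({a} : Set (SpecialLinearGroup (Fin 2) F)), t = s * s * t₀) := by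
  have := isCyclic_torus h2 a (not_isScalar2_of_sq h2 a ha) (trace_sq_ne_four_of_sq h2 a ha)
  have h' : ¬ ∃ s : Subgroup.centralizer ({a} : Set (SpecialLinearGroup (Fin 2) F)),
      (⟨t₀, ht₀⟩ : Subgroup.centralizer ({a} : Set (SpecialLinearGroup (Fin 2) F))) = s * s := by
    rintro ⟨s, hs⟩
    exact hns ⟨s.1, s.2, congrArg Subtype.val hs⟩
  rcases cyclic_sq_or _ h' (⟨t, ht⟩ : Subgroup.centralizer ({a} : Set (SpecialLinearGroup (Fin 2) F)))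
    with ⟨s, hs⟩ | ⟨s, hs⟩
  · exact Or.inl ⟨s.1, s.2, congrArg Subtype.val hs⟩
  · exact Or.inr ⟨s.1, s.2, congrArg Subtype.val hs⟩

theorem even_tau (hodd : Odd (Fintype.card F)) : Even (tau F) := by
  rw [tau]
  rw [Nat.odd_iff] at hodd
  have hq : 2 ≤ Fintype.card F := Fintype.one_lt_card
  split_ifs with h
  · rw [Nat.even_iff]; omega
  · rw [Nat.even_iff]; omega

theorem torus_exists_nonsq (hodd : Odd (Fintype.card F)) (h2 : (2 : F) ≠ 0)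
    (a : SpecialLinearGroup (Fin 2) F) (ha : a * a = -1) :
    ∃ t₀ ∈ Subgroup.centralizer ({a} : Set (SpecialLinearGroup (Fin 2) F)),
      ¬ ∃ s ∈ Subgroup.centralizer ({a} : Set (SpecialLinearGroup (Fin 2) F)), t₀ = s * s := by
  have := isCyclic_torus h2 a (not_isScalar2_of_sq h2 a ha) (trace_sq_ne_four_of_sq h2 a ha)
  have hev : Even (Nat.card (Subgroup.centralizer ({a} : Set (SpecialLinearGroup (Fin 2) F)))) := by
    rw [card_torus_eq_tau hodd h2 a ha]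
    exact even_tau hodd
  obtain ⟨t₀, ht₀⟩ := cyclic_exists_nonsq hev
  refine ⟨t₀.1, t₀.2, ?_⟩
  rintro ⟨s, hs, hss⟩
  exact ht₀ ⟨⟨s, hs⟩, Subtype.ext hss⟩

omit [Fintype F] in
/-- `a` is not a square in its torus when `|T| ≡ 4 mod 8` -/
theorem not_sq_of_four (h2 : (2 : F) ≠ 0) (a : SpecialLinearGroup (Fin 2) F) (ha : a * a = -1)
    (h4 : Nat.card (Subgroup.centralizer ({a} : Set (SpecialLinearGroup (Fin 2) F))) % 8 = 4) :
    ¬ ∃ s ∈ Subgroup.centralizer ({a} : Set (SpecialLinearGroup (Fin 2) F)), a = s * s := by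
  rintro ⟨s, hs, hss⟩
  have hsR : s ∈ torusTwo h2 a ha := by
    rw [mem_torusTwo]
    refine ⟨hs, 3, ?_⟩
    have : s ^ 2 ^ 3 = (s * s) * (s * s) * ((s * s) * (s * s)) := by
      norm_num
      rw [show (8 : ℕ) = 2 + 2 + (2 + 2) from rfl, pow_add, pow_add, pow_two]
    rw [this, ← hss, ha, neg_mul_neg, one_mul]
  have hns := not_isScalar2_of_sq h2 a ha
  have hne := ne_inv_of_not_scalar h2 a hns
  rcases torusTwo_cases h2 a ha h4 s hsR with h | h | h | h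
  · rw [h, one_mul] at hss
    rw [hss, one_mul] at ha
    exact one_ne_neg_one_SL2 h2 ha
  · rw [h, neg_mul_neg, one_mul] at hss
    rw [hss, one_mul] at ha
    exact one_ne_neg_one_SL2 h2 ha
  · rw [h, ha] at hss
    rw [hss, neg_mul_neg, one_mul] at ha
    exact one_ne_neg_one_SL2 h2 ha
  · have : s * s = -1 := by
      rw [h, inv_eq_neg_of_sq a ha, neg_mul_neg, ha]
    rw [this] at hss
    rw [hss, neg_mul_neg, one_mul] at ha
    exact one_ne_neg_one_SL2 h2 ha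

/-- `a` is a square in its torus when `8 ∣ |T|` -/
theorem sq_of_eight (h2 : (2 : F) ≠ 0) (a : SpecialLinearGroup (Fin 2) F) (ha : a * a = -1)
    (h8 : 8 ∣ Nat.card (Subgroup.centralizer ({a} : Set (SpecialLinearGroup (Fin 2) F)))) :
    ∃ s ∈ Subgroup.centralizer ({a} : Set (SpecialLinearGroup (Fin 2) F)), a = s * s := by
  obtain ⟨y, hyT, hy8, hy4⟩ := exists_order_eight h2 a ha h8
  have hns := not_isScalar2_of_sq h2 a ha
  have ht := trace_sq_ne_four_of_sq h2 a ha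
  have h44 : y ^ 4 * y ^ 4 = 1 := by rw [← pow_add]; exact hy8
  have hy4' : y ^ 4 = -1 := by
    rcases eq_one_or_neg_one_of_mul_self h2 _ h44 with h | h
    · exact absurd h hy4
    · exact h
  have hsq : (y * y) * (y * y) = -1 := by rw [← pow_four_eq, hy4']
  have etr : ((y * y : SpecialLinearGroup (Fin 2) F) : Matrix (Fin 2) (Fin 2) F).trace =
      (a : Matrix (Fin 2) (Fin 2) F).trace := by
    rw [trace_eq_zero_of_sq _ hsq, trace_eq_zero_of_sq a ha]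
  rcases trace_eq_cases h2 a hns ht (y * y) (Subgroup.mul_mem _ hyT hyT) etr with h | h
  · exact ⟨y, hyT, h.symm⟩
  · refine ⟨y⁻¹, Subgroup.inv_mem _ hyT, ?_⟩
    rw [← _root_.mul_inv_rev, h, inv_inv]

/-- normal form of frames up to conjugacy -/
theorem frame_normal_form (h2 : (2 : F) ≠ 0) (a₀ b₁ t₀ : SpecialLinearGroup (Fin 2) F) (ha₀ : a₀ * a₀ = -1)
    (hb₁ : b₁ * a₀ * b₁⁻¹ = a₀⁻¹)
    (ht₀ : t₀ ∈ Subgroup.centralizer ({a₀} : Set (SpecialLinearGroup (Fin 2) F)))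
    (hns : ¬ ∃ s ∈ Subgroup.centralizer ({a₀} : Set (SpecialLinearGroup (Fin 2) F)), t₀ = s * s)
    (a b : SpecialLinearGroup (Fin 2) F) (ha : a * a = -1) (hb : b * a * b⁻¹ = a⁻¹) :
    ∃ g : SpecialLinearGroup (Fin 2) F, g * a * g⁻¹ = a₀ ∧ (g * b * g⁻¹ = b₁ ∨ g * b * g⁻¹ = t₀ * b₁) := by
  obtain ⟨g₀, hg₀⟩ := isConj_iff.1 (isConj_of_sq h2 a a₀ ha ha₀)
  have hb'' : (g₀ * b * g₀⁻¹) * a₀ * (g₀ * b * g₀⁻¹)⁻¹ = a₀⁻¹ := by
    rw [← hg₀]
    calc g₀ * b * g₀⁻¹ * (g₀ * a * g₀⁻¹) * (g₀ * b * g₀⁻¹)⁻¹ = g₀ * (b * a * b⁻¹) * g₀⁻¹ := by group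
      _ = (g₀ * a * g₀⁻¹)⁻¹ := by rw [hb]; group
  have htT := inverting_mul_inv_mem a₀ b₁ (g₀ * b * g₀⁻¹) hb₁ hb''
  have key : ∀ (s c : SpecialLinearGroup (Fin 2) F),
      s ∈ Subgroup.centralizer ({a₀} : Set (SpecialLinearGroup (Fin 2) F)) →
      c * a₀ * c⁻¹ = a₀⁻¹ → g₀ * b * g₀⁻¹ = s * s * c →
      (s⁻¹ * g₀) * a * (s⁻¹ * g₀)⁻¹ = a₀ ∧ (s⁻¹ * g₀) * b * (s⁻¹ * g₀)⁻¹ = c := by
    intro s c hs hc hsc
    have hs' := (mem_centralizer_iff_conj_eq a₀ s).1 hs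
    constructor
    · calc s⁻¹ * g₀ * a * (s⁻¹ * g₀)⁻¹ = s⁻¹ * (g₀ * a * g₀⁻¹) * s := by group
        _ = s⁻¹ * (s * a₀ * s⁻¹) * s := by rw [hg₀, hs']
        _ = a₀ := by group
    · calc s⁻¹ * g₀ * b * (s⁻¹ * g₀)⁻¹ = s⁻¹ * (g₀ * b * g₀⁻¹) * s := by group
        _ = s⁻¹ * (s * c * s⁻¹) * s := by rw [hsc, conj_inverting_eq h2 a₀ ha₀ c hc s hs]
        _ = c := by group
  rcases torus_sq_or h2 a₀ ha₀ t₀ hns ht₀ _ htT with ⟨s, hs, hss⟩ | ⟨s, hs, hss⟩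
  · have hsc : g₀ * b * g₀⁻¹ = s * s * b₁ := by
      rw [← hss]; group
    obtain ⟨h1, h3⟩ := key s b₁ hs hb₁ hsc
    exact ⟨s⁻¹ * g₀, h1, Or.inl h3⟩
  · have hsc : g₀ * b * g₀⁻¹ = s * s * (t₀ * b₁) := by
      rw [← mul_assoc, ← hss]; group
    obtain ⟨h1, h3⟩ := key s (t₀ * b₁) hs (torus_mul_inverting a₀ b₁ hb₁ t₀ ht₀) hsc
    exact ⟨s⁻¹ * g₀, h1, Or.inr h3⟩

end klein3
end Cfsg.Agent.Lib.Helper15
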