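import Mathlib
import Cfsg.Agent.Lib.Helper15.Klein3
set_option autoImplicit false
namespace Cfsg.Agent.Lib.Helper15

open Matrix
open Cfsg.Agent.Lib.Helper14

section klein4
variable {F : Type*} [Field F]

theorem frame_toPSL2 (h2 : (2 : F) ≠ 0) (a b : SpecialLinearGroup (Fin 2) F) (ha : a * a = -1)
    (hb : b * a * b⁻¹ = a⁻¹) :
    toPSL2 F a ≠ 1 ∧ toPSL2 F b ≠ 1 ∧ toPSL2 F a ≠ toPSL2 F b ∧ toPSL2 F a * toPSL2 F a = 1 ∧
      toPSL2 F b * toPSL2 F b = 1 ∧ toPSL2 F a * toPSL2 F b = toPSL2 F b * toPSL2 F a := by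
  obtain ⟨h1, h3⟩ := (toPSL2_invol_iff h2 a).2 ha
  have hmem : b ∈ (fun g => toPSL2 F g) ⁻¹' (kleinPartners (toPSL2 F a)) := by
    rw [preimage_kleinPartners h2 a ha]
    exact hb
  obtain ⟨h4, h5, h6, h7⟩ := hmem
  exact ⟨h1, h4, fun h => h5 h.symm, h3, h6, h7⟩

/-- the four-group of a frame -/
def frameSub (h2 : (2 : F) ≠ 0) (a b : SpecialLinearGroup (Fin 2) F) (ha : a * a = -1)
    (hb : b * a * b⁻¹ = a⁻¹) : Subgroup (ProjectiveSpecialLinearGroup (Fin 2) F) :=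
  kleinSub (toPSL2 F a) (toPSL2 F b) (frame_toPSL2 h2 a b ha hb).2.2.2.1 (frame_toPSL2 h2 a b ha hb).2.2.2.2.1
    (frame_toPSL2 h2 a b ha hb).2.2.2.2.2

theorem isKleinFour_frameSub (h2 : (2 : F) ≠ 0) (a b : SpecialLinearGroup (Fin 2) F) (ha : a * a = -1)
    (hb : b * a * b⁻¹ = a⁻¹) : IsKleinFour (frameSub h2 a b ha hb) :=
  isKleinFour_kleinSub _ _ _ _ _ (frame_toPSL2 h2 a b ha hb).1 (frame_toPSL2 h2 a b ha hb).2.1
    (frame_toPSL2 h2 a b ha hb).2.2.1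

theorem mem_frameSub_iff (h2 : (2 : F) ≠ 0) (a b : SpecialLinearGroup (Fin 2) F) (ha : a * a = -1)
    (hb : b * a * b⁻¹ = a⁻¹) (x : ProjectiveSpecialLinearGroup (Fin 2) F) :
    x ∈ frameSub h2 a b ha hb ↔ x = 1 ∨ x = toPSL2 F a ∨ x = toPSL2 F b ∨ x = toPSL2 F a * toPSL2 F b :=
  Iff.rfl

theorem left_mem_frameSub (h2 : (2 : F) ≠ 0) (a b : SpecialLinearGroup (Fin 2) F) (ha : a * a = -1)
    (hb : b * a * b⁻¹ = a⁻¹) : toPSL2 F a ∈ frameSub h2 a b ha hb := Or.inr (Or.inl rfl)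

theorem right_mem_frameSub (h2 : (2 : F) ≠ 0) (a b : SpecialLinearGroup (Fin 2) F) (ha : a * a = -1)
    (hb : b * a * b⁻¹ = a⁻¹) : toPSL2 F b ∈ frameSub h2 a b ha hb := Or.inr (Or.inr (Or.inl rfl))

theorem frameSub_cases (h2 : (2 : F) ≠ 0) (a b : SpecialLinearGroup (Fin 2) F) (ha : a * a = -1)
    (hb : b * a * b⁻¹ = a⁻¹) (c : SpecialLinearGroup (Fin 2) F)
    (hc : toPSL2 F c ∈ frameSub h2 a b ha hb) :
    (c = 1 ∨ c = -1) ∨ (c = a ∨ c = -a) ∨ (c = b ∨ c = -b) ∨ (c = a * b ∨ c = -(a * b)) := by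
  rcases hc with h | h | h | h
  · left; exact (toPSL2_eq_one_iff h2 c).1 h
  · right; left; exact (toPSL2_eq_iff h2 a c).1 h.symm
  · right; right; left; exact (toPSL2_eq_iff h2 b c).1 h.symm
  · right; right; right
    rw [← map_mul] at h
    exact (toPSL2_eq_iff h2 (a * b) c).1 h.symm

/-- every Klein four-subgroup of `PSL₂(q)` comes from a frame -/
theorem exists_frame_of_isKleinFour (h2 : (2 : F) ≠ 0) (V : Subgroup (ProjectiveSpecialLinearGroup (Fin 2) F))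
    (hV : IsKleinFour V) :
    ∃ a b : SpecialLinearGroup (Fin 2) F, a * a = -1 ∧ b * a * b⁻¹ = a⁻¹ ∧ toPSL2 F a ∈ V ∧ toPSL2 F b ∈ V := by
  have h6 := card_offdiag_ne (1 : V) hV.card_four
  have hne : Nonempty {p : V × V // p.1 ≠ 1 ∧ p.2 ≠ 1 ∧ p.1 ≠ p.2} := by
    by_contra hcon
    rw [not_nonempty_iff] at hcon
    rw [Nat.card_of_isEmpty] at h6
    omega
  obtain ⟨⟨⟨u, v⟩, h1, h3, h4⟩⟩ := hne
  obtain ⟨hu, hv, huv, -⟩ := eq_kleinSub_of_isKleinFour V hV u.1 v.1 u.2 v.2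
    (fun h => h1 (Subtype.ext h)) (fun h => h3 (Subtype.ext h)) (fun h => h4 (Subtype.ext h))
  obtain ⟨a, hau⟩ := toPSL2_surjective (F := F) u.1
  obtain ⟨b, hbv⟩ := toPSL2_surjective (F := F) v.1
  have ha : a * a = -1 := by
    apply (toPSL2_invol_iff h2 a).1
    rw [hau]
    exact ⟨fun h => h1 (Subtype.ext h), hu⟩
  have hb : b * a * b⁻¹ = a⁻¹ := by
    have hmem : b ∈ (fun g => toPSL2 F g) ⁻¹' (kleinPartners (toPSL2 F a)) := by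
      show toPSL2 F b ∈ kleinPartners (toPSL2 F a)
      rw [hau, hbv]
      exact ⟨fun h => h3 (Subtype.ext h), fun h => h4 (Subtype.ext h.symm), hv, huv⟩
    rw [preimage_kleinPartners h2 a ha] at hmem
    exact hmem
  refine ⟨a, b, ha, hb, ?_, ?_⟩
  · rw [hau]; exact u.2
  · rw [hbv]; exact v.2

theorem toPSL2_conj (g c : SpecialLinearGroup (Fin 2) F) :
    (MulAut.conj (toPSL2 F g)).toMonoidHom (toPSL2 F c) = toPSL2 F (g * c * g⁻¹) := by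
  rw [map_mul, map_mul, map_inv]
  rfl

/-- a Klein four-subgroup containing the conjugate of a frame of `V` is the conjugate of `V` -/
theorem eq_map_conj_of_frame (h2 : (2 : F) ≠ 0) (V W : Subgroup (ProjectiveSpecialLinearGroup (Fin 2) F))
    (hV : IsKleinFour V) (hW : IsKleinFour W) (a b : SpecialLinearGroup (Fin 2) F) (ha : a * a = -1)
    (hb : b * a * b⁻¹ = a⁻¹) (haV : toPSL2 F a ∈ V) (hbV : toPSL2 F b ∈ V) (g : SpecialLinearGroup (Fin 2) F)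
    (h1 : toPSL2 F (g * a * g⁻¹) ∈ W) (h3 : toPSL2 F (g * b * g⁻¹) ∈ W) :
    W = V.map (MulAut.conj (toPSL2 F g)).toMonoidHom := by
  obtain ⟨f1, f2, f3, f4, f5, f6⟩ := frame_toPSL2 h2 a b ha hb
  obtain ⟨hu, hv, huv, hVeq⟩ := eq_kleinSub_of_isKleinFour V hV _ _ haV hbV f1 f2 f3
  have : Finite W := IsKleinFour.instFinite
  symm
  apply Subgroup.eq_of_le_of_card_ge
  · rintro _ ⟨x, hx, rfl⟩
    rw [hVeq] at hx
    rcases hx with hx | hx | hx | hx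
    · rw [hx, map_one]; exact W.one_mem
    · rw [hx, toPSL2_conj]; exact h1
    · rw [hx, toPSL2_conj]; exact h3
    · rw [hx, map_mul, toPSL2_conj, toPSL2_conj]; exact W.mul_mem h1 h3
  · rw [Subgroup.card_map_of_injective (MulAut.conj (toPSL2 F g)).injective, hV.card_four, hW.card_four]

variable [Fintype F]

/-- every Klein four-subgroup is conjugate to one of two standard ones -/
theorem kleinFour_conj_std (h2 : (2 : F) ≠ 0) (a₀ b₁ t₀ : SpecialLinearGroup (Fin 2) F) (ha₀ : a₀ * a₀ = -1)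
    (hb₁ : b₁ * a₀ * b₁⁻¹ = a₀⁻¹)
    (ht₀ : t₀ ∈ Subgroup.centralizer ({a₀} : Set (SpecialLinearGroup (Fin 2) F)))
    (hns : ¬ ∃ s ∈ Subgroup.centralizer ({a₀} : Set (SpecialLinearGroup (Fin 2) F)), t₀ = s * s)
    (W : Subgroup (ProjectiveSpecialLinearGroup (Fin 2) F)) (hW : IsKleinFour W) :
    ∃ (g c : SpecialLinearGroup (Fin 2) F), (c = b₁ ∨ c = t₀ * b₁) ∧ c * a₀ * c⁻¹ = a₀⁻¹ ∧
      ∀ V : Subgroup (ProjectiveSpecialLinearGroup (Fin 2) F), IsKleinFour V → toPSL2 F a₀ ∈ V →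
        toPSL2 F c ∈ V → W = V.map (MulAut.conj (toPSL2 F g)).toMonoidHom := by
  obtain ⟨a, b, ha, hb, haW, hbW⟩ := exists_frame_of_isKleinFour h2 W hW
  obtain ⟨g, hga, hgb⟩ := frame_normal_form h2 a₀ b₁ t₀ ha₀ hb₁ ht₀ hns a b ha hb
  have hc : (g * b * g⁻¹) * a₀ * (g * b * g⁻¹)⁻¹ = a₀⁻¹ := by
    rcases hgb with h | h
    · rw [h]; exact hb₁
    · rw [h]; exact torus_mul_inverting a₀ b₁ hb₁ t₀ ht₀
  refine ⟨g⁻¹, g * b * g⁻¹, hgb, hc, ?_⟩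
  intro V hV haV hcV
  apply eq_map_conj_of_frame h2 V W hV hW a₀ (g * b * g⁻¹) ha₀ hc haV hcV g⁻¹
  · have : g⁻¹ * a₀ * g⁻¹⁻¹ = a := by rw [← hga]; group
    rw [this]; exact haW
  · have : g⁻¹ * (g * b * g⁻¹) * g⁻¹⁻¹ = b := by group
    rw [this]; exact hbW

theorem conj_comp_conj {P : Type*} [Group P] (h₁ h₂ : P) :
    (MulAut.conj (h₂ * h₁⁻¹)).toMonoidHom.comp (MulAut.conj h₁).toMonoidHom = (MulAut.conj h₂).toMonoidHom := by
  ext x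
  show (h₂ * h₁⁻¹) * (h₁ * x * h₁⁻¹) * (h₂ * h₁⁻¹)⁻¹ = h₂ * x * h₂⁻¹
  group

/-- all Klein four-subgroups are conjugate when `q ≡ ±3 mod 8` -/
theorem kleinFour_conj_of_four (h2 : (2 : F) ≠ 0)
    (hq : Fintype.card F % 8 = 3 ∨ Fintype.card F % 8 = 5)
    (V W : Subgroup (ProjectiveSpecialLinearGroup (Fin 2) F)) (hV : IsKleinFour V) (hW : IsKleinFour W) :
    ∃ g : ProjectiveSpecialLinearGroup (Fin 2) F, W = V.map (MulAut.conj g).toMonoidHom := by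
  have ha₀ : w0 F * w0 F = -1 := w0_sq
  obtain ⟨b₁, hb₁⟩ := exists_inverting (w0 F) (trace_sq_ne_four_of_sq h2 (w0 F) ha₀)
  have h4 : Nat.card (Subgroup.centralizer ({w0 F} : Set (SpecialLinearGroup (Fin 2) F))) % 8 = 4 := by
    obtain ⟨h1, h3⟩ := card_torus_of_sq h2 (w0 F) ha₀
    have hq2 : 2 ≤ Fintype.card F := Fintype.one_lt_card
    rcases hq with hq | hq
    · rw [h3 (by omega)]; omega
    · rw [h1 (by omega)]; omega
  have hns := not_sq_of_four h2 (w0 F) ha₀ h4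
  have hstd : ∀ X : Subgroup (ProjectiveSpecialLinearGroup (Fin 2) F), IsKleinFour X →
      ∃ g : ProjectiveSpecialLinearGroup (Fin 2) F,
        X = (frameSub h2 (w0 F) b₁ ha₀ hb₁).map (MulAut.conj g).toMonoidHom := by
    intro X hX
    obtain ⟨g, c, hc, -, hall⟩ := kleinFour_conj_std h2 (w0 F) b₁ (w0 F) ha₀ hb₁ (self_mem_centralizer _) hns X hX
    refine ⟨toPSL2 F g, hall _ (isKleinFour_frameSub h2 _ _ ha₀ hb₁) (left_mem_frameSub h2 _ _ ha₀ hb₁) ?_⟩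
    rcases hc with rfl | rfl
    · exact right_mem_frameSub h2 _ _ ha₀ hb₁
    · rw [map_mul]
      exact Subgroup.mul_mem _ (left_mem_frameSub h2 _ _ ha₀ hb₁) (right_mem_frameSub h2 _ _ ha₀ hb₁)
  obtain ⟨h₁, hV'⟩ := hstd V hV
  obtain ⟨h₂, hW'⟩ := hstd W hW
  refine ⟨h₂ * h₁⁻¹, ?_⟩
  rw [hV', Subgroup.map_map, conj_comp_conj, ← hW']

/-- two frames over the same `a₀` differing by a non-square give non-conjugate four-groups when `8 ∣ |T|` -/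
theorem frameSub_not_conj (h2 : (2 : F) ≠ 0) (a₀ b₁ t₀ : SpecialLinearGroup (Fin 2) F) (ha₀ : a₀ * a₀ = -1)
    (hb₁ : b₁ * a₀ * b₁⁻¹ = a₀⁻¹)
    (ht₀ : t₀ ∈ Subgroup.centralizer ({a₀} : Set (SpecialLinearGroup (Fin 2) F)))
    (hns : ¬ ∃ s ∈ Subgroup.centralizer ({a₀} : Set (SpecialLinearGroup (Fin 2) F)), t₀ = s * s)
    (h8 : 8 ∣ Nat.card (Subgroup.centralizer ({a₀} : Set (SpecialLinearGroup (Fin 2) F)))) :
    ¬ ∃ g : ProjectiveSpecialLinearGroup (Fin 2) F,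
      frameSub h2 a₀ (t₀ * b₁) ha₀ (torus_mul_inverting a₀ b₁ hb₁ t₀ ht₀) =
        (frameSub h2 a₀ b₁ ha₀ hb₁).map (MulAut.conj g).toMonoidHom := by
  have hnsc := not_isScalar2_of_sq h2 a₀ ha₀
  have hne := ne_inv_of_not_scalar h2 a₀ hnsc
  have hinvneg := inv_eq_neg_of_sq a₀ ha₀
  set b₂ := t₀ * b₁ with hb₂def
  have hb₂ : b₂ * a₀ * b₂⁻¹ = a₀⁻¹ := torus_mul_inverting a₀ b₁ hb₁ t₀ ht₀
  have hb₂sq : b₂ * b₂ = -1 := s0_sq h2 a₀ ha₀ b₂ hb₂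
  set ω := omegaSL h2 a₀ b₂ ha₀ hb₂sq with hω
  have hωa : ω * a₀ * ω⁻¹ = b₂ := omegaSL_conj_x h2 a₀ b₂ ha₀ hb₂sq hb₂
  have hωb : ω * b₂ * ω⁻¹ = a₀ * b₂ := omegaSL_conj_s h2 a₀ b₂ ha₀ hb₂sq hb₂
  have hωab : ω * (a₀ * b₂) * ω⁻¹ = a₀ := by
    have e1 : ω * (a₀ * b₂) * ω⁻¹ = (ω * a₀ * ω⁻¹) * (ω * b₂ * ω⁻¹) := by group
    have e2 : b₂ * a₀ = a₀⁻¹ * b₂ := by rw [← hb₂]; group
    rw [e1, hωa, hωb, ← mul_assoc, e2, mul_assoc, hb₂sq, hinvneg, neg_mul_neg, mul_one]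
  set V₂ := frameSub h2 a₀ b₂ ha₀ hb₂ with hV₂
  have hωV : ∀ x ∈ V₂, (MulAut.conj (toPSL2 F ω)).toMonoidHom x ∈ V₂ := by
    intro x hx
    rcases hx with hx | hx | hx | hx
    · rw [hx, map_one]; exact V₂.one_mem
    · rw [hx, toPSL2_conj, hωa]; exact right_mem_frameSub h2 _ _ ha₀ hb₂
    · rw [hx, toPSL2_conj, hωb, map_mul]
      exact V₂.mul_mem (left_mem_frameSub h2 _ _ ha₀ hb₂) (right_mem_frameSub h2 _ _ ha₀ hb₂)
    · rw [hx, ← map_mul, toPSL2_conj, hωab]; exact left_mem_frameSub h2 _ _ ha₀ hb₂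
  have hωV' : ∀ c : SpecialLinearGroup (Fin 2) F, toPSL2 F c ∈ V₂ → toPSL2 F (ω * c * ω⁻¹) ∈ V₂ := by
    intro c hc
    rw [← toPSL2_conj]
    exact hωV _ hc
  rintro ⟨gbar, hg⟩
  obtain ⟨g, rfl⟩ := toPSL2_surjective gbar
  have hmem : ∀ c : SpecialLinearGroup (Fin 2) F, toPSL2 F c ∈ frameSub h2 a₀ b₁ ha₀ hb₁ →
      toPSL2 F (g * c * g⁻¹) ∈ V₂ := by
    intro c hc
    rw [hg]
    exact ⟨toPSL2 F c, hc, toPSL2_conj g c⟩
  -- adjust `g` to normalize the torus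
  have hclaim : ∃ g' : SpecialLinearGroup (Fin 2) F, (g' * a₀ * g'⁻¹ = a₀ ∨ g' * a₀ * g'⁻¹ = a₀⁻¹) ∧
      toPSL2 F (g' * b₁ * g'⁻¹) ∈ V₂ := by
    have hcV := hmem a₀ (left_mem_frameSub h2 _ _ ha₀ hb₁)
    have hbV := hmem b₁ (right_mem_frameSub h2 _ _ ha₀ hb₁)
    have hcc : (g * a₀ * g⁻¹) * (g * a₀ * g⁻¹) = -1 := conj_sq g a₀ ha₀
    have e1 : ∀ c : SpecialLinearGroup (Fin 2) F, ω * g * c * (ω * g)⁻¹ = ω * (g * c * g⁻¹) * ω⁻¹ := by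
      intro c; group
    have e2 : ∀ c : SpecialLinearGroup (Fin 2) F,
        ω * ω * g * c * (ω * ω * g)⁻¹ = ω * (ω * (g * c * g⁻¹) * ω⁻¹) * ω⁻¹ := by
      intro c; group
    have eneg : ∀ c : SpecialLinearGroup (Fin 2) F, ω * (-c) * ω⁻¹ = -(ω * c * ω⁻¹) := by
      intro c; rw [mul_neg, neg_mul]
    rcases frameSub_cases h2 a₀ b₂ ha₀ hb₂ _ hcV with (h | h) | (h | h) | (h | h) | (h | h)
    · exfalso
      rw [h, one_mul] at hcc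
      exact one_ne_neg_one_SL2 h2 hcc
    · exfalso
      rw [h, neg_mul_neg, one_mul] at hcc
      exact one_ne_neg_one_SL2 h2 hcc
    · exact ⟨g, Or.inl h, hbV⟩
    · exact ⟨g, Or.inr (h.trans hinvneg.symm), hbV⟩
    · refine ⟨ω * ω * g, Or.inl ?_, ?_⟩
      · rw [e2, h, hωb, hωab]
      · rw [e2]; exact hωV' _ (hωV' _ hbV)
    · refine ⟨ω * ω * g, Or.inr ?_, ?_⟩
      · rw [e2, h, eneg, hωb, eneg, hωab, hinvneg]
      · rw [e2]; exact hωV' _ (hωV' _ hbV)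
    · refine ⟨ω * g, Or.inl ?_, ?_⟩
      · rw [e1, h, hωab]
      · rw [e1]; exact hωV' _ hbV
    · refine ⟨ω * g, Or.inr ?_, ?_⟩
      · rw [e1, h, eneg, hωab, hinvneg]
      · rw [e1]; exact hωV' _ hbV
  obtain ⟨g', hg', hdV⟩ := hclaim
  obtain ⟨s, hs, hd⟩ := normalizer_conj_sq h2 a₀ ha₀ b₁ hb₁ g' hg'
  have hss : s * s ∈ Subgroup.centralizer ({a₀} : Set (SpecialLinearGroup (Fin 2) F)) := Subgroup.mul_mem _ hs hs
  have hdinv : (g' * b₁ * g'⁻¹) * a₀ * (g' * b₁ * g'⁻¹)⁻¹ = a₀⁻¹ := by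
    rw [hd]; exact torus_mul_inverting a₀ b₁ hb₁ (s * s) hss
  -- squares in the torus
  obtain ⟨y, hyT, hy⟩ := sq_of_eight h2 a₀ ha₀ h8
  have hclose : ∀ z r : SpecialLinearGroup (Fin 2) F,
      r ∈ Subgroup.centralizer ({a₀} : Set (SpecialLinearGroup (Fin 2) F)) → z = r * r →
      g' * b₁ * g'⁻¹ = z * b₂ → False := by
    intro z r hr hz hdz
    apply hns
    refine ⟨r⁻¹ * s, Subgroup.mul_mem _ (Subgroup.inv_mem _ hr) hs, ?_⟩
    have h1 : s * s * b₁ = z * t₀ * b₁ := by rw [← hd, hdz, hb₂def, mul_assoc]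
    have h3 : s * s = r * r * t₀ := by rw [← hz]; exact mul_right_cancel h1
    have hcomm : s * r⁻¹ = r⁻¹ * s := centralizer_commute a₀ hnsc s r⁻¹ hs (Subgroup.inv_mem _ hr)
    calc t₀ = r⁻¹ * r⁻¹ * (r * r * t₀) := by group
      _ = r⁻¹ * r⁻¹ * (s * s) := by rw [h3]
      _ = r⁻¹ * (r⁻¹ * s) * s := by group
      _ = r⁻¹ * (s * r⁻¹) * s := by rw [hcomm]
      _ = r⁻¹ * s * (r⁻¹ * s) := by group
  have hcommute : ∀ d : SpecialLinearGroup (Fin 2) F, d * a₀ = a₀ * d → d * a₀ * d⁻¹ = a₀⁻¹ → False := by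
    intro d h1 h3
    apply hne
    rw [← h3, h1, mul_assoc, mul_inv_cancel, mul_one]
  rcases frameSub_cases h2 a₀ b₂ ha₀ hb₂ _ hdV with (h | h) | (h | h) | (h | h) | (h | h)
  · exact hcommute _ (by rw [h, one_mul, mul_one]) hdinv
  · exact hcommute _ (by rw [h, neg_mul, one_mul, mul_neg, mul_one]) hdinv
  · exact hcommute _ (by rw [h]) hdinv
  · exact hcommute _ (by rw [h, neg_mul, mul_neg]) hdinv
  · exact hclose 1 1 (Subgroup.one_mem _) (one_mul 1).symm (by rw [h, one_mul])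
  · exact hclose (-1) a₀ (self_mem_centralizer a₀) ha₀.symm (by rw [h, neg_mul, one_mul])
  · exact hclose a₀ y hyT hy h
  · refine hclose (-a₀) y⁻¹ (Subgroup.inv_mem _ hyT) ?_ (by rw [h, neg_mul])
    rw [← _root_.mul_inv_rev, ← hy, hinvneg]

/-- the two classes of Klein four-subgroups when `q ≡ ±1 mod 8` -/
theorem kleinFour_two_classes (hodd : Odd (Fintype.card F)) (h2 : (2 : F) ≠ 0)
    (hq : Fintype.card F % 8 = 1 ∨ Fintype.card F % 8 = 7) :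
    ∃ V₁ V₂ : Subgroup (ProjectiveSpecialLinearGroup (Fin 2) F), IsKleinFour V₁ ∧ IsKleinFour V₂ ∧
      (¬ ∃ g : ProjectiveSpecialLinearGroup (Fin 2) F, V₂ = V₁.map (MulAut.conj g).toMonoidHom) ∧
      ∀ W : Subgroup (ProjectiveSpecialLinearGroup (Fin 2) F), IsKleinFour W →
        (∃ g : ProjectiveSpecialLinearGroup (Fin 2) F, W = V₁.map (MulAut.conj g).toMonoidHom) ∨
        (∃ g : ProjectiveSpecialLinearGroup (Fin 2) F, W = V₂.map (MulAut.conj g).toMonoidHom) := by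
  have ha₀ : w0 F * w0 F = -1 := w0_sq
  obtain ⟨b₁, hb₁⟩ := exists_inverting (w0 F) (trace_sq_ne_four_of_sq h2 (w0 F) ha₀)
  have h8 : 8 ∣ Nat.card (Subgroup.centralizer ({w0 F} : Set (SpecialLinearGroup (Fin 2) F))) := by
    obtain ⟨h1, h3⟩ := card_torus_of_sq h2 (w0 F) ha₀
    have hq2 : 2 ≤ Fintype.card F := Fintype.one_lt_card
    rcases hq with hq | hq
    · rw [h1 (by omega)]; omega
    · rw [h3 (by omega)]; omega
  obtain ⟨t₀, ht₀, hns⟩ := torus_exists_nonsq hodd h2 (w0 F) ha₀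
  have hb₂ := torus_mul_inverting (w0 F) b₁ hb₁ t₀ ht₀
  refine ⟨frameSub h2 (w0 F) b₁ ha₀ hb₁, frameSub h2 (w0 F) (t₀ * b₁) ha₀ hb₂,
    isKleinFour_frameSub h2 _ _ ha₀ hb₁, isKleinFour_frameSub h2 _ _ ha₀ hb₂,
    frameSub_not_conj h2 (w0 F) b₁ t₀ ha₀ hb₁ ht₀ hns h8, ?_⟩
  intro W hW
  obtain ⟨g, c, hc, -, hall⟩ := kleinFour_conj_std h2 (w0 F) b₁ t₀ ha₀ hb₁ ht₀ hns W hW
  rcases hc with rfl | rfl
  · left
    exact ⟨toPSL2 F g, hall _ (isKleinFour_frameSub h2 _ _ ha₀ hb₁) (left_mem_frameSub h2 _ _ ha₀ hb₁)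
      (right_mem_frameSub h2 _ _ ha₀ hb₁)⟩
  · right
    exact ⟨toPSL2 F g, hall _ (isKleinFour_frameSub h2 _ _ ha₀ hb₂) (left_mem_frameSub h2 _ _ ha₀ hb₂)
      (right_mem_frameSub h2 _ _ ha₀ hb₂)⟩

end klein4
end Cfsg.Agent.Lib.Helper15
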