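import Mathlib
import Cfsg.Agent.Lib.Helper15.Klein4
import Cfsg.Agent.Lib.Helper15.A4Data
set_option autoImplicit false
namespace Cfsg.Agent.Lib.Helper15

open Matrix
open Cfsg.Agent.Lib.Helper14

section a4odd
variable {F : Type*} [Field F]

theorem omegaMat_sq (h2 : (2 : F) ≠ 0) (X J : Matrix (Fin 2) (Fin 2) F) (h1 : X * X = -1) (h2' : J * J = -1)
    (h3 : J * X = -(X * J)) : omegaMat X J * omegaMat X J = omegaMat X J - 1 := by
  have key : (1 + X) * (1 + J) * ((1 + X) * (1 + J)) =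
      (1 + X) * (1 + J) + (1 + X) * (1 + J) - (1 + 1 + 1 + 1) := by
    linear_combination (norm := noncomm_ring) h1 + h3 + 2 * h2' + h3 * J + X * h3 + X * h3 * J - h1 * J * J
  rw [omegaMat, Matrix.smul_mul, Matrix.mul_smul, key, smul_smul]
  have e4 : (1 + 1 + 1 + 1 : Matrix (Fin 2) (Fin 2) F) = (4 : F) • (1 : Matrix (Fin 2) (Fin 2) F) := by
    rw [show (4 : F) = 1 + 1 + 1 + 1 by norm_num, add_smul, add_smul, add_smul, one_smul]
  rw [e4, smul_sub, smul_add, smul_smul]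
  have c1 : (2 : F)⁻¹ * 2⁻¹ * 4 = 1 := by field_simp; norm_num
  rw [c1, one_smul, ← add_smul]
  have c2 : (2 : F)⁻¹ * 2⁻¹ + 2⁻¹ * 2⁻¹ = 2⁻¹ := by field_simp; norm_num
  rw [c2]

theorem omegaSL_cube (h2 : (2 : F) ≠ 0) (x s : SpecialLinearGroup (Fin 2) F) (hx : x * x = -1) (hs : s * s = -1)
    (hinv : s * x * s⁻¹ = x⁻¹) : omegaSL h2 x s hx hs ^ 3 = -1 := by
  have hsq := omegaMat_sq h2 _ _ (coe_sq_of_sq x hx) (coe_sq_of_sq s hs) (coe_anticomm x s hx hinv)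
  apply Subtype.ext
  rw [pow_succ, pow_two, Matrix.SpecialLinearGroup.coe_mul, Matrix.SpecialLinearGroup.coe_mul,
    Matrix.SpecialLinearGroup.coe_neg, Matrix.SpecialLinearGroup.coe_one]
  show omegaMat (x : Matrix (Fin 2) (Fin 2) F) s * omegaMat (x : Matrix (Fin 2) (Fin 2) F) s *
    omegaMat (x : Matrix (Fin 2) (Fin 2) F) s = -1
  rw [hsq, Matrix.sub_mul, hsq, Matrix.one_mul]
  abel

/-- `PSL₂(q)`, `q` odd, contains `A₄` -/
theorem exists_A4_odd [Fintype F] (h2 : (2 : F) ≠ 0) :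
    ∃ H : Subgroup (ProjectiveSpecialLinearGroup (Fin 2) F), Nonempty (H ≃* alternatingGroup (Fin 4)) := by
  have ha : w0 F * w0 F = -1 := w0_sq
  obtain ⟨b, hb⟩ := exists_inverting (w0 F) (trace_sq_ne_four_of_sq h2 (w0 F) ha)
  have hbb : b * b = -1 := s0_sq h2 (w0 F) ha b hb
  obtain ⟨f1, f2, f3, f4, f5, f6⟩ := frame_toPSL2 h2 (w0 F) b ha hb
  apply exists_A4_of_data (toPSL2 F (w0 F)) (toPSL2 F b) (toPSL2 F (omegaSL h2 (w0 F) b ha hbb)) f4 f5 f6 f1 f2 f3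
  · rw [← map_pow, omegaSL_cube h2 (w0 F) b ha hbb hb]
    rw [toPSL2_eq_one_iff h2]
    exact Or.inr rfl
  · rw [← map_inv, ← map_mul, ← map_mul, omegaSL_conj_x h2 (w0 F) b ha hbb hb]
  · rw [← map_inv, ← map_mul, ← map_mul, omegaSL_conj_s h2 (w0 F) b ha hbb hb, map_mul]

end a4odd
end Cfsg.Agent.Lib.Helper15
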