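import Mathlib
import Cfsg.Agent.Lib.Helper15.A4Odd
set_option autoImplicit false
namespace Cfsg.Agent.Lib.Helper15

open Matrix
open Cfsg.Agent.Lib.Helper14

section a4even
variable {F : Type*} [Field F]

/-- upper unitriangular element of `SL₂` -/
def unipSL (x : F) : SpecialLinearGroup (Fin 2) F := ⟨!![1, x; 0, 1], by simp [det_fin_two]⟩

/-- the diagonal element `diag(c², c)` for a cube root of unity `c` -/
def diagC (c : F) (hc : c ^ 3 = 1) : SpecialLinearGroup (Fin 2) F :=
  ⟨!![c ^ 2, 0; 0, c], by simp [det_fin_two]; linear_combination hc⟩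

theorem unipSL_mul (x y : F) : unipSL x * unipSL y = unipSL (x + y) := by
  apply Subtype.ext
  rw [Matrix.SpecialLinearGroup.coe_mul]
  ext i j
  fin_cases i <;> fin_cases j <;> simp [unipSL, Matrix.mul_apply, Fin.sum_univ_two, add_comm]

theorem unipSL_zero : unipSL (0 : F) = 1 := by
  apply Subtype.ext
  ext i j
  fin_cases i <;> fin_cases j <;> simp [unipSL]

theorem unipSL_injective : Function.Injective (unipSL (F := F)) := by
  intro x y h
  have := congrArg (fun g : SpecialLinearGroup (Fin 2) F => (g : Matrix (Fin 2) (Fin 2) F) 0 1) h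
  simpa [unipSL] using this

theorem unipSL_not_mem_center (x : F) (hx : x ≠ 0) :
    unipSL x ∉ Subgroup.center (SpecialLinearGroup (Fin 2) F) := by
  intro h
  have := (isScalar2_of_mem_center _ h).1
  apply hx
  simpa [unipSL] using this

theorem diagC_mul_unipSL (c : F) (hc : c ^ 3 = 1) (x : F) :
    diagC c hc * unipSL x = unipSL (c * x) * diagC c hc := by
  apply Subtype.ext
  rw [Matrix.SpecialLinearGroup.coe_mul, Matrix.SpecialLinearGroup.coe_mul]
  ext i j
  fin_cases i <;> fin_cases j <;> simp [unipSL, diagC, Matrix.mul_apply, Fin.sum_univ_two] <;> ring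

theorem diagC_conj (c : F) (hc : c ^ 3 = 1) (x : F) :
    diagC c hc * unipSL x * (diagC c hc)⁻¹ = unipSL (c * x) := by
  rw [diagC_mul_unipSL, mul_assoc, mul_inv_cancel, mul_one]

theorem diagC_pow (c : F) (hc : c ^ 3 = 1) : diagC c hc ^ 3 = 1 := by
  apply Subtype.ext
  rw [pow_succ, pow_two, Matrix.SpecialLinearGroup.coe_mul, Matrix.SpecialLinearGroup.coe_mul]
  ext i j
  fin_cases i <;> fin_cases j <;> simp [diagC, Matrix.mul_apply, Fin.sum_univ_two]
  · linear_combination (c ^ 3 + 1) * hc
  · linear_combination hc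

/-- `PSL₂(F)` contains `A₄` when `F` has characteristic `2` and a primitive cube root of unity -/
theorem exists_A4_even (h2 : (2 : F) = 0) (c : F) (hc : c ^ 2 + c + 1 = 0) :
    ∃ H : Subgroup (ProjectiveSpecialLinearGroup (Fin 2) F), Nonempty (H ≃* alternatingGroup (Fin 4)) := by
  have hc3 : c ^ 3 = 1 := by linear_combination (c - 1) * hc
  have hc0 : c ≠ 0 := by
    rintro rfl
    simp at hc
  have hc1 : c ≠ 1 := by
    rintro rfl
    have : (1 : F) = 0 := by linear_combination hc - h2
    exact one_ne_zero this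
  have hcc : c * c = 1 + c := by linear_combination hc - (c + 1) * h2
  have key : ∀ x y : F, toPSL2 F (unipSL x) = toPSL2 F (unipSL y) → x = y := by
    intro x y h
    rw [toPSL2, QuotientGroup.mk'_apply, QuotientGroup.mk'_apply, QuotientGroup.eq] at h
    have e : (unipSL x)⁻¹ * unipSL y = unipSL (y - x) := by
      apply inv_mul_eq_of_eq_mul
      rw [unipSL_mul]
      congr 1
      ring
    rw [e] at h
    by_contra hne
    exact unipSL_not_mem_center (y - x) (sub_ne_zero.2 (fun h' => hne h'.symm)) h
  apply exists_A4_of_data (toPSL2 F (unipSL 1)) (toPSL2 F (unipSL c)) (toPSL2 F (diagC c hc3))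
  · rw [← map_mul, unipSL_mul]
    have : (1 : F) + 1 = 0 := by linear_combination h2
    rw [this, unipSL_zero, map_one]
  · rw [← map_mul, unipSL_mul]
    have : c + c = 0 := by linear_combination c * h2
    rw [this, unipSL_zero, map_one]
  · rw [← map_mul, ← map_mul, unipSL_mul, unipSL_mul, add_comm]
  · intro h
    rw [← map_one (toPSL2 F), ← unipSL_zero] at h
    exact one_ne_zero (key _ _ h)
  · intro h
    rw [← map_one (toPSL2 F), ← unipSL_zero] at h
    exact hc0 (key _ _ h)
  · intro h
    exact hc1 (key _ _ h).symm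
  · rw [← map_pow, diagC_pow, map_one]
  · rw [← map_inv, ← map_mul, ← map_mul, diagC_conj, mul_one]
  · rw [← map_inv, ← map_mul, ← map_mul, diagC_conj, ← map_mul, unipSL_mul, hcc]

end a4even
end Cfsg.Agent.Lib.Helper15
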