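import Mathlib
import Cfsg.Agent.Lib.Helper15.A4Even
set_option autoImplicit false
set_option linter.unusedSimpArgs false
namespace Cfsg.Agent.Lib.Helper15

open Matrix
open Cfsg.Agent.Lib.Helper14

section a4conv
variable {F : Type*} [Field F]

theorem center_SL2_eq_bot_of_two (h2 : (2 : F) = 0) :
    Subgroup.center (SpecialLinearGroup (Fin 2) F) = ⊥ := by
  rw [Subgroup.eq_bot_iff_forall]
  intro z hz
  obtain ⟨h01, h10, h00⟩ := isScalar2_of_mem_center z hz
  have hdet := z.det_coe
  rw [Matrix.det_fin_two, h01, h10, ← h00, mul_zero, sub_zero] at hdet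
  have h1 : ((z : Matrix (Fin 2) (Fin 2) F) 0 0 - 1) ^ 2 = 0 := by
    linear_combination hdet - (z : Matrix (Fin 2) (Fin 2) F) 0 0 * h2 + h2
  have h3 : (z : Matrix (Fin 2) (Fin 2) F) 0 0 = 1 := by
    have := pow_eq_zero_iff (n := 2) (by norm_num) |>.1 h1
    exact sub_eq_zero.1 this
  apply Subtype.ext
  apply mat2_ext
  · rw [h3]; rfl
  · rw [h01]; rfl
  · rw [h10]; rfl
  · rw [← h00, h3]; rfl

theorem toPSL2_injective_of_two (h2 : (2 : F) = 0) : Function.Injective (toPSL2 F) := by
  rw [← MonoidHom.ker_eq_bot_iff, toPSL2, QuotientGroup.ker_mk', center_SL2_eq_bot_of_two h2]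

/-- the key computation: in characteristic `2` with `3 ∤ q - 1`, an element of order dividing `3`
conjugating an involution into its centralizer is trivial -/
theorem eq_one_of_A4_data [Fintype F] (h2 : (2 : F) = 0) (h3 : Nat.Coprime 3 (Fintype.card F - 1))
    (u h : SpecialLinearGroup (Fin 2) F) (hu : u * u = 1) (hu1 : u ≠ 1) (hh : h ^ 3 = 1)
    (hcomm : (h * u * h⁻¹) * u = u * (h * u * h⁻¹)) : h = 1 := by
  have hbot := center_SL2_eq_bot_of_two h2
  have hns : ¬ IsScalar2 (u : Matrix (Fin 2) (Fin 2) F) := by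
    intro hs
    have := isScalar2_mem_center u hs
    rw [hbot, Subgroup.mem_bot] at this
    exact hu1 this
  -- entries of `u`
  have hUU : (u : Matrix (Fin 2) (Fin 2) F) * (u : Matrix (Fin 2) (Fin 2) F) = 1 := by
    have := congrArg Subtype.val hu
    rw [Matrix.SpecialLinearGroup.coe_mul, Matrix.SpecialLinearGroup.coe_one] at this
    exact this
  have hU00 := congrFun (congrFun hUU 0) 0
  have hU01 := congrFun (congrFun hUU 0) 1
  have hU10 := congrFun (congrFun hUU 1) 0
  have hU11 := congrFun (congrFun hUU 1) 1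
  simp only [Matrix.mul_apply, Fin.sum_univ_two, Matrix.one_apply_eq, Matrix.one_apply_ne, ne_eq,
    zero_ne_one, one_ne_zero, not_false_eq_true] at hU00 hU01 hU10 hU11
  -- the conjugate
  have hmem : h * u * h⁻¹ ∈ Subgroup.centralizer ({u} : Set (SpecialLinearGroup (Fin 2) F)) :=
    Subgroup.mem_centralizer_singleton_iff.2 hcomm
  obtain ⟨x, y, hxy⟩ := (mem_centralizer_iff_eq_add_smul u hns _).1 hmem
  have hu'2 : (h * u * h⁻¹) * (h * u * h⁻¹) = 1 := by
    have : (h * u * h⁻¹) * (h * u * h⁻¹) = h * (u * u) * h⁻¹ := by group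
    rw [this, hu, mul_one, mul_inv_cancel]
  have hV := congrArg Subtype.val hu'2
  rw [Matrix.SpecialLinearGroup.coe_mul, Matrix.SpecialLinearGroup.coe_one, hxy] at hV
  have hV00 := congrFun (congrFun hV 0) 0
  simp only [Matrix.mul_apply, Fin.sum_univ_two, Matrix.add_apply, Matrix.smul_apply, Matrix.one_apply_eq,
    Matrix.one_apply_ne, ne_eq, zero_ne_one, one_ne_zero, not_false_eq_true, smul_eq_mul, mul_one, mul_zero,
    zero_add, add_zero] at hV00
  have hx : x = 1 - y := by
    have hsq : (x + y - 1) ^ 2 = 0 := by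
      linear_combination hV00 - y ^ 2 * hU00 +
        (1 + x * y - x - y - x * y * (u : Matrix (Fin 2) (Fin 2) F) 0 0) * h2
    have := pow_eq_zero_iff (n := 2) (by norm_num) |>.1 hsq
    linear_combination this
  -- the relation `h (u - 1) = y (u - 1) h`
  have hhu : h * u = (h * u * h⁻¹) * h := by group
  have hHU := congrArg Subtype.val hhu
  rw [Matrix.SpecialLinearGroup.coe_mul, Matrix.SpecialLinearGroup.coe_mul, hxy, hx] at hHU
  set H := (h : Matrix (Fin 2) (Fin 2) F) with hH
  set U := (u : Matrix (Fin 2) (Fin 2) F) with hU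
  have hHN : H * (U - 1) = y • ((U - 1) * H) := by
    rw [Matrix.mul_sub, Matrix.mul_one, hHU, Matrix.sub_mul, Matrix.one_mul, Matrix.add_mul, Matrix.smul_mul,
      Matrix.smul_mul, Matrix.one_mul, smul_sub, sub_smul, one_smul]
    abel
  have hH3 : H * H * H = 1 := by
    have := congrArg Subtype.val hh
    rw [pow_succ, pow_two, Matrix.SpecialLinearGroup.coe_mul, Matrix.SpecialLinearGroup.coe_mul,
      Matrix.SpecialLinearGroup.coe_one] at this
    exact this
  have s2 : H * (H * (U - 1)) = (y * y) • ((U - 1) * (H * H)) := by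
    rw [hHN, Matrix.mul_smul, ← Matrix.mul_assoc, hHN, Matrix.smul_mul, smul_smul, Matrix.mul_assoc]
  have s3 : H * (H * (H * (U - 1))) = (y * (y * y)) • ((U - 1) * (H * H * H)) := by
    rw [s2, Matrix.mul_smul, ← Matrix.mul_assoc, hHN, Matrix.smul_mul, smul_smul, Matrix.mul_assoc,
      Matrix.mul_assoc H H H, mul_comm (y * y) y]
  have hN3 : U - 1 = (y ^ 3) • (U - 1) := by
    calc U - 1 = H * H * H * (U - 1) := by rw [hH3, Matrix.one_mul]
      _ = H * (H * (H * (U - 1))) := by simp only [Matrix.mul_assoc]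
      _ = (y ^ 3) • (U - 1) := by
          rw [s3, hH3, Matrix.mul_one]
          congr 1
          ring
  have hNne : U - 1 ≠ 0 := by
    intro h0
    apply hu1
    apply Subtype.ext
    rw [Matrix.SpecialLinearGroup.coe_one]
    exact sub_eq_zero.1 h0
  have hy3 : y ^ 3 = 1 := by
    by_contra hne
    apply hNne
    have h0 : (1 - y ^ 3) • (U - 1) = 0 := by
      rw [sub_smul, one_smul, ← hN3, sub_self]
    rcases smul_eq_zero.1 h0 with h' | h'
    · exact absurd (sub_eq_zero.1 h').symm hne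
    · exact h'
  have hy0 : y ≠ 0 := by
    rintro rfl
    simp at hy3
  have hy1 : y = 1 := by
    have e1 : (Units.mk0 y hy0) ^ 3 = 1 := by
      apply Units.ext
      rw [Units.val_pow_eq_pow_val, Units.val_mk0, hy3, Units.val_one]
    have e2 : (Units.mk0 y hy0) ^ (Fintype.card F - 1) = 1 := by
      apply Units.ext
      rw [Units.val_pow_eq_pow_val, Units.val_mk0, Units.val_one]
      exact FiniteField.pow_card_sub_one_eq_one y hy0
    have := eq_one_of_pow_coprime (Units.mk0 y hy0) 3 (Fintype.card F - 1) h3 e1 e2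
    have := congrArg Units.val this
    rwa [Units.val_mk0, Units.val_one] at this
  -- now `h` commutes with `u`
  have hconj : h * u * h⁻¹ = u := by
    apply Subtype.ext
    rw [hxy, hx, hy1, sub_self, zero_smul, zero_add, one_smul]
  have hhT : h ∈ Subgroup.centralizer ({u} : Set (SpecialLinearGroup (Fin 2) F)) :=
    (mem_centralizer_iff_conj_eq u h).2 hconj
  obtain ⟨x', z, hxz⟩ := (mem_centralizer_iff_eq_add_smul u hns h).1 hhT
  have hsc : IsScalar2 ((h * h : SpecialLinearGroup (Fin 2) F) : Matrix (Fin 2) (Fin 2) F) := by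
    have hxz' : H = x' • (1 : Matrix (Fin 2) (Fin 2) F) + z • U := hxz
    rw [Matrix.SpecialLinearGroup.coe_mul]
    show IsScalar2 (H * H)
    rw [hxz']
    refine ⟨?_, ?_, ?_⟩
    · simp only [Matrix.mul_apply, Fin.sum_univ_two, Matrix.add_apply, Matrix.smul_apply, Matrix.one_apply_eq,
        Matrix.one_apply_ne, ne_eq, zero_ne_one, one_ne_zero, not_false_eq_true, smul_eq_mul, mul_one, mul_zero,
        zero_add, add_zero]
      linear_combination (x' * z * U 0 1) * h2 + z ^ 2 * hU01
    · simp only [Matrix.mul_apply, Fin.sum_univ_two, Matrix.add_apply, Matrix.smul_apply, Matrix.one_apply_eq,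
        Matrix.one_apply_ne, ne_eq, zero_ne_one, one_ne_zero, not_false_eq_true, smul_eq_mul, mul_one, mul_zero,
        zero_add, add_zero]
      linear_combination (x' * z * U 1 0) * h2 + z ^ 2 * hU10
    · simp only [Matrix.mul_apply, Fin.sum_univ_two, Matrix.add_apply, Matrix.smul_apply, Matrix.one_apply_eq,
        Matrix.one_apply_ne, ne_eq, zero_ne_one, one_ne_zero, not_false_eq_true, smul_eq_mul, mul_one, mul_zero,
        zero_add, add_zero]
      linear_combination (x' * z * (U 0 0 - U 1 1)) * h2 + z ^ 2 * hU00 - z ^ 2 * hU11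
  have hhh : h * h = 1 := by
    have := isScalar2_mem_center _ hsc
    rw [hbot, Subgroup.mem_bot] at this
    exact this
  calc h = h ^ 3 * (h * h)⁻¹ := by rw [pow_succ, pow_two]; group
    _ = 1 := by rw [hh, hhh, inv_one, mul_one]

/-- a double transposition in `A₄` -/
def a4sig : alternatingGroup (Fin 4) :=
  ⟨Equiv.swap 0 1 * Equiv.swap 2 3, by rw [Equiv.Perm.mem_alternatingGroup]; decide⟩

/-- a `3`-cycle in `A₄` -/
def a4tau : alternatingGroup (Fin 4) :=
  ⟨Equiv.swap 0 1 * Equiv.swap 1 2, by rw [Equiv.Perm.mem_alternatingGroup]; decide⟩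

theorem a4sig_sq : a4sig * a4sig = 1 := by
  apply Subtype.ext
  show (Equiv.swap 0 1 * Equiv.swap 2 3 : Equiv.Perm (Fin 4)) * (Equiv.swap 0 1 * Equiv.swap 2 3) = 1
  decide

theorem a4sig_ne_one : a4sig ≠ 1 := by
  intro h
  have := congrArg Subtype.val h
  have h' : (Equiv.swap 0 1 * Equiv.swap 2 3 : Equiv.Perm (Fin 4)) = 1 := this
  revert h'
  decide

theorem a4tau_cube : a4tau ^ 3 = 1 := by
  apply Subtype.ext
  show (Equiv.swap 0 1 * Equiv.swap 1 2 : Equiv.Perm (Fin 4)) ^ 3 = 1
  decide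

theorem a4tau_ne_one : a4tau ≠ 1 := by
  intro h
  have := congrArg Subtype.val h
  have h' : (Equiv.swap 0 1 * Equiv.swap 1 2 : Equiv.Perm (Fin 4)) = 1 := this
  revert h'
  decide

theorem a4_comm : (a4tau * a4sig * a4tau⁻¹) * a4sig = a4sig * (a4tau * a4sig * a4tau⁻¹) := by
  apply Subtype.ext
  show ((Equiv.swap 0 1 * Equiv.swap 1 2 : Equiv.Perm (Fin 4)) * (Equiv.swap 0 1 * Equiv.swap 2 3) *
      (Equiv.swap 0 1 * Equiv.swap 1 2 : Equiv.Perm (Fin 4))⁻¹) * (Equiv.swap 0 1 * Equiv.swap 2 3) =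
    (Equiv.swap 0 1 * Equiv.swap 2 3 : Equiv.Perm (Fin 4)) * ((Equiv.swap 0 1 * Equiv.swap 1 2 : Equiv.Perm (Fin 4)) *
      (Equiv.swap 0 1 * Equiv.swap 2 3) * (Equiv.swap 0 1 * Equiv.swap 1 2 : Equiv.Perm (Fin 4))⁻¹)
  decide

/-- `PSL₂(F)` has no subgroup `A₄` in characteristic `2` when `3 ∤ q - 1` -/
theorem no_A4_char_two [Fintype F] (h2 : (2 : F) = 0) (h3 : Nat.Coprime 3 (Fintype.card F - 1))
    (H : Subgroup (ProjectiveSpecialLinearGroup (Fin 2) F)) (e : H ≃* alternatingGroup (Fin 4)) : False := by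
  let πe : SpecialLinearGroup (Fin 2) F ≃* ProjectiveSpecialLinearGroup (Fin 2) F :=
    MulEquiv.ofBijective (toPSL2 F) ⟨toPSL2_injective_of_two h2, toPSL2_surjective⟩
  let θ : alternatingGroup (Fin 4) →* SpecialLinearGroup (Fin 2) F :=
    πe.symm.toMonoidHom.comp (H.subtype.comp e.symm.toMonoidHom)
  have hθ : Function.Injective θ := by
    intro a b hab
    have h1 : H.subtype (e.symm a) = H.subtype (e.symm b) := πe.symm.injective hab
    exact e.symm.injective (Subgroup.subtype_injective H h1)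
  have hu : θ a4sig * θ a4sig = 1 := by rw [← map_mul, a4sig_sq, map_one]
  have hu1 : θ a4sig ≠ 1 := fun h => a4sig_ne_one (hθ (h.trans (map_one θ).symm))
  have hh : θ a4tau ^ 3 = 1 := by rw [← map_pow, a4tau_cube, map_one]
  have hcomm : (θ a4tau * θ a4sig * (θ a4tau)⁻¹) * θ a4sig = θ a4sig * (θ a4tau * θ a4sig * (θ a4tau)⁻¹) := by
    have := congrArg θ a4_comm
    simpa only [map_mul, map_inv] using this
  have := eq_one_of_A4_data h2 h3 (θ a4sig) (θ a4tau) hu hu1 hh hcomm
  exact a4tau_ne_one (hθ (this.trans (map_one θ).symm))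

end a4conv
end Cfsg.Agent.Lib.Helper15
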