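import Mathlib
import Cfsg.Agent.Lib.Helper15.A4Conv
import Cfsg.Agent.S3377
set_option autoImplicit false
namespace Cfsg.Agent.Lib.Helper15

open Matrix
open Cfsg.Agent.Lib.Helper14

section a5
variable {F : Type*} [Field F]

theorem coe_sq_eq (g : SpecialLinearGroup (Fin 2) F) :
    (g : Matrix (Fin 2) (Fin 2) F) * (g : Matrix (Fin 2) (Fin 2) F) =
      (g : Matrix (Fin 2) (Fin 2) F).trace • (g : Matrix (Fin 2) (Fin 2) F) - 1 := by
  rw [cayley2, g.det_coe, one_smul]

/-- the fifth power of an element of `SL₂` in terms of its trace -/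
theorem coe_pow_five (g : SpecialLinearGroup (Fin 2) F) (t : F)
    (ht : (g : Matrix (Fin 2) (Fin 2) F).trace = t) :
    ((g ^ 5 : SpecialLinearGroup (Fin 2) F) : Matrix (Fin 2) (Fin 2) F) =
      (t ^ 4 - 3 * t ^ 2 + 1) • (g : Matrix (Fin 2) (Fin 2) F) - (t ^ 3 - 2 * t) • (1 : Matrix (Fin 2) (Fin 2) F) := by
  have h2 := coe_sq_eq g
  rw [ht] at h2
  set M := (g : Matrix (Fin 2) (Fin 2) F) with hM
  have h3 : M * M * M = (t ^ 2 - 1) • M - t • (1 : Matrix (Fin 2) (Fin 2) F) := by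
    rw [h2, Matrix.sub_mul, Matrix.smul_mul, h2, Matrix.one_mul, smul_sub, smul_smul]
    module
  have h4 : M * M * M * M = (t ^ 3 - 2 * t) • M - (t ^ 2 - 1) • (1 : Matrix (Fin 2) (Fin 2) F) := by
    rw [h3, Matrix.sub_mul, Matrix.smul_mul, h2, Matrix.smul_mul, Matrix.one_mul, smul_sub, smul_smul]
    module
  have h5 : M * M * M * M * M = (t ^ 4 - 3 * t ^ 2 + 1) • M - (t ^ 3 - 2 * t) • (1 : Matrix (Fin 2) (Fin 2) F) := by
    rw [h4, Matrix.sub_mul, Matrix.smul_mul, h2, Matrix.smul_mul, Matrix.one_mul, smul_sub, smul_smul]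
    module
  rw [Matrix.SpecialLinearGroup.coe_pow, ← hM, ← h5]
  simp only [pow_succ, pow_zero, one_mul]

theorem pow_three_of_trace_one (g : SpecialLinearGroup (Fin 2) F)
    (ht : (g : Matrix (Fin 2) (Fin 2) F).trace = 1) : g ^ 3 = -1 := by
  have h2 := coe_sq_eq g
  rw [ht, one_smul] at h2
  apply Subtype.ext
  rw [Matrix.SpecialLinearGroup.coe_pow, Matrix.SpecialLinearGroup.coe_neg, Matrix.SpecialLinearGroup.coe_one,
    pow_succ, pow_two, h2, Matrix.sub_mul, h2, Matrix.one_mul]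
  abel

theorem pow_five_of_trace_golden (g : SpecialLinearGroup (Fin 2) F) (t : F) (hτ : t ^ 2 - t - 1 = 0)
    (ht : (g : Matrix (Fin 2) (Fin 2) F).trace = t) : g ^ 5 = -1 := by
  apply Subtype.ext
  rw [coe_pow_five g t ht, Matrix.SpecialLinearGroup.coe_neg, Matrix.SpecialLinearGroup.coe_one]
  have e1 : t ^ 4 - 3 * t ^ 2 + 1 = 0 := by linear_combination (t ^ 2 + t - 1) * hτ
  have e2 : t ^ 3 - 2 * t = 1 := by linear_combination (t + 1) * hτ
  rw [e1, e2, zero_smul, one_smul, zero_sub]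

/-- the trace of an element of order five is a root of `η² + η - 1` -/
theorem trace_of_order_five (g : SpecialLinearGroup (Fin 2) F) (hg5 : g ^ 5 = 1) (hg1 : g ≠ 1) :
    (g : Matrix (Fin 2) (Fin 2) F).trace ^ 2 + (g : Matrix (Fin 2) (Fin 2) F).trace - 1 = 0 := by
  set t := (g : Matrix (Fin 2) (Fin 2) F).trace with ht
  have h5 := coe_pow_five g t rfl
  rw [hg5, Matrix.SpecialLinearGroup.coe_one] at h5
  -- `g` is not scalar
  have hns : ¬ IsScalar2 (g : Matrix (Fin 2) (Fin 2) F) := by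
    intro hs
    have hc := isScalar2_mem_center g hs
    have h2 := center_mul_self g hc
    apply hg1
    calc g = g ^ 5 * ((g * g) * (g * g))⁻¹ := by
          rw [show (5 : ℕ) = 1 + 2 + 2 from rfl, pow_add, pow_add, pow_two, pow_one]; group
      _ = 1 := by rw [hg5, h2]; simp
  have hc0 : t ^ 4 - 3 * t ^ 2 + 1 = 0 := by
    by_contra hne
    apply hns
    have : (g : Matrix (Fin 2) (Fin 2) F) =
        ((t ^ 4 - 3 * t ^ 2 + 1)⁻¹ * (1 + (t ^ 3 - 2 * t))) • (1 : Matrix (Fin 2) (Fin 2) F) := by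
      have h6 : (t ^ 4 - 3 * t ^ 2 + 1) • (g : Matrix (Fin 2) (Fin 2) F) =
          (1 + (t ^ 3 - 2 * t)) • (1 : Matrix (Fin 2) (Fin 2) F) := by
        calc (t ^ 4 - 3 * t ^ 2 + 1) • (g : Matrix (Fin 2) (Fin 2) F)
            = ((t ^ 4 - 3 * t ^ 2 + 1) • (g : Matrix (Fin 2) (Fin 2) F) -
                (t ^ 3 - 2 * t) • (1 : Matrix (Fin 2) (Fin 2) F)) +
                (t ^ 3 - 2 * t) • (1 : Matrix (Fin 2) (Fin 2) F) := by abel
          _ = 1 + (t ^ 3 - 2 * t) • (1 : Matrix (Fin 2) (Fin 2) F) := by rw [← h5]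
          _ = (1 + (t ^ 3 - 2 * t)) • (1 : Matrix (Fin 2) (Fin 2) F) := by rw [add_smul, one_smul]
      rw [mul_smul, ← h6, smul_smul, inv_mul_cancel₀ hne, one_smul]
    rw [this]
    exact isScalar2_smul_one _
  have hd0 : t ^ 3 - 2 * t + 1 = 0 := by
    rw [hc0, zero_smul, zero_sub] at h5
    have := congrFun (congrFun h5 0) 0
    simp only [Matrix.one_apply_eq, Matrix.neg_apply, Matrix.smul_apply, smul_eq_mul, mul_one] at this
    linear_combination this
  by_contra hne
  have h1 : t = 1 := by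
    have : (t - 1) * (t ^ 2 + t - 1) = 0 := by linear_combination hd0
    rcases mul_eq_zero.1 this with h | h
    · exact sub_eq_zero.1 h
    · exact absurd h hne
  rw [h1] at hc0
  norm_num at hc0

/-- an element with trace one and with `tr (w0 * y)` equal to `t` -/
def goldenY (t a b : F) (h : a ^ 2 - a + (b ^ 2 - t * b) + 1 = 0) : SpecialLinearGroup (Fin 2) F :=
  ⟨!![a, b; b - t, 1 - a], by rw [Matrix.det_fin_two_of]; linear_combination -h⟩

theorem goldenY_trace (t a b : F) (h : a ^ 2 - a + (b ^ 2 - t * b) + 1 = 0) :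
    ((goldenY t a b h : SpecialLinearGroup (Fin 2) F) : Matrix (Fin 2) (Fin 2) F).trace = 1 := by
  simp [goldenY, Matrix.trace_fin_two]

theorem goldenY_mul_trace (t a b : F) (h : a ^ 2 - a + (b ^ 2 - t * b) + 1 = 0) :
    ((w0 F * goldenY t a b h : SpecialLinearGroup (Fin 2) F) : Matrix (Fin 2) (Fin 2) F).trace = t := by
  rw [Matrix.SpecialLinearGroup.coe_mul]
  simp [goldenY, w0, Matrix.trace_fin_two]

theorem goldenY_not_scalar (t a b : F) (h : a ^ 2 - a + (b ^ 2 - t * b) + 1 = 0) (ht : t ≠ 0) :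
    ¬ IsScalar2 ((goldenY t a b h : SpecialLinearGroup (Fin 2) F) : Matrix (Fin 2) (Fin 2) F) := by
  rintro ⟨h01, h10, -⟩
  simp only [goldenY, Matrix.of_apply, Matrix.cons_val_zero, Matrix.cons_val_one, Matrix.cons_val',
    Matrix.cons_val_fin_one] at h01 h10
  apply ht
  linear_combination h01 - h10

open Polynomial in
/-- existence of the parameters -/
theorem exists_golden_params [Fintype F] (t : F) (ht : t ^ 2 - t - 1 = 0) :
    ∃ a b : F, a ^ 2 - a + (b ^ 2 - t * b) + 1 = 0 := by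
  by_cases h2 : (2 : F) = 0
  · refine ⟨t, 0, ?_⟩
    linear_combination ht + h2
  · have hodd : Fintype.card F % 2 = 1 := by
      by_contra hcon
      apply h2
      apply (two_dvd_card_iff (F := F)).1
      omega
    have hf2 : (X ^ 2 - X + C 1 : F[X]).degree = 2 := by
      rw [show (X ^ 2 - X + C 1 : F[X]) = X ^ 2 + (-X + C 1) by ring]
      have hlt : (-X + C 1 : F[X]).degree < (X ^ 2 : F[X]).degree := by
        rw [degree_X_pow]
        calc (-X + C 1 : F[X]).degree ≤ max (-X : F[X]).degree (C 1 : F[X]).degree := degree_add_le _ _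
          _ < 2 := by
            rw [degree_neg, degree_X, degree_C one_ne_zero]
            decide
      rw [degree_add_eq_left_of_degree_lt hlt, degree_X_pow]
      rfl
    have hg2 : (X ^ 2 - C t * X : F[X]).degree = 2 := by
      rw [sub_eq_add_neg]
      have hlt : (-(C t * X) : F[X]).degree < (X ^ 2 : F[X]).degree := by
        rw [degree_X_pow, degree_neg]
        calc (C t * X : F[X]).degree ≤ 1 := degree_C_mul_X_le t
          _ < 2 := by decide
      rw [degree_add_eq_left_of_degree_lt hlt, degree_X_pow]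
      rfl
    obtain ⟨a, b, hab⟩ := FiniteField.exists_root_sum_quadratic hf2 hg2 hodd
    refine ⟨a, b, ?_⟩
    simp only [eval_add, eval_sub, eval_pow, eval_X, eval_C, eval_mul] at hab
    linear_combination hab

theorem toPSL2_neg_one : toPSL2 F (-1) = 1 := by
  rw [toPSL2, QuotientGroup.mk'_apply, QuotientGroup.eq_one_iff]
  exact neg_one_mem_center_SL2

/-- `PSL₂(F)` contains `A₅` when `SL₂(F)` has an element of order five -/
theorem exists_A5 [Fintype F] (g : SpecialLinearGroup (Fin 2) F) (hg5 : g ^ 5 = 1) (hg1 : g ≠ 1) :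
    ∃ H : Subgroup (ProjectiveSpecialLinearGroup (Fin 2) F), Nonempty (H ≃* alternatingGroup (Fin 5)) := by
  have hη := trace_of_order_five g hg5 hg1
  set η := (g : Matrix (Fin 2) (Fin 2) F).trace with hηdef
  have hτ : (-η) ^ 2 - (-η) - 1 = 0 := by linear_combination hη
  have hτ0 : -η ≠ 0 := by
    intro h0
    rw [h0] at hτ
    norm_num at hτ
  obtain ⟨a, b, hab⟩ := exists_golden_params (-η) hτ
  set y := goldenY (-η) a b hab with hy
  have hy3 : y ^ 3 = -1 := pow_three_of_trace_one y (goldenY_trace _ _ _ hab)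
  have hxy5 : (w0 F * y) ^ 5 = -1 := pow_five_of_trace_golden _ (-η) hτ (goldenY_mul_trace _ _ _ hab)
  have hyns := goldenY_not_scalar (-η) a b hab hτ0
  -- images in `PSL₂`
  set s := toPSL2 F (w0 F) with hs
  set t := toPSL2 F y with ht
  have hss : s * s = 1 := by rw [hs, ← map_mul, w0_sq, toPSL2_neg_one]
  have ht3 : t ^ 3 = 1 := by rw [ht, ← map_pow, hy3, toPSL2_neg_one]
  have hst5 : (s * t) ^ 5 = 1 := by rw [hs, ht, ← map_mul, ← map_pow, hxy5, toPSL2_neg_one]
  have ht1 : t ≠ 1 := by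
    intro h
    rw [ht, toPSL2, QuotientGroup.mk'_apply, QuotientGroup.eq_one_iff] at h
    exact hyns (isScalar2_of_mem_center y h)
  -- the presentation
  obtain ⟨e⟩ := Cfsg.Agent.S3377.result
  have hrel : ∀ r ∈ ({FreeGroup.of (0 : Fin 2) ^ 3, FreeGroup.of (1 : Fin 2) ^ 5,
      (FreeGroup.of (0 : Fin 2) * FreeGroup.of 1) ^ 2} : Set (FreeGroup (Fin 2))),
      FreeGroup.lift (![t⁻¹, s * t] : Fin 2 → ProjectiveSpecialLinearGroup (Fin 2) F) r = 1 := by
    intro r hr
    rcases hr with rfl | rfl | rfl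
    · rw [map_pow, FreeGroup.lift_apply_of]
      show (t⁻¹) ^ 3 = 1
      rw [inv_pow, ht3, inv_one]
    · rw [map_pow, FreeGroup.lift_apply_of]
      exact hst5
    · rw [map_pow, map_mul, FreeGroup.lift_apply_of, FreeGroup.lift_apply_of]
      show (t⁻¹ * (s * t)) ^ 2 = 1
      rw [pow_two]
      calc t⁻¹ * (s * t) * (t⁻¹ * (s * t)) = t⁻¹ * (s * s) * t := by group
        _ = 1 := by rw [hss, mul_one, inv_mul_cancel]
  let ψ : alternatingGroup (Fin 5) →* ProjectiveSpecialLinearGroup (Fin 2) F :=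
    (PresentedGroup.toGroup hrel).comp e.symm.toMonoidHom
  have hker : ψ.ker = ⊥ := by
    rcases (MonoidHom.normal_ker ψ).eq_bot_or_eq_top with h | h
    · exact h
    · exfalso
      have h1 : e (PresentedGroup.of 0) ∈ ψ.ker := by rw [h]; exact Subgroup.mem_top _
      rw [MonoidHom.mem_ker] at h1
      have h3 : ψ (e (PresentedGroup.of 0)) = t⁻¹ := by
        show PresentedGroup.toGroup hrel (e.symm (e (PresentedGroup.of 0))) = t⁻¹
        rw [MulEquiv.symm_apply_apply, PresentedGroup.toGroup.of]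
        rfl
      rw [h3, inv_eq_one] at h1
      exact ht1 h1
  have hinj : Function.Injective ψ := (MonoidHom.ker_eq_bot_iff ψ).1 hker
  exact ⟨ψ.range, ⟨(MonoidHom.ofInjective hinj).symm⟩⟩

end a5
end Cfsg.Agent.Lib.Helper15
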