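import Mathlib
import Cfsg.Agent.Lib.Helper14.SL2Ind
import Cfsg.Agent.Lib.Helper14.GL2Cent
set_option autoImplicit false
namespace Cfsg.Agent.Lib.Helper15

open Matrix
open Cfsg.Agent.Lib.Helper14

section borelclasses
variable {F : Type*} [Field F]

/-- the Borel subgroup of `SL₂` -/
abbrev borelSL (F : Type*) [Field F] : Subgroup (SpecialLinearGroup (Fin 2) F) :=
  (Cfsg.upperTriangularGL 2 F).comap SpecialLinearGroup.toGL

/-- the upper triangular matrix with diagonal `a, a⁻¹` and corner `b` -/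
def borelSLMk (p : Fˣ × F) : borelSL F :=
  ⟨⟨!![(p.1 : F), p.2; 0, ((p.1⁻¹ : Fˣ) : F)], by simp [Matrix.det_fin_two]⟩,
    (mem_borelSL_iff _).2 (by simp)⟩

theorem borelSLMk_coe (p : Fˣ × F) :
    ((borelSLMk p).1 : Matrix (Fin 2) (Fin 2) F) = !![(p.1 : F), p.2; 0, ((p.1⁻¹ : Fˣ) : F)] := rfl

theorem borelSLMk_mul_coe (p p' : Fˣ × F) :
    ((borelSLMk p * borelSLMk p').1 : Matrix (Fin 2) (Fin 2) F) =
      !![(p.1 : F), p.2; 0, ((p.1⁻¹ : Fˣ) : F)] * !![(p'.1 : F), p'.2; 0, ((p'.1⁻¹ : Fˣ) : F)] := rfl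

theorem borelSL_10 (g : borelSL F) : (g.1 : Matrix (Fin 2) (Fin 2) F) 1 0 = 0 :=
  (mem_borelSL_iff g.1).1 g.2

theorem borelSL_diag (g : borelSL F) :
    (g.1 : Matrix (Fin 2) (Fin 2) F) 0 0 * (g.1 : Matrix (Fin 2) (Fin 2) F) 1 1 = 1 := by
  have h := g.1.det_coe
  rw [Matrix.det_fin_two, borelSL_10, mul_zero, sub_zero] at h
  exact h

/-- the Borel subgroup of `SL₂` is parametrized by `Fˣ × F` -/
noncomputable def borelSLEquiv : borelSL F ≃ Fˣ × F where
  toFun g := (Units.mkOfMulEqOne _ _ (borelSL_diag g), (g.1 : Matrix (Fin 2) (Fin 2) F) 0 1)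
  invFun := borelSLMk
  left_inv g := by
    apply Subtype.ext
    apply Subtype.ext
    apply mat2_ext
    · rfl
    · rfl
    · exact (borelSL_10 g).symm
    · rfl
  right_inv p := by
    apply Prod.ext
    · apply Units.ext
      rfl
    · rfl

theorem borelSL_commute_iff (p p' : Fˣ × F) :
    Commute (borelSLMk p) (borelSLMk p') ↔
      p'.2 * ((p.1 : F) - ((p.1⁻¹ : Fˣ) : F)) = p.2 * ((p'.1 : F) - ((p'.1⁻¹ : Fˣ) : F)) := by
  rw [Commute, SemiconjBy]
  constructor
  · intro h
    have h1 : ((borelSLMk p * borelSLMk p').1 : Matrix (Fin 2) (Fin 2) F) 0 1 =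
        ((borelSLMk p' * borelSLMk p).1 : Matrix (Fin 2) (Fin 2) F) 0 1 := by rw [h]
    rw [borelSLMk_mul_coe, borelSLMk_mul_coe] at h1
    simp only [Matrix.mul_apply, Fin.sum_univ_two, Matrix.of_apply, Matrix.cons_val_zero, Matrix.cons_val_one] at h1
    linear_combination h1
  · intro h
    apply Subtype.ext
    apply Subtype.ext
    rw [borelSLMk_mul_coe, borelSLMk_mul_coe]
    apply mat2_ext
    · simp only [Matrix.mul_apply, Fin.sum_univ_two, Matrix.of_apply, Matrix.cons_val_zero, Matrix.cons_val_one]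
      ring
    · simp only [Matrix.mul_apply, Fin.sum_univ_two, Matrix.of_apply, Matrix.cons_val_zero, Matrix.cons_val_one]
      linear_combination h
    · simp only [Matrix.mul_apply, Fin.sum_univ_two, Matrix.of_apply, Matrix.cons_val_zero, Matrix.cons_val_one]
      ring
    · simp only [Matrix.mul_apply, Fin.sum_univ_two, Matrix.of_apply, Matrix.cons_val_zero, Matrix.cons_val_one]
      ring

/-- `a - a⁻¹` -/
def dl (a : Fˣ) : F := (a : F) - ((a⁻¹ : Fˣ) : F)

theorem dl_eq_zero_iff (a : Fˣ) : dl a = 0 ↔ a = 1 ∨ a = -1 := by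
  rw [dl, sub_eq_zero]
  constructor
  · intro h
    have h1 : (a : F) * (a : F) = 1 := by
      nth_rewrite 1 [h]
      rw [← Units.val_mul, inv_mul_cancel, Units.val_one]
    rcases mul_self_eq_one_iff.1 h1 with h' | h'
    · exact Or.inl (Units.ext h')
    · exact Or.inr (Units.ext (by rw [h']; simp))
  · rintro (rfl | rfl)
    · simp
    · simp

variable [Fintype F] [DecidableEq F]

theorem card_line (u v : F) (h : u ≠ 0 ∨ v ≠ 0) :
    Fintype.card {p : F × F // p.2 * u = p.1 * v} = Fintype.card F := by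
  symm
  by_cases hu : u = 0
  · have hv : v ≠ 0 := by
      rcases h with h | h
      · exact absurd hu h
      · exact h
    subst hu
    apply Fintype.card_congr
    refine ⟨fun b => ⟨(0, b), by simp⟩, fun p => p.1.2, fun b => rfl, fun p => ?_⟩
    apply Subtype.ext
    apply Prod.ext
    · have hp : p.1.2 * 0 = p.1.1 * v := p.2
      rw [mul_zero] at hp
      rcases mul_eq_zero.1 hp.symm with h' | h'
      · exact h'.symm
      · exact absurd h' hv
    · rfl
  · apply Fintype.card_congr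
    refine ⟨fun b => ⟨(b, b * v / u), by field_simp⟩, fun p => p.1.1, fun b => rfl, fun p => ?_⟩
    apply Subtype.ext
    apply Prod.ext
    · rfl
    · show p.1.1 * v / u = p.1.2
      rw [← p.2]
      field_simp

theorem card_dl_zero (h2 : (2 : F) ≠ 0) : Fintype.card {a : Fˣ // dl a = 0} = 2 := by
  rw [Fintype.card_subtype]
  have : (Finset.univ.filter fun a : Fˣ => dl a = 0) = {1, -1} := by
    ext a
    simp only [Finset.mem_filter, Finset.mem_univ, true_and, Finset.mem_insert, Finset.mem_singleton]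
    exact dl_eq_zero_iff a
  rw [this, Finset.card_pair]
  intro h
  have h1 : (1 : F) = -1 := by
    have := congrArg Units.val h
    simpa using this
  apply h2
  linear_combination h1

theorem card_both_zero (h2 : (2 : F) ≠ 0) :
    (Finset.univ.filter fun aa : Fˣ × Fˣ => dl aa.1 = 0 ∧ dl aa.2 = 0).card = 4 := by
  have : (Finset.univ.filter fun aa : Fˣ × Fˣ => dl aa.1 = 0 ∧ dl aa.2 = 0) =
      (Finset.univ.filter fun a : Fˣ => dl a = 0) ×ˢ (Finset.univ.filter fun a : Fˣ => dl a = 0) := by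
    ext aa
    simp only [Finset.mem_filter, Finset.mem_univ, true_and, Finset.mem_product]
  rw [this, Finset.card_product, ← Fintype.card_subtype, card_dl_zero h2]

theorem card_comm_pairs (h2 : (2 : F) ≠ 0) :
    Fintype.card {x : (Fˣ × F) × (Fˣ × F) // x.2.2 * dl x.1.1 = x.1.2 * dl x.2.1} =
      Fintype.card Fˣ * Fintype.card Fˣ * Fintype.card F + 4 * (Fintype.card Fˣ * Fintype.card F) := by
  have hq : Fintype.card F = Fintype.card Fˣ + 1 := by
    rw [Fintype.card_units]
    have : 0 < Fintype.card F := Fintype.card_pos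
    omega
  have e1 : {x : (Fˣ × F) × (Fˣ × F) // x.2.2 * dl x.1.1 = x.1.2 * dl x.2.1} ≃
      {y : (Fˣ × Fˣ) × (F × F) // y.2.2 * dl y.1.1 = y.2.1 * dl y.1.2} :=
    (Equiv.prodProdProdComm Fˣ F Fˣ F).subtypeEquiv (fun x => Iff.rfl)
  have e2 : {y : (Fˣ × Fˣ) × (F × F) // y.2.2 * dl y.1.1 = y.2.1 * dl y.1.2} ≃
      Σ aa : Fˣ × Fˣ, {bb : F × F // bb.2 * dl aa.1 = bb.1 * dl aa.2} :=
    Equiv.subtypeProdEquivSigmaSubtype (fun (aa : Fˣ × Fˣ) (bb : F × F) => bb.2 * dl aa.1 = bb.1 * dl aa.2)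
  rw [Fintype.card_congr (e1.trans e2), Fintype.card_sigma]
  have hf : ∀ aa : Fˣ × Fˣ, Fintype.card {bb : F × F // bb.2 * dl aa.1 = bb.1 * dl aa.2} =
      Fintype.card F + (if dl aa.1 = 0 ∧ dl aa.2 = 0 then Fintype.card Fˣ * Fintype.card F else 0) := by
    intro aa
    split_ifs with h
    · have : Fintype.card {bb : F × F // bb.2 * dl aa.1 = bb.1 * dl aa.2} = Fintype.card (F × F) := by
        apply Fintype.card_congr
        refine ⟨fun p => p.1, fun bb => ⟨bb, by rw [h.1, h.2, mul_zero, mul_zero]⟩, fun p => rfl, fun bb => rfl⟩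
      rw [this, Fintype.card_prod, hq]
      ring
    · rw [add_zero]
      apply card_line
      by_contra hh
      push Not at hh
      exact h hh
  rw [Finset.sum_congr rfl (fun aa _ => hf aa), Finset.sum_add_distrib, Finset.sum_const, Finset.card_univ,
    Fintype.card_prod, ← Finset.sum_filter, Finset.sum_const, card_both_zero h2]
  simp only [smul_eq_mul]

end borelclasses
end Cfsg.Agent.Lib.Helper15
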