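import Mathlib

set_option autoImplicit false

open scoped Pointwise

namespace Cfsg.Agent.Lib.Helper15.Dk

/-- a partition of the non-identity elements of a group into non-trivial subgroups,
  closed under conjugation -/
structure Part (H : Type*) [Group H] where
  mem : Set (Subgroup H)
  ne_bot : ∀ A ∈ mem, A ≠ ⊥
  cover : ∀ g : H, g ≠ 1 → ∃ A ∈ mem, g ∈ A
  disj : ∀ A ∈ mem, ∀ B ∈ mem, ∀ g : H, g ≠ 1 → g ∈ A → g ∈ B → A = B
  conj_mem : ∀ A ∈ mem, ∀ g : H, MulAut.conj g • A ∈ mem

variable {H : Type*} [Group H]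

theorem mem_conj_smul {g x : H} {A : Subgroup H} : x ∈ MulAut.conj g • A ↔ g⁻¹ * x * g ∈ A := by
  rw [Subgroup.mem_pointwise_smul_iff_inv_smul_mem, MulAut.smul_def, ← map_inv, MulAut.conj_apply, inv_inv]

theorem conj_smul_eq_self_iff {g : H} {A : Subgroup H} :
    MulAut.conj g • A = A ↔ g ∈ Subgroup.normalizer (A : Set H) := by
  rw [Subgroup.mem_normalizer_iff]
  constructor
  · intro h x
    constructor
    · intro hx
      rw [← h]
      rw [mem_conj_smul]
      simpa [mul_assoc] using hx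
    · intro hx
      rw [← h, mem_conj_smul] at hx
      simpa [mul_assoc] using hx
  · intro h
    ext x
    rw [mem_conj_smul, h (g⁻¹ * x * g)]
    simp [mul_assoc]

theorem card_conj_smul (g : H) (A : Subgroup H) : Nat.card ↥(MulAut.conj g • A) = Nat.card A := by
  symm
  exact Nat.card_congr (Subgroup.equivSMul (MulAut.conj g) A).toEquiv

namespace Part
variable (P : Part H)

/-- the member containing a non-identity element -/
noncomputable def of (g : H) (hg : g ≠ 1) : Subgroup H := (P.cover g hg).choose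

theorem of_mem (g : H) (hg : g ≠ 1) : P.of g hg ∈ P.mem := (P.cover g hg).choose_spec.1

theorem mem_of (g : H) (hg : g ≠ 1) : g ∈ P.of g hg := (P.cover g hg).choose_spec.2

theorem eq_of {A : Subgroup H} (hA : A ∈ P.mem) (g : H) (hg : g ≠ 1) (hgA : g ∈ A) : A = P.of g hg :=
  P.disj A hA _ (P.of_mem g hg) g hg hgA (P.mem_of g hg)

/-- the conjugation action on the members -/
instance : MulAction H ↥P.mem where
  smul g A := ⟨MulAut.conj g • A.1, P.conj_mem A.1 A.2 g⟩
  one_smul A := by
    apply Subtype.ext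
    change MulAut.conj (1 : H) • A.1 = A.1
    rw [map_one, one_smul]
  mul_smul g h A := by
    apply Subtype.ext
    change MulAut.conj (g * h) • A.1 = MulAut.conj g • (MulAut.conj h • A.1)
    rw [map_mul, mul_smul]

theorem smul_val (g : H) (A : ↥P.mem) : (g • A).1 = MulAut.conj g • A.1 := rfl

theorem stabilizer_eq (A : ↥P.mem) :
    MulAction.stabilizer H A = Subgroup.normalizer (A.1 : Set H) := by
  ext g
  rw [MulAction.mem_stabilizer_iff, ← conj_smul_eq_self_iff, ← smul_val, Subtype.ext_iff]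

variable [Finite H]

theorem card_orbit_mul (A : ↥P.mem) :
    Nat.card (MulAction.orbit H A) * Nat.card (Subgroup.normalizer (A.1 : Set H)) = Nat.card H := by
  rw [← stabilizer_eq]
  have := MulAction.index_stabilizer H A
  rw [← Subgroup.index_mul_card (MulAction.stabilizer H A), this, Nat.card_coe_set_eq]

/-- the elements of the members other than the identity partition the non-identity elements -/
noncomputable def sigmaEquiv : {g : H // g ≠ 1} ≃ Σ A : ↥P.mem, {g : H // g ∈ A.1 ∧ g ≠ 1} where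
  toFun g := ⟨⟨P.of g.1 g.2, P.of_mem g.1 g.2⟩, ⟨g.1, P.mem_of g.1 g.2, g.2⟩⟩
  invFun x := ⟨x.2.1, x.2.2.2⟩
  left_inv g := rfl
  right_inv x := by
    obtain ⟨⟨A, hA⟩, ⟨g, hgA, hg⟩⟩ := x
    have h := P.eq_of hA g hg hgA
    subst h
    rfl

noncomputable instance : Fintype ↥P.mem := Fintype.ofFinite _

noncomputable instance : Fintype (MulAction.orbitRel.Quotient H ↥P.mem) := Fintype.ofFinite _

/-- counting the non-identity elements of a subgroup through the members -/
theorem card_sub_one_eq_sum' (N : Subgroup H) :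
    Nat.card N - 1 = ∑ A : ↥P.mem, (Nat.card ↥(A.1 ⊓ N) - 1) := by
  classical
  have hc : ∀ K : Subgroup H, Nat.card {g : H // g ∈ K ∧ g ≠ 1} = Nat.card K - 1 := by
    intro K
    have h2 : Nat.card {g : H // g ∈ K ∧ g ≠ 1} = Nat.card {g : ↥K // g ≠ 1} := by
      apply Nat.card_congr
      exact
        { toFun := fun g => ⟨⟨g.1, g.2.1⟩, fun h => g.2.2 (congrArg Subtype.val h)⟩
          invFun := fun g => ⟨g.1.1, g.1.2, fun h => g.2 (Subtype.ext h)⟩
          left_inv := fun g => rfl
          right_inv := fun g => rfl }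
    rw [h2]
    have := Nat.card_congr (Equiv.sumCompl (fun g : ↥K => g = 1))
    rw [Nat.card_sum] at this
    have h0 : Nat.card {g : ↥K // g = 1} = 1 := by
      rw [Nat.card_eq_one_iff_unique]
      exact ⟨⟨fun a b => Subtype.ext (a.2.trans b.2.symm)⟩, ⟨⟨1, rfl⟩⟩⟩
    rw [h0] at this
    have h3 : Nat.card {g : ↥K // ¬ g = 1} = Nat.card {g : ↥K // g ≠ 1} := rfl
    omega
  rw [← hc N]
  have e : {g : H // g ∈ N ∧ g ≠ 1} ≃ Σ A : ↥P.mem, {g : H // g ∈ A.1 ⊓ N ∧ g ≠ 1} :=
    { toFun := fun g => ⟨⟨P.of g.1 g.2.2, P.of_mem g.1 g.2.2⟩,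
        ⟨g.1, ⟨P.mem_of g.1 g.2.2, g.2.1⟩, g.2.2⟩⟩
      invFun := fun x => ⟨x.2.1, x.2.2.1.2, x.2.2.2⟩
      left_inv := fun g => rfl
      right_inv := by
        rintro ⟨⟨A, hA⟩, ⟨g, ⟨hgA, hgN⟩, hg⟩⟩
        have h := P.eq_of hA g hg hgA
        subst h
        rfl }
  rw [Nat.card_congr e, Nat.card_sigma]
  exact Finset.sum_congr rfl fun A _ => hc _

theorem card_sub_one_eq_sum :
    Nat.card H - 1 = ∑ A : ↥P.mem, (Nat.card A.1 - 1) := by
  have h := P.card_sub_one_eq_sum' ⊤
  rw [Subgroup.card_top] at h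
  rw [h]
  refine Finset.sum_congr rfl fun A _ => ?_
  rw [inf_top_eq]

/-- sums of invariant functions over the members, grouped by orbits -/
theorem sum_eq_sum_orbits (f : ↥P.mem → ℕ) (hf : ∀ (g : H) (A : ↥P.mem), f (g • A) = f A) :
    ∑ A : ↥P.mem, f A = ∑ ω : MulAction.orbitRel.Quotient H ↥P.mem,
      Nat.card (MulAction.orbit H ω.out) * f ω.out := by
  classical
  rw [← Fintype.sum_equiv (MulAction.selfEquivSigmaOrbits H ↥P.mem).symm
    (fun x => f ((MulAction.selfEquivSigmaOrbits H ↥P.mem).symm x))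
    (fun A => f A) (fun x => rfl)]
  rw [Fintype.sum_sigma]
  refine Finset.sum_congr rfl fun ω _ => ?_
  have : ∀ y : MulAction.orbit H ω.out,
      f ((MulAction.selfEquivSigmaOrbits H ↥P.mem).symm ⟨ω, y⟩) = f ω.out := by
    intro y
    have hy : (MulAction.selfEquivSigmaOrbits H ↥P.mem).symm ⟨ω, y⟩ = y.1 := rfl
    rw [hy]
    obtain ⟨g, hg⟩ := y.2
    rw [← hg]
    exact hf g _
  rw [Finset.sum_congr rfl (fun y _ => this y), Finset.sum_const, Finset.card_univ, smul_eq_mul,
    ← Nat.card_eq_fintype_card]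

/-- the class equation, summed over orbits -/
theorem class_equation :
    Nat.card H - 1 = ∑ ω : MulAction.orbitRel.Quotient H ↥P.mem,
      Nat.card (MulAction.orbit H ω.out) * (Nat.card (ω.out).1 - 1) := by
  rw [card_sub_one_eq_sum]
  apply P.sum_eq_sum_orbits (fun A => Nat.card A.1 - 1)
  intro g A
  change Nat.card ↥(MulAut.conj g • A.1) - 1 = _
  rw [card_conj_smul]

/-- order of the representative of an orbit -/
noncomputable def oa (ω : MulAction.orbitRel.Quotient H ↥P.mem) : ℕ := Nat.card (ω.out).1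

/-- order of the normalizer of the representative of an orbit -/
noncomputable def on (ω : MulAction.orbitRel.Quotient H ↥P.mem) : ℕ :=
  Nat.card (Subgroup.normalizer ((ω.out).1 : Set H))

/-- size of an orbit -/
noncomputable def oi (ω : MulAction.orbitRel.Quotient H ↥P.mem) : ℕ :=
  Nat.card (MulAction.orbit H ω.out)

theorem oi_mul_on (ω : MulAction.orbitRel.Quotient H ↥P.mem) : P.oi ω * P.on ω = Nat.card H :=
  P.card_orbit_mul ω.out

theorem class_equation' :
    Nat.card H - 1 = ∑ ω : MulAction.orbitRel.Quotient H ↥P.mem, P.oi ω * (P.oa ω - 1) :=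
  P.class_equation

omit [Finite H] in
theorem two_le_card {A : Subgroup H} (hA : A ∈ P.mem) [Finite A] : 2 ≤ Nat.card A := by
  have h1 : Nat.card A ≠ 1 := by
    intro h
    exact P.ne_bot A hA (Subgroup.card_eq_one.mp h)
  have h0 : Nat.card A ≠ 0 := Nat.card_pos.ne'
  omega

theorem two_le_oa (ω : MulAction.orbitRel.Quotient H ↥P.mem) : 2 ≤ P.oa ω :=
  P.two_le_card (ω.out).2

omit [Finite H] in
theorem card_dvd_card_normalizer (A : Subgroup H) :
    Nat.card A ∣ Nat.card (Subgroup.normalizer (A : Set H)) :=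
  Subgroup.card_dvd_of_le Subgroup.le_normalizer

theorem oa_dvd_on (ω : MulAction.orbitRel.Quotient H ↥P.mem) : P.oa ω ∣ P.on ω :=
  card_dvd_card_normalizer _

omit [Finite H] in
theorem normalizer_conj_smul (g : H) (A : Subgroup H) :
    Subgroup.normalizer ((MulAut.conj g • A : Subgroup H) : Set H) =
      MulAut.conj g • Subgroup.normalizer (A : Set H) := by
  ext x
  rw [mem_conj_smul, ← conj_smul_eq_self_iff, ← conj_smul_eq_self_iff]
  constructor
  · intro h
    have : MulAut.conj (g⁻¹ * x * g) • A = MulAut.conj g⁻¹ • (MulAut.conj x • (MulAut.conj g • A)) := by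
      rw [map_mul, map_mul, mul_smul, mul_smul]
    rw [this, h, ← mul_smul, ← map_mul, inv_mul_cancel, map_one, one_smul]
  · intro h
    have : MulAut.conj x • (MulAut.conj g • A) =
        MulAut.conj g • (MulAut.conj (g⁻¹ * x * g) • A) := by
      rw [← mul_smul, ← mul_smul, ← map_mul, ← map_mul]
      congr 2
      group
    rw [this, h]

omit [Finite H] in
theorem card_normalizer_conj_smul (g : H) (A : Subgroup H) :
    Nat.card (Subgroup.normalizer ((MulAut.conj g • A : Subgroup H) : Set H)) =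
      Nat.card (Subgroup.normalizer (A : Set H)) := by
  rw [normalizer_conj_smul, card_conj_smul]

/-- the orbit of a member -/
def orb (A : ↥P.mem) : MulAction.orbitRel.Quotient H ↥P.mem := Quotient.mk'' A

omit [Finite H] in
theorem exists_out_eq (A : ↥P.mem) : ∃ g : H, ((P.orb A).out).1 = MulAut.conj g • A.1 := by
  have h : (P.orb A).out ∈ MulAction.orbit H A := by
    rw [← MulAction.orbitRel_apply]
    exact Quotient.exact' (Quotient.out_eq' (P.orb A))
  obtain ⟨g, hg⟩ := h
  exact ⟨g, by rw [← hg]; rfl⟩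

omit [Finite H] in
theorem oa_orb (A : ↥P.mem) : P.oa (P.orb A) = Nat.card A.1 := by
  obtain ⟨g, hg⟩ := P.exists_out_eq A
  unfold oa
  rw [hg, card_conj_smul]

omit [Finite H] in
theorem on_orb (A : ↥P.mem) : P.on (P.orb A) = Nat.card (Subgroup.normalizer (A.1 : Set H)) := by
  obtain ⟨g, hg⟩ := P.exists_out_eq A
  unfold on
  rw [hg, card_normalizer_conj_smul]

omit [Finite H] in
theorem orb_eq_iff (A B : ↥P.mem) : P.orb A = P.orb B ↔ ∃ g : H, A.1 = MulAut.conj g • B.1 := by
  unfold orb
  rw [Quotient.eq'']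
  change A ∈ MulAction.orbit H B ↔ _
  constructor
  · rintro ⟨g, hg⟩
    exact ⟨g, by rw [← hg]; rfl⟩
  · rintro ⟨g, hg⟩
    exact ⟨g, Subtype.ext hg.symm⟩

end Part

end Cfsg.Agent.Lib.Helper15.Dk
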