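import Mathlib
import Cfsg.Agent.Lib.Helper15.Dk1

/-!
# Dickson project, part 2: the numerical analysis of the class equation when all members are
cyclic-like, i.e. `|N(A)| ≤ 2 |A|` for all members (`Part.thmI_num`).
-/

set_option autoImplicit false

open scoped Pointwise

namespace Cfsg.Agent.Lib.Helper15.Dk

/-- contribution bound -/
theorem contrib_ge (h i a n : ℕ) (hin : i * n = h) (ha : 2 ≤ a) (hn : n = a ∨ n = 2 * a) :
    h ≤ 4 * (i * (a - 1)) := by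
  obtain ⟨b, rfl⟩ := Nat.exists_eq_add_of_le ha
  have e : 2 + b - 1 = b + 1 := by omega
  rw [e]
  rcases hn with rfl | rfl <;> subst hin <;> nlinarith

theorem contrib_ge_one (h i a n : ℕ) (hin : i * n = h) (ha : 2 ≤ a) (hn : n = a) :
    h ≤ 2 * (i * (a - 1)) := by
  obtain ⟨b, rfl⟩ := Nat.exists_eq_add_of_le ha
  have e : 2 + b - 1 = b + 1 := by omega
  rw [e]
  subst hn; subst hin; nlinarith

/-- one orbit -/
theorem num1 (h i a n : ℕ) (hh : 1 ≤ h) (hin : i * n = h) (ha : 2 ≤ a) (hn : n = a ∨ n = 2 * a)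
    (heq : h - 1 = i * (a - 1)) : i = 1 ∧ n = a := by
  obtain ⟨b, rfl⟩ := Nat.exists_eq_add_of_le ha
  have e : 2 + b - 1 = b + 1 := by omega
  rw [e] at heq
  have hi : 1 ≤ i := by
    rcases Nat.eq_zero_or_pos i with h0 | h0
    · subst h0; simp at hin; omega
    · exact h0
  rcases hn with rfl | rfl
  · refine ⟨?_, rfl⟩
    subst hin
    have h2 : i * (2 + b) = i * (b + 1) + i := by ring
    omega
  · exfalso
    subst hin
    have h2 : i * (2 * (2 + b)) = 2 * (i * (b + 1)) + 2 * i := by ring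
    have h4 : 1 ≤ i * (b + 1) := by nlinarith
    omega

theorem num_mixed (h i j b c : ℕ) (hh : 1 ≤ h) (e1 : i * (2 + b) = h)
    (e2 : j * (2 * (2 + c)) = h) (e3 : h - 1 = i * (b + 1) + j * (c + 1)) :
    (b = 0 ∧ j = 1) ∨ (h = 12 ∧ b = 1) := by
  have e4 : i * (2 + b) = i * (b + 1) + i := by ring
  have e5 : j * (2 * (2 + c)) = 2 * (j * (c + 1)) + 2 * j := by ring
  have hY : j ≤ j * (c + 1) := Nat.le_mul_of_pos_right j (by omega)
  generalize hX : i * (b + 1) = X at *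
  generalize hYd : j * (c + 1) = Y at *
  have hi : i = Y + 1 := by omega
  subst hi
  rcases Nat.lt_or_ge b 2 with hb | hb
  · interval_cases b
    · left
      refine ⟨rfl, ?_⟩
      omega
    · right
      refine ⟨?_, rfl⟩
      have hX2 : X = 2 * Y + 2 := by omega
      have hY2 : Y + 3 = 2 * j := by omega
      have hc : c = 0 := by
        by_contra hc
        have : 1 ≤ c := Nat.one_le_iff_ne_zero.mpr hc
        have : 2 * j ≤ j * (c + 1) := by nlinarith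
        omega
      subst hc
      omega
  · exfalso
    have : 3 * (Y + 1) ≤ (Y + 1) * (b + 1) := by nlinarith
    omega

/-- two orbits -/
theorem num2 (h i₁ a₁ n₁ i₂ a₂ n₂ : ℕ) (hh : 1 ≤ h) (h1 : i₁ * n₁ = h) (h2 : i₂ * n₂ = h)
    (ha₁ : 2 ≤ a₁) (ha₂ : 2 ≤ a₂)
    (hn₁ : n₁ = a₁ ∨ n₁ = 2 * a₁) (hn₂ : n₂ = a₂ ∨ n₂ = 2 * a₂)
    (heq : h - 1 = i₁ * (a₁ - 1) + i₂ * (a₂ - 1)) :
    (a₁ = 2 ∧ n₁ = 2 ∧ i₂ = 1 ∧ n₂ = 2 * a₂) ∨ (a₂ = 2 ∧ n₂ = 2 ∧ i₁ = 1 ∧ n₁ = 2 * a₁) ∨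
    (h = 12 ∧ a₁ = 3 ∧ n₁ = 3) ∨ (h = 12 ∧ a₂ = 3 ∧ n₂ = 3) := by
  obtain ⟨b₁, rfl⟩ := Nat.exists_eq_add_of_le ha₁
  obtain ⟨b₂, rfl⟩ := Nat.exists_eq_add_of_le ha₂
  have e1 : 2 + b₁ - 1 = b₁ + 1 := by omega
  have e2 : 2 + b₂ - 1 = b₂ + 1 := by omega
  rw [e1, e2] at heq
  rcases hn₁ with rfl | rfl <;> rcases hn₂ with rfl | rfl
  · exfalso
    have e4 : i₁ * (2 + b₁) = i₁ * (b₁ + 1) + i₁ := by ring
    have e5 : i₂ * (2 + b₂) = i₂ * (b₂ + 1) + i₂ := by ring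
    have : 2 * i₁ ≤ h := by nlinarith
    have : 2 * i₂ ≤ h := by nlinarith
    omega
  · rcases num_mixed h i₁ i₂ b₁ b₂ hh h1 h2 heq with ⟨hb, hj⟩ | ⟨h12, hb⟩
    · left; subst hb; exact ⟨rfl, rfl, hj, rfl⟩
    · right; right; left; subst hb; exact ⟨h12, rfl, rfl⟩
  · rcases num_mixed h i₂ i₁ b₂ b₁ hh h2 h1 (by rw [heq]; ring) with ⟨hb, hj⟩ | ⟨h12, hb⟩
    · right; left; subst hb; exact ⟨rfl, rfl, hj, rfl⟩
    · right; right; right; subst hb; exact ⟨h12, rfl, rfl⟩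
  · exfalso
    have e4 : i₁ * (2 * (2 + b₁)) = 2 * (i₁ * (b₁ + 1)) + 2 * i₁ := by ring
    have e5 : i₂ * (2 * (2 + b₂)) = 2 * (i₂ * (b₂ + 1)) + 2 * i₂ := by ring
    have hi1 : 1 ≤ i₁ := by
      rcases Nat.eq_zero_or_pos i₁ with h0 | h0
      · subst h0; simp at h1; omega
      · exact h0
    have hi2 : 1 ≤ i₂ := by
      rcases Nat.eq_zero_or_pos i₂ with h0 | h0
      · subst h0; simp at h2; omega
      · exact h0
    omega

theorem num3 (m i₁ i₂ i₃ a₁ a₂ a₃ : ℕ) (h1 : i₁ * a₁ = m) (h2 : i₂ * a₂ = m)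
    (h3 : i₃ * a₃ = m) (ha₁ : 2 ≤ a₁) (h12 : a₁ ≤ a₂) (h23 : a₂ ≤ a₃)
    (hs : i₁ + i₂ + i₃ = m + 1) :
    (a₁ = 2 ∧ a₂ = 2 ∧ i₃ = 1) ∨ (m = 6 ∧ a₁ = 2 ∧ a₂ = 3 ∧ a₃ = 3) ∨
    (m = 12 ∧ a₁ = 2 ∧ a₂ = 3 ∧ a₃ = 4) ∨ (m = 30 ∧ a₁ = 2 ∧ a₂ = 3 ∧ a₃ = 5) := by
  have ha1 : a₁ = 2 := by
    by_contra hne
    have h3a : 3 ≤ a₁ := by omega
    have : i₁ * 3 ≤ m := by rw [← h1]; exact Nat.mul_le_mul_left _ h3a
    have : i₂ * 3 ≤ m := by rw [← h2]; exact Nat.mul_le_mul_left _ (by omega)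
    have : i₃ * 3 ≤ m := by rw [← h3]; exact Nat.mul_le_mul_left _ (by omega)
    omega
  subst ha1
  have ha2 : a₂ = 2 ∨ a₂ = 3 := by
    by_contra hne
    have h4a : 4 ≤ a₂ := by omega
    have : i₂ * 4 ≤ m := by rw [← h2]; exact Nat.mul_le_mul_left _ h4a
    have : i₃ * 4 ≤ m := by rw [← h3]; exact Nat.mul_le_mul_left _ (by omega)
    omega
  rcases ha2 with rfl | rfl
  · left
    refine ⟨rfl, rfl, ?_⟩
    omega
  · right
    have ha3 : a₃ = 3 ∨ a₃ = 4 ∨ a₃ = 5 := by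
      by_contra hne
      have h6a : 6 ≤ a₃ := by omega
      have : i₃ * 6 ≤ m := by rw [← h3]; exact Nat.mul_le_mul_left _ h6a
      omega
    rcases ha3 with rfl | rfl | rfl
    · left; refine ⟨?_, rfl, rfl, rfl⟩; omega
    · right; left; refine ⟨?_, rfl, rfl, rfl⟩; omega
    · right; right; refine ⟨?_, rfl, rfl, rfl⟩; omega

theorem exists_sorted_three {α : Type*} [DecidableEq α] (a : α → ℕ) (x y z : α)
    (hxy : x ≠ y) (hxz : x ≠ z) (hyz : y ≠ z) :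
    ∃ x' y' z' : α, x' ≠ y' ∧ x' ≠ z' ∧ y' ≠ z' ∧ ({x', y', z'} : Finset α) = {x, y, z} ∧
      a x' ≤ a y' ∧ a y' ≤ a z' := by
  rcases le_total (a x) (a y) with h1 | h1 <;> rcases le_total (a y) (a z) with h2 | h2 <;>
    rcases le_total (a x) (a z) with h3 | h3
  · exact ⟨x, y, z, hxy, hxz, hyz, rfl, h1, h2⟩
  · exact ⟨x, y, z, hxy, hxz, hyz, rfl, h1, h2⟩
  · exact ⟨x, z, y, hxz, hxy, hyz.symm, by ext; simp; tauto, h3, h2⟩
  · exact ⟨z, x, y, hxz.symm, hyz.symm, hxy, by ext; simp; tauto, h3, h1⟩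
  · exact ⟨y, x, z, hxy.symm, hyz, hxz, by ext; simp; tauto, h1, h3⟩
  · exact ⟨y, z, x, hyz, hxy.symm, hxz.symm, by ext; simp; tauto, h2, h3⟩
  · exact ⟨z, y, x, hyz.symm, hxz.symm, hxy.symm, by ext; simp; tauto, h2, h1⟩
  · exact ⟨z, y, x, hyz.symm, hxz.symm, hxy.symm, by ext; simp; tauto, h2, h1⟩

namespace Part
variable {H : Type*} [Group H] [Finite H] (P : Part H)

theorem on_cases (hN : ∀ A ∈ P.mem, Nat.card (Subgroup.normalizer (A : Set H)) ≤ 2 * Nat.card A)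
    (ω : MulAction.orbitRel.Quotient H ↥P.mem) : P.on ω = P.oa ω ∨ P.on ω = 2 * P.oa ω := by
  obtain ⟨c, hc⟩ := P.oa_dvd_on ω
  have h1 : P.on ω ≤ 2 * P.oa ω := hN _ (ω.out).2
  have h2 := P.two_le_oa ω
  have hpos : 0 < P.on ω := Nat.card_pos
  rw [hc] at h1 hpos ⊢
  have hc2 : c ≤ 2 := by
    by_contra hc3
    have : 3 ≤ c := by omega
    nlinarith
  have hc0 : c ≠ 0 := by rintro rfl; simp at hpos
  have hc12 : c = 1 ∨ c = 2 := by omega
  rcases hc12 with rfl | rfl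
  · left; ring
  · right; ring

/-- the numerical classification when `|N(A)| ≤ 2 |A|` for all members -/
theorem thmI_num
    (hN : ∀ A ∈ P.mem, Nat.card (Subgroup.normalizer (A : Set H)) ≤ 2 * Nat.card A) :
    Nat.card H = 1 ∨
    (∃ ω : MulAction.orbitRel.Quotient H ↥P.mem, P.oa ω = Nat.card H) ∨
    (∃ ω : MulAction.orbitRel.Quotient H ↥P.mem, P.oi ω = 1 ∧ 2 * P.oa ω = Nat.card H ∧
      ∀ ω', ω' ≠ ω → P.oa ω' = 2) ∨
    (Nat.card H = 12 ∧ ∃ ω : MulAction.orbitRel.Quotient H ↥P.mem, P.oa ω = 3 ∧ P.on ω = 3) ∨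
    (Nat.card H = 12 ∧ ∃ ω ω' : MulAction.orbitRel.Quotient H ↥P.mem, ω ≠ ω' ∧ P.oa ω = 3 ∧
      P.oa ω' = 3) ∨
    (Nat.card H = 24 ∧ ∃ ω₁ ω₂ ω₃ : MulAction.orbitRel.Quotient H ↥P.mem,
      (∀ ω, ω = ω₁ ∨ ω = ω₂ ∨ ω = ω₃) ∧
      ω₁ ≠ ω₂ ∧ ω₁ ≠ ω₃ ∧ ω₂ ≠ ω₃ ∧ P.oa ω₁ = 2 ∧ P.oa ω₂ = 3 ∧ P.oa ω₃ = 4 ∧
      P.on ω₁ = 4 ∧ P.on ω₂ = 6 ∧ P.on ω₃ = 8) ∨
    (Nat.card H = 60 ∧ ∃ ω₁ ω₂ ω₃ : MulAction.orbitRel.Quotient H ↥P.mem,
      (∀ ω, ω = ω₁ ∨ ω = ω₂ ∨ ω = ω₃) ∧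
      ω₁ ≠ ω₂ ∧ ω₁ ≠ ω₃ ∧ ω₂ ≠ ω₃ ∧ P.oa ω₁ = 2 ∧ P.oa ω₂ = 3 ∧ P.oa ω₃ = 5 ∧
      P.on ω₁ = 4 ∧ P.on ω₂ = 6 ∧ P.on ω₃ = 10) := by
  classical
  have hh : 1 ≤ Nat.card H := Nat.card_pos
  have hcl := P.class_equation'
  have hcb : ∀ ω, Nat.card H ≤ 4 * (P.oi ω * (P.oa ω - 1)) := fun ω =>
    contrib_ge _ _ _ _ (P.oi_mul_on ω) (P.two_le_oa ω) (P.on_cases hN ω)
  have hcard : Fintype.card (MulAction.orbitRel.Quotient H ↥P.mem) ≤ 3 := by
    by_contra hc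
    have h4 : 4 ≤ Fintype.card (MulAction.orbitRel.Quotient H ↥P.mem) := by omega
    have h5 : Fintype.card (MulAction.orbitRel.Quotient H ↥P.mem) * Nat.card H ≤
        ∑ ω : MulAction.orbitRel.Quotient H ↥P.mem, 4 * (P.oi ω * (P.oa ω - 1)) := by
      rw [← Finset.card_univ, ← smul_eq_mul]
      exact Finset.card_nsmul_le_sum _ _ _ (fun ω _ => hcb ω)
    rw [← Finset.mul_sum, ← hcl] at h5
    have h6 : 4 * Nat.card H ≤ Fintype.card (MulAction.orbitRel.Quotient H ↥P.mem) * Nat.card H :=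
      Nat.mul_le_mul_right _ h4
    omega
  rcases Nat.lt_or_ge (Fintype.card (MulAction.orbitRel.Quotient H ↥P.mem)) 1 with h0 | h1
  · -- no orbits
    left
    have : IsEmpty (MulAction.orbitRel.Quotient H ↥P.mem) := by
      rw [← Fintype.card_eq_zero_iff]; omega
    rw [Finset.univ_eq_empty, Finset.sum_empty] at hcl
    omega
  rcases Nat.lt_or_ge (Fintype.card (MulAction.orbitRel.Quotient H ↥P.mem)) 2 with h0 | h2
  · -- one orbit
    right; left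
    have h1' : Fintype.card (MulAction.orbitRel.Quotient H ↥P.mem) = 1 := by omega
    obtain ⟨ω, hω⟩ := Fintype.card_eq_one_iff.mp h1'
    have hu : (Finset.univ : Finset (MulAction.orbitRel.Quotient H ↥P.mem)) = {ω} := by
      ext x; simp [hω x]
    rw [hu, Finset.sum_singleton] at hcl
    obtain ⟨hi, hn⟩ := num1 _ _ _ _ hh (P.oi_mul_on ω) (P.two_le_oa ω) (P.on_cases hN ω) hcl
    refine ⟨ω, ?_⟩
    have := P.oi_mul_on ω
    rw [hi, one_mul, hn] at this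
    exact this
  rcases Nat.lt_or_ge (Fintype.card (MulAction.orbitRel.Quotient H ↥P.mem)) 3 with h0 | h3
  · -- two orbits
    have h2' : (Finset.univ : Finset (MulAction.orbitRel.Quotient H ↥P.mem)).card = 2 := by
      rw [Finset.card_univ]; omega
    obtain ⟨x, y, hxy, hu⟩ := Finset.card_eq_two.mp h2'
    rw [hu, Finset.sum_pair hxy] at hcl
    have hall : ∀ ω, ω = x ∨ ω = y := by
      intro ω
      have : ω ∈ ({x, y} : Finset _) := by rw [← hu]; exact Finset.mem_univ _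
      simpa using this
    rcases num2 _ _ _ _ _ _ _ hh (P.oi_mul_on x) (P.oi_mul_on y) (P.two_le_oa x) (P.two_le_oa y)
      (P.on_cases hN x) (P.on_cases hN y) hcl with ⟨ha, -, hi, hn⟩ | ⟨ha, -, hi, hn⟩ | ⟨h12, ha, hn⟩ |
      ⟨h12, ha, hn⟩
    · right; right; left
      refine ⟨y, hi, ?_, ?_⟩
      · have := P.oi_mul_on y
        rw [hi, one_mul, hn] at this
        exact this
      · intro ω' hω'
        rcases hall ω' with rfl | rfl
        · exact ha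
        · exact absurd rfl hω'
    · right; right; left
      refine ⟨x, hi, ?_, ?_⟩
      · have := P.oi_mul_on x
        rw [hi, one_mul, hn] at this
        exact this
      · intro ω' hω'
        rcases hall ω' with rfl | rfl
        · exact absurd rfl hω'
        · exact ha
    · right; right; right; left
      exact ⟨h12, x, ha, hn⟩
    · right; right; right; left
      exact ⟨h12, y, ha, hn⟩
  · -- three orbits
    have h3' : (Finset.univ : Finset (MulAction.orbitRel.Quotient H ↥P.mem)).card = 3 := by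
      rw [Finset.card_univ]; omega
    obtain ⟨x₀, y₀, z₀, hxy₀, hxz₀, hyz₀, hu₀⟩ := Finset.card_eq_three.mp h3'
    obtain ⟨x, y, z, hxy, hxz, hyz, hset, hle1, hle2⟩ :=
      exists_sorted_three P.oa x₀ y₀ z₀ hxy₀ hxz₀ hyz₀
    have hu : (Finset.univ : Finset (MulAction.orbitRel.Quotient H ↥P.mem)) = {x, y, z} := by
      rw [hu₀, hset]
    have hall : ∀ ω, ω = x ∨ ω = y ∨ ω = z := by
      intro ω
      have : ω ∈ ({x, y, z} : Finset _) := by rw [← hu]; exact Finset.mem_univ _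
      simpa using this
    have hsum : Nat.card H - 1 = P.oi x * (P.oa x - 1) + P.oi y * (P.oa y - 1) +
        P.oi z * (P.oa z - 1) := by
      rw [hcl, hu, Finset.sum_insert (by simp [hxy, hxz]), Finset.sum_pair hyz, add_assoc]
    -- all normalizers have index two
    have hf : ∀ ω, P.on ω = 2 * P.oa ω := by
      intro ω
      rcases P.on_cases hN ω with h | h
      · exfalso
        have hb := contrib_ge_one _ _ _ _ (P.oi_mul_on ω) (P.two_le_oa ω) h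
        have hx := hcb x
        have hy := hcb y
        have hz := hcb z
        rcases hall ω with rfl | rfl | rfl <;> omega
      · exact h
    -- the common value `m`
    have hm : ∀ ω, 2 * (P.oi ω * P.oa ω) = Nat.card H := by
      intro ω
      have := P.oi_mul_on ω
      rw [hf ω] at this
      rw [← this]; ring
    have hcx : ∀ ω, P.oi ω * (P.oa ω - 1) + P.oi ω = P.oi ω * P.oa ω := by
      intro ω
      have := P.two_le_oa ω
      obtain ⟨b, hb⟩ := Nat.exists_eq_add_of_le this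
      rw [hb]
      have : 2 + b - 1 = b + 1 := by omega
      rw [this]; ring
    have hmx := hm x
    have hmy := hm y
    have hmz := hm z
    have hs : P.oi x + P.oi y + P.oi z = P.oi x * P.oa x + 1 := by
      have := hcx x
      have := hcx y
      have := hcx z
      omega
    have hyx : P.oi y * P.oa y = P.oi x * P.oa x := by omega
    have hzx : P.oi z * P.oa z = P.oi x * P.oa x := by omega
    rcases num3 _ _ _ _ _ _ _ rfl hyx hzx (P.two_le_oa x) hle1 hle2 hs with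
      ⟨ha1, ha2, hi3⟩ | ⟨hm6, ha1, ha2, ha3⟩ | ⟨hm12, ha1, ha2, ha3⟩ | ⟨hm30, ha1, ha2, ha3⟩
    · right; right; left
      refine ⟨z, hi3, ?_, ?_⟩
      · rw [← hmz, hi3, one_mul]
      · intro ω' hω'
        rcases hall ω' with rfl | rfl | rfl
        · exact ha1
        · exact ha2
        · exact absurd rfl hω'
    · right; right; right; right; left
      exact ⟨by omega, y, z, hyz, ha2, ha3⟩
    · right; right; right; right; right; left
      refine ⟨by omega, x, y, z, hall, hxy, hxz, hyz, ha1, ha2, ha3, ?_, ?_, ?_⟩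
      · rw [hf, ha1]
      · rw [hf, ha2]
      · rw [hf, ha3]
    · right; right; right; right; right; right
      refine ⟨by omega, x, y, z, hall, hxy, hxz, hyz, ha1, ha2, ha3, ?_, ?_, ?_⟩
      · rw [hf, ha1]
      · rw [hf, ha2]
      · rw [hf, ha3]

end Part

end Cfsg.Agent.Lib.Helper15.Dk
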