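import Mathlib
import Cfsg.Agent.Lib.Helper15.A4Data
set_option autoImplicit false
namespace Cfsg.Agent.Lib.Helper15

section s4rec

/-- a group of order `24` with a core-free subgroup of order `6` is `S₄` -/
theorem nonempty_mulEquiv_S4 {H : Type*} [Group H] (hH : Nat.card H = 24) (K : Subgroup H)
    (hK : Nat.card K = 6) (hcore : K.normalCore = ⊥) : Nonempty (H ≃* Equiv.Perm (Fin 4)) := by
  classical
  have hfin : Finite H := Nat.finite_of_card_ne_zero (by omega)
  have := Fintype.ofFinite (H ⧸ K)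
  have hker : (MulAction.toPermHom H (H ⧸ K)).ker = ⊥ := by
    rw [← Subgroup.normalCore_eq_ker, hcore]
  have hinj : Function.Injective (MulAction.toPermHom H (H ⧸ K)) :=
    (MonoidHom.ker_eq_bot_iff _).1 hker
  have hcardQ : Nat.card (H ⧸ K) = 4 := by
    have := Subgroup.card_eq_card_quotient_mul_card_subgroup K
    rw [hH, hK] at this
    omega
  have hcardP : Nat.card (Equiv.Perm (H ⧸ K)) = 24 := by
    rw [Nat.card_perm, hcardQ]
    decide
  have hbij : Function.Bijective (MulAction.toPermHom H (H ⧸ K)) := by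
    have : Finite (Equiv.Perm (H ⧸ K)) := inferInstance
    exact (Function.Injective.bijective_of_nat_card_le hinj (by rw [hcardP, hH]))
  have hcardQ' : Fintype.card (H ⧸ K) = 4 := by rw [← Nat.card_eq_fintype_card]; exact hcardQ
  exact ⟨(MulEquiv.ofBijective _ hbij).trans (Fintype.equivFinOfCardEq hcardQ').permCongrHom⟩

theorem mem_zpowers_three {G : Type*} [Group G] (h x : G) (hh : h ^ 3 = 1) (hx : x ∈ Subgroup.zpowers h) :
    x = 1 ∨ x = h ∨ x = h * h := by
  obtain ⟨k, rfl⟩ := Subgroup.mem_zpowers_iff.1 hx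
  have e : h ^ k = h ^ (k % 3) := by
    conv_lhs => rw [← Int.mul_ediv_add_emod k 3]
    rw [zpow_add, zpow_mul, zpow_ofNat, hh, one_zpow, one_mul]
  have h0 : 0 ≤ k % 3 := Int.emod_nonneg _ (by norm_num)
  have h3 : k % 3 < 3 := Int.emod_lt_of_pos _ (by norm_num)
  rw [e]
  obtain ⟨r, hr⟩ : ∃ r : ℕ, k % 3 = r := ⟨(k % 3).toNat, (Int.toNat_of_nonneg h0).symm⟩
  rw [hr, zpow_natCast]
  have hr3 : r < 3 := by omega
  interval_cases r
  · left; exact pow_zero h
  · right; left; exact pow_one h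
  · right; right; exact pow_two h

theorem mem_zpowers_two {G : Type*} [Group G] (s x : G) (hs : s * s = 1) (hx : x ∈ Subgroup.zpowers s) :
    x = 1 ∨ x = s := by
  obtain ⟨k, rfl⟩ := Subgroup.mem_zpowers_iff.1 hx
  have hs2 : s ^ 2 = 1 := by rw [pow_two, hs]
  have e : s ^ k = s ^ (k % 2) := by
    conv_lhs => rw [← Int.mul_ediv_add_emod k 2]
    rw [zpow_add, zpow_mul, zpow_ofNat, hs2, one_zpow, one_mul]
  have h0 : 0 ≤ k % 2 := Int.emod_nonneg _ (by norm_num)
  have h3 : k % 2 < 2 := Int.emod_lt_of_pos _ (by norm_num)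
  rw [e]
  obtain ⟨r, hr⟩ : ∃ r : ℕ, k % 2 = r := ⟨(k % 2).toNat, (Int.toNat_of_nonneg h0).symm⟩
  rw [hr, zpow_natCast]
  have hr3 : r < 2 := by omega
  interval_cases r
  · left; exact pow_zero s
  · right; exact pow_one s

/-- an element of finite order conjugating a subgroup into itself normalizes it -/
theorem mem_normalizer_of_pow_eq_one {G : Type*} [Group G] (V : Subgroup G) (x : G) (n : ℕ) (hn : 0 < n)
    (hx : x ^ n = 1) (hfwd : ∀ v ∈ V, x * v * x⁻¹ ∈ V) : x ∈ Subgroup.normalizer (V : Set G) := by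
  have hpow : ∀ k : ℕ, ∀ v ∈ V, x ^ k * v * (x ^ k)⁻¹ ∈ V := by
    intro k
    induction k with
    | zero => intro v hv; simpa using hv
    | succ k ih =>
      intro v hv
      have : x ^ (k + 1) * v * (x ^ (k + 1))⁻¹ = x * (x ^ k * v * (x ^ k)⁻¹) * x⁻¹ := by
        rw [pow_succ']; group
      rw [this]
      exact hfwd _ (ih v hv)
  have hinv : x⁻¹ = x ^ (n - 1) := by
    apply inv_eq_of_mul_eq_one_right
    rw [← pow_succ', Nat.sub_add_cancel hn, hx]
  rw [Subgroup.mem_normalizer_iff]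
  intro v
  refine ⟨hfwd v, fun hv => ?_⟩
  have := hpow (n - 1) _ hv
  rw [← hinv] at this
  have e : x⁻¹ * (x * v * x⁻¹) * x⁻¹⁻¹ = v := by group
  rw [e] at this
  exact this

end s4rec
end Cfsg.Agent.Lib.Helper15
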