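import Mathlib
import Cfsg.Agent.Lib.Helper15.Dk2
import Cfsg.Agent.Lib.Helper15.A4Rec
import Cfsg.Agent.Lib.Helper15.S4Rec
import Cfsg.Agent.Lib.Helper15.DihOrthPlus
import Cfsg.Agent.S0494

/-!
# Dickson project, part 3: groups partitioned by cyclic subgroups with small normalizers

`Part.thmI`: a finite group with a conjugation-invariant partition into cyclic subgroups `A` with
`|N(A)| ≤ 2 |A|` is cyclic, dihedral, or isomorphic to `A₄`, `S₄` or `A₅`.
-/

set_option autoImplicit false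

open scoped Pointwise

namespace Cfsg.Agent.Lib.Helper15.Dk

namespace Part
variable {H : Type*} [Group H] [Finite H] (P : Part H)

omit [Finite H] in
theorem conj_smul_inf_normal (g : H) (A N : Subgroup H) [N.Normal] :
    MulAut.conj g • (A ⊓ N) = (MulAut.conj g • A) ⊓ N := by
  rw [Subgroup.smul_inf]
  congr 1
  exact Subgroup.Normal.conj_smul_eq_self g N

/-- counting a normal subgroup through the orbits -/
theorem card_normal_sub_one (N : Subgroup H) [N.Normal] :
    Nat.card N - 1 = ∑ ω : MulAction.orbitRel.Quotient H ↥P.mem,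
      P.oi ω * (Nat.card ↥((ω.out).1 ⊓ N) - 1) := by
  rw [P.card_sub_one_eq_sum' N]
  apply P.sum_eq_sum_orbits (fun A => Nat.card ↥(A.1 ⊓ N) - 1)
  intro g A
  change Nat.card ↥((MulAut.conj g • A.1) ⊓ N) - 1 = _
  rw [← conj_smul_inf_normal, card_conj_smul]

theorem dihedral_like'
    (ω : MulAction.orbitRel.Quotient H ↥P.mem) (hcyc : IsCyclic (ω.out).1) (hi : P.oi ω = 1)
    (h2 : 2 * P.oa ω = Nat.card H) (hother : ∀ ω', ω' ≠ ω → P.oa ω' = 2) :
    Nonempty (H ≃* DihedralGroup (P.oa ω)) := by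
  set A := (ω.out).1 with hA
  have hAm : A ∈ P.mem := (ω.out).2
  -- `A` is normal
  have hnorm : A.Normal := by
    rw [← Subgroup.normalizer_eq_top_iff]
    apply Subgroup.eq_top_of_card_eq
    have := P.oi_mul_on ω
    rw [hi, one_mul] at this
    exact this
  have hout : ∀ g : H, g ∉ A → g * g = 1 := by
    intro g hg
    have hg1 : g ≠ 1 := fun h => hg (h ▸ A.one_mem)
    set B := P.of g hg1 with hB
    have hBm : B ∈ P.mem := P.of_mem g hg1
    have hne : P.orb ⟨B, hBm⟩ ≠ ω := by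
      intro h
      obtain ⟨c, hc⟩ := P.exists_out_eq ⟨B, hBm⟩
      rw [h] at hc
      change A = MulAut.conj c • B at hc
      have hBA : B = A := by
        have : MulAut.conj c⁻¹ • A = B := by
          rw [hc, ← mul_smul, ← map_mul, inv_mul_cancel, map_one, one_smul]
        rw [← this]
        exact Subgroup.Normal.conj_smul_eq_self _ A
      apply hg
      rw [← hBA]
      exact P.mem_of g hg1
    have hcard : Nat.card B = 2 := by
      rw [← P.oa_orb ⟨B, hBm⟩]
      exact hother _ hne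
    have hgB : g ∈ B := P.mem_of g hg1
    have := pow_card_eq_one' (G := ↥B) (x := ⟨g, hgB⟩)
    rw [hcard] at this
    have h3 := congrArg Subtype.val this
    simpa [pow_two] using h3
  have := hcyc
  obtain ⟨x, hx⟩ := IsCyclic.exists_generator (α := ↥A)
  have hox : orderOf (x : H) = P.oa ω := by
    rw [Subgroup.orderOf_coe, orderOf_eq_card_of_forall_mem_zpowers hx]
    rfl
  have hzp : Subgroup.zpowers (x : H) = A := by
    apply Subgroup.eq_of_le_of_card_ge
    · rw [Subgroup.zpowers_le]; exact x.2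
    · rw [Nat.card_zpowers, hox]
      exact le_of_eq rfl
  have hlt : A ≠ ⊤ := by
    intro h
    have : Nat.card A = Nat.card H := by rw [h, Subgroup.card_top]
    have h3 : P.oa ω = Nat.card H := this
    have := P.two_le_oa ω
    omega
  obtain ⟨a, ha⟩ : ∃ a : H, a ∉ A := by
    by_contra hcon
    push Not at hcon
    exact hlt (by rw [eq_top_iff]; intro g _; exact hcon g)
  have ha2 := hout a ha
  have hax : a * (x : H) ∉ A := by
    intro h
    apply ha
    have := A.mul_mem h (A.inv_mem x.2)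
    simpa using this
  have hax2 := hout _ hax
  have hinv : a * (x : H) * a⁻¹ = (x : H)⁻¹ := by
    have ha' : a⁻¹ = a := inv_eq_of_mul_eq_one_left ha2
    rw [ha']
    rw [eq_inv_iff_mul_eq_one]
    rw [← hax2]
    group
  have : NeZero (P.oa ω) := ⟨by have := P.two_le_oa ω; omega⟩
  exact Cfsg.Agent.Lib.Helper15.dihedral_of_card (P.oa ω) a (x : H) hox ha2 hinv (by rw [hzp]; exact ha)
    (by rw [← h2])

theorem dihedral_like (hcyc : ∀ A ∈ P.mem, IsCyclic A)
    (ω : MulAction.orbitRel.Quotient H ↥P.mem) (hi : P.oi ω = 1)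
    (h2 : 2 * P.oa ω = Nat.card H) (hother : ∀ ω', ω' ≠ ω → P.oa ω' = 2) :
    Nonempty (H ≃* DihedralGroup (P.oa ω)) :=
  P.dihedral_like' ω (hcyc _ (ω.out).2) hi h2 hother

/-- a group of order 60 with three orbits of members of orders 2, 3, 5 and normalizers of orders
  4, 6, 10 is `A₅` -/
theorem a5_of_orbits (h60 : Nat.card H = 60) (ω₁ ω₂ ω₃ : MulAction.orbitRel.Quotient H ↥P.mem)
    (hall : ∀ ω, ω = ω₁ ∨ ω = ω₂ ∨ ω = ω₃) (h12 : ω₁ ≠ ω₂) (h13 : ω₁ ≠ ω₃) (h23 : ω₂ ≠ ω₃)
    (ha1 : P.oa ω₁ = 2) (ha2 : P.oa ω₂ = 3) (ha3 : P.oa ω₃ = 5)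
    (hn1 : P.on ω₁ = 4) (hn2 : P.on ω₂ = 6) (hn3 : P.on ω₃ = 10) :
    Nonempty (H ≃* alternatingGroup (Fin 5)) := by
  classical
  have hu : (Finset.univ : Finset (MulAction.orbitRel.Quotient H ↥P.mem)) = {ω₁, ω₂, ω₃} := by
    ext ω; simp [hall ω]
  have hi1 : P.oi ω₁ = 15 := by
    have := P.oi_mul_on ω₁; rw [hn1, h60] at this; omega
  have hi2 : P.oi ω₂ = 10 := by
    have := P.oi_mul_on ω₂; rw [hn2, h60] at this; omega
  have hi3 : P.oi ω₃ = 6 := by
    have := P.oi_mul_on ω₃; rw [hn3, h60] at this; omega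
  have hsimple : IsSimpleGroup H := by
    have : Nontrivial H := by
      rw [← Finite.one_lt_card_iff_nontrivial, h60]; norm_num
    refine ⟨fun N hN => ?_⟩
    have hcount := P.card_normal_sub_one N
    rw [hu, Finset.sum_insert (by simp [h12, h13]), Finset.sum_pair h23, hi1, hi2, hi3] at hcount
    have hd : ∀ ω, Nat.card ↥((ω.out).1 ⊓ N) ∣ P.oa ω := fun ω =>
      Subgroup.card_dvd_of_le inf_le_left
    have hd1 := hd ω₁
    have hd2 := hd ω₂
    have hd3 := hd ω₃
    rw [ha1] at hd1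
    rw [ha2] at hd2
    rw [ha3] at hd3
    have hx1 : Nat.card ↥((ω₁.out).1 ⊓ N) = 1 ∨ Nat.card ↥((ω₁.out).1 ⊓ N) = 2 :=
      (Nat.dvd_prime Nat.prime_two).mp hd1
    have hx2 : Nat.card ↥((ω₂.out).1 ⊓ N) = 1 ∨ Nat.card ↥((ω₂.out).1 ⊓ N) = 3 :=
      (Nat.dvd_prime Nat.prime_three).mp hd2
    have hx3 : Nat.card ↥((ω₃.out).1 ⊓ N) = 1 ∨ Nat.card ↥((ω₃.out).1 ⊓ N) = 5 :=
      (Nat.dvd_prime Nat.prime_five).mp hd3
    have hN60 : Nat.card N ∣ 60 := by
      rw [← h60]; exact Subgroup.card_subgroup_dvd_card N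
    have hNpos : 0 < Nat.card N := Nat.card_pos
    have hcases : Nat.card N = 1 ∨ Nat.card N = 60 := by
      rcases hx1 with e1 | e1 <;> rcases hx2 with e2 | e2 <;> rcases hx3 with e3 | e3 <;>
        rw [e1, e2, e3] at hcount <;> norm_num at hcount
      · left; omega
      · exfalso
        have : Nat.card N = 25 := by omega
        rw [this] at hN60; norm_num at hN60
      · exfalso
        have : Nat.card N = 21 := by omega
        rw [this] at hN60; norm_num at hN60
      · exfalso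
        have : Nat.card N = 45 := by omega
        rw [this] at hN60; norm_num at hN60
      · exfalso
        have : Nat.card N = 16 := by omega
        rw [this] at hN60; norm_num at hN60
      · exfalso
        have : Nat.card N = 40 := by omega
        rw [this] at hN60; norm_num at hN60
      · exfalso
        have : Nat.card N = 36 := by omega
        rw [this] at hN60; norm_num at hN60
      · right; omega
    rcases hcases with h | h
    · left; exact Subgroup.card_eq_one.mp h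
    · right; exact Subgroup.eq_top_of_card_eq _ (by rw [h, h60])
  exact Cfsg.Agent.S0494.result h60

/-- **Theorem I**: a finite group with a conjugation-invariant partition into cyclic subgroups `A`
  with `|N(A)| ≤ 2 |A|` is cyclic, dihedral, or isomorphic to `A₄`, `S₄` or `A₅`. -/
theorem thmI (hcyc : ∀ A ∈ P.mem, IsCyclic A)
    (hN : ∀ A ∈ P.mem, Nat.card (Subgroup.normalizer (A : Set H)) ≤ 2 * Nat.card A) :
    Nat.card H = 1 ∨ (∃ A ∈ P.mem, A = ⊤) ∨
    (∃ A ∈ P.mem, 2 * Nat.card A = Nat.card H ∧ Nonempty (H ≃* DihedralGroup (Nat.card A))) ∨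
    Nonempty (H ≃* alternatingGroup (Fin 4)) ∨ Nonempty (H ≃* Equiv.Perm (Fin 4)) ∨
    Nonempty (H ≃* alternatingGroup (Fin 5)) := by
  classical
  rcases P.thmI_num hN with h1 | ⟨ω, hω⟩ | ⟨ω, hi, h2, hother⟩ | ⟨h12, ω, ha, hn⟩ |
    ⟨h12, ω, ω', hne, ha, ha'⟩ | ⟨h24, ω₁, ω₂, ω₃, hall, h12, h13, h23, ha1, ha2, ha3, hn1, hn2, hn3⟩ |
    ⟨h60, ω₁, ω₂, ω₃, hall, h12, h13, h23, ha1, ha2, ha3, hn1, hn2, hn3⟩
  · exact Or.inl h1
  · right; left
    exact ⟨(ω.out).1, (ω.out).2, Subgroup.eq_top_of_card_eq _ hω⟩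
  · right; right; left
    exact ⟨(ω.out).1, (ω.out).2, h2, P.dihedral_like hcyc ω hi h2 hother⟩
  · right; right; right; left
    apply Cfsg.Agent.Lib.Helper15.nonempty_mulEquiv_A4 h12 (ω.out).1 ha
    intro hnorm
    have : Subgroup.normalizer (((ω.out).1 : Subgroup H) : Set H) = ⊤ :=
      Subgroup.normalizer_eq_top_iff.mpr hnorm
    have h3 : P.on ω = Nat.card H := by
      unfold on
      rw [this, Subgroup.card_top]
    omega
  · -- two classes of subgroups of order three in a group of order twelve: impossible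
    exfalso
    have : Fact (Nat.Prime 3) := ⟨by norm_num⟩
    have hfac : (Nat.card H).factorization 3 = 1 := by
      rw [h12]
      have : (12 : ℕ) = 3 * 4 := by norm_num
      rw [this, Nat.factorization_mul (by norm_num) (by norm_num), Finsupp.add_apply,
        Nat.Prime.factorization_self (by norm_num),
        Nat.factorization_eq_zero_of_not_dvd (by norm_num : ¬ 3 ∣ 4)]
    let S : Sylow 3 H := Sylow.ofCard (ω.out).1 (by rw [hfac, pow_one]; exact ha)
    let S' : Sylow 3 H := Sylow.ofCard (ω'.out).1 (by rw [hfac, pow_one]; exact ha')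
    obtain ⟨g, hg⟩ := MulAction.exists_smul_eq H S S'
    apply hne
    have h1 : P.orb ω.out = P.orb ω'.out := by
      rw [orb_eq_iff]
      refine ⟨g⁻¹, ?_⟩
      have h2 : ((g • S : Sylow 3 H) : Subgroup H) = (S' : Subgroup H) := by rw [hg]
      rw [Sylow.coe_subgroup_smul] at h2
      change MulAut.conj g • (ω.out).1 = (ω'.out).1 at h2
      rw [← h2, ← mul_smul, ← map_mul, inv_mul_cancel, map_one, one_smul]
    unfold orb at h1
    rwa [Quotient.out_eq', Quotient.out_eq'] at h1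
  · -- order 24
    right; right; right; right; left
    have hu : (Finset.univ : Finset (MulAction.orbitRel.Quotient H ↥P.mem)) = {ω₁, ω₂, ω₃} := by
      ext ω; simp [hall ω]
    have hi1 : P.oi ω₁ = 6 := by
      have := P.oi_mul_on ω₁; rw [hn1, h24] at this; omega
    have hi2 : P.oi ω₂ = 4 := by
      have := P.oi_mul_on ω₂; rw [hn2, h24] at this; omega
    have hi3 : P.oi ω₃ = 3 := by
      have := P.oi_mul_on ω₃; rw [hn3, h24] at this; omega
    apply Cfsg.Agent.Lib.Helper15.nonempty_mulEquiv_S4 h24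
      (Subgroup.normalizer (((ω₂.out).1 : Subgroup H) : Set H)) hn2
    set C := (Subgroup.normalizer (((ω₂.out).1 : Subgroup H) : Set H)).normalCore with hC
    have hCn : C.Normal := Subgroup.normalCore_normal _
    have hcount := P.card_normal_sub_one C
    rw [hu, Finset.sum_insert (by simp [h12, h13]), Finset.sum_pair h23, hi1, hi2, hi3] at hcount
    have hd : ∀ ω, Nat.card ↥((ω.out).1 ⊓ C) ∣ P.oa ω := fun ω =>
      Subgroup.card_dvd_of_le inf_le_left
    have hd1 := hd ω₁
    have hd2 := hd ω₂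
    have hd3 := hd ω₃
    rw [ha1] at hd1
    rw [ha2] at hd2
    rw [ha3] at hd3
    have hC6 : Nat.card C ∣ 6 := by
      rw [← hn2]
      exact Subgroup.card_dvd_of_le (Subgroup.normalCore_le _)
    have hCpos : 0 < Nat.card C := Nat.card_pos
    have hp1 : 0 < Nat.card ↥((ω₁.out).1 ⊓ C) := Nat.card_pos
    have hp2 : 0 < Nat.card ↥((ω₂.out).1 ⊓ C) := Nat.card_pos
    have hp3 : 0 < Nat.card ↥((ω₃.out).1 ⊓ C) := Nat.card_pos
    have hC6' : Nat.card C = 1 ∨ Nat.card C = 2 ∨ Nat.card C = 3 ∨ Nat.card C = 6 := by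
      have : Nat.card C ∈ Nat.divisors 6 := Nat.mem_divisors.mpr ⟨hC6, by norm_num⟩
      have h6 : (6 : ℕ).divisors = {1, 2, 3, 6} := by decide
      rw [h6] at this
      simpa using this
    have hy1 : Nat.card ↥((ω₁.out).1 ⊓ C) = 1 ∨ Nat.card ↥((ω₁.out).1 ⊓ C) = 2 :=
      (Nat.dvd_prime Nat.prime_two).mp hd1
    have hy2 : Nat.card ↥((ω₂.out).1 ⊓ C) = 1 ∨ Nat.card ↥((ω₂.out).1 ⊓ C) = 3 :=
      (Nat.dvd_prime Nat.prime_three).mp hd2
    have hy3 : Nat.card ↥((ω₃.out).1 ⊓ C) = 1 ∨ Nat.card ↥((ω₃.out).1 ⊓ C) = 2 ∨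
        Nat.card ↥((ω₃.out).1 ⊓ C) = 4 := by
      have : Nat.card ↥((ω₃.out).1 ⊓ C) ∈ Nat.divisors 4 := Nat.mem_divisors.mpr ⟨hd3, by norm_num⟩
      have h4 : (4 : ℕ).divisors = {1, 2, 4} := by decide
      rw [h4] at this
      simpa using this
    have hx1 : Nat.card ↥((ω₁.out).1 ⊓ C) = 1 := by omega
    have hx2 : Nat.card ↥((ω₂.out).1 ⊓ C) = 1 := by omega
    have hx3 : Nat.card ↥((ω₃.out).1 ⊓ C) = 1 := by omega
    rw [hx1, hx2, hx3] at hcount
    apply Subgroup.card_eq_one.mp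
    omega
  · -- order 60
    right; right; right; right; right
    exact P.a5_of_orbits h60 ω₁ ω₂ ω₃ hall h12 h13 h23 ha1 ha2 ha3 hn1 hn2 hn3

end Part

end Cfsg.Agent.Lib.Helper15.Dk
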