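import Mathlib
import Cfsg.Agent.Lib.Helper15.Dk3

/-!
# Dickson project, part 4: the local structure at a non-normal Sylow member (`Part.thmIII`)
-/

set_option autoImplicit false

open scoped Pointwise

namespace Cfsg.Agent.Lib.Helper15.Dk

/-- a free action of a finite group on a finite set: the order divides the size -/
theorem card_dvd_of_free {G X : Type*} [Group G] [Finite G] [MulAction G X] [Finite X]
    (hfree : ∀ (g : G) (x : X), g • x = x → g = 1) : Nat.card G ∣ Nat.card X := by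
  classical
  have := Fintype.ofFinite G
  have := Fintype.ofFinite X
  have : ∀ g : G, Fintype (MulAction.fixedBy X g) := fun g => Fintype.ofFinite _
  have := Fintype.ofFinite (MulAction.orbitRel.Quotient G X)
  have hB := MulAction.sum_card_fixedBy_eq_card_orbits_mul_card_group G X
  have h1 : ∀ g : G, g ≠ 1 → Fintype.card (MulAction.fixedBy X g) = 0 := by
    intro g hg
    rw [Fintype.card_eq_zero_iff]
    exact ⟨fun x => hg (hfree g x.1 x.2)⟩
  have h0 : Fintype.card (MulAction.fixedBy X (1 : G)) = Fintype.card X := by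
    apply Fintype.card_congr
    exact
      { toFun := fun x => x.1
        invFun := fun x => ⟨x, by simp⟩
        left_inv := fun x => rfl
        right_inv := fun x => rfl }
  rw [Finset.sum_eq_single (1 : G) (fun g _ hg => h1 g hg) (fun h => absurd (Finset.mem_univ _) h), h0] at hB
  rw [Nat.card_eq_fintype_card, Nat.card_eq_fintype_card, hB]
  exact Dvd.intro_left _ rfl

/-- an action with one fixed point, free elsewhere -/
theorem card_eq_one_add_of_semiregular {G X : Type*} [Group G] [Finite G] [MulAction G X] [Finite X]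
    (x₀ : X) (hfix : ∀ g : G, g • x₀ = x₀)
    (hfree : ∀ (g : G) (x : X), g ≠ 1 → g • x = x → x = x₀) :
    ∃ t : ℕ, Nat.card X = 1 + t * Nat.card G := by
  classical
  have := Fintype.ofFinite G
  have := Fintype.ofFinite X
  have : ∀ g : G, Fintype (MulAction.fixedBy X g) := fun g => Fintype.ofFinite _
  have := Fintype.ofFinite (MulAction.orbitRel.Quotient G X)
  have hB := MulAction.sum_card_fixedBy_eq_card_orbits_mul_card_group G X
  have h1 : ∀ g : G, g ≠ 1 → Fintype.card (MulAction.fixedBy X g) = 1 := by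
    intro g hg
    rw [Fintype.card_eq_one_iff]
    exact ⟨⟨x₀, hfix g⟩, fun x => Subtype.ext (hfree g x.1 hg x.2)⟩
  have h0 : Fintype.card (MulAction.fixedBy X (1 : G)) = Fintype.card X := by
    apply Fintype.card_congr
    exact
      { toFun := fun x => x.1
        invFun := fun x => ⟨x, by simp⟩
        left_inv := fun x => rfl
        right_inv := fun x => rfl }
  rw [← Finset.add_sum_erase Finset.univ _ (Finset.mem_univ (1 : G)), h0,
    Finset.sum_congr rfl (fun g hg => h1 g (Finset.ne_of_mem_erase hg)), Finset.sum_const,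
    Finset.card_erase_of_mem (Finset.mem_univ _), Finset.card_univ, smul_eq_mul, mul_one] at hB
  have hΩ : 1 ≤ Fintype.card (MulAction.orbitRel.Quotient G X) :=
    Fintype.card_pos_iff.mpr ⟨Quotient.mk'' x₀⟩
  have hG : 1 ≤ Fintype.card G := Fintype.card_pos
  refine ⟨Fintype.card (MulAction.orbitRel.Quotient G X) - 1, ?_⟩
  rw [Nat.card_eq_fintype_card, Nat.card_eq_fintype_card]
  obtain ⟨s, hs⟩ := Nat.exists_eq_add_of_le hΩ
  rw [hs] at hB ⊢
  have : 1 + s - 1 = s := by omega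
  rw [this]
  have h3 : (1 + s) * Fintype.card G = Fintype.card G + s * Fintype.card G := by ring
  omega

theorem card_le_one_of_sum {ι : Type*} (R : Finset ι) (c : ι → ℕ) (h : ℕ)
    (hc : ∀ ω ∈ R, h ≤ 4 * c ω) (hS : 4 * ∑ ω ∈ R, c ω < 2 * h) : R.card ≤ 1 := by
  have h5 : R.card * h ≤ ∑ ω ∈ R, 4 * c ω := by
    rw [← smul_eq_mul]
    exact Finset.card_nsmul_le_sum _ _ _ hc
  rw [← Finset.mul_sum] at h5
  by_contra hcon
  have : 2 ≤ R.card := by omega
  nlinarith

/-- the final numerical step of Theorem III -/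
theorem numIII (q k t n' : ℕ) (hk : 2 ≤ k) (hkq : k + 1 ≤ q) (ht : 1 ≤ t)
    (hn : n' = 1 ∨ n' = 2) (e : 1 + t * q = n' * k + 2 * t) :
    t = 1 ∨ (q = 3 ∧ k = 2 ∧ t = 3 ∧ n' = 2) := by
  obtain ⟨r, rfl⟩ := Nat.exists_eq_add_of_le hkq
  obtain ⟨s, rfl⟩ := Nat.exists_eq_add_of_le ht
  rcases hn with rfl | rfl
  · left
    rcases Nat.eq_zero_or_pos s with rfl | hs
    · rfl
    · exfalso
      nlinarith
  · rcases Nat.eq_zero_or_pos s with rfl | hs
    · left; rfl
    · rcases Nat.lt_or_ge s 2 with h1 | h2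
      · exfalso
        have : s = 1 := by omega
        subst this
        omega
      · have hs2 : s = 2 := by
          by_contra hne
          have : 3 ≤ s := by omega
          nlinarith
        subst hs2
        right
        have : k = 2 ∧ r = 0 := by
          constructor <;> nlinarith
        obtain ⟨rfl, rfl⟩ := this
        exact ⟨rfl, rfl, rfl, rfl⟩


/-- the hypotheses of Theorem III -/
structure PHyp {H : Type*} [Group H] (P : Part H) (p : ℕ) [Fact p.Prime] (Q : Subgroup H) : Prop where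
  hQ : Q ∈ P.mem
  syl : ∃ S : Sylow p H, (S : Subgroup H) = Q
  htype : ∀ A ∈ P.mem, (∃ S : Sylow p H, (S : Subgroup H) = A) ∨
      (IsCyclic A ∧ Nat.card (Subgroup.normalizer (A : Set H)) ≤ 2 * Nat.card A)
  cent : ∀ x ∈ Q, x ≠ 1 → ∀ g : H, g * x = x * g → g ∈ Q
  tor_norm : ∀ B ∈ P.mem, (¬ ∃ S : Sylow p H, (S : Subgroup H) = B) → ∀ y ∈ B, y ≠ 1 →
      y ∈ Subgroup.normalizer (Q : Set H) → B ≤ Subgroup.normalizer (Q : Set H)
  gen : ∃ g₀ ∈ Subgroup.normalizer (Q : Set H), ∀ y ∈ Subgroup.normalizer (Q : Set H),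
      ∃ n : ℕ, ∃ x ∈ Q, y = x * g₀ ^ n

namespace Part
variable {H : Type*} [Group H] [Finite H] (P : Part H)

omit [Finite H] in
theorem oi_orb (A : ↥P.mem) : P.oi (P.orb A) = Nat.card (MulAction.orbit H A) := by
  unfold oi
  congr 2
  rw [MulAction.orbit_eq_iff]
  rw [← MulAction.orbitRel_apply]
  exact Quotient.exact' (Quotient.out_eq' (P.orb A))

omit [Finite H] in
theorem out_orb_mem (ω : MulAction.orbitRel.Quotient H ↥P.mem) : P.orb ω.out = ω :=
  Quotient.out_eq' ω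

theorem on_cases' (ω : MulAction.orbitRel.Quotient H ↥P.mem)
    (h1 : P.on ω ≤ 2 * P.oa ω) : P.on ω = P.oa ω ∨ P.on ω = 2 * P.oa ω := by
  obtain ⟨c, hc⟩ := P.oa_dvd_on ω
  have h2 := P.two_le_oa ω
  have hpos : 0 < P.on ω := Nat.card_pos
  rw [hc] at h1 hpos ⊢
  have hc2 : c ≤ 2 := by
    by_contra hc3
    have : 3 ≤ c := by omega
    nlinarith
  have hc0 : c ≠ 0 := by rintro rfl; simp at hpos
  have hc12 : c = 1 ∨ c = 2 := by omega
  rcases hc12 with rfl | rfl
  · left; ring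
  · right; ring

end Part

namespace PHyp
variable {H : Type*} [Group H] [Finite H] {P : Part H} {p : ℕ} [Fact p.Prime] {Q : Subgroup H}
  (hyp : PHyp P p Q)
include hyp

omit [Finite H] in
theorem sylow_conj (g : H) : ∃ S : Sylow p H, (S : Subgroup H) = MulAut.conj g • Q := by
  obtain ⟨S, hS⟩ := hyp.syl
  exact ⟨g • S, by rw [Sylow.coe_subgroup_smul, hS]⟩

theorem conj_of_sylow {B : Subgroup H} (hB : ∃ S : Sylow p H, (S : Subgroup H) = B) :
    ∃ g : H, B = MulAut.conj g • Q := by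
  obtain ⟨S, hS⟩ := hyp.syl
  obtain ⟨S', hS'⟩ := hB
  obtain ⟨g, hg⟩ := MulAction.exists_smul_eq H S S'
  refine ⟨g, ?_⟩
  rw [← hS', ← hg, Sylow.coe_subgroup_smul, hS]

/-- a non-identity element of `Q` normalizes no other conjugate of `Q` -/
theorem pelem (g : H) (y : H) (hy : y ∈ Q) (hy1 : y ≠ 1)
    (hn : y ∈ Subgroup.normalizer ((MulAut.conj g • Q : Subgroup H) : Set H)) :
    MulAut.conj g • Q = Q := by
  obtain ⟨S, hS⟩ := hyp.syl
  obtain ⟨S', hS'⟩ := hyp.sylow_conj g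
  have hp : IsPGroup p (Subgroup.zpowers y) := by
    apply IsPGroup.to_le S.2
    rw [hS, Subgroup.zpowers_le]
    exact hy
  have h1 := hp.inf_normalizer_sylow S'
  have h2 : y ∈ Subgroup.zpowers y ⊓ Subgroup.normalizer (S' : Set H) := by
    refine ⟨Subgroup.mem_zpowers y, ?_⟩
    change y ∈ Subgroup.normalizer ((S' : Subgroup H) : Set H)
    rw [hS']
    exact hn
  rw [h1, hS'] at h2
  exact P.disj _ (P.conj_mem Q hyp.hQ g) _ hyp.hQ y hy1 h2.2 hy

/-- a non-identity element of a conjugate of `Q` normalizing `Q` lies in `Q` -/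
theorem pelem' (g : H) (y : H) (hy : y ∈ MulAut.conj g • Q) (hy1 : y ≠ 1)
    (hn : y ∈ Subgroup.normalizer (Q : Set H)) :
    MulAut.conj g • Q = Q := by
  obtain ⟨S, hS⟩ := hyp.syl
  obtain ⟨S', hS'⟩ := hyp.sylow_conj g
  have hp : IsPGroup p (Subgroup.zpowers y) := by
    apply IsPGroup.to_le S'.2
    rw [hS', Subgroup.zpowers_le]
    exact hy
  have h1 := hp.inf_normalizer_sylow S
  have h2 : y ∈ Subgroup.zpowers y ⊓ Subgroup.normalizer (S : Set H) := by
    refine ⟨Subgroup.mem_zpowers y, ?_⟩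
    change y ∈ Subgroup.normalizer ((S : Subgroup H) : Set H)
    rw [hS]
    exact hn
  rw [h1, hS] at h2
  exact P.disj _ (P.conj_mem Q hyp.hQ g) _ hyp.hQ y hy1 hy h2.2

/-- the complement `K` of `Q` in its normalizer -/
theorem exists_compl (hk : ∃ y ∈ Subgroup.normalizer (Q : Set H), y ∉ Q) :
    ∃ K ∈ P.mem, (¬ ∃ S : Sylow p H, (S : Subgroup H) = K) ∧
      K ≤ Subgroup.normalizer (Q : Set H) ∧ Disjoint Q K ∧
      ∀ y ∈ Subgroup.normalizer (Q : Set H), ∃ x ∈ Q, ∃ κ ∈ K, y = x * κ := by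
  obtain ⟨g₀, hg₀, hgen⟩ := hyp.gen
  have hg₀Q : g₀ ∉ Q := by
    intro h
    obtain ⟨y, hy, hyQ⟩ := hk
    obtain ⟨n, x, hx, rfl⟩ := hgen y hy
    exact hyQ (Q.mul_mem hx (Q.pow_mem h n))
  have hg1 : g₀ ≠ 1 := fun h => hg₀Q (h ▸ Q.one_mem)
  have hnS : ¬ ∃ S : Sylow p H, (S : Subgroup H) = P.of g₀ hg1 := by
    intro hS
    obtain ⟨g, hg⟩ := hyp.conj_of_sylow hS
    have := hyp.pelem' g g₀ (hg ▸ P.mem_of g₀ hg1) hg1 hg₀
    apply hg₀Q
    rw [← this, ← hg]
    exact P.mem_of g₀ hg1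
  refine ⟨P.of g₀ hg1, P.of_mem g₀ hg1, hnS, ?_, ?_, ?_⟩
  · exact hyp.tor_norm _ (P.of_mem g₀ hg1) hnS g₀ (P.mem_of g₀ hg1) hg1 hg₀
  · rw [Subgroup.disjoint_def]
    intro x hxQ hxK
    by_contra hx1
    apply hnS
    obtain ⟨S, hS⟩ := hyp.syl
    refine ⟨S, ?_⟩
    rw [hS]
    exact P.disj _ hyp.hQ _ (P.of_mem g₀ hg1) x hx1 hxQ hxK
  · intro y hy
    obtain ⟨n, x, hx, rfl⟩ := hgen y hy
    exact ⟨x, hx, g₀ ^ n, (P.of g₀ hg1).pow_mem (P.mem_of g₀ hg1) n, rfl⟩

omit hyp in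
theorem card_normalizer_eq {K : Subgroup H} (hKn : K ≤ Subgroup.normalizer (Q : Set H))
    (hd : Disjoint Q K)
    (hgen : ∀ y ∈ Subgroup.normalizer (Q : Set H), ∃ x ∈ Q, ∃ κ ∈ K, y = x * κ) :
    Nat.card (Subgroup.normalizer (Q : Set H)) = Nat.card Q * Nat.card K := by
  rw [← Cfsg.Agent.Lib.Helper15.card_mulSub Q K hKn hd]
  congr 2
  apply le_antisymm
  · intro y hy
    exact hgen y hy
  · rintro y ⟨x, hx, κ, hκ, rfl⟩
    exact (Subgroup.normalizer (Q : Set H)).mul_mem (Subgroup.le_normalizer hx) (hKn hκ)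

theorem card_compl_lt {K : Subgroup H} (hKn : K ≤ Subgroup.normalizer (Q : Set H))
    (hd : Disjoint Q K) : Nat.card K < Nat.card Q := by
  classical
  obtain ⟨x₀, hx₀Q, hx₀⟩ : ∃ x₀ ∈ Q, x₀ ≠ 1 := by
    by_contra hcon
    push Not at hcon
    apply P.ne_bot Q hyp.hQ
    rw [eq_bot_iff]
    intro x hx
    rw [Subgroup.mem_bot]
    exact hcon x hx
  have := Fintype.ofFinite ↥K
  have := Fintype.ofFinite ↥Q
  rw [Nat.card_eq_fintype_card, Nat.card_eq_fintype_card]
  let f : ↥K → ↥Q := fun κ => ⟨(κ : H) * x₀ * (κ : H)⁻¹, by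
    have := (Subgroup.mem_normalizer_iff.mp (hKn κ.2)) x₀
    exact this.mp hx₀Q⟩
  apply Fintype.card_lt_of_injective_of_notMem f (b := 1)
  · intro κ κ' h
    have h1 : (κ : H) * x₀ * (κ : H)⁻¹ = (κ' : H) * x₀ * (κ' : H)⁻¹ := congrArg Subtype.val h
    have h2 : ((κ' : H)⁻¹ * (κ : H)) * x₀ = x₀ * ((κ' : H)⁻¹ * (κ : H)) := by
      have : (κ' : H)⁻¹ * ((κ : H) * x₀ * (κ : H)⁻¹) * (κ : H) = (κ' : H)⁻¹ * ((κ' : H) * x₀ * (κ' : H)⁻¹) * (κ : H) := by
        rw [h1]
      simpa [mul_assoc] using this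
    have h3 := hyp.cent x₀ hx₀Q hx₀ _ h2
    have h4 : (κ' : H)⁻¹ * (κ : H) ∈ K := K.mul_mem (K.inv_mem κ'.2) κ.2
    have h5 := Subgroup.disjoint_def.mp hd h3 h4
    apply Subtype.ext
    rw [inv_mul_eq_one] at h5
    exact h5.symm
  · rintro ⟨κ, hκ⟩
    have h1 : (κ : H) * x₀ * (κ : H)⁻¹ = 1 := congrArg Subtype.val hκ
    apply hx₀
    have : x₀ = (κ : H)⁻¹ * ((κ : H) * x₀ * (κ : H)⁻¹) * (κ : H) := by group
    rw [this, h1]
    group

/-- the elements of the normalizer outside `Q` lie in the `Q`-conjugates of `K` -/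
theorem cover_normalizer {K : Subgroup H} (hKn : K ≤ Subgroup.normalizer (Q : Set H))
    (hd : Disjoint Q K)
    (hgen : ∀ y ∈ Subgroup.normalizer (Q : Set H), ∃ x ∈ Q, ∃ κ ∈ K, y = x * κ)
    (y : H) (hy : y ∈ Subgroup.normalizer (Q : Set H)) (hyQ : y ∉ Q) :
    ∃ v ∈ Q, y ∈ MulAut.conj v • K := by
  obtain ⟨x, hx, κ, hκ, rfl⟩ := hgen y hy
  have hκ1 : κ ≠ 1 := by
    rintro rfl
    apply hyQ
    simpa using hx
  let ψ : ↥Q → ↥Q := fun v => ⟨(v : H) * (κ * (v : H)⁻¹ * κ⁻¹), by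
    apply Q.mul_mem v.2
    have := (Subgroup.mem_normalizer_iff.mp (hKn hκ)) (v : H)⁻¹
    exact this.mp (Q.inv_mem v.2)⟩
  have hinj : Function.Injective ψ := by
    intro v w h
    have h1 : (v : H) * (κ * (v : H)⁻¹ * κ⁻¹) = (w : H) * (κ * (w : H)⁻¹ * κ⁻¹) := congrArg Subtype.val h
    have h2 : κ * ((w : H)⁻¹ * (v : H)) = ((w : H)⁻¹ * (v : H)) * κ := by
      have : (w : H)⁻¹ * ((v : H) * (κ * (v : H)⁻¹ * κ⁻¹)) * κ * (v : H) = (w : H)⁻¹ * ((w : H) * (κ * (w : H)⁻¹ * κ⁻¹)) * κ * (v : H) := by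
        rw [h1]
      have e1 : (w : H)⁻¹ * ((v : H) * (κ * (v : H)⁻¹ * κ⁻¹)) * κ * (v : H) = ((w : H)⁻¹ * (v : H)) * κ := by group
      have e2 : (w : H)⁻¹ * ((w : H) * (κ * (w : H)⁻¹ * κ⁻¹)) * κ * (v : H) = κ * ((w : H)⁻¹ * (v : H)) := by group
      rw [e1, e2] at this
      exact this.symm
    by_contra hne
    have hz : (w : H)⁻¹ * (v : H) ≠ 1 := by
      intro h
      apply hne
      apply Subtype.ext
      rw [inv_mul_eq_one] at h
      exact h.symm
    have hzQ : (w : H)⁻¹ * (v : H) ∈ Q := Q.mul_mem (Q.inv_mem w.2) v.2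
    have h3 := hyp.cent _ hzQ hz κ h2
    exact hκ1 (Subgroup.disjoint_def.mp hd h3 hκ)
  obtain ⟨v, hv⟩ := Finite.surjective_of_injective hinj ⟨x, hx⟩
  refine ⟨v, v.2, ?_⟩
  rw [mem_conj_smul]
  have h1 : (v : H) * (κ * (v : H)⁻¹ * κ⁻¹) = x := congrArg Subtype.val hv
  rw [← h1]
  have : (v : H)⁻¹ * ((v : H) * (κ * (v : H)⁻¹ * κ⁻¹) * κ) * (v : H) = κ := by group
  rw [this]
  exact hκ

/-- the number of conjugates of `Q` is `≡ 1` modulo `|Q|` -/
theorem card_orbit_mod :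
    ∃ t : ℕ, Nat.card (MulAction.orbit H (⟨Q, hyp.hQ⟩ : ↥P.mem)) = 1 + t * Nat.card Q := by
  let _ : MulAction ↥Q (MulAction.orbit H (⟨Q, hyp.hQ⟩ : ↥P.mem)) :=
    MulAction.compHom (MulAction.orbit H (⟨Q, hyp.hQ⟩ : ↥P.mem)) Q.subtype
  have hsm : ∀ (v : ↥Q) (x : MulAction.orbit H (⟨Q, hyp.hQ⟩ : ↥P.mem)),
      ((v • x : MulAction.orbit H (⟨Q, hyp.hQ⟩ : ↥P.mem)) : ↥P.mem).1 = MulAut.conj (v : H) • (x : ↥P.mem).1 :=
    fun v x => rfl
  apply card_eq_one_add_of_semiregular (G := ↥Q)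
    (⟨⟨Q, hyp.hQ⟩, MulAction.mem_orbit_self _⟩ : MulAction.orbit H (⟨Q, hyp.hQ⟩ : ↥P.mem))
  · intro v
    apply Subtype.ext
    apply Subtype.ext
    rw [hsm]
    change MulAut.conj (v : H) • Q = Q
    rw [conj_smul_eq_self_iff]
    exact Subgroup.le_normalizer v.2
  · intro v x hv hfix
    obtain ⟨⟨A, hA⟩, g, hg⟩ := x
    have hA' : A = MulAut.conj g • Q := by
      have := congrArg Subtype.val hg
      exact this.symm
    have h1 : MulAut.conj (v : H) • A = A := by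
      have := congrArg (fun z : MulAction.orbit H (⟨Q, hyp.hQ⟩ : ↥P.mem) => (z : ↥P.mem).1) hfix
      exact this
    rw [conj_smul_eq_self_iff, hA'] at h1
    have hv1 : (v : H) ≠ 1 := fun h => hv (Subtype.ext h)
    have h2 := hyp.pelem g v v.2 hv1 h1
    apply Subtype.ext
    apply Subtype.ext
    change A = Q
    rw [hA', h2]

/-- when there are `|Q| + 1` conjugates, `Q` permutes the others transitively -/
theorem trans_of_card (hN : P.oi (P.orb ⟨Q, hyp.hQ⟩) = Nat.card Q + 1)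
    (g g' : H) (hg : MulAut.conj g • Q ≠ Q) (hg' : MulAut.conj g' • Q ≠ Q) :
    ∃ v ∈ Q, MulAut.conj v • (MulAut.conj g • Q) = MulAut.conj g' • Q := by
  classical
  rw [P.oi_orb] at hN
  have := Fintype.ofFinite ↥Q
  have := Fintype.ofFinite (MulAction.orbit H (⟨Q, hyp.hQ⟩ : ↥P.mem))
  rw [Nat.card_eq_fintype_card, Nat.card_eq_fintype_card] at hN
  let x₀ : MulAction.orbit H (⟨Q, hyp.hQ⟩ : ↥P.mem) := ⟨⟨Q, hyp.hQ⟩, MulAction.mem_orbit_self _⟩
  let A₀ : MulAction.orbit H (⟨Q, hyp.hQ⟩ : ↥P.mem) := ⟨g • ⟨Q, hyp.hQ⟩, MulAction.mem_orbit _ g⟩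
  let A₁ : MulAction.orbit H (⟨Q, hyp.hQ⟩ : ↥P.mem) := ⟨g' • ⟨Q, hyp.hQ⟩, MulAction.mem_orbit _ g'⟩
  let φ : ↥Q → MulAction.orbit H (⟨Q, hyp.hQ⟩ : ↥P.mem) := fun v => (v : H) • A₀
  have hφval : ∀ v : ↥Q, ((φ v : MulAction.orbit H (⟨Q, hyp.hQ⟩ : ↥P.mem)) : ↥P.mem).1 =
      MulAut.conj (v : H) • (MulAut.conj g • Q) := fun v => rfl
  have hinj : Function.Injective φ := by
    intro v w h
    have h1 : MulAut.conj (v : H) • (MulAut.conj g • Q) = MulAut.conj (w : H) • (MulAut.conj g • Q) := by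
      rw [← hφval, ← hφval, h]
    have h2 : MulAut.conj ((w : H)⁻¹ * (v : H)) • (MulAut.conj g • Q) = MulAut.conj g • Q := by
      rw [map_mul, mul_smul, h1, ← mul_smul, ← map_mul, inv_mul_cancel, map_one, one_smul]
    rw [conj_smul_eq_self_iff] at h2
    by_contra hne
    have hz : (w : H)⁻¹ * (v : H) ≠ 1 := by
      intro h
      apply hne
      apply Subtype.ext
      rw [inv_mul_eq_one] at h
      exact h.symm
    exact hg (hyp.pelem g _ (Q.mul_mem (Q.inv_mem w.2) v.2) hz h2)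
  have hsub : Finset.univ.image φ ⊆ Finset.univ.erase x₀ := by
    intro x hx
    rw [Finset.mem_image] at hx
    obtain ⟨v, -, rfl⟩ := hx
    rw [Finset.mem_erase]
    refine ⟨?_, Finset.mem_univ _⟩
    intro h
    apply hg
    have h1 : MulAut.conj (v : H) • (MulAut.conj g • Q) = Q := by
      rw [← hφval, h]
    have h2 : MulAut.conj g • Q = MulAut.conj (v : H)⁻¹ • Q := by
      calc MulAut.conj g • Q = MulAut.conj (v : H)⁻¹ • (MulAut.conj (v : H) • (MulAut.conj g • Q)) := by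
            rw [← mul_smul, ← map_mul, inv_mul_cancel, map_one, one_smul]
        _ = MulAut.conj (v : H)⁻¹ • Q := by rw [h1]
    rw [h2, conj_smul_eq_self_iff]
    exact Subgroup.le_normalizer (Q.inv_mem v.2)
  have heq : Finset.univ.image φ = Finset.univ.erase x₀ := by
    apply Finset.eq_of_subset_of_card_le hsub
    rw [Finset.card_image_of_injective _ hinj, Finset.card_erase_of_mem (Finset.mem_univ _),
      Finset.card_univ, Finset.card_univ, hN]
    omega
  have hA₁ : A₁ ∈ Finset.univ.image φ := by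
    rw [heq, Finset.mem_erase]
    refine ⟨?_, Finset.mem_univ _⟩
    intro h
    apply hg'
    have := congrArg (fun z : MulAction.orbit H (⟨Q, hyp.hQ⟩ : ↥P.mem) => (z : ↥P.mem).1) h
    exact this
  rw [Finset.mem_image] at hA₁
  obtain ⟨v, -, hv⟩ := hA₁
  refine ⟨v, v.2, ?_⟩
  rw [← hφval, hv]
  rfl

/-- a member acting freely on the conjugates of `Q` has order dividing their number -/
theorem card_dvd_orbit (B : Subgroup H)
    (hfree : ∀ y ∈ B, y ≠ 1 → ∀ g : H, y ∉ Subgroup.normalizer ((MulAut.conj g • Q : Subgroup H) : Set H)) :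
    Nat.card B ∣ Nat.card (MulAction.orbit H (⟨Q, hyp.hQ⟩ : ↥P.mem)) := by
  let _ : MulAction ↥B (MulAction.orbit H (⟨Q, hyp.hQ⟩ : ↥P.mem)) :=
    MulAction.compHom (MulAction.orbit H (⟨Q, hyp.hQ⟩ : ↥P.mem)) B.subtype
  apply card_dvd_of_free (G := ↥B)
  intro v x hfix
  obtain ⟨⟨A, hA⟩, g, hg⟩ := x
  have hA' : A = MulAut.conj g • Q := by
    have := congrArg Subtype.val hg
    exact this.symm
  have h1 : MulAut.conj (v : H) • A = A := by
    have := congrArg (fun z : MulAction.orbit H (⟨Q, hyp.hQ⟩ : ↥P.mem) => (z : ↥P.mem).1) hfix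
    exact this
  rw [conj_smul_eq_self_iff, hA'] at h1
  by_contra hv
  have hv1 : (v : H) ≠ 1 := fun h => hv (Subtype.ext h)
  exact hfree v v.2 hv1 g h1

/-- a non-Sylow member not conjugate to `K` normalizes no conjugate of `Q` -/
theorem free_of_not_conj {K : Subgroup H} (hKm : K ∈ P.mem)
    (hKn : K ≤ Subgroup.normalizer (Q : Set H)) (hd : Disjoint Q K)
    (hgen : ∀ y ∈ Subgroup.normalizer (Q : Set H), ∃ x ∈ Q, ∃ κ ∈ K, y = x * κ)
    (B : Subgroup H) (hB : B ∈ P.mem) (hBS : ¬ ∃ S : Sylow p H, (S : Subgroup H) = B)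
    (hBK : ∀ g : H, B ≠ MulAut.conj g • K) :
    ∀ y ∈ B, y ≠ 1 → ∀ g : H, y ∉ Subgroup.normalizer ((MulAut.conj g • Q : Subgroup H) : Set H) := by
  intro y hy hy1 g hn
  rw [Part.normalizer_conj_smul, mem_conj_smul] at hn
  have hy1' : g⁻¹ * y * g ≠ 1 := by
    intro h
    apply hy1
    have : y = g * (g⁻¹ * y * g) * g⁻¹ := by group
    rw [this, h]
    group
  have hyB' : g⁻¹ * y * g ∈ MulAut.conj g⁻¹ • B := by
    rw [mem_conj_smul]
    have : g⁻¹⁻¹ * (g⁻¹ * y * g) * g⁻¹ = y := by group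
    rw [this]
    exact hy
  have hB'm : MulAut.conj g⁻¹ • B ∈ P.mem := P.conj_mem B hB g⁻¹
  have hback : MulAut.conj g • (MulAut.conj g⁻¹ • B) = B := by
    rw [← mul_smul, ← map_mul, mul_inv_cancel, map_one, one_smul]
  have hyQ : g⁻¹ * y * g ∉ Q := by
    intro h
    apply hBS
    have h1 : MulAut.conj g⁻¹ • B = Q := P.disj _ hB'm _ hyp.hQ _ hy1' hyB' h
    obtain ⟨S, hS⟩ := hyp.sylow_conj g
    refine ⟨S, ?_⟩
    rw [hS, ← h1, hback]
  obtain ⟨v, hv, hvK⟩ := hyp.cover_normalizer hKn hd hgen _ hn hyQ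
  have h1 : MulAut.conj g⁻¹ • B = MulAut.conj v • K :=
    P.disj _ hB'm _ (P.conj_mem K hKm v) _ hy1' hyB' hvK
  apply hBK (g * v)
  rw [map_mul, mul_smul, ← h1, hback]

/-- orbits other than that of `Q` consist of non-Sylow members -/
theorem not_sylow_of_ne (ω : MulAction.orbitRel.Quotient H ↥P.mem)
    (hω : ω ≠ P.orb ⟨Q, hyp.hQ⟩) : ¬ ∃ S : Sylow p H, (S : Subgroup H) = (ω.out).1 := by
  intro hS
  obtain ⟨g, hg⟩ := hyp.conj_of_sylow hS
  apply hω
  rw [← P.out_orb_mem ω, Part.orb_eq_iff]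
  exact ⟨g, hg⟩

theorem torus_of_ne (ω : MulAction.orbitRel.Quotient H ↥P.mem)
    (hω : ω ≠ P.orb ⟨Q, hyp.hQ⟩) :
    IsCyclic (ω.out).1 ∧ (P.on ω = P.oa ω ∨ P.on ω = 2 * P.oa ω) := by
  rcases hyp.htype _ (ω.out).2 with hS | ⟨hc, hn⟩
  · exact absurd hS (hyp.not_sylow_of_ne ω hω)
  · exact ⟨hc, P.on_cases' ω hn⟩

theorem two_le_orbit (hnn : ¬ Q.Normal) : 2 ≤ P.oi (P.orb ⟨Q, hyp.hQ⟩) := by
  have h1 := P.oi_mul_on (P.orb ⟨Q, hyp.hQ⟩)
  rw [P.on_orb] at h1
  by_contra hlt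
  have h0 : P.oi (P.orb ⟨Q, hyp.hQ⟩) ≠ 0 := by
    intro h0
    rw [h0, zero_mul] at h1
    have : 0 < Nat.card H := Nat.card_pos
    omega
  have h2 : P.oi (P.orb ⟨Q, hyp.hQ⟩) = 1 := by omega
  rw [h2, one_mul] at h1
  apply hnn
  rw [← Subgroup.normalizer_eq_top_iff]
  exact Subgroup.eq_top_of_card_eq _ h1

/-- Theorem III when `Q` is self-normalizing -/
theorem thmIII_k1 (hnn : ¬ Q.Normal) (hk : ¬ ∃ y ∈ Subgroup.normalizer (Q : Set H), y ∉ Q) :
    P.oi (P.orb ⟨Q, hyp.hQ⟩) = Nat.card Q + 1 ∨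
    (∃ B ∈ P.mem, (¬ ∃ S : Sylow p H, (S : Subgroup H) = B) ∧ IsCyclic B ∧
      Nonempty (H ≃* DihedralGroup (Nat.card B))) := by
  classical
  push Not at hk
  have hNQ : Subgroup.normalizer (Q : Set H) = Q := le_antisymm hk Subgroup.le_normalizer
  set ωQ := P.orb ⟨Q, hyp.hQ⟩ with hωQ
  have hN2 := hyp.two_le_orbit hnn
  rw [← hωQ] at hN2
  have hNm := P.oi_mul_on ωQ
  have hon : P.on ωQ = Nat.card Q := by rw [hωQ, P.on_orb, hNQ]
  have hoa : P.oa ωQ = Nat.card Q := by rw [hωQ, P.oa_orb]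
  rw [hon] at hNm
  have hq2 : 2 ≤ Nat.card Q := P.two_le_card hyp.hQ
  obtain ⟨b, hb⟩ := Nat.exists_eq_add_of_le hq2
  have hh : 1 ≤ Nat.card H := Nat.card_pos
  have hcl := P.class_equation'
  rw [← Finset.add_sum_erase Finset.univ _ (Finset.mem_univ ωQ), hoa] at hcl
  set R := (Finset.univ : Finset (MulAction.orbitRel.Quotient H ↥P.mem)).erase ωQ with hR
  set N := P.oi ωQ with hN
  set S := ∑ ω ∈ R, P.oi ω * (P.oa ω - 1) with hS
  rw [hb] at hcl hNm
  have e1 : 2 + b - 1 = b + 1 := by omega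
  rw [e1] at hcl
  have e2 : N * (2 + b) = N * (b + 1) + N := by ring
  have hSN : S + 1 = N := by omega
  have hNle : N ≤ N * (b + 1) := Nat.le_mul_of_pos_right N (by omega)
  have hcb : ∀ ω ∈ R, Nat.card H ≤ 4 * (P.oi ω * (P.oa ω - 1)) := by
    intro ω hω
    have hne : ω ≠ ωQ := Finset.ne_of_mem_erase hω
    exact contrib_ge _ _ _ _ (P.oi_mul_on ω) (P.two_le_oa ω) (hyp.torus_of_ne ω hne).2
  have hR1 : R.card ≤ 1 := by
    apply card_le_one_of_sum R _ (Nat.card H) hcb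
    rw [← hS]
    omega
  have hR0 : R.card ≠ 0 := by
    intro h0
    rw [Finset.card_eq_zero] at h0
    rw [hS, h0, Finset.sum_empty] at hSN
    omega
  have hR1' : R.card = 1 := by omega
  obtain ⟨ω₂, hω₂⟩ := Finset.card_eq_one.mp hR1'
  have hω₂R : ω₂ ∈ R := by rw [hω₂]; exact Finset.mem_singleton_self _
  have hne2 : ω₂ ≠ ωQ := Finset.ne_of_mem_erase hω₂R
  have hS2 : S = P.oi ω₂ * (P.oa ω₂ - 1) := by rw [hS, hω₂, Finset.sum_singleton]
  obtain ⟨hcyc, hf⟩ := hyp.torus_of_ne ω₂ hne2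
  have ha2 := P.two_le_oa ω₂
  obtain ⟨e, he⟩ := Nat.exists_eq_add_of_le ha2
  have hi2 := P.oi_mul_on ω₂
  rw [he] at hS2
  have e3 : 2 + e - 1 = e + 1 := by omega
  rw [e3] at hS2
  rcases hf with hf | hf
  · exfalso
    have := contrib_ge_one _ _ _ _ (P.oi_mul_on ω₂) (P.two_le_oa ω₂) hf
    rw [he, e3, ← hS2] at this
    omega
  · rw [hf, he] at hi2
    have e4 : P.oi ω₂ * (2 * (2 + e)) = 2 * (P.oi ω₂ * (e + 1)) + 2 * P.oi ω₂ := by ring
    have hc4 := hcb ω₂ hω₂R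
    rw [he, e3, ← hS2] at hc4
    have hb1 : b ≤ 1 := by
      by_contra hcon
      have : N * 3 ≤ N * (b + 1) := Nat.mul_le_mul_left N (by omega)
      omega
    rcases Nat.eq_zero_or_pos b with hb0 | hb0
    · -- `|Q| = 2`: dihedral
      right
      subst hb0
      have hi1 : P.oi ω₂ = 1 := by
        simp only [zero_add, mul_one] at e2 hNle hNm hcl
        omega
      refine ⟨(ω₂.out).1, (ω₂.out).2, hyp.not_sylow_of_ne ω₂ hne2, hcyc, ?_⟩
      apply P.dihedral_like' ω₂ hcyc hi1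
      · rw [hi1, one_mul, ← he] at hi2
        exact hi2
      · intro ω' hω'
        have : ω' = ωQ := by
          by_contra hne
          have : ω' ∈ R := Finset.mem_erase.mpr ⟨hne, Finset.mem_univ _⟩
          rw [hω₂, Finset.mem_singleton] at this
          exact hω' this
        rw [this, hoa, hb]
    · -- `|Q| = 3`
      left
      have hb1' : b = 1 := by omega
      subst hb1'
      have hi : 2 * P.oi ω₂ = N + 2 := by omega
      have h5 : (N + 2) * (2 + e) = 3 * N := by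
        have : (2 * P.oi ω₂) * (2 + e) = P.oi ω₂ * (2 * (2 + e)) := by ring
        rw [← hi, this, hi2]
        omega
      have he0 : e = 0 := by
        by_contra hne
        have : (N + 2) * 3 ≤ (N + 2) * (2 + e) := Nat.mul_le_mul_left _ (by omega)
        omega
      subst he0
      rw [hb]
      omega

/-- Theorem III when `Q` is not self-normalizing -/
theorem thmIII_k2 (hnn : ¬ Q.Normal) (hk : ∃ y ∈ Subgroup.normalizer (Q : Set H), y ∉ Q) :
    P.oi (P.orb ⟨Q, hyp.hQ⟩) = Nat.card Q + 1 ∨ Nonempty (H ≃* alternatingGroup (Fin 5)) := by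
  classical
  obtain ⟨K, hKm, hKS, hKn, hd, hgen⟩ := hyp.exists_compl hk
  have hcardn := card_normalizer_eq hKn hd hgen
  have hklt := hyp.card_compl_lt hKn hd
  set ωQ := P.orb ⟨Q, hyp.hQ⟩ with hωQ
  set ωK := P.orb ⟨K, hKm⟩ with hωK
  have hN2 := hyp.two_le_orbit hnn
  rw [← hωQ] at hN2
  have hNm := P.oi_mul_on ωQ
  have hon : P.on ωQ = Nat.card Q * Nat.card K := by rw [hωQ, P.on_orb, hcardn]
  have hoa : P.oa ωQ = Nat.card Q := by rw [hωQ, P.oa_orb]
  have hoaK : P.oa ωK = Nat.card K := by rw [hωK, P.oa_orb]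
  rw [hon] at hNm
  have hq2 : 2 ≤ Nat.card Q := P.two_le_card hyp.hQ
  have hk2 : 2 ≤ Nat.card K := P.two_le_card hKm
  have hKQ : ωK ≠ ωQ := by
    intro h
    rw [hωK, hωQ, Part.orb_eq_iff] at h
    obtain ⟨g, hg⟩ := h
    apply hKS
    obtain ⟨S, hS⟩ := hyp.sylow_conj g
    exact ⟨S, by rw [hS]; exact hg.symm⟩
  obtain ⟨t, ht⟩ := hyp.card_orbit_mod
  rw [← P.oi_orb, ← hωQ] at ht
  obtain ⟨b, hb⟩ := Nat.exists_eq_add_of_le hq2
  obtain ⟨e, he⟩ := Nat.exists_eq_add_of_le hk2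
  have hh : 1 ≤ Nat.card H := Nat.card_pos
  have hcl := P.class_equation'
  rw [← Finset.add_sum_erase Finset.univ _ (Finset.mem_univ ωQ), hoa] at hcl
  set R := (Finset.univ : Finset (MulAction.orbitRel.Quotient H ↥P.mem)).erase ωQ with hR
  have hKR : ωK ∈ R := Finset.mem_erase.mpr ⟨hKQ, Finset.mem_univ _⟩
  rw [← Finset.add_sum_erase R _ hKR, hoaK] at hcl
  set R' := R.erase ωK with hR'
  set N := P.oi ωQ with hN
  set q := Nat.card Q with hq
  set k := Nat.card K with hkdef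
  set S := ∑ ω ∈ R', P.oi ω * (P.oa ω - 1) with hS
  set X := N * q with hX
  set Y := X * e with hY
  have hh2 : Nat.card H = 2 * X + Y := by
    rw [← hNm, hY, hX, he]; ring
  have e1 : q - 1 = b + 1 := by omega
  have e1' : k - 1 = e + 1 := by omega
  have hcQ : N * (q - 1) + N = X := by
    rw [e1, hX, hb]; ring
  have hX2 : 2 * N ≤ X := by
    rw [hX, mul_comm 2 N]; exact Nat.mul_le_mul_left N hq2
  have hcb : ∀ ω ∈ R', Nat.card H ≤ 4 * (P.oi ω * (P.oa ω - 1)) := by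
    intro ω hω
    have hne : ω ≠ ωQ := Finset.ne_of_mem_erase (Finset.mem_of_mem_erase hω)
    exact contrib_ge _ _ _ _ (P.oi_mul_on ω) (P.two_le_oa ω) (hyp.torus_of_ne ω hne).2
  have hiK := P.oi_mul_on ωK
  obtain ⟨-, hfK⟩ := hyp.torus_of_ne ωK hKQ
  rw [hoaK] at hfK
  have hkpos : 0 < k := by omega
  rcases hfK with hfK | hfK
  · -- `N(K) = K` is impossible
    exfalso
    rw [hfK, ← hNm, ← mul_assoc] at hiK
    have hiK' : P.oi ωK = X := Nat.eq_of_mul_eq_mul_right hkpos hiK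
    rw [hiK', e1'] at hcl
    have e5 : X * (e + 1) = Y + X := by rw [hY]; ring
    rw [e5] at hcl
    have hS1 : S + 1 = N := by omega
    have hempty : R' = ∅ := by
      by_contra hne
      obtain ⟨ω, hω⟩ := Finset.nonempty_iff_ne_empty.mpr hne
      have h1 := hcb ω hω
      have h2 : P.oi ω * (P.oa ω - 1) ≤ S :=
        Finset.single_le_sum (f := fun ω => P.oi ω * (P.oa ω - 1)) (fun _ _ => Nat.zero_le _) hω
      omega
    rw [hS, hempty, Finset.sum_empty] at hS1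
    omega
  · -- `|N(K)| = 2 |K|`
    have hiK' : 2 * P.oi ωK = X := by
      have : (2 * P.oi ωK) * k = X * k := by
        rw [hfK] at hiK
        rw [hX, mul_assoc N q k, hNm, ← hiK]; ring
      exact Nat.eq_of_mul_eq_mul_right hkpos this
    rw [e1'] at hcl
    have e5 : 2 * (P.oi ωK * (e + 1)) = Y + X := by
      rw [hY, ← hiK']; ring
    have hS2 : 2 * S + 2 = X + Y + 2 * N := by omega
    have hR1 : R'.card ≤ 1 := by
      apply card_le_one_of_sum R' _ (Nat.card H) hcb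
      rw [← hS]
      omega
    have hR0 : R'.card ≠ 0 := by
      intro h0
      rw [Finset.card_eq_zero] at h0
      rw [hS, h0, Finset.sum_empty] at hS2
      omega
    have hR1' : R'.card = 1 := by omega
    obtain ⟨ω₂, hω₂⟩ := Finset.card_eq_one.mp hR1'
    have hω₂R : ω₂ ∈ R' := by rw [hω₂]; exact Finset.mem_singleton_self _
    have hne2K : ω₂ ≠ ωK := Finset.ne_of_mem_erase hω₂R
    have hne2 : ω₂ ≠ ωQ := Finset.ne_of_mem_erase (Finset.mem_of_mem_erase hω₂R)
    have hall : ∀ ω, ω = ωK ∨ ω = ωQ ∨ ω = ω₂ := by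
      intro ω
      by_cases h1 : ω = ωQ
      · exact Or.inr (Or.inl h1)
      by_cases h2 : ω = ωK
      · exact Or.inl h2
      right; right
      have : ω ∈ R' := Finset.mem_erase.mpr ⟨h2, Finset.mem_erase.mpr ⟨h1, Finset.mem_univ _⟩⟩
      rw [hω₂, Finset.mem_singleton] at this
      exact this
    have hS3 : S = P.oi ω₂ * (P.oa ω₂ - 1) := by rw [hS, hω₂, Finset.sum_singleton]
    obtain ⟨hcyc, hf⟩ := hyp.torus_of_ne ω₂ hne2
    have ha2 := P.two_le_oa ω₂
    obtain ⟨e₂, he₂⟩ := Nat.exists_eq_add_of_le ha2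
    have hi2 := P.oi_mul_on ω₂
    rw [he₂] at hS3
    have e3 : 2 + e₂ - 1 = e₂ + 1 := by omega
    rw [e3] at hS3
    rcases hf with hf | hf
    · exfalso
      have := contrib_ge_one _ _ _ _ (P.oi_mul_on ω₂) (P.two_le_oa ω₂) hf
      rw [he₂, e3, ← hS3] at this
      omega
    · rw [hf, he₂] at hi2
      have e4 : P.oi ω₂ * (2 * (2 + e₂)) = 2 * (P.oi ω₂ * (e₂ + 1)) + 2 * P.oi ω₂ := by ring
      have hi2' : 2 * P.oi ω₂ + 2 * N = X + 2 := by omega
      -- `|B₂|` divides `N`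
      have hdvd : P.oa ω₂ ∣ N := by
        have h1 := hyp.card_dvd_orbit (ω₂.out).1
          (hyp.free_of_not_conj hKm hKn hd hgen _ (ω₂.out).2 (hyp.not_sylow_of_ne ω₂ hne2) (by
            intro g hg
            apply hne2K
            rw [← P.out_orb_mem ω₂, hωK, Part.orb_eq_iff]
            exact ⟨g, hg⟩))
        rw [← P.oi_orb, ← hωQ] at h1
        exact h1
      obtain ⟨n', hn'⟩ := hdvd
      set a₂ := P.oa ω₂ with ha₂
      have ha2pos : 0 < a₂ := by omega
      have h6 : n' * q * k + 2 * N = X + 2 := by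
        have : a₂ * (n' * q * k + 2 * N) = a₂ * (X + 2) := by
          have h7 : a₂ * (n' * q * k) = (2 * P.oi ω₂) * (2 + e₂) := by
            have : a₂ * (n' * q * k) = (a₂ * n') * (q * k) := by ring
            rw [this, ← hn', hNm, ← hi2]; ring
          rw [mul_add, h7, ← he₂, ← hi2', mul_comm a₂ (2 * P.oi ω₂ + 2 * N)]
          ring
        exact Nat.eq_of_mul_eq_mul_left ha2pos this
      have hn'2 : n' ∣ 2 := by
        have h8 : n' ∣ X := by
          rw [hX, hn']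
          exact Dvd.dvd.mul_right (Dvd.intro_left _ rfl) q
        have h9 : n' ∣ X + 2 := by
          rw [← h6]
          apply Nat.dvd_add
          · exact Dvd.dvd.mul_right (Dvd.dvd.mul_right (dvd_refl n') q) k
          · rw [hn']
            exact Dvd.dvd.mul_left (Dvd.intro_left _ rfl) 2
        exact (Nat.dvd_add_right h8).mp h9
      have hn'12 : n' = 1 ∨ n' = 2 := (Nat.dvd_prime Nat.prime_two).mp hn'2
      have ht1 : 1 ≤ t := by
        by_contra hcon
        have : t = 0 := by omega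
        rw [this, zero_mul] at ht
        omega
      have hqpos : 0 < q := by omega
      have h10 : 1 + t * q = n' * k + 2 * t := by
        have : q * (1 + t * q) = q * (n' * k + 2 * t) := by
          have h11 : X = (1 + t * q) * q := by rw [hX, ht]
          have h12 : q * (n' * k + 2 * t) + 2 = n' * q * k + 2 * (1 + t * q) := by ring
          have h13 : q * (1 + t * q) = X := by rw [h11]; ring
          rw [← ht] at h12
          omega
        exact Nat.eq_of_mul_eq_mul_left hqpos this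
      rcases numIII q k t n' hk2 (by omega) ht1 hn'12 h10 with h1 | ⟨hq3, hk2', ht3, hn2⟩
      · left
        rw [ht, h1, one_mul, add_comm]
      · right
        have hN10 : N = 10 := by rw [ht, ht3, hq3]
        have h60 : Nat.card H = 60 := by rw [← hNm, hN10, hq3, hk2']
        have ha5 : a₂ = 5 := by
          rw [hN10, hn2] at hn'
          omega
        apply P.a5_of_orbits h60 ωK ωQ ω₂ hall hKQ hne2K.symm hne2.symm
        · rw [hoaK, hk2']
        · rw [hoa, hq3]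
        · exact ha5
        · rw [hfK, hk2']
        · rw [hon, hq3, hk2']
        · rw [hf, ha5]

/-- **Theorem III**: the number of conjugates of a non-normal Sylow member `Q` is `|Q| + 1`,
  unless the group is dihedral or `A₅` -/
theorem thmIII (hnn : ¬ Q.Normal) :
    P.oi (P.orb ⟨Q, hyp.hQ⟩) = Nat.card Q + 1 ∨
    (∃ B ∈ P.mem, (¬ ∃ S : Sylow p H, (S : Subgroup H) = B) ∧ IsCyclic B ∧
      Nonempty (H ≃* DihedralGroup (Nat.card B))) ∨
    Nonempty (H ≃* alternatingGroup (Fin 5)) := by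
  by_cases hk : ∃ y ∈ Subgroup.normalizer (Q : Set H), y ∉ Q
  · rcases hyp.thmIII_k2 hnn hk with h | h
    · exact Or.inl h
    · exact Or.inr (Or.inr h)
  · rcases hyp.thmIII_k1 hnn hk with h | h
    · exact Or.inl h
    · exact Or.inr (Or.inl h)

end PHyp

end Cfsg.Agent.Lib.Helper15.Dk
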