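import Mathlib
import Cfsg.Agent.Lib.Helper15.Torus6
import Cfsg.Agent.Lib.Helper15.SL2Cent
import Cfsg.Agent.Lib.Helper15.PSL2Cover2
import Cfsg.Agent.Lib.Helper15.PSL2ClassOdd1

/-!
# Dickson project, part 5a: characteristic-free facts on centralizers in `SL₂(F)`
-/

set_option autoImplicit false

namespace Cfsg.Agent.Lib.Helper15.Dk

open Matrix
open Cfsg.Agent.Lib.Helper14
open Cfsg.Agent.Lib.Helper15

section general
variable {F : Type*} [Field F]

/-- elements of the torus with the same trace as `g₀`, in any characteristic -/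
theorem trace_eq_cases' (g₀ : SpecialLinearGroup (Fin 2) F)
    (hg₀ : ¬ IsScalar2 (g₀ : Matrix (Fin 2) (Fin 2) F))
    (ht : (g₀ : Matrix (Fin 2) (Fin 2) F).trace ^ 2 ≠ 4) (h : SpecialLinearGroup (Fin 2) F)
    (hh : h ∈ Subgroup.centralizer ({g₀} : Set (SpecialLinearGroup (Fin 2) F)))
    (htr : (h : Matrix (Fin 2) (Fin 2) F).trace = (g₀ : Matrix (Fin 2) (Fin 2) F).trace) :
    h = g₀ ∨ h = g₀⁻¹ := by
  by_cases h2 : (2 : F) = 0
  · obtain ⟨x, y, hxy⟩ := (mem_centralizer_iff_eq_add_smul g₀ hg₀ h).1 hh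
    set s := (g₀ : Matrix (Fin 2) (Fin 2) F).trace with hs
    have h4 : (4 : F) = 0 := by
      have : (4 : F) = 2 * 2 := by norm_num
      rw [this, h2, mul_zero]
    have hs0 : s ≠ 0 := by
      intro h0
      apply ht
      rw [h0, h4]
      ring
    have h0 : (h : Matrix (Fin 2) (Fin 2) F).trace = 2 * x + y * s := by
      rw [hxy, Matrix.trace_add, Matrix.trace_smul, Matrix.trace_smul, Matrix.trace_one, Fintype.card_fin, ← hs]
      simp
      ring
    have h1 : y * s = s := by
      have h1' := htr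
      rw [h0, h2, zero_mul, zero_add] at h1'
      exact h1'
    have hy : y = 1 := by
      have : (y - 1) * s = 0 := by linear_combination h1
      have := (mul_eq_zero.1 this).resolve_right hs0
      linear_combination this
    have h3 : x ^ 2 + s * x * y + y ^ 2 = 1 := by
      have := h.det_coe
      rw [hxy, det_add_smul, g₀.det_coe, ← hs] at this
      linear_combination this
    rw [hy] at h3
    have h5 : x * (x + s) = 0 := by linear_combination h3
    rcases mul_eq_zero.1 h5 with h6 | h6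
    · left
      apply Subtype.ext
      rw [hxy, h6, hy, zero_smul, zero_add, one_smul]
    · right
      have hx : x = s := by
        have : x = -s := by linear_combination h6
        rw [this]
        have : (2 : F) * s = 0 := by rw [h2, zero_mul]
        linear_combination -this
      apply Subtype.ext
      rw [hxy, hx, hy, coe_inv_eq, one_smul, sub_eq_add_neg]
      congr 1
      have : (2 : F) • (g₀ : Matrix (Fin 2) (Fin 2) F) = 0 := by rw [h2, zero_smul]
      have e : (g₀ : Matrix (Fin 2) (Fin 2) F) - (-(g₀ : Matrix (Fin 2) (Fin 2) F)) = (2 : F) • (g₀ : Matrix (Fin 2) (Fin 2) F) := by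
        rw [two_smul]; abel
      rw [this] at e
      exact sub_eq_zero.1 e
  · exact trace_eq_cases h2 g₀ hg₀ ht h hh htr

theorem normalizer_conj_cases' (g₀ : SpecialLinearGroup (Fin 2) F)
    (hg₀ : ¬ IsScalar2 (g₀ : Matrix (Fin 2) (Fin 2) F))
    (ht : (g₀ : Matrix (Fin 2) (Fin 2) F).trace ^ 2 ≠ 4) (n : SpecialLinearGroup (Fin 2) F)
    (hn : n * g₀ * n⁻¹ ∈ Subgroup.centralizer ({g₀} : Set (SpecialLinearGroup (Fin 2) F))) :
    n * g₀ * n⁻¹ = g₀ ∨ n * g₀ * n⁻¹ = g₀⁻¹ :=
  trace_eq_cases' g₀ hg₀ ht _ hn (trace_conj_eq n g₀)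

/-- two elements moving `g₀` into its centralizer but not centralizing it differ by an element of
  the centralizer -/
theorem inv_mul_mem_centralizer (g₀ : SpecialLinearGroup (Fin 2) F)
    (hg₀ : ¬ IsScalar2 (g₀ : Matrix (Fin 2) (Fin 2) F))
    (ht : (g₀ : Matrix (Fin 2) (Fin 2) F).trace ^ 2 ≠ 4) (n n' : SpecialLinearGroup (Fin 2) F)
    (hn : n * g₀ * n⁻¹ ∈ Subgroup.centralizer ({g₀} : Set (SpecialLinearGroup (Fin 2) F)))
    (hn' : n' * g₀ * n'⁻¹ ∈ Subgroup.centralizer ({g₀} : Set (SpecialLinearGroup (Fin 2) F)))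
    (hnc : n ∉ Subgroup.centralizer ({g₀} : Set (SpecialLinearGroup (Fin 2) F)))
    (hnc' : n' ∉ Subgroup.centralizer ({g₀} : Set (SpecialLinearGroup (Fin 2) F))) :
    n⁻¹ * n' ∈ Subgroup.centralizer ({g₀} : Set (SpecialLinearGroup (Fin 2) F)) := by
  have h1 : n * g₀ * n⁻¹ = g₀⁻¹ := by
    rcases normalizer_conj_cases' g₀ hg₀ ht n hn with h | h
    · exact absurd ((mem_centralizer_iff_conj_eq g₀ n).2 h) hnc
    · exact h
  have h2 : n' * g₀ * n'⁻¹ = g₀⁻¹ := by
    rcases normalizer_conj_cases' g₀ hg₀ ht n' hn' with h | h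
    · exact absurd ((mem_centralizer_iff_conj_eq g₀ n').2 h) hnc'
    · exact h
  rw [mem_centralizer_iff_conj_eq]
  calc n⁻¹ * n' * g₀ * (n⁻¹ * n')⁻¹ = n⁻¹ * (n' * g₀ * n'⁻¹) * n := by group
    _ = n⁻¹ * (n * g₀ * n⁻¹) * n := by rw [h2, h1]
    _ = g₀ := by group

/-- the discriminant along the centralizer -/
theorem disc_add_smul (g : SpecialLinearGroup (Fin 2) F) (h : SpecialLinearGroup (Fin 2) F) (x y : F)
    (hxy : (h : Matrix (Fin 2) (Fin 2) F) = x • (1 : Matrix (Fin 2) (Fin 2) F) + y • (g : Matrix (Fin 2) (Fin 2) F)) :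
    (h : Matrix (Fin 2) (Fin 2) F).trace ^ 2 - 4 = y ^ 2 * ((g : Matrix (Fin 2) (Fin 2) F).trace ^ 2 - 4) := by
  set s := (g : Matrix (Fin 2) (Fin 2) F).trace with hs
  have h0 : (h : Matrix (Fin 2) (Fin 2) F).trace = 2 * x + y * s := by
    rw [hxy, Matrix.trace_add, Matrix.trace_smul, Matrix.trace_smul, Matrix.trace_one, Fintype.card_fin, ← hs]
    simp
    ring
  have h3 : x ^ 2 + s * x * y + y ^ 2 = 1 := by
    have := h.det_coe
    rw [hxy, det_add_smul, g.det_coe, ← hs] at this
    linear_combination this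
  rw [h0]
  linear_combination (4 : F) * h3

/-- non-scalar elements of the centralizer of a non-scalar `g` have the same type as `g` -/
theorem trace_sq_eq_four_iff_of_mem (g : SpecialLinearGroup (Fin 2) F)
    (hg : ¬ IsScalar2 (g : Matrix (Fin 2) (Fin 2) F)) (h : SpecialLinearGroup (Fin 2) F)
    (hh : h ∈ Subgroup.centralizer ({g} : Set (SpecialLinearGroup (Fin 2) F)))
    (hns : ¬ IsScalar2 (h : Matrix (Fin 2) (Fin 2) F)) :
    (h : Matrix (Fin 2) (Fin 2) F).trace ^ 2 = 4 ↔ (g : Matrix (Fin 2) (Fin 2) F).trace ^ 2 = 4 := by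
  obtain ⟨x, y, hxy⟩ := (mem_centralizer_iff_eq_add_smul g hg h).1 hh
  have hy : y ≠ 0 := by
    rintro rfl
    apply hns
    rw [hxy, zero_smul, add_zero]
    exact isScalar2_smul_one x
  have hd := disc_add_smul g h x y hxy
  constructor
  · intro h4
    have : y ^ 2 * ((g : Matrix (Fin 2) (Fin 2) F).trace ^ 2 - 4) = 0 := by rw [← hd, h4, sub_self]
    have := (mul_eq_zero.1 this).resolve_left (pow_ne_zero 2 hy)
    linear_combination this
  · intro h4
    rw [h4, sub_self, mul_zero] at hd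
    linear_combination hd

end general

section finite
variable {F : Type*} [Field F] [Fintype F]

/-- the non-split torus is cyclic, in any characteristic -/
theorem isCyclic_nonsplit_torus' (t : F) (ht : ¬ IsSplitTrace t) :
    IsCyclic (Subgroup.centralizer ({comp2SL t} : Set (SpecialLinearGroup (Fin 2) F))) := by
  classical
  have hab := aniso_of_forall_ne t (forall_ne_of_nonsplit t ht)
  have hfact := fact_of_anisotropic t 1 hab
  have hfin : Finite (QuadraticAlgebra F (-1) t) := Finite.of_equiv _ (QuadraticAlgebra.equivProd (-1) t).symm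
  have hfinU : Finite (unitary (QuadraticAlgebra F (-1) t)) := Subtype.finite
  have hcyc : IsCyclic (unitary (QuadraticAlgebra F (-1) t)) :=
    isCyclic_of_injective_ringHom (unitary (QuadraticAlgebra F (-1) t)).subtype Subtype.coe_injective
  obtain ⟨z, hz⟩ := hcyc.exists_generator
  have hord : orderOf (torSL (-1) t z) = Fintype.card F + 1 := by
    rw [orderOf_injective (torSL (-1) t) (torSL_injective (-1) t), orderOf_eq_card_of_forall_mem_zpowers hz,
      card_unitary_quadAlg t 1 hab]
  have hns : ¬ IsScalar2 ((comp2SL t : SpecialLinearGroup (Fin 2) F) : Matrix (Fin 2) (Fin 2) F) := by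
    rw [comp2SL_coe]; exact comp2_not_isScalar2 t 1
  have hmem : torSL (-1) t z ∈ Subgroup.centralizer ({comp2SL t} : Set (SpecialLinearGroup (Fin 2) F)) := by
    rw [mem_centralizer_iff_eq_add_smul _ hns]
    refine ⟨z.1.re, z.1.im, ?_⟩
    show torMat (-1) t z.1 = _
    rw [comp2SL_coe]
    apply mat2_ext <;> simp [torMat, comp2] <;> ring
  have hcard : Nat.card (Subgroup.centralizer ({comp2SL t} : Set (SpecialLinearGroup (Fin 2) F))) = Fintype.card F + 1 := by
    apply card_centralizer_nonsplit_odd _ hns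
    rw [comp2SL_coe, comp2_trace]
    exact ht
  apply isCyclic_of_orderOf_eq_card (⟨torSL (-1) t z, hmem⟩ : Subgroup.centralizer ({comp2SL t} : Set (SpecialLinearGroup (Fin 2) F)))
  rw [hcard, ← hord]
  exact Subgroup.orderOf_mk _ hmem

/-- tori are cyclic, in any characteristic -/
theorem isCyclic_torus' (x : SpecialLinearGroup (Fin 2) F)
    (hns : ¬ IsScalar2 (x : Matrix (Fin 2) (Fin 2) F))
    (ht : (x : Matrix (Fin 2) (Fin 2) F).trace ^ 2 ≠ 4) :
    IsCyclic (Subgroup.centralizer ({x} : Set (SpecialLinearGroup (Fin 2) F))) := by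
  by_cases hs : IsSplitTrace (x : Matrix (Fin 2) (Fin 2) F).trace
  · obtain ⟨a, ha0, hsa⟩ := hs
    have hne : a ≠ a⁻¹ := by
      intro h
      apply ht
      have h1 : a * a = 1 := by
        nth_rewrite 2 [h]
        exact mul_inv_cancel₀ ha0
      rw [hsa, ← h]
      linear_combination 4 * h1
    have htr : (x : Matrix (Fin 2) (Fin 2) F).trace =
        ((diagSL a ha0 : SpecialLinearGroup (Fin 2) F) : Matrix (Fin 2) (Fin 2) F).trace := by
      rw [diagSL_trace, hsa]
    have ht' : ((diagSL a ha0 : SpecialLinearGroup (Fin 2) F) : Matrix (Fin 2) (Fin 2) F).trace ^ 2 ≠ 4 := by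
      rw [← htr]; exact ht
    exact isCyclic_centralizer_of_isConj (isConj_of_trace_eq (diagSL a ha0) x htr ht') (isCyclic_split_torus a ha0 hne)
  · have hc := isConj_comp2SL x hns ht
    exact isCyclic_centralizer_of_isConj hc.symm (isCyclic_nonsplit_torus' _ hs)

/-- the order of a torus -/
theorem card_torus (x : SpecialLinearGroup (Fin 2) F)
    (hns : ¬ IsScalar2 (x : Matrix (Fin 2) (Fin 2) F))
    (ht : (x : Matrix (Fin 2) (Fin 2) F).trace ^ 2 ≠ 4) :
    Nat.card (Subgroup.centralizer ({x} : Set (SpecialLinearGroup (Fin 2) F))) = Fintype.card F - 1 ∨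
    Nat.card (Subgroup.centralizer ({x} : Set (SpecialLinearGroup (Fin 2) F))) = Fintype.card F + 1 := by
  by_cases hs : IsSplitTrace (x : Matrix (Fin 2) (Fin 2) F).trace
  · exact Or.inl (card_centralizer_split_odd x hns ht hs)
  · exact Or.inr (card_centralizer_nonsplit_odd x hns hs)

end finite

end Cfsg.Agent.Lib.Helper15.Dk
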