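import Mathlib
import Cfsg.Agent.Lib.Helper15.Dk4
import Cfsg.Agent.Lib.Helper15.Dk5a
import Cfsg.Agent.Lib.Helper15.Klein2
import Cfsg.Agent.Lib.Helper15.A4Conv

/-!
# Dickson project, part 5b: the partition of a subgroup of `PSL₂(F)` by the images of the
centralizers of `SL₂(F)`
-/

set_option autoImplicit false

open scoped Pointwise

namespace Cfsg.Agent.Lib.Helper15.Dk

open Matrix
open Cfsg.Agent.Lib.Helper14
open Cfsg.Agent.Lib.Helper15

section general
variable {F : Type*} [Field F]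

theorem toPSL2_eq_iff' (g h : SpecialLinearGroup (Fin 2) F) :
    toPSL2 F g = toPSL2 F h ↔ g⁻¹ * h ∈ Subgroup.center (SpecialLinearGroup (Fin 2) F) := by
  rw [toPSL2, QuotientGroup.mk'_apply, QuotientGroup.mk'_apply, QuotientGroup.eq]

theorem toPSL2_eq_one_iff' (g : SpecialLinearGroup (Fin 2) F) :
    toPSL2 F g = 1 ↔ IsScalar2 (g : Matrix (Fin 2) (Fin 2) F) := by
  rw [toPSL2, QuotientGroup.mk'_apply, QuotientGroup.eq_one_iff]
  exact ⟨isScalar2_of_mem_center g, isScalar2_mem_center g⟩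

/-- the image in `PSL₂` of the centralizer of `g` -/
def Tor (g : SpecialLinearGroup (Fin 2) F) : Subgroup (ProjectiveSpecialLinearGroup (Fin 2) F) :=
  (Subgroup.centralizer ({g} : Set (SpecialLinearGroup (Fin 2) F))).map (toPSL2 F)

theorem mem_Tor_iff (g k : SpecialLinearGroup (Fin 2) F) :
    toPSL2 F k ∈ Tor g ↔ k ∈ Subgroup.centralizer ({g} : Set (SpecialLinearGroup (Fin 2) F)) := by
  constructor
  · rintro ⟨k', hk', hkk'⟩
    rw [toPSL2_eq_iff'] at hkk'
    have h1 := Subgroup.center_le_centralizer ({g} : Set (SpecialLinearGroup (Fin 2) F)) hkk'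
    have : k = k' * (k'⁻¹ * k) := by group
    rw [this]
    exact Subgroup.mul_mem _ hk' h1
  · intro hk
    exact ⟨k, hk, rfl⟩

theorem self_mem_Tor (g : SpecialLinearGroup (Fin 2) F) : toPSL2 F g ∈ Tor g :=
  (mem_Tor_iff g g).2 (self_mem_centralizer g)

theorem centralizer_conj (n g : SpecialLinearGroup (Fin 2) F) (k : SpecialLinearGroup (Fin 2) F) :
    k ∈ Subgroup.centralizer ({n * g * n⁻¹} : Set (SpecialLinearGroup (Fin 2) F)) ↔
      n⁻¹ * k * n ∈ Subgroup.centralizer ({g} : Set (SpecialLinearGroup (Fin 2) F)) := by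
  rw [Subgroup.mem_centralizer_singleton_iff, Subgroup.mem_centralizer_singleton_iff]
  constructor
  · intro h
    have : n⁻¹ * (n * g * n⁻¹ * k) * n = n⁻¹ * (k * (n * g * n⁻¹)) * n := by rw [h]
    have e1 : n⁻¹ * (n * g * n⁻¹ * k) * n = g * (n⁻¹ * k * n) := by group
    have e2 : n⁻¹ * (k * (n * g * n⁻¹)) * n = n⁻¹ * k * n * g := by group
    rw [e1, e2] at this
    exact this.symm
  · intro h
    have : n * (g * (n⁻¹ * k * n)) * n⁻¹ = n * (n⁻¹ * k * n * g) * n⁻¹ := by rw [h]
    have e1 : n * (g * (n⁻¹ * k * n)) * n⁻¹ = n * g * n⁻¹ * k := by group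
    have e2 : n * (n⁻¹ * k * n * g) * n⁻¹ = k * (n * g * n⁻¹) := by group
    rw [e1, e2] at this
    exact this.symm

theorem Tor_conj (n g : SpecialLinearGroup (Fin 2) F) :
    MulAut.conj (toPSL2 F n) • Tor g = Tor (n * g * n⁻¹) := by
  ext x
  obtain ⟨k, rfl⟩ := toPSL2_surjective x
  rw [mem_conj_smul, ← map_inv, ← map_mul, ← map_mul, mem_Tor_iff, mem_Tor_iff, centralizer_conj]

theorem Tor_eq_of_mem (g : SpecialLinearGroup (Fin 2) F)
    (hg : ¬ IsScalar2 (g : Matrix (Fin 2) (Fin 2) F)) (k : SpecialLinearGroup (Fin 2) F)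
    (hk : toPSL2 F k ∈ Tor g) (hk1 : ¬ IsScalar2 (k : Matrix (Fin 2) (Fin 2) F)) : Tor k = Tor g := by
  rw [mem_Tor_iff] at hk
  unfold Tor
  rw [centralizer_eq_of_mem g hg k hk hk1]

omit [Field F] in
theorem subgroupOf_conj {G : Type*} [Group G] (H K : Subgroup G) (h : ↥H) :
    MulAut.conj h • (K.subgroupOf H) = (MulAut.conj (h : G) • K).subgroupOf H := by
  ext x
  rw [mem_conj_smul, Subgroup.mem_subgroupOf, Subgroup.mem_subgroupOf, mem_conj_smul]
  rfl

/-- the partition of a subgroup of `PSL₂(F)` -/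
def partH (H : Subgroup (ProjectiveSpecialLinearGroup (Fin 2) F)) : Part ↥H where
  mem := {A | ∃ g : SpecialLinearGroup (Fin 2) F, ¬ IsScalar2 (g : Matrix (Fin 2) (Fin 2) F) ∧
    toPSL2 F g ∈ H ∧ A = (Tor g).subgroupOf H}
  ne_bot := by
    rintro A ⟨g, hg, hgH, rfl⟩ h
    have h1 : (⟨toPSL2 F g, hgH⟩ : ↥H) ∈ (Tor g).subgroupOf H := by
      rw [Subgroup.mem_subgroupOf]
      exact self_mem_Tor g
    rw [h, Subgroup.mem_bot] at h1
    have h2 : toPSL2 F g = 1 := congrArg Subtype.val h1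
    exact hg ((toPSL2_eq_one_iff' g).1 h2)
  cover := by
    intro x hx
    obtain ⟨g, hg⟩ := toPSL2_surjective (x : ProjectiveSpecialLinearGroup (Fin 2) F)
    refine ⟨(Tor g).subgroupOf H, ⟨g, ?_, ?_, rfl⟩, ?_⟩
    · intro hs
      apply hx
      apply Subtype.ext
      rw [← hg]
      exact (toPSL2_eq_one_iff' g).2 hs
    · rw [hg]; exact x.2
    · rw [Subgroup.mem_subgroupOf, ← hg]
      exact self_mem_Tor g
  disj := by
    rintro A ⟨g, hg, hgH, rfl⟩ B ⟨g', hg', hgH', rfl⟩ x hx hxA hxB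
    rw [Subgroup.mem_subgroupOf] at hxA hxB
    obtain ⟨k, hk⟩ := toPSL2_surjective (x : ProjectiveSpecialLinearGroup (Fin 2) F)
    have hk1 : ¬ IsScalar2 (k : Matrix (Fin 2) (Fin 2) F) := by
      intro hs
      apply hx
      apply Subtype.ext
      rw [← hk]
      exact (toPSL2_eq_one_iff' k).2 hs
    rw [← hk] at hxA hxB
    rw [← Tor_eq_of_mem g hg k hxA hk1, ← Tor_eq_of_mem g' hg' k hxB hk1]
  conj_mem := by
    rintro A ⟨g, hg, hgH, rfl⟩ h
    obtain ⟨n, hn⟩ := toPSL2_surjective (h : ProjectiveSpecialLinearGroup (Fin 2) F)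
    refine ⟨n * g * n⁻¹, ?_, ?_, ?_⟩
    · intro hs
      apply hg
      have h1 : toPSL2 F (n * g * n⁻¹) = 1 := (toPSL2_eq_one_iff' _).2 hs
      rw [map_mul, map_mul, map_inv] at h1
      apply (toPSL2_eq_one_iff' g).1
      have : toPSL2 F g = (toPSL2 F n)⁻¹ * (toPSL2 F n * toPSL2 F g * (toPSL2 F n)⁻¹) * toPSL2 F n := by group
      rw [this, h1]
      group
    · rw [map_mul, map_mul, map_inv, hn]
      exact H.mul_mem (H.mul_mem h.2 hgH) (H.inv_mem h.2)
    · rw [subgroupOf_conj, ← hn, Tor_conj]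

theorem mem_partH_iff (H : Subgroup (ProjectiveSpecialLinearGroup (Fin 2) F)) (A : Subgroup ↥H) :
    A ∈ (partH H).mem ↔ ∃ g : SpecialLinearGroup (Fin 2) F, ¬ IsScalar2 (g : Matrix (Fin 2) (Fin 2) F) ∧
      toPSL2 F g ∈ H ∧ A = (Tor g).subgroupOf H := Iff.rfl

theorem card_Tor_mul (g : SpecialLinearGroup (Fin 2) F) :
    Nat.card (Tor g) * Nat.card (Subgroup.center (SpecialLinearGroup (Fin 2) F)) =
      Nat.card (Subgroup.centralizer ({g} : Set (SpecialLinearGroup (Fin 2) F))) := by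
  set C := Subgroup.centralizer ({g} : Set (SpecialLinearGroup (Fin 2) F)) with hC
  let φ : ↥C →* ProjectiveSpecialLinearGroup (Fin 2) F := (toPSL2 F).comp C.subtype
  have hr : φ.range = Tor g := by
    rw [MonoidHom.range_comp, Subgroup.range_subtype]
    rfl
  have hk : φ.ker = (Subgroup.center (SpecialLinearGroup (Fin 2) F)).subgroupOf C := by
    rw [← MonoidHom.comap_ker]
    unfold Subgroup.subgroupOf
    congr 1
    exact QuotientGroup.ker_mk' _
  have h1 := Subgroup.index_mul_card φ.ker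
  rw [Subgroup.index_ker, hr, hk,
    Nat.card_congr (Subgroup.subgroupOfEquivOfLe (Subgroup.center_le_centralizer _)).toEquiv] at h1
  exact h1

omit [Field F] in
theorem card_le_two_mul {G : Type*} [Group G] [Finite G] (A N : Subgroup G)
    (h : ∀ y ∈ N, ∀ y' ∈ N, y ∉ A → y' ∉ A → y⁻¹ * y' ∈ A) : Nat.card N ≤ 2 * Nat.card A := by
  classical
  by_cases hN : ∃ y₀ ∈ N, y₀ ∉ A
  · obtain ⟨y₀, hy₀N, hy₀A⟩ := hN
    let f : ↥N → Bool × ↥A := fun y =>
      if hy : (y : G) ∈ A then (true, ⟨y, hy⟩) else (false, ⟨y₀⁻¹ * y, h y₀ hy₀N y y.2 hy₀A hy⟩)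
    have hf : Function.Injective f := by
      intro y y' hyy'
      by_cases hy : (y : G) ∈ A <;> by_cases hy' : (y' : G) ∈ A
      · simp only [f, hy, hy', dif_pos] at hyy'
        apply Subtype.ext
        exact congrArg (fun z : Bool × ↥A => (z.2 : G)) hyy'
      · simp only [f, hy, hy', dif_pos, dif_neg, not_false_eq_true] at hyy'
        exact absurd (congrArg Prod.fst hyy') (by simp)
      · simp only [f, hy, hy', dif_pos, dif_neg, not_false_eq_true] at hyy'
        exact absurd (congrArg Prod.fst hyy') (by simp)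
      · simp only [f, hy, hy', dif_neg, not_false_eq_true] at hyy'
        apply Subtype.ext
        have := congrArg (fun z : Bool × ↥A => (z.2 : G)) hyy'
        exact mul_left_cancel this
    have := Nat.card_le_card_of_injective f hf
    rw [Nat.card_prod, Nat.card_eq_fintype_card (α := Bool), Fintype.card_bool] at this
    exact this
  · push Not at hN
    have : Nat.card N ≤ Nat.card A := Subgroup.card_le_of_le hN
    omega

variable [Fintype F]

theorem card_center_eq_gcd :
    Nat.card (Subgroup.center (SpecialLinearGroup (Fin 2) F)) = Nat.gcd 2 (Fintype.card F - 1) := by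
  have hq : 1 < Fintype.card F := Fintype.one_lt_card
  by_cases h2 : (2 : F) = 0
  · rw [center_SL2_eq_bot_of_two h2, Subgroup.card_bot]
    have : 2 ∣ Fintype.card F := two_dvd_card_iff.2 h2
    symm
    rw [← Nat.coprime_iff_gcd_eq_one, Nat.coprime_two_left]
    rw [Nat.odd_iff]
    omega
  · rw [card_center_SL2 h2]
    have : ¬ 2 ∣ Fintype.card F := fun h => h2 (two_dvd_card_iff.1 h)
    symm
    apply Nat.gcd_eq_left
    omega

/-- the members of semisimple type -/
theorem semisimple_member (H : Subgroup (ProjectiveSpecialLinearGroup (Fin 2) F))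
    (g : SpecialLinearGroup (Fin 2) F) (hg : ¬ IsScalar2 (g : Matrix (Fin 2) (Fin 2) F))
    (ht : (g : Matrix (Fin 2) (Fin 2) F).trace ^ 2 ≠ 4) (hgH : toPSL2 F g ∈ H) :
    IsCyclic ((Tor g).subgroupOf H) ∧
    (Nat.card ((Tor g).subgroupOf H) ∣ (Fintype.card F + 1) / Nat.gcd 2 (Fintype.card F - 1) ∨
      Nat.card ((Tor g).subgroupOf H) ∣ (Fintype.card F - 1) / Nat.gcd 2 (Fintype.card F - 1)) ∧
    Nat.card (Subgroup.normalizer (((Tor g).subgroupOf H : Subgroup ↥H) : Set ↥H)) ≤
      2 * Nat.card ((Tor g).subgroupOf H) := by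
  have hcycC := isCyclic_torus' g hg ht
  have hcycT : IsCyclic (Tor g) :=
    isCyclic_of_surjective ((toPSL2 F).subgroupMap (Subgroup.centralizer ({g} : Set (SpecialLinearGroup (Fin 2) F))))
      (MonoidHom.subgroupMap_surjective _ _)
  let ι : ↥((Tor g).subgroupOf H) →* ↥(Tor g) :=
    { toFun := fun x => ⟨((x : ↥H) : ProjectiveSpecialLinearGroup (Fin 2) F), Subgroup.mem_subgroupOf.1 x.2⟩
      map_one' := rfl
      map_mul' := fun x y => rfl }
  have hι : Function.Injective ι := by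
    intro x y hxy
    apply Subtype.ext
    apply Subtype.ext
    have := congrArg Subtype.val hxy
    exact this
  refine ⟨isCyclic_of_injective ι hι, ?_, ?_⟩
  · have hd : Nat.card ((Tor g).subgroupOf H) ∣ Nat.card (Tor g) := Subgroup.card_dvd_of_injective ι hι
    have hm := card_Tor_mul g
    rw [card_center_eq_gcd] at hm
    have hpos : 0 < Nat.gcd 2 (Fintype.card F - 1) := Nat.gcd_pos_of_pos_left _ (by norm_num)
    rcases card_torus g hg ht with h1 | h1
    · right
      rw [h1] at hm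
      rw [Nat.div_eq_of_eq_mul_left hpos hm.symm]
      exact hd
    · left
      rw [h1] at hm
      rw [Nat.div_eq_of_eq_mul_left hpos hm.symm]
      exact hd
  · apply card_le_two_mul
    intro y hy y' hy' hyA hyA'
    obtain ⟨n, hn⟩ := toPSL2_surjective ((y : ↥H) : ProjectiveSpecialLinearGroup (Fin 2) F)
    obtain ⟨n', hn'⟩ := toPSL2_surjective ((y' : ↥H) : ProjectiveSpecialLinearGroup (Fin 2) F)
    have hx₀ : (⟨toPSL2 F g, hgH⟩ : ↥H) ∈ (Tor g).subgroupOf H := by
      rw [Subgroup.mem_subgroupOf]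
      exact self_mem_Tor g
    have key : ∀ (z : ↥H) (m : SpecialLinearGroup (Fin 2) F),
        toPSL2 F m = (z : ProjectiveSpecialLinearGroup (Fin 2) F) →
        z ∈ Subgroup.normalizer (((Tor g).subgroupOf H : Subgroup ↥H) : Set ↥H) →
        m * g * m⁻¹ ∈ Subgroup.centralizer ({g} : Set (SpecialLinearGroup (Fin 2) F)) := by
      intro z m hm hz
      have h1 := (Subgroup.mem_normalizer_iff.1 hz ⟨toPSL2 F g, hgH⟩).1 hx₀
      rw [Subgroup.mem_subgroupOf] at h1
      rw [← mem_Tor_iff, map_mul, map_mul, map_inv, hm]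
      exact h1
    have key2 : ∀ (z : ↥H) (m : SpecialLinearGroup (Fin 2) F),
        toPSL2 F m = (z : ProjectiveSpecialLinearGroup (Fin 2) F) →
        z ∉ (Tor g).subgroupOf H →
        m ∉ Subgroup.centralizer ({g} : Set (SpecialLinearGroup (Fin 2) F)) := by
      intro z m hm hz hmc
      apply hz
      rw [Subgroup.mem_subgroupOf, ← hm, mem_Tor_iff]
      exact hmc
    have h3 := inv_mul_mem_centralizer g hg ht n n' (key y n hn hy) (key y' n' hn' hy')
      (key2 y n hn hyA) (key2 y' n' hn' hyA')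
    rw [Subgroup.mem_subgroupOf]
    rw [← mem_Tor_iff, map_mul, map_inv, hn, hn'] at h3
    exact h3

end general

end Cfsg.Agent.Lib.Helper15.Dk
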