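import Mathlib
import Cfsg.Agent.Lib.Helper15.Dk5b

/-!
# Dickson project, part 5c: the unipotent members
-/

set_option autoImplicit false

open scoped Pointwise

namespace Cfsg.Agent.Lib.Helper15.Dk

open Matrix
open Cfsg.Agent.Lib.Helper14
open Cfsg.Agent.Lib.Helper15

section general
variable {F : Type*} [Field F]

/-- the upper unitriangular matrices -/
abbrev uu (x : F) : SpecialLinearGroup (Fin 2) F := upperSL 1 x (one_mul 1)

theorem inv_apply_00 (m : SpecialLinearGroup (Fin 2) F) :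
    ((m⁻¹ : SpecialLinearGroup (Fin 2) F) : Matrix (Fin 2) (Fin 2) F) 0 0 = (m : Matrix (Fin 2) (Fin 2) F) 1 1 := by
  rw [Matrix.SpecialLinearGroup.SL2_inv_expl]; rfl

theorem inv_apply_01 (m : SpecialLinearGroup (Fin 2) F) :
    ((m⁻¹ : SpecialLinearGroup (Fin 2) F) : Matrix (Fin 2) (Fin 2) F) 0 1 = -(m : Matrix (Fin 2) (Fin 2) F) 0 1 := by
  rw [Matrix.SpecialLinearGroup.SL2_inv_expl]; rfl

theorem inv_apply_10 (m : SpecialLinearGroup (Fin 2) F) :
    ((m⁻¹ : SpecialLinearGroup (Fin 2) F) : Matrix (Fin 2) (Fin 2) F) 1 0 = -(m : Matrix (Fin 2) (Fin 2) F) 1 0 := by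
  rw [Matrix.SpecialLinearGroup.SL2_inv_expl]; rfl

theorem inv_apply_11 (m : SpecialLinearGroup (Fin 2) F) :
    ((m⁻¹ : SpecialLinearGroup (Fin 2) F) : Matrix (Fin 2) (Fin 2) F) 1 1 = (m : Matrix (Fin 2) (Fin 2) F) 0 0 := by
  rw [Matrix.SpecialLinearGroup.SL2_inv_expl]; rfl

theorem det_eq (m : SpecialLinearGroup (Fin 2) F) :
    (m : Matrix (Fin 2) (Fin 2) F) 0 0 * (m : Matrix (Fin 2) (Fin 2) F) 1 1 -
      (m : Matrix (Fin 2) (Fin 2) F) 0 1 * (m : Matrix (Fin 2) (Fin 2) F) 1 0 = 1 := by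
  have := m.det_coe
  rw [Matrix.det_fin_two] at this
  exact this

/-- upper unitriangular up to sign -/
def IsUT (k : SpecialLinearGroup (Fin 2) F) : Prop :=
  (k : Matrix (Fin 2) (Fin 2) F) 1 0 = 0 ∧ (k : Matrix (Fin 2) (Fin 2) F) 0 0 = (k : Matrix (Fin 2) (Fin 2) F) 1 1

/-- upper triangular -/
def IsB (k : SpecialLinearGroup (Fin 2) F) : Prop := (k : Matrix (Fin 2) (Fin 2) F) 1 0 = 0

theorem IsUT.isB {k : SpecialLinearGroup (Fin 2) F} (h : IsUT k) : IsB k := h.1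

theorem mem_centralizer_uu_iff (b : F) (hb : b ≠ 0) (k : SpecialLinearGroup (Fin 2) F) :
    k ∈ Subgroup.centralizer ({uu b} : Set (SpecialLinearGroup (Fin 2) F)) ↔ IsUT k := by
  rw [Subgroup.mem_centralizer_singleton_iff]
  constructor
  · intro h
    have h1 : (uu b : Matrix (Fin 2) (Fin 2) F) * (k : Matrix (Fin 2) (Fin 2) F) =
        (k : Matrix (Fin 2) (Fin 2) F) * (uu b : Matrix (Fin 2) (Fin 2) F) := (congrArg Subtype.val h).symm
    have e00 := congrFun (congrFun h1 0) 0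
    have e01 := congrFun (congrFun h1 0) 1
    simp [uu, Matrix.mul_apply, Fin.sum_univ_two] at e00 e01
    refine ⟨?_, ?_⟩
    · exact e00.resolve_left hb
    · have : b * ((k : Matrix (Fin 2) (Fin 2) F) 1 1 - (k : Matrix (Fin 2) (Fin 2) F) 0 0) = 0 := by
        linear_combination e01
      have := (mul_eq_zero.1 this).resolve_left hb
      linear_combination -this
  · rintro ⟨h10, h00⟩
    apply Subtype.ext
    rw [Matrix.SpecialLinearGroup.coe_mul, Matrix.SpecialLinearGroup.coe_mul]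
    apply mat2_ext <;> simp [uu, Matrix.mul_apply, Fin.sum_univ_two, h10, h00]
    ring

theorem uu_not_scalar (b : F) (hb : b ≠ 0) : ¬ IsScalar2 ((uu b : SpecialLinearGroup (Fin 2) F) : Matrix (Fin 2) (Fin 2) F) := by
  rintro ⟨h01, -, -⟩
  apply hb
  simpa [uu] using h01

theorem isUT_uu (x : F) : IsUT (uu x) := by
  constructor <;> simp [uu]

theorem conj_uu_10 (m : SpecialLinearGroup (Fin 2) F) (b : F) :
    ((m * uu b * m⁻¹ : SpecialLinearGroup (Fin 2) F) : Matrix (Fin 2) (Fin 2) F) 1 0 =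
      -((m : Matrix (Fin 2) (Fin 2) F) 1 0) ^ 2 * b := by
  rw [Matrix.SpecialLinearGroup.coe_mul, Matrix.SpecialLinearGroup.coe_mul]
  simp [uu, Matrix.mul_apply, Fin.sum_univ_two, Matrix.adjugate_fin_two]
  ring

theorem isB_of_conj_uu (m : SpecialLinearGroup (Fin 2) F) (b : F) (hb : b ≠ 0)
    (h : IsUT (m * uu b * m⁻¹)) : IsB m := by
  have h1 := h.1
  rw [conj_uu_10] at h1
  have : ((m : Matrix (Fin 2) (Fin 2) F) 1 0) ^ 2 = 0 := by
    have h2 : ((m : Matrix (Fin 2) (Fin 2) F) 1 0) ^ 2 * b = 0 := by linear_combination -h1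
    exact (mul_eq_zero.1 h2).resolve_right hb
  exact pow_eq_zero_iff (two_ne_zero) |>.mp this

theorem IsB.mul {m m' : SpecialLinearGroup (Fin 2) F} (h : IsB m) (h' : IsB m') : IsB (m * m') := by
  unfold IsB at *
  rw [Matrix.SpecialLinearGroup.coe_mul]
  simp [Matrix.mul_apply, Fin.sum_univ_two, h, h']

theorem IsB.inv {m : SpecialLinearGroup (Fin 2) F} (h : IsB m) : IsB m⁻¹ := by
  unfold IsB at *
  rw [inv_apply_10, h, neg_zero]

theorem IsB.mul_00 {m m' : SpecialLinearGroup (Fin 2) F} (h' : IsB m') :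
    ((m * m' : SpecialLinearGroup (Fin 2) F) : Matrix (Fin 2) (Fin 2) F) 0 0 =
      (m : Matrix (Fin 2) (Fin 2) F) 0 0 * (m' : Matrix (Fin 2) (Fin 2) F) 0 0 := by
  unfold IsB at *
  rw [Matrix.SpecialLinearGroup.coe_mul]
  simp [Matrix.mul_apply, Fin.sum_univ_two, h']

theorem IsB.det {m : SpecialLinearGroup (Fin 2) F} (h : IsB m) :
    (m : Matrix (Fin 2) (Fin 2) F) 0 0 * (m : Matrix (Fin 2) (Fin 2) F) 1 1 = 1 := by
  have := det_eq m
  unfold IsB at h
  rw [h, mul_zero, sub_zero] at this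
  exact this

theorem IsUT.conj {m k : SpecialLinearGroup (Fin 2) F} (hm : IsB m) (hk : IsUT k) : IsUT (m * k * m⁻¹) := by
  have hd := hm.det
  unfold IsB at hm
  obtain ⟨h10, h00⟩ := hk
  constructor
  · rw [Matrix.SpecialLinearGroup.coe_mul, Matrix.SpecialLinearGroup.coe_mul]
    simp [Matrix.mul_apply, Fin.sum_univ_two, Matrix.adjugate_fin_two, hm, h10]
  · rw [Matrix.SpecialLinearGroup.coe_mul, Matrix.SpecialLinearGroup.coe_mul]
    simp [Matrix.mul_apply, Fin.sum_univ_two, Matrix.adjugate_fin_two, hm, h10, h00]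
    ring

theorem isB_of_isScalar2 {z : SpecialLinearGroup (Fin 2) F} (h : IsScalar2 (z : Matrix (Fin 2) (Fin 2) F)) : IsB z :=
  h.2.1

theorem IsUT.sq {k : SpecialLinearGroup (Fin 2) F} (hk : IsUT k) :
    (k : Matrix (Fin 2) (Fin 2) F) 0 0 * (k : Matrix (Fin 2) (Fin 2) F) 0 0 = 1 := by
  have := hk.isB.det
  rw [← hk.2] at this
  exact this

/-- the image of the upper unitriangular group in `PSL₂` -/
def Ubar (F : Type*) [Field F] : Subgroup (ProjectiveSpecialLinearGroup (Fin 2) F) := Tor (uu (1 : F))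

theorem mem_Ubar_iff (k : SpecialLinearGroup (Fin 2) F) : toPSL2 F k ∈ Ubar F ↔ IsUT k := by
  unfold Ubar
  rw [mem_Tor_iff, mem_centralizer_uu_iff 1 one_ne_zero]

theorem Tor_uu (b : F) (hb : b ≠ 0) : Tor (uu b) = Ubar F := by
  apply Tor_eq_of_mem _ (uu_not_scalar 1 one_ne_zero) _ _ (uu_not_scalar b hb)
  exact (mem_Ubar_iff _).2 (isUT_uu b)

theorem Tor_of_isUT (k : SpecialLinearGroup (Fin 2) F) (hk : IsUT k)
    (hk1 : ¬ IsScalar2 (k : Matrix (Fin 2) (Fin 2) F)) : Tor k = Ubar F :=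
  Tor_eq_of_mem _ (uu_not_scalar 1 one_ne_zero) _ ((mem_Ubar_iff k).2 hk) hk1

end general

section finite
variable {F : Type*} [Field F] [Fintype F]

theorem card_center_eq_card_sq :
    Nat.card (Subgroup.center (SpecialLinearGroup (Fin 2) F)) = Nat.card {p : F // p * p = 1} := by
  by_cases h2 : (2 : F) = 0
  · have hc : CharP F 2 := CharTwo.of_one_ne_zero_of_two_eq_zero one_ne_zero h2
    rw [center_SL2_eq_bot_of_two h2, Subgroup.card_bot, card_sq_eq_one_char_two]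
  · rw [card_center_SL2 h2, card_sq_eq_one_odd h2]

theorem card_Ubar : Nat.card (Ubar F) = Fintype.card F := by
  have h1 := card_Tor_mul (uu (1 : F))
  rw [card_centralizer_upperSL 1 1 (one_mul 1) one_ne_zero, ← card_center_eq_card_sq] at h1
  have hpos : 0 < Nat.card (Subgroup.center (SpecialLinearGroup (Fin 2) F)) := Nat.card_pos
  rw [mul_comm (Nat.card (Subgroup.center (SpecialLinearGroup (Fin 2) F)))] at h1
  exact Nat.eq_of_mul_eq_mul_right hpos h1

theorem card_PSL2_mul :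
    Nat.card (ProjectiveSpecialLinearGroup (Fin 2) F) *
      Nat.card (Subgroup.center (SpecialLinearGroup (Fin 2) F)) =
      Fintype.card F * (Fintype.card F ^ 2 - 1) := by
  rw [← Cfsg.Agent.Lib.Helper14.card_SL2]
  exact (Subgroup.card_eq_card_quotient_mul_card_subgroup _).symm

variable (p : ℕ) [Fact p.Prime] [CharP F p]

theorem isPGroup_Ubar : IsPGroup p (Ubar F) := by
  obtain ⟨n, -, hn⟩ := FiniteField.card F p
  apply IsPGroup.of_card (n := n)
  rw [card_Ubar, hn]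

theorem not_dvd_index_Ubar : ¬ p ∣ (Ubar F).index := by
  intro hdvd
  obtain ⟨n, -, hn⟩ := FiniteField.card F p
  have h1 := Subgroup.index_mul_card (Ubar F)
  rw [card_Ubar] at h1
  have h2 := card_PSL2_mul (F := F)
  rw [← h1] at h2
  have hq : 0 < Fintype.card F := Fintype.card_pos
  have h3 : (Ubar F).index * Nat.card (Subgroup.center (SpecialLinearGroup (Fin 2) F)) =
      Fintype.card F ^ 2 - 1 := by
    have : Fintype.card F * ((Ubar F).index * Nat.card (Subgroup.center (SpecialLinearGroup (Fin 2) F))) =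
        Fintype.card F * (Fintype.card F ^ 2 - 1) := by
      rw [← h2]; ring
    exact Nat.eq_of_mul_eq_mul_left hq this
  have h4 : p ∣ Fintype.card F ^ 2 - 1 := by
    rw [← h3]
    exact Dvd.dvd.mul_right hdvd _
  have h5 : p ∣ Fintype.card F ^ 2 := by
    rw [hn, ← pow_mul]
    exact dvd_pow_self p (by positivity)
  have h6 : 1 ≤ Fintype.card F ^ 2 := Nat.one_le_pow _ _ hq
  have h7 : p ∣ 1 := by
    have := (Nat.dvd_sub h5 h4)
    rwa [Nat.sub_sub_self h6] at this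
  exact (Fact.out : p.Prime).one_lt.ne' (Nat.dvd_one.1 h7)

/-- the Sylow subgroup `Ū` of `PSL₂(F)` -/
noncomputable def UbarSylow : Sylow p (ProjectiveSpecialLinearGroup (Fin 2) F) :=
  (isPGroup_Ubar p).toSylow (not_dvd_index_Ubar p)

theorem coe_UbarSylow : ((UbarSylow p : Sylow p (ProjectiveSpecialLinearGroup (Fin 2) F)) :
    Subgroup (ProjectiveSpecialLinearGroup (Fin 2) F)) = Ubar F :=
  IsPGroup.toSylow_coe _ _

/-- every `p`-subgroup of `PSL₂(F)` lies in some `Tor g` with `g` non-scalar of unipotent type -/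
theorem exists_Tor_of_isPGroup (S : Subgroup (ProjectiveSpecialLinearGroup (Fin 2) F)) (hS : IsPGroup p S) :
    ∃ g : SpecialLinearGroup (Fin 2) F, ¬ IsScalar2 (g : Matrix (Fin 2) (Fin 2) F) ∧ S ≤ Tor g := by
  obtain ⟨S₂, hS₂⟩ := hS.exists_le_sylow
  obtain ⟨c, hc⟩ := MulAction.exists_smul_eq (ProjectiveSpecialLinearGroup (Fin 2) F) (UbarSylow p) S₂
  obtain ⟨n, rfl⟩ := toPSL2_surjective c
  refine ⟨n * uu 1 * n⁻¹, ?_, ?_⟩
  · intro hs
    apply uu_not_scalar (1 : F) one_ne_zero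
    have h1 : toPSL2 F (n * uu 1 * n⁻¹) = 1 := (toPSL2_eq_one_iff' _).2 hs
    rw [map_mul, map_mul, map_inv] at h1
    apply (toPSL2_eq_one_iff' _).1
    have : toPSL2 F (uu 1) = (toPSL2 F n)⁻¹ * (toPSL2 F n * toPSL2 F (uu 1) * (toPSL2 F n)⁻¹) * toPSL2 F n := by group
    rw [this, h1]
    group
  · have h2 : (S₂ : Subgroup (ProjectiveSpecialLinearGroup (Fin 2) F)) = Tor (n * uu 1 * n⁻¹) := by
      rw [← hc, Sylow.coe_subgroup_smul, coe_UbarSylow, ← Tor_conj]
      rfl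
    rw [← h2]
    exact hS₂

/-- members of unipotent type are Sylow subgroups -/
theorem unipotent_member_sylow (H : Subgroup (ProjectiveSpecialLinearGroup (Fin 2) F))
    (g : SpecialLinearGroup (Fin 2) F) (hg : ¬ IsScalar2 (g : Matrix (Fin 2) (Fin 2) F))
    (ht : (g : Matrix (Fin 2) (Fin 2) F).trace ^ 2 = 4) (hgH : toPSL2 F g ∈ H) :
    ∃ S : Sylow p ↥H, (S : Subgroup ↥H) = (Tor g).subgroupOf H := by
  -- `Tor g` is a `p`-group
  have hpT : IsPGroup p (Tor g) := by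
    have hε : (g : Matrix (Fin 2) (Fin 2) F).trace = 2 * 1 ∨ (g : Matrix (Fin 2) (Fin 2) F).trace = 2 * (-1) := by
      have : ((g : Matrix (Fin 2) (Fin 2) F).trace - 2) * ((g : Matrix (Fin 2) (Fin 2) F).trace + 2) = 0 := by
        linear_combination ht
      rcases mul_eq_zero.1 this with h | h
      · left; linear_combination h
      · right; linear_combination h
    obtain ⟨ε, hε2, hεt⟩ : ∃ ε : F, ε * ε = 1 ∧ (g : Matrix (Fin 2) (Fin 2) F).trace = 2 * ε := by
      rcases hε with h | h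
      · exact ⟨1, one_mul 1, h⟩
      · exact ⟨-1, by ring, h⟩
    obtain ⟨b, hb, hc⟩ := exists_isConj_upperSL g hg ε hε2 hεt
    obtain ⟨c, hc⟩ := isConj_iff.1 hc
    have hk : IsUT (upperSL ε b hε2) := by
      constructor <;> simp [upperSL]
    have hk1 : ¬ IsScalar2 ((upperSL ε b hε2 : SpecialLinearGroup (Fin 2) F) : Matrix (Fin 2) (Fin 2) F) := by
      rintro ⟨h01, -, -⟩
      apply hb
      simpa [upperSL] using h01
    have h1 : Tor g = MulAut.conj (toPSL2 F c⁻¹) • Ubar F := by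
      rw [← Tor_of_isUT _ hk hk1, Tor_conj, ← hc]
      congr 1
      group
    obtain ⟨n, -, hn⟩ := FiniteField.card F p
    apply IsPGroup.of_card (n := n)
    rw [h1, card_conj_smul, card_Ubar, hn]
  have hpA : IsPGroup p ((Tor g).subgroupOf H) := hpT.comap_subtype
  obtain ⟨S, hS⟩ := hpA.exists_le_sylow
  have hpS : IsPGroup p ((S : Subgroup ↥H).map H.subtype) := S.2.map _
  obtain ⟨g', hg', hSg'⟩ := exists_Tor_of_isPGroup p _ hpS
  have hx₀ : (⟨toPSL2 F g, hgH⟩ : ↥H) ∈ (Tor g).subgroupOf H := by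
    rw [Subgroup.mem_subgroupOf]
    exact self_mem_Tor g
  have h2 : toPSL2 F g ∈ Tor g' := hSg' ⟨⟨toPSL2 F g, hgH⟩, hS hx₀, rfl⟩
  have h3 : Tor g = Tor g' := Tor_eq_of_mem g' hg' g h2 hg
  refine ⟨S, le_antisymm ?_ hS⟩
  intro y hy
  rw [Subgroup.mem_subgroupOf, h3]
  exact hSg' ⟨y, hy, rfl⟩

end finite

section gen

theorem exists_gen_of_hom {M C : Type*} [Group M] [Finite M] [CommGroup C] [IsCyclic C] (φ : M →* C) :
    ∃ g₀ : M, ∀ y : M, ∃ n : ℕ, φ (y * (g₀ ^ n)⁻¹) = 1 := by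
  have hcyc : IsCyclic ↥φ.range := Subgroup.isCyclic _
  have hfin : Finite ↥φ.range := Finite.of_surjective φ.rangeRestrict φ.rangeRestrict_surjective
  obtain ⟨⟨γ, g₀, rfl⟩, hγ⟩ := hcyc.exists_generator
  refine ⟨g₀, fun y => ?_⟩
  have h1 := hγ ⟨φ y, y, rfl⟩
  rw [← mem_powers_iff_mem_zpowers, Submonoid.mem_powers_iff] at h1
  obtain ⟨n, hn⟩ := h1
  refine ⟨n, ?_⟩
  have h2 : φ g₀ ^ n = φ y := by
    have := congrArg Subtype.val hn
    simpa using this
  rw [map_mul, map_inv, map_pow, h2, mul_inv_cancel]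

end gen

end Cfsg.Agent.Lib.Helper15.Dk
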