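import Mathlib
import Cfsg.Agent.Lib.Helper15.Dk5c

/-!
# Dickson project, part 5d: the hypotheses of Theorem III for `H ∩ Ū`
-/

set_option autoImplicit false

open scoped Pointwise

namespace Cfsg.Agent.Lib.Helper15.Dk

open Matrix
open Cfsg.Agent.Lib.Helper14
open Cfsg.Agent.Lib.Helper15

section general
variable {F : Type*} [Field F]

/-- the intersection of `H` with the image of the upper unitriangular group -/
def QH (H : Subgroup (ProjectiveSpecialLinearGroup (Fin 2) F)) : Subgroup ↥H := (Ubar F).subgroupOf H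

theorem mem_QH_iff (H : Subgroup (ProjectiveSpecialLinearGroup (Fin 2) F)) (x : ↥H)
    (k : SpecialLinearGroup (Fin 2) F) (hk : toPSL2 F k = (x : ProjectiveSpecialLinearGroup (Fin 2) F)) :
    x ∈ QH H ↔ IsUT k := by
  unfold QH
  rw [Subgroup.mem_subgroupOf, ← hk, mem_Ubar_iff]

theorem QH_mem (H : Subgroup (ProjectiveSpecialLinearGroup (Fin 2) F)) (b₁ : F) (hb₁ : b₁ ≠ 0)
    (hH : toPSL2 F (uu b₁) ∈ H) : QH H ∈ (partH H).mem :=
  ⟨uu b₁, uu_not_scalar b₁ hb₁, hH, by rw [Tor_uu b₁ hb₁]; rfl⟩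

theorem center_scalar (z : SpecialLinearGroup (Fin 2) F)
    (hz : z ∈ Subgroup.center (SpecialLinearGroup (Fin 2) F)) :
    IsB z ∧ (z : Matrix (Fin 2) (Fin 2) F) 0 0 * (z : Matrix (Fin 2) (Fin 2) F) 0 0 = 1 := by
  have hs := isScalar2_of_mem_center z hz
  have hB : IsB z := isB_of_isScalar2 hs
  refine ⟨hB, ?_⟩
  have := hB.det
  rw [← hs.2.2] at this
  exact this

theorem isB_of_normalizes (H : Subgroup (ProjectiveSpecialLinearGroup (Fin 2) F)) (b₁ : F) (hb₁ : b₁ ≠ 0)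
    (hH : toPSL2 F (uu b₁) ∈ H) (y : ↥H) (hy : y ∈ Subgroup.normalizer ((QH H : Subgroup ↥H) : Set ↥H))
    (m : SpecialLinearGroup (Fin 2) F) (hm : toPSL2 F m = (y : ProjectiveSpecialLinearGroup (Fin 2) F)) :
    IsB m := by
  have hx₀ : (⟨toPSL2 F (uu b₁), hH⟩ : ↥H) ∈ QH H := (mem_QH_iff H _ (uu b₁) rfl).2 (isUT_uu b₁)
  have h1 := (Subgroup.mem_normalizer_iff.1 hy _).1 hx₀
  have h2 : toPSL2 F (m * uu b₁ * m⁻¹) =
      ((y * ⟨toPSL2 F (uu b₁), hH⟩ * y⁻¹ : ↥H) : ProjectiveSpecialLinearGroup (Fin 2) F) := by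
    rw [map_mul, map_mul, map_inv, hm]
    rfl
  rw [mem_QH_iff H _ _ h2] at h1
  exact isB_of_conj_uu m b₁ hb₁ h1

theorem normalizes_of_isB (H : Subgroup (ProjectiveSpecialLinearGroup (Fin 2) F)) (z : ↥H)
    (m : SpecialLinearGroup (Fin 2) F) (hm : toPSL2 F m = (z : ProjectiveSpecialLinearGroup (Fin 2) F))
    (hB : IsB m) : z ∈ Subgroup.normalizer ((QH H : Subgroup ↥H) : Set ↥H) := by
  have key : ∀ (z : ↥H) (m : SpecialLinearGroup (Fin 2) F),
      toPSL2 F m = (z : ProjectiveSpecialLinearGroup (Fin 2) F) → IsB m →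
      ∀ h : ↥H, h ∈ QH H → z * h * z⁻¹ ∈ QH H := by
    intro z m hm hB h hh
    obtain ⟨k, hk⟩ := toPSL2_surjective (h : ProjectiveSpecialLinearGroup (Fin 2) F)
    rw [mem_QH_iff H h k hk] at hh
    have h2 : toPSL2 F (m * k * m⁻¹) = ((z * h * z⁻¹ : ↥H) : ProjectiveSpecialLinearGroup (Fin 2) F) := by
      rw [map_mul, map_mul, map_inv, hm, hk]
      rfl
    rw [mem_QH_iff H _ _ h2]
    exact hh.conj hB
  rw [Subgroup.mem_normalizer_iff]
  intro h
  constructor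
  · exact key z m hm hB h
  · intro hh
    have hm' : toPSL2 F m⁻¹ = ((z⁻¹ : ↥H) : ProjectiveSpecialLinearGroup (Fin 2) F) := by
      rw [map_inv, hm]; rfl
    have := key z⁻¹ m⁻¹ hm' hB.inv _ hh
    have e : z⁻¹ * (z * h * z⁻¹) * z⁻¹⁻¹ = h := by group
    rw [e] at this
    exact this

theorem QH_cent [Fintype F] (H : Subgroup (ProjectiveSpecialLinearGroup (Fin 2) F)) :
    ∀ x ∈ QH H, x ≠ 1 → ∀ g : ↥H, g * x = x * g → g ∈ QH H := by
  intro x hx hx1 g hgx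
  obtain ⟨k, hk⟩ := toPSL2_surjective (x : ProjectiveSpecialLinearGroup (Fin 2) F)
  obtain ⟨m, hm⟩ := toPSL2_surjective (g : ProjectiveSpecialLinearGroup (Fin 2) F)
  have hkUT : IsUT k := (mem_QH_iff H x k hk).1 hx
  have hk1 : ¬ IsScalar2 (k : Matrix (Fin 2) (Fin 2) F) := by
    intro hs
    apply hx1
    apply Subtype.ext
    rw [← hk]
    exact (toPSL2_eq_one_iff' k).2 hs
  have h1 : toPSL2 F (m * k * m⁻¹) = toPSL2 F k := by
    rw [map_mul, map_mul, map_inv, hm, hk]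
    have : ((g * x : ↥H) : ProjectiveSpecialLinearGroup (Fin 2) F) = ((x * g : ↥H) : ProjectiveSpecialLinearGroup (Fin 2) F) := by
      rw [hgx]
    rw [Subgroup.coe_mul, Subgroup.coe_mul] at this
    rw [this]
    group
  rw [eq_comm, toPSL2_eq_iff'] at h1
  set z := k⁻¹ * (m * k * m⁻¹) with hz
  have hz1 : z = 1 := by
    by_cases h2 : (2 : F) = 0
    · have := center_SL2_eq_bot_of_two h2
      rw [this, Subgroup.mem_bot] at h1
      exact h1
    · by_contra hne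
      have htr : (k : Matrix (Fin 2) (Fin 2) F).trace ≠ 0 := by
        rw [Matrix.trace_fin_two, ← hkUT.2]
        intro h0
        have h00 : (2 : F) * (k : Matrix (Fin 2) (Fin 2) F) 0 0 = 0 := by linear_combination h0
        have hk00 : (k : Matrix (Fin 2) (Fin 2) F) 0 0 = 0 := (mul_eq_zero.1 h00).resolve_left h2
        have := hkUT.sq
        rw [hk00, mul_zero] at this
        exact zero_ne_one this
      apply no_twist_of_trace_ne_zero k htr
      refine ⟨m, z, h1, hne, ?_⟩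
      rw [← Subgroup.mem_center_iff.1 h1 k, hz]
      group
  have h3 : m * k * m⁻¹ = k := by
    have : m * k * m⁻¹ = k * z := by rw [hz]; group
    rw [this, hz1, mul_one]
  have h4 : m ∈ Subgroup.centralizer ({k} : Set (SpecialLinearGroup (Fin 2) F)) :=
    (mem_centralizer_iff_conj_eq k m).2 h3
  unfold QH
  rw [Subgroup.mem_subgroupOf, ← hm, ← Tor_of_isUT k hkUT hk1, mem_Tor_iff]
  exact h4

theorem QH_tor_norm (H : Subgroup (ProjectiveSpecialLinearGroup (Fin 2) F)) (b₁ : F) (hb₁ : b₁ ≠ 0)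
    (hH : toPSL2 F (uu b₁) ∈ H) :
    ∀ B ∈ (partH H).mem, ∀ y ∈ B, y ≠ 1 →
      y ∈ Subgroup.normalizer ((QH H : Subgroup ↥H) : Set ↥H) →
      B ≤ Subgroup.normalizer ((QH H : Subgroup ↥H) : Set ↥H) := by
  rintro B ⟨s, hs, hsH, rfl⟩ y hyB hy1 hyN z hzB
  rw [Subgroup.mem_subgroupOf] at hyB hzB
  obtain ⟨m, hm⟩ := toPSL2_surjective (y : ProjectiveSpecialLinearGroup (Fin 2) F)
  obtain ⟨m', hm'⟩ := toPSL2_surjective (z : ProjectiveSpecialLinearGroup (Fin 2) F)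
  have hmB : IsB m := isB_of_normalizes H b₁ hb₁ hH y hyN m hm
  have hm1 : ¬ IsScalar2 (m : Matrix (Fin 2) (Fin 2) F) := by
    intro hsc
    apply hy1
    apply Subtype.ext
    rw [← hm]
    exact (toPSL2_eq_one_iff' m).2 hsc
  rw [← hm, mem_Tor_iff] at hyB
  rw [← hm', mem_Tor_iff, ← centralizer_eq_of_mem s hs m hyB hm1] at hzB
  obtain ⟨x, y', hxy⟩ := (mem_centralizer_iff_eq_add_smul m hm1 m').1 hzB
  have hm'B : IsB m' := by
    unfold IsB at *
    rw [hxy]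
    simp [hmB]
  exact normalizes_of_isB H z m' hm' hm'B

/-- the square of the upper left entry of a lift -/
noncomputable def sq00 (x : ProjectiveSpecialLinearGroup (Fin 2) F) : F :=
  ((Function.surjInv (toPSL2_surjective (F := F)) x : SpecialLinearGroup (Fin 2) F) :
    Matrix (Fin 2) (Fin 2) F) 0 0 ^ 2

theorem sq00_toPSL2 (m : SpecialLinearGroup (Fin 2) F) :
    sq00 (toPSL2 F m) = (m : Matrix (Fin 2) (Fin 2) F) 0 0 ^ 2 := by
  unfold sq00
  set l := Function.surjInv (toPSL2_surjective (F := F)) (toPSL2 F m) with hl'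
  have hl : toPSL2 F l = toPSL2 F m := Function.surjInv_eq _ _
  rw [eq_comm, toPSL2_eq_iff'] at hl
  obtain ⟨hzB, hz2⟩ := center_scalar _ hl
  have : l = m * (m⁻¹ * l) := by group
  rw [this, IsB.mul_00 hzB, mul_pow, pow_two ((((m⁻¹ * l : SpecialLinearGroup (Fin 2) F)) : Matrix (Fin 2) (Fin 2) F) 0 0), hz2, mul_one]

open Classical in
/-- the same as a unit -/
noncomputable def sq00u (x : ProjectiveSpecialLinearGroup (Fin 2) F) : Fˣ :=
  if h : sq00 x = 0 then 1 else Units.mk0 _ h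

theorem sq00u_toPSL2 (m : SpecialLinearGroup (Fin 2) F) (hm : IsB m) :
    ((sq00u (toPSL2 F m) : Fˣ) : F) = (m : Matrix (Fin 2) (Fin 2) F) 0 0 ^ 2 := by
  have h0 : (m : Matrix (Fin 2) (Fin 2) F) 0 0 ≠ 0 := by
    intro h
    have := hm.det
    rw [h, zero_mul] at this
    exact zero_ne_one this
  unfold sq00u
  rw [dif_neg (by rw [sq00_toPSL2]; exact pow_ne_zero 2 h0)]
  rw [Units.val_mk0, sq00_toPSL2]

/-- the homomorphism from the normalizer of `H ∩ Ū` to the units of `F` -/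
noncomputable def normHom (H : Subgroup (ProjectiveSpecialLinearGroup (Fin 2) F)) (b₁ : F) (hb₁ : b₁ ≠ 0)
    (hH : toPSL2 F (uu b₁) ∈ H) :
    ↥(Subgroup.normalizer ((QH H : Subgroup ↥H) : Set ↥H)) →* Fˣ where
  toFun y := sq00u ((y : ↥H) : ProjectiveSpecialLinearGroup (Fin 2) F)
  map_one' := by
    apply Units.ext
    have : (((1 : ↥(Subgroup.normalizer ((QH H : Subgroup ↥H) : Set ↥H))) : ↥H) :
        ProjectiveSpecialLinearGroup (Fin 2) F) = toPSL2 F 1 := by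
      rw [map_one]; rfl
    rw [this, sq00u_toPSL2 1 (by unfold IsB; simp)]
    simp
  map_mul' := by
    intro y y'
    obtain ⟨m, hm⟩ := toPSL2_surjective (((y : ↥H)) : ProjectiveSpecialLinearGroup (Fin 2) F)
    obtain ⟨m', hm'⟩ := toPSL2_surjective (((y' : ↥H)) : ProjectiveSpecialLinearGroup (Fin 2) F)
    have hmB : IsB m := isB_of_normalizes H b₁ hb₁ hH y y.2 m hm
    have hmB' : IsB m' := isB_of_normalizes H b₁ hb₁ hH y' y'.2 m' hm'
    apply Units.ext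
    have h1 : (((y * y' : ↥(Subgroup.normalizer ((QH H : Subgroup ↥H) : Set ↥H))) : ↥H) :
        ProjectiveSpecialLinearGroup (Fin 2) F) = toPSL2 F (m * m') := by
      rw [map_mul, hm, hm']; rfl
    rw [h1, Units.val_mul, ← hm, ← hm', sq00u_toPSL2 _ (hmB.mul hmB'), sq00u_toPSL2 _ hmB,
      sq00u_toPSL2 _ hmB', IsB.mul_00 hmB', mul_pow]

theorem normHom_ker (H : Subgroup (ProjectiveSpecialLinearGroup (Fin 2) F)) (b₁ : F) (hb₁ : b₁ ≠ 0)
    (hH : toPSL2 F (uu b₁) ∈ H) (y : ↥(Subgroup.normalizer ((QH H : Subgroup ↥H) : Set ↥H)))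
    (hy : normHom H b₁ hb₁ hH y = 1) : (y : ↥H) ∈ QH H := by
  obtain ⟨m, hm⟩ := toPSL2_surjective (((y : ↥H)) : ProjectiveSpecialLinearGroup (Fin 2) F)
  have hmB : IsB m := isB_of_normalizes H b₁ hb₁ hH y y.2 m hm
  rw [mem_QH_iff H _ m hm]
  have h1 : ((sq00u ((y : ↥H) : ProjectiveSpecialLinearGroup (Fin 2) F) : Fˣ) : F) = 1 := by
    have : sq00u ((y : ↥H) : ProjectiveSpecialLinearGroup (Fin 2) F) = 1 := hy
    rw [this, Units.val_one]
  rw [← hm, sq00u_toPSL2 m hmB] at h1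
  refine ⟨hmB, ?_⟩
  have hd := hmB.det
  have h0 : (m : Matrix (Fin 2) (Fin 2) F) 0 0 ≠ 0 := by
    intro h
    rw [h, zero_mul] at hd
    exact zero_ne_one hd
  apply mul_left_cancel₀ h0
  rw [hd, ← pow_two, h1]

theorem QH_gen [Finite F] (H : Subgroup (ProjectiveSpecialLinearGroup (Fin 2) F)) (b₁ : F) (hb₁ : b₁ ≠ 0)
    (hH : toPSL2 F (uu b₁) ∈ H) :
    ∃ g₀ ∈ Subgroup.normalizer ((QH H : Subgroup ↥H) : Set ↥H),
      ∀ y ∈ Subgroup.normalizer ((QH H : Subgroup ↥H) : Set ↥H),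
      ∃ n : ℕ, ∃ x ∈ QH H, y = x * g₀ ^ n := by
  have hfin : Finite (ProjectiveSpecialLinearGroup (Fin 2) F) :=
    Finite.of_surjective _ (toPSL2_surjective (F := F))
  obtain ⟨g₀, hg₀⟩ := exists_gen_of_hom (normHom H b₁ hb₁ hH)
  refine ⟨g₀.1, g₀.2, fun y hy => ?_⟩
  obtain ⟨n, hn⟩ := hg₀ ⟨y, hy⟩
  have h1 := normHom_ker H b₁ hb₁ hH _ hn
  refine ⟨n, y * ((g₀ : ↥H) ^ n)⁻¹, h1, ?_⟩
  group

end general

section finite
variable {F : Type*} [Field F] [Fintype F] (p : ℕ) [Fact p.Prime] [CharP F p]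

/-- the hypotheses of Theorem III hold for `H ∩ Ū` -/
theorem pHyp_QH (H : Subgroup (ProjectiveSpecialLinearGroup (Fin 2) F)) (b₁ : F) (hb₁ : b₁ ≠ 0)
    (hH : toPSL2 F (uu b₁) ∈ H) : PHyp (partH H) p (QH H) where
  hQ := QH_mem H b₁ hb₁ hH
  syl := by
    have := unipotent_member_sylow p H (uu b₁) (uu_not_scalar b₁ hb₁) (by
      rw [Matrix.trace_fin_two]; simp [uu]; norm_num) hH
    rw [Tor_uu b₁ hb₁] at this
    exact this
  htype := by
    rintro A ⟨g, hg, hgH, rfl⟩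
    by_cases ht : (g : Matrix (Fin 2) (Fin 2) F).trace ^ 2 = 4
    · exact Or.inl (unipotent_member_sylow p H g hg ht hgH)
    · obtain ⟨h1, -, h3⟩ := semisimple_member H g hg ht hgH
      exact Or.inr ⟨h1, h3⟩
  cent := QH_cent H
  tor_norm := fun B hB _ y hy hy1 hyN => QH_tor_norm H b₁ hb₁ hH B hB y hy hy1 hyN
  gen := QH_gen H b₁ hb₁ hH

end finite

end Cfsg.Agent.Lib.Helper15.Dk
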