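import Mathlib
import Cfsg.Agent.Lib.Helper15.Dk5d
import Cfsg.Agent.Lib.Helper14.SL2Conj

/-!
# Dickson project, part 6a: the subfield attached to a subgroup of `SL₂(F)` whose unipotent
elements act regularly (the case `n_p = |Q| + 1`)
-/

set_option autoImplicit false

namespace Cfsg.Agent.Lib.Helper15.Dk

open Matrix
open Cfsg.Agent.Lib.Helper14
open Cfsg.Agent.Lib.Helper15

section mats
variable {F : Type*} [Field F]

/-- the lower unitriangular matrices -/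
def ll (x : F) : SpecialLinearGroup (Fin 2) F := ⟨!![1, 0; x, 1], by simp [Matrix.det_fin_two]⟩

/-- the antidiagonal matrices -/
def nn (x : F) (hx : x ≠ 0) : SpecialLinearGroup (Fin 2) F :=
  ⟨!![0, x; -x⁻¹, 0], by simp [Matrix.det_fin_two, hx]⟩

/-- the diagonal matrices -/
def dg (t : F) (ht : t ≠ 0) : SpecialLinearGroup (Fin 2) F :=
  ⟨!![t, 0; 0, t⁻¹], by simp [Matrix.det_fin_two, ht]⟩

theorem uu_mul (a b : F) : uu a * uu b = uu (a + b) := upperSL_one_mul a b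

theorem uu_zero : uu (0 : F) = 1 := by
  apply Subtype.ext
  simp [uu, upperSL, Matrix.one_fin_two]

theorem uu_inv (a : F) : (uu a)⁻¹ = uu (-a) := by
  rw [inv_eq_iff_mul_eq_one, uu_mul, add_neg_cancel, uu_zero]

theorem conj_uu_of_00 (w : SpecialLinearGroup (Fin 2) F) (hw : (w : Matrix (Fin 2) (Fin 2) F) 0 0 = 0) (x : F) :
    w * uu x * w⁻¹ = ll (-((w : Matrix (Fin 2) (Fin 2) F) 1 0) ^ 2 * x) := by
  have hd := det_eq w
  rw [hw, zero_mul, zero_sub] at hd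
  apply Subtype.ext
  rw [Matrix.SpecialLinearGroup.coe_mul, Matrix.SpecialLinearGroup.coe_mul]
  apply mat2_ext <;>
    simp [uu, ll, Matrix.mul_apply, Fin.sum_univ_two, Matrix.adjugate_fin_two, hw]
  · linear_combination hd
  · ring
  · linear_combination hd

theorem nn_eq (x : F) (hx : x ≠ 0) : uu x * ll (-x⁻¹) * uu x = nn x hx := by
  apply Subtype.ext
  rw [Matrix.SpecialLinearGroup.coe_mul, Matrix.SpecialLinearGroup.coe_mul]
  apply mat2_ext <;>
    simp [uu, ll, nn, Matrix.mul_apply, Fin.sum_univ_two, hx]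

theorem nn_inv (y : F) (hy : y ≠ 0) : (nn y hy)⁻¹ = nn (-y) (neg_ne_zero.2 hy) := by
  rw [inv_eq_iff_mul_eq_one]
  apply Subtype.ext
  rw [Matrix.SpecialLinearGroup.coe_mul]
  apply mat2_ext <;>
    simp [nn, Matrix.mul_apply, Fin.sum_univ_two, hy]

theorem nn_mul_inv (x y : F) (hx : x ≠ 0) (hy : y ≠ 0) :
    nn x hx * (nn y hy)⁻¹ = dg (x / y) (div_ne_zero hx hy) := by
  rw [nn_inv]
  apply Subtype.ext
  rw [Matrix.SpecialLinearGroup.coe_mul]
  apply mat2_ext <;>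
    simp [nn, dg, Matrix.mul_apply, Fin.sum_univ_two]
  · field_simp
  · field_simp

theorem conj_uu_of_isB (g : SpecialLinearGroup (Fin 2) F) (hg : IsB g) (a : F) :
    g * uu a * g⁻¹ = uu ((g : Matrix (Fin 2) (Fin 2) F) 0 0 ^ 2 * a) := by
  have hd := hg.det
  unfold IsB at hg
  apply Subtype.ext
  rw [Matrix.SpecialLinearGroup.coe_mul, Matrix.SpecialLinearGroup.coe_mul]
  apply mat2_ext <;>
    simp [uu, Matrix.mul_apply, Fin.sum_univ_two, Matrix.adjugate_fin_two, hg]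
  · exact hd
  · ring
  · rw [mul_comm]; exact hd

theorem isB_dg (t : F) (ht : t ≠ 0) : IsB (dg t ht) := by
  unfold IsB; simp [dg]

theorem dg_00 (t : F) (ht : t ≠ 0) : ((dg t ht : SpecialLinearGroup (Fin 2) F) : Matrix (Fin 2) (Fin 2) F) 0 0 = t := by
  simp [dg]

theorem ll_00 (x : F) : ((ll x : SpecialLinearGroup (Fin 2) F) : Matrix (Fin 2) (Fin 2) F) 0 0 = 1 := by simp [ll]
theorem ll_10 (x : F) : ((ll x : SpecialLinearGroup (Fin 2) F) : Matrix (Fin 2) (Fin 2) F) 1 0 = x := by simp [ll]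

theorem mul_w_00 (g w : SpecialLinearGroup (Fin 2) F) (hw : (w : Matrix (Fin 2) (Fin 2) F) 0 0 = 0) :
    ((g * w : SpecialLinearGroup (Fin 2) F) : Matrix (Fin 2) (Fin 2) F) 0 0 =
      (g : Matrix (Fin 2) (Fin 2) F) 0 1 * (w : Matrix (Fin 2) (Fin 2) F) 1 0 := by
  rw [Matrix.SpecialLinearGroup.coe_mul]
  simp [Matrix.mul_apply, Fin.sum_univ_two, hw]

theorem mul_w_10 (g w : SpecialLinearGroup (Fin 2) F) (hw : (w : Matrix (Fin 2) (Fin 2) F) 0 0 = 0) :
    ((g * w : SpecialLinearGroup (Fin 2) F) : Matrix (Fin 2) (Fin 2) F) 1 0 =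
      (g : Matrix (Fin 2) (Fin 2) F) 1 1 * (w : Matrix (Fin 2) (Fin 2) F) 1 0 := by
  rw [Matrix.SpecialLinearGroup.coe_mul]
  simp [Matrix.mul_apply, Fin.sum_univ_two, hw]

theorem mul_uu_01 (g : SpecialLinearGroup (Fin 2) F) (x : F) :
    ((g * uu x : SpecialLinearGroup (Fin 2) F) : Matrix (Fin 2) (Fin 2) F) 0 1 =
      (g : Matrix (Fin 2) (Fin 2) F) 0 0 * x + (g : Matrix (Fin 2) (Fin 2) F) 0 1 := by
  rw [Matrix.SpecialLinearGroup.coe_mul]
  simp [uu, Matrix.mul_apply, Fin.sum_univ_two]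

theorem mul_uu_11 (g : SpecialLinearGroup (Fin 2) F) (x : F) :
    ((g * uu x : SpecialLinearGroup (Fin 2) F) : Matrix (Fin 2) (Fin 2) F) 1 1 =
      (g : Matrix (Fin 2) (Fin 2) F) 1 0 * x + (g : Matrix (Fin 2) (Fin 2) F) 1 1 := by
  rw [Matrix.SpecialLinearGroup.coe_mul]
  simp [uu, Matrix.mul_apply, Fin.sum_univ_two]

theorem uu_mul_00 (g : SpecialLinearGroup (Fin 2) F) (x : F) :
    ((uu x * g : SpecialLinearGroup (Fin 2) F) : Matrix (Fin 2) (Fin 2) F) 0 0 =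
      (g : Matrix (Fin 2) (Fin 2) F) 0 0 + x * (g : Matrix (Fin 2) (Fin 2) F) 1 0 := by
  rw [Matrix.SpecialLinearGroup.coe_mul]
  simp [uu, Matrix.mul_apply, Fin.sum_univ_two]

theorem uu_mul_01 (g : SpecialLinearGroup (Fin 2) F) (x : F) :
    ((uu x * g : SpecialLinearGroup (Fin 2) F) : Matrix (Fin 2) (Fin 2) F) 0 1 =
      (g : Matrix (Fin 2) (Fin 2) F) 0 1 + x * (g : Matrix (Fin 2) (Fin 2) F) 1 1 := by
  rw [Matrix.SpecialLinearGroup.coe_mul]
  simp [uu, Matrix.mul_apply, Fin.sum_univ_two]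

theorem uu_mul_10 (g : SpecialLinearGroup (Fin 2) F) (x : F) :
    ((uu x * g : SpecialLinearGroup (Fin 2) F) : Matrix (Fin 2) (Fin 2) F) 1 0 =
      (g : Matrix (Fin 2) (Fin 2) F) 1 0 := by
  rw [Matrix.SpecialLinearGroup.coe_mul]
  simp [uu, Matrix.mul_apply, Fin.sum_univ_two]

theorem uu_mul_11 (g : SpecialLinearGroup (Fin 2) F) (x : F) :
    ((uu x * g : SpecialLinearGroup (Fin 2) F) : Matrix (Fin 2) (Fin 2) F) 1 1 =
      (g : Matrix (Fin 2) (Fin 2) F) 1 1 := by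
  rw [Matrix.SpecialLinearGroup.coe_mul]
  simp [uu, Matrix.mul_apply, Fin.sum_univ_two]

end mats

section cfg
variable {F : Type*} [Field F]

/-- the configuration in the case `n_p = |Q| + 1` -/
structure Cfg (Ht : Subgroup (SpecialLinearGroup (Fin 2) F)) (b₁ : F) (w : SpecialLinearGroup (Fin 2) F) :
    Prop where
  hb₁ : b₁ ≠ 0
  hu : uu b₁ ∈ Ht
  hw : w ∈ Ht
  hw0 : (w : Matrix (Fin 2) (Fin 2) F) 0 0 = 0
  h3 : ∀ g ∈ Ht, (g : Matrix (Fin 2) (Fin 2) F) 1 0 ≠ 0 →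
    uu ((g : Matrix (Fin 2) (Fin 2) F) 0 0 / (g : Matrix (Fin 2) (Fin 2) F) 1 0) ∈ Ht

theorem A_add {Ht : Subgroup (SpecialLinearGroup (Fin 2) F)} {a b : F} (ha : uu a ∈ Ht) (hb : uu b ∈ Ht) :
    uu (a + b) ∈ Ht := by
  rw [← uu_mul]; exact Ht.mul_mem ha hb

theorem A_neg {Ht : Subgroup (SpecialLinearGroup (Fin 2) F)} {a : F} (ha : uu a ∈ Ht) : uu (-a) ∈ Ht := by
  rw [← uu_inv]; exact Ht.inv_mem ha

theorem A_zero {Ht : Subgroup (SpecialLinearGroup (Fin 2) F)} : uu (0 : F) ∈ Ht := by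
  rw [uu_zero]; exact Ht.one_mem

/-- the ring of multipliers of `{a | uu a ∈ Ht}` -/
def multRing (Ht : Subgroup (SpecialLinearGroup (Fin 2) F)) : Subring F where
  carrier := {c | ∀ a, uu a ∈ Ht → uu (c * a) ∈ Ht}
  mul_mem' := fun {c c'} hc hc' a ha => by rw [mul_assoc]; exact hc _ (hc' a ha)
  one_mem' := fun a ha => by rw [one_mul]; exact ha
  add_mem' := fun {c c'} hc hc' a ha => by rw [add_mul]; exact A_add (hc a ha) (hc' a ha)
  zero_mem' := fun a _ => by rw [zero_mul]; exact A_zero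
  neg_mem' := fun {c} hc a ha => by rw [neg_mul]; exact A_neg (hc a ha)

theorem mem_multRing (Ht : Subgroup (SpecialLinearGroup (Fin 2) F)) (c : F) :
    c ∈ multRing Ht ↔ ∀ a, uu a ∈ Ht → uu (c * a) ∈ Ht := Iff.rfl

/-- the field of multipliers -/
def multField [Finite F] (Ht : Subgroup (SpecialLinearGroup (Fin 2) F)) : Subfield F :=
  { multRing Ht with
    inv_mem' := by
      intro c hc
      by_cases hc0 : c = 0
      · rw [hc0, _root_.inv_zero]; exact (multRing Ht).zero_mem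
      · intro a ha
        let φ : {a : F // uu a ∈ Ht} → {a : F // uu a ∈ Ht} := fun a => ⟨c * a.1, hc a.1 a.2⟩
        have hφ : Function.Injective φ := by
          intro a a' h
          apply Subtype.ext
          have h1 : c * a.1 = c * a'.1 := congrArg Subtype.val h
          exact mul_left_cancel₀ hc0 h1
        obtain ⟨a', ha'⟩ := Finite.surjective_of_injective hφ ⟨a, ha⟩
        have h2 : c * a'.1 = a := congrArg Subtype.val ha'
        have h3 : c⁻¹ * a = a'.1 := by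
          rw [← h2, ← mul_assoc, inv_mul_cancel₀ hc0, one_mul]
        rw [h3]
        exact a'.2 }

theorem mem_multField [Finite F] (Ht : Subgroup (SpecialLinearGroup (Fin 2) F)) (c : F) :
    c ∈ multField Ht ↔ ∀ a, uu a ∈ Ht → uu (c * a) ∈ Ht := Iff.rfl

namespace Cfg
variable {Ht : Subgroup (SpecialLinearGroup (Fin 2) F)} {b₁ : F} {w : SpecialLinearGroup (Fin 2) F}
  (c : Cfg Ht b₁ w)
include c

theorem gamma_ne : (w : Matrix (Fin 2) (Fin 2) F) 1 0 ≠ 0 := by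
  intro h
  have hd := det_eq w
  rw [c.hw0, h, zero_mul, mul_zero, sub_zero] at hd
  exact zero_ne_one hd

theorem ll_mem {x : F} (hx : uu x ∈ Ht) : ll (-((w : Matrix (Fin 2) (Fin 2) F) 1 0) ^ 2 * x) ∈ Ht := by
  rw [← conj_uu_of_00 w c.hw0 x]
  exact Ht.mul_mem (Ht.mul_mem c.hw hx) (Ht.inv_mem c.hw)

theorem inv_mem {x : F} (hx : uu x ∈ Ht) (hx0 : x ≠ 0) :
    uu (-(((w : Matrix (Fin 2) (Fin 2) F) 1 0) ^ 2 * x)⁻¹) ∈ Ht := by
  have h1 := c.ll_mem hx
  have hne : -((w : Matrix (Fin 2) (Fin 2) F) 1 0) ^ 2 * x ≠ 0 :=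
    mul_ne_zero (neg_ne_zero.2 (pow_ne_zero 2 c.gamma_ne)) hx0
  have h2 := c.h3 _ h1 (by rw [ll_10]; exact hne)
  rw [ll_00, ll_10] at h2
  have : (1 : F) / (-((w : Matrix (Fin 2) (Fin 2) F) 1 0) ^ 2 * x) =
      -(((w : Matrix (Fin 2) (Fin 2) F) 1 0) ^ 2 * x)⁻¹ := by
    rw [one_div, neg_mul, inv_neg]
  rw [this] at h2
  exact h2

theorem ll_inv_mem {x : F} (hx : uu x ∈ Ht) (hx0 : x ≠ 0) : ll (-x⁻¹) ∈ Ht := by
  have h1 := A_neg (c.inv_mem hx hx0)
  rw [neg_neg] at h1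
  have h2 := c.ll_mem h1
  have hγ := c.gamma_ne
  have : -((w : Matrix (Fin 2) (Fin 2) F) 1 0) ^ 2 * (((w : Matrix (Fin 2) (Fin 2) F) 1 0) ^ 2 * x)⁻¹ = -x⁻¹ := by
    field_simp
  rw [this] at h2
  exact h2

theorem nn_mem {x : F} (hx : uu x ∈ Ht) (hx0 : x ≠ 0) : nn x hx0 ∈ Ht := by
  rw [← nn_eq]
  exact Ht.mul_mem (Ht.mul_mem hx (c.ll_inv_mem hx hx0)) hx

theorem dg_mem {x y : F} (hx : uu x ∈ Ht) (hx0 : x ≠ 0) (hy : uu y ∈ Ht) (hy0 : y ≠ 0) :
    dg (x / y) (div_ne_zero hx0 hy0) ∈ Ht := by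
  rw [← nn_mul_inv x y hx0 hy0]
  exact Ht.mul_mem (c.nn_mem hx hx0) (Ht.inv_mem (c.nn_mem hy hy0))

theorem sq_mul_mem {x y a : F} (hx : uu x ∈ Ht) (hx0 : x ≠ 0) (hy : uu y ∈ Ht) (hy0 : y ≠ 0)
    (ha : uu a ∈ Ht) : uu ((x / y) ^ 2 * a) ∈ Ht := by
  have h1 := c.dg_mem hx hx0 hy hy0
  have h2 := conj_uu_of_isB _ (isB_dg (x / y) (div_ne_zero hx0 hy0)) a
  rw [dg_00] at h2
  rw [← h2]
  exact Ht.mul_mem (Ht.mul_mem h1 ha) (Ht.inv_mem h1)

variable [Finite F]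

theorem sq_mem_K {x y : F} (hx : uu x ∈ Ht) (hx0 : x ≠ 0) (hy : uu y ∈ Ht) (hy0 : y ≠ 0) :
    (x / y) ^ 2 ∈ multField Ht := fun _ ha => c.sq_mul_mem hx hx0 hy hy0 ha

omit c in
theorem mem_of_sq_mem_char_two (h2 : (2 : F) = 0) (K₀ : Subfield F) (t : F) (ht : t ^ 2 ∈ K₀) : t ∈ K₀ := by
  have hinj : ∀ s s' : F, s ^ 2 = s' ^ 2 → s = s' := by
    intro s s' h
    have : (s - s') ^ 2 = 0 := by
      have e : (s - s') ^ 2 = s ^ 2 - s' ^ 2 - 2 * (s * s' - s' ^ 2) := by ring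
      rw [e, h, h2]; ring
    have := pow_eq_zero_iff (two_ne_zero) |>.mp this
    exact sub_eq_zero.1 this
  let φ : ↥K₀ → ↥K₀ := fun s => s ^ 2
  have hφ : Function.Injective φ := by
    intro s s' h
    apply Subtype.ext
    apply hinj
    have := congrArg Subtype.val h
    simpa [φ] using this
  obtain ⟨s, hs⟩ := Finite.surjective_of_injective hφ ⟨t ^ 2, ht⟩
  have h1 : (s : F) ^ 2 = t ^ 2 := by
    have := congrArg Subtype.val hs
    simpa [φ] using this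
  rw [← hinj _ _ h1]
  exact s.2

theorem ratio_mem_K {x y : F} (hx : uu x ∈ Ht) (hx0 : x ≠ 0) (hy : uu y ∈ Ht) (hy0 : y ≠ 0) :
    x / y ∈ multField Ht := by
  by_cases h2 : (2 : F) = 0
  · exact mem_of_sq_mem_char_two h2 _ _ (c.sq_mem_K hx hx0 hy hy0)
  · by_cases hxy : x + y = 0
    · have : x / y = -1 := by
        have : x = -y := by linear_combination hxy
        rw [this, neg_div, div_self hy0]
      rw [this]
      exact (multField Ht).neg_mem (multField Ht).one_mem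
    · have h1 := c.sq_mem_K hx hx0 hy hy0
      have h3 := c.sq_mem_K (A_add hx hy) hxy hy hy0
      have e : x / y = (((x + y) / y) ^ 2 - (x / y) ^ 2 - 1) * (2 : F)⁻¹ := by
        field_simp
        ring
      rw [e]
      apply (multField Ht).mul_mem
      · exact (multField Ht).sub_mem ((multField Ht).sub_mem h3 h1) (multField Ht).one_mem
      · apply (multField Ht).inv_mem
        have : (2 : F) = 1 + 1 := by norm_num
        rw [this]
        exact (multField Ht).add_mem (multField Ht).one_mem (multField Ht).one_mem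

/-- `A = K₀ b₁` -/
theorem A_iff (a : F) : uu a ∈ Ht ↔ ∃ k ∈ multField Ht, a = k * b₁ := by
  constructor
  · intro ha
    by_cases ha0 : a = 0
    · exact ⟨0, (multField Ht).zero_mem, by rw [ha0, zero_mul]⟩
    · refine ⟨a / b₁, c.ratio_mem_K ha ha0 c.hu c.hb₁, ?_⟩
      rw [div_mul_cancel₀ _ c.hb₁]
  · rintro ⟨k, hk, rfl⟩
    exact hk _ c.hu

/-- `(γ b₁)² ∈ K₀` -/
theorem e_sq_mem : ((w : Matrix (Fin 2) (Fin 2) F) 1 0 * b₁) ^ 2 ∈ multField Ht := by
  have h1 := c.inv_mem c.hu c.hb₁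
  obtain ⟨k, hk, hk'⟩ := (c.A_iff _).1 h1
  have hγ := c.gamma_ne
  have hb := c.hb₁
  have h2 : ((w : Matrix (Fin 2) (Fin 2) F) 1 0 * b₁) ^ 2 = (-k)⁻¹ := by
    have hk0 : k ≠ 0 := by
      rintro rfl
      rw [zero_mul, neg_eq_zero, inv_eq_zero] at hk'
      exact mul_ne_zero (pow_ne_zero 2 hγ) hb hk'
    have : k = -(((w : Matrix (Fin 2) (Fin 2) F) 1 0) ^ 2 * b₁)⁻¹ / b₁ := by
      rw [hk', mul_div_cancel_right₀ _ hb]
    rw [this]
    field_simp
  rw [h2]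
  exact (multField Ht).inv_mem ((multField Ht).neg_mem hk)

/-- `ll (k / b₁) ∈ Ht` for `k ∈ K₀` -/
theorem ll_mem_K {k : F} (hk : k ∈ multField Ht) : ll (k / b₁) ∈ Ht := by
  have hγ := c.gamma_ne
  have hb := c.hb₁
  have he := c.e_sq_mem
  have he0 : ((w : Matrix (Fin 2) (Fin 2) F) 1 0 * b₁) ^ 2 ≠ 0 := pow_ne_zero 2 (mul_ne_zero hγ hb)
  have hk' : -k / ((w : Matrix (Fin 2) (Fin 2) F) 1 0 * b₁) ^ 2 ∈ multField Ht :=
    (multField Ht).div_mem ((multField Ht).neg_mem hk) he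
  have h1 := c.ll_mem (hk' _ c.hu)
  have : -((w : Matrix (Fin 2) (Fin 2) F) 1 0) ^ 2 * (-k / ((w : Matrix (Fin 2) (Fin 2) F) 1 0 * b₁) ^ 2 * b₁) = k / b₁ := by
    field_simp
  rw [this] at h1
  exact h1

/-- images of `∞` under `g' uu(x) w` -/
theorem aux_core (g' : SpecialLinearGroup (Fin 2) F) (hg' : g' ∈ Ht)
    (h00 : (g' : Matrix (Fin 2) (Fin 2) F) 0 0 = 0) (x : F) (hx : uu x ∈ Ht) :
    ∃ k ∈ multField Ht, (g' : Matrix (Fin 2) (Fin 2) F) 1 0 * x + (g' : Matrix (Fin 2) (Fin 2) F) 1 1 =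
      ((g' : Matrix (Fin 2) (Fin 2) F) 0 1 / b₁) * k := by
  have hγ := c.gamma_ne
  have hb := c.hb₁
  have hd := det_eq g'
  rw [h00, zero_mul, zero_sub] at hd
  have hβ : (g' : Matrix (Fin 2) (Fin 2) F) 0 1 ≠ 0 := by
    intro h
    rw [h, zero_mul, neg_zero] at hd
    exact zero_ne_one hd
  by_cases hs : (g' : Matrix (Fin 2) (Fin 2) F) 1 0 * x + (g' : Matrix (Fin 2) (Fin 2) F) 1 1 = 0
  · exact ⟨0, (multField Ht).zero_mem, by rw [hs, mul_zero]⟩
  · have hmem : g' * uu x * w ∈ Ht := Ht.mul_mem (Ht.mul_mem hg' hx) c.hw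
    have h1 := c.h3 _ hmem (by
      rw [mul_w_10 _ _ c.hw0, mul_uu_11]
      exact mul_ne_zero hs hγ)
    rw [mul_w_10 _ _ c.hw0, mul_w_00 _ _ c.hw0, mul_uu_11, mul_uu_01, h00, zero_mul, zero_add,
      mul_div_mul_right _ _ hγ] at h1
    obtain ⟨k, hk, hk'⟩ := (c.A_iff _).1 h1
    have hk0 : k ≠ 0 := by
      rintro rfl
      rw [zero_mul] at hk'
      exact div_ne_zero hβ hs hk'
    refine ⟨k⁻¹, (multField Ht).inv_mem hk, ?_⟩
    field_simp
    field_simp at hk'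
    linear_combination -hk'

/-- every element of `Ht` is a scalar multiple of a conjugate of a matrix over `K₀` -/
theorem core (g : SpecialLinearGroup (Fin 2) F) (hg : g ∈ Ht) :
    ∃ lam : F, lam ≠ 0 ∧ ∃ c00 ∈ multField Ht, ∃ c01 ∈ multField Ht, ∃ c10 ∈ multField Ht,
      ∃ c11 ∈ multField Ht,
      (g : Matrix (Fin 2) (Fin 2) F) 0 0 = lam * c00 ∧ (g : Matrix (Fin 2) (Fin 2) F) 0 1 = lam * c01 * b₁ ∧
      (g : Matrix (Fin 2) (Fin 2) F) 1 0 * b₁ = lam * c10 ∧ (g : Matrix (Fin 2) (Fin 2) F) 1 1 = lam * c11 := by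
  have hγ := c.gamma_ne
  have hb := c.hb₁
  by_cases h10 : (g : Matrix (Fin 2) (Fin 2) F) 1 0 = 0
  · have hB : IsB g := h10
    have hd := hB.det
    have h11 : (g : Matrix (Fin 2) (Fin 2) F) 1 1 ≠ 0 := by
      intro h
      rw [h, mul_zero] at hd
      exact zero_ne_one hd
    have hα : (g : Matrix (Fin 2) (Fin 2) F) 0 0 ^ 2 ∈ multField Ht := by
      intro a ha
      rw [← conj_uu_of_isB g hB a]
      exact Ht.mul_mem (Ht.mul_mem hg ha) (Ht.inv_mem hg)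
    have hmem : g * w ∈ Ht := Ht.mul_mem hg c.hw
    have h1 := c.h3 _ hmem (by
      rw [mul_w_10 _ _ c.hw0]
      exact mul_ne_zero h11 hγ)
    rw [mul_w_10 _ _ c.hw0, mul_w_00 _ _ c.hw0, mul_div_mul_right _ _ hγ] at h1
    obtain ⟨k, hk, hk'⟩ := (c.A_iff _).1 h1
    refine ⟨(g : Matrix (Fin 2) (Fin 2) F) 1 1, h11, _, hα, k, hk, 0, (multField Ht).zero_mem, 1,
      (multField Ht).one_mem, ?_, ?_, ?_, ?_⟩
    · linear_combination (-(g : Matrix (Fin 2) (Fin 2) F) 0 0) * hd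
    · field_simp at hk'
      linear_combination hk'
    · rw [h10, zero_mul, mul_zero]
    · rw [mul_one]
  · have hr := c.h3 g hg h10
    set r := (g : Matrix (Fin 2) (Fin 2) F) 0 0 / (g : Matrix (Fin 2) (Fin 2) F) 1 0 with hrdef
    obtain ⟨ρ, hρ, hρ'⟩ := (c.A_iff _).1 hr
    have hg' : uu (-r) * g ∈ Ht := Ht.mul_mem (A_neg hr) hg
    have h00 : ((uu (-r) * g : SpecialLinearGroup (Fin 2) F) : Matrix (Fin 2) (Fin 2) F) 0 0 = 0 := by
      rw [uu_mul_00, hrdef]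
      field_simp
      ring
    obtain ⟨c11, hc11, e11⟩ := c.aux_core _ hg' h00 0 A_zero
    obtain ⟨cs, hcs, es⟩ := c.aux_core _ hg' h00 b₁ c.hu
    rw [uu_mul_10, uu_mul_11, uu_mul_01] at e11 es
    rw [mul_zero, zero_add] at e11
    set β' := (g : Matrix (Fin 2) (Fin 2) F) 0 1 + -r * (g : Matrix (Fin 2) (Fin 2) F) 1 1 with hβ'
    have hdet := det_eq (uu (-r) * g)
    rw [h00, zero_mul, zero_sub, uu_mul_01, uu_mul_10, ← hβ'] at hdet
    have hβ0 : β' ≠ 0 := by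
      intro h
      rw [h, zero_mul, neg_zero] at hdet
      exact zero_ne_one hdet
    refine ⟨β' / b₁, div_ne_zero hβ0 hb, ρ * (cs - c11), ?_, 1 + ρ * c11, ?_, cs - c11, ?_, c11, hc11,
      ?_, ?_, ?_, e11⟩
    · exact (multField Ht).mul_mem hρ ((multField Ht).sub_mem hcs hc11)
    · exact (multField Ht).add_mem (multField Ht).one_mem ((multField Ht).mul_mem hρ hc11)
    · exact (multField Ht).sub_mem hcs hc11
    · have e1 : (g : Matrix (Fin 2) (Fin 2) F) 0 0 = r * (g : Matrix (Fin 2) (Fin 2) F) 1 0 := by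
        rw [hrdef, div_mul_cancel₀ _ h10]
      rw [e1, hρ']
      linear_combination ρ * es - ρ * e11
    · have e2 : (g : Matrix (Fin 2) (Fin 2) F) 0 1 = β' + r * (g : Matrix (Fin 2) (Fin 2) F) 1 1 := by
        rw [hβ']; ring
      rw [e2, hρ', e11]
      field_simp
    · linear_combination es - e11

theorem lower_aux (g : SpecialLinearGroup (Fin 2) F) (a b c' d : F) (ha : a ∈ multField Ht)
    (hc' : c' ∈ multField Ht) (hd : d ∈ multField Ht) (hc0 : c' ≠ 0)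
    (h00 : (g : Matrix (Fin 2) (Fin 2) F) 0 0 = a) (h01 : (g : Matrix (Fin 2) (Fin 2) F) 0 1 = b * b₁)
    (h10 : (g : Matrix (Fin 2) (Fin 2) F) 1 0 = c' / b₁) (h11 : (g : Matrix (Fin 2) (Fin 2) F) 1 1 = d) :
    g ∈ Ht := by
  have hb := c.hb₁
  have hdet := det_eq g
  rw [h00, h01, h10, h11] at hdet
  have hdet' : a * d - b * c' = 1 := by
    rw [← hdet]; field_simp
  have e : g = uu (((a - 1) / c') * b₁) * ll (c' / b₁) * uu (((d - 1) / c') * b₁) := by
    apply Subtype.ext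
    rw [Matrix.SpecialLinearGroup.coe_mul, Matrix.SpecialLinearGroup.coe_mul]
    apply mat2_ext <;>
      simp [uu, ll, Matrix.mul_apply, Fin.sum_univ_two, h00, h01, h10, h11]
    · field_simp
      ring
    · field_simp
      linear_combination (-1 : F) * hdet'
    · field_simp
      ring
  rw [e]
  have h1 : uu (((a - 1) / c') * b₁) ∈ Ht :=
    (c.A_iff _).2 ⟨_, (multField Ht).div_mem ((multField Ht).sub_mem ha (multField Ht).one_mem) hc', rfl⟩
  have h2 : uu (((d - 1) / c') * b₁) ∈ Ht :=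
    (c.A_iff _).2 ⟨_, (multField Ht).div_mem ((multField Ht).sub_mem hd (multField Ht).one_mem) hc', rfl⟩
  exact Ht.mul_mem (Ht.mul_mem h1 (c.ll_mem_K hc')) h2

/-- `Ht` contains the conjugate of `SL₂(K₀)` -/
theorem lower (g : SpecialLinearGroup (Fin 2) F) (a b c' d : F) (ha : a ∈ multField Ht)
    (hb' : b ∈ multField Ht) (hc' : c' ∈ multField Ht) (hd : d ∈ multField Ht)
    (h00 : (g : Matrix (Fin 2) (Fin 2) F) 0 0 = a) (h01 : (g : Matrix (Fin 2) (Fin 2) F) 0 1 = b * b₁)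
    (h10 : (g : Matrix (Fin 2) (Fin 2) F) 1 0 = c' / b₁) (h11 : (g : Matrix (Fin 2) (Fin 2) F) 1 1 = d) :
    g ∈ Ht := by
  have hb := c.hb₁
  by_cases hc0 : c' = 0
  · have hdet := det_eq g
    rw [h00, h01, h10, h11, hc0, zero_div, mul_zero, sub_zero] at hdet
    have ha0 : a ≠ 0 := by
      rintro rfl
      rw [zero_mul] at hdet
      exact zero_ne_one hdet
    have hl : ll (1 / b₁) ∈ Ht := c.ll_mem_K (multField Ht).one_mem
    have h1 : ll (1 / b₁) * g ∈ Ht := by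
      apply c.lower_aux _ a b a (b + d) ha ha ((multField Ht).add_mem hb' hd) ha0
      · rw [Matrix.SpecialLinearGroup.coe_mul]
        simp [ll, Matrix.mul_apply, Fin.sum_univ_two, h00]
      · rw [Matrix.SpecialLinearGroup.coe_mul]
        simp [ll, Matrix.mul_apply, Fin.sum_univ_two, h01]
      · rw [Matrix.SpecialLinearGroup.coe_mul]
        simp [ll, Matrix.mul_apply, Fin.sum_univ_two, h00, h10, hc0]
        field_simp
      · rw [Matrix.SpecialLinearGroup.coe_mul]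
        simp [ll, Matrix.mul_apply, Fin.sum_univ_two, h01, h11]
        field_simp
    have : g = (ll (1 / b₁))⁻¹ * (ll (1 / b₁) * g) := by group
    rw [this]
    exact Ht.mul_mem (Ht.inv_mem hl) h1
  · exact c.lower_aux g a b c' d ha hc' hd hc0 h00 h01 h10 h11

end Cfg

end cfg

end Cfsg.Agent.Lib.Helper15.Dk
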