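import Mathlib
import Cfsg.Agent.Lib.Helper15.Klein2
import Cfsg.Agent.S0265
set_option autoImplicit false
namespace Cfsg.Agent.Lib.Helper15

open Matrix

section subfield

/-- pulling back an embedded group along an injective hom -/
theorem exists_subgroup_of_range_le {P Q A : Type*} [Group P] [Group Q] [Group A] (j : P →* Q)
    (hj : Function.Injective j) (φ : A →* Q) (hφ : Function.Injective φ) (hle : φ.range ≤ j.range) :
    ∃ H : Subgroup P, Nonempty (H ≃* A) := by
  refine ⟨φ.range.comap j, ⟨?_⟩⟩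
  have e1 : (φ.range.comap j) ≃* (φ.range.comap j).map j := Subgroup.equivMapOfInjective _ j hj
  have e2 : (φ.range.comap j).map j = φ.range := by
    rw [Subgroup.map_comap_eq, inf_eq_right.2 hle]
  exact e1.trans ((MulEquiv.subgroupCongr e2).trans (MonoidHom.ofInjective hφ).symm)

variable {K F : Type*} [Field K] [Field F]

/-- the map `PGL₂(K) → PGL₂(F)` induced by a field embedding is injective -/
theorem pgl_map_injective (f : K →+* F) :
    Function.Injective (ProjGenLinGroup.map (n := Fin 2) f) := by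
  rw [injective_iff_map_eq_one]
  intro x hx
  induction x using ProjGenLinGroup.induction_on with | mk g =>
  rw [ProjGenLinGroup.map_mk, ProjGenLinGroup.mk_eq_one, GeneralLinearGroup.center_eq_range_scalar] at hx
  obtain ⟨u, hu⟩ := hx
  have hent : ∀ i j : Fin 2, f (g i j) = (Matrix.scalar (Fin 2) (u : F)) i j := by
    intro i j
    rw [← GeneralLinearGroup.coe_scalar, hu, GeneralLinearGroup.map_apply]
  have h01 : g 0 1 = 0 := by
    have := hent 0 1
    rw [Matrix.scalar_apply, Matrix.diagonal_apply_ne _ (by decide)] at this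
    exact (map_eq_zero f).1 this
  have h10 : g 1 0 = 0 := by
    have := hent 1 0
    rw [Matrix.scalar_apply, Matrix.diagonal_apply_ne _ (by decide)] at this
    exact (map_eq_zero f).1 this
  have h00 : g 0 0 = g 1 1 := by
    have h0 := hent 0 0
    have h1 := hent 1 1
    rw [Matrix.scalar_apply, Matrix.diagonal_apply_eq] at h0 h1
    exact f.injective (h0.trans h1.symm)
  have hne : g 0 0 ≠ 0 := by
    intro h0
    have h0' := hent 0 0
    rw [Matrix.scalar_apply, Matrix.diagonal_apply_eq, h0, map_zero] at h0'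
    exact u.ne_zero h0'.symm
  rw [ProjGenLinGroup.mk_eq_one, GeneralLinearGroup.center_eq_range_scalar]
  refine ⟨Units.mk0 _ hne, ?_⟩
  apply Units.ext
  rw [GeneralLinearGroup.coe_scalar]
  ext i j
  fin_cases i <;> fin_cases j <;> simp [h01, h10, ← h00]

theorem gl_map_toGL (f : K →+* F) (g : SpecialLinearGroup (Fin 2) K) :
    GeneralLinearGroup.map f (SpecialLinearGroup.toGL g) = SpecialLinearGroup.toGL (SpecialLinearGroup.map f g) := by
  apply Units.ext
  rfl

/-- `PSL₂(K)` embeds in `PSL₂(F)` for a field embedding `K → F` -/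
theorem exists_PSL2_subfield (f : K →+* F) :
    ∃ H : Subgroup (ProjectiveSpecialLinearGroup (Fin 2) F),
      Nonempty (H ≃* ProjectiveSpecialLinearGroup (Fin 2) K) := by
  apply exists_subgroup_of_range_le (ProjectiveSpecialLinearGroup.toPGL (n := Fin 2) (R := F))
    ProjectiveSpecialLinearGroup.toPGL_injective
    ((ProjGenLinGroup.map (n := Fin 2) f).comp (ProjectiveSpecialLinearGroup.toPGL (n := Fin 2) (R := K)))
  · exact (pgl_map_injective f).comp ProjectiveSpecialLinearGroup.toPGL_injective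
  · rintro _ ⟨x, rfl⟩
    induction x using QuotientGroup.induction_on with | H g =>
    refine ⟨QuotientGroup.mk (SpecialLinearGroup.map f g), ?_⟩
    rw [MonoidHom.comp_apply, ProjectiveSpecialLinearGroup.toPGL_mk, ProjectiveSpecialLinearGroup.toPGL_mk,
      ProjGenLinGroup.map_mk, gl_map_toGL]

/-- an element of `GL₂(F)` whose determinant is a square has image in `PGL₂(F)` coming from `PSL₂(F)` -/
theorem mk_mem_range_toPGL (A : GL (Fin 2) F) (r : Fˣ) (hr : r ^ 2 * A.det = 1) :
    ProjGenLinGroup.mk A ∈ (ProjectiveSpecialLinearGroup.toPGL (n := Fin 2) (R := F)).range := by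
  have hr' : (r.1 • A.1).det = 1 := by
    rw [Matrix.det_smul, Fintype.card_fin]
    have := congrArg Units.val hr
    simpa using this
  let B : SpecialLinearGroup (Fin 2) F := ⟨r.1 • A.1, hr'⟩
  refine ⟨QuotientGroup.mk' _ B, ?_⟩
  show ProjGenLinGroup.mk (SpecialLinearGroup.toGL B) = ProjGenLinGroup.mk A
  rw [ProjGenLinGroup.mk_eq_mk_iff]
  refine ⟨r⁻¹, Units.ext ?_⟩
  rw [Units.val_mul, SpecialLinearGroup.coe_GL_coe_matrix, GeneralLinearGroup.coe_scalar]
  show (r.1 • A.1) * Matrix.scalar (Fin 2) (r⁻¹ : Fˣ).1 = A.1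
  rw [Matrix.smul_mul, Matrix.scalar_apply, ← Matrix.smul_eq_mul_diagonal]
  rw [smul_smul, Units.val_inv_eq_inv_val, mul_inv_cancel₀ r.ne_zero, one_smul]

theorem sub_one_dvd_half (r k : ℕ) (hr : Odd r) : (r - 1) ∣ r ^ (2 * k) / 2 := by
  obtain ⟨t, ht⟩ := hr
  have h1 : r ^ 2 - 1 ∣ (r ^ 2) ^ k - 1 := by
    have := Nat.sub_dvd_pow_sub_pow (r ^ 2) 1 k
    rwa [one_pow] at this
  obtain ⟨c, hc⟩ := h1
  have h2 : r ^ 2 - 1 = (r - 1) * (2 * (t + 1)) := by
    have : r ^ 2 = (r - 1) * (2 * (t + 1)) + 1 := by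
      subst ht
      rw [show 2 * t + 1 - 1 = 2 * t by omega]
      ring
    omega
  have hpos : 1 ≤ (r ^ 2) ^ k := Nat.one_le_pow _ _ (by subst ht; positivity)
  have h3 : r ^ (2 * k) = 2 * ((r - 1) * ((t + 1) * c)) + 1 := by
    rw [pow_mul]
    have : (r ^ 2) ^ k = (r ^ 2) ^ k - 1 + 1 := by omega
    rw [this, hc, h2]
    ring
  rw [h3]
  have : (2 * ((r - 1) * ((t + 1) * c)) + 1) / 2 = (r - 1) * ((t + 1) * c) := by omega
  rw [this]
  exact dvd_mul_right _ _

/-- elements of the subfield of index `m` even are squares in the big field -/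
theorem isSquare_map_of_even [Fintype K] [Fintype F] (f : K →+* F) (hodd : Odd (Fintype.card F)) (m : ℕ)
    (hm : Even m) (hK : Fintype.card K ^ m = Fintype.card F) (x : K) : IsSquare (f x) := by
  by_cases hx : x = 0
  · rw [hx, map_zero]; exact IsSquare.zero
  have hchar : ringChar F ≠ 2 := by
    intro h
    have := FiniteField.even_card_of_char_two h
    rw [Nat.odd_iff] at hodd
    omega
  rw [FiniteField.isSquare_iff hchar ((map_ne_zero f).2 hx)]
  obtain ⟨k, hk⟩ := hm
  have hk' : m = 2 * k := by omega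
  have hm0 : m ≠ 0 := by
    rintro rfl
    rw [pow_zero] at hK
    have : 1 < Fintype.card F := Fintype.one_lt_card
    omega
  have hrodd : Odd (Fintype.card K) := by
    rw [← hK] at hodd
    exact (Nat.odd_pow_iff hm0).1 hodd
  obtain ⟨c, hc⟩ := sub_one_dvd_half (Fintype.card K) k hrodd
  rw [← hK, hk', hc, ← map_pow, pow_mul, FiniteField.pow_card_sub_one_eq_one x hx, one_pow, map_one]

/-- `PGL₂(K)` embeds in `PSL₂(F)` when `[F : K]` is even (odd characteristic) -/
theorem exists_PGL2_subfield [Fintype K] [Fintype F] (f : K →+* F) (hodd : Odd (Fintype.card F)) (m : ℕ)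
    (hm : Even m) (hK : Fintype.card K ^ m = Fintype.card F) :
    ∃ H : Subgroup (ProjectiveSpecialLinearGroup (Fin 2) F),
      Nonempty (H ≃* ProjGenLinGroup (Fin 2) K) := by
  apply exists_subgroup_of_range_le (ProjectiveSpecialLinearGroup.toPGL (n := Fin 2) (R := F))
    ProjectiveSpecialLinearGroup.toPGL_injective (ProjGenLinGroup.map (n := Fin 2) f) (pgl_map_injective f)
  rintro _ ⟨x, rfl⟩
  induction x using ProjGenLinGroup.induction_on with | mk g =>
  rw [ProjGenLinGroup.map_mk]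
  obtain ⟨c, hc⟩ := isSquare_map_of_even f hodd m hm hK ((GeneralLinearGroup.det g : Kˣ) : K)
  have hc0 : c ≠ 0 := by
    rintro rfl
    rw [mul_zero] at hc
    exact (GeneralLinearGroup.det g).ne_zero ((map_eq_zero f).1 hc)
  apply mk_mem_range_toPGL _ (Units.mk0 c hc0)⁻¹
  rw [GeneralLinearGroup.map_det]
  apply Units.ext
  rw [Units.val_mul, Units.val_pow_eq_pow_val, Units.val_inv_eq_inv_val, Units.val_mk0, Units.coe_map,
    Units.val_one]
  show c⁻¹ ^ 2 * f ((GeneralLinearGroup.det g : Kˣ) : K) = 1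
  rw [hc]
  field_simp

theorem geom_odd (x : ℕ) (hx : Odd x) (k : ℕ) : Odd (∑ i ∈ Finset.range (2 * k + 1), x ^ i) := by
  induction k with
  | zero => simp
  | succ k ih =>
    rw [show 2 * (k + 1) + 1 = 2 * k + 1 + 1 + 1 by ring, Finset.sum_range_succ, Finset.sum_range_succ, add_assoc]
    exact ih.add_even ((hx.pow).add_odd (hx.pow))

/-- the arithmetic obstruction: `2 r (r² - 1) ∤ q (q² - 1)` for `q = r ^ m`, `r` and `m` odd -/
theorem not_dvd_of_odd_pow (r m : ℕ) (hr : Odd r) (hr2 : 1 < r) (hm : Odd m) :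
    ¬ (2 * (r * (r ^ 2 - 1)) ∣ r ^ m * ((r ^ m) ^ 2 - 1)) := by
  intro hdvd
  obtain ⟨k, hk⟩ := hm
  have hr1 : 1 ≤ r ^ 2 := Nat.one_le_pow _ _ hr.pos
  have hgeo := geom_sum_mul_add (r ^ 2 - 1) m
  rw [Nat.sub_add_cancel hr1] at hgeo
  have hS : Odd (∑ i ∈ Finset.range m, (r ^ 2) ^ i) := by
    rw [hk]; exact geom_odd _ hr.pow k
  set S := ∑ i ∈ Finset.range m, (r ^ 2) ^ i with hSdef
  have hq2 : (r ^ m) ^ 2 - 1 = S * (r ^ 2 - 1) := by
    rw [← pow_mul, mul_comm m 2, pow_mul, ← hgeo]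
    omega
  have hpos : 0 < r ^ 2 - 1 := by
    have h3 : 3 ≤ r := by
      obtain ⟨t, ht⟩ := hr
      omega
    have : 9 ≤ r ^ 2 := by nlinarith
    omega
  rw [hq2] at hdvd
  have h1 : (2 * r) * (r ^ 2 - 1) ∣ (r ^ m * S) * (r ^ 2 - 1) := by
    convert hdvd using 1 <;> ring
  have h2 : 2 * r ∣ r ^ m * S := Nat.dvd_of_mul_dvd_mul_right hpos h1
  have h3 : 2 ∣ r ^ m * S := (dvd_mul_right 2 r).trans h2
  have h4 : Odd (r ^ m * S) := hr.pow.mul hS
  rw [Nat.odd_iff] at h4
  omega

/-- `PGL₂(K)` does not embed in `PSL₂(F)` when `[F : K]` is odd (odd characteristic) -/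
theorem even_of_PGL2_subfield [Fintype K] [Fintype F] (hodd : Odd (Fintype.card F)) (m : ℕ)
    (hK : Fintype.card K ^ m = Fintype.card F)
    (H : Subgroup (ProjectiveSpecialLinearGroup (Fin 2) F))
    (e : H ≃* ProjGenLinGroup (Fin 2) K) : Even m := by
  by_contra hm
  rw [Nat.not_even_iff_odd] at hm
  have hm0 : m ≠ 0 := by rintro rfl; simp at hm
  have hrodd : Odd (Fintype.card K) := by
    rw [← hK] at hodd
    exact (Nat.odd_pow_iff hm0).1 hodd
  have h2F : (2 : F) ≠ 0 := by
    rw [Ne, ← Cfsg.Agent.Lib.Helper15.two_dvd_card_iff]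
    rw [Nat.odd_iff] at hodd
    omega
  have hH : Nat.card H = Fintype.card K * (Fintype.card K ^ 2 - 1) := by
    rw [Nat.card_congr e.toEquiv, Cfsg.Agent.S0265.result, Cfsg.Agent.Lib.Helper14.card_SL2]
  have hdvd : Nat.card H ∣ Nat.card (ProjectiveSpecialLinearGroup (Fin 2) F) :=
    Subgroup.card_subgroup_dvd_card H
  have hcard : Nat.card (SpecialLinearGroup (Fin 2) F) =
      Nat.card (ProjectiveSpecialLinearGroup (Fin 2) F) * 2 := by
    have := Subgroup.card_eq_card_quotient_mul_card_subgroup (Subgroup.center (SpecialLinearGroup (Fin 2) F))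
    rw [card_center_SL2 h2F] at this
    exact this
  rw [Cfsg.Agent.Lib.Helper14.card_SL2, ← hK] at hcard
  apply not_dvd_of_odd_pow (Fintype.card K) m hrodd Fintype.one_lt_card hm
  rw [hcard, mul_comm 2, ← hH]
  exact Nat.mul_dvd_mul_right hdvd 2

end subfield
end Cfsg.Agent.Lib.Helper15
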