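import Mathlib
import Cfsg.Agent.Lib.Helper15.Dk6a
import Cfsg.Agent.Lib.Helper15.SubfieldPSL
import Cfsg.Agent.Lib.Helper15.Klein3

/-!
# Dickson project, part 6b: from the matrix description to `PSL₂(K)` or `PGL₂(K)`
-/

set_option autoImplicit false

open scoped Pointwise

namespace Cfsg.Agent.Lib.Helper15.Dk

open Matrix
open Cfsg.Agent.Lib.Helper14
open Cfsg.Agent.Lib.Helper15

section index2
variable {K : Type*} [Field K] [Finite K]

/-- the image of `PSL₂(K)` has index at most two in `PGL₂(K)` -/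
theorem pgl_index_two (x y : ProjGenLinGroup (Fin 2) K)
    (hx : x ∉ (ProjectiveSpecialLinearGroup.toPGL (n := Fin 2) (R := K)).range)
    (hy : y ∉ (ProjectiveSpecialLinearGroup.toPGL (n := Fin 2) (R := K)).range) :
    x⁻¹ * y ∈ (ProjectiveSpecialLinearGroup.toPGL (n := Fin 2) (R := K)).range := by
  induction x using ProjGenLinGroup.induction_on with | mk g =>
  induction y using ProjGenLinGroup.induction_on with | mk g' =>
  have hns : ¬ ∃ s : Kˣ, GeneralLinearGroup.det g = s * s := by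
    rintro ⟨s, hs⟩
    apply hx
    apply mk_mem_range_toPGL g s⁻¹
    rw [hs, inv_pow, pow_two, inv_mul_cancel]
  rcases cyclic_sq_or (GeneralLinearGroup.det g) hns (GeneralLinearGroup.det g') with ⟨s, hs⟩ | ⟨s, hs⟩
  · exfalso
    apply hy
    apply mk_mem_range_toPGL g' s⁻¹
    rw [hs, inv_pow, pow_two, inv_mul_cancel]
  · rw [← map_inv, ← map_mul]
    apply mk_mem_range_toPGL (g⁻¹ * g') s⁻¹
    rw [map_mul, map_inv, hs, inv_pow, pow_two]
    rw [mul_comm (s * s) (GeneralLinearGroup.det g), ← mul_assoc (GeneralLinearGroup.det g)⁻¹,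
      inv_mul_cancel, one_mul, inv_mul_cancel]

end index2

section main
variable {F : Type*} [Field F] {K : Type*} [Field K]

/-- `diag(b₁, 1)` -/
noncomputable def Dmat (b₁ : F) (hb : b₁ ≠ 0) : GL (Fin 2) F :=
  GeneralLinearGroup.mkOfDetNeZero !![b₁, 0; 0, 1] (by simp [Matrix.det_fin_two, hb])

/-- the embedding of `PGL₂(K)` into `PGL₂(F)` twisted by `diag(b₁, 1)` -/
noncomputable def psi (b₁ : F) (hb : b₁ ≠ 0) (f : K →+* F) :
    ProjGenLinGroup (Fin 2) K →* ProjGenLinGroup (Fin 2) F :=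
  (MulAut.conj (ProjGenLinGroup.mk (Dmat b₁ hb))).toMonoidHom.comp (ProjGenLinGroup.map (n := Fin 2) f)

theorem psi_apply (b₁ : F) (hb : b₁ ≠ 0) (f : K →+* F) (x : ProjGenLinGroup (Fin 2) K) :
    psi b₁ hb f x = ProjGenLinGroup.mk (Dmat b₁ hb) * ProjGenLinGroup.map (n := Fin 2) f x *
      (ProjGenLinGroup.mk (Dmat b₁ hb))⁻¹ := rfl

theorem psi_injective (b₁ : F) (hb : b₁ ≠ 0) (f : K →+* F) : Function.Injective (psi b₁ hb f) :=
  (MulAut.conj _).injective.comp (pgl_map_injective f)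

/-- the criterion for membership in the range of `psi` -/
theorem mem_range_psi (b₁ : F) (hb : b₁ ≠ 0) (f : K →+* F) (g : GL (Fin 2) F) (g₀ : GL (Fin 2) K) (u : Fˣ)
    (h : g * Dmat b₁ hb = Dmat b₁ hb * GeneralLinearGroup.map f g₀ * GeneralLinearGroup.scalar (Fin 2) u) :
    psi b₁ hb f (ProjGenLinGroup.mk g₀) = ProjGenLinGroup.mk g := by
  rw [psi_apply, ProjGenLinGroup.map_mk]
  have h1 : ProjGenLinGroup.mk g = ProjGenLinGroup.mk (g * Dmat b₁ hb) * (ProjGenLinGroup.mk (Dmat b₁ hb))⁻¹ := by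
    rw [map_mul, mul_inv_cancel_right]
  rw [h1, h, map_mul, map_mul, ProjGenLinGroup.mk_scalar, mul_one]

theorem Dmat_coe (b₁ : F) (hb : b₁ ≠ 0) :
    ((Dmat b₁ hb : GL (Fin 2) F) : Matrix (Fin 2) (Fin 2) F) = !![b₁, 0; 0, 1] := rfl

theorem gl_eq_of_entries (b₁ : F) (hb : b₁ ≠ 0) (f : K →+* F) (g : SpecialLinearGroup (Fin 2) F)
    (g₀ : GL (Fin 2) K) (u : Fˣ)
    (e00 : (g : Matrix (Fin 2) (Fin 2) F) 0 0 = u * f (g₀ 0 0))
    (e01 : (g : Matrix (Fin 2) (Fin 2) F) 0 1 = u * f (g₀ 0 1) * b₁)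
    (e10 : (g : Matrix (Fin 2) (Fin 2) F) 1 0 * b₁ = u * f (g₀ 1 0))
    (e11 : (g : Matrix (Fin 2) (Fin 2) F) 1 1 = u * f (g₀ 1 1)) :
    SpecialLinearGroup.toGL g * Dmat b₁ hb =
      Dmat b₁ hb * GeneralLinearGroup.map f g₀ * GeneralLinearGroup.scalar (Fin 2) u := by
  apply Units.ext
  rw [Units.val_mul, Units.val_mul, Units.val_mul, Dmat_coe, GeneralLinearGroup.coe_scalar]
  ext i j
  fin_cases i <;> fin_cases j <;>
    simp [Matrix.mul_apply, Fin.sum_univ_two, Matrix.scalar_apply, Matrix.vecMul, dotProduct,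
      Matrix.map_apply, e00, e01, e10, e11] <;> ring

variable [Finite F]

/-- the upper bound -/
theorem upper_psi {Ht : Subgroup (SpecialLinearGroup (Fin 2) F)} {b₁ : F} {w : SpecialLinearGroup (Fin 2) F}
    (c : Cfg Ht b₁ w) (f : K →+* F) (hf : ∀ x : F, x ∈ multField Ht ↔ ∃ k : K, f k = x)
    (g : SpecialLinearGroup (Fin 2) F) (hg : g ∈ Ht) :
    ∃ g₀ : GL (Fin 2) K, psi b₁ c.hb₁ f (ProjGenLinGroup.mk g₀) =
      ProjGenLinGroup.mk (SpecialLinearGroup.toGL g) := by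
  obtain ⟨lam, hlam, c00, h00, c01, h01, c10, h10, c11, h11, e00, e01, e10, e11⟩ := c.core g hg
  obtain ⟨k00, rfl⟩ := (hf _).1 h00
  obtain ⟨k01, rfl⟩ := (hf _).1 h01
  obtain ⟨k10, rfl⟩ := (hf _).1 h10
  obtain ⟨k11, rfl⟩ := (hf _).1 h11
  have hb := c.hb₁
  have hdet : (!![k00, k01; k10, k11] : Matrix (Fin 2) (Fin 2) K).det ≠ 0 := by
    intro h0
    have h1 : f ((!![k00, k01; k10, k11] : Matrix (Fin 2) (Fin 2) K).det) = 0 := by rw [h0, map_zero]
    rw [Matrix.det_fin_two_of, map_sub, map_mul, map_mul] at h1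
    have hd := det_eq g
    have h2 : (g : Matrix (Fin 2) (Fin 2) F) 0 1 * (g : Matrix (Fin 2) (Fin 2) F) 1 0 =
        lam * f k01 * (lam * f k10) := by
      rw [e01, ← e10]; ring
    rw [h2, e00, e11] at hd
    have : (1 : F) = 0 := by
      rw [← hd]
      linear_combination lam ^ 2 * h1
    exact one_ne_zero this
  refine ⟨GeneralLinearGroup.mkOfDetNeZero _ hdet, ?_⟩
  apply mem_range_psi b₁ hb f _ _ (Units.mk0 lam hlam)
  apply gl_eq_of_entries
  · exact e00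
  · exact e01
  · exact e10
  · exact e11

/-- the lower bound -/
theorem lower_psi {Ht : Subgroup (SpecialLinearGroup (Fin 2) F)} {b₁ : F} {w : SpecialLinearGroup (Fin 2) F}
    (c : Cfg Ht b₁ w) (f : K →+* F) (hf : ∀ x : F, x ∈ multField Ht ↔ ∃ k : K, f k = x)
    (s : SpecialLinearGroup (Fin 2) K) :
    ∃ g ∈ Ht, psi b₁ c.hb₁ f (ProjGenLinGroup.mk (SpecialLinearGroup.toGL s)) =
      ProjGenLinGroup.mk (SpecialLinearGroup.toGL g) := by
  have hb := c.hb₁
  have hdets := det_eq s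
  let g : SpecialLinearGroup (Fin 2) F :=
    ⟨!![f ((s : Matrix (Fin 2) (Fin 2) K) 0 0), f ((s : Matrix (Fin 2) (Fin 2) K) 0 1) * b₁;
        f ((s : Matrix (Fin 2) (Fin 2) K) 1 0) / b₁, f ((s : Matrix (Fin 2) (Fin 2) K) 1 1)], by
      rw [Matrix.det_fin_two_of]
      have : f ((s : Matrix (Fin 2) (Fin 2) K) 0 0) * f ((s : Matrix (Fin 2) (Fin 2) K) 1 1) -
          f ((s : Matrix (Fin 2) (Fin 2) K) 0 1) * f ((s : Matrix (Fin 2) (Fin 2) K) 1 0) = 1 := by
        rw [← map_mul, ← map_mul, ← map_sub, hdets, map_one]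
      rw [← this]
      field_simp⟩
  have g00 : (g : Matrix (Fin 2) (Fin 2) F) 0 0 = f ((s : Matrix (Fin 2) (Fin 2) K) 0 0) := rfl
  have g01 : (g : Matrix (Fin 2) (Fin 2) F) 0 1 = f ((s : Matrix (Fin 2) (Fin 2) K) 0 1) * b₁ := rfl
  have g10 : (g : Matrix (Fin 2) (Fin 2) F) 1 0 = f ((s : Matrix (Fin 2) (Fin 2) K) 1 0) / b₁ := rfl
  have g11 : (g : Matrix (Fin 2) (Fin 2) F) 1 1 = f ((s : Matrix (Fin 2) (Fin 2) K) 1 1) := rfl
  have hgm : g ∈ Ht :=
    c.lower g _ _ _ _ ((hf _).2 ⟨_, rfl⟩) ((hf _).2 ⟨_, rfl⟩) ((hf _).2 ⟨_, rfl⟩) ((hf _).2 ⟨_, rfl⟩)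
      g00 g01 g10 g11
  refine ⟨g, hgm, ?_⟩
  apply mem_range_psi b₁ hb f _ _ 1
  apply gl_eq_of_entries
  · rw [g00]; simp
  · rw [g01]; simp
  · rw [g10]; simp [hb]
  · rw [g11]; simp

/-- the structure theorem: `H` is `PSL₂(K)` or `PGL₂(K)` -/
theorem psl_or_pgl [Finite K] (H : Subgroup (ProjectiveSpecialLinearGroup (Fin 2) F)) (b₁ : F)
    (w : SpecialLinearGroup (Fin 2) F) (c : Cfg (H.comap (toPSL2 F)) b₁ w) (f : K →+* F)
    (hf : ∀ x : F, x ∈ multField (H.comap (toPSL2 F)) ↔ ∃ k : K, f k = x) :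
    Nonempty (H ≃* ProjectiveSpecialLinearGroup (Fin 2) K) ∨
      Nonempty (H ≃* ProjGenLinGroup (Fin 2) K) := by
  have hup : H.map (ProjectiveSpecialLinearGroup.toPGL (n := Fin 2) (R := F)) ≤ (psi b₁ c.hb₁ f).range := by
    rintro _ ⟨x, hx, rfl⟩
    obtain ⟨g, rfl⟩ := toPSL2_surjective x
    obtain ⟨g₀, hg₀⟩ := upper_psi c f hf g hx
    exact ⟨_, hg₀⟩
  have hlow : (ProjectiveSpecialLinearGroup.toPGL (n := Fin 2) (R := K)).range ≤
      (H.map (ProjectiveSpecialLinearGroup.toPGL (n := Fin 2) (R := F))).comap (psi b₁ c.hb₁ f) := by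
    rintro _ ⟨x, rfl⟩
    obtain ⟨s, rfl⟩ := toPSL2_surjective x
    obtain ⟨g, hg, hgs⟩ := lower_psi c f hf s
    rw [Subgroup.mem_comap]
    change psi b₁ c.hb₁ f (ProjGenLinGroup.mk (SpecialLinearGroup.toGL s)) ∈ _
    rw [hgs]
    exact ⟨toPSL2 F g, hg, rfl⟩
  set M' := (H.map (ProjectiveSpecialLinearGroup.toPGL (n := Fin 2) (R := F))).comap (psi b₁ c.hb₁ f) with hM'
  have e1 : H ≃* H.map (ProjectiveSpecialLinearGroup.toPGL (n := Fin 2) (R := F)) :=
    Subgroup.equivMapOfInjective H _ ProjectiveSpecialLinearGroup.toPGL_injective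
  have e2 : M' ≃* H.map (ProjectiveSpecialLinearGroup.toPGL (n := Fin 2) (R := F)) := by
    have h1 : M'.map (psi b₁ c.hb₁ f) = H.map (ProjectiveSpecialLinearGroup.toPGL (n := Fin 2) (R := F)) := by
      rw [hM', Subgroup.map_comap_eq, inf_eq_right.2 hup]
    exact (Subgroup.equivMapOfInjective M' _ (psi_injective b₁ c.hb₁ f)).trans (MulEquiv.subgroupCongr h1)
  by_cases hM : ∀ x ∈ M', x ∈ (ProjectiveSpecialLinearGroup.toPGL (n := Fin 2) (R := K)).range
  · left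
    have h3 : M' = (ProjectiveSpecialLinearGroup.toPGL (n := Fin 2) (R := K)).range := le_antisymm hM hlow
    exact ⟨e1.trans (e2.symm.trans ((MulEquiv.subgroupCongr h3).trans
      (MonoidHom.ofInjective ProjectiveSpecialLinearGroup.toPGL_injective).symm))⟩
  · right
    push Not at hM
    obtain ⟨m, hmM, hmS⟩ := hM
    have h3 : M' = ⊤ := by
      rw [eq_top_iff]
      intro x _
      by_cases hx : x ∈ (ProjectiveSpecialLinearGroup.toPGL (n := Fin 2) (R := K)).range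
      · exact hlow hx
      · have := hlow (pgl_index_two m x hmS hx)
        have e : x = m * (m⁻¹ * x) := by group
        rw [e]
        exact M'.mul_mem hmM this
    exact ⟨e1.trans (e2.symm.trans ((MulEquiv.subgroupCongr h3).trans Subgroup.topEquiv))⟩

end main

end Cfsg.Agent.Lib.Helper15.Dk
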