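import Mathlib
import Cfsg.Agent.Lib.Helper15.Dk6b

/-!
# Dickson project, part 6c: the case `n_p = |Q| + 1` for a subgroup of `PSL₂(F)`
-/

set_option autoImplicit false

open scoped Pointwise

namespace Cfsg.Agent.Lib.Helper15.Dk

open Matrix
open Cfsg.Agent.Lib.Helper14
open Cfsg.Agent.Lib.Helper15

theorem exists_type_field {F : Type*} [Field F] [Fintype F] (K₀ : Subfield F) :
    ∃ (K : Type) (_ : Field K) (_ : Fintype K) (m : ℕ) (f : K →+* F),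
      Fintype.card K ^ m = Fintype.card F ∧ ∀ x : F, x ∈ K₀ ↔ ∃ k : K, f k = x := by
  classical
  have : Fintype ↥K₀ := Fintype.ofFinite _
  obtain ⟨p, hp⟩ := CharP.exists ↥K₀
  obtain ⟨n, hpr, hn⟩ := FiniteField.card ↥K₀ p
  have : Fact p.Prime := ⟨hpr⟩
  have hfin : Fintype (GaloisField p n) := Fintype.ofFinite _
  have hcard : Fintype.card (GaloisField p n) = Fintype.card ↥K₀ := by
    rw [hn, ← Nat.card_eq_fintype_card, GaloisField.card p n n.ne_zero]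
  let e : GaloisField p n ≃+* ↥K₀ := FiniteField.ringEquivOfCardEq hcard
  refine ⟨GaloisField p n, inferInstance, hfin, Module.finrank ↥K₀ F, K₀.subtype.comp e.toRingHom, ?_, ?_⟩
  · rw [hcard]
    exact (Module.card_eq_pow_finrank (K := ↥K₀) (V := F)).symm
  · intro x
    constructor
    · intro hx
      exact ⟨e.symm ⟨x, hx⟩, by simp⟩
    · rintro ⟨k, rfl⟩
      exact (e k).2

section general
variable {F : Type*} [Field F]

theorem isUT_toPSL2 (k : SpecialLinearGroup (Fin 2) F) (hk : IsUT k) :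
    toPSL2 F k = toPSL2 F (uu ((k : Matrix (Fin 2) (Fin 2) F) 0 0 * (k : Matrix (Fin 2) (Fin 2) F) 0 1)) := by
  rw [toPSL2_eq_iff']
  apply isScalar2_mem_center
  have hsq := hk.sq
  obtain ⟨h10, h00⟩ := hk
  rw [Matrix.SpecialLinearGroup.coe_mul]
  refine ⟨?_, ?_, ?_⟩
  · simp [uu, Matrix.mul_apply, Fin.sum_univ_two, Matrix.adjugate_fin_two]
    rw [← h00]
    linear_combination ((k : Matrix (Fin 2) (Fin 2) F) 0 1) * hsq
  · simp [uu, Matrix.mul_apply, Fin.sum_univ_two, Matrix.adjugate_fin_two, h10]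
  · simp [uu, Matrix.mul_apply, Fin.sum_univ_two, Matrix.adjugate_fin_two, h10, h00]

end general

section finite
variable {F : Type*} [Field F] [Fintype F]

theorem h3_of_card (p : ℕ) [Fact p.Prime] [CharP F p] (H : Subgroup (ProjectiveSpecialLinearGroup (Fin 2) F)) (b₁ : F) (hb₁ : b₁ ≠ 0)
    (hH : toPSL2 F (uu b₁) ∈ H) (w : SpecialLinearGroup (Fin 2) F) (hw : toPSL2 F w ∈ H)
    (hw0 : (w : Matrix (Fin 2) (Fin 2) F) 0 0 = 0)
    (hN : (partH H).oi ((partH H).orb ⟨QH H, QH_mem H b₁ hb₁ hH⟩) = Nat.card (QH H) + 1)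
    (g : SpecialLinearGroup (Fin 2) F) (hg : toPSL2 F g ∈ H)
    (hg10 : (g : Matrix (Fin 2) (Fin 2) F) 1 0 ≠ 0) :
    toPSL2 F (uu ((g : Matrix (Fin 2) (Fin 2) F) 0 0 / (g : Matrix (Fin 2) (Fin 2) F) 1 0)) ∈ H := by
  have hyp := pHyp_QH p H b₁ hb₁ hH
  have hw10 : (w : Matrix (Fin 2) (Fin 2) F) 1 0 ≠ 0 := by
    intro h
    have hd := det_eq w
    rw [hw0, h, zero_mul, mul_zero, sub_zero] at hd
    exact zero_ne_one hd
  have hne : ∀ (m : SpecialLinearGroup (Fin 2) F) (hm : toPSL2 F m ∈ H),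
      (m : Matrix (Fin 2) (Fin 2) F) 1 0 ≠ 0 → MulAut.conj (⟨toPSL2 F m, hm⟩ : ↥H) • QH H ≠ QH H := by
    intro m hm hm10 h
    rw [conj_smul_eq_self_iff] at h
    exact hm10 (isB_of_normalizes H b₁ hb₁ hH _ h m rfl)
  obtain ⟨v, hv, hvv⟩ := hyp.trans_of_card hN ⟨toPSL2 F w, hw⟩ ⟨toPSL2 F g, hg⟩ (hne w hw hw10) (hne g hg hg10)
  obtain ⟨k, hk⟩ := toPSL2_surjective (v : ProjectiveSpecialLinearGroup (Fin 2) F)
  have hkUT : IsUT k := (mem_QH_iff H v k hk).1 hv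
  -- `(v w)⁻¹ g` normalizes `Q`
  have hnorm : (v * ⟨toPSL2 F w, hw⟩)⁻¹ * ⟨toPSL2 F g, hg⟩ ∈
      Subgroup.normalizer ((QH H : Subgroup ↥H) : Set ↥H) := by
    rw [← conj_smul_eq_self_iff, map_mul, mul_smul, ← hvv, ← mul_smul, ← mul_smul, ← map_mul, ← map_mul]
    have : (v * ⟨toPSL2 F w, hw⟩)⁻¹ * (v * ⟨toPSL2 F w, hw⟩) = 1 := inv_mul_cancel _
    rw [mul_assoc, this, map_one, one_smul]
  have hlift : toPSL2 F ((k * w)⁻¹ * g) =
      (((v * ⟨toPSL2 F w, hw⟩)⁻¹ * ⟨toPSL2 F g, hg⟩ : ↥H) : ProjectiveSpecialLinearGroup (Fin 2) F) := by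
    rw [map_mul, map_inv, map_mul, hk]
    rfl
  have hB := isB_of_normalizes H b₁ hb₁ hH _ hnorm _ hlift
  -- compute the entry
  have hsq := hkUT.sq
  obtain ⟨hk10, hk00⟩ := hkUT
  unfold IsB at hB
  rw [_root_.mul_inv_rev, Matrix.SpecialLinearGroup.coe_mul, Matrix.SpecialLinearGroup.coe_mul] at hB
  simp [Matrix.mul_apply, Fin.sum_univ_two, Matrix.adjugate_fin_two, hw0, hk10] at hB
  have h1 : (k : Matrix (Fin 2) (Fin 2) F) 1 1 * (g : Matrix (Fin 2) (Fin 2) F) 0 0 =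
      (k : Matrix (Fin 2) (Fin 2) F) 0 1 * (g : Matrix (Fin 2) (Fin 2) F) 1 0 := by
    have h0 : (w : Matrix (Fin 2) (Fin 2) F) 1 0 * ((k : Matrix (Fin 2) (Fin 2) F) 1 1 * (g : Matrix (Fin 2) (Fin 2) F) 0 0 -
        (k : Matrix (Fin 2) (Fin 2) F) 0 1 * (g : Matrix (Fin 2) (Fin 2) F) 1 0) = 0 := by
      linear_combination -hB
    have := (mul_eq_zero.1 h0).resolve_left hw10
    linear_combination this
  have h2 : (g : Matrix (Fin 2) (Fin 2) F) 0 0 / (g : Matrix (Fin 2) (Fin 2) F) 1 0 =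
      (k : Matrix (Fin 2) (Fin 2) F) 0 0 * (k : Matrix (Fin 2) (Fin 2) F) 0 1 := by
    rw [div_eq_iff hg10]
    rw [← hk00] at h1
    linear_combination ((k : Matrix (Fin 2) (Fin 2) F) 0 0) * h1 - ((g : Matrix (Fin 2) (Fin 2) F) 0 0) * hsq
  rw [h2, ← isUT_toPSL2 k ⟨hk10, hk00⟩, hk]
  exact v.2

end finite

end Cfsg.Agent.Lib.Helper15.Dk
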