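import Mathlib
import Cfsg.Agent.Lib.Helper15.Dk6c

/-!
# Dickson project, part 7: Dickson's classification of the subgroups of `PSL₂(q)`
-/

set_option autoImplicit false

open scoped Pointwise

namespace Cfsg.Agent.Lib.Helper15.Dk

open Matrix
open Cfsg.Agent.Lib.Helper14
open Cfsg.Agent.Lib.Helper15

section finite
variable {F : Type*} [Field F] [Fintype F]

/-- the conclusion of Dickson's theorem for an abstract group -/
def Concl (F : Type*) [Field F] [Fintype F] (p : ℕ) [Fact p.Prime] (G : Type*) [Group G] : Prop :=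
  (∃ k : ℕ, (k ∣ (Fintype.card F + 1) / Nat.gcd 2 (Fintype.card F - 1) ∨
      k ∣ (Fintype.card F - 1) / Nat.gcd 2 (Fintype.card F - 1)) ∧
    ((IsCyclic G ∧ Nat.card G = k) ∨ Nonempty (G ≃* DihedralGroup k))) ∨
  (∃ (P : Sylow p (ProjectiveSpecialLinearGroup (Fin 2) F))
    (K : Subgroup (ProjectiveSpecialLinearGroup (Fin 2) F)),
    K ≤ Subgroup.normalizer ((P : Subgroup (ProjectiveSpecialLinearGroup (Fin 2) F)) :
      Set (ProjectiveSpecialLinearGroup (Fin 2) F)) ∧ Nonempty (G ≃* K)) ∨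
  Nonempty (G ≃* alternatingGroup (Fin 4)) ∨ Nonempty (G ≃* Equiv.Perm (Fin 4)) ∨
  Nonempty (G ≃* alternatingGroup (Fin 5)) ∨
  (∃ (K : Type) (_ : Field K) (_ : Fintype K) (m : ℕ), Fintype.card K ^ m = Fintype.card F ∧
    (Nonempty (G ≃* ProjectiveSpecialLinearGroup (Fin 2) K) ∨
      Nonempty (G ≃* ProjGenLinGroup (Fin 2) K)))

theorem Concl.congr (p : ℕ) [Fact p.Prime] {G G' : Type*} [Group G] [Group G'] (e : G ≃* G')
    (h : Concl F p G') : Concl F p G := by
  rcases h with ⟨k, hk, h⟩ | ⟨P, K, hK, ⟨e'⟩⟩ | ⟨⟨e'⟩⟩ | ⟨⟨e'⟩⟩ | ⟨⟨e'⟩⟩ | ⟨K, i1, i2, m, hm, h⟩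
  · left
    refine ⟨k, hk, ?_⟩
    rcases h with ⟨hc, hcard⟩ | ⟨⟨e'⟩⟩
    · left
      exact ⟨isCyclic_of_surjective e.symm e.symm.surjective, by rw [Nat.card_congr e.toEquiv, hcard]⟩
    · right
      exact ⟨e.trans e'⟩
  · right; left
    exact ⟨P, K, hK, ⟨e.trans e'⟩⟩
  · right; right; left
    exact ⟨e.trans e'⟩
  · right; right; right; left
    exact ⟨e.trans e'⟩
  · right; right; right; right; left
    exact ⟨e.trans e'⟩
  · right; right; right; right; right
    refine ⟨K, i1, i2, m, hm, ?_⟩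
    rcases h with ⟨⟨e'⟩⟩ | ⟨⟨e'⟩⟩
    · left; exact ⟨e.trans e'⟩
    · right; exact ⟨e.trans e'⟩

variable (p : ℕ) [Fact p.Prime] [CharP F p]

/-- Dickson's theorem in the normalized situation of a non-normal Sylow `p`-subgroup -/
theorem dickson_aux (H : Subgroup (ProjectiveSpecialLinearGroup (Fin 2) F)) (b₁ : F) (hb₁ : b₁ ≠ 0)
    (hH : toPSL2 F (uu b₁) ∈ H) (w : SpecialLinearGroup (Fin 2) F) (hw : toPSL2 F w ∈ H)
    (hw0 : (w : Matrix (Fin 2) (Fin 2) F) 0 0 = 0) : Concl F p ↥H := by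
  have hyp := pHyp_QH p H b₁ hb₁ hH
  have hw10 : (w : Matrix (Fin 2) (Fin 2) F) 1 0 ≠ 0 := by
    intro h
    have hd := det_eq w
    rw [hw0, h, zero_mul, mul_zero, sub_zero] at hd
    exact zero_ne_one hd
  have hnn : ¬ (QH H).Normal := by
    intro hn
    have h1 : (⟨toPSL2 F w, hw⟩ : ↥H) ∈ Subgroup.normalizer ((QH H : Subgroup ↥H) : Set ↥H) := by
      rw [Subgroup.normalizer_eq_top_iff.2 hn]
      exact Subgroup.mem_top _
    exact hw10 (isB_of_normalizes H b₁ hb₁ hH _ h1 w rfl)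
  rcases hyp.thmIII hnn with hN | ⟨B, hB, hBS, hcyc, hdih⟩ | hA5
  · -- the main case
    right; right; right; right; right
    have c : Cfg (H.comap (toPSL2 F)) b₁ w :=
      { hb₁ := hb₁
        hu := hH
        hw := hw
        hw0 := hw0
        h3 := fun g hg h10 => h3_of_card p H b₁ hb₁ hH w hw hw0 hN g hg h10 }
    obtain ⟨K, i1, i2, m, f, hm, hf⟩ := exists_type_field (multField (H.comap (toPSL2 F)))
    exact ⟨K, i1, i2, m, hm, psl_or_pgl H b₁ w c f hf⟩
  · -- dihedral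
    left
    obtain ⟨g, hg, hgH, rfl⟩ := hB
    have ht : (g : Matrix (Fin 2) (Fin 2) F).trace ^ 2 ≠ 4 := by
      intro ht
      exact hBS (unipotent_member_sylow p H g hg ht hgH)
    obtain ⟨-, hdvd, -⟩ := semisimple_member H g hg ht hgH
    exact ⟨_, hdvd, Or.inr hdih⟩
  · right; right; right; right; left
    exact hA5


omit [Fintype F] [CharP F p] [Fact p.Prime] in
/-- images of Borel elements normalize `Ū` -/
theorem mem_normalizer_Ubar_of_isB (m : SpecialLinearGroup (Fin 2) F) (hB : IsB m) :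
    toPSL2 F m ∈ Subgroup.normalizer ((Ubar F : Subgroup (ProjectiveSpecialLinearGroup (Fin 2) F)) :
      Set (ProjectiveSpecialLinearGroup (Fin 2) F)) := by
  rw [Subgroup.mem_normalizer_iff]
  intro h
  obtain ⟨k, rfl⟩ := toPSL2_surjective h
  rw [← map_inv, ← map_mul, ← map_mul, mem_Ubar_iff, mem_Ubar_iff]
  constructor
  · intro hk
    exact hk.conj hB
  · intro hk
    have := hk.conj hB.inv
    have e : m⁻¹ * (m * k * m⁻¹) * m⁻¹⁻¹ = k := by group
    rw [e] at this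
    exact this

/-- the `p'`-case of Dickson's theorem -/
theorem dickson_coprime (H : Subgroup (ProjectiveSpecialLinearGroup (Fin 2) F))
    (hp : ¬ p ∣ Nat.card ↥H) : Concl F p ↥H := by
  have hmem : ∀ A ∈ (partH H).mem, IsCyclic A ∧
      (Nat.card A ∣ (Fintype.card F + 1) / Nat.gcd 2 (Fintype.card F - 1) ∨
        Nat.card A ∣ (Fintype.card F - 1) / Nat.gcd 2 (Fintype.card F - 1)) ∧
      Nat.card (Subgroup.normalizer ((A : Subgroup ↥H) : Set ↥H)) ≤ 2 * Nat.card A := by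
    rintro A ⟨g, hg, hgH, rfl⟩
    apply semisimple_member H g hg _ hgH
    intro ht
    obtain ⟨S, hS⟩ := unipotent_member_sylow p H g hg ht hgH
    have hne := (partH H).ne_bot _ ⟨g, hg, hgH, rfl⟩
    apply hne
    rw [← hS]
    have h1 : Nat.card (S : Subgroup ↥H) = 1 := by
      rw [Sylow.card_eq_multiplicity]
      have : (Nat.card ↥H).factorization p = 0 := Nat.factorization_eq_zero_of_not_dvd hp
      rw [this, pow_zero]
    exact Subgroup.card_eq_one.1 h1
  rcases (partH H).thmI (fun A hA => (hmem A hA).1) (fun A hA => (hmem A hA).2.2) with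
    h1 | ⟨A, hA, rfl⟩ | ⟨A, hA, -, hdih⟩ | h | h | h
  · left
    refine ⟨1, Or.inl (one_dvd _), Or.inl ⟨?_, h1⟩⟩
    have : Subsingleton ↥H := (Nat.card_eq_one_iff_unique.1 h1).1
    exact isCyclic_of_subsingleton
  · left
    obtain ⟨hc, hd, -⟩ := hmem _ hA
    rw [Subgroup.card_top] at hd
    refine ⟨Nat.card ↥H, hd, Or.inl ⟨?_, rfl⟩⟩
    exact isCyclic_of_surjective (Subgroup.topEquiv : (⊤ : Subgroup ↥H) ≃* ↥H) Subgroup.topEquiv.surjective
  · left
    obtain ⟨-, hd, -⟩ := hmem _ hA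
    exact ⟨Nat.card A, hd, Or.inr hdih⟩
  · right; right; left; exact h
  · right; right; right; left; exact h
  · right; right; right; right; left; exact h

omit [CharP F p] [Fact p.Prime] [Fintype F] in
theorem uu_conj_comm (r b : F) : uu (-r) * uu b * (uu (-r))⁻¹ = (uu b : SpecialLinearGroup (Fin 2) F) := by
  rw [uu_inv, uu_mul, uu_mul]
  congr 1
  ring

/-- Dickson's classification of the subgroups of `PSL₂(F)` -/
theorem dickson (H : Subgroup (ProjectiveSpecialLinearGroup (Fin 2) F)) : Concl F p ↥H := by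
  by_cases hp : p ∣ Nat.card ↥H
  swap
  · exact dickson_coprime p H hp
  -- a Sylow `p`-subgroup of `H`, conjugated into `Ū`
  obtain ⟨S⟩ : Nonempty (Sylow p ↥H) := inferInstance
  have hS1 : (S : Subgroup ↥H) ≠ ⊥ := by
    intro h
    have h1 : Nat.card (S : Subgroup ↥H) = 1 := by rw [h]; exact Subgroup.card_bot
    rw [Sylow.card_eq_multiplicity] at h1
    have h2 : 0 < (Nat.card ↥H).factorization p :=
      (Fact.out : p.Prime).factorization_pos_of_dvd Nat.card_pos.ne' hp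
    have h3 : 1 < p ^ (Nat.card ↥H).factorization p :=
      Nat.one_lt_pow h2.ne' (Fact.out : p.Prime).one_lt
    omega
  have hSp : IsPGroup p ((S : Subgroup ↥H).map H.subtype) := S.2.map _
  obtain ⟨S₂, hS₂⟩ := hSp.exists_le_sylow
  obtain ⟨c, hc⟩ := MulAction.exists_smul_eq (ProjectiveSpecialLinearGroup (Fin 2) F) S₂ (UbarSylow p)
  -- the conjugate `H₁`
  set H₁ : Subgroup (ProjectiveSpecialLinearGroup (Fin 2) F) := MulAut.conj c • H with hH₁
  have e₁ : ↥H ≃* ↥H₁ := Subgroup.equivSMul (MulAut.conj c) H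
  apply Concl.congr p e₁
  obtain ⟨x, hxS, hx1⟩ : ∃ x : ↥H, x ∈ (S : Subgroup ↥H) ∧ x ≠ 1 := by
    obtain ⟨x, hx⟩ := (Subgroup.ne_bot_iff_exists_ne_one (H := (S : Subgroup ↥H))).1 hS1
    exact ⟨(x : ↥H), x.2, fun h => hx (Subtype.ext h)⟩
  have hxU : c * (x : ProjectiveSpecialLinearGroup (Fin 2) F) * c⁻¹ ∈ Ubar F := by
    rw [← coe_UbarSylow p, ← hc, Sylow.coe_subgroup_smul, mem_conj_smul]
    apply hS₂
    refine ⟨x, hxS, ?_⟩
    simp [mul_assoc]
  have hxH₁ : c * (x : ProjectiveSpecialLinearGroup (Fin 2) F) * c⁻¹ ∈ H₁ := by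
    rw [hH₁, mem_conj_smul]
    have : c⁻¹ * (c * (x : ProjectiveSpecialLinearGroup (Fin 2) F) * c⁻¹) * c = x := by group
    rw [this]
    exact x.2
  obtain ⟨k, hk⟩ := toPSL2_surjective (c * (x : ProjectiveSpecialLinearGroup (Fin 2) F) * c⁻¹)
  have hkUT : IsUT k := by
    rw [← mem_Ubar_iff, hk]
    exact hxU
  have hkns : ¬ IsScalar2 (k : Matrix (Fin 2) (Fin 2) F) := by
    intro hs
    have h1 : toPSL2 F k = 1 := (toPSL2_eq_one_iff' k).2 hs
    rw [hk] at h1
    apply hx1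
    apply Subtype.ext
    have : (x : ProjectiveSpecialLinearGroup (Fin 2) F) = c⁻¹ * (c * (x : ProjectiveSpecialLinearGroup (Fin 2) F) * c⁻¹) * c := by group
    rw [this, h1]
    simp
  set b₁ : F := (k : Matrix (Fin 2) (Fin 2) F) 0 0 * (k : Matrix (Fin 2) (Fin 2) F) 0 1 with hb₁def
  have hb₁ : b₁ ≠ 0 := by
    have hsq := hkUT.sq
    intro h0
    apply hkns
    have h00 : (k : Matrix (Fin 2) (Fin 2) F) 0 0 ≠ 0 := by
      intro h
      rw [h, mul_zero] at hsq
      exact zero_ne_one hsq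
    have h01 : (k : Matrix (Fin 2) (Fin 2) F) 0 1 = 0 := (mul_eq_zero.1 h0).resolve_left h00
    exact ⟨h01, hkUT.1, hkUT.2⟩
  have hH : toPSL2 F (uu b₁) ∈ H₁ := by
    rw [hb₁def, ← isUT_toPSL2 k hkUT, hk]
    exact hxH₁
  by_cases hn : (QH H₁).Normal
  · -- the Borel case
    right; left
    refine ⟨UbarSylow p, H₁, ?_, ⟨MulEquiv.refl _⟩⟩
    intro y hy
    rw [coe_UbarSylow]
    obtain ⟨m, hm⟩ := toPSL2_surjective y
    rw [← hm]
    apply mem_normalizer_Ubar_of_isB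
    have h1 : (⟨y, hy⟩ : ↥H₁) ∈ Subgroup.normalizer ((QH H₁ : Subgroup ↥H₁) : Set ↥H₁) := by
      rw [Subgroup.normalizer_eq_top_iff.2 hn]
      exact Subgroup.mem_top _
    exact isB_of_normalizes H₁ b₁ hb₁ hH _ h1 m hm
  · -- the main case: find an element outside the Borel subgroup
    have hex : ∃ g : SpecialLinearGroup (Fin 2) F, toPSL2 F g ∈ H₁ ∧
        (g : Matrix (Fin 2) (Fin 2) F) 1 0 ≠ 0 := by
      by_contra hcon
      simp only [not_exists, not_and, not_not] at hcon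
      apply hn
      rw [← Subgroup.normalizer_eq_top_iff]
      rw [eq_top_iff]
      intro z _
      obtain ⟨m, hm⟩ := toPSL2_surjective (z : ProjectiveSpecialLinearGroup (Fin 2) F)
      exact normalizes_of_isB H₁ z m hm (hcon m (by rw [hm]; exact z.2))
    obtain ⟨g, hgH, hg10⟩ := hex
    set r : F := (g : Matrix (Fin 2) (Fin 2) F) 0 0 / (g : Matrix (Fin 2) (Fin 2) F) 1 0 with hr
    set H₂ : Subgroup (ProjectiveSpecialLinearGroup (Fin 2) F) :=
      MulAut.conj (toPSL2 F (uu (-r))) • H₁ with hH₂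
    have e₂ : ↥H₁ ≃* ↥H₂ := Subgroup.equivSMul (MulAut.conj (toPSL2 F (uu (-r)))) H₁
    apply Concl.congr p e₂
    have hmemH₂ : ∀ m : SpecialLinearGroup (Fin 2) F, toPSL2 F m ∈ H₁ →
        toPSL2 F (uu (-r) * m * (uu (-r))⁻¹) ∈ H₂ := by
      intro m hm
      rw [hH₂, mem_conj_smul, map_mul, map_mul, map_inv]
      have : (toPSL2 F (uu (-r)))⁻¹ * (toPSL2 F (uu (-r)) * toPSL2 F m * (toPSL2 F (uu (-r)))⁻¹) *
          toPSL2 F (uu (-r)) = toPSL2 F m := by group
      rw [this]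
      exact hm
    have hu₂ : toPSL2 F (uu b₁) ∈ H₂ := by
      have := hmemH₂ (uu b₁) hH
      rwa [uu_conj_comm] at this
    refine dickson_aux p H₂ b₁ hb₁ hu₂ (uu (-r) * g * (uu (-r))⁻¹) (hmemH₂ g hgH) ?_
    rw [uu_inv, Matrix.SpecialLinearGroup.coe_mul, Matrix.SpecialLinearGroup.coe_mul]
    simp [uu, Matrix.mul_apply, Fin.sum_univ_two, Matrix.vecMul, dotProduct]
    rw [hr]
    field_simp
    ring

end finite

end Cfsg.Agent.Lib.Helper15.Dk
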