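import Mathlib
import Cfsg.Agent.Lib.Helper15.Dk7
import Cfsg.Agent.Lib.Helper15.BorelClasses
import Cfsg.Agent.S0265

/-!
# Dickson project, part 8: orders of the subgroups in Dickson's list
-/

set_option autoImplicit false

open scoped Pointwise

namespace Cfsg.Agent.Lib.Helper15.Dk

open Matrix
open Cfsg.Agent.Lib.Helper14
open Cfsg.Agent.Lib.Helper15

section general
variable {F : Type*} [Field F]

/-- the image of the Borel subgroup in `PSL₂` -/
def Bbar (F : Type*) [Field F] : Subgroup (ProjectiveSpecialLinearGroup (Fin 2) F) :=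
  (borelSL F).map (toPSL2 F)

theorem mem_Bbar_iff (m : SpecialLinearGroup (Fin 2) F) : toPSL2 F m ∈ Bbar F ↔ IsB m := by
  constructor
  · rintro ⟨m', hm', h⟩
    rw [toPSL2_eq_iff'] at h
    have h1 : IsB m' := (mem_borelSL_iff m').1 hm'
    have h2 : IsB (m'⁻¹ * m) := isB_of_isScalar2 (isScalar2_of_mem_center _ h)
    have : m = m' * (m'⁻¹ * m) := by group
    rw [this]
    exact h1.mul h2
  · intro h
    exact ⟨m, (mem_borelSL_iff m).2 h, rfl⟩

theorem normalizer_Ubar :
    Subgroup.normalizer ((Ubar F : Subgroup (ProjectiveSpecialLinearGroup (Fin 2) F)) :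
      Set (ProjectiveSpecialLinearGroup (Fin 2) F)) = Bbar F := by
  ext x
  obtain ⟨m, rfl⟩ := toPSL2_surjective x
  rw [mem_Bbar_iff]
  constructor
  · intro h
    have h1 := (Subgroup.mem_normalizer_iff.1 h (toPSL2 F (uu 1))).1 ((mem_Ubar_iff _).2 (isUT_uu 1))
    rw [← map_inv, ← map_mul, ← map_mul, mem_Ubar_iff] at h1
    exact isB_of_conj_uu m 1 one_ne_zero h1
  · intro h
    exact mem_normalizer_Ubar_of_isB m h

theorem center_le_borelSL : Subgroup.center (SpecialLinearGroup (Fin 2) F) ≤ borelSL F := by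
  intro z hz
  exact (mem_borelSL_iff z).2 (isB_of_isScalar2 (isScalar2_of_mem_center z hz))

end general

section finite
variable {F : Type*} [Field F] [Fintype F]

omit [Fintype F] in
theorem card_map_toPSL2_mul (C : Subgroup (SpecialLinearGroup (Fin 2) F))
    (hC : Subgroup.center (SpecialLinearGroup (Fin 2) F) ≤ C) :
    Nat.card (C.map (toPSL2 F)) * Nat.card (Subgroup.center (SpecialLinearGroup (Fin 2) F)) =
      Nat.card C := by
  let φ : ↥C →* ProjectiveSpecialLinearGroup (Fin 2) F := (toPSL2 F).comp C.subtype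
  have hr : φ.range = C.map (toPSL2 F) := by
    rw [MonoidHom.range_comp, Subgroup.range_subtype]
  have hk : φ.ker = (Subgroup.center (SpecialLinearGroup (Fin 2) F)).subgroupOf C := by
    rw [← MonoidHom.comap_ker]
    unfold Subgroup.subgroupOf
    congr 1
    exact QuotientGroup.ker_mk' _
  have h1 := Subgroup.index_mul_card φ.ker
  rw [Subgroup.index_ker, hr, hk,
    Nat.card_congr (Subgroup.subgroupOfEquivOfLe hC).toEquiv] at h1
  exact h1

theorem card_borelSL : Nat.card (borelSL F) = Fintype.card F * (Fintype.card F - 1) := by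
  classical
  rw [Nat.card_congr (borelSLEquiv (F := F)), Nat.card_prod, Nat.card_eq_fintype_card,
    Nat.card_eq_fintype_card, Fintype.card_units, mul_comm]

theorem card_Bbar_mul :
    Nat.card (Bbar F) * Nat.card (Subgroup.center (SpecialLinearGroup (Fin 2) F)) =
      Fintype.card F * (Fintype.card F - 1) := by
  rw [← card_borelSL]
  exact card_map_toPSL2_mul _ center_le_borelSL

omit [Fintype F] [Field F] in
theorem normalizer_conj_smul {G : Type*} [Group G] (c : G) (A : Subgroup G) :
    Subgroup.normalizer ((MulAut.conj c • A : Subgroup G) : Set G) =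
      MulAut.conj c • Subgroup.normalizer (A : Set G) := by
  ext x
  rw [mem_conj_smul, ← conj_smul_eq_self_iff, ← conj_smul_eq_self_iff, ← mul_smul, ← map_mul]
  constructor
  · intro h
    rw [map_mul, map_mul, mul_smul, mul_smul, ← mul_smul (MulAut.conj x), ← map_mul, h, ← mul_smul,
      ← map_mul, inv_mul_cancel, map_one, one_smul]
  · intro h
    have : x * c = c * (c⁻¹ * x * c) := by group
    rw [this, map_mul, mul_smul, h]

theorem card_normalizer_sylow_mul (p : ℕ) [Fact p.Prime] [CharP F p]
    (P : Sylow p (ProjectiveSpecialLinearGroup (Fin 2) F)) :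
    Nat.card (Subgroup.normalizer ((P : Subgroup (ProjectiveSpecialLinearGroup (Fin 2) F)) :
      Set (ProjectiveSpecialLinearGroup (Fin 2) F))) *
      Nat.card (Subgroup.center (SpecialLinearGroup (Fin 2) F)) =
      Fintype.card F * (Fintype.card F - 1) := by
  obtain ⟨c, hc⟩ := MulAction.exists_smul_eq (ProjectiveSpecialLinearGroup (Fin 2) F) (UbarSylow p) P
  rw [← card_Bbar_mul, ← normalizer_Ubar, ← coe_UbarSylow p, ← hc]
  congr 1
  rw [Sylow.coe_subgroup_smul, normalizer_conj_smul, card_conj_smul]

theorem index_Bbar : (Bbar F).index = Fintype.card F + 1 := by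
  have h1 := Subgroup.index_mul_card (Bbar F)
  have h2 := card_Bbar_mul (F := F)
  have h3 := card_PSL2_mul (F := F)
  have hq : 1 < Fintype.card F := Fintype.one_lt_card
  have hz : 0 < Nat.card (Subgroup.center (SpecialLinearGroup (Fin 2) F)) := Nat.card_pos
  have h4 : (Bbar F).index * (Fintype.card F * (Fintype.card F - 1)) =
      (Fintype.card F + 1) * (Fintype.card F * (Fintype.card F - 1)) := by
    have e1 : (Bbar F).index * (Fintype.card F * (Fintype.card F - 1)) =
        Fintype.card F * (Fintype.card F ^ 2 - 1) := by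
      rw [← h2, ← mul_assoc, h1, h3]
    rw [e1]
    obtain ⟨k, hk⟩ : ∃ k, Fintype.card F = k + 1 := ⟨Fintype.card F - 1, by omega⟩
    rw [hk, Nat.add_sub_cancel]
    have : (k + 1) ^ 2 - 1 = k * (k + 2) := by
      have : (k + 1) ^ 2 = k * (k + 2) + 1 := by ring
      omega
    rw [this]
    ring
  have hpos : 0 < Fintype.card F * (Fintype.card F - 1) := by
    apply Nat.mul_pos <;> omega
  exact Nat.eq_of_mul_eq_mul_right hpos h4


omit [Field F] [Fintype F] in
theorem card_A4 : Nat.card (alternatingGroup (Fin 4)) = 12 := by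
  rw [nat_card_alternatingGroup]; simp [Nat.factorial]

omit [Field F] [Fintype F] in
theorem card_A5 : Nat.card (alternatingGroup (Fin 5)) = 60 := by
  rw [nat_card_alternatingGroup]; simp [Nat.factorial]

omit [Field F] [Fintype F] in
theorem card_S4 : Nat.card (Equiv.Perm (Fin 4)) = 24 := by
  rw [Nat.card_perm]; simp [Nat.factorial]

theorem card_PGL2 : Nat.card (ProjGenLinGroup (Fin 2) F) = Fintype.card F * (Fintype.card F ^ 2 - 1) := by
  rw [Cfsg.Agent.S0265.result 2, card_SL2]

omit [Field F] [Fintype F] in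
theorem sq_sub_one_eq (q : ℕ) (hq : 1 ≤ q) : q ^ 2 - 1 = (q - 1) * (q + 1) := by
  obtain ⟨k, rfl⟩ : ∃ k, q = k + 1 := ⟨q - 1, by omega⟩
  rw [Nat.add_sub_cancel]
  have : (k + 1) ^ 2 = k * (k + 1 + 1) + 1 := by ring
  omega

/-- the order bound for proper subgroups of `PSL₂(q)` -/
theorem card_mul_le_of_ne_top (p : ℕ) [Fact p.Prime] [CharP F p]
    (H : Subgroup (ProjectiveSpecialLinearGroup (Fin 2) F)) (hH : H ≠ ⊤)
    (hq : Fintype.card F ∉ ({2, 3, 5, 7, 9, 11} : Finset ℕ)) :
    Nat.card H * Nat.card (Subgroup.center (SpecialLinearGroup (Fin 2) F)) ≤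
      Fintype.card F * (Fintype.card F - 1) := by
  have hG := card_PSL2_mul (F := F)
  have hd := card_center_eq_gcd (F := F)
  set q := Fintype.card F with hqdef
  set d := Nat.card (Subgroup.center (SpecialLinearGroup (Fin 2) F)) with hddef
  have hq1 : 1 < q := Fintype.one_lt_card
  have hd2 : d ∣ 2 := by rw [hd]; exact Nat.gcd_dvd_left _ _
  have hd2' : d ≤ 2 := Nat.le_of_dvd (by norm_num) hd2
  have hd0 : 0 < d := Nat.card_pos
  have hlag : Nat.card H ∣ Nat.card (ProjectiveSpecialLinearGroup (Fin 2) F) := Subgroup.card_subgroup_dvd_card H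
  have hHpos : 0 < Nat.card H := Nat.card_pos
  have hne : Nat.card H ≠ Nat.card (ProjectiveSpecialLinearGroup (Fin 2) F) := by
    intro h
    exact hH (Subgroup.eq_top_of_card_eq H h)
  simp only [Finset.mem_insert, Finset.mem_singleton, not_or] at hq
  obtain ⟨hq2, hq3, hq5, hq7, hq9, hq11⟩ := hq
  have hq4 : 4 ≤ q := by omega
  have hsq := sq_sub_one_eq q hq1.le
  rcases dickson p H with ⟨k, hk, h⟩ | ⟨P, K, hK, ⟨e⟩⟩ | ⟨⟨e⟩⟩ | ⟨⟨e⟩⟩ | ⟨⟨e⟩⟩ | ⟨K, i1, i2, m, hm, h⟩
  · -- cyclic or dihedral
    have hkd : k * d ≤ q + 1 := by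
      rw [← hd] at hk
      rcases hk with hk | hk
      · have hpos : 0 < (q + 1) / d := Nat.div_pos (by omega) hd0
        have := Nat.le_of_dvd hpos hk
        calc k * d ≤ (q + 1) / d * d := Nat.mul_le_mul_right _ this
          _ ≤ q + 1 := Nat.div_mul_le_self _ _
      · have hpos : 0 < (q - 1) / d := Nat.div_pos (by omega) hd0
        have := Nat.le_of_dvd hpos hk
        calc k * d ≤ (q - 1) / d * d := Nat.mul_le_mul_right _ this
          _ ≤ q - 1 := Nat.div_mul_le_self _ _
          _ ≤ q + 1 := by omega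
    have h2 : 2 * (q + 1) ≤ q * (q - 1) := by
      obtain ⟨j, hj⟩ : ∃ j, q = j + 4 := ⟨q - 4, by omega⟩
      have : j + 4 - 1 = j + 3 := by omega
      rw [hj, this]
      nlinarith
    rcases h with ⟨-, hc⟩ | ⟨⟨e⟩⟩
    · rw [hc]; omega
    · rw [Nat.card_congr e.toEquiv, DihedralGroup.nat_card]
      calc 2 * k * d = 2 * (k * d) := by ring
        _ ≤ 2 * (q + 1) := by omega
        _ ≤ _ := h2
  · -- inside a Sylow normalizer
    rw [Nat.card_congr e.toEquiv, ← card_normalizer_sylow_mul p P]
    exact Nat.mul_le_mul_right _ (Nat.le_of_dvd Nat.card_pos (Subgroup.card_dvd_of_le hK))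
  · -- A4
    have hc : Nat.card H = 12 := by rw [Nat.card_congr e.toEquiv, card_A4]
    rw [hc]
    by_cases h13 : 13 ≤ q
    · have : 13 * 12 ≤ q * (q - 1) := Nat.mul_le_mul h13 (by omega)
      omega
    · have : q = 4 ∨ q = 6 ∨ q = 8 ∨ q = 10 ∨ q = 12 := by omega
      have hpp : IsPrimePow q := FiniteField.isPrimePow_card F
      rcases this with h | h | h | h | h
      · have hd1 : d = 1 := by rw [hd, h]; rfl
        rw [h]; omega
      · exfalso; rw [h] at hpp; revert hpp; decide
      · have hd1 : d = 1 := by rw [hd, h]; rfl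
        rw [h]; omega
      · exfalso; rw [h] at hpp; revert hpp; decide
      · exfalso; rw [h] at hpp; revert hpp; decide
  · -- S4
    have hc : Nat.card H = 24 := by rw [Nat.card_congr e.toEquiv, card_S4]
    rw [hc]
    by_cases h13 : 13 ≤ q
    · have : 13 * 12 ≤ q * (q - 1) := Nat.mul_le_mul h13 (by omega)
      omega
    · have : q = 4 ∨ q = 6 ∨ q = 8 ∨ q = 10 ∨ q = 12 := by omega
      have hpp : IsPrimePow q := FiniteField.isPrimePow_card F
      rcases this with h | h | h | h | h
      · exfalso
        have hd1 : d = 1 := by rw [hd, h]; rfl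
        rw [h, hd1] at hG
        rw [hc] at hlag
        have : Nat.card (ProjectiveSpecialLinearGroup (Fin 2) F) = 60 := by omega
        rw [this] at hlag
        revert hlag; decide
      · exfalso; rw [h] at hpp; revert hpp; decide
      · have hd1 : d = 1 := by rw [hd, h]; rfl
        rw [h]; omega
      · exfalso; rw [h] at hpp; revert hpp; decide
      · exfalso; rw [h] at hpp; revert hpp; decide
  · -- A5
    have hc : Nat.card H = 60 := by rw [Nat.card_congr e.toEquiv, card_A5]
    rw [hc]
    by_cases h13 : 13 ≤ q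
    · have : 13 * 12 ≤ q * (q - 1) := Nat.mul_le_mul h13 (by omega)
      omega
    · have : q = 4 ∨ q = 6 ∨ q = 8 ∨ q = 10 ∨ q = 12 := by omega
      have hpp : IsPrimePow q := FiniteField.isPrimePow_card F
      rcases this with h | h | h | h | h
      · exfalso
        have hd1 : d = 1 := by rw [hd, h]; rfl
        rw [h, hd1] at hG
        rw [hc] at hne
        have : Nat.card (ProjectiveSpecialLinearGroup (Fin 2) F) = 60 := by omega
        exact hne this.symm
      · exfalso; rw [h] at hpp; revert hpp; decide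
      · exfalso
        have hd1 : d = 1 := by rw [hd, h]; rfl
        rw [h, hd1] at hG
        rw [hc] at hlag
        have : Nat.card (ProjectiveSpecialLinearGroup (Fin 2) F) = 504 := by omega
        rw [this] at hlag
        revert hlag; decide
      · exfalso; rw [h] at hpp; revert hpp; decide
      · exfalso; rw [h] at hpp; revert hpp; decide
  · -- subfield subgroups
    have hGK := card_PSL2_mul (F := K)
    have hdK := card_center_eq_gcd (F := K)
    have hPGL := card_PGL2 (F := K)
    have hk1 : 1 < Fintype.card K := Fintype.one_lt_card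
    set k := Fintype.card K with hkdef
    have hsqk := sq_sub_one_eq k hk1.le
    rcases Nat.lt_or_ge m 2 with hm2 | hm2
    · exfalso
      have hm01 : m = 0 ∨ m = 1 := by omega
      rcases hm01 with rfl | rfl
      · rw [pow_zero] at hm; omega
      · rw [pow_one] at hm
        rw [hm] at hGK hdK hPGL
        rcases h with ⟨⟨e⟩⟩ | ⟨⟨e⟩⟩
        · apply hne
          rw [Nat.card_congr e.toEquiv]
          rw [← hd] at hdK
          rw [hdK, ← hG] at hGK
          exact Nat.eq_of_mul_eq_mul_right hd0 hGK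
        · apply hne
          rw [Nat.card_congr e.toEquiv] at hlag ⊢
          rw [hPGL, ← hG] at hlag ⊢
          have hGpos : 0 < Nat.card (ProjectiveSpecialLinearGroup (Fin 2) F) := Nat.card_pos
          have h1 := Nat.le_of_dvd hGpos hlag
          have h2 : Nat.card (ProjectiveSpecialLinearGroup (Fin 2) F) * 1 ≤
              Nat.card (ProjectiveSpecialLinearGroup (Fin 2) F) * d := Nat.mul_le_mul_left _ hd0
          omega
    · have hk2 : k ^ 2 ≤ q := by
        have hm' : k ^ m = q := hm
        rw [← hm']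
        exact Nat.pow_le_pow_right (by omega) hm2
      have hcard : Nat.card H ≤ k * (k ^ 2 - 1) := by
        rcases h with ⟨⟨e⟩⟩ | ⟨⟨e⟩⟩
        · rw [Nat.card_congr e.toEquiv, ← hGK]
          exact Nat.le_mul_of_pos_right _ Nat.card_pos
        · rw [Nat.card_congr e.toEquiv, hPGL]
      have h2k : 2 * k ≤ q := by nlinarith
      calc Nat.card H * d ≤ k * (k ^ 2 - 1) * 2 := Nat.mul_le_mul hcard hd2'
        _ = 2 * k * (k ^ 2 - 1) := by ring
        _ ≤ q * (q - 1) := Nat.mul_le_mul h2k (by omega)

end finite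

end Cfsg.Agent.Lib.Helper15.Dk
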