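import Mathlib
import Cfsg.Agent.Lib.Helper15.Syl2E
import Cfsg.Agent.Lib.Helper15.A4Conv
set_option autoImplicit false
namespace Cfsg.Agent.Lib.Helper15

open Matrix
open Cfsg.Agent.Lib.Helper14

section redsyl
variable {F : Type*} [Field F]

theorem isScalar2_of_conj (g x : SpecialLinearGroup (Fin 2) F)
    (h : IsScalar2 ((g * x * g⁻¹ : SpecialLinearGroup (Fin 2) F) : Matrix (Fin 2) (Fin 2) F)) :
    IsScalar2 (x : Matrix (Fin 2) (Fin 2) F) := by
  have hc := isScalar2_mem_center _ h
  have hx : x = g⁻¹ * (g * x * g⁻¹) * g := by group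
  have h1 : g⁻¹ * (g * x * g⁻¹) * g = g * x * g⁻¹ := by
    rw [Subgroup.mem_center_iff] at hc
    rw [mul_assoc, ← hc g, ← mul_assoc, inv_mul_cancel, one_mul]
  rw [hx, h1]
  exact h

/-- two `p`-subgroups inside a commutative subgroup: a Sylow one contains the other -/
theorem sylow_eq_of_le_commutative {G : Type*} [Group G] [Finite G] (p : ℕ) [Fact p.Prime] (P Q : Sylow p G)
    (T : Subgroup G) (hT : ∀ a ∈ T, ∀ b ∈ T, a * b = b * a)
    (hP : (P : Subgroup G) ≤ T) (hQ : (Q : Subgroup G) ≤ T) : P = Q := by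
  have hN : (P : Subgroup G) ≤ Subgroup.normalizer ((Q : Subgroup G) : Set G) := by
    intro a ha
    rw [Subgroup.mem_normalizer_iff]
    intro b
    constructor
    · intro hb
      have : a * b * a⁻¹ = b := by
        rw [hT a (hP ha) b (hQ hb), mul_assoc, mul_inv_cancel, mul_one]
      rw [this]; exact hb
    · intro hb
      have hb' : a * b * a⁻¹ ∈ T := hQ hb
      have hbT : b ∈ T := by
        have : b = a⁻¹ * (a * b * a⁻¹) * a := by group
        rw [this]
        exact T.mul_mem (T.mul_mem (T.inv_mem (hP ha)) hb') (hP ha)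
      have : a * b * a⁻¹ = b := by
        rw [hT a (hP ha) b hbT, mul_assoc, mul_inv_cancel, mul_one]
      rw [this] at hb; exact hb
  have hsup : IsPGroup p ((P : Subgroup G) ⊔ (Q : Subgroup G) : Subgroup G) :=
    P.isPGroup'.to_sup_of_normal_right' Q.isPGroup' hN
  have h1 := Q.is_maximal' hsup le_sup_right
  have h2 := P.is_maximal' hsup le_sup_left
  exact Sylow.ext (h2.symm.trans h1)

variable [Fintype F]

/-- a non-scalar element in the centre of a Sylow subgroup lies in no other Sylow subgroup -/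
theorem sylow_unique_of_center_nonscalar (p : ℕ) [Fact p.Prime] (Q P : Sylow p (SpecialLinearGroup (Fin 2) F))
    (x : SpecialLinearGroup (Fin 2) F)
    (hxc : ∀ y ∈ (Q : Subgroup (SpecialLinearGroup (Fin 2) F)), y * x = x * y)
    (hns : ¬ IsScalar2 (x : Matrix (Fin 2) (Fin 2) F))
    (hxP : x ∈ (P : Subgroup (SpecialLinearGroup (Fin 2) F))) : P = Q := by
  obtain ⟨g, hg⟩ := MulAction.exists_smul_eq (SpecialLinearGroup (Fin 2) F) Q P
  -- x' = g x g⁻¹ is central in P
  have hx'P : ∀ y ∈ (P : Subgroup (SpecialLinearGroup (Fin 2) F)), y * (g * x * g⁻¹) = (g * x * g⁻¹) * y := by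
    intro y hy
    rw [← hg, Sylow.coe_subgroup_smul, Subgroup.mem_pointwise_smul_iff_inv_smul_mem, MulAut.smul_def,
      ← map_inv, MulAut.conj_apply, inv_inv] at hy
    have := hxc _ hy
    calc y * (g * x * g⁻¹) = g * ((g⁻¹ * y * g) * x) * g⁻¹ := by group
      _ = g * (x * (g⁻¹ * y * g)) * g⁻¹ := by rw [this]
      _ = (g * x * g⁻¹) * y := by group
  have hns' : ¬ IsScalar2 ((g * x * g⁻¹ : SpecialLinearGroup (Fin 2) F) : Matrix (Fin 2) (Fin 2) F) :=
    fun h => hns (isScalar2_of_conj g x h)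
  have hmem : g * x * g⁻¹ ∈ Subgroup.centralizer ({x} : Set (SpecialLinearGroup (Fin 2) F)) := by
    rw [Subgroup.mem_centralizer_singleton_iff]
    exact (hx'P x hxP).symm
  have hceq := centralizer_eq_of_mem x hns (g * x * g⁻¹) hmem hns'
  apply sylow_eq_of_le_commutative p P Q (Subgroup.centralizer ({x} : Set (SpecialLinearGroup (Fin 2) F)))
  · intro a ha b hb
    exact centralizer_commute x hns a b ha hb
  · intro y hy
    rw [← hceq, Subgroup.mem_centralizer_singleton_iff]
    exact (hx'P y hy)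
  · intro y hy
    rw [Subgroup.mem_centralizer_singleton_iff]
    exact (hxc y hy)

/-- for `p` odd or in characteristic `2`, every Sylow `p`-subgroup of `SL₂(F)` contains a `p`-element lying
in no other Sylow `p`-subgroup -/
theorem exists_unique_sylow_elt (p : ℕ) [Fact p.Prime] (hp : p ≠ 2 ∨ (2 : F) = 0)
    (Q : Sylow p (SpecialLinearGroup (Fin 2) F)) :
    ∃ x : SpecialLinearGroup (Fin 2) F, (∃ k : ℕ, orderOf x = p ^ k) ∧
      ∀ P : Sylow p (SpecialLinearGroup (Fin 2) F), x ∈ P → P = Q := by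
  by_cases hQ : (Q : Subgroup (SpecialLinearGroup (Fin 2) F)) = ⊥
  · refine ⟨1, ⟨0, by simp⟩, ?_⟩
    intro P _
    obtain ⟨g, hg⟩ := MulAction.exists_smul_eq (SpecialLinearGroup (Fin 2) F) Q P
    rw [← hg]
    apply Sylow.ext
    rw [Sylow.coe_subgroup_smul, hQ]
    ext y
    rw [Subgroup.mem_pointwise_smul_iff_inv_smul_mem, Subgroup.mem_bot, Subgroup.mem_bot, smul_eq_iff_eq_inv_smul,
      inv_inv, smul_one]
  · have hnt : Nontrivial (Q : Subgroup (SpecialLinearGroup (Fin 2) F)) :=
      (Subgroup.nontrivial_iff_ne_bot _).2 hQ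
    have hcn := Q.isPGroup'.center_nontrivial
    obtain ⟨z, hz⟩ := exists_ne (1 : Subgroup.center (Q : Subgroup (SpecialLinearGroup (Fin 2) F)))
    have hz1 : (z.1.1 : SpecialLinearGroup (Fin 2) F) ≠ 1 := by
      intro h
      apply hz
      apply Subtype.ext
      apply Subtype.ext
      exact h
    have hzc : ∀ y ∈ (Q : Subgroup (SpecialLinearGroup (Fin 2) F)), y * z.1.1 = z.1.1 * y := by
      intro y hy
      have := z.2
      rw [Subgroup.mem_center_iff] at this
      have h1 := this ⟨y, hy⟩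
      exact congrArg Subtype.val h1
    obtain ⟨k, hk⟩ := Q.isPGroup' z.1
    have hk' : (z.1.1 : SpecialLinearGroup (Fin 2) F) ^ p ^ k = 1 := by
      have := congrArg Subtype.val hk
      simpa using this
    have hns : ¬ IsScalar2 ((z.1.1 : SpecialLinearGroup (Fin 2) F) : Matrix (Fin 2) (Fin 2) F) := by
      intro hsc
      have hcen := isScalar2_mem_center _ hsc
      rcases hp with hp | hp
      · have hsq := center_mul_self _ hcen
        apply hz1
        apply eq_one_of_pow_coprime _ (p ^ k) 2 _ hk' (by rw [pow_two]; exact hsq)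
        apply Nat.Coprime.pow_left
        exact (Nat.coprime_primes (Fact.out : p.Prime) Nat.prime_two).2 hp
      · rw [center_SL2_eq_bot_of_two hp, Subgroup.mem_bot] at hcen
        exact hz1 hcen
    refine ⟨z.1.1, ?_, ?_⟩
    · have hdvd : orderOf (z.1.1 : SpecialLinearGroup (Fin 2) F) ∣ p ^ k := orderOf_dvd_of_pow_eq_one hk'
      obtain ⟨j, _, hj⟩ := (Nat.dvd_prime_pow (Fact.out : p.Prime)).1 hdvd
      exact ⟨j, hj⟩
    · intro P hP
      exact sylow_unique_of_center_nonscalar p Q P z.1.1 hzc hns hP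

/-- when the tori of square roots of `-1` are `2`-groups, every Sylow `2`-subgroup of `SL₂(F)` contains
an element lying in no other Sylow `2`-subgroup -/
theorem exists_unique_sylow_elt_two (hodd : Odd (Fintype.card F)) (h2 : (2 : F) ≠ 0)
    (hpow : ∀ x : SpecialLinearGroup (Fin 2) F, x * x = -1 →
      ∃ j : ℕ, Nat.card (Subgroup.centralizer ({x} : Set (SpecialLinearGroup (Fin 2) F))) = 2 ^ j)
    (Q : Sylow 2 (SpecialLinearGroup (Fin 2) F)) :
    ∃ y : SpecialLinearGroup (Fin 2) F, (∃ k : ℕ, orderOf y = 2 ^ k) ∧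
      ∀ P : Sylow 2 (SpecialLinearGroup (Fin 2) F), y ∈ P → P = Q := by
  obtain ⟨x₀, hx₀, hS⟩ := exists_sq_normalized hodd h2 Q
  have hns := not_isScalar2_of_sq h2 x₀ hx₀
  have ht := trace_sq_ne_four_of_sq h2 x₀ hx₀
  obtain ⟨j, hj⟩ := hpow x₀ hx₀
  set T := Subgroup.centralizer ({x₀} : Set (SpecialLinearGroup (Fin 2) F)) with hT
  have hcyc := isCyclic_torus h2 x₀ hns ht
  obtain ⟨y, hy⟩ := IsCyclic.exists_generator (α := T)
  have hTpow : ∀ t ∈ T, t ^ 2 ^ j = 1 := by
    intro t ht'
    have h1 : (⟨t, ht'⟩ : T) ^ Nat.card T = 1 := pow_card_eq_one'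
    rw [hj] at h1
    have := congrArg Subtype.val h1
    simpa using this
  have hTQ : T ≤ (Q : Subgroup (SpecialLinearGroup (Fin 2) F)) := by
    intro t ht'
    apply torusTwo_le_sylow h2 x₀ hx₀ Q hS
    rw [mem_torusTwo]
    exact ⟨ht', j, hTpow t ht'⟩
  have hQN : (Q : Subgroup (SpecialLinearGroup (Fin 2) F)) ≤ Subgroup.normalizer ((T : Subgroup (SpecialLinearGroup (Fin 2) F)) : Set (SpecialLinearGroup (Fin 2) F)) := by
    intro s hs
    exact mem_normalizer_torus_of_cases h2 x₀ hx₀ s (hS s hs)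
  obtain ⟨s₀, hs₀Q, hs₀⟩ := exists_inverting_mem_sylow hodd h2 x₀ hx₀ Q hS
  have hs₀T : s₀ ∉ T := by
    intro hmem
    rw [hT, mem_centralizer_iff_conj_eq, hs₀] at hmem
    exact ne_inv_of_not_scalar h2 x₀ hns hmem.symm
  have hNcard := card_torus_normalizer h2 x₀ hns ht
  -- `|Q| = 2 |T|`
  have hQcard : Nat.card (Q : Subgroup (SpecialLinearGroup (Fin 2) F)) = 2 * Nat.card T := by
    obtain ⟨a, ha⟩ := Subgroup.card_dvd_of_le hTQ
    obtain ⟨b, hb⟩ := Subgroup.card_dvd_of_le hQN
    have hTpos : 0 < Nat.card T := Nat.card_pos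
    rw [← hT] at hNcard
    rw [hNcard, ha, mul_assoc] at hb
    have hab : a * b = 2 := by
      have : Nat.card T * 2 = Nat.card T * (a * b) := by rw [← hb]; ring
      exact (Nat.eq_of_mul_eq_mul_left hTpos this).symm
    have ha2 : a = 1 ∨ a = 2 := by
      have : a ∣ 2 := ⟨b, hab.symm⟩
      have hle := Nat.le_of_dvd (by norm_num) this
      interval_cases a
      · simp at hab
      · exact Or.inl rfl
      · exact Or.inr rfl
    rcases ha2 with rfl | rfl
    · exfalso
      apply hs₀T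
      have : T = (Q : Subgroup (SpecialLinearGroup (Fin 2) F)) :=
        Subgroup.eq_of_le_of_card_ge hTQ (by rw [ha, mul_one])
      rw [this]; exact hs₀Q
    · rw [ha, mul_comm]
  have hQeq : (Q : Subgroup (SpecialLinearGroup (Fin 2) F)) =
      Subgroup.normalizer ((T : Subgroup (SpecialLinearGroup (Fin 2) F)) : Set (SpecialLinearGroup (Fin 2) F)) := by
    apply Subgroup.eq_of_le_of_card_ge hQN
    rw [← hT] at hNcard
    rw [hNcard, hQcard]
  refine ⟨y.1, ?_, ?_⟩
  · have hdvd : orderOf (y.1 : SpecialLinearGroup (Fin 2) F) ∣ 2 ^ j := orderOf_dvd_of_pow_eq_one (hTpow y.1 y.2)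
    obtain ⟨i, _, hi⟩ := (Nat.dvd_prime_pow Nat.prime_two).1 hdvd
    exact ⟨i, hi⟩
  · intro P hyP
    have hTP : T ≤ (P : Subgroup (SpecialLinearGroup (Fin 2) F)) := by
      intro t ht'
      obtain ⟨n, hn⟩ := Subgroup.mem_zpowers_iff.1 (hy ⟨t, ht'⟩)
      have : t = y.1 ^ n := by
        have := congrArg Subtype.val hn
        simpa using this.symm
      rw [this]
      exact Subgroup.zpow_mem _ hyP n
    have hPcard : Nat.card (P : Subgroup (SpecialLinearGroup (Fin 2) F)) = 2 * Nat.card T := by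
      rw [← hQcard, Sylow.card_eq_multiplicity, Sylow.card_eq_multiplicity]
    have hidx : (T.subgroupOf (P : Subgroup (SpecialLinearGroup (Fin 2) F))).index = 2 := by
      have h1 := Subgroup.index_mul_card (T.subgroupOf (P : Subgroup (SpecialLinearGroup (Fin 2) F)))
      rw [Nat.card_congr (Subgroup.subgroupOfEquivOfLe hTP).toEquiv, hPcard] at h1
      have hTpos : 0 < Nat.card T := Nat.card_pos
      exact Nat.eq_of_mul_eq_mul_right hTpos h1
    have hnorm : (T.subgroupOf (P : Subgroup (SpecialLinearGroup (Fin 2) F))).Normal :=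
      Subgroup.normal_of_index_eq_two hidx
    have hPN : (P : Subgroup (SpecialLinearGroup (Fin 2) F)) ≤ Subgroup.normalizer ((T : Subgroup (SpecialLinearGroup (Fin 2) F)) : Set (SpecialLinearGroup (Fin 2) F)) :=
      Subgroup.le_normalizer_of_normal_subgroupOf hTP
    apply Sylow.ext
    rw [hQeq]
    apply Subgroup.eq_of_le_of_card_ge hPN
    rw [← hT] at hNcard
    rw [hNcard, hPcard]

end redsyl
end Cfsg.Agent.Lib.Helper15
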