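import Mathlib
import Cfsg.Agent.Lib.Helper15.Dk8
import Cfsg.Agent.Lib.Helper15.RedSyl1
import Cfsg.Agent.Lib.Helper15.A5PSL

/-!
# Dickson project, part 9: Dickson's generation lemma
-/

set_option autoImplicit false

open scoped Pointwise

namespace Cfsg.Agent.Lib.Helper15.Dk

open Matrix
open Cfsg.Agent.Lib.Helper14
open Cfsg.Agent.Lib.Helper15

set_option maxRecDepth 100000 in
theorem perm5_pow : ∀ x : Equiv.Perm (Fin 5), Equiv.Perm.sign x = 1 →
    x ^ 2 = 1 ∨ x ^ 3 = 1 ∨ x ^ 5 = 1 := by
  decide

theorem a5_pow (x : alternatingGroup (Fin 5)) : x ^ 2 = 1 ∨ x ^ 3 = 1 ∨ x ^ 5 = 1 := by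
  have h := perm5_pow x.1 (Equiv.Perm.mem_alternatingGroup.1 x.2)
  rcases h with h | h | h
  · left; exact Subtype.ext h
  · right; left; exact Subtype.ext h
  · right; right; exact Subtype.ext h

/-- Sylow subgroups for odd primes of dihedral groups are normal -/
theorem sylow_normal_of_dihedral {G : Type*} [Group G] [Finite G] (n : ℕ) (e : G ≃* DihedralGroup n)
    (p : ℕ) [Fact p.Prime] (hp : p ≠ 2) (Q : Sylow p G) : (Q : Subgroup G).Normal := by
  let T : Subgroup G :=
    { carrier := {g | ∃ i, e g = DihedralGroup.r i}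
      mul_mem' := by
        rintro g g' ⟨i, hi⟩ ⟨j, hj⟩
        exact ⟨i + j, by rw [map_mul, hi, hj, DihedralGroup.r_mul_r]⟩
      one_mem' := ⟨0, by rw [map_one, DihedralGroup.one_def]⟩
      inv_mem' := by
        rintro g ⟨i, hi⟩
        exact ⟨-i, by rw [map_inv, hi, DihedralGroup.inv_r]⟩ }
  have hT : ∀ a ∈ T, ∀ b ∈ T, a * b = b * a := by
    rintro a ⟨i, hi⟩ b ⟨j, hj⟩
    apply e.injective
    rw [map_mul, map_mul, hi, hj, DihedralGroup.r_mul_r, DihedralGroup.r_mul_r, add_comm]
  have hle : ∀ S : Sylow p G, (S : Subgroup G) ≤ T := by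
    intro S x hx
    rcases h : e x with i | i
    · exact ⟨i, h⟩
    · exfalso
      have h2 : x * x = 1 := by
        apply e.injective
        rw [map_mul, h, DihedralGroup.sr_mul_self, map_one]
      obtain ⟨k, hk⟩ := (S.2 ⟨x, hx⟩)
      have hk' : x ^ p ^ k = 1 := congrArg Subtype.val hk
      have hodd : Odd (p ^ k) := by
        apply Odd.pow
        exact (Fact.out : p.Prime).odd_of_ne_two hp
      obtain ⟨m, hm⟩ := hodd
      rw [hm, pow_succ, pow_mul, pow_two, h2, one_pow, one_mul] at hk'
      rw [hk', map_one, DihedralGroup.one_def] at h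
      cases h
  rw [← Subgroup.normalizer_eq_top_iff, eq_top_iff]
  intro g _
  have h3 : g • Q = Q := sylow_eq_of_le_commutative p (g • Q) Q T hT (hle _) (hle _)
  exact Sylow.smul_eq_iff_mem_normalizer.1 h3

section general
variable {F : Type*} [Field F]

/-- a subgroup of `SL₂` containing all elementary matrices is everything -/
theorem eq_top_of_uu_ll (L : Subgroup (SpecialLinearGroup (Fin 2) F)) (hu : ∀ b, uu b ∈ L)
    (hl : ∀ c, ll c ∈ L) : L = ⊤ := by
  have key : ∀ g : SpecialLinearGroup (Fin 2) F, (g : Matrix (Fin 2) (Fin 2) F) 1 0 ≠ 0 → g ∈ L := by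
    intro g hc
    set a := (g : Matrix (Fin 2) (Fin 2) F) 0 0 with ha
    set b := (g : Matrix (Fin 2) (Fin 2) F) 0 1 with hb
    set c := (g : Matrix (Fin 2) (Fin 2) F) 1 0 with hc'
    set d := (g : Matrix (Fin 2) (Fin 2) F) 1 1 with hd
    have hdet : a * d - b * c = 1 := det_eq g
    have e : g = uu ((a - 1) / c) * ll c * uu ((d - 1) / c) := by
      apply Subtype.ext
      rw [Matrix.SpecialLinearGroup.coe_mul, Matrix.SpecialLinearGroup.coe_mul]
      apply mat2_ext <;>
        simp [uu, ll, Matrix.mul_apply, Fin.sum_univ_two, ← ha, ← hb, ← hc', ← hd]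
      · field_simp
        ring
      · field_simp
        linear_combination (-1 : F) * hdet
      · field_simp
        ring
    rw [e]
    exact L.mul_mem (L.mul_mem (hu _) (hl _)) (hu _)
  rw [eq_top_iff]
  intro g _
  by_cases hc : (g : Matrix (Fin 2) (Fin 2) F) 1 0 = 0
  · have h00 : (g : Matrix (Fin 2) (Fin 2) F) 0 0 ≠ 0 := by
      intro h
      have hd := det_eq g
      rw [h, hc, zero_mul, mul_zero, sub_zero] at hd
      exact zero_ne_one hd
    have h1 : ll 1 * g ∈ L := by
      apply key
      rw [Matrix.SpecialLinearGroup.coe_mul]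
      simp [ll, Matrix.mul_apply, Fin.sum_univ_two, hc]
      exact h00
    have : g = (ll 1)⁻¹ * (ll 1 * g) := by group
    rw [this]
    exact L.mul_mem (L.inv_mem (hl 1)) h1
  · exact key g hc

theorem neg_one_mul_self (g : SpecialLinearGroup (Fin 2) F) : (-g) * (-g) = g * g := by
  simp

/-- in odd characteristic a subgroup of `SL₂` mapping onto `PSL₂` is everything -/
theorem eq_top_of_map_eq_top (h2 : (2 : F) ≠ 0) (L : Subgroup (SpecialLinearGroup (Fin 2) F))
    (hL : L.map (toPSL2 F) = ⊤) : L = ⊤ := by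
  have h1 : ∀ x : SpecialLinearGroup (Fin 2) F, x ∈ L ∨ -x ∈ L := by
    intro x
    have : toPSL2 F x ∈ L.map (toPSL2 F) := by rw [hL]; exact Subgroup.mem_top _
    obtain ⟨l, hl, hlx⟩ := this
    rw [toPSL2_eq_iff'] at hlx
    rcases (mem_center_SL2_iff h2 _).1 hlx with h | h
    · left
      have : x = l := by
        have : l⁻¹ * x = 1 := h
        calc x = l * (l⁻¹ * x) := by group
          _ = l := by rw [this, mul_one]
      rw [this]; exact hl
    · right
      have : -x = l := by
        calc -x = l * (-(l⁻¹ * x)) := by rw [mul_neg, neg_inj]; group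
          _ = l := by rw [h, neg_neg, mul_one]
      rw [this]; exact hl
  apply eq_top_of_uu_ll
  · intro b
    rcases h1 (uu (b / 2)) with h | h
    · have := L.mul_mem h h
      rw [uu_mul] at this
      have e : b / 2 + b / 2 = b := by field_simp; ring
      rw [e] at this
      exact this
    · have := L.mul_mem h h
      rw [neg_one_mul_self, uu_mul] at this
      have e : b / 2 + b / 2 = b := by field_simp; ring
      rw [e] at this
      exact this
  · intro c
    have hll : ∀ a b : F, ll a * ll b = ll (a + b) := by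
      intro a b
      apply Subtype.ext
      rw [Matrix.SpecialLinearGroup.coe_mul]
      apply mat2_ext <;> simp [ll, Matrix.mul_apply, Fin.sum_univ_two]
    rcases h1 (ll (c / 2)) with h | h
    · have := L.mul_mem h h
      rw [hll] at this
      have e : c / 2 + c / 2 = c := by field_simp; ring
      rw [e] at this
      exact this
    · have := L.mul_mem h h
      rw [neg_one_mul_self, hll] at this
      have e : c / 2 + c / 2 = c := by field_simp; ring
      rw [e] at this
      exact this

end general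

section traces
variable {F : Type*} [Field F]

theorem alpha_eq_zero (g : SpecialLinearGroup (Fin 2) F)
    (hg : ¬ IsScalar2 (g : Matrix (Fin 2) (Fin 2) F)) (α β : F) (N : Matrix (Fin 2) (Fin 2) F)
    (hN : N = α • (g : Matrix (Fin 2) (Fin 2) F) - β • (1 : Matrix (Fin 2) (Fin 2) F))
    (hs : IsScalar2 N) : α = 0 := by
  by_contra hα
  apply hg
  obtain ⟨h01, h10, h00⟩ := hs
  rw [hN] at h01 h10 h00
  simp at h01 h10 h00
  refine ⟨?_, ?_, ?_⟩
  · exact h01.resolve_left hα
  · exact h10.resolve_left hα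
  · exact h00.resolve_right hα

theorem coe_pow_three (g : SpecialLinearGroup (Fin 2) F) (t : F)
    (ht : (g : Matrix (Fin 2) (Fin 2) F).trace = t) :
    ((g ^ 3 : SpecialLinearGroup (Fin 2) F) : Matrix (Fin 2) (Fin 2) F) =
      (t ^ 2 - 1) • (g : Matrix (Fin 2) (Fin 2) F) - t • (1 : Matrix (Fin 2) (Fin 2) F) := by
  have h2 := coe_sq_eq g
  rw [ht] at h2
  rw [Matrix.SpecialLinearGroup.coe_pow, pow_succ, pow_two, h2, Matrix.sub_mul, Matrix.smul_mul, h2,
    Matrix.one_mul, smul_sub, smul_smul]
  module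

theorem coe_pow_two (g : SpecialLinearGroup (Fin 2) F) (t : F)
    (ht : (g : Matrix (Fin 2) (Fin 2) F).trace = t) :
    ((g ^ 2 : SpecialLinearGroup (Fin 2) F) : Matrix (Fin 2) (Fin 2) F) =
      t • (g : Matrix (Fin 2) (Fin 2) F) - (1 : F) • (1 : Matrix (Fin 2) (Fin 2) F) := by
  have h2 := coe_sq_eq g
  rw [ht] at h2
  rw [Matrix.SpecialLinearGroup.coe_pow, pow_two, h2, one_smul]

/-- elements of order dividing `2`, `3` or `5` in `PSL₂` in characteristic `3` -/
theorem trace_of_pow_cases (h3 : (3 : F) = 0) (g : SpecialLinearGroup (Fin 2) F)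
    (hg : ¬ IsScalar2 (g : Matrix (Fin 2) (Fin 2) F))
    (h : toPSL2 F g ^ 2 = 1 ∨ toPSL2 F g ^ 3 = 1 ∨ toPSL2 F g ^ 5 = 1) :
    (g : Matrix (Fin 2) (Fin 2) F).trace = 0 ∨ (g : Matrix (Fin 2) (Fin 2) F).trace ^ 2 = 1 ∨
      (g : Matrix (Fin 2) (Fin 2) F).trace ^ 4 = -1 := by
  set t := (g : Matrix (Fin 2) (Fin 2) F).trace with ht
  rcases h with h | h | h
  · left
    rw [← map_pow, toPSL2_eq_one_iff'] at h
    exact alpha_eq_zero g hg _ _ _ (coe_pow_two g t ht.symm) h
  · right; left
    rw [← map_pow, toPSL2_eq_one_iff'] at h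
    have := alpha_eq_zero g hg _ _ _ (coe_pow_three g t ht.symm) h
    linear_combination this
  · right; right
    rw [← map_pow, toPSL2_eq_one_iff'] at h
    have := alpha_eq_zero g hg _ _ _ (coe_pow_five g t ht.symm) h
    linear_combination this + t ^ 2 * h3

end traces

section finite
variable {F : Type*} [Field F] [Fintype F]

/-- a generator fixed by a power of the Frobenius bounds the field -/
theorem card_le_of_pow_eq (h3 : (3 : F) = 0) (lam : F) (n : ℕ) (hn : 0 < n) (hl : lam ^ 3 ^ n = lam)
    (hgen : Subfield.closure ({lam} : Set F) = ⊤) : Fintype.card F ≤ 3 ^ n := by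
  classical
  have : CharP F 3 := (CharP.charP_iff_prime_eq_zero Nat.prime_three).2 (by exact_mod_cast h3)
  have : Fact (Nat.Prime 3) := ⟨Nat.prime_three⟩
  let S : Subfield F :=
    { carrier := {x | x ^ 3 ^ n = x}
      mul_mem' := by
        intro x y hx hy
        show (x * y) ^ 3 ^ n = x * y
        rw [mul_pow, hx, hy]
      one_mem' := one_pow _
      add_mem' := by
        intro x y hx hy
        show (x + y) ^ 3 ^ n = x + y
        rw [add_pow_char_pow, hx, hy]
      zero_mem' := zero_pow (pow_pos (by norm_num) n).ne'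
      neg_mem' := by
        intro x hx
        show (-x) ^ 3 ^ n = -x
        rw [Odd.neg_pow (Odd.pow (by decide)), hx]
      inv_mem' := by
        intro x hx
        show (x⁻¹) ^ 3 ^ n = x⁻¹
        rw [inv_pow, hx] }
  have hS : S = ⊤ := by
    rw [eq_top_iff, ← hgen, Subfield.closure_le]
    intro x hx
    rw [Set.mem_singleton_iff] at hx
    rw [hx]
    exact hl
  have hall : ∀ x : F, x ^ 3 ^ n = x := by
    intro x
    have : x ∈ S := by rw [hS]; exact Subfield.mem_top x
    exact this
  have h1 : 1 < 3 ^ n := Nat.one_lt_pow hn.ne' (by norm_num)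
  have hne := FiniteField.X_pow_card_sub_X_ne_zero F h1
  have hdeg := FiniteField.X_pow_card_sub_X_natDegree_eq F h1
  have hsub : (Finset.univ : Finset F) ⊆ (Polynomial.X ^ 3 ^ n - Polynomial.X : Polynomial F).roots.toFinset := by
    intro x _
    rw [Multiset.mem_toFinset, Polynomial.mem_roots hne, Polynomial.IsRoot.def]
    simp [hall x]
  calc Fintype.card F = (Finset.univ : Finset F).card := rfl
    _ ≤ (Polynomial.X ^ 3 ^ n - Polynomial.X : Polynomial F).roots.toFinset.card := Finset.card_le_card hsub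
    _ ≤ Multiset.card (Polynomial.X ^ 3 ^ n - Polynomial.X : Polynomial F).roots := Multiset.toFinset_card_le _
    _ ≤ (Polynomial.X ^ 3 ^ n - Polynomial.X : Polynomial F).natDegree := Polynomial.card_roots' _
    _ = 3 ^ n := hdeg

omit [Fintype F] in
theorem ll_mul_uu_trace (lam : F) :
    ((ll 1 * uu lam : SpecialLinearGroup (Fin 2) F) : Matrix (Fin 2) (Fin 2) F).trace = 2 + lam := by
  rw [Matrix.SpecialLinearGroup.coe_mul, Matrix.trace_fin_two]
  simp [ll, uu, Matrix.mul_apply, Fin.sum_univ_two]
  ring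

omit [Fintype F] in
theorem ll_mul_uu_not_scalar (lam : F) :
    ¬ IsScalar2 ((ll 1 * uu lam : SpecialLinearGroup (Fin 2) F) : Matrix (Fin 2) (Fin 2) F) := by
  rintro ⟨-, h10, -⟩
  rw [Matrix.SpecialLinearGroup.coe_mul] at h10
  simp [ll, uu, Matrix.mul_apply, Fin.sum_univ_two] at h10

omit [Fintype F] in
/-- in characteristic `3`, if `ll 1` and `uu lam` lie in a copy of `A₅` then `lam² = -1` -/
theorem lam_sq_of_A5 (h3 : (3 : F) = 0) (lam : F) (hlam : lam ≠ 0) (hl1 : lam ≠ 1) (hl2 : lam ≠ -1)
    (H : Subgroup (ProjectiveSpecialLinearGroup (Fin 2) F)) (e : ↥H ≃* alternatingGroup (Fin 5))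
    (ha : toPSL2 F (ll 1) ∈ H) (hb : toPSL2 F (uu lam) ∈ H) : lam ^ 2 = -1 := by
  have hpow : ∀ g : SpecialLinearGroup (Fin 2) F, toPSL2 F g ∈ H →
      toPSL2 F g ^ 2 = 1 ∨ toPSL2 F g ^ 3 = 1 ∨ toPSL2 F g ^ 5 = 1 := by
    intro g hg
    have key : ∀ n : ℕ, e ⟨toPSL2 F g, hg⟩ ^ n = 1 → toPSL2 F g ^ n = 1 := by
      intro n hn
      rw [← map_pow] at hn
      have h1 : (⟨toPSL2 F g, hg⟩ : ↥H) ^ n = 1 := e.injective (by rw [hn, map_one])
      exact congrArg Subtype.val h1
    rcases a5_pow (e ⟨toPSL2 F g, hg⟩) with h | h | h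
    · exact Or.inl (key 2 h)
    · exact Or.inr (Or.inl (key 3 h))
    · exact Or.inr (Or.inr (key 5 h))
  have hx : toPSL2 F (ll 1 * uu lam) ∈ H := by
    rw [map_mul]; exact H.mul_mem ha hb
  have hy : toPSL2 F (ll 1 * uu (-lam)) ∈ H := by
    rw [map_mul, ← uu_inv, map_inv]; exact H.mul_mem ha (H.inv_mem hb)
  have h1 := trace_of_pow_cases h3 _ (ll_mul_uu_not_scalar lam) (hpow _ hx)
  have h2 := trace_of_pow_cases h3 _ (ll_mul_uu_not_scalar (-lam)) (hpow _ hy)
  rw [ll_mul_uu_trace] at h1 h2
  have e1 : (2 + lam) ^ 4 = -1 := by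
    rcases h1 with h | h | h
    · exfalso
      apply hl1
      linear_combination h - h3
    · exfalso
      have : (lam + 1) * lam = 0 := by linear_combination h - (lam + 1) * h3
      rcases mul_eq_zero.1 this with h' | h'
      · exact hl2 (by linear_combination h')
      · exact hlam h'
    · exact h
  have e2 : (2 + -lam) ^ 4 = -1 := by
    rcases h2 with h | h | h
    · exfalso
      apply hl2
      linear_combination -h + h3
    · exfalso
      have : (lam - 1) * lam = 0 := by linear_combination h + (lam - 1) * h3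
      rcases mul_eq_zero.1 this with h' | h'
      · exact hl1 (by linear_combination h')
      · exact hlam h'
    · exact h
  have e3 : lam * (lam ^ 2 + 1) = 0 := by
    linear_combination e1 - e2 - (21 * lam + 5 * lam ^ 3) * h3
  have := (mul_eq_zero.1 e3).resolve_left hlam
  linear_combination this

/-- **Dickson's generation lemma**, the generic case -/
theorem gen_main (h2 : (2 : F) ≠ 0) (lam : F) (hlam : lam ≠ 0)
    (hgen : Subfield.closure ({lam} : Set F) = ⊤)
    (hne : ¬ (Fintype.card F = 9 ∧ lam ^ 2 = -1)) :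
    Subgroup.closure ({ll 1, uu lam} : Set (SpecialLinearGroup (Fin 2) F)) = ⊤ := by
  obtain ⟨p, hp⟩ := CharP.exists F
  have hpr : Fact p.Prime := ⟨CharP.char_is_prime F p⟩
  have hp2 : p ≠ 2 := by
    rintro rfl
    exact h2 (CharTwo.two_eq_zero)
  set L := Subgroup.closure ({ll 1, uu lam} : Set (SpecialLinearGroup (Fin 2) F)) with hL
  have haL : ll 1 ∈ L := Subgroup.subset_closure (by simp)
  have hbL : uu lam ∈ L := Subgroup.subset_closure (by simp)
  apply eq_top_of_map_eq_top h2
  set H := L.map (toPSL2 F) with hH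
  have haH : toPSL2 F (ll 1) ∈ H := Subgroup.mem_map_of_mem _ haL
  have hbH : toPSL2 F (uu lam) ∈ H := Subgroup.mem_map_of_mem _ hbL
  set H₂ : Subgroup (ProjectiveSpecialLinearGroup (Fin 2) F) :=
    MulAut.conj (toPSL2 F (uu (-1))) • H with hH₂
  have e₂ : ↥H ≃* ↥H₂ := Subgroup.equivSMul (MulAut.conj (toPSL2 F (uu (-1)))) H
  suffices hH₂top : H₂ = ⊤ by
    apply Subgroup.eq_top_of_card_eq
    rw [Nat.card_congr e₂.toEquiv, hH₂top, Subgroup.card_top]
  have hmemH₂ : ∀ m : SpecialLinearGroup (Fin 2) F, toPSL2 F m ∈ H →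
      toPSL2 F (uu (-1) * m * (uu (-1))⁻¹) ∈ H₂ := by
    intro m hm
    rw [hH₂, mem_conj_smul, map_mul, map_mul, map_inv]
    have : (toPSL2 F (uu (-1)))⁻¹ * (toPSL2 F (uu (-1)) * toPSL2 F m * (toPSL2 F (uu (-1)))⁻¹) *
        toPSL2 F (uu (-1)) = toPSL2 F m := by group
    rw [this]
    exact hm
  have hu₂ : toPSL2 F (uu lam) ∈ H₂ := by
    have := hmemH₂ (uu lam) hbH
    have e := uu_conj_comm (1 : F) lam
    rwa [e] at this
  set w : SpecialLinearGroup (Fin 2) F := uu (-1) * ll 1 * (uu (-1))⁻¹ with hw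
  have hwH : toPSL2 F w ∈ H₂ := hmemH₂ (ll 1) haH
  have hw0 : (w : Matrix (Fin 2) (Fin 2) F) 0 0 = 0 := by
    rw [hw, uu_inv, Matrix.SpecialLinearGroup.coe_mul, Matrix.SpecialLinearGroup.coe_mul]
    simp [uu, ll, Matrix.mul_apply, Fin.sum_univ_two]
  have hw10 : (w : Matrix (Fin 2) (Fin 2) F) 1 0 = 1 := by
    rw [hw, uu_inv, Matrix.SpecialLinearGroup.coe_mul, Matrix.SpecialLinearGroup.coe_mul]
    simp [uu, ll, Matrix.mul_apply, Fin.sum_univ_two]
  have hw11 : (w : Matrix (Fin 2) (Fin 2) F) 1 1 = 2 := by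
    rw [hw, uu_inv, Matrix.SpecialLinearGroup.coe_mul, Matrix.SpecialLinearGroup.coe_mul]
    simp [uu, ll, Matrix.mul_apply, Fin.sum_univ_two]
    norm_num
  have hyp := pHyp_QH p H₂ lam hlam hu₂
  have hnn : ¬ (QH H₂).Normal := by
    intro hn
    have h1 : (⟨toPSL2 F w, hwH⟩ : ↥H₂) ∈ Subgroup.normalizer ((QH H₂ : Subgroup ↥H₂) : Set ↥H₂) := by
      rw [Subgroup.normalizer_eq_top_iff.2 hn]
      exact Subgroup.mem_top _
    have := isB_of_normalizes H₂ lam hlam hu₂ _ h1 w rfl
    unfold IsB at this
    rw [hw10] at this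
    exact one_ne_zero this
  -- the main case
  have main : (partH H₂).oi ((partH H₂).orb ⟨QH H₂, QH_mem H₂ lam hlam hu₂⟩) = Nat.card (QH H₂) + 1 →
      H₂ = ⊤ := by
    intro hN
    have c : Cfg (H₂.comap (toPSL2 F)) lam w :=
      { hb₁ := hlam
        hu := hu₂
        hw := hwH
        hw0 := hw0
        h3 := fun g hg h10 => h3_of_card p H₂ lam hlam hu₂ w hwH hw0 hN g hg h10 }
    have hlamK : lam ∈ multField (H₂.comap (toPSL2 F)) := by
      obtain ⟨μ, hμ, c00, h00, c01, h01, c10, h10, c11, h11, e00, e01, e10, e11⟩ := c.core w hwH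
      rw [hw11] at e11
      rw [hw10, one_mul] at e10
      have hc11 : c11 ≠ 0 := by
        rintro rfl
        rw [mul_zero] at e11
        exact h2 e11
      have hμ' : μ = 2 / c11 := by
        rw [eq_div_iff hc11, e11]
      rw [e10, hμ']
      apply (multField (H₂.comap (toPSL2 F))).mul_mem _ h10
      apply (multField (H₂.comap (toPSL2 F))).div_mem _ h11
      have : (2 : F) = 1 + 1 := by norm_num
      rw [this]
      exact (multField _).add_mem (multField _).one_mem (multField _).one_mem
    have hK : multField (H₂.comap (toPSL2 F)) = ⊤ := by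
      rw [eq_top_iff, ← hgen, Subfield.closure_le]
      intro x hx
      rw [Set.mem_singleton_iff] at hx
      rw [hx]
      exact hlamK
    rw [eq_top_iff]
    intro x _
    obtain ⟨g, rfl⟩ := toPSL2_surjective x
    have hall : ∀ y : F, y ∈ multField (H₂.comap (toPSL2 F)) := by
      intro y; rw [hK]; exact Subfield.mem_top y
    exact c.lower g _ ((g : Matrix (Fin 2) (Fin 2) F) 0 1 / lam) ((g : Matrix (Fin 2) (Fin 2) F) 1 0 * lam) _
      (hall _) (hall _) (hall _) (hall _) rfl (by field_simp) (by field_simp) rfl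
  rcases hyp.thmIII hnn with hN | ⟨B, hB, hBS, hcyc, ⟨hdih⟩⟩ | ⟨⟨e⟩⟩
  · exact main hN
  · -- dihedral: impossible for odd `p`
    exfalso
    obtain ⟨S, hS⟩ := hyp.syl
    have := sylow_normal_of_dihedral _ hdih p hp2 S
    rw [hS] at this
    exact hnn this
  · -- `A₅`
    have h60 : Nat.card ↥H₂ = 60 := by rw [Nat.card_congr e.toEquiv, card_A5]
    obtain ⟨S, hS⟩ := hyp.syl
    have hQne : QH H₂ ≠ ⊥ := (partH H₂).ne_bot _ hyp.hQ
    have hpdvd : p ∣ 60 := by
      rw [← h60]
      by_contra hnd
      apply hQne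
      rw [← hS]
      have h1 : Nat.card (S : Subgroup ↥H₂) = 1 := by
        rw [Sylow.card_eq_multiplicity]
        have : (Nat.card ↥H₂).factorization p = 0 := Nat.factorization_eq_zero_of_not_dvd hnd
        rw [this, pow_zero]
      exact Subgroup.card_eq_one.1 h1
    have hp35 : p = 3 ∨ p = 5 := by
      have hple : p ≤ 60 := Nat.le_of_dvd (by norm_num) hpdvd
      have hpp := hpr.out
      interval_cases p <;> first | omega | (exfalso; revert hpp; decide)
    rcases hp35 with rfl | rfl
    · -- `p = 3`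
      exfalso
      have h3 : (3 : F) = 0 := by exact_mod_cast CharP.cast_eq_zero F 3
      have e' : ↥H ≃* alternatingGroup (Fin 5) := e₂.trans e
      have hGcard := card_PSL2_mul (F := F)
      rw [card_center_SL2 h2] at hGcard
      have hHle : Nat.card ↥H ≤ Nat.card (ProjectiveSpecialLinearGroup (Fin 2) F) :=
        Subgroup.card_le_card_group H
      rw [Nat.card_congr e₂.toEquiv, h60] at hHle
      have hq3 : Fintype.card F ≠ 3 := by
        intro h
        rw [h] at hGcard
        omega
      have hl1 : lam ≠ 1 ∧ lam ≠ -1 := by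
        constructor
        · rintro rfl
          have := card_le_of_pow_eq h3 (1 : F) 1 (by norm_num) (one_pow _) hgen
          obtain ⟨n, -, hn⟩ := FiniteField.card F 3
          have hn1 : (n : ℕ) = 1 := by
            have h4 : 3 ^ (n : ℕ) ≤ 3 ^ 1 := by rw [← hn]; exact this
            have := (Nat.pow_le_pow_iff_right (by norm_num : 1 < 3)).1 h4
            have := n.pos
            omega
          rw [hn1, pow_one] at hn
          exact hq3 hn
        · rintro rfl
          have := card_le_of_pow_eq h3 (-1 : F) 1 (by norm_num) (by rw [pow_one, Odd.neg_pow (by decide), one_pow]) hgen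
          obtain ⟨n, -, hn⟩ := FiniteField.card F 3
          have hn1 : (n : ℕ) = 1 := by
            have h4 : 3 ^ (n : ℕ) ≤ 3 ^ 1 := by rw [← hn]; exact this
            have := (Nat.pow_le_pow_iff_right (by norm_num : 1 < 3)).1 h4
            have := n.pos
            omega
          rw [hn1, pow_one] at hn
          exact hq3 hn
      have hsq := lam_sq_of_A5 h3 lam hlam hl1.1 hl1.2 H e' haH hbH
      apply hne
      refine ⟨?_, hsq⟩
      have h9 : lam ^ 3 ^ 2 = lam := by
        have : lam ^ 3 ^ 2 = lam * (lam ^ 2) ^ 4 := by ring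
        rw [this, hsq]
        ring
      have := card_le_of_pow_eq h3 lam 2 (by norm_num) h9 hgen
      obtain ⟨n, -, hn⟩ := FiniteField.card F 3
      have hn2 : (n : ℕ) ≤ 2 := by
        have h4 : 3 ^ (n : ℕ) ≤ 3 ^ 2 := by rw [← hn]; exact this
        exact (Nat.pow_le_pow_iff_right (by norm_num : 1 < 3)).1 h4
      have hnpos := n.pos
      have : (n : ℕ) = 1 ∨ (n : ℕ) = 2 := by omega
      rcases this with h | h
      · rw [h, pow_one] at hn
        exact absurd hn hq3
      · rw [h] at hn
        rw [hn]; norm_num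
    · -- `p = 5`: the main case applies
      apply main
      have hcQ : Nat.card (QH H₂) = 5 := by
        rw [← hS, Sylow.card_eq_multiplicity, h60]
        have : (60 : ℕ).factorization 5 = 1 := by
          have h60' : (60 : ℕ) = 5 ^ 1 * 12 := by norm_num
          rw [h60', Nat.factorization_mul (by norm_num) (by norm_num), Nat.Prime.factorization_pow Nat.prime_five]
          simp
          exact Nat.factorization_eq_zero_of_not_dvd (by norm_num)
        rw [this, pow_one]
      obtain ⟨t, ht⟩ := hyp.card_orbit_mod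
      rw [← (partH H₂).oi_orb] at ht
      have hN2 := hyp.two_le_orbit hnn
      have hNm := (partH H₂).oi_mul_on ((partH H₂).orb ⟨QH H₂, QH_mem H₂ lam hlam hu₂⟩)
      rw [(partH H₂).on_orb, h60] at hNm
      have hdvd : Nat.card (QH H₂) ∣ Nat.card (Subgroup.normalizer ((QH H₂ : Subgroup ↥H₂) : Set ↥H₂)) :=
        Subgroup.card_dvd_of_le Subgroup.le_normalizer
      rw [hcQ] at hdvd ht ⊢
      obtain ⟨m, hm⟩ := hdvd
      rw [hm] at hNm
      set N := (partH H₂).oi ((partH H₂).orb ⟨QH H₂, QH_mem H₂ lam hlam hu₂⟩) with hNdef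
      have hNm' : N * m = 12 := by
        have : 5 * (N * m) = 5 * 12 := by
          have : 5 * (N * m) = N * (5 * m) := by ring
          rw [this, hNm]
        exact Nat.eq_of_mul_eq_mul_left (by norm_num) this
      have hmpos : 0 < m := by
        rcases Nat.eq_zero_or_pos m with rfl | h
        · omega
        · exact h
      have hNle : N ≤ 12 := by
        calc N = N * 1 := (mul_one N).symm
          _ ≤ N * m := Nat.mul_le_mul_left N hmpos
          _ = 12 := hNm'
      have ht2 : t ≤ 2 := by omega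
      interval_cases t
      · omega
      · omega
      · exfalso
        have h11 : N = 11 := by omega
        rw [h11] at hNm'
        omega

/-- **Dickson's generation lemma**, the exceptional case -/
theorem gen_exc (hq : Fintype.card F = 9) (lam : F) (hl : lam ^ 2 = -1) :
    Nat.card ↥(Subgroup.closure ({ll 1, uu lam} : Set (SpecialLinearGroup (Fin 2) F))) = 120 := by
  have h3 : (3 : F) = 0 := by
    have h9 : ((9 : ℕ) : F) = 0 := by rw [← hq]; exact Nat.cast_card_eq_zero F
    have : (3 : F) ^ 2 = 0 := by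
      have : (3 : F) ^ 2 = ((9 : ℕ) : F) := by norm_num
      rw [this, h9]
    exact pow_eq_zero_iff (by norm_num) |>.1 this
  have h2 : (2 : F) ≠ 0 := by
    intro h
    have : (1 : F) = 0 := by linear_combination h3 - h
    exact one_ne_zero this
  set a : SpecialLinearGroup (Fin 2) F := ll 1 with ha
  set b : SpecialLinearGroup (Fin 2) F := uu lam with hb
  set L := Subgroup.closure ({a, b} : Set (SpecialLinearGroup (Fin 2) F)) with hL
  have haL : a ∈ L := Subgroup.subset_closure (by simp)
  have hbL : b ∈ L := Subgroup.subset_closure (by simp)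
  set z := a * b with hz
  have hz5 : z ^ 5 = -1 := by
    apply pow_five_of_trace_golden z (2 + lam) _ (ll_mul_uu_trace lam)
    linear_combination hl + lam * h3
  have hzL : z ∈ L := L.mul_mem haL hbL
  have hnegL : (-1 : SpecialLinearGroup (Fin 2) F) ∈ L := by
    rw [← hz5]; exact L.pow_mem hzL 5
  -- the three relations
  set x : ProjectiveSpecialLinearGroup (Fin 2) F := toPSL2 F a with hx
  set y : ProjectiveSpecialLinearGroup (Fin 2) F := toPSL2 F (z * z) with hy
  have hx3 : x ^ 3 = 1 := by
    rw [hx, ← map_pow]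
    have : a ^ 3 = 1 := by
      apply Subtype.ext
      rw [Matrix.SpecialLinearGroup.coe_pow, pow_succ, pow_two, Matrix.SpecialLinearGroup.coe_one]
      apply mat2_ext <;> simp [ha, ll, Matrix.mul_apply, Fin.sum_univ_two]
      linear_combination h3
    rw [this, map_one]
  have hy5 : y ^ 5 = 1 := by
    rw [hy, ← map_pow]
    have : (z * z) ^ 5 = 1 := by
      rw [← pow_two, ← pow_mul]
      have : z ^ (2 * 5) = (z ^ 5) ^ 2 := by rw [← pow_mul, mul_comm]
      rw [this, hz5]
      simp
    rw [this, map_one]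
  have hxy2 : (x * y) ^ 2 = 1 := by
    rw [hx, hy, ← map_mul]
    apply mk_sq_eq_one_of_trace_zero
    rw [Matrix.SpecialLinearGroup.coe_mul, Matrix.SpecialLinearGroup.coe_mul, hz,
      Matrix.SpecialLinearGroup.coe_mul, Matrix.trace_fin_two]
    simp [ha, hb, ll, uu, Matrix.mul_apply, Fin.sum_univ_two]
    linear_combination (2 * lam) * h3 + 2 * hl
  have hx1 : x ≠ 1 := by
    intro h
    rw [hx, toPSL2_eq_one_iff'] at h
    have := h.2.1
    simp [ha, ll] at this
  have hzy : toPSL2 F z = y ^ 3 := by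
    rw [hy, ← map_pow]
    have : (z * z) ^ 3 = -z := by
      have : (z * z) ^ 3 = z ^ 5 * z := by rw [← pow_two, ← pow_mul, pow_succ]
      rw [this, hz5]
      simp
    rw [this, toPSL2_neg]
  -- the presentation
  obtain ⟨e⟩ := Cfsg.Agent.S3377.result
  have hrel : ∀ r ∈ ({FreeGroup.of (0 : Fin 2) ^ 3, FreeGroup.of (1 : Fin 2) ^ 5,
      (FreeGroup.of (0 : Fin 2) * FreeGroup.of 1) ^ 2} : Set (FreeGroup (Fin 2))),
      FreeGroup.lift (![x, y] : Fin 2 → ProjectiveSpecialLinearGroup (Fin 2) F) r = 1 := by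
    intro r hr
    rcases hr with rfl | rfl | rfl
    · rw [map_pow, FreeGroup.lift_apply_of]
      exact hx3
    · rw [map_pow, FreeGroup.lift_apply_of]
      exact hy5
    · rw [map_pow, map_mul, FreeGroup.lift_apply_of, FreeGroup.lift_apply_of]
      exact hxy2
  let ψ : alternatingGroup (Fin 5) →* ProjectiveSpecialLinearGroup (Fin 2) F :=
    (PresentedGroup.toGroup hrel).comp e.symm.toMonoidHom
  have hψ0 : ψ (e (PresentedGroup.of 0)) = x := by
    show PresentedGroup.toGroup hrel (e.symm (e (PresentedGroup.of 0))) = x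
    rw [MulEquiv.symm_apply_apply, PresentedGroup.toGroup.of]
    rfl
  have hψ1 : ψ (e (PresentedGroup.of 1)) = y := by
    show PresentedGroup.toGroup hrel (e.symm (e (PresentedGroup.of 1))) = y
    rw [MulEquiv.symm_apply_apply, PresentedGroup.toGroup.of]
    rfl
  have hker : ψ.ker = ⊥ := by
    rcases (MonoidHom.normal_ker ψ).eq_bot_or_eq_top with h | h
    · exact h
    · exfalso
      have h1 : e (PresentedGroup.of 0) ∈ ψ.ker := by rw [h]; exact Subgroup.mem_top _
      rw [MonoidHom.mem_ker, hψ0] at h1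
      exact hx1 h1
  have hinj : Function.Injective ψ := (MonoidHom.ker_eq_bot_iff ψ).1 hker
  -- the range of `ψ` is the image of `L`
  have hrange : ψ.range = L.map (toPSL2 F) := by
    apply le_antisymm
    · rintro _ ⟨u, rfl⟩
      obtain ⟨v, rfl⟩ := e.surjective u
      show PresentedGroup.toGroup hrel (e.symm (e v)) ∈ _
      rw [MulEquiv.symm_apply_apply]
      induction v using PresentedGroup.induction_on with | _ v =>
      show FreeGroup.lift (![x, y] : Fin 2 → ProjectiveSpecialLinearGroup (Fin 2) F) v ∈ _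
      have hrng : (FreeGroup.lift (![x, y] : Fin 2 → ProjectiveSpecialLinearGroup (Fin 2) F)).range ≤
          L.map (toPSL2 F) := by
        rw [FreeGroup.range_lift_eq_closure, Subgroup.closure_le]
        rintro _ ⟨i, rfl⟩
        fin_cases i
        · exact Subgroup.mem_map_of_mem _ haL
        · exact Subgroup.mem_map_of_mem _ (L.mul_mem hzL hzL)
      exact hrng ⟨v, rfl⟩
    · rw [hL, MonoidHom.map_closure, Subgroup.closure_le]
      rintro _ ⟨g, hg, rfl⟩
      have hxr : x ∈ ψ.range := ⟨_, hψ0⟩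
      have hyr : y ∈ ψ.range := ⟨_, hψ1⟩
      rcases hg with rfl | rfl
      · exact hxr
      · have : toPSL2 F b = x⁻¹ * y ^ 3 := by
          rw [← hzy, hx, hz, map_mul]
          group
        show toPSL2 F b ∈ ψ.range
        rw [this]
        exact ψ.range.mul_mem (ψ.range.inv_mem hxr) (ψ.range.pow_mem hyr 3)
  have hcard : Nat.card (L.map (toPSL2 F)) = 60 := by
    rw [← hrange, ← card_A5]
    exact (Nat.card_congr (MonoidHom.ofInjective hinj).toEquiv).symm
  have hcen : Subgroup.center (SpecialLinearGroup (Fin 2) F) ≤ L := by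
    intro c hc
    rcases (mem_center_SL2_iff h2 c).1 hc with rfl | rfl
    · exact L.one_mem
    · exact hnegL
  have := card_map_toPSL2_mul L hcen
  rw [hcard, card_center_SL2 h2] at this
  omega

end finite

end Cfsg.Agent.Lib.Helper15.Dk
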