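import Mathlib
import Cfsg.Agent.Lib.Helper15.Dk9
import Cfsg.Agent.Lib.Helper15.Torus4
import Cfsg.Agent.Lib.Helper15.PSL2ClassEven

/-!
# Dickson project, part 10: normalizers of tori in `PSL₂(F)` are dihedral
-/

set_option autoImplicit false

open scoped Pointwise

namespace Cfsg.Agent.Lib.Helper15.Dk

open Matrix
open Cfsg.Agent.Lib.Helper14
open Cfsg.Agent.Lib.Helper15

section general
variable {F : Type*} [Field F]

theorem ne_inv_of_semisimple (g : SpecialLinearGroup (Fin 2) F)
    (hg : ¬ IsScalar2 (g : Matrix (Fin 2) (Fin 2) F))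
    (ht : (g : Matrix (Fin 2) (Fin 2) F).trace ^ 2 ≠ 4) : g ≠ g⁻¹ := by
  intro h
  have h1 : g * g = 1 := by
    nth_rewrite 2 [h]
    exact mul_inv_cancel g
  have h2 := coe_pow_two g _ rfl
  rw [pow_two, h1, Matrix.SpecialLinearGroup.coe_one] at h2
  set t := (g : Matrix (Fin 2) (Fin 2) F).trace with htdef
  have ht0 : t = 0 := by
    by_contra hne
    apply hg
    have e01 := congrFun (congrFun h2 0) 1
    have e10 := congrFun (congrFun h2 1) 0
    have e00 := congrFun (congrFun h2 0) 0
    have e11 := congrFun (congrFun h2 1) 1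
    simp at e01 e10 e00 e11
    refine ⟨e01.resolve_left hne, e10.resolve_left hne, ?_⟩
    have : t * ((g : Matrix (Fin 2) (Fin 2) F) 0 0 - (g : Matrix (Fin 2) (Fin 2) F) 1 1) = 0 := by
      linear_combination e11 - e00
    have := (mul_eq_zero.1 this).resolve_left hne
    linear_combination this
  have e00 := congrFun (congrFun h2 0) 0
  simp [ht0] at e00
  apply ht
  rw [ht0]
  have : (2 : F) = 0 := by linear_combination e00
  linear_combination (-2 : F) * this

theorem Tor_inv (g : SpecialLinearGroup (Fin 2) F) : Tor g⁻¹ = Tor g := by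
  unfold Tor
  congr 1
  ext k
  rw [Subgroup.mem_centralizer_iff, Subgroup.mem_centralizer_iff]
  constructor
  · intro h x hx
    rw [Set.mem_singleton_iff] at hx
    subst hx
    have := h x⁻¹ rfl
    calc x * k = x * (k * x⁻¹) * x := by group
      _ = x * (x⁻¹ * k) * x := by rw [this]
      _ = k * x := by group
  · intro h x hx
    rw [Set.mem_singleton_iff] at hx
    subst hx
    have := h g rfl
    calc g⁻¹ * k = g⁻¹ * (k * g) * g⁻¹ := by group
      _ = g⁻¹ * (g * k) * g⁻¹ := by rw [this]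
      _ = k * g⁻¹ := by group

end general

section finite
variable {F : Type*} [Field F] [Fintype F]

/-- the structure of the normalizer of a torus of `PSL₂(F)` -/
theorem torus_normalizer (g : SpecialLinearGroup (Fin 2) F)
    (hg : ¬ IsScalar2 (g : Matrix (Fin 2) (Fin 2) F))
    (ht : (g : Matrix (Fin 2) (Fin 2) F).trace ^ 2 ≠ 4) :
    IsCyclic (Tor g) ∧
    Nat.card (Subgroup.normalizer ((Tor g : Subgroup (ProjectiveSpecialLinearGroup (Fin 2) F)) :
      Set (ProjectiveSpecialLinearGroup (Fin 2) F))) = 2 * Nat.card (Tor g) ∧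
    Nonempty (↥(Subgroup.normalizer ((Tor g : Subgroup (ProjectiveSpecialLinearGroup (Fin 2) F)) :
      Set (ProjectiveSpecialLinearGroup (Fin 2) F))) ≃* DihedralGroup (Nat.card (Tor g))) ∧
    (∀ y ∈ Subgroup.normalizer ((Tor g : Subgroup (ProjectiveSpecialLinearGroup (Fin 2) F)) :
      Set (ProjectiveSpecialLinearGroup (Fin 2) F)), y ∉ Tor g → y * y = 1 ∧ ∀ x ∈ Tor g, y * x * y⁻¹ = x⁻¹) := by
  have hcycC := isCyclic_torus' g hg ht
  have hcycT : IsCyclic (Tor g) :=
    isCyclic_of_surjective ((toPSL2 F).subgroupMap (Subgroup.centralizer ({g} : Set (SpecialLinearGroup (Fin 2) F))))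
      (MonoidHom.subgroupMap_surjective _ _)
  set T := Tor g with hT
  set N := Subgroup.normalizer ((T : Subgroup (ProjectiveSpecialLinearGroup (Fin 2) F)) :
      Set (ProjectiveSpecialLinearGroup (Fin 2) F)) with hN
  -- elements of `N \ T` invert `g`
  have hinv : ∀ m : SpecialLinearGroup (Fin 2) F, toPSL2 F m ∈ N → toPSL2 F m ∉ T →
      m * g * m⁻¹ = g⁻¹ := by
    intro m hmN hmT
    have h1 : toPSL2 F (m * g * m⁻¹) ∈ T := by
      rw [map_mul, map_mul, map_inv]
      exact (Subgroup.mem_normalizer_iff.1 hmN _).1 (self_mem_Tor g)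
    rw [hT, mem_Tor_iff] at h1
    rcases normalizer_conj_cases' g hg ht m h1 with h | h
    · exfalso
      apply hmT
      rw [hT, mem_Tor_iff]
      exact (mem_centralizer_iff_conj_eq g m).2 h
    · exact h
  have hyprop : ∀ y ∈ N, y ∉ T → y * y = 1 ∧ ∀ x ∈ T, y * x * y⁻¹ = x⁻¹ := by
    intro y hyN hyT
    obtain ⟨m, rfl⟩ := toPSL2_surjective y
    have hm := hinv m hyN hyT
    constructor
    · rw [← map_mul]
      have : m * m = -1 := by
        apply Subtype.ext
        rw [inverting_sq g hg m hm]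
        simp
      rw [this, toPSL2_neg_one]
    · intro x hx
      obtain ⟨k, rfl⟩ := toPSL2_surjective x
      rw [hT, mem_Tor_iff] at hx
      rw [← map_inv, ← map_mul, ← map_mul, inverting_torus g hg m hm k hx, map_inv]
  obtain ⟨n, hn⟩ := exists_inverting g ht
  have hnN : toPSL2 F n ∈ N := by
    rw [hN, ← conj_smul_eq_self_iff, hT, Tor_conj, hn, Tor_inv]
  have hnT : toPSL2 F n ∉ T := by
    intro h
    rw [hT, mem_Tor_iff] at h
    have := (mem_centralizer_iff_conj_eq g n).1 h
    rw [hn] at this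
    exact ne_inv_of_semisimple g hg ht this.symm
  have hTN : T ≤ N := Subgroup.le_normalizer
  have hcard : Nat.card N = 2 * Nat.card T := by
    apply le_antisymm
    · apply card_le_two_mul
      intro y hy y' hy' hyT hyT'
      obtain ⟨m, rfl⟩ := toPSL2_surjective y
      obtain ⟨m', rfl⟩ := toPSL2_surjective y'
      have h1 := hinv m hy hyT
      have h2 := hinv m' hy' hyT'
      rw [← map_inv, ← map_mul, hT, mem_Tor_iff, mem_centralizer_iff_conj_eq]
      calc m⁻¹ * m' * g * (m⁻¹ * m')⁻¹ = m⁻¹ * (m' * g * m'⁻¹) * m := by group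
        _ = m⁻¹ * g⁻¹ * m := by rw [h2]
        _ = m⁻¹ * (m * g * m⁻¹) * m := by rw [h1]
        _ = g := by group
    · obtain ⟨c, hc⟩ := Subgroup.card_dvd_of_le hTN
      have hpos : 0 < Nat.card N := Nat.card_pos
      have hTpos : 0 < Nat.card T := Nat.card_pos
      rcases Nat.lt_or_ge c 2 with hc2 | hc2
      · exfalso
        have hc1 : c = 1 := by
          rcases Nat.eq_zero_or_pos c with rfl | h
          · rw [mul_zero] at hc; omega
          · omega
        rw [hc1, mul_one] at hc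
        have := Subgroup.eq_of_le_of_card_ge hTN (le_of_eq hc)
        apply hnT
        rw [this]
        exact hnN
      · rw [hc, mul_comm]
        exact Nat.mul_le_mul_left _ hc2
  refine ⟨hcycT, hcard, ?_, hyprop⟩
  -- the dihedral structure
  obtain ⟨x, hx⟩ := hcycT.exists_generator
  have hxord : orderOf x = Nat.card T := orderOf_eq_card_of_forall_mem_zpowers hx
  have : NeZero (Nat.card T) := ⟨Nat.card_pos.ne'⟩
  let a' : ↥N := ⟨toPSL2 F n, hnN⟩
  let x' : ↥N := ⟨(x : ProjectiveSpecialLinearGroup (Fin 2) F), hTN x.2⟩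
  apply dihedral_of_card (Nat.card T) a' x'
  · rw [← hxord]
    have h1 : orderOf x' = orderOf (x' : ProjectiveSpecialLinearGroup (Fin 2) F) := (Subgroup.orderOf_coe x').symm
    have h2 : orderOf x = orderOf (x : ProjectiveSpecialLinearGroup (Fin 2) F) := (Subgroup.orderOf_coe x).symm
    rw [h1, h2]
  · apply Subtype.ext
    exact (hyprop _ hnN hnT).1
  · apply Subtype.ext
    exact (hyprop _ hnN hnT).2 _ x.2
  · intro h
    obtain ⟨k, hk⟩ := Subgroup.mem_zpowers_iff.1 h
    apply hnT
    have h1 : ((x' ^ k : ↥N) : ProjectiveSpecialLinearGroup (Fin 2) F) = toPSL2 F n := congrArg Subtype.val hk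
    rw [← h1]
    push_cast
    exact T.zpow_mem x.2 k
  · exact hcard

theorem exists_nonsplit_trace : ∃ t : F, ¬ IsSplitTrace t := by
  by_cases h2 : (2 : F) = 0
  · have hc : CharP F 2 := CharTwo.of_one_ne_zero_of_two_eq_zero one_ne_zero h2
    obtain ⟨t, ht⟩ := exists_no_root (F := F)
    refine ⟨t, ?_⟩
    rintro ⟨a, ha0, hta⟩
    apply ht a
    have : a * a⁻¹ = 1 := mul_inv_cancel₀ ha0
    rw [hta]
    linear_combination this + (a ^ 2 + 1) * h2
  · apply exists_nonsplit
    have : ¬ 2 ∣ Fintype.card F := fun h => h2 (two_dvd_card_iff.1 h)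
    exact Nat.odd_iff.2 (by omega)

omit [Fintype F] in
theorem trace_sq_ne_four_of_nonsplit (t : F) (ht : ¬ IsSplitTrace t) : t ^ 2 ≠ 4 := by
  intro h
  have : (t - 2) * (t + 2) = 0 := by linear_combination h
  rcases mul_eq_zero.1 this with h' | h'
  · apply ht
    exact ⟨1, one_ne_zero, by rw [inv_one]; linear_combination h'⟩
  · apply ht
    refine ⟨-1, by simp, ?_⟩
    rw [inv_neg, inv_one]
    linear_combination h'

/-- a non-split torus of `PSL₂(F)` -/
theorem exists_torus_plus : ∃ g : SpecialLinearGroup (Fin 2) F,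
    ¬ IsScalar2 (g : Matrix (Fin 2) (Fin 2) F) ∧ (g : Matrix (Fin 2) (Fin 2) F).trace ^ 2 ≠ 4 ∧
    Nat.card (Tor g) * Nat.card (Subgroup.center (SpecialLinearGroup (Fin 2) F)) = Fintype.card F + 1 := by
  obtain ⟨t, ht⟩ := exists_nonsplit_trace (F := F)
  have hns : ¬ IsScalar2 ((comp2SL t : SpecialLinearGroup (Fin 2) F) : Matrix (Fin 2) (Fin 2) F) := by
    rintro ⟨-, h10, -⟩
    simp [comp2] at h10
  have htr : ((comp2SL t : SpecialLinearGroup (Fin 2) F) : Matrix (Fin 2) (Fin 2) F).trace = t := by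
    rw [comp2SL_coe, comp2_trace]
  refine ⟨comp2SL t, hns, ?_, ?_⟩
  · rw [htr]; exact trace_sq_ne_four_of_nonsplit t ht
  · rw [card_Tor_mul]
    apply card_centralizer_nonsplit_odd _ hns
    rw [htr]; exact ht

/-- a split torus of `PSL₂(F)` -/
theorem exists_torus_minus (hq : 4 ≤ Fintype.card F) : ∃ g : SpecialLinearGroup (Fin 2) F,
    ¬ IsScalar2 (g : Matrix (Fin 2) (Fin 2) F) ∧ (g : Matrix (Fin 2) (Fin 2) F).trace ^ 2 ≠ 4 ∧
    Nat.card (Tor g) * Nat.card (Subgroup.center (SpecialLinearGroup (Fin 2) F)) = Fintype.card F - 1 := by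
  classical
  obtain ⟨u, hu⟩ := IsCyclic.exists_generator (α := Fˣ)
  have hord : orderOf u = Fintype.card F - 1 := by
    rw [orderOf_eq_card_of_forall_mem_zpowers hu, Nat.card_eq_fintype_card, Fintype.card_units]
  have hu2 : (u : F) * (u : F) ≠ 1 := by
    intro h
    have h1 : u ^ 2 = 1 := by
      apply Units.ext
      rw [Units.val_pow_eq_pow_val, pow_two, h]
      rfl
    have := orderOf_dvd_of_pow_eq_one h1
    rw [hord] at this
    have := Nat.le_of_dvd (by norm_num) this
    omega
  have hu0 : (u : F) ≠ 0 := u.ne_zero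
  have hne : (u : F) ≠ (u : F)⁻¹ := by
    intro h
    apply hu2
    nth_rewrite 2 [h]
    exact mul_inv_cancel₀ hu0
  have hns : ¬ IsScalar2 ((dg (u : F) hu0 : SpecialLinearGroup (Fin 2) F) : Matrix (Fin 2) (Fin 2) F) := by
    rintro ⟨-, -, h⟩
    simp [dg] at h
    exact hne h
  have htr : ((dg (u : F) hu0 : SpecialLinearGroup (Fin 2) F) : Matrix (Fin 2) (Fin 2) F).trace =
      (u : F) + (u : F)⁻¹ := by
    rw [Matrix.trace_fin_two]
    simp [dg]
  have ht4 : ((dg (u : F) hu0 : SpecialLinearGroup (Fin 2) F) : Matrix (Fin 2) (Fin 2) F).trace ^ 2 ≠ 4 := by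
    rw [htr]
    intro h
    apply hne
    have h1 : (u : F) * (u : F)⁻¹ = 1 := mul_inv_cancel₀ hu0
    have : ((u : F) - (u : F)⁻¹) ^ 2 = 0 := by linear_combination h - 4 * h1
    have := pow_eq_zero_iff (two_ne_zero) |>.1 this
    linear_combination this
  refine ⟨dg (u : F) hu0, hns, ht4, ?_⟩
  rw [card_Tor_mul]
  apply card_centralizer_split_odd _ hns ht4
  rw [htr]
  exact ⟨(u : F), hu0, rfl⟩

end finite

end Cfsg.Agent.Lib.Helper15.Dk
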