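import Mathlib
import Cfsg.Agent.Lib.Helper14.GL2Cent
import Cfsg.Agent.Lib.Helper15.PSL2Orders1
set_option autoImplicit false
namespace Cfsg.Agent.Lib.Helper15

open Matrix
open Cfsg.Agent.Lib.Helper14

section pglinvol
variable {F : Type*} [Field F]

/-- matrices of trace `0` and determinant `1` -/
def IsTD (Z : Matrix (Fin 2) (Fin 2) F) : Prop := Z.trace = 0 ∧ Z.det = 1

theorem IsTD.sq {Z : Matrix (Fin 2) (Fin 2) F} (hZ : IsTD Z) : Z * Z = -1 := by
  rw [cayley2, hZ.1, hZ.2, zero_smul, one_smul, zero_sub]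

theorem IsTD.e11 {Z : Matrix (Fin 2) (Fin 2) F} (hZ : IsTD Z) : Z 1 1 = -Z 0 0 := by
  have := hZ.1
  rw [Matrix.trace_fin_two] at this
  linear_combination this

theorem IsTD.rel {Z : Matrix (Fin 2) (Fin 2) F} (hZ : IsTD Z) : Z 0 0 ^ 2 + Z 0 1 * Z 1 0 = -1 := by
  have h := hZ.2
  rw [Matrix.det_fin_two, hZ.e11] at h
  linear_combination -h

theorem IsTD.conj {Z : Matrix (Fin 2) (Fin 2) F} (hZ : IsTD Z) (g : GL (Fin 2) F) :
    IsTD ((g : Matrix (Fin 2) (Fin 2) F) * Z * ((g⁻¹ : GL (Fin 2) F) : Matrix (Fin 2) (Fin 2) F)) := by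
  constructor
  · rw [Matrix.trace_mul_cycle, ← Units.val_mul, inv_mul_cancel, Units.val_one, Matrix.one_mul, hZ.1]
  · rw [Matrix.det_mul, Matrix.det_mul, mul_right_comm, ← Matrix.det_mul, ← Units.val_mul, mul_inv_cancel,
      Units.val_one, Matrix.det_one, one_mul, hZ.2]

theorem IsTD.not_scalar (h2 : (2 : F) ≠ 0) {Z : Matrix (Fin 2) (Fin 2) F} (hZ : IsTD Z) : ¬ IsScalar2 Z := by
  rintro ⟨h01, h10, h00⟩
  have h1 := hZ.e11
  have h3 := hZ.rel
  rw [h01, zero_mul, add_zero] at h3
  have : (2 : F) * Z 0 0 = 0 := by linear_combination h00 + h1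
  rcases mul_eq_zero.1 this with h | h
  · exact h2 h
  · rw [h] at h3
    norm_num at h3

/-- a matrix anticommuting with `Z` has scalar square -/
theorem sq_of_anticomm (h2 : (2 : F) ≠ 0) {Z : Matrix (Fin 2) (Fin 2) F} (hZ : IsTD Z)
    (A : Matrix (Fin 2) (Fin 2) F) (hA : Z * A = -(A * Z)) : A * A = (-A.det) • (1 : Matrix (Fin 2) (Fin 2) F) := by
  have h1 : Z * A * Z = A := by
    rw [hA, Matrix.neg_mul, Matrix.mul_assoc, hZ.sq, Matrix.mul_neg, Matrix.mul_one, neg_neg]
  have h3 : A.trace = -A.trace := by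
    conv_lhs => rw [← h1, Matrix.trace_mul_cycle, hZ.sq, Matrix.neg_mul, Matrix.one_mul, Matrix.trace_neg]
  have h4 : A.trace = 0 := by
    have : (2 : F) * A.trace = 0 := by linear_combination h3
    rcases mul_eq_zero.1 this with h | h
    · exact absurd h h2
    · exact h
  rw [cayley2, h4, zero_smul, zero_sub, neg_smul]

/-- the commutator `Z Z' - Z' Z` anticommutes with `Z` and `Z'` -/
theorem comm_anticomm_left {Z Z' : Matrix (Fin 2) (Fin 2) F} (hZ : IsTD Z) :
    Z * (Z * Z' - Z' * Z) = -((Z * Z' - Z' * Z) * Z) := by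
  have h1 := hZ.sq
  linear_combination (norm := noncomm_ring) h1 * Z' - Z' * h1

theorem comm_anticomm_right {Z Z' : Matrix (Fin 2) (Fin 2) F} (hZ' : IsTD Z') :
    Z' * (Z * Z' - Z' * Z) = -((Z * Z' - Z' * Z) * Z') := by
  have h1 := hZ'.sq
  linear_combination (norm := noncomm_ring) -h1 * Z + Z * h1

/-- the algebraic heart: a nilpotent trace-zero matrix anticommuting with `Z` vanishes
when `-1` is not a square -/
theorem nil_anticomm_eq_zero (hns : ¬ IsSquare (-1 : F)) (a b c m n r : F) (h1 : a ^ 2 + b * c = -1)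
    (hm : m ^ 2 + n * r = 0) (hac : 2 * a * m + b * r + c * n = 0) : m = 0 ∧ n = 0 ∧ r = 0 := by
  by_cases hn : n = 0
  · subst hn
    rw [zero_mul, add_zero] at hm
    have hm0 : m = 0 := pow_eq_zero_iff (by norm_num) |>.1 hm
    subst hm0
    refine ⟨rfl, rfl, ?_⟩
    by_contra hr
    have hb : b = 0 := by
      have : b * r = 0 := by linear_combination hac
      rcases mul_eq_zero.1 this with h | h
      · exact h
      · exact absurd h hr
    subst hb
    apply hns
    exact ⟨a, by linear_combination -h1⟩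
  · exfalso
    apply hns
    refine ⟨(b * m - a * n) / n, ?_⟩
    field_simp
    linear_combination (-(b ^ 2)) * hm + (b * n) * hac - n ^ 2 * h1

/-- if the commutator of `Z` and `Z'` is singular then `Z' = ± Z` -/
theorem eq_or_neg_of_det_comm (hns : ¬ IsSquare (-1 : F))
    {Z Z' : Matrix (Fin 2) (Fin 2) F} (hZ : IsTD Z) (hZ' : IsTD Z')
    (hdet : (Z * Z' - Z' * Z).det = 0) : Z' = Z ∨ Z' = -Z := by
  have e1 := hZ.e11
  have e1' := hZ'.e11
  have r1 := hZ.rel
  have r1' := hZ'.rel
  set a := Z 0 0 with ha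
  set b := Z 0 1 with hb
  set c := Z 1 0 with hc
  set a' := Z' 0 0 with ha'
  set b' := Z' 0 1 with hb'
  set c' := Z' 1 0 with hc'
  have hs : (2 * a * a' + b * c' + c * b' - 2) * (2 * a * a' + b * c' + c * b' + 2) = 0 := by
    rw [Matrix.det_fin_two] at hdet
    simp only [Matrix.sub_apply, Matrix.mul_apply, Fin.sum_univ_two] at hdet
    rw [e1, e1'] at hdet
    simp only [← ha, ← hb, ← hc, ← ha', ← hb', ← hc'] at hdet
    linear_combination -hdet + (4 * a' ^ 2 + 4 * b' * c') * r1 - 4 * r1' 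
  rcases mul_eq_zero.1 hs with h | h
  · right
    obtain ⟨hm, hn, hr⟩ := nil_anticomm_eq_zero hns a b c (a + a') (b + b') (c + c') r1
      (by linear_combination r1 + r1' + h) (by linear_combination 2 * r1 + h)
    apply mat2_ext
    · rw [Matrix.neg_apply]; linear_combination hm
    · rw [Matrix.neg_apply]; linear_combination hn
    · rw [Matrix.neg_apply]; linear_combination hr
    · rw [Matrix.neg_apply, e1, e1']; linear_combination -hm
  · left
    obtain ⟨hm, hn, hr⟩ := nil_anticomm_eq_zero hns a b c (a - a') (b - b') (c - c') r1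
      (by linear_combination r1 + r1' - h) (by linear_combination 2 * r1 - h)
    apply mat2_ext
    · exact (sub_eq_zero.1 hm).symm
    · exact (sub_eq_zero.1 hn).symm
    · exact (sub_eq_zero.1 hr).symm
    · rw [e1, e1']; linear_combination hm

end pglinvol
end Cfsg.Agent.Lib.Helper15
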