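import Mathlib
import Cfsg.Agent.Lib.Helper15.PGLInvol
set_option autoImplicit false
namespace Cfsg.Agent.Lib.Helper15

open Matrix
open Cfsg.Agent.Lib.Helper14

section pglsyl
variable {q : ℕ} [Fact q.Prime]

/-- Frobenius on `F[Z]`: `(x + y Z) ^ (q + 1) = x² + y²` -/
theorem add_smul_pow_card_succ (hq : q % 4 = 3) {Z : Matrix (Fin 2) (Fin 2) (ZMod q)} (hZ : IsTD Z)
    (x y : ZMod q) :
    (x • (1 : Matrix (Fin 2) (Fin 2) (ZMod q)) + y • Z) ^ (q + 1) =
      (x ^ 2 + y ^ 2) • (1 : Matrix (Fin 2) (Fin 2) (ZMod q)) := by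
  have hc : Commute (x • (1 : Matrix (Fin 2) (Fin 2) (ZMod q))) (y • Z) :=
    (Commute.one_left _).smul_left x
  have hZq : Z ^ q = -Z := by
    obtain ⟨m, hm⟩ : ∃ m, q = 2 * (2 * m + 1) + 1 := ⟨q / 4, by omega⟩
    have : ∀ n : ℕ, n = 2 * (2 * m + 1) + 1 → Z ^ n = -Z := by
      intro n hn
      rw [hn, pow_succ, pow_mul, pow_two, hZ.sq, Odd.neg_one_pow ⟨m, rfl⟩, Matrix.neg_mul, Matrix.one_mul]
    exact this q hm
  rw [pow_succ, add_pow_char_of_commute q hc, smul_pow, smul_pow, one_pow, ZMod.pow_card, ZMod.pow_card, hZq]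
  have e1 := hZ.e11
  have r1 := hZ.rel
  apply mat2_ext
  · simp only [Matrix.mul_apply, Fin.sum_univ_two, Matrix.add_apply, Matrix.smul_apply, Matrix.neg_apply,
      Matrix.one_apply_eq, Matrix.one_apply_ne, ne_eq, zero_ne_one, one_ne_zero, not_false_eq_true, smul_eq_mul, e1]
    linear_combination (-(y ^ 2)) * r1
  · simp only [Matrix.mul_apply, Fin.sum_univ_two, Matrix.add_apply, Matrix.smul_apply, Matrix.neg_apply,
      Matrix.one_apply_eq, Matrix.one_apply_ne, ne_eq, zero_ne_one, one_ne_zero, not_false_eq_true, smul_eq_mul, e1]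
    ring
  · simp only [Matrix.mul_apply, Fin.sum_univ_two, Matrix.add_apply, Matrix.smul_apply, Matrix.neg_apply,
      Matrix.one_apply_eq, Matrix.one_apply_ne, ne_eq, zero_ne_one, one_ne_zero, not_false_eq_true, smul_eq_mul, e1]
    ring
  · simp only [Matrix.mul_apply, Fin.sum_univ_two, Matrix.add_apply, Matrix.smul_apply, Matrix.neg_apply,
      Matrix.one_apply_eq, Matrix.one_apply_ne, ne_eq, zero_ne_one, one_ne_zero, not_false_eq_true, smul_eq_mul, e1]
    linear_combination (-(y ^ 2)) * r1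

section general
variable {F : Type*} [Field F]

local notation "π" => (QuotientGroup.mk' (Subgroup.center (GL (Fin 2) F)))

theorem mk_eq_one_of_scalar (B : GL (Fin 2) F) (c : F)
    (h : (B : Matrix (Fin 2) (Fin 2) F) = c • (1 : Matrix (Fin 2) (Fin 2) F)) : π B = 1 := by
  rw [QuotientGroup.mk'_apply, QuotientGroup.eq_one_iff, GeneralLinearGroup.center_eq_range_scalar]
  have hc : c ≠ 0 := by
    rintro rfl
    rw [zero_smul] at h
    have h1 : (B : Matrix (Fin 2) (Fin 2) F) * ((B⁻¹ : GL (Fin 2) F) : Matrix (Fin 2) (Fin 2) F) = 1 := by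
      rw [← Units.val_mul, mul_inv_cancel, Units.val_one]
    rw [h, Matrix.zero_mul] at h1
    have := congrFun (congrFun h1 0) 0
    simp at this
  refine ⟨Units.mk0 c hc, ?_⟩
  apply Units.ext
  rw [GeneralLinearGroup.coe_scalar, h, Units.val_mk0, Matrix.scalar_apply, Matrix.smul_one_eq_diagonal]

theorem mk_eq_mk_of_smul (A B : GL (Fin 2) F) (c : F)
    (h : (B : Matrix (Fin 2) (Fin 2) F) = c • (A : Matrix (Fin 2) (Fin 2) F)) : π A = π B := by
  have h1 : π (A⁻¹ * B) = 1 := by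
    apply mk_eq_one_of_scalar _ c
    rw [Units.val_mul, h, Matrix.mul_smul, ← Units.val_mul, inv_mul_cancel, Units.val_one]
  rw [map_mul, map_inv] at h1
  exact (inv_mul_eq_one.1 h1)

theorem exists_smul_of_mk_commute (A Z : GL (Fin 2) F) (h : π A * π Z = π Z * π A) :
    ∃ u : F, u ≠ 0 ∧ (Z : Matrix (Fin 2) (Fin 2) F) * (A : Matrix (Fin 2) (Fin 2) F) =
      u • ((A : Matrix (Fin 2) (Fin 2) F) * (Z : Matrix (Fin 2) (Fin 2) F)) := by
  rw [← map_mul, ← map_mul, QuotientGroup.mk'_apply, QuotientGroup.mk'_apply, QuotientGroup.eq,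
    GeneralLinearGroup.center_eq_range_scalar] at h
  obtain ⟨u, hu⟩ := h
  refine ⟨u, u.ne_zero, ?_⟩
  have h1 : Z * A = (A * Z) * GeneralLinearGroup.scalar (Fin 2) u := by
    rw [hu]; group
  have h2 := congrArg Units.val h1
  rw [Units.val_mul, Units.val_mul, Units.val_mul, GeneralLinearGroup.coe_scalar, Matrix.scalar_apply,
    ← Matrix.smul_one_eq_diagonal, Matrix.mul_smul, Matrix.mul_one] at h2
  exact h2

end general

section zmod

local notation "π" => (QuotientGroup.mk' (Subgroup.center (GL (Fin 2) (ZMod q))))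

/-- the centralizer in `PGL₂(q)` of a non-split involution has exponent dividing `2 (q + 1)` -/
theorem pow_eq_one_of_commute_TD (hq : q % 4 = 3) (Z : GL (Fin 2) (ZMod q))
    (hZ : IsTD (Z : Matrix (Fin 2) (Fin 2) (ZMod q)))
    (g : GL (Fin 2) (ZMod q) ⧸ Subgroup.center (GL (Fin 2) (ZMod q))) (hg : g * π Z = π Z * g) :
    g ^ (2 * (q + 1)) = 1 := by
  have h2 : (2 : ZMod q) ≠ 0 := by
    intro h
    have h' : ((2 : ℕ) : ZMod q) = 0 := by exact_mod_cast h
    rw [ZMod.natCast_eq_zero_iff] at h'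
    have := Nat.le_of_dvd (by norm_num) h'
    have hq2 : 2 ≤ q := (Fact.out : q.Prime).two_le
    interval_cases q <;> omega
  obtain ⟨A, rfl⟩ := QuotientGroup.mk'_surjective _ g
  obtain ⟨u, hu0, hu⟩ := exists_smul_of_mk_commute A Z hg
  set ZM := (Z : Matrix (Fin 2) (Fin 2) (ZMod q)) with hZM
  set AM := (A : Matrix (Fin 2) (Fin 2) (ZMod q)) with hAM
  -- u ^ 2 = 1
  have hAinv : AM * ((A⁻¹ : GL (Fin 2) (ZMod q)) : Matrix (Fin 2) (Fin 2) (ZMod q)) = 1 := by
    rw [hAM, ← Units.val_mul, mul_inv_cancel, Units.val_one]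
  have hu2 : u * u = 1 := by
    have e1 : ZM * (ZM * AM) = (u * u) • (AM * (ZM * ZM)) := by
      rw [hu, Matrix.mul_smul, ← Matrix.mul_assoc, hu, Matrix.smul_mul, smul_smul, Matrix.mul_assoc]
    rw [← Matrix.mul_assoc, hZ.sq, Matrix.neg_mul, Matrix.one_mul, Matrix.mul_neg, Matrix.mul_one, smul_neg,
      neg_inj] at e1
    have e2 : (1 : Matrix (Fin 2) (Fin 2) (ZMod q)) = (u * u) • 1 := by
      rw [← hAinv, ← Matrix.smul_mul, ← e1]
    have := congrFun (congrFun e2 0) 0
    simpa using this.symm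
  have hu' : u = 1 ∨ u = -1 := mul_self_eq_one_iff.1 hu2
  rcases hu' with rfl | rfl
  · rw [one_smul] at hu
    obtain ⟨x, y, hxy⟩ := exists_eq_add_smul_of_commute ZM AM (hZ.not_scalar h2) hu.symm
    have h1 : π (A ^ (q + 1)) = 1 := by
      apply mk_eq_one_of_scalar _ (x ^ 2 + y ^ 2)
      rw [Units.val_pow_eq_pow_val, ← hAM, hxy]
      exact add_smul_pow_card_succ hq hZ x y
    rw [mul_comm 2, pow_mul, ← map_pow, h1, one_pow]
  · rw [neg_smul, one_smul] at hu
    have h1 : π (A ^ 2) = 1 := by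
      apply mk_eq_one_of_scalar _ (-AM.det)
      rw [Units.val_pow_eq_pow_val, pow_two]
      exact sq_of_anticomm h2 hZ AM hu
    rw [pow_mul, ← map_pow, h1, one_pow]

end zmod

section general2
variable {F : Type*} [Field F]

local notation "π" => (QuotientGroup.mk' (Subgroup.center (GL (Fin 2) F)))

theorem mk_ne_one_of_not_scalar (B : GL (Fin 2) F) (h : ¬ IsScalar2 (B : Matrix (Fin 2) (Fin 2) F)) :
    π B ≠ 1 := by
  intro h1
  rw [QuotientGroup.mk'_apply, QuotientGroup.eq_one_iff, GeneralLinearGroup.center_eq_range_scalar] at h1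
  obtain ⟨u, hu⟩ := h1
  apply h
  rw [← hu, GeneralLinearGroup.coe_scalar, Matrix.scalar_apply]
  refine ⟨?_, ?_, ?_⟩ <;> simp

/-- two non-split involutions of `PGL₂(F)` have a common commuting involution -/
theorem exists_common_commuting (h2 : (2 : F) ≠ 0) (hns : ¬ IsSquare (-1 : F)) (Z Z' : GL (Fin 2) F)
    (hZ : IsTD (Z : Matrix (Fin 2) (Fin 2) F)) (hZ' : IsTD (Z' : Matrix (Fin 2) (Fin 2) F)) :
    ∃ j : GL (Fin 2) F ⧸ Subgroup.center (GL (Fin 2) F), j ≠ 1 ∧ j * π Z = π Z * j ∧ j * π Z' = π Z' * j := by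
  by_cases hdet : ((Z : Matrix (Fin 2) (Fin 2) F) * (Z' : Matrix (Fin 2) (Fin 2) F) -
      (Z' : Matrix (Fin 2) (Fin 2) F) * (Z : Matrix (Fin 2) (Fin 2) F)).det = 0
  · have hZZ' : π Z = π Z' := by
      rcases eq_or_neg_of_det_comm hns hZ hZ' hdet with h | h
      · rw [Units.ext h]
      · apply mk_eq_mk_of_smul Z Z' (-1)
        rw [h, neg_smul, one_smul]
    refine ⟨π Z, mk_ne_one_of_not_scalar Z (hZ.not_scalar h2), rfl, ?_⟩
    rw [hZZ']
  · set J : GL (Fin 2) F := GeneralLinearGroup.mkOfDetNeZero _ hdet with hJ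
    have hJv : (J : Matrix (Fin 2) (Fin 2) F) = (Z : Matrix (Fin 2) (Fin 2) F) * (Z' : Matrix (Fin 2) (Fin 2) F) -
      (Z' : Matrix (Fin 2) (Fin 2) F) * (Z : Matrix (Fin 2) (Fin 2) F) := rfl
    refine ⟨π J, ?_, ?_, ?_⟩
    · apply mk_ne_one_of_not_scalar
      intro hsc
      obtain ⟨μ, hμ⟩ := (isScalar2_iff _).1 hsc
      have h1 := comm_anticomm_left (Z' := (Z' : Matrix (Fin 2) (Fin 2) F)) hZ
      rw [← hJv, hμ, Matrix.mul_smul, Matrix.smul_mul, Matrix.mul_one, Matrix.one_mul] at h1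
      have h3 : (2 * μ) • (Z : Matrix (Fin 2) (Fin 2) F) = 0 := by
        rw [mul_smul, two_smul]
        nth_rewrite 1 [h1]
        rw [neg_add_cancel]
      rcases smul_eq_zero.1 h3 with h | h
      · rcases mul_eq_zero.1 h with h | h
        · exact h2 h
        · rw [h, zero_smul] at hμ
          apply hdet
          rw [← hJv, hμ, Matrix.det_zero]
      · have := hZ.2
        rw [h, Matrix.det_zero] at this
        exact zero_ne_one this
    · rw [← map_mul, ← map_mul]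
      symm
      apply mk_eq_mk_of_smul _ _ (-1)
      rw [Units.val_mul, Units.val_mul, hJv, neg_smul, one_smul, comm_anticomm_left hZ, neg_neg]
    · rw [← map_mul, ← map_mul]
      symm
      apply mk_eq_mk_of_smul _ _ (-1)
      rw [Units.val_mul, Units.val_mul, hJv, neg_smul, one_smul, comm_anticomm_right hZ', neg_neg]

end general2

end pglsyl
end Cfsg.Agent.Lib.Helper15
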