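import Mathlib
import Cfsg.Agent.Lib.Helper15.Dk10
import Cfsg.Agent.Lib.Helper15.PSL2Orders2
import Cfsg.Agent.Lib.Helper15.PGLSyl2

/-!
# Dickson project, part 11: element orders in `PSL₂(K)`, `PGL₂(K)`, commutators in the Borel subgroup
-/

set_option autoImplicit false

open scoped Pointwise

namespace Cfsg.Agent.Lib.Helper15.Dk

open Matrix
open Cfsg.Agent.Lib.Helper14
open Cfsg.Agent.Lib.Helper15

section finite
variable {K : Type*} [Field K] [Fintype K]

theorem orderOf_PSL2_le (x : ProjectiveSpecialLinearGroup (Fin 2) K) :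
    orderOf x ≤ Fintype.card K + 1 := by
  obtain ⟨p, hp⟩ := CharP.exists K
  have hpr : Fact p.Prime := ⟨CharP.char_is_prime K p⟩
  obtain ⟨g, rfl⟩ := toPSL2_surjective x
  have hk : 1 < Fintype.card K := Fintype.one_lt_card
  have hd0 : 0 < Nat.gcd 2 (Fintype.card K - 1) := Nat.gcd_pos_of_pos_left _ (by norm_num)
  have hd1 : Nat.gcd 2 (Fintype.card K - 1) ∣ Fintype.card K - 1 := Nat.gcd_dvd_right _ _
  rcases orderOf_mk_dvd p g with h | h | h
  · have h1 := Nat.le_of_dvd hpr.out.pos h
    obtain ⟨n, -, hn⟩ := FiniteField.card K p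
    have : p ≤ Fintype.card K := by
      rw [hn]
      calc p = p ^ 1 := (pow_one p).symm
        _ ≤ p ^ (n : ℕ) := Nat.pow_le_pow_right hpr.out.pos n.pos
    exact le_trans h1 (by omega)
  · have hpos : 0 < (Fintype.card K - 1) / Nat.gcd 2 (Fintype.card K - 1) :=
      Nat.div_pos (Nat.le_of_dvd (by omega) hd1) hd0
    have h1 := Nat.le_of_dvd hpos h
    have h2 := Nat.div_le_self (Fintype.card K - 1) (Nat.gcd 2 (Fintype.card K - 1))
    exact le_trans h1 (by omega)
  · by_cases hz : (Fintype.card K + 1) / Nat.gcd 2 (Fintype.card K - 1) = 0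
    · rw [Nat.div_eq_zero_iff] at hz
      have : Nat.gcd 2 (Fintype.card K - 1) ≤ 2 := Nat.le_of_dvd (by norm_num) (Nat.gcd_dvd_left _ _)
      omega
    · have h1 := Nat.le_of_dvd (Nat.pos_of_ne_zero hz) h
      have h2 := Nat.div_le_self (Fintype.card K + 1) (Nat.gcd 2 (Fintype.card K - 1))
      exact le_trans h1 h2

theorem card_center_GL2 : Nat.card (Subgroup.center (GL (Fin 2) K)) = Fintype.card K - 1 := by
  classical
  rw [GeneralLinearGroup.center_eq_range_scalar]
  rw [← Nat.card_congr (MonoidHom.ofInjective (Cfsg.Agent.S0265.scalar_injective (F := K) 2 (by norm_num))).toEquiv,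
    Nat.card_eq_fintype_card, Fintype.card_units]

theorem orderOf_PGL2_le (x : ProjGenLinGroup (Fin 2) K) : orderOf x ≤ Fintype.card K + 1 := by
  classical
  induction x using ProjGenLinGroup.induction_on with | mk g =>
  have hk : 1 < Fintype.card K := Fintype.one_lt_card
  by_cases hg : IsScalar2 (g : Matrix (Fin 2) (Fin 2) K)
  · have : ProjGenLinGroup.mk g = 1 := by
      apply mk_eq_one_of_scalar g ((g : Matrix (Fin 2) (Fin 2) K) 0 0)
      apply mat2_ext
      · simp
      · simp [hg.1]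
      · simp [hg.2.1]
      · simp [hg.2.2]
    rw [this, orderOf_one]
    omega
  · set C := Subgroup.centralizer ({g} : Set (GL (Fin 2) K)) with hC
    have hcardC : Nat.card C ≤ Fintype.card K ^ 2 - 1 := by
      rw [hC, card_centralizer_nonscalar g hg]
      let ι : {p : K × K // (p.1 • (1 : Matrix (Fin 2) (Fin 2) K) +
          p.2 • (g : Matrix (Fin 2) (Fin 2) K)).det ≠ 0} → {p : K × K // p ≠ (0, 0)} :=
        fun p => ⟨p.1, by
          intro h
          apply p.2
          rw [h]
          simp⟩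
      have hι : Function.Injective ι := by
        intro p p' h
        apply Subtype.ext
        have h' : (ι p).1 = (ι p').1 := congrArg Subtype.val h
        exact h'
      have h1 := Nat.card_le_card_of_injective ι hι
      have h2 : Nat.card {p : K × K // p ≠ (0, 0)} = Fintype.card K ^ 2 - 1 := by
        rw [Nat.card_eq_fintype_card, Fintype.card_subtype_compl, Fintype.card_prod,
          Fintype.card_subtype_eq, pow_two]
      rw [h2] at h1
      exact h1
    have hZC : Subgroup.center (GL (Fin 2) K) ≤ C := Subgroup.center_le_centralizer _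
    let φ : ↥C →* ProjGenLinGroup (Fin 2) K := ProjGenLinGroup.mk.comp C.subtype
    have hk' : φ.ker = (Subgroup.center (GL (Fin 2) K)).subgroupOf C := by
      rw [← MonoidHom.comap_ker, ProjGenLinGroup.ker_mk]
      rfl
    have h1 := Subgroup.index_mul_card φ.ker
    rw [Subgroup.index_ker, hk', Nat.card_congr (Subgroup.subgroupOfEquivOfLe hZC).toEquiv,
      card_center_GL2] at h1
    have hmem : ProjGenLinGroup.mk g ∈ φ.range :=
      ⟨⟨g, Subgroup.mem_centralizer_iff.2 (fun h hh => by rw [Set.mem_singleton_iff] at hh; rw [hh])⟩, rfl⟩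
    have hord : orderOf (ProjGenLinGroup.mk g) ∣ Nat.card φ.range := by
      have := Subgroup.orderOf_dvd_natCard φ.range hmem
      exact this
    have hrpos : 0 < Nat.card φ.range := Nat.card_pos
    have h2 := Nat.le_of_dvd hrpos hord
    have hsq := sq_sub_one_eq (Fintype.card K) hk.le
    have h3 : Nat.card φ.range * (Fintype.card K - 1) ≤ (Fintype.card K + 1) * (Fintype.card K - 1) := by
      rw [h1]
      calc Nat.card C ≤ Fintype.card K ^ 2 - 1 := hcardC
        _ = (Fintype.card K + 1) * (Fintype.card K - 1) := by rw [hsq, mul_comm]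
    have h4 : Nat.card φ.range ≤ Fintype.card K + 1 := Nat.le_of_mul_le_mul_right h3 (by omega)
    exact le_trans h2 h4

end finite

section borel
variable {F : Type*} [Field F]

theorem isUT_commutator {m m' : SpecialLinearGroup (Fin 2) F} (h : IsB m) (h' : IsB m') :
    IsUT (m * m' * m⁻¹ * m'⁻¹) := by
  have hB : IsB (m * m' * m⁻¹ * m'⁻¹) := ((h.mul h').mul h.inv).mul h'.inv
  have h00 : ((m * m' * m⁻¹ * m'⁻¹ : SpecialLinearGroup (Fin 2) F) : Matrix (Fin 2) (Fin 2) F) 0 0 = 1 := by
    rw [IsB.mul_00 h'.inv, IsB.mul_00 h.inv, IsB.mul_00 h', inv_apply_00, inv_apply_00]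
    have e1 := h.det
    have e2 := h'.det
    linear_combination (m' : Matrix (Fin 2) (Fin 2) F) 0 0 * (m' : Matrix (Fin 2) (Fin 2) F) 1 1 * e1 + e2
  refine ⟨hB, ?_⟩
  have hd := hB.det
  rw [h00, one_mul] at hd
  rw [h00, hd]

/-- commutators in the image of the Borel subgroup lie in `Ū` -/
theorem commutator_mem_Ubar (y y' : ProjectiveSpecialLinearGroup (Fin 2) F) (hy : y ∈ Bbar F)
    (hy' : y' ∈ Bbar F) : y * y' * y⁻¹ * y'⁻¹ ∈ Ubar F := by
  obtain ⟨m, rfl⟩ := toPSL2_surjective y
  obtain ⟨m', rfl⟩ := toPSL2_surjective y'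
  rw [mem_Bbar_iff] at hy hy'
  rw [← map_inv, ← map_inv, ← map_mul, ← map_mul, ← map_mul, mem_Ubar_iff]
  exact isUT_commutator hy hy'

end borel

section sylow
variable {F : Type*} [Field F] [Fintype F]

/-- commutators in the normalizer of a Sylow `p`-subgroup lie in the Sylow subgroup -/
theorem commutator_mem_sylow (p : ℕ) [Fact p.Prime] [CharP F p]
    (P : Sylow p (ProjectiveSpecialLinearGroup (Fin 2) F))
    (y y' : ProjectiveSpecialLinearGroup (Fin 2) F)
    (hy : y ∈ Subgroup.normalizer ((P : Subgroup (ProjectiveSpecialLinearGroup (Fin 2) F)) :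
      Set (ProjectiveSpecialLinearGroup (Fin 2) F)))
    (hy' : y' ∈ Subgroup.normalizer ((P : Subgroup (ProjectiveSpecialLinearGroup (Fin 2) F)) :
      Set (ProjectiveSpecialLinearGroup (Fin 2) F))) :
    y * y' * y⁻¹ * y'⁻¹ ∈ (P : Subgroup (ProjectiveSpecialLinearGroup (Fin 2) F)) := by
  obtain ⟨c, hc⟩ := MulAction.exists_smul_eq (ProjectiveSpecialLinearGroup (Fin 2) F) (UbarSylow p) P
  rw [← hc, Sylow.coe_subgroup_smul, coe_UbarSylow] at hy hy' ⊢
  rw [normalizer_conj_smul, normalizer_Ubar, mem_conj_smul] at hy hy'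
  rw [mem_conj_smul]
  have := commutator_mem_Ubar _ _ hy hy'
  have e : c⁻¹ * (y * y' * y⁻¹ * y'⁻¹) * c =
      c⁻¹ * y * c * (c⁻¹ * y' * c) * (c⁻¹ * y * c)⁻¹ * (c⁻¹ * y' * c)⁻¹ := by group
  rw [e]
  exact this

end sylow

end Cfsg.Agent.Lib.Helper15.Dk
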