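import Mathlib
import Cfsg.Agent.Lib.Helper15.Dk11

/-!
# Dickson project, part 12: normalizers of tori are maximal subgroups of `PSL₂(F)`
-/

set_option autoImplicit false

open scoped Pointwise

namespace Cfsg.Agent.Lib.Helper15.Dk

open Matrix
open Cfsg.Agent.Lib.Helper14
open Cfsg.Agent.Lib.Helper15

set_option maxRecDepth 100000 in
theorem perm4_pow : ∀ x : Equiv.Perm (Fin 4), x ^ 2 = 1 ∨ x ^ 3 = 1 ∨ x ^ 4 = 1 := by
  decide

theorem a4_pow (x : alternatingGroup (Fin 4)) : x ^ 2 = 1 ∨ x ^ 3 = 1 ∨ x ^ 4 = 1 := by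
  rcases perm4_pow x.1 with h | h | h
  · left; exact Subtype.ext h
  · right; left; exact Subtype.ext h
  · right; right; exact Subtype.ext h

theorem mul_comm_of_isCyclic {G : Type*} [Group G] [IsCyclic G] (a b : G) : a * b = b * a := by
  obtain ⟨γ, hγ⟩ := IsCyclic.exists_generator (α := G)
  obtain ⟨i, rfl⟩ := Subgroup.mem_zpowers_iff.1 (hγ a)
  obtain ⟨j, rfl⟩ := Subgroup.mem_zpowers_iff.1 (hγ b)
  exact zpow_mul_comm γ i j

section finite
variable {F : Type*} [Field F] [Fintype F]

/-- a subgroup isomorphic to `PSL₂(K)` or `PGL₂(K)` with `|K| = |F|` is everything -/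
theorem eq_top_of_equiv_subfield (H : Subgroup (ProjectiveSpecialLinearGroup (Fin 2) F))
    (K : Type) [Field K] [Fintype K] (hK : Fintype.card K = Fintype.card F)
    (h : Nonempty (↥H ≃* ProjectiveSpecialLinearGroup (Fin 2) K) ∨
      Nonempty (↥H ≃* ProjGenLinGroup (Fin 2) K)) : H = ⊤ := by
  have hG := card_PSL2_mul (F := F)
  have hd := card_center_eq_gcd (F := F)
  have hGK := card_PSL2_mul (F := K)
  have hdK := card_center_eq_gcd (F := K)
  have hPGL := card_PGL2 (F := K)
  have hd0 : 0 < Nat.card (Subgroup.center (SpecialLinearGroup (Fin 2) F)) := Nat.card_pos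
  rw [hK] at hGK hdK hPGL
  apply Subgroup.eq_top_of_card_eq
  rcases h with ⟨⟨e⟩⟩ | ⟨⟨e⟩⟩
  · rw [Nat.card_congr e.toEquiv]
    rw [← hd] at hdK
    rw [hdK, ← hG] at hGK
    exact Nat.eq_of_mul_eq_mul_right hd0 hGK
  · have hlag : Nat.card H ∣ Nat.card (ProjectiveSpecialLinearGroup (Fin 2) F) := Subgroup.card_subgroup_dvd_card H
    rw [Nat.card_congr e.toEquiv] at hlag ⊢
    rw [hPGL, ← hG] at hlag ⊢
    have hGpos : 0 < Nat.card (ProjectiveSpecialLinearGroup (Fin 2) F) := Nat.card_pos
    have h1 := Nat.le_of_dvd hGpos hlag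
    have h2 : Nat.card (ProjectiveSpecialLinearGroup (Fin 2) F) * 1 ≤
        Nat.card (ProjectiveSpecialLinearGroup (Fin 2) F) *
          Nat.card (Subgroup.center (SpecialLinearGroup (Fin 2) F)) := Nat.mul_le_mul_left _ hd0
    omega

/-- the normalizer of a torus is a maximal subgroup, under numerical hypotheses -/
theorem torus_normalizer_isCoatom (p : ℕ) [Fact p.Prime] [CharP F p]
    (g : SpecialLinearGroup (Fin 2) F) (hg : ¬ IsScalar2 (g : Matrix (Fin 2) (Fin 2) F))
    (ht : (g : Matrix (Fin 2) (Fin 2) F).trace ^ 2 ≠ 4) (hq : 4 ≤ Fintype.card F)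
    (hn3 : 3 ≤ Nat.card (Tor g))
    (hc : 6 ≤ Nat.card (Tor g) ∨ Nat.card (ProjectiveSpecialLinearGroup (Fin 2) F) = 60)
    (hdK : ∀ k m : ℕ, 2 ≤ k → 2 ≤ m → k ^ m = Fintype.card F → Nat.card (Tor g) ≤ k + 1 →
      4 * Nat.card (Tor g) ≤ k * (k ^ 2 - 1) → False) :
    IsCoatom (Subgroup.normalizer ((Tor g : Subgroup (ProjectiveSpecialLinearGroup (Fin 2) F)) :
      Set (ProjectiveSpecialLinearGroup (Fin 2) F))) := by
  obtain ⟨hcyc, hcardN, -, hprop⟩ := torus_normalizer g hg ht
  set T := Tor g with hT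
  set N := Subgroup.normalizer ((T : Subgroup (ProjectiveSpecialLinearGroup (Fin 2) F)) :
      Set (ProjectiveSpecialLinearGroup (Fin 2) F)) with hN
  set n := Nat.card T with hn
  have hG := card_PSL2_mul (F := F)
  have hd := card_center_eq_gcd (F := F)
  set q := Fintype.card F with hqdef
  set d := Nat.card (Subgroup.center (SpecialLinearGroup (Fin 2) F)) with hddef
  have hd0 : 0 < d := Nat.card_pos
  have hd2 : d ≤ 2 := by
    rw [hd]; exact Nat.le_of_dvd (by norm_num) (Nat.gcd_dvd_left _ _)
  have hnd : n * d = q - 1 ∨ n * d = q + 1 := by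
    rw [hn, hT, card_Tor_mul]
    exact card_torus g hg ht
  have hsq := sq_sub_one_eq q (by omega)
  have hTN : T ≤ N := Subgroup.le_normalizer
  -- `p` does not divide `n`
  have hpq : p ∣ q := by
    obtain ⟨r, -, hr⟩ := FiniteField.card F p
    rw [hqdef, hr]
    exact dvd_pow_self p r.pos.ne'
  have hpn : ¬ p ∣ n := by
    intro h
    have h1 : p ∣ n * d := Dvd.dvd.mul_right h d
    have hp1 : 1 < p := (Fact.out : p.Prime).one_lt
    rcases hnd with h2 | h2
    · rw [h2] at h1
      have : p ∣ 1 := by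
        have h3 : p ∣ q - (q - 1) := Nat.dvd_sub hpq h1
        have : q - (q - 1) = 1 := by omega
        rwa [this] at h3
      exact absurd (Nat.le_of_dvd one_pos this) (by omega)
    · rw [h2] at h1
      have : p ∣ 1 := by
        have h3 : p ∣ q + 1 - q := Nat.dvd_sub h1 hpq
        have : q + 1 - q = 1 := by omega
        rwa [this] at h3
      exact absurd (Nat.le_of_dvd one_pos this) (by omega)
  -- a generator of `T` and an inverting involution
  obtain ⟨x, hx⟩ := hcyc.exists_generator
  have hxord : orderOf (x : ProjectiveSpecialLinearGroup (Fin 2) F) = n := by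
    rw [Subgroup.orderOf_coe]
    exact orderOf_eq_card_of_forall_mem_zpowers hx
  have hxpow : ∀ j : ℕ, (x : ProjectiveSpecialLinearGroup (Fin 2) F) ^ j = 1 → n ∣ j := by
    intro j hj
    rw [← hxord]
    exact orderOf_dvd_of_pow_eq_one hj
  have hxsq : (x : ProjectiveSpecialLinearGroup (Fin 2) F) * x ≠ 1 := by
    intro h
    have := hxpow 2 (by rw [pow_two]; exact h)
    have := Nat.le_of_dvd (by norm_num) this
    omega
  obtain ⟨a, haN, haT⟩ : ∃ a, a ∈ N ∧ a ∉ T := by
    by_contra hcon
    push Not at hcon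
    have hNT : N ≤ T := fun y hy => hcon y hy
    have := le_antisymm hNT hTN
    have hc1 : Nat.card N = Nat.card T := by rw [this]
    omega
  obtain ⟨ha2, hainv⟩ := hprop a haN haT
  have hax : a * (x : ProjectiveSpecialLinearGroup (Fin 2) F) * a⁻¹ = (x : ProjectiveSpecialLinearGroup (Fin 2) F)⁻¹ :=
    hainv _ x.2
  constructor
  · -- `N ≠ ⊤`
    intro htop
    have h1 : Nat.card N = Nat.card (ProjectiveSpecialLinearGroup (Fin 2) F) := by
      rw [htop, Subgroup.card_top]
    rw [hcardN] at h1
    have h2 : 2 * n * d = q * (q ^ 2 - 1) := by rw [h1, hG]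
    rw [hsq] at h2
    have h3 : 2 * n * d ≤ 2 * (q + 1) := by
      have : n * d ≤ q + 1 := by rcases hnd with h | h <;> omega
      calc 2 * n * d = 2 * (n * d) := by ring
        _ ≤ 2 * (q + 1) := by omega
    have h4 : 3 * (q + 1) ≤ q * ((q - 1) * (q + 1)) := by
      have : 3 ≤ q * (q - 1) := by
        have : 4 * 3 ≤ q * (q - 1) := Nat.mul_le_mul hq (by omega)
        omega
      calc 3 * (q + 1) ≤ q * (q - 1) * (q + 1) := Nat.mul_le_mul_right _ this
        _ = q * ((q - 1) * (q + 1)) := by ring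
    omega
  · intro M hNM
    have hle : N ≤ M := hNM.le
    have hne : N ≠ M := hNM.ne
    by_contra hMtop
    have hxM : (x : ProjectiveSpecialLinearGroup (Fin 2) F) ∈ M := hle (hTN x.2)
    have haM : a ∈ M := hle haN
    have hdvd : 2 * n ∣ Nat.card M := by
      rw [← hcardN]; exact Subgroup.card_dvd_of_le hle
    have hMpos : 0 < Nat.card M := Nat.card_pos
    have h4n : 4 * n ≤ Nat.card M := by
      obtain ⟨c, hc'⟩ := hdvd
      rcases Nat.lt_or_ge c 2 with hc2 | hc2
      · exfalso
        have hc1 : c = 1 := by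
          rcases Nat.eq_zero_or_pos c with rfl | h
          · rw [mul_zero] at hc'; omega
          · omega
        rw [hc1, mul_one, ← hcardN] at hc'
        exact hne (Subgroup.eq_of_le_of_card_ge hle (le_of_eq hc'))
      · rw [hc']
        calc 4 * n = 2 * n * 2 := by ring
          _ ≤ 2 * n * c := Nat.mul_le_mul_left _ hc2
    -- orders of the image of `x` under an isomorphism
    have hord : ∀ {G' : Type} [Group G'] (e : ↥M ≃* G'),
        orderOf (e ⟨(x : ProjectiveSpecialLinearGroup (Fin 2) F), hxM⟩) = n := by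
      intro G' _ e
      rw [MulEquiv.orderOf_eq, ← hxord]
      exact (Subgroup.orderOf_mk _ hxM)
    rcases dickson p M with ⟨k, hk, h⟩ | ⟨P, K, hK, ⟨e⟩⟩ | ⟨⟨e⟩⟩ | ⟨⟨e⟩⟩ | ⟨⟨e⟩⟩ | ⟨K, i1, i2, m, hm, h⟩
    · -- cyclic or dihedral
      rcases h with ⟨hcycM, -⟩ | ⟨⟨e⟩⟩
      · have h1 := mul_comm_of_isCyclic (⟨a, haM⟩ : ↥M) ⟨(x : ProjectiveSpecialLinearGroup (Fin 2) F), hxM⟩
        have h2 : a * (x : ProjectiveSpecialLinearGroup (Fin 2) F) = x * a := congrArg Subtype.val h1
        apply hxsq
        have h3 : (x : ProjectiveSpecialLinearGroup (Fin 2) F) = (x : ProjectiveSpecialLinearGroup (Fin 2) F)⁻¹ := by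
          rw [← hax, h2, mul_assoc, mul_inv_cancel, mul_one]
        nth_rewrite 2 [h3]
        exact mul_inv_cancel _
      · have hkd : k * d ≤ q + 1 := by
          rw [← hd] at hk
          rcases hk with hk | hk
          · have hpos : 0 < (q + 1) / d := Nat.div_pos (by omega) hd0
            have := Nat.le_of_dvd hpos hk
            calc k * d ≤ (q + 1) / d * d := Nat.mul_le_mul_right _ this
              _ ≤ q + 1 := Nat.div_mul_le_self _ _
          · have hpos : 0 < (q - 1) / d := Nat.div_pos (by omega) hd0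
            have := Nat.le_of_dvd hpos hk
            calc k * d ≤ (q - 1) / d * d := Nat.mul_le_mul_right _ this
              _ ≤ q - 1 := Nat.div_mul_le_self _ _
              _ ≤ q + 1 := by omega
        rw [Nat.card_congr e.toEquiv, DihedralGroup.nat_card] at h4n
        have h5 : 2 * n * d ≤ k * d := Nat.mul_le_mul_right d (by omega)
        have h6 : q - 1 ≤ n * d := by rcases hnd with h | h <;> omega
        have : 2 * n * d = 2 * (n * d) := by ring
        omega
    · -- inside a Sylow normalizer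
      set y₁ : ↥K := e ⟨a, haM⟩ with hy₁
      set y₂ : ↥K := e ⟨(x : ProjectiveSpecialLinearGroup (Fin 2) F), hxM⟩ with hy₂
      have h1 := commutator_mem_sylow p P y₁ y₂ (hK y₁.2) (hK y₂.2)
      have h2 : (⟨a, haM⟩ : ↥M) * ⟨(x : ProjectiveSpecialLinearGroup (Fin 2) F), hxM⟩ * (⟨a, haM⟩ : ↥M)⁻¹ *
          (⟨(x : ProjectiveSpecialLinearGroup (Fin 2) F), hxM⟩ : ↥M)⁻¹ =
          ((⟨(x : ProjectiveSpecialLinearGroup (Fin 2) F), hxM⟩ : ↥M)⁻¹) ^ 2 := by
        apply Subtype.ext
        show a * (x : ProjectiveSpecialLinearGroup (Fin 2) F) * a⁻¹ * (x : ProjectiveSpecialLinearGroup (Fin 2) F)⁻¹ =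
          ((x : ProjectiveSpecialLinearGroup (Fin 2) F)⁻¹) ^ 2
        rw [hax, pow_two]
      have h3 : ((y₁ * y₂ * y₁⁻¹ * y₂⁻¹ : ↥K) : ProjectiveSpecialLinearGroup (Fin 2) F) ∈
          (P : Subgroup (ProjectiveSpecialLinearGroup (Fin 2) F)) := h1
      have h4 : y₁ * y₂ * y₁⁻¹ * y₂⁻¹ = e (((⟨(x : ProjectiveSpecialLinearGroup (Fin 2) F), hxM⟩ : ↥M)⁻¹) ^ 2) := by
        rw [← h2, map_mul, map_mul, map_mul, map_inv, map_inv]
      obtain ⟨j, hj⟩ := P.2 ⟨_, h3⟩
      have hj' : ((y₁ * y₂ * y₁⁻¹ * y₂⁻¹ : ↥K)) ^ p ^ j = 1 := by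
        apply Subtype.ext
        have := congrArg Subtype.val hj
        simpa using this
      rw [h4, ← map_pow] at hj'
      have hj2 : (((⟨(x : ProjectiveSpecialLinearGroup (Fin 2) F), hxM⟩ : ↥M)⁻¹) ^ 2) ^ p ^ j = 1 :=
        e.injective (by rw [hj', map_one])
      have hj3 : (x : ProjectiveSpecialLinearGroup (Fin 2) F) ^ (2 * p ^ j) = 1 := by
        have := congrArg Subtype.val hj2
        simp only [Subgroup.coe_pow, Subgroup.coe_inv, Subgroup.coe_one] at this
        rw [← pow_mul, inv_pow, inv_eq_one] at this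
        exact this
      have h5 := hxpow _ hj3
      have hcop : Nat.Coprime n (p ^ j) :=
        Nat.Coprime.pow_right j ((Nat.Coprime.symm ((Nat.Prime.coprime_iff_not_dvd (Fact.out : p.Prime)).2 hpn)))
      have h6 : n ∣ 2 := hcop.dvd_of_dvd_mul_right h5
      have := Nat.le_of_dvd (by norm_num) h6
      omega
    · -- `A₄`
      have hz := hord e
      have hn5 : n ≤ 5 := by
        rcases a4_pow (e ⟨(x : ProjectiveSpecialLinearGroup (Fin 2) F), hxM⟩) with h | h | h
        · have := Nat.le_of_dvd (by norm_num) (hz ▸ orderOf_dvd_of_pow_eq_one h); omega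
        · have := Nat.le_of_dvd (by norm_num) (hz ▸ orderOf_dvd_of_pow_eq_one h); omega
        · have := Nat.le_of_dvd (by norm_num) (hz ▸ orderOf_dvd_of_pow_eq_one h); omega
      rcases hc with hc | hc
      · omega
      · have hM12 : Nat.card M = 12 := by rw [Nat.card_congr e.toEquiv, card_A4]
        have hn3' : n = 3 := by omega
        -- `N` has index two in `M`, hence is normal
        have hidx : (N.subgroupOf M).index = 2 := by
          have h1 := Subgroup.card_mul_index (N.subgroupOf M)
          rw [Nat.card_congr (Subgroup.subgroupOfEquivOfLe hle).toEquiv, hcardN, hM12, hn3'] at h1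
          omega
        have hnormal : (N.subgroupOf M).Normal := Subgroup.normal_of_index_eq_two hidx
        apply hne
        apply le_antisymm hle
        intro y hy
        have h1 : (⟨y, hy⟩ : ↥M) * ⟨(x : ProjectiveSpecialLinearGroup (Fin 2) F), hxM⟩ * (⟨y, hy⟩ : ↥M)⁻¹ ∈ N.subgroupOf M :=
          hnormal.conj_mem _ (by rw [Subgroup.mem_subgroupOf]; exact hTN x.2) _
        rw [Subgroup.mem_subgroupOf] at h1
        have h1' : y * (x : ProjectiveSpecialLinearGroup (Fin 2) F) * y⁻¹ ∈ N := h1
        have h2 : y * (x : ProjectiveSpecialLinearGroup (Fin 2) F) * y⁻¹ ∈ T := by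
          by_contra hnot
          obtain ⟨h3, -⟩ := hprop _ h1' hnot
          apply hxsq
          have : y * (x : ProjectiveSpecialLinearGroup (Fin 2) F) * y⁻¹ * (y * x * y⁻¹) = y * (x * x) * y⁻¹ := by group
          rw [this] at h3
          have : (x : ProjectiveSpecialLinearGroup (Fin 2) F) * x = y⁻¹ * (y * (x * x) * y⁻¹) * y := by group
          rw [this, h3]
          group
        -- hence `y` normalizes `T`
        rw [hN, ← conj_smul_eq_self_iff]
        apply Subgroup.eq_of_le_of_card_ge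
        · intro z hz'
          rw [mem_conj_smul] at hz'
          obtain ⟨i, hi⟩ := Subgroup.mem_zpowers_iff.1 (hx ⟨_, hz'⟩)
          have hi' : (x : ProjectiveSpecialLinearGroup (Fin 2) F) ^ i = y⁻¹ * z * y := by
            have := congrArg Subtype.val hi
            simpa using this
          have : z = (y * (x : ProjectiveSpecialLinearGroup (Fin 2) F) * y⁻¹) ^ i := by
            rw [conj_zpow, hi']
            group
          rw [this]
          exact T.zpow_mem h2 i
        · rw [card_conj_smul]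
    · -- `S₄`
      have hz := hord e
      have hn5 : n ≤ 5 := by
        rcases perm4_pow (e ⟨(x : ProjectiveSpecialLinearGroup (Fin 2) F), hxM⟩) with h | h | h
        · have := Nat.le_of_dvd (by norm_num) (hz ▸ orderOf_dvd_of_pow_eq_one h); omega
        · have := Nat.le_of_dvd (by norm_num) (hz ▸ orderOf_dvd_of_pow_eq_one h); omega
        · have := Nat.le_of_dvd (by norm_num) (hz ▸ orderOf_dvd_of_pow_eq_one h); omega
      rcases hc with hc | hc
      · omega
      · have hM24 : Nat.card M = 24 := by rw [Nat.card_congr e.toEquiv, card_S4]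
        have hlag : Nat.card M ∣ Nat.card (ProjectiveSpecialLinearGroup (Fin 2) F) := Subgroup.card_subgroup_dvd_card M
        rw [hM24, hc] at hlag
        revert hlag; decide
    · -- `A₅`
      have hz := hord e
      have hn5 : n ≤ 5 := by
        rcases a5_pow (e ⟨(x : ProjectiveSpecialLinearGroup (Fin 2) F), hxM⟩) with h | h | h
        · have := Nat.le_of_dvd (by norm_num) (hz ▸ orderOf_dvd_of_pow_eq_one h); omega
        · have := Nat.le_of_dvd (by norm_num) (hz ▸ orderOf_dvd_of_pow_eq_one h); omega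
        · have := Nat.le_of_dvd (by norm_num) (hz ▸ orderOf_dvd_of_pow_eq_one h); omega
      rcases hc with hc | hc
      · omega
      · apply hMtop
        apply Subgroup.eq_top_of_card_eq
        rw [Nat.card_congr e.toEquiv, card_A5, hc]
    · -- subfield subgroups
      have hk1 : 1 < Fintype.card K := Fintype.one_lt_card
      rcases Nat.lt_or_ge m 2 with hm2 | hm2
      · have hm01 : m = 0 ∨ m = 1 := by omega
        rcases hm01 with rfl | rfl
        · rw [pow_zero] at hm
          have : q = 1 := hm.symm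
          omega
        · rw [pow_one] at hm
          exact hMtop (eq_top_of_equiv_subfield M K hm h)
      · have hPGL := card_PGL2 (F := K)
        have hGK := card_PSL2_mul (F := K)
        have hnk : n ≤ Fintype.card K + 1 := by
          rcases h with ⟨⟨e⟩⟩ | ⟨⟨e⟩⟩
          · rw [← hord e]; exact orderOf_PSL2_le _
          · rw [← hord e]; exact orderOf_PGL2_le _
        have hcard : Nat.card M ≤ Fintype.card K * (Fintype.card K ^ 2 - 1) := by
          rcases h with ⟨⟨e⟩⟩ | ⟨⟨e⟩⟩
          · rw [Nat.card_congr e.toEquiv, ← hGK]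
            exact Nat.le_mul_of_pos_right _ Nat.card_pos
          · rw [Nat.card_congr e.toEquiv, hPGL]
        exact hdK (Fintype.card K) m hk1 hm2 hm hnk (le_trans h4n hcard)

end finite

end Cfsg.Agent.Lib.Helper15.Dk
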