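import Mathlib
import Cfsg.Agent.Lib.Helper15.Dk12

/-!
# Dickson project, part 13: the dihedral maximal subgroups of `PSL₂(F)`
-/

set_option autoImplicit false

open scoped Pointwise

namespace Cfsg.Agent.Lib.Helper15.Dk

open Matrix
open Cfsg.Agent.Lib.Helper14
open Cfsg.Agent.Lib.Helper15

theorem isCoatom_of_prime_index {G : Type*} [Group G] [Finite G] {M : Subgroup G} (h : M.index.Prime) :
    IsCoatom M := by
  constructor
  · intro htop
    rw [htop, Subgroup.index_top] at h
    exact Nat.not_prime_one h
  · intro M' hlt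
    have h1 : M'.index ∣ M.index := Subgroup.index_dvd_of_le hlt.le
    rcases (Nat.dvd_prime h).mp h1 with h2 | h2
    · exact Subgroup.index_eq_one.mp h2
    · exfalso
      have h3 := Subgroup.relIndex_mul_index hlt.le
      rw [h2] at h3
      have hpos : 0 < M.index := h.pos
      have h4 : M.relIndex M' = 1 := by
        have : M.relIndex M' * M.index = 1 * M.index := by rw [h3, one_mul]
        exact Nat.eq_of_mul_eq_mul_right hpos this
      rw [Subgroup.relIndex_eq_one] at h4
      exact hlt.not_ge h4

section finite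
variable {F : Type*} [Field F] [Fintype F]

theorem gcd_eq_one_of_even (q : ℕ) (hq : 1 ≤ q) (h : 2 ∣ q) : Nat.gcd 2 (q - 1) = 1 := by
  have : ¬ 2 ∣ q - 1 := by omega
  exact (Nat.coprime_primes Nat.prime_two Nat.prime_two |> fun _ =>
    (Nat.Prime.coprime_iff_not_dvd Nat.prime_two).2 this)

/-- the maximal dihedral subgroup of order `2(q+1)/d` -/
theorem exists_dihedral_plus (hq : Fintype.card F ∉ ({2, 7, 9} : Finset ℕ)) :
    ∃ H : Subgroup (ProjectiveSpecialLinearGroup (Fin 2) F), IsCoatom H ∧
      Nonempty (H ≃* DihedralGroup ((Fintype.card F + 1) / Nat.gcd 2 (Fintype.card F - 1))) := by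
  obtain ⟨p, hp⟩ := CharP.exists F
  have hpr : Fact p.Prime := ⟨CharP.char_is_prime F p⟩
  obtain ⟨g, hg, ht, hcard⟩ := exists_torus_plus (F := F)
  obtain ⟨hcyc, hcardN, hdih, hprop⟩ := torus_normalizer g hg ht
  have hd := card_center_eq_gcd (F := F)
  have hG := card_PSL2_mul (F := F)
  set q := Fintype.card F with hqdef
  set d := Nat.card (Subgroup.center (SpecialLinearGroup (Fin 2) F)) with hddef
  have hd0 : 0 < d := Nat.card_pos
  have hd2 : d ≤ 2 := by
    rw [hd]; exact Nat.le_of_dvd (by norm_num) (Nat.gcd_dvd_left _ _)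
  have hq1 : 1 < q := Fintype.one_lt_card
  have hn : Nat.card (Tor g) = (q + 1) / Nat.gcd 2 (q - 1) := by
    rw [← hd]
    exact (Nat.div_eq_of_eq_mul_left hd0 hcard.symm).symm
  simp only [Finset.mem_insert, Finset.mem_singleton, not_or] at hq
  obtain ⟨hq2, hq7, hq9⟩ := hq
  have hsq := sq_sub_one_eq q hq1.le
  refine ⟨_, ?_, by rw [← hn]; exact hdih⟩
  by_cases hq3 : q = 3
  · -- index three
    apply isCoatom_of_prime_index
    have hd3 : d = 2 := by rw [hd, hq3]; norm_num
    rw [hq3, hd3] at hcard hG
    have hT2 : Nat.card (Tor g) = 2 := by omega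
    rw [hT2] at hcardN
    have hG12 : Nat.card (ProjectiveSpecialLinearGroup (Fin 2) F) = 12 := by omega
    have h1 := Subgroup.card_mul_index (Subgroup.normalizer ((Tor g : Subgroup (ProjectiveSpecialLinearGroup (Fin 2) F)) :
      Set (ProjectiveSpecialLinearGroup (Fin 2) F)))
    rw [hcardN, hG12] at h1
    have : (Subgroup.normalizer ((Tor g : Subgroup (ProjectiveSpecialLinearGroup (Fin 2) F)) :
      Set (ProjectiveSpecialLinearGroup (Fin 2) F))).index = 3 := by omega
    rw [this]
    exact Nat.prime_three
  · have hq4 : 4 ≤ q := by omega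
    have hdeven : 2 ∣ q → d = 1 := by
      intro h
      rw [hd]
      exact gcd_eq_one_of_even q hq1.le h
    have hdodd : ¬ 2 ∣ q → d = 2 := by
      intro h
      rw [hd]
      have : 2 ∣ q - 1 := by omega
      exact Nat.gcd_eq_left this
    apply torus_normalizer_isCoatom p g hg ht hq4
    · -- `3 ≤ n`
      by_cases he : 2 ∣ q
      · rw [hdeven he] at hcard; omega
      · rw [hdodd he] at hcard; omega
    · by_cases he : 2 ∣ q
      · rw [hdeven he] at hcard hG
        by_cases h4 : q = 4
        · right
          rw [h4] at hG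
          omega
        · left; omega
      · rw [hdodd he] at hcard hG
        by_cases h5 : q = 5
        · right
          rw [h5] at hG
          omega
        · left; omega
    · intro k m hk hm hkm0 hnk h4n
      have hkm : k ^ m = q := hkm0
      have hk2 : k ^ 2 ≤ q := by
        rw [← hkm]; exact Nat.pow_le_pow_right (by omega) hm
      have h1 : q + 1 ≤ 2 * (k + 1) := by
        calc q + 1 = Nat.card (Tor g) * d := hcard.symm
          _ ≤ (k + 1) * 2 := Nat.mul_le_mul hnk hd2
          _ = 2 * (k + 1) := by ring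
      have hk' : k = 2 := by
        by_contra hne
        have : 3 ≤ k := by omega
        nlinarith
      subst hk'
      have he : 2 ∣ q := by
        rw [← hkm]; exact dvd_pow_self 2 (by omega)
      rw [hdeven he, mul_one] at hcard
      have : 2 ^ 2 ≤ q := hk2
      omega

/-- the maximal dihedral subgroup of order `2(q-1)/d` -/
theorem exists_dihedral_minus (hq : Fintype.card F ∉ ({2, 3, 5, 7, 9, 11} : Finset ℕ)) :
    ∃ H : Subgroup (ProjectiveSpecialLinearGroup (Fin 2) F), IsCoatom H ∧
      Nonempty (H ≃* DihedralGroup ((Fintype.card F - 1) / Nat.gcd 2 (Fintype.card F - 1))) := by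
  obtain ⟨p, hp⟩ := CharP.exists F
  have hpr : Fact p.Prime := ⟨CharP.char_is_prime F p⟩
  have hpp : IsPrimePow (Fintype.card F) := FiniteField.isPrimePow_card F
  have hd := card_center_eq_gcd (F := F)
  have hG := card_PSL2_mul (F := F)
  have hq1 : 1 < Fintype.card F := Fintype.one_lt_card
  simp only [Finset.mem_insert, Finset.mem_singleton, not_or] at hq
  obtain ⟨hq2, hq3, hq5, hq7, hq9, hq11⟩ := hq
  have hq4 : 4 ≤ Fintype.card F := by omega
  obtain ⟨g, hg, ht, hcard⟩ := exists_torus_minus hq4
  obtain ⟨hcyc, hcardN, hdih, hprop⟩ := torus_normalizer g hg ht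
  set q := Fintype.card F with hqdef
  set d := Nat.card (Subgroup.center (SpecialLinearGroup (Fin 2) F)) with hddef
  have hd0 : 0 < d := Nat.card_pos
  have hd2 : d ≤ 2 := by
    rw [hd]; exact Nat.le_of_dvd (by norm_num) (Nat.gcd_dvd_left _ _)
  have hn : Nat.card (Tor g) = (q - 1) / Nat.gcd 2 (q - 1) := by
    rw [← hd]
    exact (Nat.div_eq_of_eq_mul_left hd0 hcard.symm).symm
  have hsq := sq_sub_one_eq q hq1.le
  refine ⟨_, ?_, by rw [← hn]; exact hdih⟩
  have hdeven : 2 ∣ q → d = 1 := by
    intro h
    rw [hd]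
    exact gcd_eq_one_of_even q hq1.le h
  have hdodd : ¬ 2 ∣ q → d = 2 := by
    intro h
    rw [hd]
    have : 2 ∣ q - 1 := by omega
    exact Nat.gcd_eq_left this
  have hq6 : q ≠ 6 := by
    intro h
    rw [h] at hpp
    revert hpp; decide
  apply torus_normalizer_isCoatom p g hg ht hq4
  · by_cases he : 2 ∣ q
    · rw [hdeven he] at hcard; omega
    · rw [hdodd he] at hcard; omega
  · by_cases he : 2 ∣ q
    · rw [hdeven he] at hcard hG
      by_cases h4 : q = 4
      · right
        rw [h4] at hG
        omega
      · left; omega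
    · rw [hdodd he] at hcard hG
      left; omega
  · intro k m hk hm hkm0 hnk h4n
    have hkm : k ^ m = q := hkm0
    have hk2 : k ^ 2 ≤ q := by
      rw [← hkm]; exact Nat.pow_le_pow_right (by omega) hm
    have h1 : q - 1 ≤ 2 * (k + 1) := by
      calc q - 1 = Nat.card (Tor g) * d := hcard.symm
        _ ≤ (k + 1) * 2 := Nat.mul_le_mul hnk hd2
        _ = 2 * (k + 1) := by ring
    have h1' : q ≤ 2 * k + 3 := by omega
    have hk3 : k ≤ 3 := by
      by_contra hne
      have : 4 ≤ k := by omega
      nlinarith
    have hm' : k ^ m ≤ 2 * k + 3 := by rw [hkm]; omega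
    interval_cases k
    · -- `k = 2`
      have hm2 : m = 2 := by
        by_contra hne
        have : 3 ≤ m := by omega
        have : 2 ^ 3 ≤ 2 ^ m := Nat.pow_le_pow_right (by norm_num) this
        omega
      subst hm2
      have hq4' : q = 4 := by rw [← hkm]; norm_num
      have he : 2 ∣ q := by rw [hq4']; norm_num
      rw [hdeven he, mul_one, hq4'] at hcard
      rw [hcard] at h4n
      omega
    · -- `k = 3`
      have hm2 : m = 2 := by
        by_contra hne
        have : 3 ≤ m := by omega
        have : 3 ^ 3 ≤ 3 ^ m := Nat.pow_le_pow_right (by norm_num) this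
        omega
      subst hm2
      apply hq9
      rw [← hkm]; norm_num

end finite

end Cfsg.Agent.Lib.Helper15.Dk
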