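import Mathlib
import Cfsg.Agent.Lib.Helper15.Dk13
import Cfsg.Agent.Lib.Helper1.Hall
import Cfsg.Prelude.Def_OddOrderLocal

/-!
# Dickson project, part 14: Hall `{2,3}`-subgroups of `PSL₂(q)`
-/

set_option autoImplicit false

open scoped Pointwise

namespace Cfsg.Agent.Lib.Helper15.Dk

open Matrix
open Cfsg.Agent.Lib.Helper14
open Cfsg.Agent.Lib.Helper15

/-- the sign homomorphism of a dihedral group -/
def dihedralSign (n : ℕ) : DihedralGroup n →* ℤˣ where
  toFun x := match x with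
    | DihedralGroup.r _ => 1
    | DihedralGroup.sr _ => -1
  map_one' := rfl
  map_mul' := by
    rintro (i | i) (j | j) <;> simp [DihedralGroup.r_mul_r, DihedralGroup.r_mul_sr,
      DihedralGroup.sr_mul_r, DihedralGroup.sr_mul_sr]

theorem isSolvable_dihedral (n : ℕ) : Group.IsSolvable (DihedralGroup n) := by
  let R : Subgroup (DihedralGroup n) :=
    { carrier := {x | ∃ i, x = DihedralGroup.r i}
      mul_mem' := by
        rintro _ _ ⟨i, rfl⟩ ⟨j, rfl⟩
        exact ⟨i + j, DihedralGroup.r_mul_r i j⟩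
      one_mem' := ⟨0, DihedralGroup.one_def⟩
      inv_mem' := by
        rintro _ ⟨i, rfl⟩
        exact ⟨-i, DihedralGroup.inv_r i⟩ }
  have hR : Group.IsSolvable R := by
    apply Group.isSolvable_of_comm
    rintro ⟨_, i, rfl⟩ ⟨_, j, rfl⟩
    apply Subtype.ext
    show DihedralGroup.r i * DihedralGroup.r j = DihedralGroup.r j * DihedralGroup.r i
    rw [DihedralGroup.r_mul_r, DihedralGroup.r_mul_r, add_comm]
  apply Group.isSolvable_of_ker_le_range R.subtype (dihedralSign n)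
  intro x hx
  rw [MonoidHom.mem_ker] at hx
  rcases x with i | i
  · exact ⟨⟨_, i, rfl⟩, rfl⟩
  · exfalso
    have : (-1 : ℤˣ) = 1 := hx
    exact absurd this (by decide)

theorem exists_23_decomp (n : ℕ) (hn : n ≠ 0) :
    ∃ a b r : ℕ, n = 2 ^ a * 3 ^ b * r ∧ ¬ 2 ∣ r ∧ ¬ 3 ∣ r := by
  obtain ⟨a, n₁, h1, rfl⟩ := Nat.exists_eq_pow_mul_and_not_dvd hn 2 (by norm_num)
  have hn₁ : n₁ ≠ 0 := by
    rintro rfl
    exact h1 (dvd_zero 2)
  obtain ⟨b, r, h2, rfl⟩ := Nat.exists_eq_pow_mul_and_not_dvd hn₁ 3 (by norm_num)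
  refine ⟨a, b, r, by ring, ?_, h2⟩
  intro h
  exact h1 (Dvd.dvd.mul_left h _)

/-- a dihedral subgroup of index prime to `6` contains a Hall `{2,3}`-subgroup of the group -/
theorem exists_hall23_of_dihedral {G : Type*} [Group G] [Finite G] (N : Subgroup G) (n₀ : ℕ)
    (e : ↥N ≃* DihedralGroup n₀) (h2 : ¬ 2 ∣ N.index) (h3 : ¬ 3 ∣ N.index) :
    ∃ H : Subgroup G, Cfsg.IsPiHall ({2, 3} : Set ℕ) H := by
  have hd : Group.IsSolvable (DihedralGroup n₀) := isSolvable_dihedral n₀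
  have hsolv : Group.IsSolvable ↥N := Group.isSolvable_of_isSolvable_injective (f := e.toMonoidHom) e.injective
  have hcard : Nat.card ↥N = 2 * n₀ := by rw [Nat.card_congr e.toEquiv, DihedralGroup.nat_card]
  have hn₀ : n₀ ≠ 0 := by
    rintro rfl
    rw [mul_zero] at hcard
    exact Nat.card_pos.ne' hcard
  obtain ⟨a, b, r, hn, hr2, hr3⟩ := exists_23_decomp n₀ hn₀
  have hcop : (2 ^ (a + 1) * 3 ^ b).Coprime r := by
    apply Nat.Coprime.mul_left
    · exact Nat.Coprime.pow_left _ ((Nat.Prime.coprime_iff_not_dvd Nat.prime_two).2 hr2)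
    · exact Nat.Coprime.pow_left _ ((Nat.Prime.coprime_iff_not_dvd Nat.prime_three).2 hr3)
  have hG : Nat.card ↥N = 2 ^ (a + 1) * 3 ^ b * r := by rw [hcard, hn]; ring
  obtain ⟨H₀, hH₀⟩ := Cfsg.Agent.Lib.Helper1.hall_exists (G := ↥N) _ _ hG hcop
  refine ⟨H₀.map N.subtype, ?_, ?_⟩
  · intro ℓ hℓ hdvd
    rw [Nat.card_congr (Subgroup.equivMapOfInjective H₀ N.subtype N.subtype_injective).toEquiv.symm, hH₀] at hdvd
    rcases (Nat.Prime.dvd_mul hℓ).1 hdvd with h | h
    · left
      exact (Nat.prime_dvd_prime_iff_eq hℓ Nat.prime_two).1 (hℓ.dvd_of_dvd_pow h)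
    · right
      exact (Nat.prime_dvd_prime_iff_eq hℓ Nat.prime_three).1 (hℓ.dvd_of_dvd_pow h)
  · have hidx : (H₀.map N.subtype).index = N.index * r := by
      have h1 : (H₀.map N.subtype).index = H₀.index * N.index := by
        rw [Subgroup.index_map_subtype]
      have h2' := Subgroup.card_mul_index H₀
      rw [hH₀, hG] at h2'
      have hpos : 0 < 2 ^ (a + 1) * 3 ^ b := by positivity
      have h3' : H₀.index = r := Nat.eq_of_mul_eq_mul_left hpos h2'
      rw [h1, h3', mul_comm]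
    intro ℓ hℓ hmem
    rw [hidx]
    rcases hmem with rfl | rfl
    · intro h
      rcases (Nat.Prime.dvd_mul Nat.prime_two).1 h with h | h
      · exact h2 h
      · exact hr2 h
    · intro h
      rcases (Nat.Prime.dvd_mul Nat.prime_three).1 h with h | h
      · exact h3 h
      · exact hr3 h

end Cfsg.Agent.Lib.Helper15.Dk
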