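import Mathlib
import Cfsg.Agent.Lib.Helper15.S4Rec
set_option autoImplicit false
namespace Cfsg.Agent.Lib.Helper15

section s4data

theorem exists_S4_of_data {P : Type*} [Group P] (u v h s : P) (hu : u * u = 1) (hv : v * v = 1)
    (huv : u * v = v * u) (hu1 : u ≠ 1) (hv1 : v ≠ 1) (hne : u ≠ v) (hh : h ^ 3 = 1)
    (hcu : h * u * h⁻¹ = v) (hcv : h * v * h⁻¹ = u * v)
    (hs : s * s = 1) (hsu : s * u * s⁻¹ = u) (hsv : s * v * s⁻¹ = u * v) (hsh : s * h * s⁻¹ = h⁻¹) :
    ∃ H : Subgroup P, Nonempty (H ≃* Equiv.Perm (Fin 4)) := by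
  -- basic facts
  have huv1 : u * v ≠ 1 := by
    intro h'
    apply hne
    calc u = u * (v * v) := by rw [hv, mul_one]
      _ = (u * v) * v := by rw [mul_assoc]
      _ = v := by rw [h', one_mul]
  have huvu : u * v ≠ u := fun h' => hv1 (mul_left_cancel (h'.trans (mul_one u).symm))
  have huvv : u * v ≠ v := fun h' => hu1 (mul_right_cancel (h'.trans (one_mul v).symm))
  have hcuv : h * (u * v) * h⁻¹ = u := by
    have : h * (u * v) * h⁻¹ = (h * u * h⁻¹) * (h * v * h⁻¹) := by group
    rw [this, hcu, hcv, ← mul_assoc, ← huv, mul_assoc, hv, mul_one]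
  have hsuv : s * (u * v) * s⁻¹ = v := by
    have : s * (u * v) * s⁻¹ = (s * u * s⁻¹) * (s * v * s⁻¹) := by group
    rw [this, hsu, hsv, ← mul_assoc, hu, one_mul]
  have hsinv : s⁻¹ = s := inv_eq_of_mul_eq_one_right hs
  have hhinv : h⁻¹ = h * h := by
    apply inv_eq_of_mul_eq_one_right
    rw [← hh, pow_succ, pow_two, mul_assoc]
  have hs2 : s ^ 2 = 1 := by rw [pow_two, hs]
  have hs1 : s ≠ 1 := by
    rintro rfl
    apply huvv
    rw [← hsv]; group
  have hh1 : h ≠ 1 := by
    rintro rfl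
    apply hne
    rw [← hcu]; group
  set V := kleinSub u v hu hv huv with hV
  have huV : u ∈ V := Or.inr (Or.inl rfl)
  have hvV : v ∈ V := Or.inr (Or.inr (Or.inl rfl))
  -- `h` and `s` normalize `V`
  have hhV : h ∈ Subgroup.normalizer (V : Set P) := by
    apply mem_normalizer_of_pow_eq_one V h 3 (by norm_num) hh
    intro x hx
    rcases hx with hx | hx | hx | hx
    · rw [hx, mul_one, mul_inv_cancel]; exact Subgroup.one_mem _
    · rw [hx, hcu]; exact hvV
    · rw [hx, hcv]; exact Or.inr (Or.inr (Or.inr rfl))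
    · rw [hx, hcuv]; exact huV
  have hsV : s ∈ Subgroup.normalizer (V : Set P) := by
    apply mem_normalizer_of_pow_eq_one V s 2 (by norm_num) hs2
    intro x hx
    rcases hx with hx | hx | hx | hx
    · rw [hx, mul_one, mul_inv_cancel]; exact Subgroup.one_mem _
    · rw [hx, hsu]; exact huV
    · rw [hx, hsv]; exact Or.inr (Or.inr (Or.inr rfl))
    · rw [hx, hsuv]; exact hvV
  -- the subgroup `K = ⟨h⟩⟨s⟩`
  have hsC : s ∈ Subgroup.normalizer ((Subgroup.zpowers h : Subgroup P) : Set P) := by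
    apply mem_normalizer_of_pow_eq_one _ s 2 (by norm_num) hs2
    intro x hx
    obtain ⟨k, rfl⟩ := Subgroup.mem_zpowers_iff.1 hx
    have : s * h ^ k * s⁻¹ = (s * h * s⁻¹) ^ k := by
      rw [← MulAut.conj_apply, map_zpow, MulAut.conj_apply]
    rw [this, hsh]
    exact Subgroup.zpow_mem _ (Subgroup.inv_mem _ (Subgroup.mem_zpowers h)) k
  have hDC : Subgroup.zpowers s ≤ Subgroup.normalizer ((Subgroup.zpowers h : Subgroup P) : Set P) :=
    Subgroup.zpowers_le.2 hsC
  set K := mulSub (Subgroup.zpowers h) (Subgroup.zpowers s) hDC with hK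
  have hdCD : Disjoint (Subgroup.zpowers h) (Subgroup.zpowers s) := by
    rw [Subgroup.disjoint_def]
    intro x hxC hxD
    rcases mem_zpowers_two s x hs hxD with h' | h'
    · exact h'
    · exfalso
      rw [h'] at hxC
      rcases mem_zpowers_three h s hh hxC with h'' | h'' | h''
      · exact hs1 h''
      · -- `s = h`
        rw [h''] at hsh
        apply hh1
        have : h = h⁻¹ := by rw [← hsh]; group
        calc h = h ^ 3 * (h * h)⁻¹ := by rw [pow_succ, pow_two]; group
          _ = h ^ 3 * (h * h⁻¹)⁻¹ := by rw [← this]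
          _ = 1 := by rw [hh, mul_inv_cancel, inv_one, mul_one]
      · rw [h''] at hs
        apply hh1
        have : h * h * (h * h) = h ^ 3 * h := by rw [pow_succ, pow_two]; group
        rw [this, hh, one_mul] at hs
        exact hs
  have hcK : Nat.card K = 6 := by
    rw [hK, card_mulSub _ _ hDC hdCD, Nat.card_zpowers, Nat.card_zpowers, orderOf_eq_prime hh hh1,
      orderOf_eq_prime hs2 hs1]
  have hKV : K ≤ Subgroup.normalizer (V : Set P) := by
    rintro _ ⟨c, hc, d, hd, rfl⟩
    exact Subgroup.mul_mem _ (Subgroup.zpowers_le.2 hhV hc) (Subgroup.zpowers_le.2 hsV hd)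
  -- faithfulness of `K` on `V`
  have hfaith : ∀ x ∈ K, x * u * x⁻¹ = u → x * v * x⁻¹ = v → x = 1 := by
    rintro _ ⟨c, hc, d, hd, rfl⟩ h1 h3
    have e1 : ∀ w : P, c * d * w * (c * d)⁻¹ = c * (d * w * d⁻¹) * c⁻¹ := by intro w; group
    rw [e1] at h1 h3
    have hhh : ∀ w : P, h * h * w * (h * h)⁻¹ = h * (h * w * h⁻¹) * h⁻¹ := by intro w; group
    rcases mem_zpowers_three h c hh hc with hc' | hc' | hc' <;>
      rcases mem_zpowers_two s d hs hd with hd' | hd' <;> rw [hc', hd'] at h1 h3 ⊢ <;>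
      try simp only [one_mul, mul_one, inv_one] at h1 h3 ⊢
    · exfalso
      rw [hsv] at h3
      exact huvv h3
    · exfalso
      rw [hcu] at h1
      exact hne h1.symm
    · exfalso
      rw [hsu, hcu] at h1
      exact hne h1.symm
    · exfalso
      rw [hhh, hcu, hcv] at h1
      exact huvu h1
    · exfalso
      rw [hsu, hhh, hcu, hcv] at h1
      exact huvu h1
  have hdVK : Disjoint V K := by
    rw [Subgroup.disjoint_def]
    intro x hxV hxK
    apply hfaith x hxK
    · have : x * u = u * x := by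
        rcases hxV with hx | hx | hx | hx <;> rw [hx]
        · rw [one_mul, mul_one]
        · rw [huv]
        · rw [mul_assoc, ← huv]
      rw [this, mul_assoc, mul_inv_cancel, mul_one]
    · have : x * v = v * x := by
        rcases hxV with hx | hx | hx | hx <;> rw [hx]
        · rw [one_mul, mul_one]
        · exact huv
        · rw [← mul_assoc v u v, ← huv]
      rw [this, mul_assoc, mul_inv_cancel, mul_one]
  set N := mulSub V K hKV with hN
  have hcN : Nat.card N = 24 := by
    rw [hN, card_mulSub _ _ hKV hdVK, hV, card_kleinSub u v hu hv huv hu1 hv1 hne, hcK]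
  have hKN : K ≤ N := right_le_mulSub _ _ hKV
  have hVN : V ≤ N := left_le_mulSub _ _ hKV
  refine ⟨N, nonempty_mulEquiv_S4 hcN (K.subgroupOf N) ?_ ?_⟩
  · rw [Nat.card_congr (Subgroup.subgroupOfEquivOfLe hKN).toEquiv, hcK]
  · rw [Subgroup.eq_bot_iff_forall]
    rintro ⟨m, hmN⟩ hm
    have hmK' : (⟨m, hmN⟩ : N) ∈ K.subgroupOf N := Subgroup.normalCore_le _ hm
    have hmK : m ∈ K := Subgroup.mem_subgroupOf.1 hmK'
    have hcomm : ∀ w ∈ V, m * w * m⁻¹ = w := by
      intro w hw
      have hwN : w ∈ N := hVN hw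
      have h1 : (⟨w, hwN⟩ : N) * (⟨m, hmN⟩ : N)⁻¹ * (⟨w, hwN⟩ : N)⁻¹ ∈ (K.subgroupOf N).normalCore :=
        (Subgroup.normalCore_normal _).conj_mem _ (Subgroup.inv_mem _ hm) _
      have h3 := Subgroup.mul_mem _ hm h1
      have h4 := Subgroup.normalCore_le _ h3
      rw [Subgroup.mem_subgroupOf] at h4
      have h5 : m * (w * m⁻¹ * w⁻¹) ∈ K := h4
      have h6 : m * (w * m⁻¹ * w⁻¹) ∈ V := by
        have : m * (w * m⁻¹ * w⁻¹) = (m * w * m⁻¹) * w⁻¹ := by group
        rw [this]
        exact Subgroup.mul_mem _ ((Subgroup.mem_normalizer_iff.1 (hKV hmK) w).1 hw) (Subgroup.inv_mem _ hw)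
      have h7 := (Subgroup.disjoint_def.1 hdVK) h6 h5
      calc m * w * m⁻¹ = (m * (w * m⁻¹ * w⁻¹)) * w := by group
        _ = w := by rw [h7, one_mul]
    have := hfaith m hmK (hcomm u huV) (hcomm v hvV)
    exact Subtype.ext this

end s4data
end Cfsg.Agent.Lib.Helper15
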