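import Mathlib
import Cfsg.Agent.Lib.Helper15.S4Data
import Cfsg.Agent.Lib.Helper15.A4Odd
set_option autoImplicit false
namespace Cfsg.Agent.Lib.Helper15

open Matrix
open Cfsg.Agent.Lib.Helper14

section s4odd
variable {F : Type*} [Field F]

theorem s4_stepA (X J S : Matrix (Fin 2) (Fin 2) F) (hSX : S * X = -(X * S)) (hSJ : S * J = -(X * J * S)) :
    S * ((1 + X) * (1 + J)) = (1 - X) * (1 - X * J) * S := by
  linear_combination (norm := noncomm_ring) hSX + hSJ + hSX * J - X * hSJ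

theorem s4_stepB (X J : Matrix (Fin 2) (Fin 2) F) (h1 : X * X = -1) (h2' : J * J = -1)
    (h3 : J * X = -(X * J)) :
    (1 + X) * (1 + J) * ((1 - X) * (1 - X * J)) = 1 + 1 + 1 + 1 := by
  linear_combination (norm := noncomm_ring) -h1 + h1*X*J - h3 - h3*J + X*h2' + J*h1*J - h2' - X*h3 + h1*J - X*h3*J + h1*J*J - h2' + X*J*h1*J - X*h2'

theorem omegaMat_mul_S_mul (h2 : (2 : F) ≠ 0) (X J S : Matrix (Fin 2) (Fin 2) F) (h1 : X * X = -1) (h2' : J * J = -1)
    (h3 : J * X = -(X * J)) (hSX : S * X = -(X * S)) (hSJ : S * J = -(X * J * S)) :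
    omegaMat X J * S * omegaMat X J = S := by
  rw [omegaMat, Matrix.smul_mul, Matrix.smul_mul, Matrix.mul_smul, smul_smul, Matrix.mul_assoc,
    s4_stepA X J S hSX hSJ, ← Matrix.mul_assoc, s4_stepB X J h1 h2' h3]
  have e4 : (1 + 1 + 1 + 1 : Matrix (Fin 2) (Fin 2) F) = (4 : F) • (1 : Matrix (Fin 2) (Fin 2) F) := by
    rw [show (4 : F) = 1 + 1 + 1 + 1 by norm_num, add_smul, add_smul, add_smul, one_smul]
  rw [e4, Matrix.smul_mul, Matrix.one_mul, smul_smul]
  have c1 : (2 : F)⁻¹ * 2⁻¹ * 4 = 1 := by field_simp; norm_num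
  rw [c1, one_smul]

/-- `PSL₂(q)` contains `S₄` when `8` divides the order of the torus of a square root of `-1` -/
theorem exists_S4_odd [Fintype F] (h2 : (2 : F) ≠ 0)
    (h8 : 8 ∣ Nat.card (Subgroup.centralizer ({w0 F} : Set (SpecialLinearGroup (Fin 2) F)))) :
    ∃ H : Subgroup (ProjectiveSpecialLinearGroup (Fin 2) F), Nonempty (H ≃* Equiv.Perm (Fin 4)) := by
  have ha : w0 F * w0 F = -1 := w0_sq
  obtain ⟨b, hb⟩ := exists_inverting (w0 F) (trace_sq_ne_four_of_sq h2 (w0 F) ha)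
  have hbb : b * b = -1 := s0_sq h2 (w0 F) ha b hb
  obtain ⟨y, hyT, hy⟩ := sq_of_eight h2 (w0 F) ha h8
  obtain ⟨f1, f2, f3, f4, f5, f6⟩ := frame_toPSL2 h2 (w0 F) b ha hb
  set a := w0 F with hadef
  -- the element s
  have hya : y * a * y⁻¹ = a := (mem_centralizer_iff_conj_eq a y).1 hyT
  have hsa : (b * y) * a * (b * y)⁻¹ = a⁻¹ := by
    calc (b * y) * a * (b * y)⁻¹ = b * (y * a * y⁻¹) * b⁻¹ := by group
      _ = a⁻¹ := by rw [hya, hb]
  have hss : (b * y) * (b * y) = -1 := s0_sq h2 a ha (b * y) hsa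
  have hsb : (b * y) * b * (b * y)⁻¹ = b * a := by
    have h1 := conj_inverting_eq h2 a ha b hb y hyT
    calc (b * y) * b * (b * y)⁻¹ = b * (y * b * y⁻¹) * b⁻¹ := by group
      _ = b * a := by rw [h1, ← hy]; group
  have hba : b * a = -(a * b) := by
    have : b * a = a⁻¹ * b := by rw [← hb]; group
    rw [this, inv_eq_neg_of_sq a ha, neg_mul]
  have hsb' : (b * y) * b = -(a * b * (b * y)) := by
    have : (b * y) * b = b * a * (b * y) := by rw [← hsb]; group
    rw [this, hba, neg_mul]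
  have hSJ : ((b * y : SpecialLinearGroup (Fin 2) F) : Matrix (Fin 2) (Fin 2) F) * (b : Matrix (Fin 2) (Fin 2) F) =
      -((a : Matrix (Fin 2) (Fin 2) F) * (b : Matrix (Fin 2) (Fin 2) F) *
        ((b * y : SpecialLinearGroup (Fin 2) F) : Matrix (Fin 2) (Fin 2) F)) := by
    have := congrArg Subtype.val hsb'
    rw [Matrix.SpecialLinearGroup.coe_mul, Matrix.SpecialLinearGroup.coe_neg, Matrix.SpecialLinearGroup.coe_mul,
      Matrix.SpecialLinearGroup.coe_mul] at this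
    exact this
  have hom : omegaSL h2 a b ha hbb * (b * y) * omegaSL h2 a b ha hbb = b * y := by
    apply Subtype.ext
    rw [Matrix.SpecialLinearGroup.coe_mul, Matrix.SpecialLinearGroup.coe_mul]
    exact omegaMat_mul_S_mul h2 _ _ _ (coe_sq_of_sq a ha) (coe_sq_of_sq b hbb) (coe_anticomm a b ha hb)
      (coe_anticomm a (b * y) ha hsa) hSJ
  have hsom : (b * y) * omegaSL h2 a b ha hbb * (b * y)⁻¹ = (omegaSL h2 a b ha hbb)⁻¹ := by
    have : (b * y) * omegaSL h2 a b ha hbb = (omegaSL h2 a b ha hbb)⁻¹ * (b * y) := by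
      rw [eq_inv_mul_iff_mul_eq, ← mul_assoc]
      exact hom
    rw [this, mul_assoc, mul_inv_cancel, mul_one]
  have hainv : (toPSL2 F a)⁻¹ = toPSL2 F a := inv_eq_of_mul_eq_one_right f4
  apply exists_S4_of_data (toPSL2 F a) (toPSL2 F b) (toPSL2 F (omegaSL h2 a b ha hbb)) (toPSL2 F (b * y))
    f4 f5 f6 f1 f2 f3
  · rw [← map_pow, omegaSL_cube h2 a b ha hbb hb]
    rw [toPSL2_eq_one_iff h2]
    exact Or.inr rfl
  · rw [← map_inv, ← map_mul, ← map_mul, omegaSL_conj_x h2 a b ha hbb hb]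
  · rw [← map_inv, ← map_mul, ← map_mul, omegaSL_conj_s h2 a b ha hbb hb, map_mul]
  · rw [← map_mul, hss, toPSL2_eq_one_iff h2]
    exact Or.inr rfl
  · rw [← map_inv, ← map_mul, ← map_mul, hsa, map_inv, hainv]
  · rw [← map_inv, ← map_mul, ← map_mul, hsb, map_mul, f6]
  · rw [← map_inv, ← map_mul, ← map_mul, hsom, map_inv]

end s4odd
end Cfsg.Agent.Lib.Helper15
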