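import Mathlib
import Cfsg.Agent.Lib.Helper15.Dk14
import Cfsg.Agent.S0802
import Cfsg.Agent.S0803

/-!
# Dickson project, part 15: Hall `{2,3}`-subgroups of `PSL₂(q)`, main theorem
-/

set_option autoImplicit false

namespace Cfsg.Agent.Lib.Helper15.Dk

theorem fact23_two (a b : ℕ) : (2 ^ a * 3 ^ b).factorization 2 = a := by
  rw [Nat.factorization_mul (by positivity) (by positivity), Nat.Prime.factorization_pow Nat.prime_two,
    Nat.Prime.factorization_pow Nat.prime_three]
  simp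

theorem fact23_three (a b : ℕ) : (2 ^ a * 3 ^ b).factorization 3 = b := by
  rw [Nat.factorization_mul (by positivity) (by positivity), Nat.Prime.factorization_pow Nat.prime_two,
    Nat.Prime.factorization_pow Nat.prime_three]
  simp

theorem fact23_other (a b ℓ : ℕ) (h2 : ℓ ≠ 2) (h3 : ℓ ≠ 3) : (2 ^ a * 3 ^ b).factorization ℓ = 0 := by
  rw [Nat.factorization_mul (by positivity) (by positivity), Nat.Prime.factorization_pow Nat.prime_two,
    Nat.Prime.factorization_pow Nat.prime_three]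
  simp [h2.symm, h3.symm]

/-- the order criterion for Hall `{2,3}`-subgroups -/
theorem isPiHall23_iff {G : Type*} [Group G] [Finite G] (H : Subgroup G) (q m : ℕ) (hm : m ≠ 0)
    (hq2 : ¬ 2 ∣ q) (hq3 : ¬ 3 ∣ q) (hG : 2 * Nat.card G = q * m) :
    Cfsg.IsPiHall ({2, 3} : Set ℕ) H ↔
      2 * Nat.card H = 2 ^ m.factorization 2 * 3 ^ m.factorization 3 := by
  have hq0 : q ≠ 0 := by rintro rfl; exact hq2 (dvd_zero 2)
  have hH0 : Nat.card H ≠ 0 := Nat.card_pos.ne'
  have hi0 : H.index ≠ 0 := Subgroup.index_ne_zero_of_finite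
  have hmul : 2 * Nat.card H * H.index = q * m := by
    rw [mul_assoc, Subgroup.card_mul_index, hG]
  have hfac : ∀ ℓ, (2 * Nat.card H).factorization ℓ + H.index.factorization ℓ =
      q.factorization ℓ + m.factorization ℓ := by
    intro ℓ
    have := congrArg (fun n => n.factorization ℓ) hmul
    rw [Nat.factorization_mul (by positivity) hi0, Nat.factorization_mul hq0 hm] at this
    simpa using this
  have hq2' : q.factorization 2 = 0 := Nat.factorization_eq_zero_of_not_dvd hq2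
  have hq3' : q.factorization 3 = 0 := Nat.factorization_eq_zero_of_not_dvd hq3
  constructor
  · rintro ⟨h1, h2⟩
    apply Nat.eq_of_factorization_eq (by positivity) (by positivity)
    intro ℓ
    by_cases hℓ2 : ℓ = 2
    · subst hℓ2
      rw [fact23_two]
      have := hfac 2
      rw [Nat.factorization_eq_zero_of_not_dvd (h2 2 Nat.prime_two (by simp)), hq2'] at this
      omega
    by_cases hℓ3 : ℓ = 3
    · subst hℓ3
      rw [fact23_three]
      have := hfac 3
      rw [Nat.factorization_eq_zero_of_not_dvd (h2 3 Nat.prime_three (by simp)), hq3'] at this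
      omega
    rw [fact23_other _ _ _ hℓ2 hℓ3]
    by_cases hℓ : ℓ.Prime
    · apply Nat.factorization_eq_zero_of_not_dvd
      intro hd
      rcases (Nat.Prime.dvd_mul hℓ).1 hd with h | h
      · exact hℓ2 ((Nat.prime_dvd_prime_iff_eq hℓ Nat.prime_two).1 h)
      · rcases h1 ℓ hℓ h with h | h
        · exact hℓ2 h
        · exact hℓ3 h
    · exact Nat.factorization_eq_zero_of_not_prime _ hℓ
  · intro h
    constructor
    · intro ℓ hℓ hd
      have h1 : ℓ ∣ 2 ^ m.factorization 2 * 3 ^ m.factorization 3 := by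
        rw [← h]; exact Dvd.dvd.mul_left hd 2
      rcases (Nat.Prime.dvd_mul hℓ).1 h1 with h | h
      · left
        exact (Nat.prime_dvd_prime_iff_eq hℓ Nat.prime_two).1 (hℓ.dvd_of_dvd_pow h)
      · right
        exact (Nat.prime_dvd_prime_iff_eq hℓ Nat.prime_three).1 (hℓ.dvd_of_dvd_pow h)
    · intro ℓ hℓ hmem hd
      have h0 : H.index.factorization ℓ ≠ 0 := by
        have := (hℓ.factorization_pos_of_dvd hi0 hd)
        omega
      rcases hmem with rfl | rfl
      · have := hfac 2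
        rw [h, fact23_two, hq2'] at this
        omega
      · have := hfac 3
        rw [h, fact23_three, hq3'] at this
        omega

theorem ar_idx_plus2 (q i : ℕ) (h : i * 2 = q * (q + 1)) (hq : q % 4 = 1) : ¬ 2 ∣ i := by
  rintro ⟨c, rfl⟩
  obtain ⟨j, rfl⟩ : ∃ j, q = 4 * j + 1 := ⟨q / 4, by omega⟩
  have h1 : 4 * c = 2 * (8 * (j * j) + 6 * j + 1) := by nlinarith
  generalize j * j = x at h1
  omega

theorem ar_idx_plus3 (q i : ℕ) (h : i * 2 = q * (q + 1)) (hq1 : 1 ≤ q) (h3 : 3 ∣ q - 1) : ¬ 3 ∣ i := by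
  rintro ⟨c, rfl⟩
  obtain ⟨j, hj⟩ := h3
  obtain rfl : q = 3 * j + 1 := by omega
  have h1 : 6 * c = 9 * (j * j) + 9 * j + 2 := by nlinarith
  generalize j * j = x at h1
  omega

theorem ar_idx_minus2 (q i : ℕ) (h : i * 2 = q * (q - 1)) (hq : q % 4 = 3) : ¬ 2 ∣ i := by
  rintro ⟨c, rfl⟩
  obtain ⟨j, rfl⟩ : ∃ j, q = 4 * j + 3 := ⟨q / 4, by omega⟩
  have h0 : 4 * j + 3 - 1 = 4 * j + 2 := by omega
  rw [h0] at h
  have h1 : 4 * c = 2 * (8 * (j * j) + 10 * j + 3) := by nlinarith
  generalize j * j = x at h1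
  omega

theorem ar_idx_minus3 (q i : ℕ) (h : i * 2 = q * (q - 1)) (h3 : 3 ∣ q + 1) : ¬ 3 ∣ i := by
  rintro ⟨c, rfl⟩
  obtain ⟨j, hj⟩ := h3
  obtain ⟨j, rfl⟩ : ∃ k, j = k + 1 := ⟨j - 1, by omega⟩
  obtain rfl : q = 3 * j + 2 := by omega
  have h0 : 3 * j + 2 - 1 = 3 * j + 1 := by omega
  rw [h0] at h
  have h1 : 6 * c = 9 * (j * j) + 9 * j + 2 := by nlinarith
  generalize j * j = x at h1
  omega

/-- `2^v₂` does not divide `q ± 1` -/
theorem not_pow_v2_dvd (q : ℕ) (hq : 2 ≤ q) (hodd : ¬ 2 ∣ q) :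
    ¬ 2 ^ (q ^ 2 - 1).factorization 2 ∣ q + 1 ∧ ¬ 2 ^ (q ^ 2 - 1).factorization 2 ∣ q - 1 := by
  have hm : q ^ 2 - 1 = (q - 1) * (q + 1) := Dk.sq_sub_one_eq q (by omega)
  have hm0 : q ^ 2 - 1 ≠ 0 := by
    rw [hm]
    have h1 : 0 < q - 1 := by omega
    positivity
  have hnot := Nat.pow_succ_factorization_not_dvd hm0 Nat.prime_two
  constructor
  · intro h
    apply hnot
    rw [pow_succ]
    nth_rw 2 [hm]
    rw [mul_comm (q - 1)]
    exact Nat.mul_dvd_mul h (by omega)
  · intro h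
    apply hnot
    rw [pow_succ]
    nth_rw 2 [hm]
    exact Nat.mul_dvd_mul h (by omega)

theorem eight_dvd_pow_v2 (q : ℕ) (hq : 2 ≤ q) (hodd : ¬ 2 ∣ q) :
    8 ∣ 2 ^ (q ^ 2 - 1).factorization 2 := by
  have hm : q ^ 2 - 1 = (q - 1) * (q + 1) := Dk.sq_sub_one_eq q (by omega)
  have hm0 : q ^ 2 - 1 ≠ 0 := by
    rw [hm]
    have h1 : 0 < q - 1 := by omega
    positivity
  have h8 : 2 ^ 3 ∣ q ^ 2 - 1 := by
    rw [hm]
    obtain ⟨j, rfl⟩ : ∃ j, q = 2 * j + 1 := ⟨q / 2, by omega⟩
    have h0 : 2 * j + 1 - 1 = 2 * j := by omega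
    rw [h0]
    have : 2 ∣ j * (j + 1) := (Nat.even_mul_succ_self j).two_dvd
    obtain ⟨c, hc⟩ := this
    refine ⟨c, ?_⟩
    calc 2 * j * (2 * j + 1 + 1) = 4 * (j * (j + 1)) := by ring
      _ = 2 ^ 3 * c := by rw [hc]; ring
  have := (Nat.Prime.pow_dvd_iff_le_factorization Nat.prime_two hm0).1 h8
  exact pow_dvd_pow 2 this

theorem three_dvd_pow_v3 (q : ℕ) (hq : 2 ≤ q) (h3 : ¬ 3 ∣ q) :
    3 ∣ 3 ^ (q ^ 2 - 1).factorization 3 := by
  have hm : q ^ 2 - 1 = (q - 1) * (q + 1) := Dk.sq_sub_one_eq q (by omega)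
  have hm0 : q ^ 2 - 1 ≠ 0 := by
    rw [hm]
    have h1 : 0 < q - 1 := by omega
    positivity
  have h8 : 3 ^ 1 ∣ q ^ 2 - 1 := by
    rw [hm, pow_one]
    have : q % 3 = 1 ∨ q % 3 = 2 := by omega
    rcases this with h | h
    · exact Dvd.dvd.mul_right (by omega) _
    · exact Dvd.dvd.mul_left (by omega) _
  have := (Nat.Prime.pow_dvd_iff_le_factorization Nat.prime_three hm0).1 h8
  calc 3 = 3 ^ 1 := by norm_num
    _ ∣ _ := pow_dvd_pow 3 this


open Matrix
open Cfsg.Agent.Lib.Helper14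
open Cfsg.Agent.Lib.Helper15

variable {F : Type*} [Field F] [Fintype F]

/-- Hall `{2,3}`-subgroups of `PSL₂(q)`, `p ≥ 5` -/
theorem hall23_psl2 (p : ℕ) [Fact p.Prime] [CharP F p] (hp : 5 ≤ p) :
    (∃ H : Subgroup (ProjectiveSpecialLinearGroup (Fin 2) F), Cfsg.IsPiHall ({2, 3} : Set ℕ) H) ↔
      (3 ∣ Fintype.card F - 1 ∧ Fintype.card F % 4 = 1) ∨
      (3 ∣ Fintype.card F + 1 ∧ Fintype.card F % 4 = 3) ∨
        2 ^ (Fintype.card F ^ 2 - 1).factorization 2 * 3 ^ (Fintype.card F ^ 2 - 1).factorization 3 = 24 ∨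
        2 ^ (Fintype.card F ^ 2 - 1).factorization 2 * 3 ^ (Fintype.card F ^ 2 - 1).factorization 3 = 48 := by
  have hpr : p.Prime := Fact.out
  obtain ⟨n, -, hn⟩ := FiniteField.card F p
  have hd := card_center_eq_gcd (F := F)
  have hG := card_PSL2_mul (F := F)
  have hp2 : ¬ 2 ∣ p := by
    intro h
    have := (Nat.prime_dvd_prime_iff_eq Nat.prime_two hpr).1 h
    omega
  have hp3 : ¬ 3 ∣ p := by
    intro h
    have := (Nat.prime_dvd_prime_iff_eq Nat.prime_three hpr).1 h
    omega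
  have hqp : p ≤ Fintype.card F := by
    rw [hn]
    calc p = p ^ 1 := (pow_one p).symm
      _ ≤ p ^ (n : ℕ) := Nat.pow_le_pow_right hpr.pos n.pos
  set q := Fintype.card F with hqdef
  have hq5 : 5 ≤ q := le_trans hp hqp
  have hq2 : ¬ 2 ∣ q := by
    rw [hn]; intro h; exact hp2 (Nat.prime_two.dvd_of_dvd_pow h)
  have hq3 : ¬ 3 ∣ q := by
    rw [hn]; intro h; exact hp3 (Nat.prime_three.dvd_of_dvd_pow h)
  have hd2 : Nat.card (Subgroup.center (SpecialLinearGroup (Fin 2) F)) = 2 := by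
    rw [hd]
    have h2 : 2 ∣ q - 1 := by omega
    exact Nat.gcd_eq_left h2
  rw [hd2] at hG
  have hm : q ^ 2 - 1 = (q - 1) * (q + 1) := Dk.sq_sub_one_eq q (by omega)
  have hm0 : q ^ 2 - 1 ≠ 0 := by
    rw [hm]
    have h1 : 0 < q - 1 := by omega
    positivity
  have hG' : 2 * Nat.card (ProjectiveSpecialLinearGroup (Fin 2) F) = q * (q ^ 2 - 1) := by
    rw [← hG, mul_comm]
  have hchar := fun H : Subgroup (ProjectiveSpecialLinearGroup (Fin 2) F) =>
    isPiHall23_iff H q (q ^ 2 - 1) hm0 hq2 hq3 hG'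
  obtain ⟨hnp, hnm⟩ := not_pow_v2_dvd q (by omega) hq2
  have h8 := eight_dvd_pow_v2 q (by omega) hq2
  have h3 := three_dvd_pow_v3 q (by omega) hq3
  set v2 := (q ^ 2 - 1).factorization 2 with hv2
  set v3 := (q ^ 2 - 1).factorization 3 with hv3
  constructor
  · rintro ⟨H, hH⟩
    have hM := (hchar H).1 hH
    have h2M : 2 ^ v2 ∣ 2 * Nat.card H := by rw [hM]; exact Dvd.intro _ rfl
    have h3M : 3 ^ v3 ∣ 2 * Nat.card H := by rw [hM]; exact Dvd.intro_left _ rfl
    have hgcd : Nat.gcd 2 (q - 1) = 2 := by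
      have h2 : 2 ∣ q - 1 := by omega
      exact Nat.gcd_eq_left h2
    rcases dickson p H with ⟨k, hk, h⟩ | ⟨P, K, hK, ⟨e'⟩⟩ | ⟨⟨e'⟩⟩ | ⟨⟨e'⟩⟩ | ⟨⟨e'⟩⟩ | ⟨K, i1, i2, m, hm', h⟩
    · rw [hgcd] at hk
      have hk' : 2 * k ∣ q + 1 ∨ 2 * k ∣ q - 1 := by
        rcases hk with hk | hk
        · left
          have : (q + 1) / 2 * 2 = q + 1 := Nat.div_mul_cancel (by omega)
          rw [← this, mul_comm]
          exact Nat.mul_dvd_mul_right hk 2
        · right
          have : (q - 1) / 2 * 2 = q - 1 := Nat.div_mul_cancel (by omega)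
          rw [← this, mul_comm]
          exact Nat.mul_dvd_mul_right hk 2
      rcases h with ⟨hc, hcard⟩ | ⟨⟨e'⟩⟩
      · exfalso
        rw [hcard] at h2M
        rcases hk' with hk' | hk'
        · exact hnp (h2M.trans hk')
        · exact hnm (h2M.trans hk')
      · have hcard : Nat.card H = 2 * k := by
          rw [Nat.card_congr e'.toEquiv, DihedralGroup.nat_card]
        rw [hcard] at h2M h3M
        rcases hk' with hk' | hk'
        · right; left
          have h1 : 8 ∣ 2 * (q + 1) := h8.trans (h2M.trans (Nat.mul_dvd_mul_left 2 hk'))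
          have h2 : 3 ∣ 2 * (q + 1) := h3.trans (h3M.trans (Nat.mul_dvd_mul_left 2 hk'))
          constructor <;> omega
        · left
          have h1 : 8 ∣ 2 * (q - 1) := h8.trans (h2M.trans (Nat.mul_dvd_mul_left 2 hk'))
          have h2 : 3 ∣ 2 * (q - 1) := h3.trans (h3M.trans (Nat.mul_dvd_mul_left 2 hk'))
          constructor <;> omega
    · exfalso
      have hN := card_normalizer_sylow_mul p P
      rw [hd2] at hN
      have h1 : Nat.card H ∣ Nat.card (Subgroup.normalizer ((P : Subgroup (ProjectiveSpecialLinearGroup (Fin 2) F)) :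
          Set (ProjectiveSpecialLinearGroup (Fin 2) F))) := by
        rw [Nat.card_congr e'.toEquiv]
        exact Subgroup.card_dvd_of_le hK
      have h2 : 2 * Nat.card H ∣ q * (q - 1) := by
        rw [← hN, mul_comm]
        exact Nat.mul_dvd_mul_right h1 2
      have h3' : 2 ^ v2 ∣ q * (q - 1) := h2M.trans h2
      have hcop : Nat.Coprime (2 ^ v2) q :=
        Nat.Coprime.pow_left _ ((Nat.Prime.coprime_iff_not_dvd Nat.prime_two).2 hq2)
      exact hnm (hcop.dvd_of_dvd_mul_left h3')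
    · right; right; left
      rw [← hM, Nat.card_congr e'.toEquiv, card_A4]
    · right; right; right
      rw [← hM, Nat.card_congr e'.toEquiv, card_S4]
    · exfalso
      rw [Nat.card_congr e'.toEquiv, card_A5] at hM
      have h5 : 5 ∣ 2 ^ v2 * 3 ^ v3 := by rw [← hM]; norm_num
      have hp5 : Nat.Prime 5 := by norm_num
      rcases (Nat.Prime.dvd_mul hp5).1 h5 with h | h
      · have := (Nat.prime_dvd_prime_iff_eq hp5 Nat.prime_two).1 (hp5.dvd_of_dvd_pow h)
        omega
      · have := (Nat.prime_dvd_prime_iff_eq hp5 Nat.prime_three).1 (hp5.dvd_of_dvd_pow h)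
        omega
    · exfalso
      have hK1 : 1 < Fintype.card K := Fintype.one_lt_card
      have hm' : Fintype.card K ^ m = q := hm'
      have hm0' : m ≠ 0 := by
        rintro rfl
        rw [pow_zero] at hm'
        omega
      have hpK : p ∣ Fintype.card K := by
        obtain ⟨ℓ, hℓ, hℓK⟩ := Nat.exists_prime_and_dvd (n := Fintype.card K) (by omega)
        have h1 : ℓ ∣ p ^ (n : ℕ) := by
          rw [← hn, ← hm']
          exact hℓK.trans (dvd_pow_self _ hm0')
        have h2 := (Nat.prime_dvd_prime_iff_eq hℓ hpr).1 (hℓ.dvd_of_dvd_pow h1)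
        rw [← h2]; exact hℓK
      have hpH : p ∣ Nat.card H := by
        rcases h with ⟨⟨e'⟩⟩ | ⟨⟨e'⟩⟩
        · rw [Nat.card_congr e'.toEquiv]
          have h1 := card_PSL2_mul (F := K)
          have h2 : p ∣ Nat.card (ProjectiveSpecialLinearGroup (Fin 2) K) *
              Nat.card (Subgroup.center (SpecialLinearGroup (Fin 2) K)) := by
            rw [h1]; exact Dvd.dvd.mul_right hpK _
          rcases (Nat.Prime.dvd_mul hpr).1 h2 with h | h
          · exact h
          · exfalso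
            rw [card_center_eq_gcd] at h
            have h3 : p ∣ 2 := h.trans (Nat.gcd_dvd_left _ _)
            have := Nat.le_of_dvd (by norm_num) h3
            omega
        · rw [Nat.card_congr e'.toEquiv, card_PGL2]
          exact Dvd.dvd.mul_right hpK _
      have h1 : p ∣ 2 ^ v2 * 3 ^ v3 := by rw [← hM]; exact Dvd.dvd.mul_left hpH 2
      rcases (Nat.Prime.dvd_mul hpr).1 h1 with h | h
      · have := (Nat.prime_dvd_prime_iff_eq hpr Nat.prime_two).1 (hpr.dvd_of_dvd_pow h)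
        omega
      · have := (Nat.prime_dvd_prime_iff_eq hpr Nat.prime_three).1 (hpr.dvd_of_dvd_pow h)
        omega
  · rintro (⟨h3q, hq4⟩ | ⟨h3q, hq4⟩ | h24 | h48)
    · obtain ⟨g, hg, ht, hcard⟩ := exists_torus_minus (F := F) (by omega)
      obtain ⟨-, hcardN, ⟨e⟩, -⟩ := torus_normalizer g hg ht
      rw [hd2] at hcard
      have hcard' : Nat.card (Tor g) * 2 = q - 1 := hcard
      set N := Subgroup.normalizer ((Tor g : Subgroup (ProjectiveSpecialLinearGroup (Fin 2) F)) :
        Set (ProjectiveSpecialLinearGroup (Fin 2) F)) with hN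
      have hNc : Nat.card N = q - 1 := by rw [hcardN, ← hcard', mul_comm]
      have hidx : N.index * 2 = q * (q + 1) := by
        have h1 := Subgroup.card_mul_index N
        rw [hNc] at h1
        have h2 : (q - 1) * (N.index * 2) = (q - 1) * (q * (q + 1)) := by
          calc (q - 1) * (N.index * 2) = ((q - 1) * N.index) * 2 := by ring
            _ = q * (q ^ 2 - 1) := by rw [h1, hG]
            _ = (q - 1) * (q * (q + 1)) := by rw [hm]; ring
        exact Nat.eq_of_mul_eq_mul_left (by omega) h2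
      exact exists_hall23_of_dihedral N _ e (ar_idx_plus2 q _ hidx hq4) (ar_idx_plus3 q _ hidx (by omega) h3q)
    · obtain ⟨g, hg, ht, hcard⟩ := exists_torus_plus (F := F)
      obtain ⟨-, hcardN, ⟨e⟩, -⟩ := torus_normalizer g hg ht
      rw [hd2] at hcard
      have hcard' : Nat.card (Tor g) * 2 = q + 1 := hcard
      set N := Subgroup.normalizer ((Tor g : Subgroup (ProjectiveSpecialLinearGroup (Fin 2) F)) :
        Set (ProjectiveSpecialLinearGroup (Fin 2) F)) with hN
      have hNc : Nat.card N = q + 1 := by rw [hcardN, ← hcard', mul_comm]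
      have hidx : N.index * 2 = q * (q - 1) := by
        have h1 := Subgroup.card_mul_index N
        rw [hNc] at h1
        have h2 : (q + 1) * (N.index * 2) = (q + 1) * (q * (q - 1)) := by
          calc (q + 1) * (N.index * 2) = ((q + 1) * N.index) * 2 := by ring
            _ = q * (q ^ 2 - 1) := by rw [h1, hG]
            _ = (q + 1) * (q * (q - 1)) := by rw [hm]; ring
        exact Nat.eq_of_mul_eq_mul_left (by omega) h2
      exact exists_hall23_of_dihedral N _ e (ar_idx_minus2 q _ hidx hq4) (ar_idx_minus3 q _ hidx h3q)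
    · obtain ⟨H, ⟨e⟩⟩ := (Cfsg.Agent.S0802.result (F := F) p n hn).2 (by
        rintro ⟨rfl, -⟩
        omega)
      refine ⟨H, (hchar H).2 ?_⟩
      rw [h24, Nat.card_congr e.toEquiv, card_A4]
    · have hv24 : v2 = 4 := by
        have h1 : (2 ^ v2 * 3 ^ v3).factorization 2 = v2 := fact23_two v2 v3
        rw [h48] at h1
        have h48' : (48 : ℕ) = 2 ^ 4 * 3 ^ 1 := by norm_num
        rw [h48', fact23_two] at h1
        exact h1.symm
      have h16 : 2 ^ v2 ∣ q ^ 2 - 1 := Nat.ordProj_dvd _ _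
      rw [hv24] at h16
      have hq16 : q ^ 2 % 16 = 1 := by
        have h1 : 1 ≤ q ^ 2 := Nat.one_le_pow _ _ (by omega)
        obtain ⟨c, hc⟩ := h16
        generalize q ^ 2 = x at *
        omega
      obtain ⟨H, ⟨e⟩⟩ := (Cfsg.Agent.S0803.result (F := F) (q := q) rfl).2 hq16
      refine ⟨H, (hchar H).2 ?_⟩
      rw [h48, Nat.card_congr e.toEquiv, card_S4]

end Cfsg.Agent.Lib.Helper15.Dk
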