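import Mathlib
import Cfsg.Agent.Lib.Helper15.Dk15
import Cfsg.Agent.Lib.Helper2.InvolutionsSimple

set_option autoImplicit false

open scoped Pointwise

namespace Cfsg.Agent.Lib.Helper15.Dk

open Matrix
open Cfsg.Agent.Lib.Helper14
open Cfsg.Agent.Lib.Helper15

section general
variable {F : Type*} [Field F]

/-- the diagonal character of the Borel subgroup -/
noncomputable def borelSLDiag : borelSL F →* Fˣ where
  toFun g := Units.mkOfMulEqOne _ _ (borelSL_diag g)
  map_one' := by
    apply Units.ext
    simp [Units.mkOfMulEqOne]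
  map_mul' g h := by
    apply Units.ext
    show ((g * h : borelSL F).1 : Matrix (Fin 2) (Fin 2) F) 0 0 =
      (g.1 : Matrix (Fin 2) (Fin 2) F) 0 0 * (h.1 : Matrix (Fin 2) (Fin 2) F) 0 0
    have h1 := borelSL_10 h
    rw [Subgroup.coe_mul, Matrix.SpecialLinearGroup.coe_mul, Matrix.mul_apply, Fin.sum_univ_two, h1, mul_zero,
      add_zero]

theorem isSolvable_borelSL : Group.IsSolvable (borelSL F) := by
  have hk : Group.IsSolvable (borelSLDiag (F := F)).ker := by
    apply Group.isSolvable_of_comm
    rintro ⟨g, hg⟩ ⟨h, hh⟩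
    apply Subtype.ext
    apply Subtype.ext
    apply Subtype.ext
    show ((g * h : borelSL F).1 : Matrix (Fin 2) (Fin 2) F) = ((h * g : borelSL F).1 : Matrix (Fin 2) (Fin 2) F)
    rw [MonoidHom.mem_ker] at hg hh
    have hg0 : (g.1 : Matrix (Fin 2) (Fin 2) F) 0 0 = 1 := by
      have := congrArg Units.val hg
      exact this
    have hh0 : (h.1 : Matrix (Fin 2) (Fin 2) F) 0 0 = 1 := by
      have := congrArg Units.val hh
      exact this
    have hg1 : (g.1 : Matrix (Fin 2) (Fin 2) F) 1 1 = 1 := by
      have := borelSL_diag g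
      rw [hg0, one_mul] at this
      exact this
    have hh1 : (h.1 : Matrix (Fin 2) (Fin 2) F) 1 1 = 1 := by
      have := borelSL_diag h
      rw [hh0, one_mul] at this
      exact this
    have hg10 := borelSL_10 g
    have hh10 := borelSL_10 h
    rw [Subgroup.coe_mul, Subgroup.coe_mul, Matrix.SpecialLinearGroup.coe_mul, Matrix.SpecialLinearGroup.coe_mul]
    apply mat2_ext <;>
      simp [Matrix.mul_apply, Fin.sum_univ_two, hg0, hh0, hg1, hh1, hg10, hh10, add_comm]
  have hF : Group.IsSolvable Fˣ := Group.isSolvable_of_comm mul_comm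
  apply Group.isSolvable_of_ker_le_range (borelSLDiag (F := F)).ker.subtype (borelSLDiag (F := F))
  rw [Subgroup.range_subtype]

theorem isSolvable_Bbar : Group.IsSolvable (Bbar F) := by
  have := isSolvable_borelSL (F := F)
  exact Group.isSolvable_of_surjective (f := (toPSL2 F).subgroupMap (borelSL F))
    (MonoidHom.subgroupMap_surjective _ _)

end general

section finite
variable {F : Type*} [Field F] [Fintype F]

theorem isSolvable_normalizer_sylow (p : ℕ) [Fact p.Prime] [CharP F p]
    (P : Sylow p (ProjectiveSpecialLinearGroup (Fin 2) F)) :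
    Group.IsSolvable (Subgroup.normalizer ((P : Subgroup (ProjectiveSpecialLinearGroup (Fin 2) F)) :
      Set (ProjectiveSpecialLinearGroup (Fin 2) F))) := by
  obtain ⟨c, hc⟩ := MulAction.exists_smul_eq (ProjectiveSpecialLinearGroup (Fin 2) F) (UbarSylow p) P
  have h1 : Subgroup.normalizer ((P : Subgroup (ProjectiveSpecialLinearGroup (Fin 2) F)) :
      Set (ProjectiveSpecialLinearGroup (Fin 2) F)) = MulAut.conj c • Bbar F := by
    rw [← normalizer_Ubar, ← coe_UbarSylow p, ← hc, Sylow.coe_subgroup_smul, normalizer_conj_smul]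
  rw [h1]
  have := isSolvable_Bbar (F := F)
  exact Group.isSolvable_of_surjective (f := (Subgroup.equivSMul (MulAut.conj c) (Bbar F)).toMonoidHom)
    (Subgroup.equivSMul (MulAut.conj c) (Bbar F)).surjective

/-- `PSL₂(F)` is never commutative -/
theorem not_comm_PSL2 : ¬ ∀ a b : ProjectiveSpecialLinearGroup (Fin 2) F, a * b = b * a := by
  intro hc
  have h1 : Bbar F = ⊤ := by
    rw [← normalizer_Ubar]
    ext x
    simp only [Subgroup.mem_top, iff_true]
    rw [Subgroup.mem_normalizer_iff]
    intro h
    rw [hc x h, mul_inv_cancel_right]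
  have h2 := index_Bbar (F := F)
  rw [h1, Subgroup.index_top] at h2
  have : 1 < Fintype.card F := Fintype.one_lt_card
  omega

theorem not_isSolvable_PSL2 (hq : 4 ≤ Fintype.card F) :
    ¬ Group.IsSolvable (ProjectiveSpecialLinearGroup (Fin 2) F) := by
  intro h
  have hs : IsSimpleGroup (ProjectiveSpecialLinearGroup (Fin 2) F) :=
    Matrix.ProjectiveSpecialLinearGroup.rank_two_simple (by rw [Nat.card_eq_fintype_card]; exact hq)
  exact not_comm_PSL2 (IsSimpleGroup.comm_iff_isSolvable.2 h)

omit [Field F] [Fintype F] in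
theorem not_isSolvable_A5 : ¬ Group.IsSolvable (alternatingGroup (Fin 5)) := by
  intro h
  have := alternatingGroup.isSimpleGroup_five
  have h1 := Cfsg.Agent.Lib.Helper2.prime_card_of_simple_of_solvable h
  rw [card_A5] at h1
  norm_num at h1

end finite

end Cfsg.Agent.Lib.Helper15.Dk
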