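import Mathlib
import Cfsg.Agent.Lib.Helper15.Dk15

set_option autoImplicit false

namespace Cfsg.Agent.Lib.Helper15.Dk

/-- the arithmetic condition of the minimal simple `PSL₂(q)` -/
def MinCond (q : ℕ) : Prop :=
  (∃ r : ℕ, r.Prime ∧ q = 2 ^ r) ∨ (∃ r : ℕ, r.Prime ∧ r ≠ 2 ∧ q = 3 ^ r) ∨
    (q.Prime ∧ 5 < q ∧ (q % 5 = 2 ∨ q % 5 = 3)) ∨ q = 5

theorem MinCond.shape {q : ℕ} (h : MinCond q) :
    ∃ ℓ r : ℕ, ℓ.Prime ∧ (r = 1 ∨ r.Prime) ∧ q = ℓ ^ r ∧ (r ≠ 1 → ℓ ≤ 3) ∧ 4 ≤ q := by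
  rcases h with ⟨r, hr, rfl⟩ | ⟨r, hr, -, rfl⟩ | ⟨hq, h5, -⟩ | rfl
  · refine ⟨2, r, Nat.prime_two, Or.inr hr, rfl, fun _ => by norm_num, ?_⟩
    calc 4 = 2 ^ 2 := by norm_num
      _ ≤ 2 ^ r := Nat.pow_le_pow_right (by norm_num) hr.two_le
  · refine ⟨3, r, Nat.prime_three, Or.inr hr, rfl, fun _ => le_refl _, ?_⟩
    calc 4 ≤ 3 ^ 2 := by norm_num
      _ ≤ 3 ^ r := Nat.pow_le_pow_right (by norm_num) hr.two_le
  · exact ⟨q, 1, hq, Or.inl rfl, (pow_one q).symm, fun h => (h rfl).elim, by omega⟩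
  · exact ⟨5, 1, by norm_num, Or.inl rfl, by norm_num, fun h => (h rfl).elim, by norm_num⟩

theorem root_of_shape {q ℓ r k m : ℕ} (hℓ : ℓ.Prime) (hr : r = 1 ∨ r.Prime) (hq : q = ℓ ^ r)
    (hk : 2 ≤ k) (hkm : k ^ m = q) : k = q ∨ (k = ℓ ∧ r ≠ 1) := by
  have hq2 : 2 ≤ q := by
    rw [hq]
    have hr0 : r ≠ 0 := by
      rcases hr with rfl | hr
      · norm_num
      · exact hr.ne_zero
    calc 2 ≤ ℓ := hℓ.two_le
      _ = ℓ ^ 1 := (pow_one ℓ).symm
      _ ≤ ℓ ^ r := Nat.pow_le_pow_right hℓ.pos (by omega)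
  have hm0 : m ≠ 0 := by
    rintro rfl
    rw [pow_zero] at hkm
    omega
  have hdvd : k ∣ ℓ ^ r := by
    rw [← hq, ← hkm]
    exact dvd_pow_self k hm0
  obtain ⟨j, hj, rfl⟩ := (Nat.dvd_prime_pow hℓ).1 hdvd
  have hj0 : j ≠ 0 := by
    rintro rfl
    rw [pow_zero] at hk
    omega
  rw [hq, ← pow_mul] at hkm
  have hjm : j * m = r := Nat.pow_right_injective hℓ.two_le hkm
  rcases hr with rfl | hr
  · left
    have : j = 1 := Nat.eq_one_of_mul_eq_one_right hjm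
    rw [hq, this]
  · have hjd : j ∣ r := ⟨m, hjm.symm⟩
    rcases (Nat.dvd_prime hr).1 hjd with h | h
    · right
      rw [h, pow_one]
      exact ⟨rfl, hr.one_lt.ne'⟩
    · left
      rw [hq, h]

theorem pow4_mod5 (j : ℕ) : 4 ^ (2 * j + 1) % 5 = 4 := by
  rw [pow_succ, pow_mul, Nat.mul_mod, Nat.pow_mod]
  norm_num

theorem pow9_mod5 (j : ℕ) : 9 ^ (2 * j + 1) % 5 = 4 := by
  rw [pow_succ, pow_mul, Nat.mul_mod, Nat.pow_mod]
  norm_num

theorem not_five_dvd_of_sq_mod {q : ℕ} (h5 : ¬ 5 ∣ q) (h : q ^ 2 % 5 = 4) : ¬ 5 ∣ q * (q ^ 2 - 1) := by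
  intro hd
  rcases (Nat.Prime.dvd_mul (by norm_num : Nat.Prime 5)).1 hd with h' | h'
  · exact h5 h'
  · have h1 : 1 ≤ q ^ 2 := by
      rcases Nat.eq_zero_or_pos (q ^ 2) with h0 | h0
      · rw [h0] at h; norm_num at h
      · exact h0
    generalize q ^ 2 = x at *
    omega

theorem MinCond.five {q : ℕ} (h : MinCond q) : q = 4 ∨ q = 5 ∨ ¬ 5 ∣ q * (q ^ 2 - 1) := by
  rcases h with ⟨r, hr, rfl⟩ | ⟨r, hr, hr2, rfl⟩ | ⟨hq, h5, hmod⟩ | rfl
  · rcases hr.eq_two_or_odd with h2 | hodd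
    · left; rw [h2]; norm_num
    · right; right
      obtain ⟨j, hj⟩ : ∃ j, r = 2 * j + 1 := ⟨r / 2, by omega⟩
      apply not_five_dvd_of_sq_mod
      · intro hd
        have := (Nat.prime_dvd_prime_iff_eq (by norm_num : Nat.Prime 5) Nat.prime_two).1
          ((by norm_num : Nat.Prime 5).dvd_of_dvd_pow hd)
        omega
      · rw [pow_right_comm, hj]
        exact pow4_mod5 j
  · rcases hr.eq_two_or_odd with h2 | hodd
    · exact (hr2 h2).elim
    · right; right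
      obtain ⟨j, hj⟩ : ∃ j, r = 2 * j + 1 := ⟨r / 2, by omega⟩
      apply not_five_dvd_of_sq_mod
      · intro hd
        have := (Nat.prime_dvd_prime_iff_eq (by norm_num : Nat.Prime 5) Nat.prime_three).1
          ((by norm_num : Nat.Prime 5).dvd_of_dvd_pow hd)
        omega
      · rw [pow_right_comm, hj]
        exact pow9_mod5 j
  · right; right
    apply not_five_dvd_of_sq_mod
    · intro hd; omega
    · rw [Nat.pow_mod]
      rcases hmod with h | h <;> rw [h]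
  · right; left; rfl

theorem minCond_of {p n q : ℕ} (hp : p.Prime) (hn : 1 ≤ n) (hq : q = p ^ n) (hq4 : 4 ≤ q)
    (hA : ∀ m, m ∣ n → m < n → p ^ m ≤ 3) (hB : 5 ∣ q * (q ^ 2 - 1) → q = 4 ∨ q = 5) : MinCond q := by
  rcases Nat.eq_or_lt_of_le hn with h1 | h1
  · -- `q` prime
    rw [← h1, pow_one] at hq
    subst hq
    by_cases h5 : q = 5
    · right; right; right; exact h5
    right; right; left
    have hq5 : 5 < q := by
      have : q ≠ 4 := by rintro rfl; norm_num at hp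
      omega
    refine ⟨hp, hq5, ?_⟩
    by_contra hmod
    have h0 : q % 5 ≠ 0 := by
      intro h0
      have := (Nat.prime_dvd_prime_iff_eq (by norm_num : Nat.Prime 5) hp).1 (Nat.dvd_of_mod_eq_zero h0)
      omega
    have h14 : q % 5 = 1 ∨ q % 5 = 4 := by omega
    have hsq : q ^ 2 % 5 = 1 := by
      rw [Nat.pow_mod]
      rcases h14 with h | h <;> rw [h]
    have hd : 5 ∣ q * (q ^ 2 - 1) := by
      apply Dvd.dvd.mul_left
      have h1 : 1 ≤ q ^ 2 := Nat.one_le_pow _ _ (by omega)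
      generalize q ^ 2 = x at *
      omega
    rcases hB hd with h | h <;> omega
  · have hp3 : p ≤ 3 := by
      have := hA 1 (one_dvd n) h1
      rwa [pow_one] at this
    have hnp : n.Prime := by
      rw [Nat.prime_def]
      refine ⟨h1, ?_⟩
      intro m hm
      by_cases hmn : m = n
      · right; exact hmn
      left
      have hm0 : m ≠ 0 := by
        rintro rfl
        rw [zero_dvd_iff] at hm
        omega
      have hlt : m < n := lt_of_le_of_ne (Nat.le_of_dvd (by omega) hm) hmn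
      have h3 := hA m hm hlt
      by_contra hm1
      have hm2 : 2 ≤ m := by omega
      have : 4 ≤ p ^ m := by
        calc 4 = 2 ^ 2 := by norm_num
          _ ≤ p ^ 2 := Nat.pow_le_pow_left hp.two_le 2
          _ ≤ p ^ m := Nat.pow_le_pow_right hp.pos hm2
      omega
    have hp23 : p = 2 ∨ p = 3 := by
      have := hp.two_le
      omega
    rcases hp23 with rfl | rfl
    · left; exact ⟨n, hnp, hq⟩
    · right; left
      refine ⟨n, hnp, ?_, hq⟩
      rintro rfl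
      have hq9 : q = 9 := by rw [hq]; norm_num
      have : 5 ∣ q * (q ^ 2 - 1) := by rw [hq9]; norm_num
      rcases hB this with h | h <;> omega

end Cfsg.Agent.Lib.Helper15.Dk
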