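import Mathlib
import Cfsg.Agent.Lib.Helper15.Dk15
import Cfsg.Agent.Lib.Helper15.Dk16a
import Cfsg.Agent.Lib.Helper15.Dk16b
import Cfsg.Agent.Lib.Helper16.FieldEmbed
import Cfsg.Agent.S0144
import Cfsg.Agent.S0804

set_option autoImplicit false

namespace Cfsg.Agent.Lib.Helper15.Dk

open Matrix
open Cfsg.Agent.Lib.Helper14
open Cfsg.Agent.Lib.Helper15

theorem ar_subfield (k q g dK d : ℕ) (hk : 2 ≤ k) (hkq : k ^ 2 ≤ q) (h1 : g * dK = k * (k ^ 2 - 1))
    (h2 : g * d = q * (q ^ 2 - 1)) (hd : d ≤ 2) (hdK : 1 ≤ dK) : False := by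
  obtain ⟨t, ht⟩ : ∃ t, k ^ 2 = t + 1 := ⟨k ^ 2 - 1, by have : 1 ≤ k ^ 2 := Nat.one_le_pow _ _ (by omega); omega⟩
  have hq1 : 4 ≤ q := by nlinarith
  obtain ⟨s, hs⟩ : ∃ s, q ^ 2 = s + 1 := ⟨q ^ 2 - 1, by have : 1 ≤ q ^ 2 := Nat.one_le_pow _ _ (by omega); omega⟩
  rw [ht, Nat.add_sub_cancel] at h1
  rw [hs, Nat.add_sub_cancel] at h2
  have h3 : q * s ≤ 2 * (k * t) := by
    rw [← h1, ← h2]
    nlinarith
  have h4 : t < q := by omega
  have h5 : k ≤ q := by nlinarith
  have h6 : 2 * q ≤ s := by nlinarith
  have h7 : 2 * (k * t) < q * s := by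
    calc 2 * (k * t) < 2 * (k * q) := by
          apply Nat.mul_lt_mul_of_pos_left _ (by norm_num)
          exact Nat.mul_lt_mul_of_pos_left h4 (by omega)
      _ = q * (2 * k) := by ring
      _ ≤ q * s := Nat.mul_le_mul_left q (by omega)
  omega

theorem ar_sixty (q d : ℕ) (hq : 4 ≤ q) (hd : d = Nat.gcd 2 (q - 1)) (h : 60 * d = q * (q ^ 2 - 1)) :
    q = 4 ∨ q = 5 := by
  have hd2 : d ≤ 2 := by
    rw [hd]; exact Nat.le_of_dvd (by norm_num) (Nat.gcd_dvd_left _ _)
  have hq5 : q ≤ 5 := by
    by_contra hlt
    have h6 : 6 ≤ q := by omega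
    have h36 : 36 ≤ q ^ 2 := by nlinarith
    have h35 : 35 ≤ q ^ 2 - 1 := by omega
    have : 6 * 35 ≤ q * (q ^ 2 - 1) := Nat.mul_le_mul h6 h35
    omega
  omega


theorem isSolvable_of_card_6_12_24 {G : Type*} [Group G] [Finite G]
    (h : Nat.card G = 6 ∨ Nat.card G = 12 ∨ Nat.card G = 24) : Group.IsSolvable G := by
  rcases h with h | h | h
  · exact Cfsg.Agent.S0144.result 2 3 1 1 Nat.prime_two Nat.prime_three (by rw [h]; norm_num)
  · exact Cfsg.Agent.S0144.result 2 3 2 1 Nat.prime_two Nat.prime_three (by rw [h]; norm_num)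
  · exact Cfsg.Agent.S0144.result 2 3 3 1 Nat.prime_two Nat.prime_three (by rw [h]; norm_num)

variable {F : Type*} [Field F] [Fintype F]

/-- `PSL₂(q)` minimal simple: the criterion -/
theorem minimalSimple_PSL2_iff :
    Cfsg.IsMinimalSimple (ProjectiveSpecialLinearGroup (Fin 2) F) ↔ MinCond (Fintype.card F) := by
  obtain ⟨p, hp⟩ := CharP.exists F
  have hpr : Fact p.Prime := ⟨CharP.char_is_prime F p⟩
  obtain ⟨n, -, hn⟩ := FiniteField.card F p
  have hd := card_center_eq_gcd (F := F)
  have hG := card_PSL2_mul (F := F)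
  have hq1 : 1 < Fintype.card F := Fintype.one_lt_card
  set q := Fintype.card F with hqdef
  set d := Nat.card (Subgroup.center (SpecialLinearGroup (Fin 2) F)) with hddef
  have hd2 : d ≤ 2 := by
    rw [hd]; exact Nat.le_of_dvd (by norm_num) (Nat.gcd_dvd_left _ _)
  have hd1 : 1 ≤ d := Nat.card_pos
  constructor
  · rintro ⟨hs, hnc, hsub⟩
    have hq4 : 4 ≤ q := by
      by_contra hlt
      have hq23 : q = 2 ∨ q = 3 := by omega
      have hsol : Group.IsSolvable (ProjectiveSpecialLinearGroup (Fin 2) F) := by
        apply isSolvable_of_card_6_12_24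
        rcases hq23 with h | h
        · left
          rw [h] at hd hG
          have : d = 1 := by rw [hd]; norm_num
          rw [this] at hG
          omega
        · right; left
          rw [h] at hd hG
          have : d = 2 := by rw [hd]; norm_num
          rw [this] at hG
          omega
      exact hnc ⟨⟨IsSimpleGroup.comm_iff_isSolvable.2 hsol⟩⟩
    apply minCond_of hpr.out n.pos hn hq4
    · intro m hm hlt
      by_contra hcon
      have hk4 : 4 ≤ p ^ m := by omega
      have hm0 : m ≠ 0 := by
        rintro rfl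
        rw [zero_dvd_iff] at hm
        have := n.pos
        omega
      let K := GaloisField p m
      let _ : Fintype K := Fintype.ofFinite K
      have hKc : Fintype.card K = p ^ m := by
        rw [← Nat.card_eq_fintype_card]; exact GaloisField.card p m hm0
      obtain ⟨c, hc⟩ := hm
      have hc2 : 2 ≤ c := by
        by_contra h
        have : c = 0 ∨ c = 1 := by omega
        rcases this with rfl | rfl
        · rw [mul_zero] at hc
          have := n.pos
          omega
        · rw [mul_one] at hc
          omega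
      have hqk : q = (p ^ m) ^ c := by rw [hn, hc, pow_mul]
      obtain ⟨f⟩ := Cfsg.Agent.Lib.Helper16.exists_ringHom_of_card_pow (F := K) (K := F) (q := p ^ m)
        (n := c) (by omega) hKc hqk
      obtain ⟨H, ⟨e⟩⟩ := exists_PSL2_subfield f
      have hne : H ≠ ⊤ := by
        intro htop
        have hcardH : Nat.card H = Nat.card (ProjectiveSpecialLinearGroup (Fin 2) F) := by
          rw [htop, Subgroup.card_top]
        have h1 := card_PSL2_mul (F := K)
        rw [← Nat.card_congr e.toEquiv, hcardH, hKc] at h1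
        have hkq : (p ^ m) ^ 2 ≤ q := by
          rw [hqk]
          exact Nat.pow_le_pow_right (by omega) hc2
        exact ar_subfield (p ^ m) q _ _ d (by omega) hkq h1 hG hd2 Nat.card_pos
      have hsolH := hsub H hne
      have hsolK : Group.IsSolvable (ProjectiveSpecialLinearGroup (Fin 2) K) :=
        Group.isSolvable_of_surjective (f := e.toMonoidHom) e.surjective
      exact not_isSolvable_PSL2 (F := K) (by rw [hKc]; exact hk4) hsolK
    · intro h5
      obtain ⟨H, ⟨e⟩⟩ := (Cfsg.Agent.S0804.result (F := F) (q := q) rfl).2 h5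
      have hH60 : Nat.card H = 60 := by rw [Nat.card_congr e.toEquiv, card_A5]
      by_cases htop : H = ⊤
      · rw [htop, Subgroup.card_top] at hH60
        rw [hH60] at hG
        exact ar_sixty q d hq4 hd hG
      · exfalso
        have hsolH := hsub H htop
        have : Group.IsSolvable (alternatingGroup (Fin 5)) :=
          Group.isSolvable_of_surjective (f := e.toMonoidHom) e.surjective
        exact not_isSolvable_A5 this
  · intro hcond
    obtain ⟨ℓ, r, hℓ, hr, hqℓ, hℓ3, hq4⟩ := hcond.shape
    refine ⟨Matrix.ProjectiveSpecialLinearGroup.rank_two_simple (by rw [Nat.card_eq_fintype_card]; exact hq4),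
      fun h => not_comm_PSL2 (F := F) (fun a b => h.is_comm.comm a b), ?_⟩
    intro H hH
    have hHlt : Nat.card H ≠ Nat.card (ProjectiveSpecialLinearGroup (Fin 2) F) := by
      intro h
      exact hH ((Subgroup.card_eq_iff_eq_top H).1 h)
    rcases dickson p H with ⟨k, hk, h⟩ | ⟨P, K, hK, ⟨e'⟩⟩ | ⟨⟨e'⟩⟩ | ⟨⟨e'⟩⟩ | ⟨⟨e'⟩⟩ | ⟨K, i1, i2, m, hm', h⟩
    · rcases h with ⟨hc, -⟩ | ⟨⟨e'⟩⟩
      · exact Group.isSolvable_of_comm (fun a b => mul_comm_of_isCyclic a b)
      · have := isSolvable_dihedral k
        exact Group.isSolvable_of_surjective (f := e'.symm.toMonoidHom) e'.symm.surjective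
    · have h1 := isSolvable_normalizer_sylow p P
      have h2 : Group.IsSolvable K :=
        Group.isSolvable_of_isSolvable_injective (f := Subgroup.inclusion hK) (Subgroup.inclusion_injective hK)
      exact Group.isSolvable_of_surjective (f := e'.symm.toMonoidHom) e'.symm.surjective
    · apply isSolvable_of_card_6_12_24
      right; left
      rw [Nat.card_congr e'.toEquiv, card_A4]
    · apply isSolvable_of_card_6_12_24
      right; right
      rw [Nat.card_congr e'.toEquiv, card_S4]
    · exfalso
      have hH60 : Nat.card H = 60 := by rw [Nat.card_congr e'.toEquiv, card_A5]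
      have hdvd : 60 ∣ Nat.card (ProjectiveSpecialLinearGroup (Fin 2) F) := by
        rw [← hH60]; exact Subgroup.card_subgroup_dvd_card H
      rcases hcond.five with h4 | h5 | h5
      · apply hHlt
        rw [hH60]
        rw [h4] at hd hG
        have : d = 1 := by rw [hd]; norm_num
        rw [this] at hG
        omega
      · apply hHlt
        rw [hH60]
        rw [h5] at hd hG
        have : d = 2 := by rw [hd]; norm_num
        rw [this] at hG
        omega
      · apply h5
        rw [← hG]
        exact Dvd.dvd.mul_right ((by norm_num : 5 ∣ 60).trans hdvd) _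
    · have hm'' : Fintype.card K ^ m = q := hm'
      have hK1 : 1 < Fintype.card K := Fintype.one_lt_card
      have hGK := card_PSL2_mul (F := K)
      have hdK := card_center_eq_gcd (F := K)
      rcases root_of_shape hℓ hr hqℓ (by omega) hm'' with hkq | ⟨hkℓ, hr1⟩
      · exfalso
        rcases h with ⟨⟨e'⟩⟩ | ⟨⟨e'⟩⟩
        · apply hHlt
          rw [hkq] at hGK hdK
          rw [hdK, ← hd, ← hG, ← Nat.card_congr e'.toEquiv] at hGK
          exact Nat.eq_of_mul_eq_mul_right hd1 hGK
        · have h1 : Nat.card H = q * (q ^ 2 - 1) := by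
            rw [Nat.card_congr e'.toEquiv, card_PGL2, hkq]
          rw [← hG] at h1
          have h2 := Subgroup.card_le_card_group H
          apply hHlt
          have h3 : Nat.card (ProjectiveSpecialLinearGroup (Fin 2) F) ≤ Nat.card H := by
            rw [h1]; exact Nat.le_mul_of_pos_right _ hd1
          omega
      · have hk3 : Fintype.card K ≤ 3 := by rw [hkℓ]; exact hℓ3 hr1
        have hk23 : Fintype.card K = 2 ∨ Fintype.card K = 3 := by omega
        apply isSolvable_of_card_6_12_24
        rcases h with ⟨⟨e'⟩⟩ | ⟨⟨e'⟩⟩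
        · rw [Nat.card_congr e'.toEquiv]
          rcases hk23 with h | h
          · left
            rw [h] at hdK hGK
            have : Nat.card (Subgroup.center (SpecialLinearGroup (Fin 2) K)) = 1 := by rw [hdK]; norm_num
            rw [this] at hGK
            omega
          · right; left
            rw [h] at hdK hGK
            have : Nat.card (Subgroup.center (SpecialLinearGroup (Fin 2) K)) = 2 := by rw [hdK]; norm_num
            rw [this] at hGK
            omega
        · rw [Nat.card_congr e'.toEquiv, card_PGL2]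
          rcases hk23 with h | h
          · left; rw [h]; norm_num
          · right; right; rw [h]; norm_num

end Cfsg.Agent.Lib.Helper15.Dk
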