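import Mathlib
import Cfsg.Agent.Lib.Helper15.Dk16

/-!
# Dickson project, part 17: tools for maximality proofs via Dickson's theorem
-/

set_option autoImplicit false

open scoped Pointwise

namespace Cfsg.Agent.Lib.Helper15.Dk

open Matrix
open Cfsg.Agent.Lib.Helper14
open Cfsg.Agent.Lib.Helper15

/-- all squares commute in a dihedral group -/
theorem dihedral_sq_comm (n : ℕ) (x y : DihedralGroup n) : x * x * (y * y) = y * y * (x * x) := by
  rcases x with i | i <;> rcases y with j | j
  · rw [DihedralGroup.r_mul_r, DihedralGroup.r_mul_r, DihedralGroup.r_mul_r, DihedralGroup.r_mul_r, add_comm]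
  · rw [DihedralGroup.sr_mul_sr, sub_self, DihedralGroup.r_mul_r, DihedralGroup.r_mul_r, DihedralGroup.r_mul_r,
      add_comm]
  · rw [DihedralGroup.sr_mul_sr, sub_self, DihedralGroup.r_mul_r, DihedralGroup.r_mul_r, DihedralGroup.r_mul_r,
      add_comm]
  · rw [DihedralGroup.sr_mul_sr, DihedralGroup.sr_mul_sr, sub_self, sub_self]

/-- two non-commuting squares in `A₄` -/
theorem exists_sq_not_comm_A4 : ∃ x y : alternatingGroup (Fin 4), x * x * (y * y) ≠ y * y * (x * x) := by
  refine ⟨⟨c[0, 1, 2], by rw [Equiv.Perm.mem_alternatingGroup]; decide⟩,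
    ⟨c[0, 1, 3], by rw [Equiv.Perm.mem_alternatingGroup]; decide⟩, ?_⟩
  intro h
  have h' := congrArg (fun z : alternatingGroup (Fin 4) => (z : Equiv.Perm (Fin 4)) 0) h
  revert h'
  decide

theorem exists_sq_not_comm_S4 : ∃ x y : Equiv.Perm (Fin 4), x * x * (y * y) ≠ y * y * (x * x) := by
  refine ⟨c[0, 1, 2], c[0, 1, 3], ?_⟩
  decide

theorem pow_dvd_arith (a e j : ℕ) (ha : 3 ≤ a) (he : 1 ≤ e) (h : a ^ e - 1 ∣ 2 * (a ^ j - 1)) : e ∣ j := by
  have h1 : a ^ e - 1 ∣ 2 * (a ^ e - 1) := Dvd.intro_left _ rfl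
  have h2 := Nat.dvd_gcd h h1
  rw [Nat.gcd_mul_left, Nat.pow_sub_one_gcd_pow_sub_one] at h2
  set g := Nat.gcd j e with hg
  have hge : g ∣ e := Nat.gcd_dvd_right j e
  have hgj : g ∣ j := Nat.gcd_dvd_left j e
  by_cases hcase : g = e
  · rw [← hcase]; exact hgj
  exfalso
  obtain ⟨c, hc⟩ := hge
  have hg0 : g ≠ 0 := by
    rintro h0
    rw [h0, zero_mul] at hc
    omega
  have hc2 : 2 ≤ c := by
    by_contra hlt
    have : c = 0 ∨ c = 1 := by omega
    rcases this with rfl | rfl
    · omega
    · rw [mul_one] at hc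
      exact hcase hc.symm
  have hag : 3 ≤ a ^ g := by
    calc 3 ≤ a := ha
      _ = a ^ 1 := (pow_one a).symm
      _ ≤ a ^ g := Nat.pow_le_pow_right (by omega) (by omega)
  have h3 : (a ^ g) ^ 2 ≤ a ^ e := by
    rw [hc, pow_mul]
    exact Nat.pow_le_pow_right (by omega) hc2
  have hpos : 0 < 2 * (a ^ g - 1) := by omega
  have h4 := Nat.le_of_dvd hpos h2
  have h5 : 3 * a ^ g ≤ a ^ e := by
    calc 3 * a ^ g ≤ a ^ g * a ^ g := Nat.mul_le_mul_right _ hag
      _ = (a ^ g) ^ 2 := (sq _).symm
      _ ≤ a ^ e := h3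
  omega


variable {F : Type*} [Field F] [Fintype F]

/-- numerical and structural consequences of Dickson's theorem for a subgroup `L` -/
theorem dickson_facts (p : ℕ) [Fact p.Prime] [CharP F p]
    (L : Subgroup (ProjectiveSpecialLinearGroup (Fin 2) F)) :
    (Group.IsSolvable L ∧ (∀ x y : L, x * x * (y * y) = y * y * (x * x)) ∧
      (Nat.card L ∣ 2 * (Fintype.card F + 1) ∨ Nat.card L ∣ 2 * (Fintype.card F - 1))) ∨
    (Group.IsSolvable L ∧ (∀ x y : L, ∃ n : ℕ, (x * y * x⁻¹ * y⁻¹) ^ (p ^ n) = 1) ∧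
      Nat.card L * Nat.card (Subgroup.center (SpecialLinearGroup (Fin 2) F)) ∣
        Fintype.card F * (Fintype.card F - 1)) ∨
    Nonempty (L ≃* alternatingGroup (Fin 4)) ∨ Nonempty (L ≃* Equiv.Perm (Fin 4)) ∨
    Nonempty (L ≃* alternatingGroup (Fin 5)) ∨
    (∃ (K : Type) (_ : Field K) (_ : Fintype K) (m : ℕ), Fintype.card K ^ m = Fintype.card F ∧
      (Nonempty (L ≃* ProjectiveSpecialLinearGroup (Fin 2) K) ∨
        Nonempty (L ≃* ProjGenLinGroup (Fin 2) K))) := by
  have hq1 : 1 < Fintype.card F := Fintype.one_lt_card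
  rcases dickson p L with ⟨k, hk, h⟩ | ⟨P, K, hK, ⟨e'⟩⟩ | h | h | h | h
  · left
    have hd1 : Nat.gcd 2 (Fintype.card F - 1) ∣ Fintype.card F - 1 := Nat.gcd_dvd_right _ _
    have hd2 : Nat.gcd 2 (Fintype.card F - 1) ∣ Fintype.card F + 1 := by
      have h2 : Nat.gcd 2 (Fintype.card F - 1) ∣ 2 := Nat.gcd_dvd_left _ _
      have h3 : Fintype.card F + 1 = (Fintype.card F - 1) + 2 := by omega
      rw [h3]
      exact Nat.dvd_add hd1 h2
    have hk' : k ∣ Fintype.card F + 1 ∨ k ∣ Fintype.card F - 1 := by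
      rcases hk with hk | hk
      · left; exact hk.trans (Nat.div_dvd_of_dvd hd2)
      · right; exact hk.trans (Nat.div_dvd_of_dvd hd1)
    rcases h with ⟨hc, hcard⟩ | ⟨⟨e'⟩⟩
    · refine ⟨Group.isSolvable_of_comm (fun a b => mul_comm_of_isCyclic a b), ?_, ?_⟩
      · intro x y
        exact mul_comm_of_isCyclic _ _
      · rw [hcard]
        rcases hk' with hk' | hk'
        · left; exact Dvd.dvd.mul_left hk' 2
        · right; exact Dvd.dvd.mul_left hk' 2
    · have := isSolvable_dihedral k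
      refine ⟨Group.isSolvable_of_surjective (f := e'.symm.toMonoidHom) e'.symm.surjective, ?_, ?_⟩
      · intro x y
        apply e'.injective
        rw [map_mul, map_mul, map_mul, map_mul, map_mul, map_mul]
        exact dihedral_sq_comm k _ _
      · rw [Nat.card_congr e'.toEquiv, DihedralGroup.nat_card]
        rcases hk' with hk' | hk'
        · left; exact Nat.mul_dvd_mul_left 2 hk'
        · right; exact Nat.mul_dvd_mul_left 2 hk'
  · right; left
    have h1 := isSolvable_normalizer_sylow p P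
    have h2 : Group.IsSolvable K :=
      Group.isSolvable_of_isSolvable_injective (f := Subgroup.inclusion hK) (Subgroup.inclusion_injective hK)
    refine ⟨Group.isSolvable_of_surjective (f := e'.symm.toMonoidHom) e'.symm.surjective, ?_, ?_⟩
    · intro x y
      have hmem := commutator_mem_sylow p P (e' x : ProjectiveSpecialLinearGroup (Fin 2) F) (e' y)
        (hK (e' x).2) (hK (e' y).2)
      obtain ⟨n, hn⟩ := P.2 ⟨_, hmem⟩
      refine ⟨n, ?_⟩
      apply e'.injective
      apply Subtype.ext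
      have hn' := congrArg (fun z : (P : Subgroup (ProjectiveSpecialLinearGroup (Fin 2) F)) =>
        (z : ProjectiveSpecialLinearGroup (Fin 2) F)) hn
      simp only [Subgroup.coe_pow, Subgroup.coe_one] at hn'
      rw [map_pow, map_mul, map_mul, map_mul, map_inv, map_inv, Subgroup.coe_pow, map_one, Subgroup.coe_one]
      exact hn'
    · have hN := card_normalizer_sylow_mul p P
      rw [← hN, Nat.card_congr e'.toEquiv]
      exact Nat.mul_dvd_mul_right (Subgroup.card_dvd_of_le hK) _
  · right; right; left; exact h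
  · right; right; right; left; exact h
  · right; right; right; right; left; exact h
  · right; right; right; right; right; exact h


omit [Field F] [Fintype F] in
/-- a criterion for maximality in a finite group -/
theorem isCoatom_of_forall {G : Type*} [Group G] [Finite G] (H : Subgroup G)
    (hH : Nat.card H < Nat.card G)
    (h : ∀ L : Subgroup G, H ≤ L → Nat.card H < Nat.card L → Nat.card L < Nat.card G →
      Nat.card H ∣ Nat.card L → False) : IsCoatom H := by
  constructor
  · intro htop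
    rw [htop, Subgroup.card_top] at hH
    exact lt_irrefl _ hH
  · intro L hL
    by_contra hLtop
    have h1 : Nat.card L < Nat.card G := by
      have h2 := Subgroup.card_le_card_group L
      rcases Nat.eq_or_lt_of_le h2 with h3 | h3
      · exact (hLtop ((Subgroup.card_eq_iff_eq_top L).1 h3)).elim
      · exact h3
    have h2 : Nat.card H < Nat.card L := by
      have h3 := Subgroup.card_le_of_le hL.le
      rcases Nat.eq_or_lt_of_le h3 with h4 | h4
      · exfalso
        have := Subgroup.eq_of_le_of_card_ge hL.le h4.symm.le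
        exact hL.ne this
      · exact h4
    exact h L hL.le h2 h1 (Subgroup.card_dvd_of_le hL.le)

omit [Field F] [Fintype F] in
theorem sq_comm_of_le {G X : Type*} [Group G] [Group X] {H L : Subgroup G} (hHL : H ≤ L)
    (hsq : ∀ x y : L, x * x * (y * y) = y * y * (x * x)) (e : H ≃* X) (a b : X) :
    a * a * (b * b) = b * b * (a * a) := by
  have h1 := hsq ⟨(e.symm a : G), hHL (e.symm a).2⟩ ⟨(e.symm b : G), hHL (e.symm b).2⟩
  have h2 : (e.symm a : G) * (e.symm a : G) * ((e.symm b : G) * (e.symm b : G)) =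
      (e.symm b : G) * (e.symm b : G) * ((e.symm a : G) * (e.symm a : G)) :=
    congrArg (fun z : L => (z : G)) h1
  have h3 : e.symm a * e.symm a * (e.symm b * e.symm b) = e.symm b * e.symm b * (e.symm a * e.symm a) :=
    Subtype.ext h2
  have h4 := congrArg e h3
  simpa using h4

omit [Field F] [Fintype F] in
theorem comm_of_le_of_commutator_pow {G X : Type*} [Group G] [Finite G] [Group X] (p : ℕ)
    {H L : Subgroup G} (hHL : H ≤ L)
    (hcomm : ∀ x y : L, ∃ n : ℕ, (x * y * x⁻¹ * y⁻¹) ^ (p ^ n) = 1)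
    (hcop : Nat.Coprime p (Nat.card H)) (e : H ≃* X) (a b : X) : a * b = b * a := by
  obtain ⟨n, hn⟩ := hcomm ⟨(e.symm a : G), hHL (e.symm a).2⟩ ⟨(e.symm b : G), hHL (e.symm b).2⟩
  have h2 : ((e.symm a : G) * (e.symm b : G) * (e.symm a : G)⁻¹ * (e.symm b : G)⁻¹) ^ (p ^ n) = 1 :=
    congrArg (fun z : L => (z : G)) hn
  set c : H := e.symm a * e.symm b * (e.symm a)⁻¹ * (e.symm b)⁻¹ with hc
  have h3 : c ^ (p ^ n) = 1 := Subtype.ext (by simpa [hc] using h2)
  have h4 : orderOf c ∣ p ^ n := orderOf_dvd_of_pow_eq_one h3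
  have h5 : orderOf c ∣ Nat.card H := orderOf_dvd_natCard c
  have h6 : orderOf c = 1 := Nat.eq_one_of_dvd_coprimes (Nat.Coprime.pow_left n hcop) h4 h5
  have h7 : c = 1 := orderOf_eq_one_iff.1 h6
  have h8 : e.symm a * e.symm b = e.symm b * e.symm a := by
    have : c * (e.symm b * e.symm a) = e.symm a * e.symm b := by rw [hc]; group
    rw [← this, h7, one_mul]
  have h9 := congrArg e h8
  simpa using h9

/-- a subfield-type subgroup over a field of the same size is everything -/
theorem card_le_of_subfield_top (K : Type*) [Field K] [Fintype K] (hK : Fintype.card K = Fintype.card F)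
    (L : Subgroup (ProjectiveSpecialLinearGroup (Fin 2) F))
    (h : Nonempty (L ≃* ProjectiveSpecialLinearGroup (Fin 2) K) ∨ Nonempty (L ≃* ProjGenLinGroup (Fin 2) K)) :
    Nat.card (ProjectiveSpecialLinearGroup (Fin 2) F) ≤ Nat.card L := by
  have hG := card_PSL2_mul (F := F)
  have hd := card_center_eq_gcd (F := F)
  have hd1 : 1 ≤ Nat.card (Subgroup.center (SpecialLinearGroup (Fin 2) F)) := Nat.card_pos
  rcases h with ⟨⟨e⟩⟩ | ⟨⟨e⟩⟩
  · have hGK := card_PSL2_mul (F := K)
    have hdK := card_center_eq_gcd (F := K)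
    rw [hK] at hGK hdK
    rw [hdK, ← hd, ← hG, ← Nat.card_congr e.toEquiv] at hGK
    exact (Nat.eq_of_mul_eq_mul_right hd1 hGK).ge
  · rw [Nat.card_congr e.toEquiv, card_PGL2, hK, ← hG]
    exact Nat.le_mul_of_pos_right _ hd1

end Cfsg.Agent.Lib.Helper15.Dk
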