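import Mathlib
import Cfsg.Agent.Lib.Helper15.Dk17

/-!
# Dickson project, part 18: maximal `S₄`, `A₄`, `A₅` in `PSL₂(q)`
-/

set_option autoImplicit false

namespace Cfsg.Agent.Lib.Helper15.Dk

open Matrix
open Cfsg.Agent.Lib.Helper14
open Cfsg.Agent.Lib.Helper15

theorem prime_not_dvd_24 {p : ℕ} (hp : p.Prime) (h5 : 5 ≤ p) : ¬ p ∣ 24 ∧ ¬ p ∣ 12 := by
  have key : ∀ a b : ℕ, ¬ p ∣ 2 ^ a * 3 ^ b := by
    intro a b h
    rcases (Nat.Prime.dvd_mul hp).1 h with h | h
    · have := (Nat.prime_dvd_prime_iff_eq hp Nat.prime_two).1 (hp.dvd_of_dvd_pow h)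
      omega
    · have := (Nat.prime_dvd_prime_iff_eq hp Nat.prime_three).1 (hp.dvd_of_dvd_pow h)
      omega
  exact ⟨by have := key 3 1; norm_num at this; exact this, by have := key 2 1; norm_num at this; exact this⟩

variable {F : Type*} [Field F] [Fintype F]

/-- the subfield case over a prime field -/
theorem subfield_prime_top {p : ℕ} (hp : p.Prime) (hF : Fintype.card F = p)
    (L : Subgroup (ProjectiveSpecialLinearGroup (Fin 2) F))
    (h : ∃ (K : Type) (_ : Field K) (_ : Fintype K) (m : ℕ), Fintype.card K ^ m = Fintype.card F ∧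
      (Nonempty (L ≃* ProjectiveSpecialLinearGroup (Fin 2) K) ∨
        Nonempty (L ≃* ProjGenLinGroup (Fin 2) K))) :
    Nat.card (ProjectiveSpecialLinearGroup (Fin 2) F) ≤ Nat.card L := by
  obtain ⟨K, i1, i2, m, hm, h⟩ := h
  have hK1 : 1 < Fintype.card K := Fintype.one_lt_card
  have hm' : Fintype.card K ^ m = p := by rw [← hF]; exact hm
  rcases root_of_shape hp (Or.inl rfl) (pow_one p).symm (by omega) hm' with hk | ⟨-, h1⟩
  · exact card_le_of_subfield_top K (by rw [hk, hF]) L h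
  · exact (h1 rfl).elim

/-- for `p ≡ ±1 (mod 8)`, `PSL₂(p)` has a maximal subgroup `S₄` -/
theorem exists_coatom_S4 (p : ℕ) [Fact p.Prime] (hF : Fintype.card F = p) (hp : p % 8 = 1 ∨ p % 8 = 7) :
    ∃ H : Subgroup (ProjectiveSpecialLinearGroup (Fin 2) F), IsCoatom H ∧
      Nonempty (H ≃* Equiv.Perm (Fin 4)) := by
  have hpr : p.Prime := Fact.out
  have hchar : CharP F p := charP_of_card_eq_prime hF
  have hp7 : 7 ≤ p := by
    have := hpr.two_le
    rcases hp with h | h <;> omega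
  have h16 : p ^ 2 % 16 = 1 := by
    rw [Nat.pow_mod]
    have : p % 16 = 1 ∨ p % 16 = 7 ∨ p % 16 = 9 ∨ p % 16 = 15 := by omega
    rcases this with h | h | h | h <;> rw [h]
  obtain ⟨H, ⟨e⟩⟩ := (Cfsg.Agent.S0803.result hF).2 h16
  have hH24 : Nat.card H = 24 := by rw [Nat.card_congr e.toEquiv, card_S4]
  have hd := card_center_eq_gcd (F := F)
  have hG := card_PSL2_mul (F := F)
  rw [hF] at hd hG
  have hd2 : Nat.card (Subgroup.center (SpecialLinearGroup (Fin 2) F)) = 2 := by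
    rw [hd]
    exact Nat.gcd_eq_left (by omega)
  rw [hd2] at hG
  have hGbig : 24 < Nat.card (ProjectiveSpecialLinearGroup (Fin 2) F) := by
    have h49 : 49 ≤ p ^ 2 := by nlinarith
    have : 7 * 48 ≤ p * (p ^ 2 - 1) := Nat.mul_le_mul hp7 (by omega)
    omega
  refine ⟨H, isCoatom_of_forall H (by rw [hH24]; exact hGbig) ?_, ⟨e⟩⟩
  intro L hHL hlt hltG hdvd
  rw [hH24] at hlt hdvd
  obtain ⟨x, y, hxy⟩ := exists_sq_not_comm_S4
  rcases dickson_facts p L with ⟨-, hsq, -⟩ | ⟨-, hcomm, -⟩ | ⟨⟨e'⟩⟩ | ⟨⟨e'⟩⟩ | ⟨⟨e'⟩⟩ | h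
  · exact hxy (sq_comm_of_le hHL hsq e x y)
  · have hcop : Nat.Coprime p (Nat.card H) := by
      rw [hH24]
      exact (Nat.Prime.coprime_iff_not_dvd hpr).2 (prime_not_dvd_24 hpr (by omega)).1
    have hc := comm_of_le_of_commutator_pow p hHL hcomm hcop e
    exact hxy (hc (x * x) (y * y))
  · rw [Nat.card_congr e'.toEquiv, card_A4] at hlt
    omega
  · rw [Nat.card_congr e'.toEquiv, card_S4] at hlt
    omega
  · rw [Nat.card_congr e'.toEquiv, card_A5] at hdvd
    omega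
  · have := subfield_prime_top hpr hF L h
    omega

/-- for `p ≡ ±3 (mod 8)`, `p ≢ ±1 (mod 10)`, `PSL₂(p)` has a maximal subgroup `A₄` -/
theorem exists_coatom_A4 (p : ℕ) [Fact p.Prime] (hF : Fintype.card F = p) (h5 : 5 ≤ p)
    (h8 : p % 8 = 3 ∨ p % 8 = 5) (h10 : p % 10 ≠ 1 ∧ p % 10 ≠ 9) :
    ∃ H : Subgroup (ProjectiveSpecialLinearGroup (Fin 2) F), IsCoatom H ∧
      Nonempty (H ≃* alternatingGroup (Fin 4)) := by
  have hpr : p.Prime := Fact.out
  have hchar : CharP F p := charP_of_card_eq_prime hF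
  have h16 : p ^ 2 % 16 = 9 := by
    rw [Nat.pow_mod]
    have : p % 16 = 3 ∨ p % 16 = 5 ∨ p % 16 = 11 ∨ p % 16 = 13 := by omega
    rcases this with h | h | h | h <;> rw [h]
  obtain ⟨H, ⟨e⟩⟩ := (Cfsg.Agent.S0802.result (F := F) p 1 (by rw [hF, pow_one])).2 (by
    rintro ⟨rfl, -⟩
    omega)
  have hH12 : Nat.card H = 12 := by rw [Nat.card_congr e.toEquiv, card_A4]
  have hd := card_center_eq_gcd (F := F)
  have hG := card_PSL2_mul (F := F)
  rw [hF] at hd hG
  have hd2 : Nat.card (Subgroup.center (SpecialLinearGroup (Fin 2) F)) = 2 := by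
    rw [hd]
    exact Nat.gcd_eq_left (by omega)
  rw [hd2] at hG
  have hGbig : 12 < Nat.card (ProjectiveSpecialLinearGroup (Fin 2) F) := by
    have h25 : 25 ≤ p ^ 2 := by nlinarith
    have : 5 * 24 ≤ p * (p ^ 2 - 1) := Nat.mul_le_mul h5 (by omega)
    omega
  refine ⟨H, isCoatom_of_forall H (by rw [hH12]; exact hGbig) ?_, ⟨e⟩⟩
  intro L hHL hlt hltG hdvd
  rw [hH12] at hlt hdvd
  obtain ⟨x, y, hxy⟩ := exists_sq_not_comm_A4
  rcases dickson_facts p L with ⟨-, hsq, -⟩ | ⟨-, hcomm, -⟩ | ⟨⟨e'⟩⟩ | ⟨⟨e'⟩⟩ | ⟨⟨e'⟩⟩ | h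
  · exact hxy (sq_comm_of_le hHL hsq e x y)
  · have hcop : Nat.Coprime p (Nat.card H) := by
      rw [hH12]
      exact (Nat.Prime.coprime_iff_not_dvd hpr).2 (prime_not_dvd_24 hpr h5).2
    have hc := comm_of_le_of_commutator_pow p hHL hcomm hcop e
    exact hxy (hc (x * x) (y * y))
  · rw [Nat.card_congr e'.toEquiv, card_A4] at hlt
    omega
  · have := (Cfsg.Agent.S0803.result hF).1 ⟨L, ⟨e'⟩⟩
    omega
  · have h1 := (Cfsg.Agent.S0804.result hF).1 ⟨L, ⟨e'⟩⟩
    rw [Nat.card_congr e'.toEquiv, card_A5] at hltG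
    have hp5 : p ≠ 5 := by
      rintro rfl
      norm_num at hG
      omega
    have h5p : ¬ 5 ∣ p := by
      intro h
      exact hp5 ((Nat.prime_dvd_prime_iff_eq (by norm_num) hpr).1 h).symm
    have h2 : 5 ∣ p ^ 2 - 1 := ((Nat.Prime.dvd_mul (by norm_num : Nat.Prime 5)).1 h1).resolve_left h5p
    have h3 : p ^ 2 % 5 = 1 := by
      have h1 : 1 ≤ p ^ 2 := Nat.one_le_pow _ _ (by omega)
      obtain ⟨c, hc⟩ := h2
      generalize p ^ 2 = x at *
      omega
    rw [Nat.pow_mod] at h3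
    have h4 : p % 5 = 1 ∨ p % 5 = 4 := by
      have : p % 5 = 0 ∨ p % 5 = 1 ∨ p % 5 = 2 ∨ p % 5 = 3 ∨ p % 5 = 4 := by omega
      rcases this with h | h | h | h | h <;> rw [h] at h3 <;> simp at h3 <;> omega
    omega
  · have := subfield_prime_top hpr hF L h
    omega

/-- maximal `A₅` in `PSL₂(p)`, `p ≡ ±1 (mod 10)`, and in `PSL₂(p²)`, `p ≡ ±3 (mod 10)` -/
theorem exists_coatom_A5 (p : ℕ) [Fact p.Prime] [CharP F p]
    (h : (Fintype.card F = p ∧ (p % 10 = 1 ∨ p % 10 = 9)) ∨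
      (Fintype.card F = p ^ 2 ∧ (p % 10 = 3 ∨ p % 10 = 7))) :
    ∃ H : Subgroup (ProjectiveSpecialLinearGroup (Fin 2) F), IsCoatom H ∧
      Nonempty (H ≃* alternatingGroup (Fin 5)) := by
  have hpr : p.Prime := Fact.out
  have hd := card_center_eq_gcd (F := F)
  have hG := card_PSL2_mul (F := F)
  set q := Fintype.card F with hqdef
  have hq9 : 9 ≤ q := by
    rcases h with ⟨h1, h2⟩ | ⟨h1, h2⟩
    · rw [h1]
      have := hpr.two_le
      rcases h2 with h | h
      · omega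
      · by_contra hlt
        have : p = 9 := by omega
        rw [this] at hpr
        norm_num at hpr
    · rw [h1]
      have : 3 ≤ p := by omega
      nlinarith
  have hqodd : q % 2 = 1 := by
    rcases h with ⟨h1, h2⟩ | ⟨h1, h2⟩
    · rw [h1]; omega
    · rw [h1, Nat.pow_mod]
      have : p % 2 = 1 := by omega
      rw [this]
  have h5 : 5 ∣ q * (q ^ 2 - 1) := by
    apply Dvd.dvd.mul_left
    have hmod : q ^ 2 % 5 = 1 := by
      rcases h with ⟨h1, h2⟩ | ⟨h1, h2⟩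
      · rw [h1, Nat.pow_mod]
        have : p % 5 = 1 ∨ p % 5 = 4 := by omega
        rcases this with h | h <;> rw [h]
      · rw [h1, ← pow_mul, Nat.pow_mod]
        have : p % 5 = 3 ∨ p % 5 = 2 := by omega
        rcases this with h | h <;> rw [h]
    have h1 : 1 ≤ q ^ 2 := Nat.one_le_pow _ _ (by omega)
    generalize q ^ 2 = x at *
    omega
  obtain ⟨H, ⟨e⟩⟩ := (Cfsg.Agent.S0804.result (F := F) (q := q) rfl).2 h5
  have hH60 : Nat.card H = 60 := by rw [Nat.card_congr e.toEquiv, card_A5]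
  have hd2 : Nat.card (Subgroup.center (SpecialLinearGroup (Fin 2) F)) = 2 := by
    rw [hd]
    exact Nat.gcd_eq_left (by omega)
  rw [hd2] at hG
  have hGbig : 60 < Nat.card (ProjectiveSpecialLinearGroup (Fin 2) F) := by
    have h81 : 81 ≤ q ^ 2 := by nlinarith
    have : 9 * 80 ≤ q * (q ^ 2 - 1) := Nat.mul_le_mul hq9 (by omega)
    omega
  refine ⟨H, isCoatom_of_forall H (by rw [hH60]; exact hGbig) ?_, ⟨e⟩⟩
  intro L hHL hlt hltG hdvd
  rw [hH60] at hlt hdvd
  have hns : ¬ Group.IsSolvable L := by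
    intro hs
    have h1 : Group.IsSolvable H :=
      Group.isSolvable_of_isSolvable_injective (f := Subgroup.inclusion hHL) (Subgroup.inclusion_injective hHL)
    have h2 : Group.IsSolvable (alternatingGroup (Fin 5)) :=
      Group.isSolvable_of_surjective (f := e.toMonoidHom) e.surjective
    exact not_isSolvable_A5 h2
  rcases dickson_facts p L with ⟨hs, -, -⟩ | ⟨hs, -, -⟩ | ⟨⟨e'⟩⟩ | ⟨⟨e'⟩⟩ | ⟨⟨e'⟩⟩ | ⟨K, i1, i2, m, hm, hL⟩
  · exact hns hs
  · exact hns hs
  · rw [Nat.card_congr e'.toEquiv, card_A4] at hlt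
    omega
  · rw [Nat.card_congr e'.toEquiv, card_S4] at hlt
    omega
  · rw [Nat.card_congr e'.toEquiv, card_A5] at hlt
    omega
  · have hK1 : 1 < Fintype.card K := Fintype.one_lt_card
    have hm' : Fintype.card K ^ m = q := hm
    have hcase : Fintype.card K = q ∨ (Fintype.card K = p ∧ q = p ^ 2 ∧ (p % 10 = 3 ∨ p % 10 = 7)) := by
      rcases h with ⟨h1, h2⟩ | ⟨h1, h2⟩
      · rcases root_of_shape hpr (Or.inl rfl) (by rw [pow_one]; exact h1) (by omega) hm' with hk | ⟨-, h1⟩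
        · left; exact hk
        · exact (h1 rfl).elim
      · rcases root_of_shape hpr (Or.inr Nat.prime_two) h1 (by omega) hm' with hk | ⟨hk, -⟩
        · left; exact hk
        · right; exact ⟨hk, h1, h2⟩
    rcases hcase with hk | ⟨hk, -, h2⟩
    · have := card_le_of_subfield_top K hk L hL
      omega
    · have h5p : ¬ 5 ∣ p := by omega
      have hsq : p ^ 2 % 5 = 4 := by
        rw [Nat.pow_mod]
        have : p % 5 = 3 ∨ p % 5 = 2 := by omega
        rcases this with h | h <;> rw [h]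
      have hnot := not_five_dvd_of_sq_mod h5p hsq
      apply hnot
      have h5L : 5 ∣ Nat.card L := (by norm_num : 5 ∣ 60).trans hdvd
      rcases hL with ⟨⟨e'⟩⟩ | ⟨⟨e'⟩⟩
      · have hGK := card_PSL2_mul (F := K)
        rw [hk] at hGK
        rw [← hGK, ← Nat.card_congr e'.toEquiv]
        exact Dvd.dvd.mul_right h5L _
      · rw [Nat.card_congr e'.toEquiv, card_PGL2, hk] at h5L
        exact h5L

end Cfsg.Agent.Lib.Helper15.Dk
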