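import Mathlib
import Cfsg.Agent.Lib.Helper15.Dk18
import Cfsg.Agent.S0805

/-!
# Dickson project, part 19: maximal subfield subgroups of `PSL₂(q)`
-/

set_option autoImplicit false

namespace Cfsg.Agent.Lib.Helper15.Dk

open Matrix
open Cfsg.Agent.Lib.Helper14
open Cfsg.Agent.Lib.Helper15

/-- the order of a subfield-type subgroup -/
theorem card_subfield_type {G : Type*} [Group G] (K : Type*) [Field K] [Fintype K]
    (h : Nonempty (G ≃* ProjectiveSpecialLinearGroup (Fin 2) K) ∨ Nonempty (G ≃* ProjGenLinGroup (Fin 2) K)) :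
    Nat.card G * Nat.gcd 2 (Fintype.card K - 1) = Fintype.card K * (Fintype.card K ^ 2 - 1) ∨
      Nat.card G = Fintype.card K * (Fintype.card K ^ 2 - 1) := by
  rcases h with ⟨⟨e⟩⟩ | ⟨⟨e⟩⟩
  · left
    rw [Nat.card_congr e.toEquiv, ← card_center_eq_gcd, card_PSL2_mul]
  · right
    rw [Nat.card_congr e.toEquiv, card_PGL2]

theorem card_subfield_type_le {G : Type*} [Group G] (K : Type*) [Field K] [Fintype K]
    (h : Nonempty (G ≃* ProjectiveSpecialLinearGroup (Fin 2) K) ∨ Nonempty (G ≃* ProjGenLinGroup (Fin 2) K)) :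
    Nat.card G ≤ Fintype.card K * (Fintype.card K ^ 2 - 1) := by
  rcases card_subfield_type K h with h | h
  · rw [← h]
    apply Nat.le_mul_of_pos_right
    exact Nat.gcd_pos_of_pos_left _ (by norm_num)
  · exact h.le

theorem cube_mono {k q : ℕ} (h : k ≤ q) : k * (k ^ 2 - 1) ≤ q * (q ^ 2 - 1) :=
  Nat.mul_le_mul h (Nat.sub_le_sub_right (Nat.pow_le_pow_left h 2) 1)

theorem cube_strict_mono {k q : ℕ} (hk : 2 ≤ k) (h : k < q) : k * (k ^ 2 - 1) < q * (q ^ 2 - 1) := by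
  have h1 : k ^ 2 - 1 ≤ q ^ 2 - 1 := Nat.sub_le_sub_right (Nat.pow_le_pow_left h.le 2) 1
  have h2 : 0 < k ^ 2 - 1 := by
    have : 4 ≤ k ^ 2 := by nlinarith
    omega
  calc k * (k ^ 2 - 1) < q * (k ^ 2 - 1) := Nat.mul_lt_mul_of_pos_right h h2
    _ ≤ q * (q ^ 2 - 1) := Nat.mul_le_mul_left q h1

variable {F : Type*} [Field F] [Fintype F]

/-- `PGL₂(q)` is maximal in `PSL₂(q²)`, `q` odd -/
theorem exists_coatom_PGL2 {K : Type*} [Field K] [Fintype K] (q : ℕ) (hK : Fintype.card K = q)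
    (hF : Fintype.card F = q ^ 2) (hq : Odd q) :
    ∃ H : Subgroup (ProjectiveSpecialLinearGroup (Fin 2) F), IsCoatom H ∧
      Nonempty (H ≃* ProjGenLinGroup (Fin 2) K) := by
  obtain ⟨p, hp⟩ := CharP.exists F
  have hpr : Fact p.Prime := ⟨CharP.char_is_prime F p⟩
  have hq3 : 3 ≤ q := by
    have h1 : 1 < Fintype.card K := Fintype.one_lt_card
    rw [hK] at h1
    obtain ⟨j, hj⟩ := hq
    omega
  have hq2 : ¬ 2 ∣ q := by
    obtain ⟨j, hj⟩ := hq
    omega
  have hQodd : Odd (q ^ 2) := hq.pow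
  obtain ⟨H, ⟨e⟩⟩ := ((Cfsg.Agent.S0805.result (F := F) (K := K) hF hQodd 2 (by norm_num) (by rw [hK])).2).2
    (by decide)
  have hHc : Nat.card H = q * (q ^ 2 - 1) := by rw [Nat.card_congr e.toEquiv, card_PGL2, hK]
  have hd := card_center_eq_gcd (F := F)
  have hG := card_PSL2_mul (F := F)
  rw [hF] at hd hG
  have hd2 : Nat.card (Subgroup.center (SpecialLinearGroup (Fin 2) F)) = 2 := by
    rw [hd]
    apply Nat.gcd_eq_left
    obtain ⟨j, hj⟩ := hQodd
    omega
  rw [hd2] at hG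
  have hm1 : (q ^ 2) ^ 2 - 1 = (q ^ 2 - 1) * (q ^ 2 + 1) := Dk.sq_sub_one_eq (q ^ 2) (Nat.one_le_pow _ _ (by omega))
  have hq21 : 8 ≤ q ^ 2 - 1 := by
    have : 9 ≤ q ^ 2 := by nlinarith
    omega
  have hHpos : 0 < q * (q ^ 2 - 1) := by positivity
  have hGbig : Nat.card H < Nat.card (ProjectiveSpecialLinearGroup (Fin 2) F) := by
    rw [hHc]
    have h1 : Nat.card (ProjectiveSpecialLinearGroup (Fin 2) F) * 2 = (q * (q ^ 2 - 1)) * (q * (q ^ 2 + 1)) := by
      rw [hG, hm1]; ring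
    have h2 : 4 ≤ q * (q ^ 2 + 1) := by nlinarith
    nlinarith
  refine ⟨H, isCoatom_of_forall H hGbig ?_, ⟨e⟩⟩
  intro L hHL hlt hltG hdvd
  rw [hHc] at hlt hdvd
  have hqL : q ∣ Nat.card L := (Dvd.intro _ rfl).trans hdvd
  rcases dickson_facts p L with ⟨-, -, hc⟩ | ⟨-, -, hc⟩ | ⟨⟨e'⟩⟩ | ⟨⟨e'⟩⟩ | ⟨⟨e'⟩⟩ | ⟨K', i1, i2, m, hm, hL⟩
  · rw [hF] at hc
    have h2 : q ∣ 2 := by
      rcases hc with hc | hc
      · have h1 : q ∣ 2 * q ^ 2 + 2 := by
          have := hqL.trans hc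
          rwa [mul_add, mul_one] at this
        exact (Nat.dvd_add_right (Dvd.dvd.mul_left (dvd_pow_self q (by norm_num)) 2)).1 h1
      · have h1 : q ∣ 2 * (q ^ 2 - 1) := hqL.trans hc
        have h3 : 2 * (q ^ 2 - 1) + 2 = 2 * q ^ 2 := by omega
        have h4 : q ∣ 2 * (q ^ 2 - 1) + 2 := by
          rw [h3]; exact Dvd.dvd.mul_left (dvd_pow_self q (by norm_num)) 2
        exact (Nat.dvd_add_right h1).1 h4
    have := Nat.le_of_dvd (by norm_num) h2
    omega
  · rw [hF, hd2] at hc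
    have h1 : q * (q ^ 2 - 1) * 2 ∣ q ^ 2 * (q ^ 2 - 1) := (Nat.mul_dvd_mul_right hdvd 2).trans hc
    have h2 : 2 * (q * (q ^ 2 - 1)) ∣ q * (q * (q ^ 2 - 1)) := by
      have e1 : q ^ 2 * (q ^ 2 - 1) = q * (q * (q ^ 2 - 1)) := by ring
      rw [← e1, mul_comm 2]
      exact h1
    exact hq2 (Nat.dvd_of_mul_dvd_mul_right hHpos h2)
  · rw [Nat.card_congr e'.toEquiv, card_A4] at hlt
    nlinarith
  · rw [Nat.card_congr e'.toEquiv, card_S4] at hlt
    nlinarith
  · rw [Nat.card_congr e'.toEquiv, card_A5] at hlt hdvd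
    have hq5 : q < 5 := by
      by_contra h
      have : 5 * 24 ≤ q * (q ^ 2 - 1) := Nat.mul_le_mul (by omega) (by
        have : 25 ≤ q ^ 2 := by nlinarith
        omega)
      omega
    have hq3' : q = 3 := by
      obtain ⟨j, hj⟩ := hq
      omega
    rw [hq3'] at hdvd
    norm_num at hdvd
  · have hm' : Fintype.card K' ^ m = q ^ 2 := by rw [← hF]; exact hm
    have hK1 : 1 < Fintype.card K' := Fintype.one_lt_card
    by_cases hk : Fintype.card K' = q ^ 2
    · have := card_le_of_subfield_top K' (by rw [hk, hF]) L hL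
      omega
    · have hm2 : 2 ≤ m := by
        by_contra hlt2
        have : m = 0 ∨ m = 1 := by omega
        rcases this with rfl | rfl
        · rw [pow_zero] at hm'
          nlinarith
        · rw [pow_one] at hm'
          exact hk hm'
      have hkq : Fintype.card K' ≤ q := by
        rw [← Nat.pow_le_pow_iff_left (n := 2) (by norm_num), ← hm']
        exact Nat.pow_le_pow_right (by omega) hm2
      have h1 := card_subfield_type_le K' hL
      have h2 := cube_mono hkq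
      omega


omit [Field F] [Fintype F] in
/-- the exponent arithmetic for subfield subgroups containing a subfield subgroup -/
theorem subfield_exp_arith (p e j m r : ℕ) (hp : p.Prime) (he : 1 ≤ e) (hr : r.Prime)
    (hjm : j * m = e * r) (hdiv : (p ^ e) ^ 2 - 1 ∣ 2 * ((p ^ j) ^ 2 - 1)) : j = e ∨ j = e * r := by
  have h1 : (p ^ e) ^ 2 = (p ^ 2) ^ e := by rw [← pow_mul, ← pow_mul, mul_comm]
  have h2 : (p ^ j) ^ 2 = (p ^ 2) ^ j := by rw [← pow_mul, ← pow_mul, mul_comm]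
  rw [h1, h2] at hdiv
  have hp2 : 3 ≤ p ^ 2 := by
    have := hp.two_le
    nlinarith
  obtain ⟨j', rfl⟩ := pow_dvd_arith (p ^ 2) e j hp2 he hdiv
  have h3 : j' * m = r := by
    have : e * (j' * m) = e * r := by rw [← hjm]; ring
    exact Nat.eq_of_mul_eq_mul_left (by omega) this
  have h4 : j' ∣ r := ⟨m, h3.symm⟩
  rcases (Nat.dvd_prime hr).1 h4 with h | h
  · left; rw [h, mul_one]
  · right; rw [h]

omit [Field F] [Fintype F] in
/-- common analysis: a subfield-type overgroup of `PSL₂(q)` in `PSL₂(q^r)` -/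
theorem subfield_over_arith (p q r k m n c : ℕ) (hp : p.Prime) (hr : r.Prime) (hq2 : 2 ≤ q) (hk2 : 2 ≤ k)
    (hQ : q ^ r = p ^ n) (hkm : k ^ m = q ^ r) (hc : c = 1 ∨ c = 2)
    (hdiv : q * (q ^ 2 - 1) ∣ c * (k * (k ^ 2 - 1))) (hpc : p = 2 → c = 1) :
    k = q ∨ k = q ^ r := by
  have hr0 : r ≠ 0 := hr.ne_zero
  have hqd : q ∣ p ^ n := by rw [← hQ]; exact dvd_pow_self q hr0
  obtain ⟨e, -, rfl⟩ := (Nat.dvd_prime_pow hp).1 hqd
  have hm0 : m ≠ 0 := by
    rintro rfl
    rw [pow_zero] at hkm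
    have : 2 ≤ (p ^ e) ^ r := le_trans hq2 (Nat.le_self_pow hr0 _)
    omega
  have hkd : k ∣ p ^ n := by rw [← hQ, ← hkm]; exact dvd_pow_self k hm0
  obtain ⟨j, -, rfl⟩ := (Nat.dvd_prime_pow hp).1 hkd
  have he : 1 ≤ e := by
    by_contra h
    have : e = 0 := by omega
    rw [this, pow_zero] at hq2
    omega
  have hjm : j * m = e * r := by
    rw [← pow_mul, ← pow_mul] at hkm
    exact Nat.pow_right_injective hp.two_le hkm
  -- `(q² - 1) ∣ 2 (k² - 1)`
  have hpq : p ∣ (p ^ e) ^ 2 := Dvd.dvd.pow (dvd_pow_self p (by omega)) (by norm_num)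
  have hcop1 : Nat.Coprime ((p ^ e) ^ 2 - 1) p := by
    rw [Nat.coprime_comm, Nat.Prime.coprime_iff_not_dvd hp]
    intro h
    have h1 : 1 ≤ (p ^ e) ^ 2 := Nat.one_le_pow _ _ (by positivity)
    have h2 : p ∣ (p ^ e) ^ 2 - ((p ^ e) ^ 2 - 1) := Nat.dvd_sub hpq h
    have h3 : (p ^ e) ^ 2 - ((p ^ e) ^ 2 - 1) = 1 := by omega
    rw [h3] at h2
    have := hp.two_le
    have := Nat.le_of_dvd (by norm_num) h2
    omega
  have hcop : Nat.Coprime ((p ^ e) ^ 2 - 1) (p ^ j) := Nat.Coprime.pow_right j hcop1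
  have h1 : (p ^ e) ^ 2 - 1 ∣ p ^ j * (c * ((p ^ j) ^ 2 - 1)) := by
    have : (p ^ e) ^ 2 - 1 ∣ c * (p ^ j * ((p ^ j) ^ 2 - 1)) := (Dvd.intro_left _ rfl).trans hdiv
    have e1 : p ^ j * (c * ((p ^ j) ^ 2 - 1)) = c * (p ^ j * ((p ^ j) ^ 2 - 1)) := by ring
    rw [e1]; exact this
  have h2 : (p ^ e) ^ 2 - 1 ∣ c * ((p ^ j) ^ 2 - 1) := hcop.dvd_of_dvd_mul_left h1
  have h3 : (p ^ e) ^ 2 - 1 ∣ 2 * ((p ^ j) ^ 2 - 1) := by
    rcases hc with rfl | rfl
    · rw [one_mul] at h2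
      exact Dvd.dvd.mul_left h2 2
    · exact h2
  rcases subfield_exp_arith p e j m r hp he hr hjm h3 with h | h
  · left; rw [h]
  · right; rw [h, pow_mul]

/-- `PSL₂(q)` is maximal in `PSL₂(q^r)`, `q` odd, `r` an odd prime -/
theorem exists_coatom_PSL2_odd {K : Type*} [Field K] [Fintype K] (q r : ℕ) (hK : Fintype.card K = q)
    (hF : Fintype.card F = q ^ r) (hq : Odd q) (hr : r.Prime) (hr2 : r ≠ 2) :
    ∃ H : Subgroup (ProjectiveSpecialLinearGroup (Fin 2) F), IsCoatom H ∧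
      Nonempty (H ≃* ProjectiveSpecialLinearGroup (Fin 2) K) := by
  obtain ⟨p, hp⟩ := CharP.exists F
  have hpr : Fact p.Prime := ⟨CharP.char_is_prime F p⟩
  obtain ⟨n, -, hn⟩ := FiniteField.card F p
  have hq3 : 3 ≤ q := by
    have h1 : 1 < Fintype.card K := Fintype.one_lt_card
    rw [hK] at h1
    obtain ⟨j, hj⟩ := hq
    omega
  have hq2 : ¬ 2 ∣ q := by
    obtain ⟨j, hj⟩ := hq
    omega
  have hrodd : Odd r := hr.odd_of_ne_two hr2
  have hr3 : 3 ≤ r := by
    have := hr.two_le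
    omega
  have hQodd : Odd (q ^ r) := hq.pow
  obtain ⟨H, ⟨e⟩⟩ := (Cfsg.Agent.S0805.result (F := F) (K := K) hF hQodd r (by omega) (by rw [hK])).1
  have hdK := card_center_eq_gcd (F := K)
  have hGK := card_PSL2_mul (F := K)
  rw [hK] at hdK hGK
  have hdK2 : Nat.card (Subgroup.center (SpecialLinearGroup (Fin 2) K)) = 2 := by
    rw [hdK]
    apply Nat.gcd_eq_left
    obtain ⟨j, hj⟩ := hq
    omega
  rw [hdK2] at hGK
  have hHc : Nat.card H * 2 = q * (q ^ 2 - 1) := by rw [Nat.card_congr e.toEquiv, hGK]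
  have hd := card_center_eq_gcd (F := F)
  have hG := card_PSL2_mul (F := F)
  rw [hF] at hd hG
  have hd2 : Nat.card (Subgroup.center (SpecialLinearGroup (Fin 2) F)) = 2 := by
    rw [hd]
    apply Nat.gcd_eq_left
    obtain ⟨j, hj⟩ := hQodd
    omega
  rw [hd2] at hG
  have hqQ : q < q ^ r := by
    calc q = q ^ 1 := (pow_one q).symm
      _ < q ^ r := Nat.pow_lt_pow_right (by omega) (by omega)
  have hGbig : Nat.card H < Nat.card (ProjectiveSpecialLinearGroup (Fin 2) F) := by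
    have := cube_strict_mono (by omega : 2 ≤ q) hqQ
    omega
  have hqH : q ∣ Nat.card H := by
    have h1 : q ∣ Nat.card H * 2 := by rw [hHc]; exact Dvd.intro _ rfl
    exact (Nat.Coprime.dvd_of_dvd_mul_right
      ((Nat.coprime_comm.1 ((Nat.Prime.coprime_iff_not_dvd Nat.prime_two).2 hq2))) h1)
  have hH12 : 12 ≤ Nat.card H := by
    have : 3 * 8 ≤ q * (q ^ 2 - 1) := Nat.mul_le_mul hq3 (by
      have : 9 ≤ q ^ 2 := by nlinarith
      omega)
    omega
  refine ⟨H, isCoatom_of_forall H hGbig ?_, ⟨e⟩⟩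
  intro L hHL hlt hltG hdvd
  have hqL : q ∣ Nat.card L := hqH.trans hdvd
  have hqQd : q ∣ q ^ r := dvd_pow_self q hr.ne_zero
  -- the case `q = 3` for small overgroups
  have hsmall : Nat.card H < 60 → q = 3 := by
    intro h
    by_contra hne
    have h5 : 5 ≤ q := by
      obtain ⟨j, hj⟩ := hq
      omega
    have : 5 * 24 ≤ q * (q ^ 2 - 1) := Nat.mul_le_mul h5 (by
      have : 25 ≤ q ^ 2 := by nlinarith
      omega)
    omega
  rcases dickson_facts p L with ⟨-, -, hc⟩ | ⟨-, -, hc⟩ | ⟨⟨e'⟩⟩ | ⟨⟨e'⟩⟩ | ⟨⟨e'⟩⟩ | ⟨K', i1, i2, m, hm, hL⟩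
  · rw [hF] at hc
    have h2 : q ∣ 2 := by
      rcases hc with hc | hc
      · have h1 : q ∣ 2 * q ^ r + 2 := by
          have := hqL.trans hc
          rwa [mul_add, mul_one] at this
        exact (Nat.dvd_add_right (Dvd.dvd.mul_left hqQd 2)).1 h1
      · have h1 : q ∣ 2 * (q ^ r - 1) := hqL.trans hc
        have hpos : 1 ≤ q ^ r := Nat.one_le_pow _ _ (by omega)
        have h3 : 2 * (q ^ r - 1) + 2 = 2 * q ^ r := by omega
        have h4 : q ∣ 2 * (q ^ r - 1) + 2 := by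
          rw [h3]; exact Dvd.dvd.mul_left hqQd 2
        exact (Nat.dvd_add_right h1).1 h4
    have := Nat.le_of_dvd (by norm_num) h2
    omega
  · rw [hF, hd2] at hc
    have h1 : q * (q ^ 2 - 1) ∣ q ^ r * (q ^ r - 1) := by
      rw [← hHc]
      exact (Nat.mul_dvd_mul_right hdvd 2).trans hc
    have hm1 : q ^ 2 - 1 = (q - 1) * (q + 1) := Dk.sq_sub_one_eq q (by omega)
    have h2 : q + 1 ∣ q ^ r * (q ^ r - 1) := by
      refine Dvd.dvd.trans ?_ h1
      rw [hm1]
      exact Dvd.dvd.mul_left (Dvd.intro_left _ rfl) q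
    have hcop : Nat.Coprime (q + 1) (q ^ r) := by
      apply Nat.Coprime.pow_right
      rw [Nat.coprime_comm]
      exact (Nat.coprime_self_add_right (m := q) (n := 1)).2 (Nat.coprime_one_right q)
    have h3 : q + 1 ∣ q ^ r - 1 := hcop.dvd_of_dvd_mul_left h2
    have h4 : q + 1 ∣ q ^ r + 1 := by
      have := Odd.nat_add_dvd_pow_add_pow q 1 hrodd
      rwa [one_pow] at this
    have hpos : 1 ≤ q ^ r := Nat.one_le_pow _ _ (by omega)
    have h5 : q ^ r + 1 = (q ^ r - 1) + 2 := by omega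
    rw [h5] at h4
    have h6 : q + 1 ∣ 2 := (Nat.dvd_add_right h3).1 h4
    have := Nat.le_of_dvd (by norm_num) h6
    omega
  · rw [Nat.card_congr e'.toEquiv, card_A4] at hlt
    omega
  · rw [Nat.card_congr e'.toEquiv, card_S4] at hlt
    have hq3' := hsmall (by omega)
    have h16 := (Cfsg.Agent.S0803.result hF).1 ⟨L, ⟨e'⟩⟩
    rw [hq3', pow_right_comm] at h16
    obtain ⟨j, hj⟩ := hrodd
    rw [hj] at h16
    have h9 : (3 ^ 2) ^ (2 * j + 1) % 16 = 9 := by
      rw [pow_succ, pow_mul, Nat.mul_mod, Nat.pow_mod]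
      norm_num
    have h19 : (1 : ℕ) = 9 := h16.symm.trans h9
    omega
  · rw [Nat.card_congr e'.toEquiv, card_A5] at hlt
    have hq3' := hsmall hlt
    have h5 := (Cfsg.Agent.S0804.result hF).1 ⟨L, ⟨e'⟩⟩
    rw [hq3'] at h5
    obtain ⟨j, hj⟩ := hrodd
    have hnot : ¬ 5 ∣ 3 ^ r * ((3 ^ r) ^ 2 - 1) := by
      apply not_five_dvd_of_sq_mod
      · intro hd5
        have := (Nat.prime_dvd_prime_iff_eq (by norm_num : Nat.Prime 5) Nat.prime_three).1
          ((by norm_num : Nat.Prime 5).dvd_of_dvd_pow hd5)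
        omega
      · rw [pow_right_comm, hj]
        exact pow9_mod5 j
    exact hnot h5
  · have hm' : Fintype.card K' ^ m = q ^ r := by rw [← hF]; exact hm
    have hK1 : 1 < Fintype.card K' := Fintype.one_lt_card
    have hcard := card_subfield_type K' hL
    have hgcd : Nat.gcd 2 (Fintype.card K' - 1) = 1 ∨ Nat.gcd 2 (Fintype.card K' - 1) = 2 :=
      (Nat.dvd_prime Nat.prime_two).1 (Nat.gcd_dvd_left _ _)
    have hdiv : q * (q ^ 2 - 1) ∣ 2 * (Fintype.card K' * (Fintype.card K' ^ 2 - 1)) := by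
      rw [← hHc, mul_comm]
      apply Nat.mul_dvd_mul_left
      rcases hcard with h | h
      · rw [← h]; exact hdvd.trans (Dvd.intro _ rfl)
      · rw [← h]; exact hdvd
    have hpodd : p ≠ 2 := by
      rintro rfl
      have h2q : 2 ∣ q ^ r := by
        rw [← hF, hn]
        exact dvd_pow_self 2 n.pos.ne'
      exact hq2 (Nat.prime_two.dvd_of_dvd_pow h2q)
    rcases subfield_over_arith p q r (Fintype.card K') m n 2 hpr.out hr (by omega) (by omega)
      (by rw [← hF, hn]) hm' (Or.inr rfl) hdiv (fun h => (hpodd h).elim) with hk | hk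
    · -- `|K'| = q`
      rcases hL with ⟨⟨e'⟩⟩ | ⟨⟨e'⟩⟩
      · have hGK' := card_PSL2_mul (F := K')
        have hdK' := card_center_eq_gcd (F := K')
        rw [hk] at hGK' hdK'
        rw [← hdK, hdK2] at hdK'
        rw [hdK', ← Nat.card_congr e'.toEquiv] at hGK'
        omega
      · have hm'' : m = r := by
          rw [hk] at hm'
          exact Nat.pow_right_injective (by omega : 2 ≤ q) hm'
        have hev := ((Cfsg.Agent.S0805.result (F := F) (K := K') hF hQodd r (by omega)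
          (by rw [hk])).2).1 ⟨L, ⟨e'⟩⟩
        rcases hrodd with ⟨a, ha⟩
        rcases hev with ⟨b, hb⟩
        omega
    · have := card_le_of_subfield_top K' (by rw [hk, hF]) L hL
      omega


/-- `PSL₂(q)` is maximal in `PSL₂(q^r)`, `q > 2` even, `r` prime -/
theorem exists_coatom_PSL2_even {K : Type*} [Field K] [Fintype K] (q r : ℕ) (hK : Fintype.card K = q)
    (hF : Fintype.card F = q ^ r) (hq : Even q) (hq2 : q ≠ 2) (hr : r.Prime) :
    ∃ H : Subgroup (ProjectiveSpecialLinearGroup (Fin 2) F), IsCoatom H ∧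
      Nonempty (H ≃* ProjectiveSpecialLinearGroup (Fin 2) K) := by
  obtain ⟨p, hp⟩ := CharP.exists F
  have hpr : Fact p.Prime := ⟨CharP.char_is_prime F p⟩
  obtain ⟨n, -, hn⟩ := FiniteField.card F p
  have hq4 : 4 ≤ q := by
    have h1 : 1 < Fintype.card K := Fintype.one_lt_card
    rw [hK] at h1
    obtain ⟨j, hj⟩ := hq
    omega
  have hq2' : 2 ∣ q := hq.two_dvd
  have hr2 := hr.two_le
  obtain ⟨f⟩ := Cfsg.Agent.Lib.Helper16.exists_ringHom_of_card_pow (F := K) (K := F) (q := q)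
    (n := r) (by omega) hK hF
  obtain ⟨H, ⟨e⟩⟩ := exists_PSL2_subfield f
  have gcd_even : ∀ x : ℕ, 2 ≤ x → 2 ∣ x → Nat.gcd 2 (x - 1) = 1 := by
    intro x hx2 hx
    rcases (Nat.dvd_prime Nat.prime_two).1 (Nat.gcd_dvd_left 2 (x - 1)) with h | h
    · exact h
    · exfalso
      have : 2 ∣ x - 1 := by
        rw [← h]; exact Nat.gcd_dvd_right _ _
      omega
  have hdK := card_center_eq_gcd (F := K)
  have hGK := card_PSL2_mul (F := K)
  rw [hK, gcd_even q (by omega) hq2'] at hdK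
  rw [hK, hdK, mul_one] at hGK
  have hHc : Nat.card H = q * (q ^ 2 - 1) := by rw [Nat.card_congr e.toEquiv, hGK]
  have hQ2 : 2 ∣ q ^ r := hq2'.trans (dvd_pow_self q hr.ne_zero)
  have hQ4 : 2 ≤ q ^ r := le_trans (by omega : 2 ≤ q) (Nat.le_self_pow hr.ne_zero q)
  have hd := card_center_eq_gcd (F := F)
  have hG := card_PSL2_mul (F := F)
  rw [hF, gcd_even _ hQ4 hQ2] at hd
  rw [hF, hd, mul_one] at hG
  have hqQ : q < q ^ r := by
    calc q = q ^ 1 := (pow_one q).symm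
      _ < q ^ r := Nat.pow_lt_pow_right (by omega) (by omega)
  have hGbig : Nat.card H < Nat.card (ProjectiveSpecialLinearGroup (Fin 2) F) := by
    rw [hHc, hG]
    exact cube_strict_mono (by omega : 2 ≤ q) hqQ
  have hH60 : 60 ≤ Nat.card H := by
    rw [hHc]
    have : 4 * 15 ≤ q * (q ^ 2 - 1) := Nat.mul_le_mul hq4 (by
      have : 16 ≤ q ^ 2 := by nlinarith
      omega)
    omega
  have hp2 : p = 2 := by
    have h1 : 2 ∣ p ^ (n : ℕ) := by rw [← hn, hF]; exact hQ2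
    exact ((Nat.prime_dvd_prime_iff_eq Nat.prime_two hpr.out).1 (Nat.prime_two.dvd_of_dvd_pow h1)).symm
  refine ⟨H, isCoatom_of_forall H hGbig ?_, ⟨e⟩⟩
  intro L hHL hlt hltG hdvd
  have hns : ¬ Group.IsSolvable L := by
    intro hs
    have h1 : Group.IsSolvable H :=
      Group.isSolvable_of_isSolvable_injective (f := Subgroup.inclusion hHL) (Subgroup.inclusion_injective hHL)
    have h2 : Group.IsSolvable (ProjectiveSpecialLinearGroup (Fin 2) K) :=
      Group.isSolvable_of_surjective (f := e.toMonoidHom) e.surjective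
    exact not_isSolvable_PSL2 (F := K) (by rw [hK]; exact hq4) h2
  rcases dickson_facts p L with ⟨hs, -, -⟩ | ⟨hs, -, -⟩ | ⟨⟨e'⟩⟩ | ⟨⟨e'⟩⟩ | ⟨⟨e'⟩⟩ | ⟨K', i1, i2, m, hm, hL⟩
  · exact hns hs
  · exact hns hs
  · rw [Nat.card_congr e'.toEquiv, card_A4] at hlt
    omega
  · rw [Nat.card_congr e'.toEquiv, card_S4] at hlt
    omega
  · rw [Nat.card_congr e'.toEquiv, card_A5] at hlt
    omega
  · have hm' : Fintype.card K' ^ m = q ^ r := by rw [← hF]; exact hm
    have hK1 : 1 < Fintype.card K' := Fintype.one_lt_card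
    have hcard := card_subfield_type K' hL
    have hdiv : q * (q ^ 2 - 1) ∣ 1 * (Fintype.card K' * (Fintype.card K' ^ 2 - 1)) := by
      rw [one_mul, ← hHc]
      rcases hcard with h | h
      · rw [← h]; exact hdvd.trans (Dvd.intro _ rfl)
      · rw [← h]; exact hdvd
    rcases subfield_over_arith p q r (Fintype.card K') m n 1 hpr.out hr (by omega) (by omega)
      (by rw [← hF, hn]) hm' (Or.inl rfl) hdiv (fun _ => rfl) with hk | hk
    · have h1 := card_subfield_type_le K' hL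
      rw [hk, ← hHc] at h1
      omega
    · have := card_le_of_subfield_top K' (by rw [hk, hF]) L hL
      omega

end Cfsg.Agent.Lib.Helper15.Dk
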