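import Mathlib
import Cfsg.Agent.Lib.Helper15.Dk19

/-!
# Dickson project, part 20: maximal subgroups with a normal `p`-subgroup or a normal torus part
-/

set_option autoImplicit false

open scoped Pointwise

namespace Cfsg.Agent.Lib.Helper15.Dk

open Matrix
open Cfsg.Agent.Lib.Helper14
open Cfsg.Agent.Lib.Helper15

/-- conjugation is an order automorphism of the subgroup lattice -/
def conjOrderIso {G : Type*} [Group G] (c : G) : Subgroup G ≃o Subgroup G where
  toFun A := MulAut.conj c • A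
  invFun A := MulAut.conj c⁻¹ • A
  left_inv A := by
    show MulAut.conj c⁻¹ • MulAut.conj c • A = A
    rw [← mul_smul, ← map_mul, inv_mul_cancel, map_one, one_smul]
  right_inv A := by
    show MulAut.conj c • MulAut.conj c⁻¹ • A = A
    rw [← mul_smul, ← map_mul, mul_inv_cancel, map_one, one_smul]
  map_rel_iff' := by
    intro A B
    exact Subgroup.pointwise_smul_le_pointwise_smul_iff

theorem isCoatom_conj_smul {G : Type*} [Group G] (c : G) (M : Subgroup G) (hM : IsCoatom M) :
    IsCoatom (MulAut.conj c • M) :=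
  (OrderIso.isCoatom_iff (conjOrderIso c) M).2 hM

variable {F : Type*} [Field F] [Fintype F]

/-- a subgroup normalizing a nontrivial `p`-subgroup lies in the normalizer of a Sylow `p`-subgroup -/
theorem le_normalizer_sylow_of_normal (p : ℕ) [Fact p.Prime] [CharP F p]
    (M S : Subgroup (ProjectiveSpecialLinearGroup (Fin 2) F)) (hS : IsPGroup p S) (hS1 : S ≠ ⊥)
    (hnorm : ∀ m ∈ M, ∀ s ∈ S, m * s * m⁻¹ ∈ S) :
    ∃ P : Sylow p (ProjectiveSpecialLinearGroup (Fin 2) F),
      M ≤ Subgroup.normalizer ((P : Subgroup (ProjectiveSpecialLinearGroup (Fin 2) F)) :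
        Set (ProjectiveSpecialLinearGroup (Fin 2) F)) := by
  obtain ⟨P, hSP⟩ := hS.exists_le_sylow
  refine ⟨P, ?_⟩
  obtain ⟨c, hc⟩ := MulAction.exists_smul_eq (ProjectiveSpecialLinearGroup (Fin 2) F) (UbarSylow p) P
  have h1 : Subgroup.normalizer ((P : Subgroup (ProjectiveSpecialLinearGroup (Fin 2) F)) :
      Set (ProjectiveSpecialLinearGroup (Fin 2) F)) = MulAut.conj c • Bbar F := by
    rw [← normalizer_Ubar, ← coe_UbarSylow p, ← hc, Sylow.coe_subgroup_smul, normalizer_conj_smul]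
  have hPU : (P : Subgroup (ProjectiveSpecialLinearGroup (Fin 2) F)) = MulAut.conj c • Ubar F := by
    rw [← coe_UbarSylow p, ← hc, Sylow.coe_subgroup_smul]
  obtain ⟨s, hsS, hs1⟩ : ∃ s : ProjectiveSpecialLinearGroup (Fin 2) F, s ∈ S ∧ s ≠ 1 := by
    obtain ⟨x, hx⟩ := (Subgroup.ne_bot_iff_exists_ne_one (H := S)).1 hS1
    exact ⟨(x : ProjectiveSpecialLinearGroup (Fin 2) F), x.2, fun h => hx (Subtype.ext h)⟩
  have hsU : c⁻¹ * s * c ∈ Ubar F := by
    have := hSP hsS
    rw [hPU, mem_conj_smul] at this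
    exact this
  obtain ⟨k, hk⟩ := toPSL2_surjective (c⁻¹ * s * c)
  have hkUT : IsUT k := by
    rw [← mem_Ubar_iff, hk]; exact hsU
  set b : F := (k : Matrix (Fin 2) (Fin 2) F) 0 0 * (k : Matrix (Fin 2) (Fin 2) F) 0 1 with hbdef
  have hkb : toPSL2 F (uu b) = c⁻¹ * s * c := by rw [hbdef, ← isUT_toPSL2 k hkUT, hk]
  have hb : b ≠ 0 := by
    intro h0
    rw [h0] at hkb
    have h1' : toPSL2 F (uu (0 : F)) = 1 := by rw [uu_zero, map_one]
    rw [h1'] at hkb
    apply hs1
    have : s = c * (c⁻¹ * s * c) * c⁻¹ := by group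
    rw [this, ← hkb]
    group
  intro m hm
  rw [h1, mem_conj_smul]
  obtain ⟨m', hm'⟩ := toPSL2_surjective (c⁻¹ * m * c)
  rw [← hm', mem_Bbar_iff]
  apply isB_of_conj_uu m' b hb
  rw [← mem_Ubar_iff, map_mul, map_mul, map_inv, hm', hkb]
  have h2 := hSP (hnorm m hm s hsS)
  rw [hPU, mem_conj_smul] at h2
  have e : c⁻¹ * m * c * (c⁻¹ * s * c) * (c⁻¹ * m * c)⁻¹ = c⁻¹ * (m * s * m⁻¹) * c := by group
  rw [e]
  exact h2

/-- the order of a maximal subgroup with a nontrivial normal `p`-subgroup -/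
theorem card_of_normal_p_subgroup (p : ℕ) [Fact p.Prime] [CharP F p]
    (M S : Subgroup (ProjectiveSpecialLinearGroup (Fin 2) F)) (hM : IsCoatom M) (hS : IsPGroup p S)
    (hS1 : S ≠ ⊥) (hnorm : ∀ m ∈ M, ∀ s ∈ S, m * s * m⁻¹ ∈ S) :
    Nat.card M * Nat.card (Subgroup.center (SpecialLinearGroup (Fin 2) F)) =
      Fintype.card F * (Fintype.card F - 1) := by
  obtain ⟨P, hP⟩ := le_normalizer_sylow_of_normal p M S hS hS1 hnorm
  have hN := card_normalizer_sylow_mul p P
  have hG := card_PSL2_mul (F := F)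
  have hq1 : 1 < Fintype.card F := Fintype.one_lt_card
  have hd1 : 0 < Nat.card (Subgroup.center (SpecialLinearGroup (Fin 2) F)) := Nat.card_pos
  have hne : Subgroup.normalizer ((P : Subgroup (ProjectiveSpecialLinearGroup (Fin 2) F)) :
      Set (ProjectiveSpecialLinearGroup (Fin 2) F)) ≠ ⊤ := by
    intro htop
    rw [htop, Subgroup.card_top, hG] at hN
    have h1 : Fintype.card F ^ 2 - 1 = Fintype.card F - 1 :=
      Nat.eq_of_mul_eq_mul_left (by omega) hN
    have h2 : Fintype.card F < Fintype.card F ^ 2 := by nlinarith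
    omega
  rcases eq_or_lt_of_le hP with h | h
  · rw [h]; exact hN
  · exact (hne (hM.2 _ h)).elim

omit [Fintype F] in
/-- a subgroup with a normal cyclic subgroup generated by a semisimple element normalizes its torus -/
theorem le_normalizer_Tor_of_normal (M : Subgroup (ProjectiveSpecialLinearGroup (Fin 2) F))
    (g : SpecialLinearGroup (Fin 2) F) (hg : ¬ IsScalar2 (g : Matrix (Fin 2) (Fin 2) F))
    (hnorm : ∀ m ∈ M, m * toPSL2 F g * m⁻¹ ∈ Subgroup.zpowers (toPSL2 F g)) :
    M ≤ Subgroup.normalizer ((Tor g : Subgroup (ProjectiveSpecialLinearGroup (Fin 2) F)) :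
      Set (ProjectiveSpecialLinearGroup (Fin 2) F)) := by
  intro m hm
  obtain ⟨m', rfl⟩ := toPSL2_surjective m
  rw [← conj_smul_eq_self_iff, Tor_conj]
  apply Tor_eq_of_mem g hg
  · rw [map_mul, map_mul, map_inv]
    have h1 := hnorm _ hm
    exact (Subgroup.zpowers_le.2 (self_mem_Tor g)) h1
  · intro hs
    apply hg
    have h1 : toPSL2 F (m' * g * m'⁻¹) = 1 := (toPSL2_eq_one_iff' _).2 hs
    rw [map_mul, map_mul, map_inv] at h1
    have h2 : toPSL2 F g = 1 := by
      have : toPSL2 F g = (toPSL2 F m')⁻¹ * (toPSL2 F m' * toPSL2 F g * (toPSL2 F m')⁻¹) * toPSL2 F m' := by group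
      rw [this, h1]; group
    exact (toPSL2_eq_one_iff' g).1 h2

/-- a maximal subgroup with a normal cyclic subgroup generated by a semisimple element is the normalizer
  of a torus -/
theorem dihedral_of_normal_torus (M : Subgroup (ProjectiveSpecialLinearGroup (Fin 2) F)) (hM : IsCoatom M)
    (hq : 4 ≤ Fintype.card F)
    (g : SpecialLinearGroup (Fin 2) F) (hg : ¬ IsScalar2 (g : Matrix (Fin 2) (Fin 2) F))
    (ht : (g : Matrix (Fin 2) (Fin 2) F).trace ^ 2 ≠ 4)
    (hnorm : ∀ m ∈ M, m * toPSL2 F g * m⁻¹ ∈ Subgroup.zpowers (toPSL2 F g)) :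
    ∃ n : ℕ, (n * Nat.card (Subgroup.center (SpecialLinearGroup (Fin 2) F)) = Fintype.card F - 1 ∨
      n * Nat.card (Subgroup.center (SpecialLinearGroup (Fin 2) F)) = Fintype.card F + 1) ∧
      Nonempty (M ≃* DihedralGroup n) := by
  have hle := le_normalizer_Tor_of_normal M g hg hnorm
  obtain ⟨-, hcardN, ⟨e⟩, -⟩ := torus_normalizer g hg ht
  have hnd : Nat.card (Tor g) * Nat.card (Subgroup.center (SpecialLinearGroup (Fin 2) F)) = Fintype.card F - 1 ∨
      Nat.card (Tor g) * Nat.card (Subgroup.center (SpecialLinearGroup (Fin 2) F)) = Fintype.card F + 1 := by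
    rw [card_Tor_mul]
    exact card_torus g hg ht
  have hG := card_PSL2_mul (F := F)
  have hd1 : 0 < Nat.card (Subgroup.center (SpecialLinearGroup (Fin 2) F)) := Nat.card_pos
  have hne : Subgroup.normalizer ((Tor g : Subgroup (ProjectiveSpecialLinearGroup (Fin 2) F)) :
      Set (ProjectiveSpecialLinearGroup (Fin 2) F)) ≠ ⊤ := by
    intro htop
    rw [htop, Subgroup.card_top] at hcardN
    have h1 : Fintype.card F * (Fintype.card F ^ 2 - 1) ≤ 2 * (Fintype.card F + 1) := by
      rw [← hG, hcardN]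
      rcases hnd with h | h
      · calc 2 * Nat.card (Tor g) * Nat.card (Subgroup.center (SpecialLinearGroup (Fin 2) F))
            = 2 * (Nat.card (Tor g) * Nat.card (Subgroup.center (SpecialLinearGroup (Fin 2) F))) := by ring
          _ ≤ 2 * (Fintype.card F + 1) := by rw [h]; omega
      · calc 2 * Nat.card (Tor g) * Nat.card (Subgroup.center (SpecialLinearGroup (Fin 2) F))
            = 2 * (Nat.card (Tor g) * Nat.card (Subgroup.center (SpecialLinearGroup (Fin 2) F))) := by ring
          _ ≤ 2 * (Fintype.card F + 1) := by rw [h]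
    have hm : Fintype.card F ^ 2 - 1 = (Fintype.card F - 1) * (Fintype.card F + 1) :=
      Dk.sq_sub_one_eq _ (by omega)
    rw [hm] at h1
    have h3 : 3 ≤ Fintype.card F - 1 := by omega
    have h4 : 4 * (3 * (Fintype.card F + 1)) ≤ Fintype.card F * ((Fintype.card F - 1) * (Fintype.card F + 1)) :=
      Nat.mul_le_mul hq (Nat.mul_le_mul_right _ h3)
    omega
  have hMN : M = Subgroup.normalizer ((Tor g : Subgroup (ProjectiveSpecialLinearGroup (Fin 2) F)) :
      Set (ProjectiveSpecialLinearGroup (Fin 2) F)) := by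
    rcases eq_or_lt_of_le hle with h | h
    · exact h
    · exact (hne (hM.2 _ h)).elim
  exact ⟨Nat.card (Tor g), hnd, ⟨(MulEquiv.subgroupCongr hMN).trans e⟩⟩

end Cfsg.Agent.Lib.Helper15.Dk
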