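import Mathlib
set_option autoImplicit false
namespace Cfsg.Agent.Lib.Helper15

section
variable {W : Type*} [Group W] (t : ℕ → W)

/-- descending product t (k+l-1) * ... * t k -/
def descProd (k : ℕ) : ℕ → W
  | 0 => 1
  | (l+1) => t (k + l) * descProd k l

@[simp] theorem descProd_zero (k : ℕ) : descProd t k 0 = 1 := rfl
theorem descProd_succ (k l : ℕ) : descProd t k (l+1) = t (k + l) * descProd t k l := rfl

theorem descProd_peel (k l : ℕ) : descProd t k (l+1) = descProd t (k+1) l * t k := by
  induction l with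
  | zero => simp [descProd_succ]
  | succ l ih =>
    rw [descProd_succ, ih, descProd_succ, mul_assoc]
    congr 2
    ring

variable (R2 : ∀ i j, i + 2 ≤ j → t i * t j = t j * t i)
include R2

theorem descProd_comm_low (j k l : ℕ) (h : j + 1 < k) : t j * descProd t k l = descProd t k l * t j := by
  induction l with
  | zero => simp
  | succ l ih =>
    rw [descProd_succ, ← mul_assoc, R2 j (k + l) (by omega), mul_assoc, ih, mul_assoc]

theorem descProd_comm_high (j k l : ℕ) (h : k + l + 1 ≤ j) : t j * descProd t k l = descProd t k l * t j := by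
  induction l with
  | zero => simp
  | succ l ih =>
    rw [descProd_succ, ← mul_assoc, ← R2 (k + l) j (by omega), mul_assoc, ih (by omega), mul_assoc]

variable (n : ℕ) (R3 : ∀ i, i + 1 < n → t i * t (i+1) * t i = t (i+1) * t i * t (i+1))
include R3

theorem descProd_mul_mid (j k l : ℕ) (hkj : k < j) (hjl : j + 1 ≤ k + l) (hn : k + l ≤ n) :
    descProd t k l * t j = t (j - 1) * descProd t k l := by
  induction l with
  | zero => omega
  | succ l ih =>
    rcases Nat.lt_or_ge j (k + l) with hlt | hge
    · rw [descProd_succ, mul_assoc, ih (by omega) (by omega), ← mul_assoc, ← mul_assoc,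
        R2 (j - 1) (k + l) (by omega)]
    · have hj : j = k + l := by omega
      subst hj
      obtain ⟨l', rfl⟩ : ∃ l', l = l' + 1 := ⟨l - 1, by omega⟩
      have e1 : k + (l' + 1) - 1 = k + l' := by omega
      rw [e1, descProd_succ, descProd_succ]
      have hc := descProd_comm_high t R2 (k + (l' + 1)) k l' (by omega)
      have hb := R3 (k + l') (by omega)
      have e2 : k + l' + 1 = k + (l' + 1) := by omega
      rw [e2] at hb
      calc t (k + (l' + 1)) * (t (k + l') * descProd t k l') * t (k + (l' + 1))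
          = t (k + (l' + 1)) * t (k + l') * (descProd t k l' * t (k + (l' + 1))) := by group
        _ = t (k + (l' + 1)) * t (k + l') * (t (k + (l' + 1)) * descProd t k l') := by rw [hc]
        _ = (t (k + (l' + 1)) * t (k + l') * t (k + (l' + 1))) * descProd t k l' := by group
        _ = (t (k + l') * t (k + (l' + 1)) * t (k + l')) * descProd t k l' := by rw [hb]
        _ = t (k + l') * (t (k + (l' + 1)) * (t (k + l') * descProd t k l')) := by group

end

section
variable {W : Type*} [Group W] (t : ℕ → W)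

def genSub (m : ℕ) : Subgroup W := Subgroup.closure {w | ∃ i, i < m ∧ w = t i}

theorem t_mem_genSub {m i : ℕ} (h : i < m) : t i ∈ genSub t m :=
  Subgroup.subset_closure ⟨i, h, rfl⟩

variable (R1 : ∀ i, t i * t i = 1)
variable (R2 : ∀ i j, i + 2 ≤ j → t i * t j = t j * t i)
variable (n : ℕ) (R3 : ∀ i, i + 1 < n → t i * t (i+1) * t i = t (i+1) * t i * t (i+1))
include R1 R2 R3

theorem coset_step (m : ℕ) (hm : m < n) (h : W) (hh : h ∈ genSub t m) (l : ℕ) (hl : l ≤ m + 1)
    (j : ℕ) (hj : j ≤ m) :
    ∃ h' ∈ genSub t m, ∃ l', l' ≤ m + 1 ∧ h * descProd t (m + 1 - l) l * t j = h' * descProd t (m + 1 - l') l' := by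
  rcases Nat.eq_zero_or_pos l with rfl | hlpos
  · -- l = 0
    rcases Nat.lt_or_ge j m with hjm | hjm
    · exact ⟨h * t j, mul_mem hh (t_mem_genSub t hjm), 0, by omega, by simp⟩
    · have : j = m := by omega
      subst this
      refine ⟨h, hh, 1, by omega, ?_⟩
      simp [descProd_succ]
  · set k := m + 1 - l with hk
    have hkl : k + l = m + 1 := by omega
    rcases Nat.lt_or_ge (j + 1) k with h1 | h1
    · -- j + 1 < k : commute
      refine ⟨h * t j, mul_mem hh (t_mem_genSub t (by omega)), l, hl, ?_⟩
      rw [← hk, mul_assoc, mul_assoc, descProd_comm_low t R2 j k l h1]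
    rcases Nat.eq_or_lt_of_le h1 with h2 | h2
    · -- k = j + 1
      refine ⟨h, hh, l + 1, by omega, ?_⟩
      have e : m + 1 - (l + 1) = j := by omega
      rw [e, descProd_peel, ← h2, mul_assoc]
    rcases Nat.eq_or_lt_of_le (Nat.lt_succ_iff.mp h2) with h3 | h3
    · -- k = j
      obtain ⟨l0, rfl⟩ : ∃ l0, l = l0 + 1 := ⟨l - 1, by omega⟩
      refine ⟨h, hh, l0, by omega, ?_⟩
      have e : m + 1 - l0 = k + 1 := by omega
      rw [e, descProd_peel, h3, mul_assoc, mul_assoc, R1, mul_one]
    · -- k < j
      refine ⟨h * t (j - 1), mul_mem hh (t_mem_genSub t (by omega)), l, hl, ?_⟩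
      rw [← hk, mul_assoc, descProd_mul_mid t R2 n R3 j k l h3 (by omega) (by omega), mul_assoc]

theorem coset_form (m : ℕ) (hm : m < n) (w : W) (hw : w ∈ genSub t (m + 1)) :
    ∃ h ∈ genSub t m, ∃ l, l ≤ m + 1 ∧ w = h * descProd t (m + 1 - l) l := by
  unfold genSub at hw
  induction hw using Subgroup.closure_induction_right with
  | one => exact ⟨1, one_mem _, 0, by omega, by simp⟩
  | mul_right x hx y hy ih =>
    obtain ⟨h, hh, l, hl, rfl⟩ := ih
    obtain ⟨j, hj, rfl⟩ := hy
    exact coset_step t R1 R2 n R3 m hm h hh l hl j (by omega)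
  | mul_inv_cancel x hx y hy ih =>
    obtain ⟨h, hh, l, hl, rfl⟩ := ih
    obtain ⟨j, hj, rfl⟩ := hy
    have : (t j)⁻¹ = t j := inv_eq_of_mul_eq_one_right (R1 j)
    rw [this]
    exact coset_step t R1 R2 n R3 m hm h hh l hl j (by omega)

theorem genSub_finset (m : ℕ) (hm : m ≤ n) : ∃ S : Finset W, (∀ w ∈ genSub t m, w ∈ S) ∧ S.card ≤ (m + 1).factorial := by
  classical
  induction m with
  | zero =>
    refine ⟨{1}, ?_, by simp⟩
    intro w hw
    have : genSub t 0 = ⊥ := by
      unfold genSub
      rw [Subgroup.closure_eq_bot_iff]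
      rintro x ⟨i, hi, _⟩
      omega
    rw [this, Subgroup.mem_bot] at hw
    simp [hw]
  | succ m ih =>
    obtain ⟨S, hS, hcard⟩ := ih (by omega)
    refine ⟨(S ×ˢ Finset.range (m + 2)).image (fun p => p.1 * descProd t (m + 1 - p.2) p.2), ?_, ?_⟩
    · intro w hw
      obtain ⟨h, hh, l, hl, rfl⟩ := coset_form t R1 R2 n R3 m (by omega) w hw
      exact Finset.mem_image.mpr ⟨(h, l), Finset.mem_product.mpr ⟨hS h hh, Finset.mem_range.mpr (by omega)⟩, rfl⟩
    · calc _ ≤ (S ×ˢ Finset.range (m + 2)).card := Finset.card_image_le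
        _ = S.card * (m + 2) := by rw [Finset.card_product, Finset.card_range]
        _ ≤ (m + 1).factorial * (m + 2) := Nat.mul_le_mul_right _ hcard
        _ = (m + 1 + 1).factorial := by rw [Nat.factorial_succ (m + 1)]; ring

end


theorem coxA_apply (n : ℕ) (i j : Fin n) : (CoxeterMatrix.A n) i j =
    if i = j then 1 else (if (j : ℕ) + 1 = i ∨ (i : ℕ) + 1 = j then 3 else 2) := rfl

theorem comm_of_sq {W : Type*} [Group W] (a b : W) (ha : a * a = 1) (hb : b * b = 1) (h : (a * b) ^ 2 = 1) :
    a * b = b * a := by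
  have h1 : a * b * (a * b) = 1 := by rw [← pow_two]; exact h
  calc a * b = a * b * (a * b) * (b * a) := by
        rw [show a * b * (a * b) * (b * a) = a * b * a * (b * b) * a by group, hb, mul_one,
          show a * b * a * a = a * b * (a * a) by group, ha, mul_one]
    _ = b * a := by rw [h1, one_mul]

theorem braid_of_cube {W : Type*} [Group W] (a b : W) (ha : a * a = 1) (hb : b * b = 1) (h : (a * b) ^ 3 = 1) :
    a * b * a = b * a * b := by
  have h1 : (a * b * a) * (b * a * b) = 1 := by
    rw [← h]; simp only [pow_succ, pow_zero, one_mul]; group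
  have ha' : a⁻¹ = a := inv_eq_of_mul_eq_one_right ha
  have hb' : b⁻¹ = b := inv_eq_of_mul_eq_one_right hb
  rw [eq_inv_of_mul_eq_one_left h1, mul_inv_rev, mul_inv_rev, ha', hb', mul_assoc]



theorem swap_swap_cube {α : Type*} [DecidableEq α] [Fintype α] {a b c : α} (ab : a ≠ b) (ac : a ≠ c) (bc : b ≠ c) :
    (Equiv.swap a b * Equiv.swap a c) ^ 3 = 1 := by
  have := (Equiv.Perm.isThreeCycle_swap_mul_swap_same ab ac bc).orderOf
  rw [← this]
  exact pow_orderOf_eq_one _

theorem swap_swap_sq {α : Type*} [DecidableEq α] {a b c d : α} (h : [a, b, c, d].Nodup) :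
    (Equiv.swap a b * Equiv.swap c d) ^ 2 = 1 := by
  have hc := (Equiv.Perm.disjoint_swap_swap h).commute
  rw [hc.mul_pow, pow_two, pow_two, Equiv.swap_mul_self, Equiv.swap_mul_self, one_mul]

theorem isLiftable_swap (n : ℕ) : CoxeterMatrix.IsLiftable (CoxeterMatrix.A n)
    (fun i : Fin n => Equiv.swap i.castSucc i.succ) := by
  intro i j
  rw [coxA_apply]
  split_ifs with h1 h2
  · subst h1; simp
  · rcases h2 with h | h
    · -- j + 1 = i
      have e : i.castSucc = j.succ := by ext; simp [h]
      show (Equiv.swap i.castSucc i.succ * Equiv.swap j.castSucc j.succ) ^ 3 = 1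
      rw [← e, Equiv.swap_comm j.castSucc i.castSucc]
      apply swap_swap_cube
      · intro h'; have := congrArg Fin.val h'; simp at this
      · intro h'; have := congrArg Fin.val h'; simp at this; omega
      · intro h'; have := congrArg Fin.val h'; simp at this; omega
    · have e : j.castSucc = i.succ := by ext; simp [h]
      show (Equiv.swap i.castSucc i.succ * Equiv.swap j.castSucc j.succ) ^ 3 = 1
      rw [e, Equiv.swap_comm i.castSucc i.succ]
      apply swap_swap_cube
      · intro h'; have := congrArg Fin.val h'; simp at this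
      · intro h'; have := congrArg Fin.val h'; simp at this; omega
      · intro h'; have := congrArg Fin.val h'; simp at this; omega
  · show (Equiv.swap i.castSucc i.succ * Equiv.swap j.castSucc j.succ) ^ 2 = 1
    apply swap_swap_sq
    have hij : (i : ℕ) ≠ j := fun h => h1 (Fin.ext h)
    push Not at h2
    simp only [List.nodup_cons, List.mem_cons, List.not_mem_nil, or_false, not_or, List.nodup_nil, and_true,
      Fin.ext_iff, Fin.val_castSucc, Fin.val_succ]
    refine ⟨⟨?_, ?_, ?_⟩, ⟨?_, ?_⟩, ?_, not_false⟩ <;> omega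

end Cfsg.Agent.Lib.Helper15
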