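import Mathlib
import Cfsg.Agent.Lib.Helper15.Dk21

/-!
# Dickson project, part 22: maximal subgroups of `PSL₂(2^f)`
-/

set_option autoImplicit false

open scoped Pointwise

namespace Cfsg.Agent.Lib.Helper15.Dk

open Matrix
open Cfsg.Agent.Lib.Helper14
open Cfsg.Agent.Lib.Helper15

variable {F : Type*} [Field F] [Fintype F]

/-- between a subfield `K₀` and `F` of composite degree there is an intermediate field -/
theorem exists_intermediate_subfield (K₀ : Subfield F) (m a b : ℕ)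
    (hF : Fintype.card F = (Nat.card K₀) ^ m) (hm : m = a * b) (ha : 1 < a) (hb : 1 < b) :
    ∃ E : Subfield F, K₀ ≤ E ∧ E ≠ K₀ ∧ E ≠ ⊤ := by
  classical
  obtain ⟨p, hp⟩ := CharP.exists F
  have hpr : Fact p.Prime := ⟨CharP.char_is_prime F p⟩
  let _ : Fintype K₀ := Fintype.ofFinite _
  obtain ⟨e, -, he⟩ := FiniteField.card K₀ p
  set k := Nat.card K₀ with hk
  have hke : k = p ^ (e : ℕ) := by rw [hk, Nat.card_eq_fintype_card, he]
  have hk2 : 2 ≤ k := by
    rw [hke]
    calc 2 ≤ p := hpr.out.two_le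
      _ = p ^ 1 := (pow_one p).symm
      _ ≤ p ^ (e : ℕ) := Nat.pow_le_pow_right hpr.out.pos e.pos
  have ham : a < m := by rw [hm]; nlinarith
  have hka_lt : k ^ a < k ^ m := Nat.pow_lt_pow_right (by omega) ham
  have hk_lt : k < k ^ a := by
    calc k = k ^ 1 := (pow_one k).symm
      _ < k ^ a := Nat.pow_lt_pow_right (by omega) ha
  let φ : F →+* F := iterateFrobenius F p (e * a)
  have hφ : ∀ x : F, φ x = x ^ (k ^ a) := by
    intro x
    show iterateFrobenius F p (e * a) x = _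
    rw [iterateFrobenius_def, hke, ← pow_mul]
  let E : Subfield F := RingHom.eqLocusField φ (RingHom.id F)
  have hE : ∀ x : F, x ∈ E ↔ x ^ (k ^ a) = x := by
    intro x
    show φ x = RingHom.id F x ↔ _
    rw [hφ, RingHom.id_apply]
  have hK₀ : ∀ x : F, x ∈ K₀ → x ^ k = x := by
    intro x hx
    have h1 : (⟨x, hx⟩ : K₀) ^ Fintype.card K₀ = ⟨x, hx⟩ := FiniteField.pow_card _
    have h2 := congrArg (fun z : K₀ => (z : F)) h1
    simp only [SubmonoidClass.coe_pow] at h2
    rw [hk, Nat.card_eq_fintype_card]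
    exact h2
  obtain ⟨ζ, hζ⟩ := IsCyclic.exists_generator (α := Fˣ)
  have hord : orderOf ζ = k ^ m - 1 := by
    rw [orderOf_eq_card_of_forall_mem_zpowers hζ, Nat.card_eq_fintype_card, Fintype.card_units, hF]
  have hunit : ∀ (u : Fˣ) (n : ℕ), 1 ≤ n → (u : F) ^ n = u → u ^ (n - 1) = 1 := by
    intro u n hn h
    apply Units.ext
    rw [Units.val_pow_eq_pow_val, Units.val_one]
    have h1 : (u : F) ^ (n - 1) * u = 1 * u := by
      rw [← pow_succ, Nat.sub_add_cancel hn, one_mul, h]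
    exact mul_right_cancel₀ u.ne_zero h1
  refine ⟨E, ?_, ?_, ?_⟩
  · intro x hx
    rw [hE]
    have key : ∀ n : ℕ, x ^ (k ^ n) = x := by
      intro n
      induction n with
      | zero => rw [pow_zero, pow_one]
      | succ n ih => rw [pow_succ, pow_mul, ih, hK₀ x hx]
    exact key a
  · intro hEK
    -- an element of order `k^a - 1`
    have hdvd : k ^ a - 1 ∣ k ^ m - 1 := Nat.pow_sub_one_dvd_pow_sub_one k ⟨b, hm⟩
    obtain ⟨j, hj⟩ := hdvd
    have hj0 : j ≠ 0 := by
      rintro rfl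
      rw [mul_zero] at hj
      have : 1 < k ^ m := by
        calc 1 < k := by omega
          _ < k ^ a := hk_lt
          _ < k ^ m := hka_lt
      omega
    have hordj : orderOf (ζ ^ j) = k ^ a - 1 := by
      rw [orderOf_pow_of_dvd hj0 (by rw [hord, hj]; exact Dvd.intro_left _ rfl), hord, hj]
      exact Nat.mul_div_cancel _ (Nat.pos_of_ne_zero hj0)
    have hmemE : ((ζ ^ j : Fˣ) : F) ∈ E := by
      rw [hE]
      have h1 : (ζ ^ j) ^ (k ^ a - 1) = 1 := by rw [← hordj]; exact pow_orderOf_eq_one _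
      have h2 : (ζ ^ j) ^ (k ^ a) = ζ ^ j := by
        have : k ^ a = (k ^ a - 1) + 1 := by omega
        rw [this, pow_succ, h1, one_mul]
      have := congrArg (fun u : Fˣ => (u : F)) h2
      simpa using this
    rw [hEK] at hmemE
    have h3 := hK₀ _ hmemE
    have h4 := hunit (ζ ^ j) k (by omega) h3
    have h5 : k ^ a - 1 ∣ k - 1 := by rw [← hordj]; exact orderOf_dvd_of_pow_eq_one h4
    have := Nat.le_of_dvd (by omega) h5
    omega
  · intro hEtop
    have hmemE : (ζ : F) ∈ E := by rw [hEtop]; exact Subfield.mem_top _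
    rw [hE] at hmemE
    have h4 := hunit ζ (k ^ a) (by omega) hmemE
    have h5 : k ^ m - 1 ∣ k ^ a - 1 := by rw [← hord]; exact orderOf_dvd_of_pow_eq_one h4
    have := Nat.le_of_dvd (by omega) h5
    omega


omit [Fintype F] in
/-- the group of matrices `D M D⁻¹`, `M ∈ SL₂(E)`, `D = diag(b₁, 1)` -/
def SE (E : Subfield F) (b₁ : F) (hb : b₁ ≠ 0) : Subgroup (SpecialLinearGroup (Fin 2) F) where
  carrier := {g | (g : Matrix (Fin 2) (Fin 2) F) 0 0 ∈ E ∧ (g : Matrix (Fin 2) (Fin 2) F) 0 1 / b₁ ∈ E ∧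
    (g : Matrix (Fin 2) (Fin 2) F) 1 0 * b₁ ∈ E ∧ (g : Matrix (Fin 2) (Fin 2) F) 1 1 ∈ E}
  one_mem' := by
    refine ⟨?_, ?_, ?_, ?_⟩ <;> simp [E.one_mem, E.zero_mem]
  mul_mem' := by
    rintro g h ⟨g00, g01, g10, g11⟩ ⟨h00, h01, h10, h11⟩
    refine ⟨?_, ?_, ?_, ?_⟩
    · rw [Matrix.SpecialLinearGroup.coe_mul, Matrix.mul_apply, Fin.sum_univ_two]
      have : (g : Matrix (Fin 2) (Fin 2) F) 0 1 * (h : Matrix (Fin 2) (Fin 2) F) 1 0 =
          ((g : Matrix (Fin 2) (Fin 2) F) 0 1 / b₁) * ((h : Matrix (Fin 2) (Fin 2) F) 1 0 * b₁) := by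
        field_simp
      rw [this]
      exact E.add_mem (E.mul_mem g00 h00) (E.mul_mem g01 h10)
    · rw [Matrix.SpecialLinearGroup.coe_mul, Matrix.mul_apply, Fin.sum_univ_two]
      have : ((g : Matrix (Fin 2) (Fin 2) F) 0 0 * (h : Matrix (Fin 2) (Fin 2) F) 0 1 +
          (g : Matrix (Fin 2) (Fin 2) F) 0 1 * (h : Matrix (Fin 2) (Fin 2) F) 1 1) / b₁ =
          (g : Matrix (Fin 2) (Fin 2) F) 0 0 * ((h : Matrix (Fin 2) (Fin 2) F) 0 1 / b₁) +
          ((g : Matrix (Fin 2) (Fin 2) F) 0 1 / b₁) * (h : Matrix (Fin 2) (Fin 2) F) 1 1 := by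
        field_simp
      rw [this]
      exact E.add_mem (E.mul_mem g00 h01) (E.mul_mem g01 h11)
    · rw [Matrix.SpecialLinearGroup.coe_mul, Matrix.mul_apply, Fin.sum_univ_two]
      have : ((g : Matrix (Fin 2) (Fin 2) F) 1 0 * (h : Matrix (Fin 2) (Fin 2) F) 0 0 +
          (g : Matrix (Fin 2) (Fin 2) F) 1 1 * (h : Matrix (Fin 2) (Fin 2) F) 1 0) * b₁ =
          ((g : Matrix (Fin 2) (Fin 2) F) 1 0 * b₁) * (h : Matrix (Fin 2) (Fin 2) F) 0 0 +
          (g : Matrix (Fin 2) (Fin 2) F) 1 1 * ((h : Matrix (Fin 2) (Fin 2) F) 1 0 * b₁) := by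
        ring
      rw [this]
      exact E.add_mem (E.mul_mem g10 h00) (E.mul_mem g11 h10)
    · rw [Matrix.SpecialLinearGroup.coe_mul, Matrix.mul_apply, Fin.sum_univ_two]
      have : (g : Matrix (Fin 2) (Fin 2) F) 1 0 * (h : Matrix (Fin 2) (Fin 2) F) 0 1 =
          ((g : Matrix (Fin 2) (Fin 2) F) 1 0 * b₁) * ((h : Matrix (Fin 2) (Fin 2) F) 0 1 / b₁) := by
        field_simp
      rw [this]
      exact E.add_mem (E.mul_mem g10 h01) (E.mul_mem g11 h11)
  inv_mem' := by
    rintro g ⟨g00, g01, g10, g11⟩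
    refine ⟨?_, ?_, ?_, ?_⟩
    · rw [inv_apply_00]; exact g11
    · rw [inv_apply_01, neg_div]; exact E.neg_mem g01
    · rw [inv_apply_10, neg_mul]; exact E.neg_mem g10
    · rw [inv_apply_11]; exact g00


omit [Fintype F] in
theorem mem_SE (E : Subfield F) (b₁ : F) (hb : b₁ ≠ 0) (g : SpecialLinearGroup (Fin 2) F) :
    g ∈ SE E b₁ hb ↔ (g : Matrix (Fin 2) (Fin 2) F) 0 0 ∈ E ∧ (g : Matrix (Fin 2) (Fin 2) F) 0 1 / b₁ ∈ E ∧
      (g : Matrix (Fin 2) (Fin 2) F) 1 0 * b₁ ∈ E ∧ (g : Matrix (Fin 2) (Fin 2) F) 1 1 ∈ E := Iff.rfl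

/-- `PGL₂(K) ≅ PSL₂(K)` in characteristic two -/
theorem pgl_equiv_psl_char_two (K : Type*) [Field K] [Fintype K] (h2 : (2 : K) = 0) :
    Nonempty (ProjGenLinGroup (Fin 2) K ≃* ProjectiveSpecialLinearGroup (Fin 2) K) := by
  have hinj : Function.Injective (ProjectiveSpecialLinearGroup.toPGL (n := Fin 2) (R := K)) :=
    ProjectiveSpecialLinearGroup.toPGL_injective
  have hcard : Nat.card (ProjectiveSpecialLinearGroup (Fin 2) K) = Nat.card (ProjGenLinGroup (Fin 2) K) := by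
    rw [card_PGL2, ← card_PSL2_mul, center_SL2_eq_bot_of_two h2, Subgroup.card_bot, mul_one]
  have hfin : Finite (ProjGenLinGroup (Fin 2) K) := by
    apply Nat.finite_of_card_ne_zero
    rw [card_PGL2]
    have hK1 : 1 < Fintype.card K := Fintype.one_lt_card
    have : 1 < Fintype.card K ^ 2 := Nat.one_lt_pow (by norm_num) hK1
    have h3 : 0 < Fintype.card K ^ 2 - 1 := by omega
    positivity
  have hbij : Function.Bijective (ProjectiveSpecialLinearGroup.toPGL (n := Fin 2) (R := K)) :=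
    (Nat.bijective_iff_injective_and_card _).2 ⟨hinj, hcard⟩
  exact ⟨(MulEquiv.ofBijective _ hbij).symm⟩

/-- the main case for a maximal subgroup in characteristic two: a subfield subgroup of prime degree -/
theorem cfg_char_two_maximal (h2 : (2 : F) = 0) (M : Subgroup (ProjectiveSpecialLinearGroup (Fin 2) F))
    (hM : IsCoatom M) (b₁ : F) (w : SpecialLinearGroup (Fin 2) F)
    (c : Cfg (M.comap (toPSL2 F)) b₁ w) :
    ∃ (K : Type) (_ : Field K) (_ : Fintype K) (r : ℕ), r.Prime ∧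
      Fintype.card F = Fintype.card K ^ r ∧ Nonempty (M ≃* ProjectiveSpecialLinearGroup (Fin 2) K) := by
  set Ht := M.comap (toPSL2 F) with hHt
  set K₀ := multField Ht with hK₀
  have hb := c.hb₁
  have hcen := center_SL2_eq_bot_of_two h2
  have hinj : ∀ g h : SpecialLinearGroup (Fin 2) F, toPSL2 F g = toPSL2 F h → g = h := by
    intro g h hgh
    rw [toPSL2_eq_iff', hcen, Subgroup.mem_bot] at hgh
    exact (inv_mul_eq_one.1 hgh)
  -- `Ht` is exactly `SE K₀`
  have hmemHt : ∀ g : SpecialLinearGroup (Fin 2) F, g ∈ Ht ↔ g ∈ SE K₀ b₁ hb := by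
    intro g
    constructor
    · intro hg
      obtain ⟨lam, hlam, c00, hc00, c01, hc01, c10, hc10, c11, hc11, e00, e01, e10, e11⟩ := c.core g hg
      have hdet := det_eq g
      have hD : lam ^ 2 * (c00 * c11 - c01 * c10) = 1 := by
        have e10' : (g : Matrix (Fin 2) (Fin 2) F) 1 0 = lam * c10 / b₁ := by
          rw [← e10]; field_simp
        rw [e00, e01, e10', e11] at hdet
        rw [← hdet]
        field_simp
      have hl2 : lam ^ 2 ∈ K₀ := by
        rw [eq_inv_of_mul_eq_one_left hD]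
        exact K₀.inv_mem (K₀.sub_mem (K₀.mul_mem hc00 hc11) (K₀.mul_mem hc01 hc10))
      have hl : lam ∈ K₀ := Cfg.mem_of_sq_mem_char_two h2 K₀ lam hl2
      refine ⟨?_, ?_, ?_, ?_⟩
      · rw [e00]; exact K₀.mul_mem hl hc00
      · rw [e01, mul_div_assoc, div_self hb, mul_one]; exact K₀.mul_mem hl hc01
      · rw [e10]; exact K₀.mul_mem hl hc10
      · rw [e11]; exact K₀.mul_mem hl hc11
    · rintro ⟨g00, g01, g10, g11⟩
      exact c.lower g _ _ _ _ g00 g01 g10 g11 rfl (div_mul_cancel₀ _ hb).symm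
        (mul_div_cancel_right₀ _ hb).symm rfl
  -- maximality forces `K₀` to be a maximal subfield
  have hmax : ∀ E : Subfield F, K₀ ≤ E → E = K₀ ∨ E = ⊤ := by
    intro E hKE
    have hle : M ≤ (SE E b₁ hb).map (toPSL2 F) := by
      intro x hx
      obtain ⟨g, rfl⟩ := toPSL2_surjective x
      have hg : g ∈ Ht := hx
      obtain ⟨g00, g01, g10, g11⟩ := (hmemHt g).1 hg
      exact ⟨g, ⟨hKE g00, hKE g01, hKE g10, hKE g11⟩, rfl⟩
    rcases eq_or_lt_of_le hle with heq | hlt
    · left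
      apply le_antisymm _ hKE
      intro x hx
      have h1 : uu (x * b₁) ∈ SE E b₁ hb := by
        refine ⟨?_, ?_, ?_, ?_⟩ <;> simp [uu, E.one_mem, E.zero_mem, hb, hx]
      have h2' : toPSL2 F (uu (x * b₁)) ∈ M := by
        rw [heq]; exact ⟨_, h1, rfl⟩
      have h3 : uu (x * b₁) ∈ Ht := h2'
      obtain ⟨k, hk, hxk⟩ := (c.A_iff _).1 h3
      have : x = k := mul_right_cancel₀ hb hxk
      rw [this]; exact hk
    · right
      have htop := hM.2 _ hlt
      rw [eq_top_iff]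
      intro x _
      have h1 : toPSL2 F (uu (x * b₁)) ∈ (SE E b₁ hb).map (toPSL2 F) := by
        rw [htop]; exact Subgroup.mem_top _
      obtain ⟨g, hg, hgx⟩ := h1
      have h2' := hinj _ _ hgx
      rw [h2'] at hg
      have h3 := hg.2.1
      simp [uu, hb] at h3
      exact h3
  have hK₀top : K₀ ≠ ⊤ := by
    intro htop
    apply hM.1
    rw [eq_top_iff]
    intro x _
    obtain ⟨g, rfl⟩ := toPSL2_surjective x
    have : g ∈ Ht := by
      rw [hmemHt, mem_SE, htop]
      exact ⟨Subfield.mem_top _, Subfield.mem_top _, Subfield.mem_top _, Subfield.mem_top _⟩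
    exact this
  obtain ⟨K, i1, i2, m, f, hm, hf⟩ := exists_type_field K₀
  -- `|K₀| = |K|`
  have hcardK : Nat.card K₀ = Fintype.card K := by
    rw [← Nat.card_eq_fintype_card]
    symm
    apply Nat.card_congr
    exact Equiv.ofBijective (fun k : K => (⟨f k, (hf _).2 ⟨k, rfl⟩⟩ : K₀))
      ⟨fun a b hab => f.injective (congrArg Subtype.val hab),
       fun ⟨x, hx⟩ => by
        obtain ⟨k, hk⟩ := (hf x).1 hx
        exact ⟨k, Subtype.ext hk⟩⟩
  have hK1 : 1 < Fintype.card K := Fintype.one_lt_card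
  have hF1 : 1 < Fintype.card F := Fintype.one_lt_card
  have hm2 : 2 ≤ m := by
    by_contra hlt
    have : m = 0 ∨ m = 1 := by omega
    rcases this with rfl | rfl
    · rw [pow_zero] at hm
      omega
    · rw [pow_one] at hm
      apply hK₀top
      rw [eq_top_iff]
      intro x _
      have hbij : Function.Bijective f :=
        (Fintype.bijective_iff_injective_and_card f).2 ⟨f.injective, hm⟩
      obtain ⟨k, hk⟩ := hbij.2 x
      exact (hf x).2 ⟨k, hk⟩
  have hmp : m.Prime := by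
    by_contra hnp
    obtain ⟨a, ha, ha2, ham⟩ := Nat.exists_dvd_of_not_prime2 hm2 hnp
    obtain ⟨b, hb'⟩ := ha
    have hb2 : 1 < b := by
      by_contra hlt
      have : b = 0 ∨ b = 1 := by omega
      rcases this with rfl | rfl
      · omega
      · omega
    obtain ⟨E, hE1, hE2, hE3⟩ := exists_intermediate_subfield K₀ m a b (by rw [hcardK, hm]) hb' (by omega) hb2
    rcases hmax E hE1 with h | h
    · exact hE2 h
    · exact hE3 h
  have h2K : (2 : K) = 0 := by
    apply f.injective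
    rw [map_ofNat, map_zero]
    exact h2
  refine ⟨K, i1, i2, m, hmp, hm.symm, ?_⟩
  rcases psl_or_pgl M b₁ w c f hf with h | ⟨⟨e⟩⟩
  · exact h
  · obtain ⟨e'⟩ := pgl_equiv_psl_char_two K h2K
    exact ⟨e.trans e'⟩

end Cfsg.Agent.Lib.Helper15.Dk
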