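import Mathlib
import Cfsg.Agent.Lib.Helper15.Dk22

/-!
# Dickson project, part 23: the maximal subgroups of `PSL₂(2^f)`
-/

set_option autoImplicit false

open scoped Pointwise

namespace Cfsg.Agent.Lib.Helper15.Dk

open Matrix
open Cfsg.Agent.Lib.Helper14
open Cfsg.Agent.Lib.Helper15

variable {F : Type*} [Field F] [Fintype F]

omit [Fintype F] in
/-- in characteristic two an element of trace zero squares to one -/
theorem sq_eq_one_of_trace_zero (h2 : (2 : F) = 0) (g : SpecialLinearGroup (Fin 2) F)
    (ht : (g : Matrix (Fin 2) (Fin 2) F).trace = 0) : g ^ 2 = 1 := by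
  apply Subtype.ext
  rw [coe_pow_two g 0 ht, zero_smul, zero_sub, one_smul, Matrix.SpecialLinearGroup.coe_one]
  have h1 : (-1 : F) = 1 := by linear_combination -h2
  have : -(1 : Matrix (Fin 2) (Fin 2) F) = (-1 : F) • (1 : Matrix (Fin 2) (Fin 2) F) := by simp
  rw [this, h1, one_smul]

omit [Fintype F] in
/-- in characteristic two a non-involution has nonzero trace, i.e. is semisimple -/
theorem trace_sq_ne_four_of_sq_ne_one (h2 : (2 : F) = 0) (g : SpecialLinearGroup (Fin 2) F)
    (hg : toPSL2 F g ^ 2 ≠ 1) : (g : Matrix (Fin 2) (Fin 2) F).trace ^ 2 ≠ 4 := by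
  have h4 : (4 : F) = 0 := by linear_combination 2 * h2
  rw [h4]
  intro h
  have ht : (g : Matrix (Fin 2) (Fin 2) F).trace = 0 := by
    exact pow_eq_zero_iff (two_ne_zero) |>.1 h
  apply hg
  rw [← map_pow, sq_eq_one_of_trace_zero h2 g ht, map_one]

omit [Fintype F] in
/-- an abelian nontrivial subgroup of odd order has a normal torus part, in characteristic two -/
theorem hasNormalTorus_of_abelian_odd (h2 : (2 : F) = 0)
    (M : Subgroup (ProjectiveSpecialLinearGroup (Fin 2) F)) (hM1 : M ≠ ⊥)
    (hab : ∀ a b : M, a * b = b * a) (hodd : ¬ 2 ∣ Nat.card M) : HasNormalTorus M := by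
  obtain ⟨x, hx⟩ := (Subgroup.ne_bot_iff_exists_ne_one (H := M)).1 hM1
  obtain ⟨g, hg⟩ := toPSL2_surjective (x : ProjectiveSpecialLinearGroup (Fin 2) F)
  have hx2 : (x : ProjectiveSpecialLinearGroup (Fin 2) F) ^ 2 ≠ 1 := by
    intro h
    have h1 : x ^ 2 = 1 := Subtype.ext (by simpa using h)
    have h3 : orderOf x ∣ 2 := orderOf_dvd_of_pow_eq_one h1
    have h4 : orderOf x ∣ Nat.card M := orderOf_dvd_natCard x
    rcases (Nat.dvd_prime Nat.prime_two).1 h3 with h5 | h5
    · exact hx (orderOf_eq_one_iff.1 h5)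
    · rw [h5] at h4; exact hodd h4
  refine ⟨g, ?_, trace_sq_ne_four_of_sq_ne_one h2 g (by rw [hg]; exact hx2), by rw [hg]; exact x.2, ?_⟩
  · intro hs
    apply hx
    apply Subtype.ext
    rw [← hg]
    exact (toPSL2_eq_one_iff' g).2 hs
  · intro m hm
    rw [hg]
    have h1 := hab ⟨m, hm⟩ x
    have h3 : m * (x : ProjectiveSpecialLinearGroup (Fin 2) F) = x * m := congrArg Subtype.val h1
    rw [h3, mul_inv_cancel_right]
    exact Subgroup.mem_zpowers _

omit [Field F] [Fintype F] in
/-- in a group of odd order, commuting squares force commutativity -/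
theorem comm_of_sq_comm_of_odd {G : Type*} [Group G] [Finite G] (hodd : ¬ 2 ∣ Nat.card G)
    (hsq : ∀ x y : G, x * x * (y * y) = y * y * (x * x)) (a b : G) : a * b = b * a := by
  obtain ⟨j, hj⟩ : ∃ j, Nat.card G = 2 * j + 1 := ⟨Nat.card G / 2, by omega⟩
  have key : ∀ x : G, x = x ^ (j + 1) * x ^ (j + 1) := by
    intro x
    rw [← pow_add]
    have : j + 1 + (j + 1) = Nat.card G + 1 := by omega
    rw [this, pow_succ, pow_card_eq_one', one_mul]
  have h := hsq (a ^ (j + 1)) (b ^ (j + 1))
  rw [← key a, ← key b] at h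
  exact h

/-- the maximal subgroups of `PSL₂(q)`, `q` even -/
theorem maximal_char_two (heven : Even (Fintype.card F)) (h4 : 4 ≤ Fintype.card F)
    (M : Subgroup (ProjectiveSpecialLinearGroup (Fin 2) F)) (hM : IsCoatom M) :
    Nat.card M = Fintype.card F * (Fintype.card F - 1) ∨
    Nonempty (M ≃* DihedralGroup (Fintype.card F - 1)) ∨
    Nonempty (M ≃* DihedralGroup (Fintype.card F + 1)) ∨
    (∃ (F₀ : Type) (_ : Field F₀) (_ : Fintype F₀) (r : ℕ), r.Prime ∧ Fintype.card F₀ ≠ 2 ∧
        Fintype.card F = Fintype.card F₀ ^ r ∧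
        Nonempty (M ≃* ProjectiveSpecialLinearGroup (Fin 2) F₀)) := by
  have h2 : (2 : F) = 0 := two_dvd_card_iff.1 heven.two_dvd
  obtain ⟨p, hp⟩ := CharP.exists F
  have hpr : Fact p.Prime := ⟨CharP.char_is_prime F p⟩
  have hp2 : p = 2 := by
    have h1 : ((2 : ℕ) : F) = 0 := by exact_mod_cast h2
    have h3 := (CharP.cast_eq_zero_iff F p 2).1 h1
    exact (Nat.prime_dvd_prime_iff_eq hpr.out Nat.prime_two).1 h3
  subst hp2
  have hcen := center_SL2_eq_bot_of_two h2
  have hd1 : Nat.card (Subgroup.center (SpecialLinearGroup (Fin 2) F)) = 1 := by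
    rw [hcen, Subgroup.card_bot]
  -- the three conjugation-invariant conclusions
  have C1 : ∀ x : ProjectiveSpecialLinearGroup (Fin 2) F, HasNormalP 2 (MulAut.conj x • M) →
      Nat.card M = Fintype.card F * (Fintype.card F - 1) := by
    rintro x ⟨S, -, hS, hS1, hnorm⟩
    have := card_of_normal_p_subgroup 2 (MulAut.conj x • M) S (isCoatom_conj_smul x M hM) hS hS1 hnorm
    rw [hd1, mul_one, card_conj_smul] at this
    exact this
  have C2 : ∀ x : ProjectiveSpecialLinearGroup (Fin 2) F, HasNormalTorus (MulAut.conj x • M) →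
      Nonempty (M ≃* DihedralGroup (Fintype.card F - 1)) ∨
      Nonempty (M ≃* DihedralGroup (Fintype.card F + 1)) := by
    rintro x ⟨g, hg, ht, -, hnorm⟩
    obtain ⟨n, hn, ⟨e⟩⟩ := dihedral_of_normal_torus (MulAut.conj x • M) (isCoatom_conj_smul x M hM) h4 g hg ht
      hnorm
    rw [hd1, mul_one] at hn
    have e₁ : ↥M ≃* ↥(MulAut.conj x • M) := Subgroup.equivSMul (MulAut.conj x) M
    rcases hn with rfl | rfl
    · left; exact ⟨e₁.trans e⟩
    · right; exact ⟨e₁.trans e⟩
  have C2' : ∀ x : ProjectiveSpecialLinearGroup (Fin 2) F, HasNormalTorus (MulAut.conj x • M) →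
      (Nat.card M = Fintype.card F * (Fintype.card F - 1) ∨
      Nonempty (M ≃* DihedralGroup (Fintype.card F - 1)) ∨
      Nonempty (M ≃* DihedralGroup (Fintype.card F + 1)) ∨
      (∃ (F₀ : Type) (_ : Field F₀) (_ : Fintype F₀) (r : ℕ), r.Prime ∧ Fintype.card F₀ ≠ 2 ∧
        Fintype.card F = Fintype.card F₀ ^ r ∧
        Nonempty (M ≃* ProjectiveSpecialLinearGroup (Fin 2) F₀))) := fun x h =>
    (C2 x h).elim (fun a => Or.inr (Or.inl a)) (fun b => Or.inr (Or.inr (Or.inl b)))
  by_cases hdiv : 2 ∣ Nat.card M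
  · obtain ⟨x, h | ⟨b₁, w, c⟩ | h | ⟨-, h⟩⟩ := dickson_refined 2 M hdiv
    · exact Or.inl (C1 x h)
    · -- the subfield case
      obtain ⟨K, i1, i2, r, hr, hq, ⟨e⟩⟩ := cfg_char_two_maximal h2 (MulAut.conj x • M)
        (isCoatom_conj_smul x M hM) b₁ w c
      have e₁ : ↥M ≃* ↥(MulAut.conj x • M) := Subgroup.equivSMul (MulAut.conj x) M
      by_cases hK2 : Fintype.card K = 2
      · -- `M ≅ PSL₂(2)` has order `6`
        apply C2' x
        set M' := MulAut.conj x • M with hM'
        have hcard6 : Nat.card M' = 6 := by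
          have h1 := card_PSL2_mul (F := K)
          have h3 : (2 : K) = 0 := by
            have := Nat.cast_card_eq_zero K
            rw [hK2] at this
            exact_mod_cast this
          rw [center_SL2_eq_bot_of_two h3, Subgroup.card_bot, mul_one, hK2] at h1
          rw [Nat.card_congr e.toEquiv, h1]
          norm_num
        have : Fact (Nat.Prime 3) := ⟨Nat.prime_three⟩
        obtain ⟨y, hy⟩ := exists_prime_orderOf_dvd_card' (G := M') 3 (by rw [hcard6]; norm_num)
        obtain ⟨g, hg⟩ := toPSL2_surjective (y : ProjectiveSpecialLinearGroup (Fin 2) F)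
        have hy1 : y ≠ 1 := by
          rintro rfl
          rw [orderOf_one] at hy
          omega
        have hy2 : (y : ProjectiveSpecialLinearGroup (Fin 2) F) ^ 2 ≠ 1 := by
          intro h
          have h1 : y ^ 2 = 1 := Subtype.ext (by simpa using h)
          have h3 : orderOf y ∣ 2 := orderOf_dvd_of_pow_eq_one h1
          rw [hy] at h3
          omega
        have hidx : (Subgroup.zpowers y).index = 2 := by
          have h1 := Subgroup.card_mul_index (Subgroup.zpowers y)
          rw [Nat.card_zpowers, hy, hcard6] at h1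
          omega
        have hnormal : (Subgroup.zpowers y).Normal := Subgroup.normal_of_index_eq_two hidx
        refine ⟨g, ?_, trace_sq_ne_four_of_sq_ne_one h2 g (by rw [hg]; exact hy2), by rw [hg]; exact y.2, ?_⟩
        · intro hs
          apply hy1
          apply Subtype.ext
          rw [← hg]
          exact (toPSL2_eq_one_iff' g).2 hs
        · intro m hm
          rw [hg]
          have h1 := hnormal.conj_mem y (Subgroup.mem_zpowers y) ⟨m, hm⟩
          obtain ⟨i, hi⟩ := Subgroup.mem_zpowers_iff.1 h1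
          refine Subgroup.mem_zpowers_iff.2 ⟨i, ?_⟩
          have h3 := congrArg (fun z : ↥M' => (z : ProjectiveSpecialLinearGroup (Fin 2) F)) hi
          simpa using h3
      · right; right; right
        exact ⟨K, i1, i2, r, hr, hK2, hq, ⟨e₁.trans e⟩⟩
    · exact C2' x h
    · exact (h rfl).elim
  · -- odd order: `M` is abelian
    have hM1 : M ≠ ⊥ := by
      intro hbot
      -- then `G` is cyclic, generated by any non-identity element
      have hnc := not_comm_PSL2 (F := F)
      apply hnc
      intro a b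
      by_cases ha : a = 1
      · rw [ha, one_mul, mul_one]
      have hlt : M < Subgroup.zpowers a := by
        rw [hbot]
        exact bot_lt_iff_ne_bot.2 (fun h => ha (Subgroup.zpowers_eq_bot.1 h))
      have htop := hM.2 _ hlt
      have hb : b ∈ Subgroup.zpowers a := by rw [htop]; exact Subgroup.mem_top _
      obtain ⟨i, rfl⟩ := Subgroup.mem_zpowers_iff.1 hb
      exact (zpow_mul_comm a 1 i |> fun h => by simpa using h)
    have hab : ∀ a b : M, a * b = b * a := by
      rcases dickson_facts 2 M with ⟨-, hsq, -⟩ | ⟨-, hcomm, -⟩ | ⟨⟨e'⟩⟩ | ⟨⟨e'⟩⟩ | ⟨⟨e'⟩⟩ | ⟨K', i1, i2, m, hm, hL⟩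
      · exact comm_of_sq_comm_of_odd hdiv hsq
      · intro a b
        have hcop : Nat.Coprime 2 (Nat.card M) := (Nat.Prime.coprime_iff_not_dvd Nat.prime_two).2 hdiv
        exact comm_of_le_of_commutator_pow 2 (le_refl M) hcomm hcop (MulEquiv.refl M) a b
      · exfalso
        apply hdiv
        rw [Nat.card_congr e'.toEquiv, card_A4]
        norm_num
      · exfalso
        apply hdiv
        rw [Nat.card_congr e'.toEquiv, card_S4]
        norm_num
      · exfalso
        apply hdiv
        rw [Nat.card_congr e'.toEquiv, card_A5]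
        norm_num
      · exfalso
        apply hdiv
        have hK1 : 1 < Fintype.card K' := Fintype.one_lt_card
        have hm0 : m ≠ 0 := by
          rintro rfl
          rw [pow_zero] at hm
          omega
        have h2K : 2 ∣ Fintype.card K' := by
          have h1 : 2 ∣ Fintype.card K' ^ m := by rw [hm]; exact heven.two_dvd
          exact Nat.prime_two.dvd_of_dvd_pow h1
        rcases card_subfield_type K' hL with h | h
        · have hg1 : Nat.gcd 2 (Fintype.card K' - 1) = 1 := by
            rcases (Nat.dvd_prime Nat.prime_two).1 (Nat.gcd_dvd_left 2 (Fintype.card K' - 1)) with h' | h'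
            · exact h'
            · exfalso
              have : 2 ∣ Fintype.card K' - 1 := by rw [← h']; exact Nat.gcd_dvd_right _ _
              omega
          rw [hg1, mul_one] at h
          rw [h]
          exact Dvd.dvd.mul_right h2K _
        · rw [h]
          exact Dvd.dvd.mul_right h2K _
    have := hasNormalTorus_of_abelian_odd h2 M hM1 hab hdiv
    have h1 : MulAut.conj (1 : ProjectiveSpecialLinearGroup (Fin 2) F) • M = M := by
      rw [map_one, one_smul]
    exact C2' 1 (by rw [h1]; exact this)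

end Cfsg.Agent.Lib.Helper15.Dk
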