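import Mathlib
import Cfsg.Agent.Lib.Helper15.Dk23

/-!
# Automorphisms of `PSL₂(F)`, part 1: the diagonal and field automorphisms, the squared trace
-/

set_option autoImplicit false

namespace Cfsg.Agent.Lib.Helper15.Dk

open Matrix
open Cfsg.Agent.Lib.Helper14
open Cfsg.Agent.Lib.Helper15

section general
variable {F : Type*} [Field F]

/-- two lifts of the same element of `PSL₂` differ by a sign -/
theorem exists_sign_of_toPSL2_eq (g h : SpecialLinearGroup (Fin 2) F) (e : toPSL2 F g = toPSL2 F h) :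
    ∃ ε : F, ε * ε = 1 ∧ ∀ i j, (h : Matrix (Fin 2) (Fin 2) F) i j = ε * (g : Matrix (Fin 2) (Fin 2) F) i j := by
  rw [toPSL2_eq_iff'] at e
  have hs := isScalar2_of_mem_center _ e
  obtain ⟨hB, hsq⟩ := center_scalar _ e
  obtain ⟨h01, h10, h00⟩ := hs
  refine ⟨((g⁻¹ * h : SpecialLinearGroup (Fin 2) F) : Matrix (Fin 2) (Fin 2) F) 0 0, hsq, ?_⟩
  have hh : h = g * (g⁻¹ * h) := by group
  intro i j
  have : (h : Matrix (Fin 2) (Fin 2) F) i j =
      ((g * (g⁻¹ * h) : SpecialLinearGroup (Fin 2) F) : Matrix (Fin 2) (Fin 2) F) i j := by rw [← hh]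
  rw [this, Matrix.SpecialLinearGroup.coe_mul (g) (g⁻¹ * h), Matrix.mul_apply, Fin.sum_univ_two]
  fin_cases j
  · simp only [Fin.zero_eta, Fin.isValue]
    rw [h10, mul_zero, add_zero, mul_comm]
  · simp only [Fin.mk_one, Fin.isValue]
    rw [h01, mul_zero, zero_add, ← h00, mul_comm]

/-- lift of an automorphism of `SL₂` to `PSL₂` -/
noncomputable def liftAut (θ : SpecialLinearGroup (Fin 2) F ≃* SpecialLinearGroup (Fin 2) F) :
    MulAut (ProjectiveSpecialLinearGroup (Fin 2) F) :=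
  QuotientGroup.congr (Subgroup.center (SpecialLinearGroup (Fin 2) F))
    (Subgroup.center (SpecialLinearGroup (Fin 2) F)) θ
    (Subgroup.characteristic_iff_map_eq.1 inferInstance θ)

theorem liftAut_toPSL2 (θ : SpecialLinearGroup (Fin 2) F ≃* SpecialLinearGroup (Fin 2) F)
    (g : SpecialLinearGroup (Fin 2) F) : liftAut θ (toPSL2 F g) = toPSL2 F (θ g) := rfl

/-- the images of the root elements -/
noncomputable def uP (x : F) : ProjectiveSpecialLinearGroup (Fin 2) F := toPSL2 F (uu x)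

/-- the images of the opposite root elements -/
noncomputable def vP (y : F) : ProjectiveSpecialLinearGroup (Fin 2) F := toPSL2 F (ll y)

theorem ll_mul (a b : F) : ll a * ll b = ll (a + b) := by
  apply Subtype.ext
  rw [Matrix.SpecialLinearGroup.coe_mul]
  apply mat2_ext <;> simp [ll, Matrix.mul_apply, Fin.sum_univ_two, add_comm]

theorem ll_zero : ll (0 : F) = 1 := by
  apply Subtype.ext
  simp [ll, Matrix.one_fin_two]

theorem uP_add (a b : F) : uP (a + b) = uP a * uP b := by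
  unfold uP; rw [← map_mul, uu_mul]

theorem vP_add (a b : F) : vP (a + b) = vP a * vP b := by
  unfold vP; rw [← map_mul, ll_mul]

theorem uP_zero : uP (0 : F) = 1 := by unfold uP; rw [uu_zero, map_one]

theorem vP_zero : vP (0 : F) = 1 := by unfold vP; rw [ll_zero, map_one]

theorem uP_inj {a b : F} (h : uP a = uP b) : a = b := by
  obtain ⟨ε, hε, h2⟩ := exists_sign_of_toPSL2_eq _ _ h
  have h00 := h2 0 0
  have h01 := h2 0 1
  simp [uu] at h00 h01
  rw [← h00, one_mul] at h01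
  exact h01.symm

theorem vP_inj {a b : F} (h : vP a = vP b) : a = b := by
  obtain ⟨ε, hε, h2⟩ := exists_sign_of_toPSL2_eq _ _ h
  have h00 := h2 0 0
  have h10 := h2 1 0
  simp [ll] at h00 h10
  rw [← h00, one_mul] at h10
  exact h10.symm

theorem uP_neg (a : F) : uP (-a) = (uP a)⁻¹ := by
  unfold uP; rw [← map_inv, uu_inv]

theorem mem_Ubar_iff_exists (g : ProjectiveSpecialLinearGroup (Fin 2) F) :
    g ∈ Ubar F ↔ ∃ x, g = uP x := by
  constructor
  · intro hg
    obtain ⟨k, rfl⟩ := toPSL2_surjective g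
    rw [mem_Ubar_iff] at hg
    exact ⟨_, isUT_toPSL2 k hg⟩
  · rintro ⟨x, rfl⟩
    exact (mem_Ubar_iff _).2 (isUT_uu x)

/-- the diagonal automorphism of `SL₂`, as a function -/
def diagFun (c : Fˣ) (g : SpecialLinearGroup (Fin 2) F) : SpecialLinearGroup (Fin 2) F :=
  ⟨!![(g : Matrix (Fin 2) (Fin 2) F) 0 0, (c : F) * (g : Matrix (Fin 2) (Fin 2) F) 0 1;
      ((c⁻¹ : Fˣ) : F) * (g : Matrix (Fin 2) (Fin 2) F) 1 0, (g : Matrix (Fin 2) (Fin 2) F) 1 1], by
    rw [Matrix.det_fin_two_of]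
    have h : (c : F) * ((c⁻¹ : Fˣ) : F) = 1 := Units.mul_inv c
    linear_combination (det_eq g) - (g : Matrix (Fin 2) (Fin 2) F) 0 1 * (g : Matrix (Fin 2) (Fin 2) F) 1 0 * h⟩

theorem diagFun_coe (c : Fˣ) (g : SpecialLinearGroup (Fin 2) F) :
    ((diagFun c g : SpecialLinearGroup (Fin 2) F) : Matrix (Fin 2) (Fin 2) F) =
      !![(g : Matrix (Fin 2) (Fin 2) F) 0 0, (c : F) * (g : Matrix (Fin 2) (Fin 2) F) 0 1;
      ((c⁻¹ : Fˣ) : F) * (g : Matrix (Fin 2) (Fin 2) F) 1 0, (g : Matrix (Fin 2) (Fin 2) F) 1 1] := rfl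

theorem diagFun_mul (c : Fˣ) (g h : SpecialLinearGroup (Fin 2) F) :
    diagFun c (g * h) = diagFun c g * diagFun c h := by
  have hc : (c : F) * (c : F)⁻¹ = 1 := mul_inv_cancel₀ c.ne_zero
  apply Subtype.ext
  rw [Matrix.SpecialLinearGroup.coe_mul, diagFun_coe, diagFun_coe, diagFun_coe,
    Matrix.SpecialLinearGroup.coe_mul]
  apply mat2_ext <;> simp [Matrix.mul_apply, Fin.sum_univ_two]
  · linear_combination (-(g : Matrix (Fin 2) (Fin 2) F) 0 1 * (h : Matrix (Fin 2) (Fin 2) F) 1 0) * hc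
  · ring
  · ring
  · linear_combination (-(g : Matrix (Fin 2) (Fin 2) F) 1 0 * (h : Matrix (Fin 2) (Fin 2) F) 0 1) * hc

theorem diagFun_diagFun (c d : Fˣ) (g : SpecialLinearGroup (Fin 2) F) :
    diagFun c (diagFun d g) = diagFun (c * d) g := by
  apply Subtype.ext
  rw [diagFun_coe, diagFun_coe, diagFun_coe]
  apply mat2_ext <;> simp [mul_assoc]
  ring

theorem diagFun_one (g : SpecialLinearGroup (Fin 2) F) : diagFun (1 : Fˣ) g = g := by
  apply Subtype.ext
  rw [diagFun_coe]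
  apply mat2_ext <;> simp

/-- the diagonal automorphism of `SL₂` -/
def diagSL (c : Fˣ) : SpecialLinearGroup (Fin 2) F ≃* SpecialLinearGroup (Fin 2) F where
  toFun := diagFun c
  invFun := diagFun c⁻¹
  left_inv g := by rw [diagFun_diagFun, inv_mul_cancel, diagFun_one]
  right_inv g := by rw [diagFun_diagFun, mul_inv_cancel, diagFun_one]
  map_mul' := diagFun_mul c

theorem diagSL_apply (c : Fˣ) (g : SpecialLinearGroup (Fin 2) F) :
    ((diagSL c g : SpecialLinearGroup (Fin 2) F) : Matrix (Fin 2) (Fin 2) F) =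
      !![(g : Matrix (Fin 2) (Fin 2) F) 0 0, (c : F) * (g : Matrix (Fin 2) (Fin 2) F) 0 1;
      ((c⁻¹ : Fˣ) : F) * (g : Matrix (Fin 2) (Fin 2) F) 1 0, (g : Matrix (Fin 2) (Fin 2) F) 1 1] := rfl

/-- the diagonal automorphism of `PSL₂` -/
noncomputable def diagAut (c : Fˣ) : MulAut (ProjectiveSpecialLinearGroup (Fin 2) F) := liftAut (diagSL c)

theorem diagAut_toPSL2 (c : Fˣ) (g : SpecialLinearGroup (Fin 2) F) :
    diagAut c (toPSL2 F g) = toPSL2 F (diagSL c g) := rfl

theorem diagSL_uu (c : Fˣ) (x : F) : diagSL c (uu x) = uu ((c : F) * x) := by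
  apply Subtype.ext
  rw [diagSL_apply]
  apply mat2_ext <;> simp [uu]

theorem diagSL_ll (c : Fˣ) (y : F) : diagSL c (ll y) = ll (((c⁻¹ : Fˣ) : F) * y) := by
  apply Subtype.ext
  rw [diagSL_apply]
  apply mat2_ext <;> simp [ll]

theorem diagAut_uP (c : Fˣ) (x : F) : diagAut c (uP x) = uP ((c : F) * x) := by
  unfold uP; rw [diagAut_toPSL2, diagSL_uu]

theorem diagAut_vP (c : Fˣ) (y : F) : diagAut c (vP y) = vP (((c⁻¹ : Fˣ) : F) * y) := by
  unfold vP; rw [diagAut_toPSL2, diagSL_ll]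

theorem diagSL_mul (c d : Fˣ) (g : SpecialLinearGroup (Fin 2) F) :
    diagSL (c * d) g = diagSL c (diagSL d g) := by
  apply Subtype.ext
  rw [diagSL_apply, diagSL_apply, diagSL_apply]
  apply mat2_ext <;> simp [mul_assoc]
  ring

theorem diagSL_one (g : SpecialLinearGroup (Fin 2) F) : diagSL (1 : Fˣ) g = g := by
  apply Subtype.ext
  rw [diagSL_apply]
  apply mat2_ext <;> simp

/-- the diagonal automorphisms as a homomorphism -/
noncomputable def diagAutHom : Fˣ →* MulAut (ProjectiveSpecialLinearGroup (Fin 2) F) where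
  toFun := diagAut
  map_one' := by
    apply MulEquiv.ext
    intro x
    obtain ⟨g, rfl⟩ := toPSL2_surjective x
    rw [diagAut_toPSL2, diagSL_one]; rfl
  map_mul' c d := by
    apply MulEquiv.ext
    intro x
    obtain ⟨g, rfl⟩ := toPSL2_surjective x
    rw [MulAut.mul_apply, diagAut_toPSL2, diagAut_toPSL2, diagAut_toPSL2, diagSL_mul]

theorem diagAutHom_apply (c : Fˣ) : diagAutHom c = diagAut c := rfl

theorem dg_inv' (t : F) (ht : t ≠ 0) : (dg t ht)⁻¹ = dg t⁻¹ (inv_ne_zero ht) := by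
  rw [inv_eq_iff_mul_eq_one]
  apply Subtype.ext
  rw [Matrix.SpecialLinearGroup.coe_mul]
  apply mat2_ext <;> simp [dg, Matrix.mul_apply, Fin.sum_univ_two, ht]

/-- the diagonal automorphism attached to a square is inner -/
theorem diagAut_sq (c : Fˣ) :
    diagAut (c ^ 2) = MulAut.conj (toPSL2 F (dg (c : F) c.ne_zero)) := by
  apply MulEquiv.ext
  intro x
  obtain ⟨g, rfl⟩ := toPSL2_surjective x
  rw [diagAut_toPSL2, MulAut.conj_apply, ← map_inv, ← map_mul, ← map_mul]
  congr 1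
  apply Subtype.ext
  rw [dg_inv', diagSL_apply, Matrix.SpecialLinearGroup.coe_mul, Matrix.SpecialLinearGroup.coe_mul]
  have hc : (c : F) ≠ 0 := c.ne_zero
  apply mat2_ext <;>
    simp [dg, Matrix.mul_apply, Fin.sum_univ_two, Matrix.vecMul, dotProduct] <;> field_simp

/-- the field automorphism of `SL₂` -/
def fieldSL (σ : F ≃+* F) : SpecialLinearGroup (Fin 2) F ≃* SpecialLinearGroup (Fin 2) F where
  toFun := SpecialLinearGroup.map (σ : F →+* F)
  invFun := SpecialLinearGroup.map (σ.symm : F →+* F)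
  left_inv g := by
    apply Subtype.ext
    ext i j
    simp [SpecialLinearGroup.map_apply_coe]
  right_inv g := by
    apply Subtype.ext
    ext i j
    simp [SpecialLinearGroup.map_apply_coe]
  map_mul' := map_mul _

theorem fieldSL_apply (σ : F ≃+* F) (g : SpecialLinearGroup (Fin 2) F) (i j : Fin 2) :
    ((fieldSL σ g : SpecialLinearGroup (Fin 2) F) : Matrix (Fin 2) (Fin 2) F) i j =
      σ ((g : Matrix (Fin 2) (Fin 2) F) i j) := by
  show ((SpecialLinearGroup.map (σ : F →+* F) g : SpecialLinearGroup (Fin 2) F) :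
    Matrix (Fin 2) (Fin 2) F) i j = _
  rw [SpecialLinearGroup.map_apply_coe]
  rfl

/-- the field automorphism of `PSL₂` -/
noncomputable def fieldAut (σ : F ≃+* F) : MulAut (ProjectiveSpecialLinearGroup (Fin 2) F) :=
  liftAut (fieldSL σ)

theorem fieldAut_toPSL2 (σ : F ≃+* F) (g : SpecialLinearGroup (Fin 2) F) :
    fieldAut σ (toPSL2 F g) = toPSL2 F (fieldSL σ g) := rfl

theorem fieldSL_uu (σ : F ≃+* F) (x : F) : fieldSL σ (uu x) = uu (σ x) := by
  apply Subtype.ext
  apply mat2_ext <;> rw [fieldSL_apply] <;> simp [uu]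

theorem fieldSL_ll (σ : F ≃+* F) (y : F) : fieldSL σ (ll y) = ll (σ y) := by
  apply Subtype.ext
  apply mat2_ext <;> rw [fieldSL_apply] <;> simp [ll]

theorem fieldAut_uP (σ : F ≃+* F) (x : F) : fieldAut σ (uP x) = uP (σ x) := by
  unfold uP; rw [fieldAut_toPSL2, fieldSL_uu]

theorem fieldAut_vP (σ : F ≃+* F) (y : F) : fieldAut σ (vP y) = vP (σ y) := by
  unfold vP; rw [fieldAut_toPSL2, fieldSL_ll]

theorem fieldAut_one : fieldAut (RingEquiv.refl F) = 1 := by
  apply MulEquiv.ext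
  intro x
  obtain ⟨g, rfl⟩ := toPSL2_surjective x
  rw [fieldAut_toPSL2]
  show toPSL2 F (fieldSL (RingEquiv.refl F) g) = toPSL2 F g
  congr 1

/-- the square of the trace of a lift -/
noncomputable def trsq (x : ProjectiveSpecialLinearGroup (Fin 2) F) : F :=
  ((Function.surjInv (toPSL2_surjective (F := F)) x : SpecialLinearGroup (Fin 2) F) :
    Matrix (Fin 2) (Fin 2) F).trace ^ 2

theorem trsq_toPSL2 (m : SpecialLinearGroup (Fin 2) F) :
    trsq (toPSL2 F m) = (m : Matrix (Fin 2) (Fin 2) F).trace ^ 2 := by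
  unfold trsq
  set l := Function.surjInv (toPSL2_surjective (F := F)) (toPSL2 F m) with hl'
  have hl : toPSL2 F l = toPSL2 F m := Function.surjInv_eq _ _
  obtain ⟨ε, hε, h2⟩ := exists_sign_of_toPSL2_eq _ _ hl.symm
  rw [Matrix.trace_fin_two, Matrix.trace_fin_two, h2 0 0, h2 1 1]
  linear_combination ((m : Matrix (Fin 2) (Fin 2) F) 0 0 + (m : Matrix (Fin 2) (Fin 2) F) 1 1) ^ 2 * hε

theorem trsq_conj (x y : ProjectiveSpecialLinearGroup (Fin 2) F) :
    trsq (MulAut.conj x y) = trsq y := by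
  obtain ⟨g, rfl⟩ := toPSL2_surjective x
  obtain ⟨h, rfl⟩ := toPSL2_surjective y
  rw [MulAut.conj_apply, ← map_inv, ← map_mul, ← map_mul, trsq_toPSL2, trsq_toPSL2]
  congr 1
  rw [Matrix.SpecialLinearGroup.coe_mul, Matrix.trace_mul_comm, ← Matrix.SpecialLinearGroup.coe_mul,
    inv_mul_cancel_left]

theorem trsq_diagAut (c : Fˣ) (y : ProjectiveSpecialLinearGroup (Fin 2) F) :
    trsq (diagAut c y) = trsq y := by
  obtain ⟨h, rfl⟩ := toPSL2_surjective y
  rw [diagAut_toPSL2, trsq_toPSL2, trsq_toPSL2, diagSL_apply, Matrix.trace_fin_two, Matrix.trace_fin_two]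
  simp

theorem trsq_fieldAut (σ : F ≃+* F) (y : ProjectiveSpecialLinearGroup (Fin 2) F) :
    trsq (fieldAut σ y) = σ (trsq y) := by
  obtain ⟨h, rfl⟩ := toPSL2_surjective y
  rw [fieldAut_toPSL2, trsq_toPSL2, trsq_toPSL2, Matrix.trace_fin_two, Matrix.trace_fin_two,
    fieldSL_apply, fieldSL_apply, map_pow, map_add]

/-- a matrix with prescribed trace -/
def trMat (t : F) : SpecialLinearGroup (Fin 2) F := ⟨!![t, -1; 1, 0], by simp [Matrix.det_fin_two]⟩

/-- every square is a squared trace -/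
theorem exists_trsq_eq (t : F) : ∃ y : ProjectiveSpecialLinearGroup (Fin 2) F, trsq y = t ^ 2 := by
  refine ⟨toPSL2 F (trMat t), ?_⟩
  rw [trsq_toPSL2, Matrix.trace_fin_two]
  simp [trMat]

end general

end Cfsg.Agent.Lib.Helper15.Dk
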