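import Mathlib
import Cfsg.Agent.Lib.Helper15.Dk24

/-!
# Automorphisms of `PSL₂(F)`, part 2: normalized automorphisms are diagonal times field
-/

set_option autoImplicit false

namespace Cfsg.Agent.Lib.Helper15.Dk

open Matrix
open Cfsg.Agent.Lib.Helper14
open Cfsg.Agent.Lib.Helper15

section fieldlemma
variable {F : Type*} [Field F] [Finite F]

/-- an additive map that is multiplicative against squares is multiplicative -/
theorem mul_of_sq_mul (τ : F →+ F) (h1 : τ 1 = 1)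
    (hsq : ∀ x s : F, τ (x ^ 2 * s) = τ x ^ 2 * τ s) : ∀ z s : F, τ (z * s) = τ z * τ s := by
  have hsq1 : ∀ x : F, τ (x ^ 2) = τ x ^ 2 := by
    intro x
    have := hsq x 1
    rwa [mul_one, h1, mul_one] at this
  have hsq2 : ∀ x s : F, τ (x ^ 2 * s) = τ (x ^ 2) * τ s := by
    intro x s; rw [hsq, hsq1]
  intro z s
  by_cases h2 : ringChar F = 2
  · obtain ⟨x, rfl⟩ := FiniteField.isSquare_of_char_two h2 z
    rw [← pow_two]; exact hsq2 x s
  · have h2' : (2 : F) ≠ 0 := Ring.two_ne_zero h2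
    have hz : z = ((z + 1) / 2) ^ 2 - ((z - 1) / 2) ^ 2 := by field_simp; ring
    generalize (z + 1) / 2 = A at hz
    generalize (z - 1) / 2 = B at hz
    have hzs : z * s = A ^ 2 * s - B ^ 2 * s := by rw [← sub_mul, ← hz]
    rw [hzs, map_sub, hsq2, hsq2, ← sub_mul, ← map_sub, ← hz]

end fieldlemma

section general
variable {F : Type*} [Field F]

theorem conj_uu_01 (m : SpecialLinearGroup (Fin 2) F) (b : F) :
    ((m * uu b * m⁻¹ : SpecialLinearGroup (Fin 2) F) : Matrix (Fin 2) (Fin 2) F) 0 1 =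
      ((m : Matrix (Fin 2) (Fin 2) F) 0 0) ^ 2 * b := by
  rw [Matrix.SpecialLinearGroup.coe_mul, Matrix.SpecialLinearGroup.coe_mul]
  simp [uu, Matrix.mul_apply, Fin.sum_univ_two, Matrix.adjugate_fin_two]
  ring

theorem uu_ll_uu_00 (a b : F) :
    ((uu a * ll b * uu a : SpecialLinearGroup (Fin 2) F) : Matrix (Fin 2) (Fin 2) F) 0 0 = 1 + a * b := by
  rw [Matrix.SpecialLinearGroup.coe_mul, Matrix.SpecialLinearGroup.coe_mul]
  simp [uu, ll, Matrix.mul_apply, Fin.sum_univ_two]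

theorem nn_10 (x : F) (hx : x ≠ 0) :
    ((nn x hx : SpecialLinearGroup (Fin 2) F) : Matrix (Fin 2) (Fin 2) F) 1 0 = -x⁻¹ := by
  simp [nn]

theorem nn_00 (x : F) (hx : x ≠ 0) :
    ((nn x hx : SpecialLinearGroup (Fin 2) F) : Matrix (Fin 2) (Fin 2) F) 0 0 = 0 := by
  simp [nn]

theorem toPSL2_nn (x : F) (hx : x ≠ 0) : toPSL2 F (nn x hx) = uP x * vP (-x⁻¹) * uP x := by
  unfold uP vP
  rw [← map_mul, ← map_mul, nn_eq]

theorem conj_nn_uP (x : F) (hx : x ≠ 0) (s : F) :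
    toPSL2 F (nn x hx) * uP s * (toPSL2 F (nn x hx))⁻¹ = vP (-(x⁻¹) ^ 2 * s) := by
  unfold uP vP
  rw [← map_inv, ← map_mul, ← map_mul, conj_uu_of_00 _ (nn_00 x hx), nn_10]
  congr 2
  ring

theorem conj_dg_uP (t : F) (ht : t ≠ 0) (s : F) :
    toPSL2 F (dg t ht) * uP s * (toPSL2 F (dg t ht))⁻¹ = uP (t ^ 2 * s) := by
  unfold uP
  rw [← map_inv, ← map_mul, ← map_mul, conj_uu_of_isB _ (isB_dg t ht), dg_00]

theorem toPSL2_dg_div (x y : F) (hx : x ≠ 0) (hy : y ≠ 0) :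
    toPSL2 F (dg (x / y) (div_ne_zero hx hy)) = toPSL2 F (nn x hx) * (toPSL2 F (nn y hy))⁻¹ := by
  rw [← map_inv, ← map_mul, nn_mul_inv]

theorem uP_ne_one {a : F} (ha : a ≠ 0) : uP a ≠ 1 := by
  intro h
  rw [← uP_zero] at h
  exact ha (uP_inj h)

theorem vP_not_mem_Ubar {b : F} (hb : b ≠ 0) : vP b ∉ Ubar F := by
  intro h
  unfold vP at h
  rw [mem_Ubar_iff] at h
  exact hb (by have := h.1; rwa [ll_10] at this)

end general

section normalized
variable {F : Type*} [Field F]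
variable (β : MulAut (ProjectiveSpecialLinearGroup (Fin 2) F)) (g₁ g₂ : F → F)
  (hU : ∀ a, β (uP a) = uP (g₁ a)) (hV : ∀ b, β (vP b) = vP (g₂ b))

include hU in
theorem g1_add (a b : F) : g₁ (a + b) = g₁ a + g₁ b := by
  apply uP_inj
  rw [← hU, uP_add, map_mul, hU, hU, uP_add]

include hU in
theorem g1_zero : g₁ 0 = 0 := by
  have := g1_add β g₁ hU 0 0
  rw [add_zero] at this
  exact left_eq_add.mp this

include hU in
theorem g1_inj {a b : F} (h : g₁ a = g₁ b) : a = b := by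
  apply uP_inj
  apply β.injective
  rw [hU, hU, h]

include hU in
theorem g1_ne_zero {a : F} (ha : a ≠ 0) : g₁ a ≠ 0 := by
  intro h
  rw [← g1_zero β g₁ hU] at h
  exact ha (g1_inj β g₁ hU h)

include hV in
theorem g2_zero : g₂ 0 = 0 := by
  apply vP_inj
  rw [← hV, vP_zero, map_one]

include hU hV in
/-- the key relation between the two root maps -/
theorem g1_mul_g2 (x : F) (hx : x ≠ 0) : g₁ x * g₂ (-x⁻¹) = -1 := by
  have e2 : β (toPSL2 F (nn x hx)) = toPSL2 F (uu (g₁ x) * ll (g₂ (-x⁻¹)) * uu (g₁ x)) := by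
    rw [toPSL2_nn, map_mul, map_mul, hU, hV]
    unfold uP vP
    rw [← map_mul, ← map_mul]
  have e3 := conj_nn_uP x hx 1
  have e4 := congrArg β e3
  rw [map_mul, map_mul, map_inv, hU, hV, e2] at e4
  unfold uP vP at e4
  rw [← map_inv, ← map_mul, ← map_mul] at e4
  obtain ⟨ε, hε, h2⟩ := exists_sign_of_toPSL2_eq _ _ e4.symm
  have h01 := h2 0 1
  rw [conj_uu_01, uu_ll_uu_00] at h01
  have hl : ((ll (g₂ (-x⁻¹ ^ 2 * 1)) : SpecialLinearGroup (Fin 2) F) : Matrix (Fin 2) (Fin 2) F) 0 1 = 0 := by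
    simp [ll]
  rw [hl, mul_zero] at h01
  have hz := g1_ne_zero β g₁ hU (one_ne_zero : (1 : F) ≠ 0)
  have h3 : (1 + g₁ x * g₂ (-x⁻¹)) ^ 2 = 0 := (mul_eq_zero.1 h01).resolve_right hz
  have h4 : 1 + g₁ x * g₂ (-x⁻¹) = 0 := pow_eq_zero_iff (two_ne_zero) |>.mp h3
  linear_combination h4

include hU hV in
theorem g2_eq (x : F) (hx : x ≠ 0) : g₂ (-x⁻¹) = -(g₁ x)⁻¹ := by
  have h := g1_mul_g2 β g₁ g₂ hU hV x hx
  have h0 := g1_ne_zero β g₁ hU hx
  have h1 : g₂ (-x⁻¹) = -1 / g₁ x := by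
    rw [eq_div_iff h0, mul_comm]; exact h
  rw [h1, neg_div, one_div]

include hU hV in
theorem map_nn (x : F) (hx : x ≠ 0) :
    β (toPSL2 F (nn x hx)) = toPSL2 F (nn (g₁ x) (g1_ne_zero β g₁ hU hx)) := by
  rw [toPSL2_nn, map_mul, map_mul, hU, hV, g2_eq β g₁ g₂ hU hV x hx, toPSL2_nn]

include hU hV in
theorem map_dg (x y : F) (hx : x ≠ 0) (hy : y ≠ 0) :
    β (toPSL2 F (dg (x / y) (div_ne_zero hx hy))) =
      toPSL2 F (dg (g₁ x / g₁ y) (div_ne_zero (g1_ne_zero β g₁ hU hx) (g1_ne_zero β g₁ hU hy))) := by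
  rw [toPSL2_dg_div x y hx hy, map_mul, map_inv, map_nn β g₁ g₂ hU hV, map_nn β g₁ g₂ hU hV,
    toPSL2_dg_div]

include hU hV in
theorem g1_sq_mul (x s : F) (hx : x ≠ 0) : g₁ (x ^ 2 * s) = (g₁ x / g₁ 1) ^ 2 * g₁ s := by
  apply uP_inj
  have e := conj_dg_uP (x / 1) (div_ne_zero hx one_ne_zero) s
  have e' := congrArg β e
  rw [map_mul, map_mul, map_inv, map_dg β g₁ g₂ hU hV x 1 hx one_ne_zero, hU, hU, conj_dg_uP, div_one] at e'
  exact e'.symm

end normalized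

section main
variable {F : Type*} [Field F] [Finite F]

/-- an automorphism normalizing both root groups is diagonal times field -/
theorem aut_eq_of_normalized (β : MulAut (ProjectiveSpecialLinearGroup (Fin 2) F)) (g₁ g₂ : F → F)
    (hU : ∀ a, β (uP a) = uP (g₁ a)) (hV : ∀ b, β (vP b) = vP (g₂ b)) :
    ∃ (c : Fˣ) (σ : F ≃+* F), β = diagAut c * fieldAut σ := by
  have hc0 : g₁ 1 ≠ 0 := g1_ne_zero β g₁ hU one_ne_zero
  set c : F := g₁ 1 with hc
  let τ : F →+ F :=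
    { toFun := fun x => g₁ x / c
      map_zero' := by
        show g₁ 0 / c = 0
        rw [g1_zero β g₁ hU, zero_div]
      map_add' := fun a b => by
        show g₁ (a + b) / c = g₁ a / c + g₁ b / c
        rw [g1_add β g₁ hU, add_div] }
  have hτ : ∀ x, τ x = g₁ x / c := fun x => rfl
  have h1 : τ 1 = 1 := by rw [hτ]; exact div_self hc0
  have hsq : ∀ x s : F, τ (x ^ 2 * s) = τ x ^ 2 * τ s := by
    intro x s
    by_cases hx : x = 0
    · subst hx
      rw [zero_pow two_ne_zero, zero_mul, map_zero, zero_pow two_ne_zero, zero_mul]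
    · rw [hτ, hτ, hτ, g1_sq_mul β g₁ g₂ hU hV x s hx]; ring
  have hmul := mul_of_sq_mul τ h1 hsq
  let ρ : F →+* F :=
    { toFun := τ, map_one' := h1, map_mul' := hmul, map_zero' := map_zero τ, map_add' := map_add τ }
  have hρbij : Function.Bijective ρ := Finite.injective_iff_bijective.1 ρ.injective
  let σ : F ≃+* F := RingEquiv.ofBijective ρ hρbij
  have hσ : ∀ x, σ x = g₁ x / c := fun x => rfl
  have hg1 : ∀ x, g₁ x = c * σ x := by
    intro x; rw [hσ]; field_simp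
  have hg2 : ∀ y, g₂ y = c⁻¹ * σ y := by
    intro y
    by_cases hy : y = 0
    · subst hy; rw [g2_zero β g₂ hV, map_zero, mul_zero]
    · have hx : -y⁻¹ ≠ 0 := neg_ne_zero.2 (inv_ne_zero hy)
      have e := g2_eq β g₁ g₂ hU hV (-y⁻¹) hx
      have e1 : -(-y⁻¹)⁻¹ = y := by rw [inv_neg, inv_inv, neg_neg]
      rw [e1] at e
      rw [e, hg1, map_neg, map_inv₀]
      have h3 : σ y ≠ 0 := (map_ne_zero σ).2 hy
      field_simp
  refine ⟨Units.mk0 c hc0, σ, ?_⟩
  have hL : (MonoidHom.eqLocus β.toMonoidHom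
      (diagAut (Units.mk0 c hc0) * fieldAut σ).toMonoidHom).comap (toPSL2 F) = ⊤ := by
    apply eq_top_of_uu_ll
    · intro b
      show β (uP b) = (diagAut (Units.mk0 c hc0) * fieldAut σ) (uP b)
      rw [MulAut.mul_apply, fieldAut_uP, diagAut_uP, hU, hg1, Units.val_mk0]
    · intro b
      show β (vP b) = (diagAut (Units.mk0 c hc0) * fieldAut σ) (vP b)
      rw [MulAut.mul_apply, fieldAut_vP, diagAut_vP, hV, hg2, Units.val_inv_eq_inv_val, Units.val_mk0]
  apply MulEquiv.ext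
  intro x
  obtain ⟨g, rfl⟩ := toPSL2_surjective x
  have hg : g ∈ (MonoidHom.eqLocus β.toMonoidHom
      (diagAut (Units.mk0 c hc0) * fieldAut σ).toMonoidHom).comap (toPSL2 F) := by
    rw [hL]; trivial
  exact hg

end main

end Cfsg.Agent.Lib.Helper15.Dk
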