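import Mathlib
import Cfsg.Agent.Lib.Helper15.Dk25

/-!
# Automorphisms of `PSL₂(F)`, part 3: every automorphism is inner times diagonal times field
-/

set_option autoImplicit false

open scoped Pointwise

namespace Cfsg.Agent.Lib.Helper15.Dk

open Matrix
open Cfsg.Agent.Lib.Helper14
open Cfsg.Agent.Lib.Helper15

section sylow
variable {F : Type*} [Field F] [Fintype F]

theorem exists_conj_normalize_U (p : ℕ) [Fact p.Prime] [CharP F p] (α : MulAut (ProjectiveSpecialLinearGroup (Fin 2) F)) :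
    ∃ x : ProjectiveSpecialLinearGroup (Fin 2) F, ∀ a : F, ∃ a', (MulAut.conj x * α) (uP a) = uP a' := by
  obtain ⟨x, hx⟩ := MulAction.exists_smul_eq (ProjectiveSpecialLinearGroup (Fin 2) F)
    (α • (UbarSylow p : Sylow p (ProjectiveSpecialLinearGroup (Fin 2) F)))
    (UbarSylow p : Sylow p (ProjectiveSpecialLinearGroup (Fin 2) F))
  refine ⟨x, fun a => ?_⟩
  rw [← mem_Ubar_iff_exists, ← coe_UbarSylow p]
  have h1 : (MulAut.conj x * α) (uP a) ∈
      ((x • (α • (UbarSylow p : Sylow p (ProjectiveSpecialLinearGroup (Fin 2) F))) :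
          Sylow p (ProjectiveSpecialLinearGroup (Fin 2) F)) :
        Subgroup (ProjectiveSpecialLinearGroup (Fin 2) F)) := by
    rw [Sylow.smul_def, Sylow.pointwise_smul_def, Sylow.pointwise_smul_def, MulAut.mul_apply]
    apply Subgroup.smul_mem_pointwise_smul
    apply Subgroup.smul_mem_pointwise_smul
    rw [coe_UbarSylow]
    exact (mem_Ubar_iff_exists _).2 ⟨a, rfl⟩
  rwa [hx] at h1

/-- second normalization: the opposite root group -/
theorem exists_conj_normalize_V (α₁ : MulAut (ProjectiveSpecialLinearGroup (Fin 2) F))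
    (hU₁ : ∀ a : F, ∃ a', α₁ (uP a) = uP a') :
    ∃ r : F, ∀ b : F, ∃ b', (MulAut.conj (uP r) * α₁) (vP b) = vP b' := by
  choose g₁ hg₁ using hU₁
  obtain ⟨xt, hxt⟩ := toPSL2_surjective (α₁ (toPSL2 F (nn (1 : F) one_ne_zero)))
  have hv : ∀ b : F, vP b = toPSL2 F (nn (1 : F) one_ne_zero) * uP (-b) *
      (toPSL2 F (nn (1 : F) one_ne_zero))⁻¹ := by
    intro b
    rw [conj_nn_uP]
    congr 1
    rw [inv_one, one_pow, neg_one_mul, neg_neg]
  have key : ∀ b : F, α₁ (vP b) = toPSL2 F (xt * uu (g₁ (-b)) * xt⁻¹) := by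
    intro b
    rw [hv, map_mul, map_mul, map_inv, ← hxt, hg₁, map_mul, map_mul, map_inv]
    rfl
  by_cases h10 : (xt : Matrix (Fin 2) (Fin 2) F) 1 0 = 0
  · exfalso
    have hB : IsB xt := h10
    have h1 := key 1
    rw [conj_uu_of_isB xt hB] at h1
    have hinj : Function.Injective g₁ := fun a b h => g1_inj α₁ g₁ hg₁ h
    obtain ⟨a, ha⟩ := (Finite.injective_iff_surjective.1 hinj)
      ((xt : Matrix (Fin 2) (Fin 2) F) 0 0 ^ 2 * g₁ (-1))
    have h2 : α₁ (vP 1) = α₁ (uP a) := by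
      rw [h1, hg₁, ha]; rfl
    have h3 := α₁.injective h2
    apply vP_not_mem_Ubar (one_ne_zero : (1 : F) ≠ 0)
    rw [h3]
    exact (mem_Ubar_iff_exists _).2 ⟨a, rfl⟩
  · set r := (xt : Matrix (Fin 2) (Fin 2) F) 0 0 / (xt : Matrix (Fin 2) (Fin 2) F) 1 0 with hr
    set y := uu (-r) * xt with hy
    have hy0 : (y : Matrix (Fin 2) (Fin 2) F) 0 0 = 0 := by
      rw [hy, uu_mul_00, hr]
      field_simp
      ring
    have hxy : xt = uu r * y := by
      rw [hy, ← mul_assoc, uu_mul, add_neg_cancel, uu_zero, one_mul]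
    refine ⟨-r, fun b => ⟨-((y : Matrix (Fin 2) (Fin 2) F) 1 0) ^ 2 * g₁ (-b), ?_⟩⟩
    rw [MulAut.mul_apply, key, MulAut.conj_apply]
    have e1 : xt * uu (g₁ (-b)) * xt⁻¹ = uu r * (y * uu (g₁ (-b)) * y⁻¹) * (uu r)⁻¹ := by
      rw [hxy]; group
    have e2 : uu (-r) * (xt * uu (g₁ (-b)) * xt⁻¹) * (uu (-r))⁻¹ =
        ll (-((y : Matrix (Fin 2) (Fin 2) F) 1 0) ^ 2 * g₁ (-b)) := by
      rw [e1, conj_uu_of_00 y hy0, ← uu_inv]; group
    unfold uP vP
    rw [← map_inv, ← map_mul, ← map_mul, e2]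

/-- both normalizations at once -/
theorem exists_conj_normalize (p : ℕ) [Fact p.Prime] [CharP F p]
    (α : MulAut (ProjectiveSpecialLinearGroup (Fin 2) F)) :
    ∃ x : ProjectiveSpecialLinearGroup (Fin 2) F,
      (∀ a : F, ∃ a', (MulAut.conj x * α) (uP a) = uP a') ∧
      (∀ b : F, ∃ b', (MulAut.conj x * α) (vP b) = vP b') := by
  obtain ⟨x₁, h₁⟩ := exists_conj_normalize_U p α
  obtain ⟨r, h₂⟩ := exists_conj_normalize_V (MulAut.conj x₁ * α) h₁
  refine ⟨uP r * x₁, ?_, ?_⟩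
  · intro a
    obtain ⟨a', ha'⟩ := h₁ a
    refine ⟨a', ?_⟩
    rw [map_mul, mul_assoc, MulAut.mul_apply, ha', MulAut.conj_apply, ← uP_neg, ← uP_add, ← uP_add]
    congr 1
    ring
  · intro b
    obtain ⟨b', hb'⟩ := h₂ b
    refine ⟨b', ?_⟩
    rw [map_mul, mul_assoc]
    exact hb'

/-- every automorphism of `PSL₂(F)` is inner times diagonal times field -/
theorem aut_classification (p : ℕ) [Fact p.Prime] [CharP F p]
    (α : MulAut (ProjectiveSpecialLinearGroup (Fin 2) F)) :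
    ∃ (x : ProjectiveSpecialLinearGroup (Fin 2) F) (c : Fˣ) (σ : F ≃+* F),
      α = MulAut.conj x * diagAut c * fieldAut σ := by
  obtain ⟨x, hU, hV⟩ := exists_conj_normalize p α
  choose g₁ hg₁ using hU
  choose g₂ hg₂ using hV
  obtain ⟨c, σ, h⟩ := aut_eq_of_normalized (MulAut.conj x * α) g₁ g₂ hg₁ hg₂
  refine ⟨x⁻¹, c, σ, ?_⟩
  rw [mul_assoc, ← h, map_inv, inv_mul_cancel_left]

end sylow

end Cfsg.Agent.Lib.Helper15.Dk
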