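import Mathlib
import Cfsg.Agent.Lib.Helper15.Dk26
import Cfsg.Prelude.Def_KGroupFacts

set_option autoImplicit false

namespace Cfsg.Agent.Lib.Helper15.Dk

open Matrix
open Cfsg.Agent.Lib.Helper14
open Cfsg.Agent.Lib.Helper15

section galois
variable {F : Type*} [Field F] [Fintype F]

/-- the automorphism group of a finite field of order `p ^ f` is cyclic of order `f` -/
theorem exists_ringAut_mulEquiv (p f : ℕ) [Fact p.Prime] [CharP F p] (hF : Fintype.card F = p ^ f) :
    Nonempty (RingAut F ≃* Multiplicative (ZMod f)) := by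
  let _ : Algebra (ZMod p) F := ZMod.algebra F p
  let e₁ : (F ≃ₐ[ZMod p] F) →* RingAut F :=
    { toFun := fun σ => σ.toRingEquiv
      map_one' := rfl
      map_mul' := fun _ _ => rfl }
  have h₁ : Function.Bijective e₁ := by
    constructor
    · intro σ τ h
      apply AlgEquiv.ext
      intro x
      exact RingEquiv.congr_fun h x
    · intro σ
      have hc : ∀ x : ZMod p, σ (algebraMap (ZMod p) F x) = algebraMap (ZMod p) F x := by
        intro x
        have := RingHom.ext_zmod ((σ : F →+* F).comp (algebraMap (ZMod p) F)) (algebraMap (ZMod p) F)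
        exact RingHom.congr_fun this x
      exact ⟨AlgEquiv.ofRingEquiv (f := σ) hc, rfl⟩
  have hcard : Nat.card (F ≃ₐ[ZMod p] F) = f := by
    rw [IsGalois.card_aut_eq_finrank]
    have h2 := Module.card_eq_pow_finrank (K := ZMod p) (V := F)
    rw [ZMod.card, hF] at h2
    exact (Nat.pow_right_injective (Fact.out : p.Prime).two_le h2).symm
  have e₂ := zmodCyclicMulEquiv (inferInstance : IsCyclic (F ≃ₐ[ZMod p] F))
  rw [hcard] at e₂
  exact ⟨((e₂.trans (MulEquiv.ofBijective e₁ h₁)).symm)⟩

end galois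

section typehom
variable {F : Type*} [Field F] [Fintype F]

set_option linter.unusedSectionVars false

/-- ring automorphisms of a finite field agreeing on squares are equal -/
theorem ringAut_ext_of_sq (σ τ : RingAut F) (h : ∀ t : F, σ (t ^ 2) = τ (t ^ 2)) : σ = τ := by
  apply RingEquiv.ext
  intro z
  by_cases h2 : ringChar F = 2
  · obtain ⟨x, rfl⟩ := FiniteField.isSquare_of_char_two h2 z
    rw [← pow_two]; exact h x
  · have h2' : (2 : F) ≠ 0 := Ring.two_ne_zero h2
    have hz : z = ((z + 1) / 2) ^ 2 - ((z - 1) / 2) ^ 2 := by field_simp; ring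
    rw [hz, map_sub, map_sub, h, h]

/-- `α` transforms the squared trace by `σ` -/
def IsType (α : MulAut (ProjectiveSpecialLinearGroup (Fin 2) F)) (σ : RingAut F) : Prop :=
  ∀ g, trsq (α g) = σ (trsq g)

theorem isType_conj (x : ProjectiveSpecialLinearGroup (Fin 2) F) : IsType (MulAut.conj x) (1 : RingAut F) :=
  fun g => trsq_conj x g

theorem isType_diagAut (c : Fˣ) : IsType (diagAut c) (1 : RingAut F) :=
  fun g => trsq_diagAut c g

theorem isType_fieldAut (σ : RingAut F) : IsType (fieldAut σ) σ :=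
  fun g => trsq_fieldAut σ g

theorem isType_one : IsType (1 : MulAut (ProjectiveSpecialLinearGroup (Fin 2) F)) (1 : RingAut F) :=
  fun _ => rfl

theorem IsType.mul {α β : MulAut (ProjectiveSpecialLinearGroup (Fin 2) F)} {σ τ : RingAut F}
    (h : IsType α σ) (h' : IsType β τ) : IsType (α * β) (σ * τ) := by
  intro g
  rw [MulAut.mul_apply, h, h']
  rfl

theorem IsType.unique {α : MulAut (ProjectiveSpecialLinearGroup (Fin 2) F)} {σ τ : RingAut F}
    (h : IsType α σ) (h' : IsType α τ) : σ = τ := by
  apply ringAut_ext_of_sq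
  intro t
  obtain ⟨y, hy⟩ := exists_trsq_eq t
  rw [← hy, ← h, ← h']

theorem exists_isType (p : ℕ) [Fact p.Prime] [CharP F p]
    (α : MulAut (ProjectiveSpecialLinearGroup (Fin 2) F)) : ∃ σ : RingAut F, IsType α σ := by
  obtain ⟨x, c, σ, rfl⟩ := aut_classification p α
  exact ⟨1 * 1 * σ, ((isType_conj x).mul (isType_diagAut c)).mul (isType_fieldAut σ)⟩

/-- the field automorphism attached to an automorphism of `PSL₂(F)` -/
noncomputable def autType (p : ℕ) [Fact p.Prime] [CharP F p]
    (α : MulAut (ProjectiveSpecialLinearGroup (Fin 2) F)) : RingAut F :=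
  Classical.choose (exists_isType p α)

theorem autType_spec (p : ℕ) [Fact p.Prime] [CharP F p]
    (α : MulAut (ProjectiveSpecialLinearGroup (Fin 2) F)) : IsType α (autType p α) :=
  Classical.choose_spec (exists_isType p α)

/-- the homomorphism from automorphisms of `PSL₂(F)` to automorphisms of `F` -/
noncomputable def autTypeHom (p : ℕ) [Fact p.Prime] [CharP F p] :
    MulAut (ProjectiveSpecialLinearGroup (Fin 2) F) →* RingAut F where
  toFun := autType p
  map_one' := (autType_spec p 1).unique isType_one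
  map_mul' α β := (autType_spec p (α * β)).unique ((autType_spec p α).mul (autType_spec p β))

theorem autTypeHom_eq (p : ℕ) [Fact p.Prime] [CharP F p]
    {α : MulAut (ProjectiveSpecialLinearGroup (Fin 2) F)} {σ : RingAut F} (h : IsType α σ) :
    autTypeHom p α = σ := (autType_spec p α).unique h

theorem autTypeHom_conj (p : ℕ) [Fact p.Prime] [CharP F p] (x : ProjectiveSpecialLinearGroup (Fin 2) F) :
    autTypeHom p (MulAut.conj x) = 1 := autTypeHom_eq p (isType_conj x)

theorem autTypeHom_diagAut (p : ℕ) [Fact p.Prime] [CharP F p] (c : Fˣ) :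
    autTypeHom p (diagAut c) = 1 := autTypeHom_eq p (isType_diagAut c)

theorem autTypeHom_fieldAut (p : ℕ) [Fact p.Prime] [CharP F p] (σ : RingAut F) :
    autTypeHom p (fieldAut σ) = σ := autTypeHom_eq p (isType_fieldAut σ)

theorem inn_le_ker_autTypeHom (p : ℕ) [Fact p.Prime] [CharP F p] :
    Cfsg.Inn (ProjectiveSpecialLinearGroup (Fin 2) F) ≤ (autTypeHom (F := F) p).ker := by
  rintro _ ⟨x, rfl⟩
  exact autTypeHom_conj p x

theorem mem_ker_autTypeHom (p : ℕ) [Fact p.Prime] [CharP F p]
    (α : MulAut (ProjectiveSpecialLinearGroup (Fin 2) F)) (h : autTypeHom p α = 1) :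
    ∃ (x : ProjectiveSpecialLinearGroup (Fin 2) F) (c : Fˣ), α = MulAut.conj x * diagAut c := by
  obtain ⟨x, c, σ, rfl⟩ := aut_classification p α
  rw [map_mul, map_mul, autTypeHom_conj, autTypeHom_diagAut, autTypeHom_fieldAut, one_mul, one_mul] at h
  subst h
  refine ⟨x, c, ?_⟩
  have : fieldAut (1 : RingAut F) = 1 := fieldAut_one
  rw [this, mul_one]

/-- a diagonal automorphism which is inner comes from a square -/
theorem isSquare_of_diagAut_inner (c : Fˣ) (x : ProjectiveSpecialLinearGroup (Fin 2) F)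
    (h : MulAut.conj x = diagAut c) : IsSquare (c : F) := by
  obtain ⟨m, rfl⟩ := toPSL2_surjective x
  have h1 := congrArg (fun α : MulAut (ProjectiveSpecialLinearGroup (Fin 2) F) => α (uP 1)) h
  simp only [MulAut.conj_apply, diagAut_uP, mul_one] at h1
  unfold uP at h1
  rw [← map_inv, ← map_mul, ← map_mul] at h1
  obtain ⟨ε, hε, h2⟩ := exists_sign_of_toPSL2_eq _ _ h1.symm
  have hB : IsB m := by
    apply isB_of_conj_uu m 1 one_ne_zero
    have h10 := h2 1 0
    have h00 := h2 0 0
    have h11 := h2 1 1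
    simp only [uu, upperSL_coe, Matrix.of_apply, Matrix.cons_val', Matrix.cons_val_zero,
      Matrix.cons_val_one, Matrix.cons_val_fin_one] at h10 h00 h11
    have hε0 : ε ≠ 0 := by
      intro h0; rw [h0, mul_zero] at hε; exact zero_ne_one hε
    refine ⟨?_, ?_⟩
    · rw [mul_zero] at h10; exact h10
    · rw [h00, h11]
  rw [conj_uu_of_isB m hB] at h1
  have h3 := uP_inj h1
  exact ⟨(m : Matrix (Fin 2) (Fin 2) F) 0 0, by rw [← h3]; ring⟩

/-- the homomorphism from the outer automorphism group to the automorphisms of `F` -/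
noncomputable def outTypeHom (p : ℕ) [Fact p.Prime] [CharP F p] :
    Cfsg.Out (ProjectiveSpecialLinearGroup (Fin 2) F) →* RingAut F :=
  QuotientGroup.lift (Cfsg.Inn (ProjectiveSpecialLinearGroup (Fin 2) F)) (autTypeHom p)
    (inn_le_ker_autTypeHom p)

theorem outTypeHom_mk (p : ℕ) [Fact p.Prime] [CharP F p]
    (α : MulAut (ProjectiveSpecialLinearGroup (Fin 2) F)) :
    outTypeHom p (QuotientGroup.mk α) = autTypeHom p α := rfl

/-- the diagonal outer automorphisms -/
noncomputable def outDiagHom : Fˣ →* Cfsg.Out (ProjectiveSpecialLinearGroup (Fin 2) F) :=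
  (QuotientGroup.mk' (Cfsg.Inn (ProjectiveSpecialLinearGroup (Fin 2) F))).comp diagAutHom

theorem outDiagHom_apply (c : Fˣ) :
    outDiagHom c = (QuotientGroup.mk (diagAut c) : Cfsg.Out (ProjectiveSpecialLinearGroup (Fin 2) F)) := rfl

theorem outDiagHom_sq (d : Fˣ) : outDiagHom (F := F) (d ^ 2) = 1 := by
  rw [outDiagHom_apply, diagAut_sq, QuotientGroup.eq_one_iff]
  exact ⟨_, rfl⟩

theorem outDiagHom_eq_one_iff (c : Fˣ) : outDiagHom c = 1 ↔ IsSquare (c : F) := by
  constructor
  · intro h
    rw [outDiagHom_apply, QuotientGroup.eq_one_iff] at h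
    obtain ⟨x, hx⟩ := h
    exact isSquare_of_diagAut_inner c x hx
  · rintro ⟨d, hd⟩
    have hd0 : d ≠ 0 := by
      intro h0
      rw [h0, mul_zero] at hd
      exact c.ne_zero hd
    have : c = (Units.mk0 d hd0) ^ 2 := by
      apply Units.ext
      rw [Units.val_pow_eq_pow_val, Units.val_mk0, hd, pow_two]
    rw [this]
    exact outDiagHom_sq _

theorem ker_outTypeHom (p : ℕ) [Fact p.Prime] [CharP F p] :
    (outTypeHom (F := F) p).ker = (outDiagHom (F := F)).range := by
  ext x
  obtain ⟨α, rfl⟩ := QuotientGroup.mk_surjective x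
  rw [MonoidHom.mem_ker, outTypeHom_mk, MonoidHom.mem_range]
  constructor
  · intro h
    obtain ⟨y, c, rfl⟩ := mem_ker_autTypeHom p α h
    refine ⟨c, ?_⟩
    rw [outDiagHom_apply, QuotientGroup.mk_mul]
    have : (QuotientGroup.mk (MulAut.conj y) : Cfsg.Out (ProjectiveSpecialLinearGroup (Fin 2) F)) = 1 := by
      rw [QuotientGroup.eq_one_iff]; exact ⟨y, rfl⟩
    rw [this, one_mul]
  · rintro ⟨c, hc⟩
    rw [outDiagHom_apply] at hc
    rw [← outTypeHom_mk, ← hc, outTypeHom_mk, autTypeHom_diagAut]

theorem card_range_outDiagHom_even (h2 : ringChar F = 2) :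
    Nat.card (outDiagHom (F := F)).range = 1 := by
  have h1 : (outDiagHom (F := F)).range = ⊥ := by
    rw [MonoidHom.range_eq_bot_iff]
    ext c
    rw [MonoidHom.one_apply, outDiagHom_eq_one_iff]
    exact FiniteField.isSquare_of_char_two h2 _
  rw [h1]
  exact Subgroup.card_bot

theorem card_range_outDiagHom_odd (h2 : ringChar F ≠ 2) :
    Nat.card (outDiagHom (F := F)).range = 2 := by
  obtain ⟨a, ha⟩ := FiniteField.exists_nonsquare h2
  have ha0 : a ≠ 0 := by
    rintro rfl
    exact ha ⟨0, by rw [mul_zero]⟩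
  have hpow : ∀ b : F, b ≠ 0 → ¬ IsSquare b → b ^ (Fintype.card F / 2) = -1 := by
    intro b hb hsq
    rcases FiniteField.pow_dichotomy h2 hb with h | h
    · exact absurd ((FiniteField.isSquare_iff h2 hb).2 h) hsq
    · exact h
  rw [Nat.card_eq_two_iff]
  refine ⟨1, ⟨outDiagHom (Units.mk0 a ha0), ⟨_, rfl⟩⟩, ?_, ?_⟩
  · intro h
    have h' := congrArg Subtype.val h
    rw [Subgroup.coe_one] at h'
    exact ha ((outDiagHom_eq_one_iff (Units.mk0 a ha0)).1 h'.symm)
  · apply Set.eq_univ_of_forall
    rintro ⟨_, c, rfl⟩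
    by_cases hc : IsSquare (c : F)
    · left
      apply Subtype.ext
      rw [Subgroup.coe_one]
      exact (outDiagHom_eq_one_iff c).2 hc
    · right
      apply Subtype.ext
      show outDiagHom c = outDiagHom (Units.mk0 a ha0)
      have h3 : IsSquare ((c * (Units.mk0 a ha0)⁻¹ : Fˣ) : F) := by
        rw [FiniteField.isSquare_iff h2 (Units.ne_zero _), Units.val_mul, mul_pow,
          Units.val_inv_eq_inv_val, Units.val_mk0, inv_pow, hpow _ c.ne_zero hc, hpow a ha0 ha]
        rw [mul_inv_cancel₀ (neg_ne_zero.2 one_ne_zero)]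
      have h4 := (outDiagHom_eq_one_iff _).2 h3
      rw [map_mul, map_inv, mul_inv_eq_one] at h4
      exact h4

theorem gcd_two_of_odd (n : ℕ) (h : n % 2 = 1) : Nat.gcd 2 (n - 1) = 2 := by
  rw [Nat.gcd_rec]
  have : (n - 1) % 2 = 0 := by omega
  rw [this, Nat.gcd_zero_left]

theorem gcd_two_of_even (n : ℕ) (h : n % 2 = 0) (h0 : 0 < n) : Nat.gcd 2 (n - 1) = 1 := by
  rw [Nat.gcd_rec]
  have : (n - 1) % 2 = 1 := by omega
  rw [this, Nat.gcd_one_left]

/-- the structure of the outer automorphism group of `PSL₂(F)` -/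
theorem out_psl2_structure (p f : ℕ) [Fact p.Prime] [CharP F p] (hF : Fintype.card F = p ^ f) :
    ∃ φ : Cfsg.Out (ProjectiveSpecialLinearGroup (Fin 2) F) →* Multiplicative (ZMod f),
      Function.Surjective φ ∧ IsCyclic φ.ker ∧ Nat.card φ.ker = Nat.gcd 2 (p ^ f - 1) := by
  obtain ⟨e⟩ := exists_ringAut_mulEquiv (F := F) p f hF
  have hf : f ≠ 0 := by
    rintro rfl
    have := Fintype.one_lt_card (α := F)
    rw [hF, pow_zero] at this
    exact lt_irrefl _ this
  refine ⟨e.toMonoidHom.comp (outTypeHom p), ?_, ?_⟩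
  · intro z
    refine ⟨QuotientGroup.mk (fieldAut (e.symm z)), ?_⟩
    show e (outTypeHom p (QuotientGroup.mk (fieldAut (e.symm z)))) = z
    rw [outTypeHom_mk, autTypeHom_fieldAut, e.apply_symm_apply]
  · have hker : (e.toMonoidHom.comp (outTypeHom (F := F) p)).ker = (outDiagHom (F := F)).range := by
      rw [← ker_outTypeHom p]
      ext x
      rw [MonoidHom.mem_ker, MonoidHom.mem_ker]
      show e (outTypeHom p x) = 1 ↔ _
      rw [map_eq_one_iff e e.injective]
    rw [hker]
    refine ⟨?_, ?_⟩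
    · exact isCyclic_of_surjective (outDiagHom (F := F)).rangeRestrict
        (outDiagHom (F := F)).rangeRestrict_surjective
    · have hch : ringChar F = p := ringChar.eq F p
      by_cases h2 : p = 2
      · rw [card_range_outDiagHom_even (by rw [hch, h2])]
        subst h2
        symm
        apply gcd_two_of_even
        · obtain ⟨k, rfl⟩ := Nat.exists_eq_succ_of_ne_zero hf
          rw [pow_succ]; omega
        · positivity
      · rw [card_range_outDiagHom_odd (by rw [hch]; exact h2)]
        symm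
        apply gcd_two_of_odd
        have hp2 : p % 2 = 1 := ((Fact.out : p.Prime).eq_two_or_odd).resolve_left h2
        rw [Nat.pow_mod, hp2, one_pow]; rfl

end typehom

end Cfsg.Agent.Lib.Helper15.Dk
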