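import Mathlib
import Cfsg.Agent.Lib.Helper15.Dk27

/-!
# Maximal subgroups of `PSL₂(q)`, `q` odd, part 1: conjugation by `GL₂` and a rigidity lemma

Two pairs `(g, k)`, `(g', k')` in `SL₂(F)` with `tr g = tr g' = 0`, `tr k = tr k'`,
`tr (g k) = tr (g' k')` and `(tr k)² + (tr g k)² ≠ 4` are conjugate under `GL₂(F)`.
-/

set_option autoImplicit false

namespace Cfsg.Agent.Lib.Helper15.Mx

open Matrix
open Cfsg.Agent.Lib.Helper14
open Cfsg.Agent.Lib.Helper15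
open Cfsg.Agent.Lib.Helper15.Dk

variable {F : Type*} [Field F]

/-- conjugation by an element of `GL₂` on `SL₂` -/
def glSL (P : GL (Fin 2) F) : SpecialLinearGroup (Fin 2) F ≃* SpecialLinearGroup (Fin 2) F where
  toFun g := ⟨(P : Matrix (Fin 2) (Fin 2) F) * (g : Matrix (Fin 2) (Fin 2) F) *
    ((P⁻¹ : GL (Fin 2) F) : Matrix (Fin 2) (Fin 2) F), by rw [Matrix.det_units_conj]; exact g.det_coe⟩
  invFun g := ⟨((P⁻¹ : GL (Fin 2) F) : Matrix (Fin 2) (Fin 2) F) * (g : Matrix (Fin 2) (Fin 2) F) *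
    (P : Matrix (Fin 2) (Fin 2) F), by rw [Matrix.det_units_conj']; exact g.det_coe⟩
  left_inv g := by
    apply Subtype.ext
    show ((P⁻¹ : GL (Fin 2) F) : Matrix (Fin 2) (Fin 2) F) * ((P : Matrix (Fin 2) (Fin 2) F) *
      (g : Matrix (Fin 2) (Fin 2) F) * ((P⁻¹ : GL (Fin 2) F) : Matrix (Fin 2) (Fin 2) F)) *
      (P : Matrix (Fin 2) (Fin 2) F) = g
    have h1 : ((P⁻¹ : GL (Fin 2) F) : Matrix (Fin 2) (Fin 2) F) * (P : Matrix (Fin 2) (Fin 2) F) = 1 := by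
      rw [← Units.val_mul, inv_mul_cancel, Units.val_one]
    rw [← Matrix.mul_assoc, ← Matrix.mul_assoc, h1, Matrix.one_mul, Matrix.mul_assoc, h1, Matrix.mul_one]
  right_inv g := by
    apply Subtype.ext
    show (P : Matrix (Fin 2) (Fin 2) F) * (((P⁻¹ : GL (Fin 2) F) : Matrix (Fin 2) (Fin 2) F) *
      (g : Matrix (Fin 2) (Fin 2) F) * (P : Matrix (Fin 2) (Fin 2) F)) *
      ((P⁻¹ : GL (Fin 2) F) : Matrix (Fin 2) (Fin 2) F) = g
    have h1 : (P : Matrix (Fin 2) (Fin 2) F) * ((P⁻¹ : GL (Fin 2) F) : Matrix (Fin 2) (Fin 2) F) = 1 := by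
      rw [← Units.val_mul, mul_inv_cancel, Units.val_one]
    rw [← Matrix.mul_assoc, ← Matrix.mul_assoc, h1, Matrix.one_mul, Matrix.mul_assoc, h1, Matrix.mul_one]
  map_mul' g h := by
    apply Subtype.ext
    show (P : Matrix (Fin 2) (Fin 2) F) * ((g * h : SpecialLinearGroup (Fin 2) F) : Matrix (Fin 2) (Fin 2) F) *
      ((P⁻¹ : GL (Fin 2) F) : Matrix (Fin 2) (Fin 2) F) =
      ((P : Matrix (Fin 2) (Fin 2) F) * (g : Matrix (Fin 2) (Fin 2) F) *
        ((P⁻¹ : GL (Fin 2) F) : Matrix (Fin 2) (Fin 2) F)) *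
      ((P : Matrix (Fin 2) (Fin 2) F) * (h : Matrix (Fin 2) (Fin 2) F) *
        ((P⁻¹ : GL (Fin 2) F) : Matrix (Fin 2) (Fin 2) F))
    have h1 : ((P⁻¹ : GL (Fin 2) F) : Matrix (Fin 2) (Fin 2) F) * (P : Matrix (Fin 2) (Fin 2) F) = 1 := by
      rw [← Units.val_mul, inv_mul_cancel, Units.val_one]
    rw [Matrix.SpecialLinearGroup.coe_mul]
    calc (P : Matrix (Fin 2) (Fin 2) F) * ((g : Matrix (Fin 2) (Fin 2) F) * (h : Matrix (Fin 2) (Fin 2) F)) *
        ((P⁻¹ : GL (Fin 2) F) : Matrix (Fin 2) (Fin 2) F)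
        = (P : Matrix (Fin 2) (Fin 2) F) * (g : Matrix (Fin 2) (Fin 2) F) * 1 *
          (h : Matrix (Fin 2) (Fin 2) F) * ((P⁻¹ : GL (Fin 2) F) : Matrix (Fin 2) (Fin 2) F) := by
          rw [Matrix.mul_one]
          simp only [Matrix.mul_assoc]
      _ = _ := by
          rw [← h1]
          simp only [Matrix.mul_assoc]

theorem coe_glSL (P : GL (Fin 2) F) (g : SpecialLinearGroup (Fin 2) F) :
    ((glSL P g : SpecialLinearGroup (Fin 2) F) : Matrix (Fin 2) (Fin 2) F) =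
      (P : Matrix (Fin 2) (Fin 2) F) * (g : Matrix (Fin 2) (Fin 2) F) *
        ((P⁻¹ : GL (Fin 2) F) : Matrix (Fin 2) (Fin 2) F) := rfl

/-- `glSL P g = h` as soon as `P g = h P` -/
theorem glSL_eq_of_mul_eq (P : GL (Fin 2) F) (g h : SpecialLinearGroup (Fin 2) F)
    (e : (P : Matrix (Fin 2) (Fin 2) F) * (g : Matrix (Fin 2) (Fin 2) F) =
      (h : Matrix (Fin 2) (Fin 2) F) * (P : Matrix (Fin 2) (Fin 2) F)) : glSL P g = h := by
  apply Subtype.ext
  rw [coe_glSL, e, Matrix.mul_assoc, ← Units.val_mul, mul_inv_cancel, Units.val_one, Matrix.mul_one]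

theorem glSL_mul (P Q : GL (Fin 2) F) (g : SpecialLinearGroup (Fin 2) F) :
    glSL (P * Q) g = glSL P (glSL Q g) := by
  apply Subtype.ext
  rw [coe_glSL, coe_glSL, coe_glSL, _root_.mul_inv_rev, Units.val_mul, Units.val_mul]
  simp only [Matrix.mul_assoc]

theorem glSL_inv_apply (P : GL (Fin 2) F) (g : SpecialLinearGroup (Fin 2) F) :
    glSL P⁻¹ (glSL P g) = g := by
  rw [← glSL_mul, inv_mul_cancel]
  apply Subtype.ext
  rw [coe_glSL]
  simp

theorem trace_glSL (P : GL (Fin 2) F) (g : SpecialLinearGroup (Fin 2) F) :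
    ((glSL P g : SpecialLinearGroup (Fin 2) F) : Matrix (Fin 2) (Fin 2) F).trace =
      (g : Matrix (Fin 2) (Fin 2) F).trace := by
  rw [coe_glSL, Matrix.trace_mul_comm, ← Matrix.mul_assoc, ← Units.val_mul, inv_mul_cancel, Units.val_one,
    Matrix.one_mul]

/-- the automorphism of `PSL₂` induced by conjugation with an element of `GL₂` -/
noncomputable def glAut (P : GL (Fin 2) F) : MulAut (ProjectiveSpecialLinearGroup (Fin 2) F) :=
  liftAut (glSL P)

theorem glAut_toPSL2 (P : GL (Fin 2) F) (g : SpecialLinearGroup (Fin 2) F) :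
    glAut P (toPSL2 F g) = toPSL2 F (glSL P g) := rfl

theorem trsq_glAut (P : GL (Fin 2) F) (y : ProjectiveSpecialLinearGroup (Fin 2) F) :
    trsq (glAut P y) = trsq y := by
  obtain ⟨h, rfl⟩ := toPSL2_surjective y
  rw [glAut_toPSL2, trsq_toPSL2, trsq_toPSL2, trace_glSL]

end Cfsg.Agent.Lib.Helper15.Mx
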