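import Mathlib
import Cfsg.Agent.Lib.Helper15.Mx1

/-!
# Maximal subgroups of `PSL₂(q)`, `q` odd, part 2: the rigidity lemma
-/

set_option autoImplicit false

namespace Cfsg.Agent.Lib.Helper15.Mx

open Matrix
open Cfsg.Agent.Lib.Helper14
open Cfsg.Agent.Lib.Helper15
open Cfsg.Agent.Lib.Helper15.Dk

variable {F : Type*} [Field F]

theorem det_eq' (m : SpecialLinearGroup (Fin 2) F) :
    (m : Matrix (Fin 2) (Fin 2) F) 0 0 * (m : Matrix (Fin 2) (Fin 2) F) 1 1 -
      (m : Matrix (Fin 2) (Fin 2) F) 0 1 * (m : Matrix (Fin 2) (Fin 2) F) 1 0 = 1 := by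
  have := m.det_coe
  rw [Matrix.det_fin_two] at this
  exact this

/-- every trace-zero element of `SL₂` is `GL₂`-conjugate to `w0` -/
theorem exists_glSL_w0 (h2 : (2 : F) ≠ 0) (g : SpecialLinearGroup (Fin 2) F)
    (hg : (g : Matrix (Fin 2) (Fin 2) F).trace = 0) : ∃ R : GL (Fin 2) F, glSL R (w0 F) = g := by
  have hd := det_eq' g
  rw [Matrix.trace_fin_two] at hg
  obtain ⟨a, b, c, d, hgm⟩ : ∃ a b c d : F, (g : Matrix (Fin 2) (Fin 2) F) = !![a, b; c, d] :=
    ⟨_, _, _, _, Matrix.eta_fin_two _⟩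
  rw [hgm] at hg hd
  simp at hg hd
  obtain rfl : d = -a := by linear_combination hg
  by_cases hc0 : c ≠ 0
  · refine ⟨Matrix.GeneralLinearGroup.mkOfDetNeZero !![1, a; 0, c] (by simp [Matrix.det_fin_two, hc0]), ?_⟩
    apply glSL_eq_of_mul_eq
    rw [hgm]
    show !![1, a; 0, c] * ((w0 F : SpecialLinearGroup (Fin 2) F) : Matrix (Fin 2) (Fin 2) F) = _
    simp only [w0, Matrix.mul_fin_two]
    ext i j
    fin_cases i <;> fin_cases j <;> simp
    all_goals first | ring1 | linear_combination hd | linear_combination -hd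
  push Not at hc0
  subst hc0
  by_cases hb0 : b ≠ 0
  · refine ⟨Matrix.GeneralLinearGroup.mkOfDetNeZero !![0, b; 1, -a] (by simp [Matrix.det_fin_two, hb0]), ?_⟩
    apply glSL_eq_of_mul_eq
    rw [hgm]
    show !![0, b; 1, -a] * ((w0 F : SpecialLinearGroup (Fin 2) F) : Matrix (Fin 2) (Fin 2) F) = _
    simp only [w0, Matrix.mul_fin_two]
    ext i j
    fin_cases i <;> fin_cases j <;> simp
    all_goals first | ring1 | linear_combination hd | linear_combination -hd
  push Not at hb0
  subst hb0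
  have ha0 : a ≠ 0 := by
    rintro rfl
    simp at hd
  refine ⟨Matrix.GeneralLinearGroup.mkOfDetNeZero !![1, a; 1, -a] (by
    simp [Matrix.det_fin_two]
    intro h
    apply ha0
    have : 2 * a = 0 := by linear_combination -h
    exact (mul_eq_zero.1 this).resolve_left h2), ?_⟩
  apply glSL_eq_of_mul_eq
  rw [hgm]
  show !![1, a; 1, -a] * ((w0 F : SpecialLinearGroup (Fin 2) F) : Matrix (Fin 2) (Fin 2) F) = _
  simp only [w0, Matrix.mul_fin_two]
  ext i j
  fin_cases i <;> fin_cases j <;> simp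
  all_goals first | ring1 | linear_combination hd | linear_combination -hd

/-- the core computation of the rigidity lemma -/
theorem core_mul (α β x y x' y' ν : F) (h1 : x ^ 2 + y ^ 2 = ν) (h2 : x' ^ 2 + y' ^ 2 = ν) :
    !![ν + x * x' + y * y', -(y * x' - x * y'); y * x' - x * y', ν + x * x' + y * y'] *
      !![α + x', y' - β; y' + β, α - x'] =
    !![α + x, y - β; y + β, α - x] *
      !![ν + x * x' + y * y', -(y * x' - x * y'); y * x' - x * y', ν + x * x' + y * y'] := by
  simp only [Matrix.mul_fin_two]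
  ext i j
  fin_cases i <;> fin_cases j <;> simp
  all_goals first
    | linear_combination (-x') * h1 + x * h2
    | linear_combination (-y') * h1 + y * h2
    | linear_combination x' * h1 - x * h2
    | linear_combination y' * h1 - y * h2

theorem core_det (x y x' y' ν : F) (h1 : x ^ 2 + y ^ 2 = ν) (h2 : x' ^ 2 + y' ^ 2 = ν) :
    (!![ν + x * x' + y * y', -(y * x' - x * y'); y * x' - x * y', ν + x * x' + y * y']).det =
      2 * ν * (ν + x * x' + y * y') := by
  rw [Matrix.det_fin_two]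
  simp
  linear_combination (x' ^ 2 + y' ^ 2) * h1 + ν * h2

/-- the core matrix commutes with `w0` -/
theorem core_comm (A B : F) :
    !![A, -B; B, A] * ((w0 F : SpecialLinearGroup (Fin 2) F) : Matrix (Fin 2) (Fin 2) F) =
      ((w0 F : SpecialLinearGroup (Fin 2) F) : Matrix (Fin 2) (Fin 2) F) * !![A, -B; B, A] := by
  simp only [w0, Matrix.mul_fin_two]
  ext i j
  fin_cases i <;> fin_cases j <;> simp

/-- the rigidity lemma for pairs `(w0, k)`, `(w0, k')` -/
theorem rigid_w0 (h2 : (2 : F) ≠ 0) (k k' : SpecialLinearGroup (Fin 2) F)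
    (hs : (k : Matrix (Fin 2) (Fin 2) F).trace = (k' : Matrix (Fin 2) (Fin 2) F).trace)
    (ht : ((w0 F * k : SpecialLinearGroup (Fin 2) F) : Matrix (Fin 2) (Fin 2) F).trace =
      ((w0 F * k' : SpecialLinearGroup (Fin 2) F) : Matrix (Fin 2) (Fin 2) F).trace)
    (hne : (k : Matrix (Fin 2) (Fin 2) F).trace ^ 2 +
      ((w0 F * k : SpecialLinearGroup (Fin 2) F) : Matrix (Fin 2) (Fin 2) F).trace ^ 2 ≠ 4) :
    ∃ P : GL (Fin 2) F, glSL P (w0 F) = w0 F ∧ glSL P k' = k := by
  have hd := det_eq' k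
  have hd' := det_eq' k'
  obtain ⟨a, b, c, d, hkm⟩ : ∃ a b c d : F, (k : Matrix (Fin 2) (Fin 2) F) = !![a, b; c, d] :=
    ⟨_, _, _, _, Matrix.eta_fin_two _⟩
  obtain ⟨a', b', c', d', hkm'⟩ : ∃ a b c d : F, (k' : Matrix (Fin 2) (Fin 2) F) = !![a, b; c, d] :=
    ⟨_, _, _, _, Matrix.eta_fin_two _⟩
  rw [Matrix.SpecialLinearGroup.coe_mul, Matrix.SpecialLinearGroup.coe_mul] at ht
  rw [Matrix.SpecialLinearGroup.coe_mul] at hne
  rw [hkm] at hs ht hd hne
  rw [hkm'] at hs ht hd'
  simp only [w0, Matrix.mul_fin_two, Matrix.trace_fin_two] at hs ht hne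
  simp at hs ht hne hd hd'
  have h4 : (4 : F) ≠ 0 := by
    have : (4 : F) = 2 * 2 := by norm_num
    rw [this]
    exact mul_ne_zero h2 h2
  obtain ⟨α, hα⟩ : ∃ α : F, α = (a + d) / 2 := ⟨_, rfl⟩
  obtain ⟨β, hβ⟩ : ∃ β : F, β = (c - b) / 2 := ⟨_, rfl⟩
  obtain ⟨x, hx⟩ : ∃ x : F, x = (a - d) / 2 := ⟨_, rfl⟩
  obtain ⟨y, hy⟩ : ∃ y : F, y = (b + c) / 2 := ⟨_, rfl⟩
  obtain ⟨x', hx'⟩ : ∃ x' : F, x' = (a' - d') / 2 := ⟨_, rfl⟩
  obtain ⟨y', hy'⟩ : ∃ y' : F, y' = (b' + c') / 2 := ⟨_, rfl⟩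
  obtain ⟨ν, hν⟩ : ∃ ν : F, ν = x ^ 2 + y ^ 2 := ⟨_, rfl⟩
  have e1 : a = α + x := by rw [hα, hx]; field_simp; ring
  have e2 : b = y - β := by rw [hβ, hy]; field_simp; ring
  have e3 : c = y + β := by rw [hβ, hy]; field_simp; ring
  have e4 : d = α - x := by rw [hα, hx]; field_simp; ring
  have e1' : a' = α + x' := by rw [hα, hx']; field_simp; linear_combination -hs
  have e2' : b' = y' - β := by rw [hβ, hy']; field_simp; linear_combination -ht
  have e3' : c' = y' + β := by rw [hβ, hy']; field_simp; linear_combination ht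
  have e4' : d' = α - x' := by rw [hα, hx']; field_simp; linear_combination -hs
  have hν1 : α ^ 2 + β ^ 2 - ν = 1 := by
    rw [hν, hα, hβ, hx, hy]; field_simp; linear_combination 4 * hd
  have hν' : x' ^ 2 + y' ^ 2 = ν := by
    have : α ^ 2 + β ^ 2 - (x' ^ 2 + y' ^ 2) = 1 := by
      rw [e1', e2', e3', e4'] at hd'
      linear_combination hd'
    linear_combination hν1 - this
  have hν0 : ν ≠ 0 := by
    intro h0
    apply hne
    rw [h0] at hν1
    rw [e1, e2, e3, e4]
    linear_combination 4 * hν1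
  have hk1 : (k : Matrix (Fin 2) (Fin 2) F) = !![α + x, y - β; y + β, α - x] := by
    rw [hkm, ← e1, ← e2, ← e3, ← e4]
  have hk1' : (k' : Matrix (Fin 2) (Fin 2) F) = !![α + x', y' - β; y' + β, α - x'] := by
    rw [hkm', ← e1', ← e2', ← e3', ← e4']
  by_cases hA : ν + x * x' + y * y' = 0
  · -- then `k₁' = -k₁` and `w0` conjugates
    have hB : y * x' - x * y' = 0 := by
      have h := core_det x y x' y' ν hν.symm hν'
      rw [Matrix.det_fin_two] at h
      simp at h
      rw [hA] at h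
      have : (y * x' - x * y') ^ 2 = 0 := by linear_combination h
      exact pow_eq_zero_iff (two_ne_zero) |>.1 this
    have hxx : x' = -x := by
      have : ν * (x' + x) = 0 := by
        linear_combination (-x') * hν.symm + x * hA + y * hB
      have := (mul_eq_zero.1 this).resolve_left hν0
      linear_combination this
    have hyy : y' = -y := by
      have : ν * (y' + y) = 0 := by
        linear_combination (-y') * hν.symm + y * hA - x * hB
      have := (mul_eq_zero.1 this).resolve_left hν0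
      linear_combination this
    refine ⟨Matrix.GeneralLinearGroup.mkOfDetNeZero
      ((w0 F : SpecialLinearGroup (Fin 2) F) : Matrix (Fin 2) (Fin 2) F) (by
        rw [(w0 F).det_coe]; exact one_ne_zero), ?_, ?_⟩
    · apply glSL_eq_of_mul_eq
      rfl
    · apply glSL_eq_of_mul_eq
      show ((w0 F : SpecialLinearGroup (Fin 2) F) : Matrix (Fin 2) (Fin 2) F) * _ = _
      rw [hk1, hk1', hxx, hyy]
      simp only [w0, Matrix.mul_fin_two]
      ext i j
      fin_cases i <;> fin_cases j <;> simp <;> ring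
  · have hdet : (!![ν + x * x' + y * y', -(y * x' - x * y'); y * x' - x * y', ν + x * x' + y * y']).det ≠ 0 := by
      rw [core_det x y x' y' ν hν.symm hν']
      exact mul_ne_zero (mul_ne_zero h2 hν0) hA
    refine ⟨Matrix.GeneralLinearGroup.mkOfDetNeZero _ hdet, ?_, ?_⟩
    · apply glSL_eq_of_mul_eq
      exact core_comm _ _
    · apply glSL_eq_of_mul_eq
      show !![ν + x * x' + y * y', -(y * x' - x * y'); y * x' - x * y', ν + x * x' + y * y'] * _ = _
      rw [hk1, hk1']
      exact core_mul α β x y x' y' ν hν.symm hν'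

end Cfsg.Agent.Lib.Helper15.Mx
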