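import Mathlib
import Cfsg.Agent.Lib.Helper15.Mx2

/-!
# Maximal subgroups of `PSL₂(q)`, `q` odd, part 3: conjugacy of pairs in `PSL₂` under `PGL₂`
-/

set_option autoImplicit false

namespace Cfsg.Agent.Lib.Helper15.Mx

open Matrix
open Cfsg.Agent.Lib.Helper14
open Cfsg.Agent.Lib.Helper15
open Cfsg.Agent.Lib.Helper15.Dk

variable {F : Type*} [Field F]

/-- the rigidity lemma -/
theorem rigid (h2 : (2 : F) ≠ 0) (g k g' k' : SpecialLinearGroup (Fin 2) F)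
    (hg : (g : Matrix (Fin 2) (Fin 2) F).trace = 0) (hg' : (g' : Matrix (Fin 2) (Fin 2) F).trace = 0)
    (hs : (k : Matrix (Fin 2) (Fin 2) F).trace = (k' : Matrix (Fin 2) (Fin 2) F).trace)
    (ht : ((g * k : SpecialLinearGroup (Fin 2) F) : Matrix (Fin 2) (Fin 2) F).trace =
      ((g' * k' : SpecialLinearGroup (Fin 2) F) : Matrix (Fin 2) (Fin 2) F).trace)
    (hne : (k : Matrix (Fin 2) (Fin 2) F).trace ^ 2 +
      ((g * k : SpecialLinearGroup (Fin 2) F) : Matrix (Fin 2) (Fin 2) F).trace ^ 2 ≠ 4) :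
    ∃ P : GL (Fin 2) F, glSL P g' = g ∧ glSL P k' = k := by
  obtain ⟨R, hR⟩ := exists_glSL_w0 h2 g hg
  obtain ⟨R', hR'⟩ := exists_glSL_w0 h2 g' hg'
  have hRi : glSL R⁻¹ g = w0 F := by rw [← hR, glSL_inv_apply]
  have hRi' : glSL R'⁻¹ g' = w0 F := by rw [← hR', glSL_inv_apply]
  have e1 : w0 F * glSL R⁻¹ k = glSL R⁻¹ (g * k) := by rw [map_mul, hRi]
  have e1' : w0 F * glSL R'⁻¹ k' = glSL R'⁻¹ (g' * k') := by rw [map_mul, hRi']
  obtain ⟨P₀, hP₀, hP₀k⟩ := rigid_w0 h2 (glSL R⁻¹ k) (glSL R'⁻¹ k')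
    (by rw [trace_glSL, trace_glSL, hs]) (by rw [e1, e1', trace_glSL, trace_glSL, ht])
    (by rw [e1, trace_glSL, trace_glSL]; exact hne)
  refine ⟨R * P₀ * R'⁻¹, ?_, ?_⟩
  · rw [glSL_mul, glSL_mul, hRi', hP₀, hR]
  · rw [glSL_mul, glSL_mul, hP₀k]
    have := glSL_inv_apply R⁻¹ k
    rw [inv_inv] at this
    exact this

/-- an involution of `PSL₂` has a lift of trace zero -/
theorem exists_lift_trace_zero (h2 : (2 : F) ≠ 0) (a : ProjectiveSpecialLinearGroup (Fin 2) F)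
    (ha : a * a = 1) (ha1 : a ≠ 1) :
    ∃ g : SpecialLinearGroup (Fin 2) F, toPSL2 F g = a ∧ (g : Matrix (Fin 2) (Fin 2) F).trace = 0 := by
  obtain ⟨g, rfl⟩ := toPSL2_surjective a
  exact ⟨g, rfl, trace_eq_zero_of_sq g ((toPSL2_invol_iff h2 g).1 ⟨ha1, ha⟩)⟩

theorem trsq_invol (h2 : (2 : F) ≠ 0) (a : ProjectiveSpecialLinearGroup (Fin 2) F)
    (ha : a * a = 1) (ha1 : a ≠ 1) : trsq a = 0 := by
  obtain ⟨g, rfl, hg⟩ := exists_lift_trace_zero h2 a ha ha1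
  rw [trsq_toPSL2, hg]
  ring

theorem coe_neg_trace (g : SpecialLinearGroup (Fin 2) F) :
    ((-g : SpecialLinearGroup (Fin 2) F) : Matrix (Fin 2) (Fin 2) F).trace =
      -(g : Matrix (Fin 2) (Fin 2) F).trace := by
  rw [Matrix.SpecialLinearGroup.coe_neg, Matrix.trace_neg]

/-- conjugacy of pairs in `PSL₂` under `PGL₂` -/
theorem exists_glAut_pair (h2 : (2 : F) ≠ 0) (a b a' b' : ProjectiveSpecialLinearGroup (Fin 2) F)
    (ha : a * a = 1) (ha1 : a ≠ 1) (ha' : a' * a' = 1) (ha1' : a' ≠ 1)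
    (hb : trsq b = trsq b') (hab : trsq (a * b) = trsq (a' * b'))
    (hne : trsq b + trsq (a * b) ≠ 4) :
    ∃ P : GL (Fin 2) F, glAut P a' = a ∧ glAut P b' = b := by
  obtain ⟨g, rfl, hg⟩ := exists_lift_trace_zero h2 a ha ha1
  obtain ⟨g', rfl, hg'⟩ := exists_lift_trace_zero h2 a' ha' ha1'
  obtain ⟨k, rfl⟩ := toPSL2_surjective b
  obtain ⟨k₀, rfl⟩ := toPSL2_surjective b'
  rw [trsq_toPSL2, trsq_toPSL2] at hb
  -- adjust the sign of `k'`
  obtain ⟨k', hk', hkt⟩ : ∃ k' : SpecialLinearGroup (Fin 2) F, toPSL2 F k' = toPSL2 F k₀ ∧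
      (k : Matrix (Fin 2) (Fin 2) F).trace = (k' : Matrix (Fin 2) (Fin 2) F).trace := by
    have : ((k : Matrix (Fin 2) (Fin 2) F).trace - (k₀ : Matrix (Fin 2) (Fin 2) F).trace) *
        ((k : Matrix (Fin 2) (Fin 2) F).trace + (k₀ : Matrix (Fin 2) (Fin 2) F).trace) = 0 := by
      linear_combination hb
    rcases mul_eq_zero.1 this with h | h
    · exact ⟨k₀, rfl, by linear_combination h⟩
    · exact ⟨-k₀, toPSL2_neg k₀, by rw [coe_neg_trace]; linear_combination h⟩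
  rw [← hk'] at hab ⊢
  rw [← map_mul, ← map_mul, trsq_toPSL2, trsq_toPSL2] at hab
  obtain ⟨g'', hg'', hgt, hgk⟩ : ∃ g'' : SpecialLinearGroup (Fin 2) F, toPSL2 F g'' = toPSL2 F g' ∧
      (g'' : Matrix (Fin 2) (Fin 2) F).trace = 0 ∧
      ((g * k : SpecialLinearGroup (Fin 2) F) : Matrix (Fin 2) (Fin 2) F).trace =
        ((g'' * k' : SpecialLinearGroup (Fin 2) F) : Matrix (Fin 2) (Fin 2) F).trace := by
    have : (((g * k : SpecialLinearGroup (Fin 2) F) : Matrix (Fin 2) (Fin 2) F).trace -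
        ((g' * k' : SpecialLinearGroup (Fin 2) F) : Matrix (Fin 2) (Fin 2) F).trace) *
        (((g * k : SpecialLinearGroup (Fin 2) F) : Matrix (Fin 2) (Fin 2) F).trace +
        ((g' * k' : SpecialLinearGroup (Fin 2) F) : Matrix (Fin 2) (Fin 2) F).trace) = 0 := by
      linear_combination hab
    rcases mul_eq_zero.1 this with h | h
    · exact ⟨g', rfl, hg', by linear_combination h⟩
    · refine ⟨-g', toPSL2_neg g', by rw [coe_neg_trace, hg', neg_zero], ?_⟩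
      rw [neg_mul, coe_neg_trace]
      linear_combination h
  rw [← hg'']
  rw [← map_mul, trsq_toPSL2, trsq_toPSL2] at hne
  obtain ⟨P, hP1, hP2⟩ := rigid h2 g k g'' k' hg hgt hkt hgk hne
  exact ⟨P, by rw [glAut_toPSL2, hP1], by rw [glAut_toPSL2, hP2]⟩

end Cfsg.Agent.Lib.Helper15.Mx
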