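import Mathlib
import Cfsg.Agent.Lib.Helper15.Mx3

/-!
# Maximal subgroups of `PSL₂(q)`, `q` odd, part 4: squared traces of elements of small order,
and moving a two-generated subgroup into another subgroup
-/

set_option autoImplicit false

namespace Cfsg.Agent.Lib.Helper15.Mx

open Matrix
open Cfsg.Agent.Lib.Helper14
open Cfsg.Agent.Lib.Helper15
open Cfsg.Agent.Lib.Helper15.Dk

variable {F : Type*} [Field F]

theorem coef_eq_zero_of_isScalar2 (X : Matrix (Fin 2) (Fin 2) F) (p q : F)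
    (hs : IsScalar2 (p • X - q • (1 : Matrix (Fin 2) (Fin 2) F))) (hX : ¬ IsScalar2 X) : p = 0 := by
  by_contra hp
  apply hX
  obtain ⟨h01, h10, h00⟩ := hs
  simp at h01 h10 h00
  exact ⟨h01.resolve_left hp, h10.resolve_left hp, h00.resolve_right hp⟩

theorem coe_pow_four (g : SpecialLinearGroup (Fin 2) F) (t : F)
    (ht : (g : Matrix (Fin 2) (Fin 2) F).trace = t) :
    ((g ^ 4 : SpecialLinearGroup (Fin 2) F) : Matrix (Fin 2) (Fin 2) F) =
      (t ^ 3 - 2 * t) • (g : Matrix (Fin 2) (Fin 2) F) - (t ^ 2 - 1) • (1 : Matrix (Fin 2) (Fin 2) F) := by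
  have h2 := coe_sq_eq g
  rw [ht] at h2
  set M := (g : Matrix (Fin 2) (Fin 2) F) with hM
  have h3 : M * M * M = (t ^ 2 - 1) • M - t • (1 : Matrix (Fin 2) (Fin 2) F) := by
    rw [h2, Matrix.sub_mul, Matrix.smul_mul, h2, Matrix.one_mul, smul_sub, smul_smul]
    module
  have h4 : M * M * M * M = (t ^ 3 - 2 * t) • M - (t ^ 2 - 1) • (1 : Matrix (Fin 2) (Fin 2) F) := by
    rw [h3, Matrix.sub_mul, Matrix.smul_mul, h2, Matrix.smul_mul, Matrix.one_mul, smul_sub, smul_smul]
    module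
  rw [Matrix.SpecialLinearGroup.coe_pow, ← hM, ← h4]
  simp only [pow_succ, pow_zero, one_mul]

/-- elements of order three have squared trace one -/
theorem trsq_of_order3 (x : ProjectiveSpecialLinearGroup (Fin 2) F) (hx : x ^ 3 = 1) (hx1 : x ≠ 1) :
    trsq x = 1 := by
  obtain ⟨X, rfl⟩ := toPSL2_surjective x
  rw [← map_pow, toPSL2_eq_one_iff', coe_pow_three X _ rfl] at hx
  rw [Ne, toPSL2_eq_one_iff'] at hx1
  rw [trsq_toPSL2]
  have := coef_eq_zero_of_isScalar2 _ _ _ hx hx1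
  linear_combination this

/-- elements of order four have squared trace two -/
theorem trsq_of_order4 (x : ProjectiveSpecialLinearGroup (Fin 2) F) (hx : x ^ 4 = 1) (hx2 : x ^ 2 ≠ 1) :
    trsq x = 2 := by
  obtain ⟨X, rfl⟩ := toPSL2_surjective x
  rw [← map_pow, toPSL2_eq_one_iff', coe_pow_four X _ rfl] at hx
  rw [Ne, ← map_pow, toPSL2_eq_one_iff', coe_pow_two X _ rfl] at hx2
  rw [trsq_toPSL2]
  set t := (X : Matrix (Fin 2) (Fin 2) F).trace with ht
  have hXs : ¬ IsScalar2 (X : Matrix (Fin 2) (Fin 2) F) := by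
    intro hs
    apply hx2
    obtain ⟨h01, h10, h00⟩ := hs
    refine ⟨?_, ?_, ?_⟩ <;> simp [h01, h10, h00]
  have ht0 : t ≠ 0 := by
    intro h0
    apply hx2
    rw [h0]
    refine ⟨?_, ?_, ?_⟩ <;> simp
  have := coef_eq_zero_of_isScalar2 _ _ _ hx hXs
  have h3 : t * (t ^ 2 - 2) = 0 := by linear_combination this
  have := (mul_eq_zero.1 h3).resolve_left ht0
  linear_combination this

/-- elements of order five: the squared trace is a root of `z² - 3 z + 1` -/
theorem trsq_of_order5 (x : ProjectiveSpecialLinearGroup (Fin 2) F) (hx : x ^ 5 = 1) (hx1 : x ≠ 1) :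
    trsq x ^ 2 - 3 * trsq x + 1 = 0 := by
  obtain ⟨X, rfl⟩ := toPSL2_surjective x
  rw [← map_pow, toPSL2_eq_one_iff', coe_pow_five X _ rfl] at hx
  rw [Ne, toPSL2_eq_one_iff'] at hx1
  rw [trsq_toPSL2]
  have := coef_eq_zero_of_isScalar2 _ _ _ hx hx1
  linear_combination this

/-- the squared trace of a square -/
theorem trsq_sq (x : ProjectiveSpecialLinearGroup (Fin 2) F) : trsq (x ^ 2) = (trsq x - 2) ^ 2 := by
  obtain ⟨X, rfl⟩ := toPSL2_surjective x
  rw [← map_pow, trsq_toPSL2, trsq_toPSL2, coe_pow_two X _ rfl, Matrix.trace_sub, Matrix.trace_smul,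
    Matrix.trace_smul, Matrix.trace_one]
  simp
  ring

/-- moving a two-generated subgroup into another subgroup with an automorphism induced by `GL₂` -/
theorem le_map_of_pair (h2 : (2 : F) ≠ 0) (M S : Subgroup (ProjectiveSpecialLinearGroup (Fin 2) F))
    (a b a' b' : ProjectiveSpecialLinearGroup (Fin 2) F) (hM : M = Subgroup.closure {a, b})
    (ha'S : a' ∈ S) (hb'S : b' ∈ S)
    (ha : a * a = 1) (ha1 : a ≠ 1) (ha' : a' * a' = 1) (ha1' : a' ≠ 1)
    (hb : trsq b = trsq b') (hab : trsq (a * b) = trsq (a' * b'))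
    (hne : trsq b + trsq (a * b) ≠ 4) :
    ∃ P : GL (Fin 2) F, M ≤ S.map (glAut P).toMonoidHom := by
  obtain ⟨P, hP1, hP2⟩ := exists_glAut_pair h2 a b a' b' ha ha1 ha' ha1' hb hab hne
  refine ⟨P, ?_⟩
  rw [hM, Subgroup.closure_le]
  rintro x (rfl | rfl)
  · exact ⟨a', ha'S, hP1⟩
  · exact ⟨b', hb'S, hP2⟩

end Cfsg.Agent.Lib.Helper15.Mx
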