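import Mathlib
import Cfsg.Agent.Lib.Helper15.Mx4

/-!
# Maximal subgroups of `PSL₂(q)`, `q` odd, part 5: generating pairs in `A₄`, `S₄`, `A₅` and dihedral groups
-/

set_option autoImplicit false

namespace Cfsg.Agent.Lib.Helper15.Mx

open Cfsg.Agent.Lib.Helper15

/-- a generating pair `(a, b)` with `a` an involution, `b` of order `m` and `a b` of order `n` -/
def Gen2 (X : Type*) [Group X] (m n : ℕ) : Prop :=
  ∃ a b : X, orderOf a = 2 ∧ orderOf b = m ∧ orderOf (a * b) = n ∧ Subgroup.closure {a, b} = ⊤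

/-- a pair `(a, b)` with `a` an involution, `b` of order `m` and `a b` of order `n` -/
def Has2 (X : Type*) [Group X] (m n : ℕ) : Prop :=
  ∃ a b : X, orderOf a = 2 ∧ orderOf b = m ∧ orderOf (a * b) = n

theorem Gen2.has2 {X : Type*} [Group X] {m n : ℕ} (h : Gen2 X m n) : Has2 X m n := by
  obtain ⟨a, b, h1, h2, h3, -⟩ := h
  exact ⟨a, b, h1, h2, h3⟩

theorem Has2.map {X Y : Type*} [Group X] [Group Y] {m n : ℕ} (h : Has2 X m n) (f : X →* Y)
    (hf : Function.Injective f) : Has2 Y m n := by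
  obtain ⟨a, b, h1, h2, h3⟩ := h
  refine ⟨f a, f b, ?_, ?_, ?_⟩
  · rw [orderOf_injective f hf, h1]
  · rw [orderOf_injective f hf, h2]
  · rw [← map_mul, orderOf_injective f hf, h3]

section orders
variable {X : Type*} [Group X]

theorem orderOf_two_of (x : X) (h : x * x = 1) (h1 : x ≠ 1) : orderOf x = 2 :=
  orderOf_eq_prime (by rw [pow_two]; exact h) h1

theorem orderOf_three_of (x : X) (h : x ^ 3 = 1) (h1 : x ≠ 1) : orderOf x = 3 := by
  have : Fact (Nat.Prime 3) := ⟨Nat.prime_three⟩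
  exact orderOf_eq_prime h h1

theorem orderOf_five_of (x : X) (h : x ^ 5 = 1) (h1 : x ≠ 1) : orderOf x = 5 := by
  have : Fact (Nat.Prime 5) := ⟨Nat.prime_five⟩
  exact orderOf_eq_prime h h1

theorem orderOf_four_of (x : X) (h : x ^ 4 = 1) (h1 : x ^ 2 ≠ 1) : orderOf x = 4 := by
  have : Fact (Nat.Prime 2) := ⟨Nat.prime_two⟩
  have := orderOf_eq_prime_pow (x := x) (p := 2) (n := 1) (by simpa using h1) (by simpa using h)
  simpa using this

end orders

/-! ### `A₄` -/

def pA : Equiv.Perm (Fin 4) := Equiv.swap 0 1 * Equiv.swap 2 3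
def pB : Equiv.Perm (Fin 4) := c[0, 1, 2]

theorem pA_mem : pA ∈ alternatingGroup (Fin 4) := by
  rw [Equiv.Perm.mem_alternatingGroup]; decide

theorem pB_mem : pB ∈ alternatingGroup (Fin 4) := by
  rw [Equiv.Perm.mem_alternatingGroup]; decide

theorem orderOf_subtype {G : Type*} [Group G] (H : Subgroup G) (x : G) (hx : x ∈ H) :
    orderOf (⟨x, hx⟩ : H) = orderOf x := by
  rw [← orderOf_injective H.subtype H.subtype_injective]
  rfl

theorem gen_A4 : Gen2 (alternatingGroup (Fin 4)) 3 3 := by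
  refine ⟨⟨pA, pA_mem⟩, ⟨pB, pB_mem⟩, ?_, ?_, ?_, ?_⟩
  · rw [orderOf_subtype]
    exact orderOf_two_of _ (by decide) (by decide)
  · rw [orderOf_subtype]
    exact orderOf_three_of _ (by decide) (by decide)
  · have : (⟨pA, pA_mem⟩ : alternatingGroup (Fin 4)) * ⟨pB, pB_mem⟩ =
        ⟨pA * pB, (alternatingGroup (Fin 4)).mul_mem pA_mem pB_mem⟩ := rfl
    rw [this, orderOf_subtype]
    exact orderOf_three_of _ (by decide) (by decide)
  · set a : alternatingGroup (Fin 4) := ⟨pA, pA_mem⟩ with ha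
    set b : alternatingGroup (Fin 4) := ⟨pB, pB_mem⟩ with hb
    set H := Subgroup.closure ({a, b} : Set (alternatingGroup (Fin 4))) with hH
    have haH : a ∈ H := Subgroup.subset_closure (by simp)
    have hbH : b ∈ H := Subgroup.subset_closure (by simp)
    have hu : a * a = 1 := by apply Subtype.ext; show pA * pA = 1; decide
    have hv : (b * a * b⁻¹) * (b * a * b⁻¹) = 1 := by
      have : (b * a * b⁻¹) * (b * a * b⁻¹) = b * (a * a) * b⁻¹ := by group
      rw [this, hu, mul_one, mul_inv_cancel]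
    have huv : a * (b * a * b⁻¹) = (b * a * b⁻¹) * a := by
      apply Subtype.ext
      show pA * (pB * pA * pB⁻¹) = (pB * pA * pB⁻¹) * pA
      decide
    have hne : a ≠ b * a * b⁻¹ := by
      intro h
      have := congrArg Subtype.val h
      have h' : pA = pB * pA * pB⁻¹ := this
      revert h'
      decide
    have ha1 : a ≠ 1 := by
      intro h
      have := congrArg Subtype.val h
      have h' : pA = 1 := this
      revert h'
      decide
    have hv1 : b * a * b⁻¹ ≠ 1 := by
      intro h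
      apply ha1
      have : a = b⁻¹ * (b * a * b⁻¹) * b := by group
      rw [this, h]
      group
    have hK := card_kleinSub a (b * a * b⁻¹) hu hv huv ha1 hv1 hne
    have hKH : kleinSub a (b * a * b⁻¹) hu hv huv ≤ H := by
      intro x hx
      rw [mem_kleinSub] at hx
      rcases hx with rfl | rfl | rfl | rfl
      · exact H.one_mem
      · exact haH
      · exact H.mul_mem (H.mul_mem hbH haH) (H.inv_mem hbH)
      · exact H.mul_mem haH (H.mul_mem (H.mul_mem hbH haH) (H.inv_mem hbH))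
    have h4 : 4 ∣ Nat.card H := by
      have := Subgroup.card_dvd_of_le hKH
      rwa [hK] at this
    have hb3 : orderOf b = 3 := by
      rw [hb, orderOf_subtype]
      exact orderOf_three_of _ (by decide) (by decide)
    have h3 : 3 ∣ Nat.card H := by
      have := orderOf_dvd_natCard (⟨b, hbH⟩ : H)
      rw [orderOf_subtype, hb3] at this
      exact this
    have h12 : 12 ∣ Nat.card H := by
      have : Nat.Coprime 4 3 := by decide
      exact this.mul_dvd_of_dvd_of_dvd h4 h3
    apply Subgroup.eq_top_of_le_card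
    rw [Dk.card_A4]
    exact Nat.le_of_dvd Nat.card_pos h12

theorem has_A4_22 : Has2 (alternatingGroup (Fin 4)) 2 2 := by
  refine ⟨⟨pA, pA_mem⟩, ⟨Equiv.swap 0 2 * Equiv.swap 1 3, by rw [Equiv.Perm.mem_alternatingGroup]; decide⟩,
    ?_, ?_, ?_⟩
  · rw [orderOf_subtype]
    exact orderOf_two_of _ (by decide) (by decide)
  · rw [orderOf_subtype]
    exact orderOf_two_of _ (by decide) (by decide)
  · have : (⟨pA, pA_mem⟩ : alternatingGroup (Fin 4)) *
        ⟨Equiv.swap 0 2 * Equiv.swap 1 3, by rw [Equiv.Perm.mem_alternatingGroup]; decide⟩ =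
        ⟨pA * (Equiv.swap 0 2 * Equiv.swap 1 3), by rw [Equiv.Perm.mem_alternatingGroup]; decide⟩ := rfl
    rw [this, orderOf_subtype]
    exact orderOf_two_of _ (by decide) (by decide)

/-! ### `S₄` -/

theorem has_S4_33 : Has2 (Equiv.Perm (Fin 4)) 3 3 :=
  gen_A4.has2.map (alternatingGroup (Fin 4)).subtype (alternatingGroup (Fin 4)).subtype_injective

theorem has_S4_32 : Has2 (Equiv.Perm (Fin 4)) 3 2 :=
  ⟨Equiv.swap 0 1, c[0, 1, 2], orderOf_two_of _ (by decide) (by decide),
    orderOf_three_of _ (by decide) (by decide), orderOf_two_of _ (by decide) (by decide)⟩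

theorem has_S4_42 : Has2 (Equiv.Perm (Fin 4)) 4 2 :=
  ⟨Equiv.swap 0 2, c[0, 1, 2, 3], orderOf_two_of _ (by decide) (by decide),
    orderOf_four_of _ (by decide) (by decide), orderOf_two_of _ (by decide) (by decide)⟩

theorem gen_S4 : Gen2 (Equiv.Perm (Fin 4)) 3 4 := by
  have ha2 : orderOf (Equiv.swap 0 1 : Equiv.Perm (Fin 4)) = 2 := orderOf_two_of _ (by decide) (by decide)
  have hb3 : orderOf (c[1, 2, 3] : Equiv.Perm (Fin 4)) = 3 := orderOf_three_of _ (by decide) (by decide)
  have hab4 : orderOf ((Equiv.swap 0 1 : Equiv.Perm (Fin 4)) * c[1, 2, 3]) = 4 :=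
    orderOf_four_of _ (by decide) (by decide)
  refine ⟨Equiv.swap 0 1, c[1, 2, 3], ha2, hb3, hab4, ?_⟩
  set a : Equiv.Perm (Fin 4) := Equiv.swap 0 1 with ha
  set b : Equiv.Perm (Fin 4) := c[1, 2, 3] with hb
  set H := Subgroup.closure ({a, b} : Set (Equiv.Perm (Fin 4))) with hH
  have haH : a ∈ H := Subgroup.subset_closure (by simp)
  have hbH : b ∈ H := Subgroup.subset_closure (by simp)
  have h3 : 3 ∣ Nat.card H := by
    have := orderOf_dvd_natCard (⟨b, hbH⟩ : H)
    rw [orderOf_subtype, hb3] at this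
    exact this
  have h4 : 4 ∣ Nat.card H := by
    have := orderOf_dvd_natCard (⟨a * b, H.mul_mem haH hbH⟩ : H)
    rw [orderOf_subtype, hab4] at this
    exact this
  have h12 : 12 ∣ Nat.card H := by
    have : Nat.Coprime 4 3 := by decide
    exact this.mul_dvd_of_dvd_of_dvd h4 h3
  have h24 : Nat.card H ∣ 24 := by
    have := Subgroup.card_subgroup_dvd_card H
    rwa [Dk.card_S4] at this
  have hcases : Nat.card H = 12 ∨ Nat.card H = 24 := by
    obtain ⟨k, hk⟩ := h12
    obtain ⟨l, hl⟩ := h24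
    have hpos : 0 < Nat.card H := Nat.card_pos
    have : k = 1 ∨ k = 2 := by
      have h1 : k * l = 2 := by
        have : 12 * (k * l) = 12 * 2 := by rw [← mul_assoc, ← hk, ← hl]
        omega
      have hk0 : k ≠ 0 := by rintro rfl; omega
      have : k ∣ 2 := Dvd.intro _ h1
      have := Nat.le_of_dvd (by norm_num) this
      omega
    rcases this with rfl | rfl <;> omega
  rcases hcases with h | h
  · exfalso
    have hidx : H.index = 2 := by
      have h1 := Subgroup.card_mul_index H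
      rw [h, Dk.card_S4] at h1
      omega
    have := Equiv.Perm.eq_alternatingGroup_of_index_eq_two hidx
    rw [this, Equiv.Perm.mem_alternatingGroup] at haH
    revert haH
    rw [ha]
    decide
  · apply Subgroup.eq_top_of_card_eq
    rw [h, Dk.card_S4]

/-! ### `A₅` -/

def qA0 : Equiv.Perm (Fin 5) := Equiv.swap 0 1 * Equiv.swap 2 3
def qB0 : Equiv.Perm (Fin 5) := c[0, 2, 4]
def qA1 : Equiv.Perm (Fin 5) := Equiv.swap 0 3 * Equiv.swap 1 4
def qB1 : Equiv.Perm (Fin 5) := c[0, 1, 2]
def qX : Equiv.Perm (Fin 5) := c[2, 4, 3]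

theorem qA0_mem : qA0 ∈ alternatingGroup (Fin 5) := by rw [Equiv.Perm.mem_alternatingGroup]; decide
theorem qB0_mem : qB0 ∈ alternatingGroup (Fin 5) := by rw [Equiv.Perm.mem_alternatingGroup]; decide
theorem qA1_mem : qA1 ∈ alternatingGroup (Fin 5) := by rw [Equiv.Perm.mem_alternatingGroup]; decide
theorem qB1_mem : qB1 ∈ alternatingGroup (Fin 5) := by rw [Equiv.Perm.mem_alternatingGroup]; decide
theorem qX_mem : qX ∈ alternatingGroup (Fin 5) := by rw [Equiv.Perm.mem_alternatingGroup]; decide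

/-- the two kinds of `(2, 3, 5)`-pairs in `A₅` -/
theorem a5_data : ∃ a₀ b₀ a₁ b₁ x : alternatingGroup (Fin 5),
    orderOf a₀ = 2 ∧ orderOf b₀ = 3 ∧ orderOf (a₀ * b₀) = 5 ∧ Subgroup.closure {a₀, b₀} = ⊤ ∧
    orderOf a₁ = 2 ∧ orderOf b₁ = 3 ∧ a₁ * b₁ = x * (a₀ * b₀) ^ 2 * x⁻¹ := by
  have ha2 : orderOf (⟨qA0, qA0_mem⟩ : alternatingGroup (Fin 5)) = 2 := by
    rw [orderOf_subtype]; exact orderOf_two_of _ (by decide) (by decide)
  have hb3 : orderOf (⟨qB0, qB0_mem⟩ : alternatingGroup (Fin 5)) = 3 := by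
    rw [orderOf_subtype]; exact orderOf_three_of _ (by decide) (by decide)
  have hab5 : orderOf ((⟨qA0, qA0_mem⟩ : alternatingGroup (Fin 5)) * ⟨qB0, qB0_mem⟩) = 5 := by
    have : (⟨qA0, qA0_mem⟩ : alternatingGroup (Fin 5)) * ⟨qB0, qB0_mem⟩ =
        ⟨qA0 * qB0, (alternatingGroup (Fin 5)).mul_mem qA0_mem qB0_mem⟩ := rfl
    rw [this, orderOf_subtype]
    exact orderOf_five_of _ (by decide) (by decide)
  refine ⟨⟨qA0, qA0_mem⟩, ⟨qB0, qB0_mem⟩, ⟨qA1, qA1_mem⟩, ⟨qB1, qB1_mem⟩, ⟨qX, qX_mem⟩, ha2, hb3, hab5,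
    ?_, ?_, ?_, ?_⟩
  · set a : alternatingGroup (Fin 5) := ⟨qA0, qA0_mem⟩ with ha
    set b : alternatingGroup (Fin 5) := ⟨qB0, qB0_mem⟩ with hb
    set H := Subgroup.closure ({a, b} : Set (alternatingGroup (Fin 5))) with hH
    have haH : a ∈ H := Subgroup.subset_closure (by simp)
    have hbH : b ∈ H := Subgroup.subset_closure (by simp)
    have h2 : 2 ∣ Nat.card H := by
      have := orderOf_dvd_natCard (⟨a, haH⟩ : H)
      rw [orderOf_subtype, ha2] at this
      exact this
    have h3 : 3 ∣ Nat.card H := by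
      have := orderOf_dvd_natCard (⟨b, hbH⟩ : H)
      rw [orderOf_subtype, hb3] at this
      exact this
    have h5 : 5 ∣ Nat.card H := by
      have := orderOf_dvd_natCard (⟨a * b, H.mul_mem haH hbH⟩ : H)
      rw [orderOf_subtype, hab5] at this
      exact this
    have h30 : 30 ∣ Nat.card H := by
      have h6 : 6 ∣ Nat.card H := (by decide : Nat.Coprime 2 3).mul_dvd_of_dvd_of_dvd h2 h3
      exact (by decide : Nat.Coprime 6 5).mul_dvd_of_dvd_of_dvd h6 h5
    have h60 : Nat.card H ∣ 60 := by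
      have := Subgroup.card_subgroup_dvd_card H
      rwa [Dk.card_A5] at this
    have hcases : Nat.card H = 30 ∨ Nat.card H = 60 := by
      obtain ⟨k, hk⟩ := h30
      obtain ⟨l, hl⟩ := h60
      have hpos : 0 < Nat.card H := Nat.card_pos
      have : k = 1 ∨ k = 2 := by
        have h1 : k * l = 2 := by
          have : 30 * (k * l) = 30 * 2 := by rw [← mul_assoc, ← hk, ← hl]
          omega
        have hk0 : k ≠ 0 := by rintro rfl; omega
        have : k ∣ 2 := Dvd.intro _ h1
        have := Nat.le_of_dvd (by norm_num) this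
        omega
      rcases this with rfl | rfl <;> omega
    rcases hcases with h | h
    · exfalso
      have hidx : H.index = 2 := by
        have h1 := Subgroup.card_mul_index H
        rw [h, Dk.card_A5] at h1
        omega
      have hn : H.Normal := Subgroup.normal_of_index_eq_two hidx
      have hs : IsSimpleGroup (alternatingGroup (Fin 5)) := alternatingGroup.isSimpleGroup (by simp)
      rcases hn.eq_bot_or_eq_top with h0 | h0
      · rw [h0, Subgroup.card_bot] at h
        omega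
      · rw [h0, Subgroup.card_top, Dk.card_A5] at h
        omega
    · apply Subgroup.eq_top_of_card_eq
      rw [h, Dk.card_A5]
  · rw [orderOf_subtype]; exact orderOf_two_of _ (by decide) (by decide)
  · rw [orderOf_subtype]; exact orderOf_three_of _ (by decide) (by decide)
  · apply Subtype.ext
    show qA1 * qB1 = qX * (qA0 * qB0) ^ 2 * qX⁻¹
    decide

theorem has_A5_33 : Has2 (alternatingGroup (Fin 5)) 3 3 := by
  refine ⟨⟨qA0, qA0_mem⟩, ⟨qB1, qB1_mem⟩, ?_, ?_, ?_⟩
  · rw [orderOf_subtype]; exact orderOf_two_of _ (by decide) (by decide)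
  · rw [orderOf_subtype]; exact orderOf_three_of _ (by decide) (by decide)
  · have : (⟨qA0, qA0_mem⟩ : alternatingGroup (Fin 5)) * ⟨qB1, qB1_mem⟩ =
        ⟨qA0 * qB1, (alternatingGroup (Fin 5)).mul_mem qA0_mem qB1_mem⟩ := rfl
    rw [this, orderOf_subtype]
    exact orderOf_three_of _ (by decide) (by decide)

def qC : Equiv.Perm (Fin 5) := c[0, 1, 2, 3, 4]
def qR : Equiv.Perm (Fin 5) := Equiv.swap 1 4 * Equiv.swap 2 3
theorem qC_mem : qC ∈ alternatingGroup (Fin 5) := by rw [Equiv.Perm.mem_alternatingGroup]; decide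
theorem qR_mem : qR ∈ alternatingGroup (Fin 5) := by rw [Equiv.Perm.mem_alternatingGroup]; decide

set_option maxRecDepth 100000 in
/-- a dihedral pair of order ten in `A₅` -/
theorem a5_dih : ∃ a c : alternatingGroup (Fin 5), orderOf a = 2 ∧ orderOf c = 5 ∧ orderOf (a * c) = 2 ∧
    orderOf (a * c ^ 2) = 2 := by
  refine ⟨⟨qR, qR_mem⟩, ⟨qC, qC_mem⟩, ?_, ?_, ?_, ?_⟩
  · rw [orderOf_subtype]; exact orderOf_two_of _ (by decide) (by decide)
  · rw [orderOf_subtype]; exact orderOf_five_of _ (by decide) (by decide)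
  · have : (⟨qR, qR_mem⟩ : alternatingGroup (Fin 5)) * ⟨qC, qC_mem⟩ =
        ⟨qR * qC, (alternatingGroup (Fin 5)).mul_mem qR_mem qC_mem⟩ := rfl
    rw [this, orderOf_subtype]
    exact orderOf_two_of _ (by decide) (by decide)
  · have : (⟨qR, qR_mem⟩ : alternatingGroup (Fin 5)) * (⟨qC, qC_mem⟩ : alternatingGroup (Fin 5)) ^ 2 =
        ⟨qR * qC ^ 2, (alternatingGroup (Fin 5)).mul_mem qR_mem ((alternatingGroup (Fin 5)).pow_mem qC_mem 2)⟩ := rfl
    rw [this, orderOf_subtype]
    exact orderOf_two_of _ (by decide) (by decide)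

/-! ### dihedral groups -/

theorem closure_dihedral (n : ℕ) [NeZero n] :
    Subgroup.closure ({DihedralGroup.sr 0, DihedralGroup.r 1} : Set (DihedralGroup n)) = ⊤ := by
  rw [eq_top_iff]
  intro x _
  have hr : ∀ i : ZMod n, DihedralGroup.r i ∈
      Subgroup.closure ({DihedralGroup.sr 0, DihedralGroup.r 1} : Set (DihedralGroup n)) := by
    intro i
    have : DihedralGroup.r i = (DihedralGroup.r 1 : DihedralGroup n) ^ i.val := by
      rw [DihedralGroup.r_one_pow, ZMod.natCast_zmod_val]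
    rw [this]
    exact Subgroup.pow_mem _ (Subgroup.subset_closure (by simp)) _
  cases x with
  | r i => exact hr i
  | sr i =>
    have : DihedralGroup.sr i = DihedralGroup.sr 0 * DihedralGroup.r i := by
      rw [DihedralGroup.sr_mul_r, zero_add]
    rw [this]
    exact Subgroup.mul_mem _ (Subgroup.subset_closure (by simp)) (hr i)

theorem gen_D (n : ℕ) (hn : 2 ≤ n) : Gen2 (DihedralGroup n) n 2 := by
  have : NeZero n := ⟨by omega⟩
  refine ⟨DihedralGroup.sr 0, DihedralGroup.r 1, DihedralGroup.orderOf_sr 0, DihedralGroup.orderOf_r_one, ?_,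
    closure_dihedral n⟩
  rw [DihedralGroup.sr_mul_r]
  exact DihedralGroup.orderOf_sr _

/-- the second generating pair of the dihedral group of order ten -/
theorem gen_D5' : ∃ a c : DihedralGroup 5, orderOf a = 2 ∧ orderOf c = 5 ∧ orderOf (a * c) = 2 ∧
    Subgroup.closure {a, c} = ⊤ ∧ orderOf (c ^ 2) = 5 ∧ orderOf (a * c ^ 2) = 2 ∧
    Subgroup.closure {a, c ^ 2} = ⊤ := by
  refine ⟨DihedralGroup.sr 0, DihedralGroup.r 1, DihedralGroup.orderOf_sr 0, DihedralGroup.orderOf_r_one, ?_,
    closure_dihedral 5, ?_, ?_, ?_⟩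
  · rw [DihedralGroup.sr_mul_r]
    exact DihedralGroup.orderOf_sr _
  · rw [DihedralGroup.r_one_pow]
    exact orderOf_five_of _ (by decide) (by decide)
  · rw [DihedralGroup.r_one_pow, DihedralGroup.sr_mul_r]
    exact DihedralGroup.orderOf_sr _
  · rw [eq_top_iff, ← closure_dihedral 5, Subgroup.closure_le]
    rintro x (rfl | rfl)
    · exact Subgroup.subset_closure (by simp)
    · have : (DihedralGroup.r 1 : DihedralGroup 5) = ((DihedralGroup.r 1 : DihedralGroup 5) ^ 2) ^ 3 := by
        decide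
      have hmem : ((DihedralGroup.r 1 : DihedralGroup 5) ^ 2) ^ 3 ∈
          Subgroup.closure ({DihedralGroup.sr 0, (DihedralGroup.r 1 : DihedralGroup 5) ^ 2} :
            Set (DihedralGroup 5)) :=
        Subgroup.pow_mem _ (Subgroup.subset_closure (by simp)) _
      rw [← this] at hmem
      exact hmem

end Cfsg.Agent.Lib.Helper15.Mx
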