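import Mathlib
import Cfsg.Agent.Lib.Helper15.Mx5

/-!
# Maximal subgroups of `PSL₂(q)`, `q` odd, part 6: moving `A₄`, `S₄`, `A₅` and small dihedral subgroups
into other subgroups
-/

set_option autoImplicit false

namespace Cfsg.Agent.Lib.Helper15.Mx

open Matrix
open Cfsg.Agent.Lib.Helper14
open Cfsg.Agent.Lib.Helper15
open Cfsg.Agent.Lib.Helper15.Dk

variable {F : Type*} [Field F]

/-- the squared trace attached to an order -/
def tauF (F : Type*) [Field F] (m : ℕ) : F := if m = 2 then 0 else if m = 3 then 1 else 2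

theorem trsq_of_orderOf (h2 : (2 : F) ≠ 0) (x : ProjectiveSpecialLinearGroup (Fin 2) F) (m : ℕ)
    (hm : m = 2 ∨ m = 3 ∨ m = 4) (hx : orderOf x = m) : trsq x = tauF F m := by
  have hpow : x ^ m = 1 := by rw [← hx]; exact pow_orderOf_eq_one x
  rcases hm with rfl | rfl | rfl
  · have h1 : x ≠ 1 := by
      rintro rfl
      rw [orderOf_one] at hx
      omega
    rw [pow_two] at hpow
    rw [trsq_invol h2 x hpow h1]
    simp [tauF]
  · have h1 : x ≠ 1 := by
      rintro rfl
      rw [orderOf_one] at hx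
      omega
    rw [trsq_of_order3 x hpow h1]
    simp [tauF]
  · have h1 : x ^ 2 ≠ 1 := by
      intro h
      have := orderOf_dvd_of_pow_eq_one h
      rw [hx] at this
      omega
    rw [trsq_of_order4 x hpow h1]
    simp [tauF]

theorem closure_pair_of_iso {G X : Type*} [Group G] [Group X] (M : Subgroup G) (e : M ≃* X) (a₀ b₀ : X)
    (h : Subgroup.closure {a₀, b₀} = ⊤) :
    M = Subgroup.closure {((e.symm a₀ : M) : G), ((e.symm b₀ : M) : G)} := by
  set ι : X →* G := M.subtype.comp e.symm.toMonoidHom with hι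
  have h1 : ι.range = M := by
    rw [hι, MonoidHom.range_comp]
    have : e.symm.toMonoidHom.range = ⊤ := MonoidHom.range_eq_top.2 e.symm.surjective
    rw [this, ← MonoidHom.range_eq_map, Subgroup.range_subtype]
  have h2 : (Subgroup.closure {a₀, b₀}).map ι = Subgroup.closure {ι a₀, ι b₀} := by
    rw [MonoidHom.map_closure]
    congr 1
    ext x
    simp [Set.image_pair]
  rw [h, ← MonoidHom.range_eq_map, h1] at h2
  exact h2

theorem orderOf_iso_coe {G X : Type*} [Group G] [Group X] (M : Subgroup G) (e : M ≃* X) (a₀ : X) :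
    orderOf ((e.symm a₀ : M) : G) = orderOf a₀ := by
  rw [Subgroup.orderOf_coe, MulEquiv.orderOf_eq]

/-- moving a subgroup with a generating pair of small orders -/
theorem exists_le_map_of_gen (h2 : (2 : F) ≠ 0) (M S : Subgroup (ProjectiveSpecialLinearGroup (Fin 2) F))
    {X : Type*} [Group X] (e : M ≃* X) {m n : ℕ} (hg : Gen2 X m n) (hS : Has2 S m n)
    (hm : m = 2 ∨ m = 3 ∨ m = 4) (hn : n = 2 ∨ n = 3 ∨ n = 4) (hne : tauF F m + tauF F n ≠ 4) :
    ∃ P : GL (Fin 2) F, M ≤ S.map (glAut P).toMonoidHom := by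
  obtain ⟨a₀, b₀, ha₀, hb₀, hab₀, hcl⟩ := hg
  obtain ⟨a', b', ha', hb', hab'⟩ := hS
  have hM := closure_pair_of_iso M e a₀ b₀ hcl
  set a : ProjectiveSpecialLinearGroup (Fin 2) F := ((e.symm a₀ : M) : ProjectiveSpecialLinearGroup (Fin 2) F)
    with had
  set b : ProjectiveSpecialLinearGroup (Fin 2) F := ((e.symm b₀ : M) : ProjectiveSpecialLinearGroup (Fin 2) F)
    with hbd
  have hoa : orderOf a = 2 := by rw [had, orderOf_iso_coe, ha₀]
  have hob : orderOf b = m := by rw [hbd, orderOf_iso_coe, hb₀]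
  have hoab : orderOf (a * b) = n := by
    have : a * b = ((e.symm (a₀ * b₀) : M) : ProjectiveSpecialLinearGroup (Fin 2) F) := by
      rw [map_mul]; rfl
    rw [this, orderOf_iso_coe, hab₀]
  have hoa' : orderOf (a' : ProjectiveSpecialLinearGroup (Fin 2) F) = 2 := by
    rw [Subgroup.orderOf_coe, ha']
  have hob' : orderOf (b' : ProjectiveSpecialLinearGroup (Fin 2) F) = m := by
    rw [Subgroup.orderOf_coe, hb']
  have hoab' : orderOf ((a' : ProjectiveSpecialLinearGroup (Fin 2) F) * b') = n := by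
    have : (a' : ProjectiveSpecialLinearGroup (Fin 2) F) * b' = ((a' * b' : S) :
        ProjectiveSpecialLinearGroup (Fin 2) F) := rfl
    rw [this, Subgroup.orderOf_coe, hab']
  have inv_of : ∀ x : ProjectiveSpecialLinearGroup (Fin 2) F, orderOf x = 2 → x * x = 1 ∧ x ≠ 1 := by
    intro x hx
    refine ⟨?_, ?_⟩
    · have := pow_orderOf_eq_one x
      rw [hx, pow_two] at this
      exact this
    · rintro rfl
      rw [orderOf_one] at hx
      omega
  apply le_map_of_pair h2 M S a b a' b' hM a'.2 b'.2 (inv_of a hoa).1 (inv_of a hoa).2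
    (inv_of _ hoa').1 (inv_of _ hoa').2
  · rw [trsq_of_orderOf h2 b m hm hob, trsq_of_orderOf h2 _ m hm hob']
  · rw [trsq_of_orderOf h2 _ n hn hoab, trsq_of_orderOf h2 _ n hn hoab']
  · rw [trsq_of_orderOf h2 b m hm hob, trsq_of_orderOf h2 _ n hn hoab]
    exact hne

theorem invol_of_orderOf {G : Type*} [Group G] (x : G) (hx : orderOf x = 2) : x * x = 1 ∧ x ≠ 1 := by
  refine ⟨?_, ?_⟩
  · have := pow_orderOf_eq_one x
    rw [hx, pow_two] at this
    exact this
  · rintro rfl
    rw [orderOf_one] at hx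
    omega

theorem trsq_of_orderOf_five (x : ProjectiveSpecialLinearGroup (Fin 2) F) (hx : orderOf x = 5) :
    trsq x ^ 2 - 3 * trsq x + 1 = 0 := by
  apply trsq_of_order5
  · rw [← hx]; exact pow_orderOf_eq_one x
  · rintro rfl
    rw [orderOf_one] at hx
    omega

/-- moving a subgroup `A₅` into a subgroup containing a copy of `A₅` -/
theorem exists_le_map_A5 (h2 : (2 : F) ≠ 0) (M S : Subgroup (ProjectiveSpecialLinearGroup (Fin 2) F))
    (e : M ≃* alternatingGroup (Fin 5)) (j : alternatingGroup (Fin 5) →* S) (hj : Function.Injective j) :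
    ∃ P : GL (Fin 2) F, M ≤ S.map (glAut P).toMonoidHom := by
  obtain ⟨a₀, b₀, a₁, b₁, x, ha₀, hb₀, hab₀, hcl, ha₁, hb₁, hrel⟩ := a5_data
  have hM := closure_pair_of_iso M e a₀ b₀ hcl
  set a : ProjectiveSpecialLinearGroup (Fin 2) F := ((e.symm a₀ : M) : ProjectiveSpecialLinearGroup (Fin 2) F)
    with had
  set b : ProjectiveSpecialLinearGroup (Fin 2) F := ((e.symm b₀ : M) : ProjectiveSpecialLinearGroup (Fin 2) F)
    with hbd
  have hoa : orderOf a = 2 := by rw [had, orderOf_iso_coe, ha₀]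
  have hob : orderOf b = 3 := by rw [hbd, orderOf_iso_coe, hb₀]
  have hoab : orderOf (a * b) = 5 := by
    have : a * b = ((e.symm (a₀ * b₀) : M) : ProjectiveSpecialLinearGroup (Fin 2) F) := by
      rw [map_mul]; rfl
    rw [this, orderOf_iso_coe, hab₀]
  -- the embedding of `A₅` into `G`
  set ι : alternatingGroup (Fin 5) →* ProjectiveSpecialLinearGroup (Fin 2) F := S.subtype.comp j with hι
  have hιinj : Function.Injective ι := S.subtype_injective.comp hj
  have hιS : ∀ y, ι y ∈ S := fun y => (j y).2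
  have hz := trsq_of_orderOf_five (a * b) hoab
  have hz' : trsq (ι (a₀ * b₀)) ^ 2 - 3 * trsq (ι (a₀ * b₀)) + 1 = 0 := by
    apply trsq_of_orderOf_five
    rw [orderOf_injective ι hιinj, hab₀]
  have hb1 : trsq b = 1 := by
    rw [trsq_of_orderOf h2 b 3 (by omega) hob]; simp [tauF]
  have hne : trsq b + trsq (a * b) ≠ 4 := by
    rw [hb1]
    intro h
    have h3 : trsq (a * b) = 3 := by linear_combination h
    rw [h3] at hz
    norm_num at hz
  have hprod : (trsq (a * b) - trsq (ι (a₀ * b₀))) * (trsq (a * b) + trsq (ι (a₀ * b₀)) - 3) = 0 := by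
    linear_combination hz - hz'
  rcases mul_eq_zero.1 hprod with h | h
  · apply le_map_of_pair h2 M S a b (ι a₀) (ι b₀) hM (hιS _) (hιS _) (invol_of_orderOf a hoa).1
      (invol_of_orderOf a hoa).2 (invol_of_orderOf _ (by rw [orderOf_injective ι hιinj, ha₀])).1
      (invol_of_orderOf _ (by rw [orderOf_injective ι hιinj, ha₀])).2
    · rw [hb1, trsq_of_orderOf h2 _ 3 (by omega) (by rw [orderOf_injective ι hιinj, hb₀])]; simp [tauF]
    · rw [← map_mul]; linear_combination h
    · exact hne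
  · apply le_map_of_pair h2 M S a b (ι a₁) (ι b₁) hM (hιS _) (hιS _) (invol_of_orderOf a hoa).1
      (invol_of_orderOf a hoa).2 (invol_of_orderOf _ (by rw [orderOf_injective ι hιinj, ha₁])).1
      (invol_of_orderOf _ (by rw [orderOf_injective ι hιinj, ha₁])).2
    · rw [hb1, trsq_of_orderOf h2 _ 3 (by omega) (by rw [orderOf_injective ι hιinj, hb₁])]; simp [tauF]
    · rw [← map_mul, hrel, map_mul, map_mul, map_inv, ← MulAut.conj_apply, trsq_conj, map_pow, trsq_sq]
      linear_combination h - hz'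
    · exact hne

/-- moving a dihedral subgroup of order ten into a subgroup containing a suitable dihedral pair -/
theorem exists_le_map_D5 (h2 : (2 : F) ≠ 0) (h5 : (5 : F) ≠ 0)
    (M S : Subgroup (ProjectiveSpecialLinearGroup (Fin 2) F)) (e : M ≃* DihedralGroup 5)
    (hS : ∃ a' c' : S, orderOf a' = 2 ∧ orderOf c' = 5 ∧ orderOf (a' * c') = 2 ∧ orderOf (a' * c' ^ 2) = 2) :
    ∃ P : GL (Fin 2) F, M ≤ S.map (glAut P).toMonoidHom := by
  obtain ⟨a₀, c₀, ha₀, hc₀, hac₀, hcl⟩ := gen_D 5 (by norm_num)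
  obtain ⟨a', c', ha', hc', hac', hac2'⟩ := hS
  have hM := closure_pair_of_iso M e a₀ c₀ hcl
  set a : ProjectiveSpecialLinearGroup (Fin 2) F := ((e.symm a₀ : M) : ProjectiveSpecialLinearGroup (Fin 2) F)
    with had
  set c : ProjectiveSpecialLinearGroup (Fin 2) F := ((e.symm c₀ : M) : ProjectiveSpecialLinearGroup (Fin 2) F)
    with hcd
  have hoa : orderOf a = 2 := by rw [had, orderOf_iso_coe, ha₀]
  have hoc : orderOf c = 5 := by rw [hcd, orderOf_iso_coe, hc₀]
  have hoac : orderOf (a * c) = 2 := by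
    have : a * c = ((e.symm (a₀ * c₀) : M) : ProjectiveSpecialLinearGroup (Fin 2) F) := by
      rw [map_mul]; rfl
    rw [this, orderOf_iso_coe, hac₀]
  have hoa' : orderOf (a' : ProjectiveSpecialLinearGroup (Fin 2) F) = 2 := by
    rw [Subgroup.orderOf_coe, ha']
  have hoc' : orderOf (c' : ProjectiveSpecialLinearGroup (Fin 2) F) = 5 := by
    rw [Subgroup.orderOf_coe, hc']
  have hoac' : orderOf ((a' : ProjectiveSpecialLinearGroup (Fin 2) F) * c') = 2 := by
    have : (a' : ProjectiveSpecialLinearGroup (Fin 2) F) * c' = ((a' * c' : S) :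
        ProjectiveSpecialLinearGroup (Fin 2) F) := rfl
    rw [this, Subgroup.orderOf_coe, hac']
  have hoac2' : orderOf ((a' : ProjectiveSpecialLinearGroup (Fin 2) F) * (c' : ProjectiveSpecialLinearGroup (Fin 2) F) ^ 2) = 2 := by
    have : (a' : ProjectiveSpecialLinearGroup (Fin 2) F) * (c' : ProjectiveSpecialLinearGroup (Fin 2) F) ^ 2 =
        ((a' * c' ^ 2 : S) : ProjectiveSpecialLinearGroup (Fin 2) F) := rfl
    rw [this, Subgroup.orderOf_coe, hac2']
  have hz := trsq_of_orderOf_five c hoc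
  have hz' := trsq_of_orderOf_five (c' : ProjectiveSpecialLinearGroup (Fin 2) F) hoc'
  have t0 : ∀ y : ProjectiveSpecialLinearGroup (Fin 2) F, orderOf y = 2 → trsq y = 0 := by
    intro y hy
    rw [trsq_of_orderOf h2 y 2 (by omega) hy]; simp [tauF]
  have hne : trsq c + trsq (a * c) ≠ 4 := by
    rw [t0 _ hoac, add_zero]
    intro h
    rw [h] at hz
    apply h5
    linear_combination hz
  have hprod : (trsq c - trsq (c' : ProjectiveSpecialLinearGroup (Fin 2) F)) *
      (trsq c + trsq (c' : ProjectiveSpecialLinearGroup (Fin 2) F) - 3) = 0 := by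
    linear_combination hz - hz'
  rcases mul_eq_zero.1 hprod with h | h
  · apply le_map_of_pair h2 M S a c a' c' hM a'.2 c'.2 (invol_of_orderOf a hoa).1
      (invol_of_orderOf a hoa).2 (invol_of_orderOf _ hoa').1 (invol_of_orderOf _ hoa').2
    · linear_combination h
    · rw [t0 _ hoac, t0 _ hoac']
    · exact hne
  · apply le_map_of_pair h2 M S a c a' ((c' : ProjectiveSpecialLinearGroup (Fin 2) F) ^ 2) hM a'.2
      (S.pow_mem c'.2 2) (invol_of_orderOf a hoa).1
      (invol_of_orderOf a hoa).2 (invol_of_orderOf _ hoa').1 (invol_of_orderOf _ hoa').2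
    · rw [trsq_sq]
      linear_combination h - hz'
    · rw [t0 _ hoac, t0 _ hoac2']
    · exact hne

end Cfsg.Agent.Lib.Helper15.Mx
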