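import Mathlib
import Cfsg.Agent.Lib.Helper15.Mx6
import Cfsg.Agent.S0802
import Cfsg.Agent.S0803
import Cfsg.Agent.S0804
import Cfsg.Agent.S0805

/-!
# Maximal subgroups of `PSL₂(q)`, `q` odd, part 7: utilities
-/

set_option autoImplicit false

namespace Cfsg.Agent.Lib.Helper15.Mx

open Matrix
open Cfsg.Agent.Lib.Helper14
open Cfsg.Agent.Lib.Helper15
open Cfsg.Agent.Lib.Helper15.Dk

section general
variable {G : Type*} [Group G]

theorem coatom_cases (M : Subgroup G) (hM : IsCoatom M) (T : Subgroup G) (h : M ≤ T) : M = T ∨ T = ⊤ := by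
  rcases eq_or_lt_of_le h with h | h
  · exact Or.inl h
  · exact Or.inr (hM.2 _ h)

theorem map_aut_eq_top (φ : MulAut G) (S : Subgroup G) (h : S.map φ.toMonoidHom = ⊤) : S = ⊤ := by
  rw [eq_top_iff]
  intro x _
  have : φ x ∈ S.map φ.toMonoidHom := by rw [h]; exact Subgroup.mem_top _
  obtain ⟨y, hy, hxy⟩ := this
  have : y = x := φ.injective hxy
  rw [← this]
  exact hy

/-- a maximal subgroup contained in the image of `S` under an automorphism is isomorphic to `S`,
unless `S` is everything -/
theorem coatom_le_map_cases (M : Subgroup G) (hM : IsCoatom M) (S : Subgroup G) (φ : MulAut G)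
    (h : M ≤ S.map φ.toMonoidHom) : Nonempty (M ≃* S) ∨ S = ⊤ := by
  rcases coatom_cases M hM _ h with h | h
  · left
    exact ⟨(MulEquiv.subgroupCongr h).trans (S.equivMapOfInjective _ φ.injective).symm⟩
  · right
    exact map_aut_eq_top φ S h

end general

variable {F : Type*} [Field F] [Fintype F]

theorem two_ne_zero_of_odd (hodd : Odd (Fintype.card F)) : (2 : F) ≠ 0 := by
  rw [Ne, ← two_dvd_card_iff]
  rw [Nat.odd_iff] at hodd
  omega

theorem card_center_of_odd (hodd : Odd (Fintype.card F)) :
    Nat.card (Subgroup.center (SpecialLinearGroup (Fin 2) F)) = 2 := by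
  rw [card_center_eq_gcd]
  apply Nat.gcd_eq_left
  rw [Nat.odd_iff] at hodd
  omega

theorem card_PSL2_of_odd (hodd : Odd (Fintype.card F)) :
    2 * Nat.card (ProjectiveSpecialLinearGroup (Fin 2) F) = Fintype.card F * (Fintype.card F ^ 2 - 1) := by
  have := card_PSL2_mul (F := F)
  rw [card_center_of_odd hodd] at this
  omega

/-- natural numbers coprime to the order of the field are nonzero in it -/
theorem natCast_ne_zero_of_coprime (n : ℕ) (h : Nat.Coprime n (Fintype.card F)) : ((n : ℕ) : F) ≠ 0 := by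
  obtain ⟨p, hp⟩ := CharP.exists F
  have hpr : Fact p.Prime := ⟨CharP.char_is_prime F p⟩
  obtain ⟨k, -, hk⟩ := FiniteField.card F p
  intro h0
  have h1 := (CharP.cast_eq_zero_iff F p n).1 h0
  have h2 : p ∣ Fintype.card F := by
    rw [hk]
    exact dvd_pow_self p k.ne_zero
  have := Nat.dvd_gcd h1 h2
  rw [h] at this
  exact hpr.out.one_lt.ne' (Nat.dvd_one.1 this)

/-- a finite field of prescribed prime power order in `Type` -/
theorem exists_field_card (p n : ℕ) [Fact p.Prime] (hn : n ≠ 0) :
    ∃ (K : Type) (_ : Field K) (_ : Fintype K), Fintype.card K = p ^ n ∧ CharP K p := by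
  let _ : Fintype (GaloisField p n) := Fintype.ofFinite _
  refine ⟨GaloisField p n, inferInstance, inferInstance, ?_, inferInstance⟩
  rw [← Nat.card_eq_fintype_card]
  exact GaloisField.card p n hn

end Cfsg.Agent.Lib.Helper15.Mx
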