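import Mathlib
import Cfsg.Agent.Lib.Helper15.Mx7

/-!
# Maximal subgroups of `PSL₂(q)`, `q` odd, part 8: the small dihedral exceptions
-/

set_option autoImplicit false

namespace Cfsg.Agent.Lib.Helper15.Mx

open Matrix
open Cfsg.Agent.Lib.Helper14
open Cfsg.Agent.Lib.Helper15
open Cfsg.Agent.Lib.Helper15.Dk

variable {F : Type*} [Field F] [Fintype F]

theorem Has2.of_iso {X Y : Type*} [Group X] [Group Y] {m n : ℕ} (h : Has2 Y m n) (e : X ≃* Y) : Has2 X m n :=
  h.map e.symm.toMonoidHom e.symm.injective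

/-- the exclusion principle: a maximal subgroup with a generating pair of small orders cannot be
moved into a proper subgroup of different order -/
theorem excl_gen (h2 : (2 : F) ≠ 0) (M : Subgroup (ProjectiveSpecialLinearGroup (Fin 2) F)) (hM : IsCoatom M)
    {X : Type*} [Group X] (e : M ≃* X) {m n : ℕ} (hg : Gen2 X m n)
    (S : Subgroup (ProjectiveSpecialLinearGroup (Fin 2) F)) (hS : Has2 S m n)
    (hm : m = 2 ∨ m = 3 ∨ m = 4) (hn : n = 2 ∨ n = 3 ∨ n = 4) (hne : tauF F m + tauF F n ≠ 4)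
    (hcard : Nat.card S ≠ Nat.card M) (hStop : Nat.card S ≠ Nat.card (ProjectiveSpecialLinearGroup (Fin 2) F)) :
    False := by
  obtain ⟨P, hP⟩ := exists_le_map_of_gen h2 M S e hg hS hm hn hne
  rcases coatom_le_map_cases M hM S (glAut P) hP with ⟨⟨e'⟩⟩ | h
  · exact hcard (Nat.card_congr e'.toEquiv).symm
  · apply hStop
    rw [h, Subgroup.card_top]

theorem excl_D5 (h2 : (2 : F) ≠ 0) (h5 : (5 : F) ≠ 0)
    (M : Subgroup (ProjectiveSpecialLinearGroup (Fin 2) F)) (hM : IsCoatom M)
    (e : M ≃* DihedralGroup 5)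
    (S : Subgroup (ProjectiveSpecialLinearGroup (Fin 2) F)) (eS : S ≃* alternatingGroup (Fin 5))
    (hStop : 60 ≠ Nat.card (ProjectiveSpecialLinearGroup (Fin 2) F)) :
    False := by
  have hS : ∃ a' c' : S, orderOf a' = 2 ∧ orderOf c' = 5 ∧ orderOf (a' * c') = 2 ∧ orderOf (a' * c' ^ 2) = 2 := by
    obtain ⟨a, c, h1, h3, h4, h6⟩ := a5_dih
    refine ⟨eS.symm a, eS.symm c, ?_, ?_, ?_, ?_⟩
    · rw [MulEquiv.orderOf_eq, h1]
    · rw [MulEquiv.orderOf_eq, h3]
    · rw [← map_mul, MulEquiv.orderOf_eq, h4]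
    · rw [← map_pow, ← map_mul, MulEquiv.orderOf_eq, h6]
  obtain ⟨P, hP⟩ := exists_le_map_D5 h2 h5 M S e hS
  have hcS : Nat.card S = 60 := by rw [Nat.card_congr eS.toEquiv, card_A5]
  rcases coatom_le_map_cases M hM S (glAut P) hP with ⟨⟨e'⟩⟩ | h
  · have := Nat.card_congr e'.toEquiv
    rw [hcS, Nat.card_congr e.toEquiv, DihedralGroup.nat_card] at this
    omega
  · apply hStop
    rw [← hcS, h, Subgroup.card_top]

theorem four_ne_zero' (h2 : (2 : F) ≠ 0) : (4 : F) ≠ 0 := by
  have : (4 : F) = 2 * 2 := by norm_num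
  rw [this]
  exact mul_ne_zero h2 h2

/-- the dihedral maximal subgroups of order `q - 1` occur only for `q ≥ 13` -/
theorem dihedral_minus (hodd : Odd (Fintype.card F)) (h5 : 5 ≤ Fintype.card F)
    (M : Subgroup (ProjectiveSpecialLinearGroup (Fin 2) F)) (hM : IsCoatom M) (n : ℕ)
    (hn : n * 2 = Fintype.card F - 1) (e : M ≃* DihedralGroup n) : 13 ≤ Fintype.card F := by
  by_contra hlt
  push Not at hlt
  have h2 := two_ne_zero_of_odd hodd
  have hG := card_PSL2_of_odd hodd
  have hcM : Nat.card M = 2 * n := by rw [Nat.card_congr e.toEquiv, DihedralGroup.nat_card]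
  obtain ⟨j, hj⟩ := hodd
  have hq : Fintype.card F = 5 ∨ Fintype.card F = 7 ∨ Fintype.card F = 9 ∨ Fintype.card F = 11 := by omega
  rcases hq with hq | hq | hq | hq
  · -- `q = 5`, the four-group lies in `A₄`
    rw [hq] at hn hG
    obtain rfl : n = 2 := by omega
    obtain ⟨S, ⟨eS⟩⟩ := exists_A4_odd (F := F) h2
    have hcS : Nat.card S = 12 := by rw [Nat.card_congr eS.toEquiv, card_A4]
    apply excl_gen h2 M hM e (gen_D 2 (by norm_num)) S (has_A4_22.of_iso eS) (by omega) (by omega)
    · simp only [tauF]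
      norm_num
      exact (four_ne_zero' h2).symm
    · rw [hcS, hcM]; norm_num
    · rw [hcS]; norm_num at hG; omega
  · -- `q = 7`, `S₃` lies in `S₄`
    rw [hq] at hn hG
    obtain rfl : n = 3 := by omega
    obtain ⟨S, ⟨eS⟩⟩ := (Cfsg.Agent.S0803.result hq).2 (by norm_num)
    have hcS : Nat.card S = 24 := by rw [Nat.card_congr eS.toEquiv, card_S4]
    have h3 : (3 : F) ≠ 0 := by
      have := natCast_ne_zero_of_coprime (F := F) 3 (by rw [hq]; norm_num)
      exact_mod_cast this
    apply excl_gen h2 M hM e (gen_D 3 (by norm_num)) S (has_S4_32.of_iso eS) (by omega) (by omega)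
    · simp only [tauF]
      norm_num
      intro h
      apply h3
      linear_combination -h
    · rw [hcS, hcM]; norm_num
    · rw [hcS]; norm_num at hG; omega
  · -- `q = 9`, `D₈` lies in `S₄`
    rw [hq] at hn hG
    obtain rfl : n = 4 := by omega
    obtain ⟨S, ⟨eS⟩⟩ := (Cfsg.Agent.S0803.result hq).2 (by norm_num)
    have hcS : Nat.card S = 24 := by rw [Nat.card_congr eS.toEquiv, card_S4]
    apply excl_gen h2 M hM e (gen_D 4 (by norm_num)) S (has_S4_42.of_iso eS) (by omega) (by omega)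
    · simp only [tauF]
      norm_num
      intro h
      apply h2
      linear_combination -h
    · rw [hcS, hcM]; norm_num
    · rw [hcS]; norm_num at hG; omega
  · -- `q = 11`, `D₁₀` lies in `A₅`
    rw [hq] at hn hG
    obtain rfl : n = 5 := by omega
    obtain ⟨S, ⟨eS⟩⟩ := (Cfsg.Agent.S0804.result hq).2 (by norm_num)
    have h5' : (5 : F) ≠ 0 := by
      have := natCast_ne_zero_of_coprime (F := F) 5 (by rw [hq]; norm_num)
      exact_mod_cast this
    apply excl_D5 h2 h5' M hM e S eS
    norm_num at hG; omega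

/-- the dihedral maximal subgroups of order `q + 1` do not occur for `q = 7, 9` -/
theorem dihedral_plus (hodd : Odd (Fintype.card F))
    (M : Subgroup (ProjectiveSpecialLinearGroup (Fin 2) F)) (hM : IsCoatom M) (n : ℕ)
    (hn : n * 2 = Fintype.card F + 1) (e : M ≃* DihedralGroup n) :
    Fintype.card F ≠ 7 ∧ Fintype.card F ≠ 9 := by
  have h2 := two_ne_zero_of_odd hodd
  have hG := card_PSL2_of_odd hodd
  have hcM : Nat.card M = 2 * n := by rw [Nat.card_congr e.toEquiv, DihedralGroup.nat_card]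
  constructor
  · intro hq
    rw [hq] at hn hG
    obtain rfl : n = 4 := by omega
    obtain ⟨S, ⟨eS⟩⟩ := (Cfsg.Agent.S0803.result hq).2 (by norm_num)
    have hcS : Nat.card S = 24 := by rw [Nat.card_congr eS.toEquiv, card_S4]
    apply excl_gen h2 M hM e (gen_D 4 (by norm_num)) S (has_S4_42.of_iso eS) (by omega) (by omega)
    · simp only [tauF]
      norm_num
      intro h
      apply h2
      linear_combination -h
    · rw [hcS, hcM]; norm_num
    · rw [hcS]; norm_num at hG; omega
  · intro hq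
    rw [hq] at hn hG
    obtain rfl : n = 5 := by omega
    obtain ⟨S, ⟨eS⟩⟩ := (Cfsg.Agent.S0804.result hq).2 (by norm_num)
    have h5' : (5 : F) ≠ 0 := by
      have := natCast_ne_zero_of_coprime (F := F) 5 (by rw [hq]; norm_num)
      exact_mod_cast this
    apply excl_D5 h2 h5' M hM e S eS
    norm_num at hG; omega

end Cfsg.Agent.Lib.Helper15.Mx
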