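import Mathlib
import Cfsg.Agent.Lib.Helper15.Mx8
import Cfsg.Agent.Lib.Helper15.PGLSyl2

/-!
# Maximal subgroups of `PSL₂(q)`, `q` odd, part 9: a `(2, 3, 4)`-pair in `PGL₂(K)`
-/

set_option autoImplicit false

namespace Cfsg.Agent.Lib.Helper15.Mx

open Matrix
open Cfsg.Agent.Lib.Helper14
open Cfsg.Agent.Lib.Helper15
open Cfsg.Agent.Lib.Helper15.Dk

variable {K : Type*} [Field K]

theorem pmk_eq_one_of_scalar (B : GL (Fin 2) K) (c : K)
    (h : (B : Matrix (Fin 2) (Fin 2) K) = c • (1 : Matrix (Fin 2) (Fin 2) K)) :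
    ProjGenLinGroup.mk B = 1 := mk_eq_one_of_scalar B c h

theorem pmk_ne_one_of_not_scalar (B : GL (Fin 2) K) (h : ¬ IsScalar2 (B : Matrix (Fin 2) (Fin 2) K)) :
    ProjGenLinGroup.mk B ≠ 1 := mk_ne_one_of_not_scalar B h

/-- the conic used for the `(2, 3, 4)`-pair has a point -/
theorem exists_conic_point [Fintype K] (hodd : Odd (Fintype.card K)) :
    ∃ x z : K, x ^ 2 + x + 1 + 2 * z + 2 * z ^ 2 = 0 := by
  have h2 : (2 : K) ≠ 0 := two_ne_zero_of_odd hodd
  obtain ⟨a, b, hab⟩ := FiniteField.exists_root_sum_quadratic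
    (f := Polynomial.C (1 : K) * Polynomial.X ^ 2 + Polynomial.C 1 * Polynomial.X + Polynomial.C 1)
    (g := Polynomial.C (2 : K) * Polynomial.X ^ 2 + Polynomial.C 2 * Polynomial.X + Polynomial.C 0)
    (Polynomial.degree_quadratic one_ne_zero) (Polynomial.degree_quadratic h2) (Nat.odd_iff.1 hodd)
  refine ⟨a, b, ?_⟩
  simp at hab
  linear_combination hab

/-- a `(2, 3, 4)`-pair in `PGL₂(K)`, `K` finite of odd order -/
theorem has_PGL2_34 [Fintype K] (hodd : Odd (Fintype.card K)) : Has2 (ProjGenLinGroup (Fin 2) K) 3 4 := by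
  have h2 : (2 : K) ≠ 0 := two_ne_zero_of_odd hodd
  obtain ⟨x, z, hxz⟩ := exists_conic_point hodd
  have hdA : (!![0, -2; 1, 0] : Matrix (Fin 2) (Fin 2) K).det ≠ 0 := by
    simp [Matrix.det_fin_two, h2]
  have hdB : (!![x, 2 + 2 * z; z, -1 - x] : Matrix (Fin 2) (Fin 2) K).det ≠ 0 := by
    rw [Matrix.det_fin_two_of]
    have : x * (-1 - x) - (2 + 2 * z) * z = 1 := by linear_combination -hxz
    rw [this]
    exact one_ne_zero
  set A : GL (Fin 2) K := GeneralLinearGroup.mkOfDetNeZero _ hdA with hA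
  set B : GL (Fin 2) K := GeneralLinearGroup.mkOfDetNeZero _ hdB with hB
  have hAc : (A : Matrix (Fin 2) (Fin 2) K) = !![0, -2; 1, 0] := rfl
  have hBc : (B : Matrix (Fin 2) (Fin 2) K) = !![x, 2 + 2 * z; z, -1 - x] := rfl
  refine ⟨ProjGenLinGroup.mk A, ProjGenLinGroup.mk B, ?_, ?_, ?_⟩
  · apply orderOf_two_of
    · rw [← map_mul]
      apply pmk_eq_one_of_scalar _ (-2)
      rw [Units.val_mul, hAc]
      ext i j
      fin_cases i <;> fin_cases j <;> simp
    · apply pmk_ne_one_of_not_scalar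
      rw [hAc]
      rintro ⟨-, h10, -⟩
      simp at h10
  · apply orderOf_three_of
    · rw [← map_pow]
      apply pmk_eq_one_of_scalar _ 1
      rw [one_smul, Units.val_pow_eq_pow_val, hBc, pow_succ, pow_two]
      have hc := cayley2 (!![x, 2 + 2 * z; z, -1 - x] : Matrix (Fin 2) (Fin 2) K)
      have htr : (!![x, 2 + 2 * z; z, -1 - x] : Matrix (Fin 2) (Fin 2) K).trace = -1 := by
        rw [Matrix.trace_fin_two_of]; ring
      have hdet : (!![x, 2 + 2 * z; z, -1 - x] : Matrix (Fin 2) (Fin 2) K).det = 1 := by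
        rw [Matrix.det_fin_two_of]; linear_combination -hxz
      rw [htr, hdet] at hc
      rw [hc, Matrix.sub_mul, Matrix.smul_mul, hc]
      simp only [neg_smul, one_smul, Matrix.one_mul]
      abel
    · apply pmk_ne_one_of_not_scalar
      rw [hBc]
      rintro ⟨h01, h10, -⟩
      simp at h01 h10
      rw [h10] at h01
      apply h2
      linear_combination h01
  · have hCc : ((A * B : GL (Fin 2) K) : Matrix (Fin 2) (Fin 2) K) =
        !![-2 * z, 2 + 2 * x; x, 2 + 2 * z] := by
      rw [Units.val_mul, hAc, hBc]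
      ext i j
      fin_cases i <;> fin_cases j <;> simp <;> ring
    have hc := cayley2 (!![-2 * z, 2 + 2 * x; x, 2 + 2 * z] : Matrix (Fin 2) (Fin 2) K)
    have htr : (!![-2 * z, 2 + 2 * x; x, 2 + 2 * z] : Matrix (Fin 2) (Fin 2) K).trace = 2 := by
      rw [Matrix.trace_fin_two_of]; ring
    have hdet : (!![-2 * z, 2 + 2 * x; x, 2 + 2 * z] : Matrix (Fin 2) (Fin 2) K).det = 2 := by
      rw [Matrix.det_fin_two_of]; linear_combination (-2) * hxz
    rw [htr, hdet] at hc
    rw [← map_mul]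
    apply orderOf_four_of
    · rw [← map_pow]
      apply pmk_eq_one_of_scalar _ (-4)
      rw [Units.val_pow_eq_pow_val, hCc]
      have e4 : ∀ C : Matrix (Fin 2) (Fin 2) K, C ^ 4 = (C * C) * (C * C) := by
        intro C
        simp only [pow_succ, pow_zero, one_mul, Matrix.mul_assoc]
      rw [e4, hc]
      set C := (!![-2 * z, 2 + 2 * x; x, 2 + 2 * z] : Matrix (Fin 2) (Fin 2) K) with hC
      have : ((2 : K) • C - (2 : K) • (1 : Matrix (Fin 2) (Fin 2) K)) * ((2 : K) • C - (2 : K) • 1) =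
          (4 : K) • (C * C) - (8 : K) • C + (4 : K) • (1 : Matrix (Fin 2) (Fin 2) K) := by
        simp only [Matrix.sub_mul, Matrix.mul_sub, Matrix.smul_mul, Matrix.mul_smul, Matrix.one_mul,
          Matrix.mul_one, smul_sub, smul_smul]
        module
      rw [this, hc]
      module
    · rw [← map_pow]
      apply pmk_ne_one_of_not_scalar
      rw [Units.val_pow_eq_pow_val, hCc, pow_two, hc]
      rintro ⟨h01, h10, -⟩
      simp at h01 h10
      have hx0 : x = 0 := h10.resolve_left h2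
      have h3 : (2 : K) + 2 * x = 0 := h01.resolve_left h2
      rw [hx0] at h3
      apply h2
      linear_combination h3

end Cfsg.Agent.Lib.Helper15.Mx
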