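import Mathlib
import Cfsg.Agent.Lib.Helper15.Mx9

/-!
# Maximal subgroups of `PSL₂(q)`, `q` odd, part 10: arithmetic and the subfield overgroups
-/

set_option autoImplicit false

namespace Cfsg.Agent.Lib.Helper15.Mx

open Matrix
open Cfsg.Agent.Lib.Helper14
open Cfsg.Agent.Lib.Helper15
open Cfsg.Agent.Lib.Helper15.Dk

/-! ### arithmetic -/

theorem sq_mod16 (q : ℕ) (hq : q % 2 = 1) : q ^ 2 % 16 = 1 ↔ (q % 8 = 1 ∨ q % 8 = 7) := by
  rw [Nat.pow_mod]
  have h : q % 16 = 1 ∨ q % 16 = 3 ∨ q % 16 = 5 ∨ q % 16 = 7 ∨ q % 16 = 9 ∨ q % 16 = 11 ∨ q % 16 = 13 ∨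
      q % 16 = 15 := by omega
  rcases h with h | h | h | h | h | h | h | h <;> rw [h] <;> omega

theorem pow_even_mod8 (p : ℕ) (hp : p % 2 = 1) (j : ℕ) : p ^ (2 * j) % 8 = 1 := by
  rw [pow_mul, Nat.pow_mod]
  have h1 : p ^ 2 % 8 = 1 := by
    rw [Nat.pow_mod]
    have h : p % 8 = 1 ∨ p % 8 = 3 ∨ p % 8 = 5 ∨ p % 8 = 7 := by omega
    rcases h with h | h | h | h <;> rw [h]
  rw [h1, one_pow]
  all_goals norm_num

theorem pow_odd_mod8 (p : ℕ) (hp : p % 2 = 1) (j : ℕ) : p ^ (2 * j + 1) % 8 = p % 8 := by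
  rw [pow_succ, Nat.mul_mod, pow_even_mod8 p hp j]
  omega

theorem pow_mod5_of_one_or_four (p : ℕ) (hp : p % 5 = 1 ∨ p % 5 = 4) (n : ℕ) :
    p ^ n % 5 = 1 ∨ p ^ n % 5 = 4 := by
  induction n with
  | zero => left; simp
  | succ n ih =>
    rw [pow_succ, Nat.mul_mod]
    rcases ih with h | h <;> rcases hp with h' | h' <;> rw [h, h'] <;> simp

theorem pow_mod5_even (p : ℕ) (hp : p % 5 = 2 ∨ p % 5 = 3) (j : ℕ) :
    p ^ (2 * j) % 5 = 1 ∨ p ^ (2 * j) % 5 = 4 := by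
  rw [pow_mul]
  apply pow_mod5_of_one_or_four
  right
  rw [Nat.pow_mod]
  rcases hp with h | h <;> rw [h]

theorem pow_mod5_odd (p : ℕ) (hp : p % 5 = 2 ∨ p % 5 = 3) (j : ℕ) :
    p ^ (2 * j + 1) % 5 = 2 ∨ p ^ (2 * j + 1) % 5 = 3 := by
  rw [pow_succ, Nat.mul_mod]
  rcases pow_mod5_even p hp j with h | h <;> rcases hp with h' | h' <;> rw [h, h'] <;> simp

theorem five_dvd_of_mod (k : ℕ) (hk : k % 5 = 1 ∨ k % 5 = 4) : 5 ∣ k * (k ^ 2 - 1) := by
  apply Dvd.dvd.mul_left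
  have h1 : k ^ 2 % 5 = 1 := by
    rw [Nat.pow_mod]
    rcases hk with h | h <;> rw [h]
  have h2 : 1 ≤ k ^ 2 := Nat.one_le_pow _ _ (by omega)
  omega

theorem mod_of_five_dvd (k : ℕ) (hk5 : ¬ 5 ∣ k) (h : 5 ∣ k * (k ^ 2 - 1)) : k % 5 = 1 ∨ k % 5 = 4 := by
  have h1 : 5 ∣ k ^ 2 - 1 := ((Nat.Prime.dvd_mul (by norm_num : Nat.Prime 5)).1 h).resolve_left hk5
  have h2 : 1 ≤ k ^ 2 := Nat.one_le_pow _ _ (by omega)
  have h3 : k ^ 2 % 5 = 1 := by omega
  rw [Nat.pow_mod] at h3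
  have h4 : k % 5 = 0 ∨ k % 5 = 1 ∨ k % 5 = 2 ∨ k % 5 = 3 ∨ k % 5 = 4 := by omega
  rcases h4 with h | h | h | h | h <;> rw [h] at h3 <;> simp at h3 <;> omega

/-! ### subfield overgroups -/

variable {F : Type*} [Field F] [Fintype F]

/-- a maximal subgroup that can be moved into every copy of `PSL₂(K)`, `K` a proper subfield,
is isomorphic to `PSL₂(K)` -/
theorem sub_overgroup_PSL (hodd : Odd (Fintype.card F))
    (M : Subgroup (ProjectiveSpecialLinearGroup (Fin 2) F)) (hM : IsCoatom M)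
    {K : Type*} [Field K] [Fintype K] (r : ℕ) (hr : 2 ≤ r) (hK : Fintype.card K ^ r = Fintype.card F)
    (hmove : ∀ S : Subgroup (ProjectiveSpecialLinearGroup (Fin 2) F),
      Nonempty (S ≃* ProjectiveSpecialLinearGroup (Fin 2) K) →
      ∃ P : GL (Fin 2) F, M ≤ S.map (glAut P).toMonoidHom) :
    Nonempty (M ≃* ProjectiveSpecialLinearGroup (Fin 2) K) := by
  obtain ⟨S, ⟨eS⟩⟩ := (Cfsg.Agent.S0805.result (F := F) (K := K) rfl hodd r (by omega) hK).1
  obtain ⟨P, hP⟩ := hmove S ⟨eS⟩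
  rcases coatom_le_map_cases M hM S (glAut P) hP with ⟨⟨e'⟩⟩ | h
  · exact ⟨e'.trans eS⟩
  · exfalso
    have hKodd : Odd (Fintype.card K) := by
      rw [← hK] at hodd
      exact (Nat.odd_pow_iff (by omega)).1 hodd
    have h1 := card_PSL2_of_odd hodd
    have h2 := card_PSL2_of_odd hKodd
    have h3 : Nat.card S = Nat.card (ProjectiveSpecialLinearGroup (Fin 2) F) := by
      rw [h, Subgroup.card_top]
    rw [Nat.card_congr eS.toEquiv] at h3
    have hk2 : 2 ≤ Fintype.card K := Fintype.one_lt_card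
    have hlt : Fintype.card K < Fintype.card F := by
      rw [← hK]
      calc Fintype.card K = Fintype.card K ^ 1 := (pow_one _).symm
        _ < Fintype.card K ^ r := Nat.pow_lt_pow_right (by omega) (by omega)
    have := cube_strict_mono hk2 hlt
    omega

/-- a maximal subgroup that can be moved into every copy of `PGL₂(K)`, `K` the subfield of index two,
is isomorphic to `PGL₂(K)` -/
theorem sub_overgroup_PGL (hodd : Odd (Fintype.card F))
    (M : Subgroup (ProjectiveSpecialLinearGroup (Fin 2) F)) (hM : IsCoatom M)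
    {K : Type*} [Field K] [Fintype K] (hK : Fintype.card K ^ 2 = Fintype.card F)
    (hmove : ∀ S : Subgroup (ProjectiveSpecialLinearGroup (Fin 2) F),
      Nonempty (S ≃* ProjGenLinGroup (Fin 2) K) →
      ∃ P : GL (Fin 2) F, M ≤ S.map (glAut P).toMonoidHom) :
    Nonempty (M ≃* ProjGenLinGroup (Fin 2) K) := by
  obtain ⟨S, ⟨eS⟩⟩ := ((Cfsg.Agent.S0805.result (F := F) (K := K) rfl hodd 2 (by omega) hK).2).2 (by decide)
  obtain ⟨P, hP⟩ := hmove S ⟨eS⟩
  rcases coatom_le_map_cases M hM S (glAut P) hP with ⟨⟨e'⟩⟩ | h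
  · exact ⟨e'.trans eS⟩
  · exfalso
    have h1 := card_PSL2_of_odd hodd
    have h3 : Nat.card S = Nat.card (ProjectiveSpecialLinearGroup (Fin 2) F) := by
      rw [h, Subgroup.card_top]
    rw [Nat.card_congr eS.toEquiv, card_PGL2] at h3
    have hk2 : 2 ≤ Fintype.card K := Fintype.one_lt_card
    rw [← h3, ← hK] at h1
    set k := Fintype.card K with hk
    have h4 : 4 ≤ k ^ 2 := by nlinarith
    have h5 : (k ^ 2) ^ 2 - 1 = (k ^ 2 - 1) * (k ^ 2 + 1) := by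
      have := sq_sub_one_eq (k ^ 2) (by omega)
      rw [this]
    rw [h5] at h1
    have h6 : 0 < k ^ 2 - 1 := by omega
    have h7 : 2 * k = k ^ 2 * (k ^ 2 + 1) := by
      have : (k ^ 2 - 1) * (2 * k) = (k ^ 2 - 1) * (k ^ 2 * (k ^ 2 + 1)) := by
        calc (k ^ 2 - 1) * (2 * k) = 2 * (k * (k ^ 2 - 1)) := by ring
          _ = k ^ 2 * ((k ^ 2 - 1) * (k ^ 2 + 1)) := h1
          _ = _ := by ring
      exact Nat.eq_of_mul_eq_mul_left h6 this
    nlinarith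

end Cfsg.Agent.Lib.Helper15.Mx
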