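import Mathlib
import Cfsg.Agent.Lib.Helper15.Mx10

/-!
# Maximal subgroups of `PSL₂(q)`, `q` odd, part 11: maximal subgroups isomorphic to `A₄`, `S₄`, `A₅`
-/

set_option autoImplicit false

namespace Cfsg.Agent.Lib.Helper15.Mx

open Matrix
open Cfsg.Agent.Lib.Helper14
open Cfsg.Agent.Lib.Helper15
open Cfsg.Agent.Lib.Helper15.Dk

variable {F : Type*} [Field F]

theorem tau33 (h2 : (2 : F) ≠ 0) : tauF F 3 + tauF F 3 ≠ 4 := by
  simp only [tauF]
  norm_num
  intro h
  apply h2
  linear_combination -h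

theorem tau34 : tauF F 3 + tauF F 4 ≠ 4 := by
  simp only [tauF]
  norm_num
  intro h
  have : (1 : F) = 0 := by linear_combination -h
  exact one_ne_zero this

variable [Fintype F]

/-- transporting a pair from a subgroup of `PSL₂(K)` to a copy of `PSL₂(K)` -/
theorem has2_of_sub {Y X : Type*} [Group Y] [Group X] {m n : ℕ} (hX : Has2 X m n) (H : Subgroup Y)
    (eH : H ≃* X) {G : Type*} [Group G] (S : Subgroup G) (eS : S ≃* Y) : Has2 S m n :=
  (hX.map (H.subtype.comp eH.symm.toMonoidHom) (H.subtype_injective.comp eH.symm.injective)).of_iso eS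

theorem card_ge_60 (hodd : Odd (Fintype.card F)) (h5 : 5 ≤ Fintype.card F) :
    60 ≤ Nat.card (ProjectiveSpecialLinearGroup (Fin 2) F) := by
  have hG := card_PSL2_of_odd hodd
  have h1 : 24 ≤ Fintype.card F ^ 2 - 1 := by
    have : 25 ≤ Fintype.card F ^ 2 := by nlinarith
    omega
  have : 5 * 24 ≤ Fintype.card F * (Fintype.card F ^ 2 - 1) := Nat.mul_le_mul h5 h1
  omega

theorem card_ge_168 (hodd : Odd (Fintype.card F)) (h7 : 7 ≤ Fintype.card F) :
    168 ≤ Nat.card (ProjectiveSpecialLinearGroup (Fin 2) F) := by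
  have hG := card_PSL2_of_odd hodd
  have h1 : 48 ≤ Fintype.card F ^ 2 - 1 := by
    have : 49 ≤ Fintype.card F ^ 2 := by nlinarith
    omega
  have : 7 * 48 ≤ Fintype.card F * (Fintype.card F ^ 2 - 1) := Nat.mul_le_mul h7 h1
  omega

/-- maximal subgroups isomorphic to `A₄` -/
theorem a4_case (p : ℕ) [Fact p.Prime] [CharP F p] (hodd : Odd (Fintype.card F)) (h5 : 5 ≤ Fintype.card F)
    (M : Subgroup (ProjectiveSpecialLinearGroup (Fin 2) F)) (hM : IsCoatom M)
    (e : M ≃* alternatingGroup (Fin 4)) :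
    (Fintype.card F = p ∧ (p % 8 = 3 ∨ p % 8 = 5) ∧ ¬ (p % 10 = 1 ∨ p % 10 = 9)) ∨
    (∃ (F₀ : Type) (_ : Field F₀) (_ : Fintype F₀) (r : ℕ), r.Prime ∧ Odd r ∧
      Fintype.card F = Fintype.card F₀ ^ r ∧ Nonempty (M ≃* ProjectiveSpecialLinearGroup (Fin 2) F₀)) := by
  have hpr : p.Prime := Fact.out
  have h2 := two_ne_zero_of_odd hodd
  have hcM : Nat.card M = 12 := by rw [Nat.card_congr e.toEquiv, card_A4]
  have hqodd : Fintype.card F % 2 = 1 := Nat.odd_iff.1 hodd
  have h60 := card_ge_60 hodd h5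
  -- (i) no `S₄`
  have h16 : ¬ Fintype.card F ^ 2 % 16 = 1 := by
    intro h
    obtain ⟨S, ⟨eS⟩⟩ := (Cfsg.Agent.S0803.result (F := F) rfl).2 h
    have hcS : Nat.card S = 24 := by rw [Nat.card_congr eS.toEquiv, card_S4]
    exact excl_gen h2 M hM e gen_A4 S (has_S4_33.of_iso eS) (by omega) (by omega) (tau33 h2)
      (by rw [hcS, hcM]; norm_num) (by rw [hcS]; omega)
  -- (ii) no `A₅`
  have h5' : Fintype.card F ≠ 5 → ¬ 5 ∣ Fintype.card F * (Fintype.card F ^ 2 - 1) := by
    intro hq5 h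
    obtain ⟨S, ⟨eS⟩⟩ := (Cfsg.Agent.S0804.result (F := F) rfl).2 h
    have hcS : Nat.card S = 60 := by rw [Nat.card_congr eS.toEquiv, card_A5]
    have h168 := card_ge_168 hodd (by omega)
    exact excl_gen h2 M hM e gen_A4 S (has_A5_33.of_iso eS) (by omega) (by omega) (tau33 h2)
      (by rw [hcS, hcM]; norm_num) (by rw [hcS]; omega)
  obtain ⟨n, -, hn⟩ := FiniteField.card F p
  have hq8 : Fintype.card F % 8 = 3 ∨ Fintype.card F % 8 = 5 := by
    rw [sq_mod16 _ hqodd] at h16
    omega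
  have hpodd : p % 2 = 1 := by
    rw [hn] at hodd
    exact Nat.odd_iff.1 ((Nat.odd_pow_iff n.ne_zero).1 hodd)
  by_cases hf1 : (n : ℕ) = 1
  · left
    rw [hf1, pow_one] at hn
    refine ⟨hn, by rw [← hn]; exact hq8, ?_⟩
    intro h10
    rw [← hn] at h10
    have hq5 : Fintype.card F ≠ 5 := by omega
    exact h5' hq5 (five_dvd_of_mod _ (by omega))
  · right
    have hfodd : (n : ℕ) % 2 = 1 := by
      by_contra hev
      have : (n : ℕ) = 2 * ((n : ℕ) / 2) := by omega
      rw [this] at hn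
      have := pow_even_mod8 p hpodd ((n : ℕ) / 2)
      rw [← hn] at this
      omega
    have hr : ((n : ℕ).minFac).Prime := Nat.minFac_prime hf1
    obtain ⟨s, hs⟩ := Nat.minFac_dvd (n : ℕ)
    set r := (n : ℕ).minFac with hrdef
    have hrodd : Odd r := by
      apply hr.odd_of_ne_two
      intro h2r
      rw [h2r] at hs
      omega
    have hs0 : s ≠ 0 := by
      rintro rfl
      rw [mul_zero] at hs
      exact n.ne_zero hs
    obtain ⟨K, i1, i2, hcK, hcharK⟩ := exists_field_card p s hs0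
    have hKF : Fintype.card K ^ r = Fintype.card F := by
      rw [hcK, hn, ← pow_mul, hs, mul_comm]
    refine ⟨K, i1, i2, r, hr, hrodd, hKF.symm, ?_⟩
    apply sub_overgroup_PSL hodd M hM r hr.two_le hKF
    rintro S ⟨eS⟩
    have hKodd : Odd (Fintype.card K) := by
      rw [← hKF] at hodd
      exact (Nat.odd_pow_iff hr.ne_zero).1 hodd
    obtain ⟨H, ⟨eH⟩⟩ := exists_A4_odd (F := K) (two_ne_zero_of_odd hKodd)
    exact exists_le_map_of_gen h2 M S e gen_A4 (has2_of_sub gen_A4.has2 H eH S eS) (by omega) (by omega)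
      (tau33 h2)

/-- maximal subgroups isomorphic to `S₄` -/
theorem s4_case (p : ℕ) [Fact p.Prime] [CharP F p] (hodd : Odd (Fintype.card F))
    (M : Subgroup (ProjectiveSpecialLinearGroup (Fin 2) F)) (hM : IsCoatom M)
    (e : M ≃* Equiv.Perm (Fin 4)) :
    (Fintype.card F = p ∧ (p % 8 = 1 ∨ p % 8 = 7)) ∨
    (∃ (F₀ : Type) (_ : Field F₀) (_ : Fintype F₀), Fintype.card F = Fintype.card F₀ ^ 2 ∧
      Nonempty (M ≃* ProjGenLinGroup (Fin 2) F₀)) ∨
    (∃ (F₀ : Type) (_ : Field F₀) (_ : Fintype F₀) (r : ℕ), r.Prime ∧ Odd r ∧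
      Fintype.card F = Fintype.card F₀ ^ r ∧ Nonempty (M ≃* ProjectiveSpecialLinearGroup (Fin 2) F₀)) := by
  have hpr : p.Prime := Fact.out
  have h2 := two_ne_zero_of_odd hodd
  have hqodd : Fintype.card F % 2 = 1 := Nat.odd_iff.1 hodd
  have h16 : Fintype.card F ^ 2 % 16 = 1 := (Cfsg.Agent.S0803.result (F := F) rfl).1 ⟨M, ⟨e⟩⟩
  have hq8 := (sq_mod16 _ hqodd).1 h16
  obtain ⟨n, -, hn⟩ := FiniteField.card F p
  have hpodd : p % 2 = 1 := by
    rw [hn] at hodd
    exact Nat.odd_iff.1 ((Nat.odd_pow_iff n.ne_zero).1 hodd)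
  by_cases hf1 : (n : ℕ) = 1
  · left
    rw [hf1, pow_one] at hn
    exact ⟨hn, by rw [← hn]; exact hq8⟩
  · right
    by_cases hfev : (n : ℕ) % 2 = 0
    · left
      obtain ⟨s, hs⟩ : ∃ s, (n : ℕ) = 2 * s := ⟨(n : ℕ) / 2, by omega⟩
      have hs0 : s ≠ 0 := by
        rintro rfl
        exact n.ne_zero hs
      obtain ⟨K, i1, i2, hcK, hcharK⟩ := exists_field_card p s hs0
      have hKF : Fintype.card K ^ 2 = Fintype.card F := by
        rw [hcK, hn, ← pow_mul, hs, mul_comm]
      refine ⟨K, i1, i2, hKF.symm, ?_⟩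
      apply sub_overgroup_PGL hodd M hM hKF
      rintro S ⟨eS⟩
      have hKodd : Odd (Fintype.card K) := by
        rw [← hKF] at hodd
        exact (Nat.odd_pow_iff (by norm_num)).1 hodd
      exact exists_le_map_of_gen h2 M S e gen_S4 ((has_PGL2_34 hKodd).of_iso eS) (by omega) (by omega) tau34
    · right
      have hr : ((n : ℕ).minFac).Prime := Nat.minFac_prime hf1
      obtain ⟨s, hs⟩ := Nat.minFac_dvd (n : ℕ)
      set r := (n : ℕ).minFac with hrdef
      have hr2 : r ≠ 2 := by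
        intro h2r
        rw [h2r] at hs
        omega
      have hrodd : Odd r := hr.odd_of_ne_two hr2
      have hs0 : s ≠ 0 := by
        rintro rfl
        rw [mul_zero] at hs
        exact n.ne_zero hs
      have hsodd : s % 2 = 1 := by
        by_contra hse
        have : s = 2 * (s / 2) := by omega
        rw [this] at hs
        have : (n : ℕ) = 2 * (r * (s / 2)) := by rw [hs]; ring
        omega
      obtain ⟨K, i1, i2, hcK, hcharK⟩ := exists_field_card p s hs0
      have hKF : Fintype.card K ^ r = Fintype.card F := by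
        rw [hcK, hn, ← pow_mul, hs, mul_comm]
      refine ⟨K, i1, i2, r, hr, hrodd, hKF.symm, ?_⟩
      apply sub_overgroup_PSL hodd M hM r hr.two_le hKF
      rintro S ⟨eS⟩
      have hK8 : Fintype.card K % 8 = 1 ∨ Fintype.card K % 8 = 7 := by
        have h1 : Fintype.card K % 8 = p % 8 := by
          rw [hcK]
          have : s = 2 * (s / 2) + 1 := by omega
          rw [this]
          exact pow_odd_mod8 p hpodd _
        have h3 : Fintype.card F % 8 = p % 8 := by
          rw [hn]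
          have : (n : ℕ) = 2 * ((n : ℕ) / 2) + 1 := by omega
          rw [this]
          exact pow_odd_mod8 p hpodd _
        omega
      have hKodd : Fintype.card K % 2 = 1 := by omega
      obtain ⟨H, ⟨eH⟩⟩ := (Cfsg.Agent.S0803.result (F := K) rfl).2 ((sq_mod16 _ hKodd).2 hK8)
      exact exists_le_map_of_gen h2 M S e gen_S4 (has2_of_sub gen_S4.has2 H eH S eS) (by omega) (by omega)
        tau34

end Cfsg.Agent.Lib.Helper15.Mx
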