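import Mathlib
import Cfsg.Agent.Lib.Helper15.Mx11

/-!
# Maximal subgroups of `PSL₂(q)`, `q` odd, part 12: maximal subgroups isomorphic to `A₅`
-/

set_option autoImplicit false

namespace Cfsg.Agent.Lib.Helper15.Mx

open Matrix
open Cfsg.Agent.Lib.Helper14
open Cfsg.Agent.Lib.Helper15
open Cfsg.Agent.Lib.Helper15.Dk

variable {F : Type*} [Field F] [Fintype F]

/-- the subfield step for `A₅` -/
theorem a5_sub (p : ℕ) [Fact p.Prime] (hodd : Odd (Fintype.card F))
    (M : Subgroup (ProjectiveSpecialLinearGroup (Fin 2) F)) (hM : IsCoatom M)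
    (e : M ≃* alternatingGroup (Fin 5)) (n r s : ℕ) (hn : Fintype.card F = p ^ n) (hr : r.Prime)
    (hrs : n = r * s) (hs0 : s ≠ 0) (hD : 5 ∣ p ^ s * ((p ^ s) ^ 2 - 1)) :
    (∃ (F₀ : Type) (_ : Field F₀) (_ : Fintype F₀), Fintype.card F = Fintype.card F₀ ^ 2 ∧
      Nonempty (M ≃* ProjGenLinGroup (Fin 2) F₀)) ∨
    (∃ (F₀ : Type) (_ : Field F₀) (_ : Fintype F₀) (r : ℕ), r.Prime ∧ Odd r ∧
      Fintype.card F = Fintype.card F₀ ^ r ∧ Nonempty (M ≃* ProjectiveSpecialLinearGroup (Fin 2) F₀)) := by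
  have h2 := two_ne_zero_of_odd hodd
  obtain ⟨K, i1, i2, hcK, hcharK⟩ := exists_field_card p s hs0
  have hKF : Fintype.card K ^ r = Fintype.card F := by
    rw [hcK, hn, ← pow_mul, hrs, mul_comm]
  obtain ⟨H, ⟨eH⟩⟩ := (Cfsg.Agent.S0804.result (F := K) rfl).2 (by rw [hcK]; exact hD)
  by_cases hr2 : r = 2
  · left
    subst hr2
    refine ⟨K, i1, i2, hKF.symm, ?_⟩
    apply sub_overgroup_PGL hodd M hM hKF
    rintro S ⟨eS⟩
    exact exists_le_map_A5 h2 M S e
      (eS.symm.toMonoidHom.comp ((ProjectiveSpecialLinearGroup.toPGL (n := Fin 2) (R := K)).comp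
        (H.subtype.comp eH.symm.toMonoidHom)))
      (eS.symm.injective.comp (ProjectiveSpecialLinearGroup.toPGL_injective.comp
        (H.subtype_injective.comp eH.symm.injective)))
  · right
    refine ⟨K, i1, i2, r, hr, hr.odd_of_ne_two hr2, hKF.symm, ?_⟩
    apply sub_overgroup_PSL hodd M hM r hr.two_le hKF
    rintro S ⟨eS⟩
    exact exists_le_map_A5 h2 M S e
      (eS.symm.toMonoidHom.comp (H.subtype.comp eH.symm.toMonoidHom))
      (eS.symm.injective.comp (H.subtype_injective.comp eH.symm.injective))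

/-- maximal subgroups isomorphic to `A₅` -/
theorem a5_case (p : ℕ) [Fact p.Prime] [CharP F p] (hodd : Odd (Fintype.card F))
    (M : Subgroup (ProjectiveSpecialLinearGroup (Fin 2) F)) (hM : IsCoatom M)
    (e : M ≃* alternatingGroup (Fin 5)) :
    ((Fintype.card F % 10 = 1 ∨ Fintype.card F % 10 = 9) ∧
      (Fintype.card F = p ∨ (Fintype.card F = p ^ 2 ∧ (p % 10 = 3 ∨ p % 10 = 7)))) ∨
    (∃ (F₀ : Type) (_ : Field F₀) (_ : Fintype F₀), Fintype.card F = Fintype.card F₀ ^ 2 ∧
      Nonempty (M ≃* ProjGenLinGroup (Fin 2) F₀)) ∨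
    (∃ (F₀ : Type) (_ : Field F₀) (_ : Fintype F₀) (r : ℕ), r.Prime ∧ Odd r ∧
      Fintype.card F = Fintype.card F₀ ^ r ∧ Nonempty (M ≃* ProjectiveSpecialLinearGroup (Fin 2) F₀)) := by
  have hpr : p.Prime := Fact.out
  have hqodd : Fintype.card F % 2 = 1 := Nat.odd_iff.1 hodd
  have h5d : 5 ∣ Fintype.card F * (Fintype.card F ^ 2 - 1) :=
    (Cfsg.Agent.S0804.result (F := F) rfl).1 ⟨M, ⟨e⟩⟩
  obtain ⟨n, -, hn⟩ := FiniteField.card F p
  have hpodd : p % 2 = 1 := by
    rw [hn] at hodd
    exact Nat.odd_iff.1 ((Nat.odd_pow_iff n.ne_zero).1 hodd)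
  have hcM : Nat.card M = 60 := by rw [Nat.card_congr e.toEquiv, card_A5]
  -- when `p ≠ 5`, `q ≡ ±1 mod 10`
  have hq10 : p ≠ 5 → (Fintype.card F % 10 = 1 ∨ Fintype.card F % 10 = 9) := by
    intro hp5
    have h5q : ¬ 5 ∣ Fintype.card F := by
      intro h
      rw [hn] at h
      have := (Nat.Prime.dvd_of_dvd_pow (by norm_num : Nat.Prime 5) h)
      exact hp5 ((Nat.prime_dvd_prime_iff_eq (by norm_num) hpr).1 this).symm
    have := mod_of_five_dvd _ h5q h5d
    omega
  have hp5cases : p = 5 ∨ (p % 5 = 1 ∨ p % 5 = 4) ∨ (p % 5 = 2 ∨ p % 5 = 3) := by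
    by_cases hp5 : p = 5
    · exact Or.inl hp5
    · right
      have : p % 5 ≠ 0 := by
        intro h
        have : 5 ∣ p := Nat.dvd_of_mod_eq_zero h
        exact hp5 ((Nat.prime_dvd_prime_iff_eq (by norm_num) hpr).1 this).symm
      omega
  by_cases hf1 : (n : ℕ) = 1
  · rw [hf1, pow_one] at hn
    rcases hp5cases with hp5 | hp5
    · -- `q = 5`: the whole group has order `60`
      exfalso
      apply hM.1
      apply Subgroup.eq_top_of_card_eq
      have hG := card_PSL2_of_odd hodd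
      rw [hn, hp5] at hG
      norm_num at hG
      rw [hcM]
      omega
    · left
      have hp5' : p ≠ 5 := by
        rintro rfl
        omega
      exact ⟨hq10 hp5', Or.inl hn⟩
  · -- `f ≥ 2`
    have hr : ((n : ℕ).minFac).Prime := Nat.minFac_prime hf1
    obtain ⟨s, hs⟩ := Nat.minFac_dvd (n : ℕ)
    have hs0 : s ≠ 0 := by
      rintro rfl
      rw [mul_zero] at hs
      exact n.ne_zero hs
    rcases hp5cases with hp5 | hp5 | hp5
    · right
      apply a5_sub p hodd M hM e n _ s hn hr hs hs0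
      apply Dvd.dvd.mul_right
      rw [hp5]
      exact dvd_pow_self 5 hs0
    · right
      apply a5_sub p hodd M hM e n _ s hn hr hs hs0
      exact five_dvd_of_mod _ (pow_mod5_of_one_or_four p hp5 s)
    · -- `p ≡ ±2 mod 5`: the exponent is even
      have hp5' : p ≠ 5 := by
        rintro rfl
        omega
      have hq := hq10 hp5'
      have hfev : (n : ℕ) % 2 = 0 := by
        by_contra hodd'
        have : (n : ℕ) = 2 * ((n : ℕ) / 2) + 1 := by omega
        rw [this] at hn
        have := pow_mod5_odd p hp5 ((n : ℕ) / 2)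
        rw [← hn] at this
        omega
      obtain ⟨g, hg⟩ : ∃ g, (n : ℕ) = 2 * g := ⟨(n : ℕ) / 2, by omega⟩
      by_cases hg1 : g = 1
      · left
        rw [hg1] at hg
        rw [hg] at hn
        exact ⟨hq, Or.inr ⟨hn, by omega⟩⟩
      · right
        have hg0 : g ≠ 0 := by
          rintro rfl
          exact n.ne_zero hg
        by_cases hgev : g % 2 = 0
        · apply a5_sub p hodd M hM e n 2 g hn Nat.prime_two hg hg0
          have : g = 2 * (g / 2) := by omega
          rw [this]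
          exact five_dvd_of_mod _ (pow_mod5_even p hp5 _)
        · have hr' : (g.minFac).Prime := Nat.minFac_prime hg1
          obtain ⟨t, ht⟩ := Nat.minFac_dvd g
          have ht0 : t ≠ 0 := by
            rintro rfl
            rw [mul_zero] at ht
            exact hg0 ht
          have hnt : (n : ℕ) = g.minFac * (2 * t) :=
            calc (n : ℕ) = 2 * g := hg
              _ = 2 * (g.minFac * t) := congrArg (2 * ·) ht
              _ = g.minFac * (2 * t) := by ring
          apply a5_sub p hodd M hM e n g.minFac (2 * t) hn hr' hnt (by omega)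
          exact five_dvd_of_mod _ (pow_mod5_even p hp5 _)

end Cfsg.Agent.Lib.Helper15.Mx
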