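import Mathlib
import Cfsg.Agent.Lib.Helper15.Mx12

/-!
# Maximal subgroups of `PSL₂(q)`, `q` odd, part 13: the subfield configuration, preliminaries
-/

set_option autoImplicit false

namespace Cfsg.Agent.Lib.Helper15.Mx

open Matrix
open Cfsg.Agent.Lib.Helper14
open Cfsg.Agent.Lib.Helper15
open Cfsg.Agent.Lib.Helper15.Dk

variable {F : Type*} [Field F]

/-- `SE` is closed under negation -/
theorem neg_mem_SE (E : Subfield F) (b₁ : F) (hb : b₁ ≠ 0) (g : SpecialLinearGroup (Fin 2) F)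
    (hg : g ∈ SE E b₁ hb) : -g ∈ SE E b₁ hb := by
  obtain ⟨g00, g01, g10, g11⟩ := hg
  rw [mem_SE, Matrix.SpecialLinearGroup.coe_neg]
  refine ⟨?_, ?_, ?_, ?_⟩
  · simpa using E.neg_mem g00
  · have : (-(g : Matrix (Fin 2) (Fin 2) F)) 0 1 / b₁ = -((g : Matrix (Fin 2) (Fin 2) F) 0 1 / b₁) := by
      simp [neg_div]
    rw [this]
    exact E.neg_mem g01
  · have : (-(g : Matrix (Fin 2) (Fin 2) F)) 1 0 * b₁ = -((g : Matrix (Fin 2) (Fin 2) F) 1 0 * b₁) := by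
      simp
    rw [this]
    exact E.neg_mem g10
  · simpa using E.neg_mem g11

/-- membership in the image of `SE` -/
theorem mem_map_SE_iff (h2 : (2 : F) ≠ 0) (E : Subfield F) (b₁ : F) (hb : b₁ ≠ 0)
    (g : SpecialLinearGroup (Fin 2) F) :
    toPSL2 F g ∈ (SE E b₁ hb).map (toPSL2 F) ↔ g ∈ SE E b₁ hb := by
  constructor
  · rintro ⟨g', hg', e⟩
    rcases (toPSL2_eq_iff h2 g' g).1 e with rfl | rfl
    · exact hg'
    · exact neg_mem_SE E b₁ hb g' hg'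
  · intro hg
    exact ⟨g, hg, rfl⟩

theorem uu_mem_SE_iff (E : Subfield F) (b₁ : F) (hb : b₁ ≠ 0) (x : F) :
    uu (x * b₁) ∈ SE E b₁ hb ↔ x ∈ E := by
  rw [mem_SE]
  constructor
  · rintro ⟨-, h01, -, -⟩
    simpa [uu, hb] using h01
  · intro hx
    refine ⟨?_, ?_, ?_, ?_⟩ <;> simp [uu, E.one_mem, E.zero_mem, hb, hx]

/-- conjugation by a diagonal matrix whose square lies in `E` preserves `SE` -/
theorem dg_conj_mem_SE (E : Subfield F) (b₁ : F) (hb : b₁ ≠ 0) (μ : F) (hμ : μ ≠ 0) (hμ2 : μ ^ 2 ∈ E)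
    (g : SpecialLinearGroup (Fin 2) F) (hg : g ∈ SE E b₁ hb) :
    dg μ hμ * g * (dg μ hμ)⁻¹ ∈ SE E b₁ hb := by
  obtain ⟨g00, g01, g10, g11⟩ := hg
  have hi2 : (μ ^ 2)⁻¹ ∈ E := E.inv_mem hμ2
  rw [dg_inv', mem_SE]
  have hprod : ((dg μ hμ * g * dg μ⁻¹ (inv_ne_zero hμ) : SpecialLinearGroup (Fin 2) F) :
      Matrix (Fin 2) (Fin 2) F) = !![(g : Matrix (Fin 2) (Fin 2) F) 0 0, μ ^ 2 * (g : Matrix (Fin 2) (Fin 2) F) 0 1;
        (μ ^ 2)⁻¹ * (g : Matrix (Fin 2) (Fin 2) F) 1 0, (g : Matrix (Fin 2) (Fin 2) F) 1 1] := by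
    rw [Matrix.SpecialLinearGroup.coe_mul, Matrix.SpecialLinearGroup.coe_mul]
    show !![μ, 0; 0, μ⁻¹] * (g : Matrix (Fin 2) (Fin 2) F) * !![μ⁻¹, 0; 0, μ⁻¹⁻¹] = _
    obtain ⟨a, b, c, d, hgm⟩ : ∃ a b c d : F, (g : Matrix (Fin 2) (Fin 2) F) = !![a, b; c, d] :=
      ⟨_, _, _, _, Matrix.eta_fin_two _⟩
    rw [hgm]
    simp only [Matrix.mul_fin_two]
    ext i j
    fin_cases i <;> fin_cases j <;> simp <;> field_simp
  have e00 := congrFun (congrFun hprod 0) 0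
  have e01 := congrFun (congrFun hprod 0) 1
  have e10 := congrFun (congrFun hprod 1) 0
  have e11 := congrFun (congrFun hprod 1) 1
  simp only [Matrix.of_apply, Matrix.cons_val', Matrix.cons_val_zero, Matrix.cons_val_one,
    Matrix.cons_val_fin_one] at e00 e01 e10 e11
  refine ⟨by rw [e00]; exact g00, ?_, ?_, by rw [e11]; exact g11⟩
  · rw [e01, mul_div_assoc]
    exact E.mul_mem hμ2 g01
  · rw [e10, mul_assoc]
    exact E.mul_mem hi2 g10

end Cfsg.Agent.Lib.Helper15.Mx
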