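import Mathlib
import Cfsg.Agent.Lib.Helper15.Mx13

/-!
# Maximal subgroups of `PSL₂(q)`, `q` odd, part 14: the subfield configuration, `PGL₂` criterion
-/

set_option autoImplicit false

namespace Cfsg.Agent.Lib.Helper15.Mx

open Matrix
open Cfsg.Agent.Lib.Helper14
open Cfsg.Agent.Lib.Helper15
open Cfsg.Agent.Lib.Helper15.Dk

section main
variable {F : Type*} [Field F] {K : Type*} [Field K] [Finite F]

/-- the lower bound, with the witness in `SE K₀` -/
theorem lower_psi' {Ht : Subgroup (SpecialLinearGroup (Fin 2) F)} {b₁ : F} {w : SpecialLinearGroup (Fin 2) F}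
    (c : Cfg Ht b₁ w) (f : K →+* F) (hf : ∀ x : F, x ∈ multField Ht ↔ ∃ k : K, f k = x)
    (s : SpecialLinearGroup (Fin 2) K) :
    ∃ g ∈ SE (multField Ht) b₁ c.hb₁, psi b₁ c.hb₁ f (ProjGenLinGroup.mk (SpecialLinearGroup.toGL s)) =
      ProjGenLinGroup.mk (SpecialLinearGroup.toGL g) := by
  have hb := c.hb₁
  have hdets := det_eq s
  let g : SpecialLinearGroup (Fin 2) F :=
    ⟨!![f ((s : Matrix (Fin 2) (Fin 2) K) 0 0), f ((s : Matrix (Fin 2) (Fin 2) K) 0 1) * b₁;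
        f ((s : Matrix (Fin 2) (Fin 2) K) 1 0) / b₁, f ((s : Matrix (Fin 2) (Fin 2) K) 1 1)], by
      rw [Matrix.det_fin_two_of]
      have : f ((s : Matrix (Fin 2) (Fin 2) K) 0 0) * f ((s : Matrix (Fin 2) (Fin 2) K) 1 1) -
          f ((s : Matrix (Fin 2) (Fin 2) K) 0 1) * f ((s : Matrix (Fin 2) (Fin 2) K) 1 0) = 1 := by
        rw [← map_mul, ← map_mul, ← map_sub, hdets, map_one]
      rw [← this]
      field_simp⟩
  have g00 : (g : Matrix (Fin 2) (Fin 2) F) 0 0 = f ((s : Matrix (Fin 2) (Fin 2) K) 0 0) := rfl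
  have g01 : (g : Matrix (Fin 2) (Fin 2) F) 0 1 = f ((s : Matrix (Fin 2) (Fin 2) K) 0 1) * b₁ := rfl
  have g10 : (g : Matrix (Fin 2) (Fin 2) F) 1 0 = f ((s : Matrix (Fin 2) (Fin 2) K) 1 0) / b₁ := rfl
  have g11 : (g : Matrix (Fin 2) (Fin 2) F) 1 1 = f ((s : Matrix (Fin 2) (Fin 2) K) 1 1) := rfl
  have hgm : g ∈ SE (multField Ht) b₁ hb := by
    rw [mem_SE]
    refine ⟨?_, ?_, ?_, ?_⟩
    · rw [g00]; exact (hf _).2 ⟨_, rfl⟩
    · rw [g01, mul_div_assoc, div_self hb, mul_one]; exact (hf _).2 ⟨_, rfl⟩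
    · rw [g10, div_mul_cancel₀ _ hb]; exact (hf _).2 ⟨_, rfl⟩
    · rw [g11]; exact (hf _).2 ⟨_, rfl⟩
  refine ⟨g, hgm, ?_⟩
  apply mem_range_psi b₁ hb f _ _ 1
  apply gl_eq_of_entries
  · rw [g00]; simp
  · rw [g01]; simp
  · rw [g10]; simp [hb]
  · rw [g11]; simp

/-- if some element of the preimage is not in `SE K₀`, the group is `PGL₂(K)` -/
theorem pgl_of_not_SE [Finite K] (h2 : (2 : F) ≠ 0)
    (H : Subgroup (ProjectiveSpecialLinearGroup (Fin 2) F)) (b₁ : F)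
    (w : SpecialLinearGroup (Fin 2) F) (c : Cfg (H.comap (toPSL2 F)) b₁ w) (f : K →+* F)
    (hf : ∀ x : F, x ∈ multField (H.comap (toPSL2 F)) ↔ ∃ k : K, f k = x)
    (g₀ : SpecialLinearGroup (Fin 2) F) (hg₀ : g₀ ∈ H.comap (toPSL2 F))
    (hn : g₀ ∉ SE (multField (H.comap (toPSL2 F))) b₁ c.hb₁) :
    Nonempty (H ≃* ProjGenLinGroup (Fin 2) K) := by
  have hup : H.map (ProjectiveSpecialLinearGroup.toPGL (n := Fin 2) (R := F)) ≤ (psi b₁ c.hb₁ f).range := by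
    rintro _ ⟨x, hx, rfl⟩
    obtain ⟨g, rfl⟩ := toPSL2_surjective x
    obtain ⟨g₁, hg₁⟩ := upper_psi c f hf g hx
    exact ⟨_, hg₁⟩
  have hlow : (ProjectiveSpecialLinearGroup.toPGL (n := Fin 2) (R := K)).range ≤
      (H.map (ProjectiveSpecialLinearGroup.toPGL (n := Fin 2) (R := F))).comap (psi b₁ c.hb₁ f) := by
    rintro _ ⟨x, rfl⟩
    obtain ⟨s, rfl⟩ := toPSL2_surjective x
    obtain ⟨g, hg, hgs⟩ := lower_psi c f hf s
    rw [Subgroup.mem_comap]
    change psi b₁ c.hb₁ f (ProjGenLinGroup.mk (SpecialLinearGroup.toGL s)) ∈ _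
    rw [hgs]
    exact ⟨toPSL2 F g, hg, rfl⟩
  set M' := (H.map (ProjectiveSpecialLinearGroup.toPGL (n := Fin 2) (R := F))).comap (psi b₁ c.hb₁ f) with hM'
  have e1 : H ≃* H.map (ProjectiveSpecialLinearGroup.toPGL (n := Fin 2) (R := F)) :=
    Subgroup.equivMapOfInjective H _ ProjectiveSpecialLinearGroup.toPGL_injective
  have e2 : M' ≃* H.map (ProjectiveSpecialLinearGroup.toPGL (n := Fin 2) (R := F)) := by
    have h1 : M'.map (psi b₁ c.hb₁ f) = H.map (ProjectiveSpecialLinearGroup.toPGL (n := Fin 2) (R := F)) := by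
      rw [hM', Subgroup.map_comap_eq, inf_eq_right.2 hup]
    exact (Subgroup.equivMapOfInjective M' _ (psi_injective b₁ c.hb₁ f)).trans (MulEquiv.subgroupCongr h1)
  obtain ⟨m₀, hm₀⟩ := upper_psi c f hf g₀ hg₀
  have hmM : ProjGenLinGroup.mk m₀ ∈ M' := by
    rw [hM', Subgroup.mem_comap, hm₀]
    exact ⟨toPSL2 F g₀, hg₀, rfl⟩
  have hmS : ProjGenLinGroup.mk m₀ ∉ (ProjectiveSpecialLinearGroup.toPGL (n := Fin 2) (R := K)).range := by
    rintro ⟨x, hx⟩
    obtain ⟨s, rfl⟩ := toPSL2_surjective x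
    obtain ⟨g, hg, hgs⟩ := lower_psi' c f hf s
    have h1 : ProjectiveSpecialLinearGroup.toPGL (n := Fin 2) (R := K) (toPSL2 K s) =
        ProjGenLinGroup.mk (SpecialLinearGroup.toGL s) := rfl
    rw [h1] at hx
    rw [← hx, hgs] at hm₀
    have h3 : ProjectiveSpecialLinearGroup.toPGL (n := Fin 2) (R := F) (toPSL2 F g) =
        ProjectiveSpecialLinearGroup.toPGL (n := Fin 2) (R := F) (toPSL2 F g₀) := hm₀
    have h4 := ProjectiveSpecialLinearGroup.toPGL_injective h3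
    rcases (toPSL2_eq_iff h2 g g₀).1 h4 with h5 | h5
    · rw [h5] at hn; exact hn hg
    · rw [h5] at hn; exact hn (neg_mem_SE _ _ _ _ hg)
  have h3 : M' = ⊤ := by
    rw [eq_top_iff]
    intro x _
    by_cases hx : x ∈ (ProjectiveSpecialLinearGroup.toPGL (n := Fin 2) (R := K)).range
    · exact hlow hx
    · have := hlow (pgl_index_two (ProjGenLinGroup.mk m₀) x hmS hx)
      have e : x = ProjGenLinGroup.mk m₀ * ((ProjGenLinGroup.mk m₀)⁻¹ * x) := by group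
      rw [e]
      exact M'.mul_mem hmM this
  exact ⟨e1.trans (e2.symm.trans ((MulEquiv.subgroupCongr h3).trans Subgroup.topEquiv))⟩

end main

end Cfsg.Agent.Lib.Helper15.Mx
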