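import Mathlib
import Cfsg.Agent.Lib.Helper15.Mx14

/-!
# Maximal subgroups of `PSL₂(q)`, `q` odd, part 15: the subfield configuration, maximality
-/

set_option autoImplicit false

namespace Cfsg.Agent.Lib.Helper15.Mx

open Matrix
open Cfsg.Agent.Lib.Helper14
open Cfsg.Agent.Lib.Helper15
open Cfsg.Agent.Lib.Helper15.Dk

section gen
variable {F : Type*} [Field F]

theorem SE_mono {E E' : Subfield F} (h : E ≤ E') (b₁ : F) (hb : b₁ ≠ 0) : SE E b₁ hb ≤ SE E' b₁ hb := by
  rintro g ⟨g00, g01, g10, g11⟩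
  exact ⟨h g00, h g01, h g10, h g11⟩

end gen

variable {F : Type*} [Field F] [Fintype F]

/-- elements of a subfield are fixed by the power map of its cardinality -/
theorem pow_card_subfield (K₀ : Subfield F) (x : F) (hx : x ∈ K₀) : x ^ Nat.card K₀ = x := by
  classical
  let _ : Fintype K₀ := Fintype.ofFinite _
  have h1 : (⟨x, hx⟩ : K₀) ^ Fintype.card K₀ = ⟨x, hx⟩ := FiniteField.pow_card _
  have h2 := congrArg (fun z : K₀ => (z : F)) h1
  simp only [SubmonoidClass.coe_pow] at h2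
  rw [Nat.card_eq_fintype_card]
  exact h2

/-- the fixed field of the `a`-th power of the Frobenius of `K₀` -/
theorem exists_subfield_pow (K₀ : Subfield F) (a : ℕ) :
    ∃ E : Subfield F, ∀ x : F, x ∈ E ↔ x ^ (Nat.card K₀ ^ a) = x := by
  classical
  obtain ⟨p, hp⟩ := CharP.exists F
  have hpr : Fact p.Prime := ⟨CharP.char_is_prime F p⟩
  let _ : Fintype K₀ := Fintype.ofFinite _
  obtain ⟨e, -, he⟩ := FiniteField.card K₀ p
  have hke : Nat.card K₀ = p ^ (e : ℕ) := by rw [Nat.card_eq_fintype_card, he]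
  let φ : F →+* F := iterateFrobenius F p (e * a)
  have hφ : ∀ x : F, φ x = x ^ (Nat.card K₀ ^ a) := by
    intro x
    show iterateFrobenius F p (e * a) x = _
    rw [iterateFrobenius_def, hke, ← pow_mul]
  refine ⟨RingHom.eqLocusField φ (RingHom.id F), ?_⟩
  intro x
  show φ x = RingHom.id F x ↔ _
  rw [hφ, RingHom.id_apply]

/-- if every element of `F` is fixed by `x ↦ x ^ n`, then `|F| ≤ n` -/
theorem card_le_of_forall_pow_eq (n : ℕ) (hn : 2 ≤ n) (h : ∀ x : F, x ^ n = x) : Fintype.card F ≤ n := by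
  classical
  obtain ⟨ζ, hζ⟩ := IsCyclic.exists_generator (α := Fˣ)
  have hord : orderOf ζ = Fintype.card F - 1 := by
    rw [orderOf_eq_card_of_forall_mem_zpowers hζ, Nat.card_eq_fintype_card, Fintype.card_units]
  have h1 : ζ ^ (n - 1) = 1 := by
    apply Units.ext
    rw [Units.val_pow_eq_pow_val, Units.val_one]
    have h1 : (ζ : F) ^ (n - 1) * ζ = 1 * ζ := by
      rw [← pow_succ, Nat.sub_add_cancel (by omega), one_mul, h]
    exact mul_right_cancel₀ ζ.ne_zero h1
  have h2 : Fintype.card F - 1 ∣ n - 1 := by rw [← hord]; exact orderOf_dvd_of_pow_eq_one h1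
  have hF1 : 1 < Fintype.card F := Fintype.one_lt_card
  have := Nat.le_of_dvd (by omega) h2
  omega

/-- a diagonal element with square in `K₀` but not in `K₀` cannot exist when `Ht = SE K₀` is the preimage
of a maximal subgroup -/
theorem no_outer_diag (h4 : 4 ≤ Fintype.card F)
    (M : Subgroup (ProjectiveSpecialLinearGroup (Fin 2) F)) (hM : IsCoatom M) (b₁ : F) (hb : b₁ ≠ 0)
    (E : Subfield F) (hu : uu b₁ ∈ M.comap (toPSL2 F))
    (hiff : ∀ g : SpecialLinearGroup (Fin 2) F, g ∈ M.comap (toPSL2 F) ↔ g ∈ SE E b₁ hb)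
    (μ : F) (hμ2 : μ ^ 2 ∈ E) (hμ : μ ∉ E) : False := by
  have hμ0 : μ ≠ 0 := by
    rintro rfl
    exact hμ E.zero_mem
  have hconj : ∀ (ν : F) (hν : ν ≠ 0), ν ^ 2 ∈ E → ∀ x ∈ M,
      toPSL2 F (dg ν hν) * x * (toPSL2 F (dg ν hν))⁻¹ ∈ M := by
    intro ν hν hν2 x hx
    obtain ⟨g, rfl⟩ := toPSL2_surjective x
    have hg : g ∈ M.comap (toPSL2 F) := hx
    have h1 := dg_conj_mem_SE E b₁ hb ν hν hν2 g ((hiff g).1 hg)
    have h3 : dg ν hν * g * (dg ν hν)⁻¹ ∈ M.comap (toPSL2 F) := (hiff _).2 h1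
    have h4' : toPSL2 F (dg ν hν * g * (dg ν hν)⁻¹) ∈ M := h3
    rw [map_mul, map_mul, map_inv] at h4'
    exact h4'
  have hinv2 : (μ⁻¹) ^ 2 ∈ E := by
    rw [inv_pow]
    exact E.inv_mem hμ2
  have hnorm : toPSL2 F (dg μ hμ0) ∈ Subgroup.normalizer (M : Set (ProjectiveSpecialLinearGroup (Fin 2) F)) := by
    rw [Subgroup.mem_normalizer_iff]
    intro x
    constructor
    · exact hconj μ hμ0 hμ2 x
    · intro hx
      have h1 := hconj μ⁻¹ (inv_ne_zero hμ0) hinv2 _ hx
      rw [← dg_inv' μ hμ0, map_inv, inv_inv] at h1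
      have e : (toPSL2 F (dg μ hμ0))⁻¹ * (toPSL2 F (dg μ hμ0) * x * (toPSL2 F (dg μ hμ0))⁻¹) *
          toPSL2 F (dg μ hμ0) = x := by group
      rw [e] at h1
      exact h1
  have hnot : toPSL2 F (dg μ hμ0) ∉ M := by
    intro hmem
    have h1 : dg μ hμ0 ∈ M.comap (toPSL2 F) := hmem
    have h3 := ((hiff _).1 h1).1
    rw [dg_00] at h3
    exact hμ h3
  have hlt : M < Subgroup.normalizer (M : Set (ProjectiveSpecialLinearGroup (Fin 2) F)) := by
    refine lt_of_le_of_ne Subgroup.le_normalizer ?_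
    intro h
    apply hnot
    rw [h]
    exact hnorm
  have htop := hM.2 _ hlt
  have hnormal : M.Normal := Subgroup.normalizer_eq_top_iff.1 htop
  have hsimple : IsSimpleGroup (ProjectiveSpecialLinearGroup (Fin 2) F) :=
    Matrix.ProjectiveSpecialLinearGroup.rank_two_simple (by rw [Nat.card_eq_fintype_card]; exact h4)
  rcases hnormal.eq_bot_or_eq_top with h | h
  · have h1 : toPSL2 F (uu b₁) ∈ M := hu
    rw [h, Subgroup.mem_bot, toPSL2_eq_one_iff'] at h1
    exact uu_not_scalar b₁ hb h1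
  · exact hM.1 h

/-- the subfield configuration for a maximal subgroup, `q` odd -/
theorem cfg_odd_maximal (hodd : Odd (Fintype.card F)) (h5 : 5 ≤ Fintype.card F)
    (M : Subgroup (ProjectiveSpecialLinearGroup (Fin 2) F)) (hM : IsCoatom M) (b₁ : F)
    (w : SpecialLinearGroup (Fin 2) F) (c : Cfg (M.comap (toPSL2 F)) b₁ w) :
    (∃ (F₀ : Type) (_ : Field F₀) (_ : Fintype F₀), Fintype.card F = Fintype.card F₀ ^ 2 ∧
      Nonempty (M ≃* ProjGenLinGroup (Fin 2) F₀)) ∨
    (∃ (F₀ : Type) (_ : Field F₀) (_ : Fintype F₀) (r : ℕ), r.Prime ∧ Odd r ∧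
      Fintype.card F = Fintype.card F₀ ^ r ∧ Nonempty (M ≃* ProjectiveSpecialLinearGroup (Fin 2) F₀)) := by
  have h2 := two_ne_zero_of_odd hodd
  set Ht := M.comap (toPSL2 F) with hHt
  set K₀ := multField Ht with hK₀
  have hb := c.hb₁
  obtain ⟨K, i1, i2, m, f, hm, hf⟩ := exists_type_field K₀
  have hlowSE : ∀ g, g ∈ SE K₀ b₁ hb → g ∈ Ht := by
    rintro g ⟨g00, g01, g10, g11⟩
    exact c.lower g _ _ _ _ g00 g01 g10 g11 rfl (div_mul_cancel₀ _ hb).symm
      (mul_div_cancel_right₀ _ hb).symm rfl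
  have hK₀top : K₀ ≠ ⊤ := by
    intro htop
    apply hM.1
    rw [eq_top_iff]
    intro x _
    obtain ⟨g, rfl⟩ := toPSL2_surjective x
    have : g ∈ Ht := by
      apply hlowSE
      rw [mem_SE, htop]
      exact ⟨Subfield.mem_top _, Subfield.mem_top _, Subfield.mem_top _, Subfield.mem_top _⟩
    exact this
  have hcardK : Nat.card K₀ = Fintype.card K := by
    rw [← Nat.card_eq_fintype_card]
    symm
    apply Nat.card_congr
    exact Equiv.ofBijective (fun k : K => (⟨f k, (hf _).2 ⟨k, rfl⟩⟩ : K₀))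
      ⟨fun a b hab => f.injective (congrArg Subtype.val hab),
       fun ⟨x, hx⟩ => by
        obtain ⟨k, hk⟩ := (hf x).1 hx
        exact ⟨k, Subtype.ext hk⟩⟩
  have hK1 : 1 < Fintype.card K := Fintype.one_lt_card
  have hF1 : 1 < Fintype.card F := Fintype.one_lt_card
  have hm2 : 2 ≤ m := by
    by_contra hlt
    have : m = 0 ∨ m = 1 := by omega
    rcases this with rfl | rfl
    · rw [pow_zero] at hm
      omega
    · rw [pow_one] at hm
      apply hK₀top
      rw [eq_top_iff]
      intro x _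
      have hbij : Function.Bijective f :=
        (Fintype.bijective_iff_injective_and_card f).2 ⟨f.injective, hm⟩
      obtain ⟨k, hk⟩ := hbij.2 x
      exact (hf x).2 ⟨k, hk⟩
  have hKodd : Odd (Fintype.card K) := by
    rw [← hm] at hodd
    exact (Nat.odd_pow_iff (by omega)).1 hodd
  -- a subfield `E` with `Ht ⊆ SE E` is inside `K₀` or everything
  have hgen : ∀ E : Subfield F, (∀ g ∈ Ht, g ∈ SE E b₁ hb) → E ≤ K₀ ∨ E = ⊤ := by
    intro E hE
    have hle : M ≤ (SE E b₁ hb).map (toPSL2 F) := by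
      intro x hx
      obtain ⟨g, rfl⟩ := toPSL2_surjective x
      exact ⟨g, hE g hx, rfl⟩
    rcases coatom_cases M hM _ hle with heq | htop
    · left
      intro x hx
      have h1 : uu (x * b₁) ∈ SE E b₁ hb := (uu_mem_SE_iff E b₁ hb x).2 hx
      have h2' : toPSL2 F (uu (x * b₁)) ∈ M := by rw [heq]; exact ⟨_, h1, rfl⟩
      have h3 : uu (x * b₁) ∈ Ht := h2'
      obtain ⟨k, hk, hxk⟩ := (c.A_iff _).1 h3
      have : x = k := mul_right_cancel₀ hb hxk
      rw [this]; exact hk
    · right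
      rw [eq_top_iff]
      intro x _
      have h1 : toPSL2 F (uu (x * b₁)) ∈ (SE E b₁ hb).map (toPSL2 F) := by
        rw [htop]; exact Subgroup.mem_top _
      exact (uu_mem_SE_iff E b₁ hb x).1 ((mem_map_SE_iff h2 E b₁ hb _).1 h1)
  by_cases hall : ∀ g ∈ Ht, g ∈ SE K₀ b₁ hb
  · -- the preimage is exactly `SE K₀`
    right
    have hmax : ∀ E : Subfield F, K₀ ≤ E → E = K₀ ∨ E = ⊤ := by
      intro E hKE
      rcases hgen E (fun g hg => SE_mono hKE b₁ hb (hall g hg)) with h | h
      · left; exact le_antisymm h hKE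
      · right; exact h
    have hmp : m.Prime := by
      by_contra hnp
      obtain ⟨a, ha, ha2, ham⟩ := Nat.exists_dvd_of_not_prime2 hm2 hnp
      obtain ⟨b, hb'⟩ := ha
      have hb2 : 1 < b := by
        by_contra hlt
        have : b = 0 ∨ b = 1 := by omega
        rcases this with rfl | rfl
        · omega
        · omega
      obtain ⟨E, hE1, hE2, hE3⟩ := exists_intermediate_subfield K₀ m a b (by rw [hcardK, hm]) hb'
        (by omega) hb2
      rcases hmax E hE1 with h | h
      · exact hE2 h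
      · exact hE3 h
    have hm2' : m ≠ 2 := by
      rintro rfl
      have hcharK : ringChar K ≠ 2 := by
        intro h
        have := FiniteField.even_card_of_char_two h
        rw [Nat.odd_iff] at hKodd
        omega
      obtain ⟨a, ha⟩ := FiniteField.exists_nonsquare hcharK
      obtain ⟨μ, hμ⟩ := isSquare_map_of_even f hodd 2 even_two hm a
      apply no_outer_diag (by omega) M hM b₁ hb K₀ c.hu (fun g => ⟨hall g, hlowSE g⟩) μ
      · rw [pow_two, ← hμ]
        exact (hf _).2 ⟨a, rfl⟩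
      · intro hμK
        obtain ⟨b, hb'⟩ := (hf μ).1 hμK
        apply ha
        refine ⟨b, ?_⟩
        apply f.injective
        rw [hμ, map_mul, hb']
    have hmodd : Odd m := hmp.odd_of_ne_two hm2'
    refine ⟨K, i1, i2, m, hmp, hmodd, hm.symm, ?_⟩
    rcases psl_or_pgl M b₁ w c f hf with h | ⟨⟨e⟩⟩
    · exact h
    · exfalso
      have := even_of_PGL2_subfield hodd m hm M e
      exact (Nat.not_even_iff_odd.2 hmodd) this
  · -- some element is outside `SE K₀`
    left
    push Not at hall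
    obtain ⟨g₀, hg₀, hn⟩ := hall
    have hpgl := pgl_of_not_SE h2 M b₁ w c f hf g₀ hg₀ hn
    refine ⟨K, i1, i2, ?_, hpgl⟩
    obtain ⟨E₂, hE₂⟩ := exists_subfield_pow K₀ 2
    rw [hcardK] at hE₂
    set k := Fintype.card K with hk
    have hK₀E : K₀ ≤ E₂ := by
      intro x hx
      rw [hE₂, pow_two, pow_mul]
      have := pow_card_subfield K₀ x hx
      rw [hcardK] at this
      rw [this, this]
    have hsq : ∀ lam : F, lam ^ 2 ∈ K₀ → lam ∈ E₂ := by
      intro lam hl
      by_cases hl0 : lam = 0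
      · rw [hl0]; exact E₂.zero_mem
      rw [hE₂]
      have h1 := pow_card_subfield K₀ _ hl
      rw [hcardK] at h1
      obtain ⟨j, hj⟩ := hKodd
      -- `(lam²)^(k-1) = 1`
      have h3 : (lam ^ 2) ^ (k - 1) = 1 := by
        have h4 : (lam ^ 2) ^ (k - 1) * lam ^ 2 = 1 * lam ^ 2 := by
          rw [← pow_succ, Nat.sub_add_cancel (by omega), one_mul, h1]
        exact mul_right_cancel₀ (pow_ne_zero 2 hl0) h4
      have h5 : k ^ 2 = (2 * (k - 1)) * (j + 1) + 1 := by
        have : k - 1 = 2 * j := by omega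
        rw [this, hj]
        ring
      rw [h5, pow_succ, pow_mul, pow_mul, h3, one_pow, one_mul]
    have hHtE : ∀ g ∈ Ht, g ∈ SE E₂ b₁ hb := by
      intro g hg
      obtain ⟨lam, hlam, c00, hc00, c01, hc01, c10, hc10, c11, hc11, e00, e01, e10, e11⟩ := c.core g hg
      have hdet := det_eq g
      have hD : lam ^ 2 * (c00 * c11 - c01 * c10) = 1 := by
        have e10' : (g : Matrix (Fin 2) (Fin 2) F) 1 0 = lam * c10 / b₁ := by
          rw [← e10]; field_simp
        rw [e00, e01, e10', e11] at hdet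
        rw [← hdet]
        field_simp
      have hl2 : lam ^ 2 ∈ K₀ := by
        rw [eq_inv_of_mul_eq_one_left hD]
        exact K₀.inv_mem (K₀.sub_mem (K₀.mul_mem hc00 hc11) (K₀.mul_mem hc01 hc10))
      have hl : lam ∈ E₂ := hsq lam hl2
      refine ⟨?_, ?_, ?_, ?_⟩
      · rw [e00]; exact E₂.mul_mem hl (hK₀E hc00)
      · rw [e01, mul_div_assoc, div_self hb, mul_one]; exact E₂.mul_mem hl (hK₀E hc01)
      · rw [e10]; exact E₂.mul_mem hl (hK₀E hc10)
      · rw [e11]; exact E₂.mul_mem hl (hK₀E hc11)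
    rcases hgen E₂ hHtE with h | h
    · exfalso
      exact hn (SE_mono h b₁ hb (hHtE g₀ hg₀))
    · have hle : Fintype.card F ≤ k ^ 2 := by
        apply card_le_of_forall_pow_eq
        · nlinarith
        · intro x
          rw [← hE₂, h]
          exact Subfield.mem_top _
      rw [← hm] at hle
      have hm' : m ≤ 2 := (Nat.pow_le_pow_iff_right (by omega)).1 hle
      have : m = 2 := by omega
      rw [← hm, this]

end Cfsg.Agent.Lib.Helper15.Mx
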