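import Mathlib
import Cfsg.Agent.Lib.Helper15.Mx15

/-!
# Maximal subgroups of `PSL₂(q)`, `q` odd, part 16: the refined `p'`-case of Dickson's theorem
-/

set_option autoImplicit false

open scoped Pointwise

namespace Cfsg.Agent.Lib.Helper15.Mx

open Matrix
open Cfsg.Agent.Lib.Helper14
open Cfsg.Agent.Lib.Helper15
open Cfsg.Agent.Lib.Helper15.Dk

variable {F : Type*} [Field F] [Fintype F]

omit [Fintype F] in
/-- a normal cyclic member of the partition gives a normal torus -/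
theorem hasNormalTorus_of_normal_member (H : Subgroup (ProjectiveSpecialLinearGroup (Fin 2) F))
    (g : SpecialLinearGroup (Fin 2) F) (hg : ¬ IsScalar2 (g : Matrix (Fin 2) (Fin 2) F))
    (ht : (g : Matrix (Fin 2) (Fin 2) F).trace ^ 2 ≠ 4) (hgH : toPSL2 F g ∈ H)
    (hcyc : IsCyclic ((Tor g).subgroupOf H)) (hBn : ((Tor g).subgroupOf H).Normal) :
    HasNormalTorus H := by
  set B := (Tor g).subgroupOf H with hBdef
  have hBne : B ≠ ⊥ := (partH H).ne_bot _ ⟨g, hg, hgH, rfl⟩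
  obtain ⟨c₀, hc₀⟩ := hcyc.exists_generator
  have hc₀1 : (c₀ : ↥H) ≠ 1 := by
    intro h
    apply hBne
    rw [Subgroup.eq_bot_iff_forall]
    intro x hx
    obtain ⟨i, hi⟩ := Subgroup.mem_zpowers_iff.1 (hc₀ ⟨x, hx⟩)
    have h2 : ((c₀ : ↥H)) ^ i = x := by
      have := congrArg (fun z : ↥B => (z : ↥H)) hi
      simpa using this
    rw [← h2, h, _root_.one_zpow]
  obtain ⟨g', hg'⟩ := toPSL2_surjective ((c₀ : ↥H) : ProjectiveSpecialLinearGroup (Fin 2) F)
  have hg'T : toPSL2 F g' ∈ Tor g := by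
    rw [hg']
    exact Subgroup.mem_subgroupOf.1 c₀.2
  have hg'ns : ¬ IsScalar2 (g' : Matrix (Fin 2) (Fin 2) F) := by
    intro hs
    apply hc₀1
    apply Subtype.ext
    rw [← hg']
    exact (toPSL2_eq_one_iff' g').2 hs
  have hg't : (g' : Matrix (Fin 2) (Fin 2) F).trace ^ 2 ≠ 4 := by
    intro h4
    exact ht ((trace_sq_eq_four_iff_of_mem g hg g' ((mem_Tor_iff g g').1 hg'T) hg'ns).1 h4)
  refine ⟨g', hg'ns, hg't, by rw [hg']; exact (c₀ : ↥H).2, ?_⟩
  intro m hm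
  have h1 : (⟨m, hm⟩ : ↥H) * (c₀ : ↥H) * (⟨m, hm⟩ : ↥H)⁻¹ ∈ B := hBn.conj_mem _ c₀.2 _
  obtain ⟨i, hi⟩ := Subgroup.mem_zpowers_iff.1 (hc₀ ⟨_, h1⟩)
  rw [hg']
  refine Subgroup.mem_zpowers_iff.2 ⟨i, ?_⟩
  have h2 := congrArg (fun z : ↥B => ((z : ↥H) : ProjectiveSpecialLinearGroup (Fin 2) F)) hi
  simpa using h2

variable (p : ℕ) [Fact p.Prime] [CharP F p]

/-- the refined `p'`-case of Dickson's theorem -/
theorem dickson_coprime_refined (H : Subgroup (ProjectiveSpecialLinearGroup (Fin 2) F))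
    (hp : ¬ p ∣ Nat.card ↥H) :
    Nat.card ↥H = 1 ∨ HasNormalTorus H ∨ Nonempty (H ≃* alternatingGroup (Fin 4)) ∨
      Nonempty (H ≃* Equiv.Perm (Fin 4)) ∨ Nonempty (H ≃* alternatingGroup (Fin 5)) := by
  have hss : ∀ g : SpecialLinearGroup (Fin 2) F, ¬ IsScalar2 (g : Matrix (Fin 2) (Fin 2) F) →
      toPSL2 F g ∈ H → (g : Matrix (Fin 2) (Fin 2) F).trace ^ 2 ≠ 4 := by
    intro g hg hgH ht
    obtain ⟨S, hS⟩ := unipotent_member_sylow p H g hg ht hgH
    have hne := (partH H).ne_bot _ ⟨g, hg, hgH, rfl⟩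
    apply hne
    rw [← hS]
    have h1 : Nat.card (S : Subgroup ↥H) = 1 := by
      rw [Sylow.card_eq_multiplicity]
      have : (Nat.card ↥H).factorization p = 0 := Nat.factorization_eq_zero_of_not_dvd hp
      rw [this, pow_zero]
    exact Subgroup.card_eq_one.1 h1
  have hmem : ∀ A ∈ (partH H).mem, IsCyclic A ∧
      (Nat.card A ∣ (Fintype.card F + 1) / Nat.gcd 2 (Fintype.card F - 1) ∨
        Nat.card A ∣ (Fintype.card F - 1) / Nat.gcd 2 (Fintype.card F - 1)) ∧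
      Nat.card (Subgroup.normalizer ((A : Subgroup ↥H) : Set ↥H)) ≤ 2 * Nat.card A := by
    rintro A ⟨g, hg, hgH, rfl⟩
    exact semisimple_member H g hg (hss g hg hgH) hgH
  rcases (partH H).thmI (fun A hA => (hmem A hA).1) (fun A hA => (hmem A hA).2.2) with
    h1 | ⟨A, hA, hAtop⟩ | ⟨A, hA, h2A, -⟩ | h | h | h
  · exact Or.inl h1
  · right; left
    have hc := (hmem A hA).1
    obtain ⟨g, hg, hgH, rfl⟩ := hA
    exact hasNormalTorus_of_normal_member H g hg (hss g hg hgH) hgH hc (by rw [hAtop]; infer_instance)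
  · right; left
    have hc := (hmem A hA).1
    obtain ⟨g, hg, hgH, rfl⟩ := hA
    refine hasNormalTorus_of_normal_member H g hg (hss g hg hgH) hgH hc ?_
    apply Subgroup.normal_of_index_eq_two
    have h1 := Subgroup.card_mul_index ((Tor g).subgroupOf H)
    rw [← h2A] at h1
    have hpos : 0 < Nat.card ((Tor g).subgroupOf H) := Nat.card_pos
    have : Nat.card ((Tor g).subgroupOf H) * ((Tor g).subgroupOf H).index =
        Nat.card ((Tor g).subgroupOf H) * 2 := by rw [h1]; ring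
    exact Nat.eq_of_mul_eq_mul_left hpos this
  · exact Or.inr (Or.inr (Or.inl h))
  · exact Or.inr (Or.inr (Or.inr (Or.inl h)))
  · exact Or.inr (Or.inr (Or.inr (Or.inr h)))

end Cfsg.Agent.Lib.Helper15.Mx
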