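import Mathlib
import Cfsg.Prelude.Def_ParabolicCharacters

/-!
# Inner products of permutation characters and orbits on pairs of cosets
-/

set_option autoImplicit false

namespace Cfsg.Agent.Lib.Helper15.Bru

open MulAction

/-- the fixed points on a product -/
def fixedByProdEquiv {G X Y : Type*} [Group G] [MulAction G X] [MulAction G Y] (g : G) :
    fixedBy (X × Y) g ≃ fixedBy X g × fixedBy Y g where
  toFun p := (⟨p.1.1, congrArg Prod.fst p.2⟩, ⟨p.1.2, congrArg Prod.snd p.2⟩)
  invFun q := ⟨(q.1.1, q.2.1), Prod.ext q.1.2 q.2.2⟩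
  left_inv _ := rfl
  right_inv _ := rfl

/-- Burnside: the inner product of two permutation characters counts orbits on pairs -/
theorem inner_fixedPointCharacter {G : Type*} [Group G] [Fintype G] (H K : Subgroup G) :
    (Nat.card G : ℂ)⁻¹ * ∑ g : G, Cfsg.fixedPointCharacter H g * Cfsg.fixedPointCharacter K g =
      (Nat.card (MulAction.orbitRel.Quotient G ((G ⧸ H) × (G ⧸ K))) : ℂ) := by
  classical
  have : ∀ g : G, Fintype (fixedBy ((G ⧸ H) × (G ⧸ K)) g) := fun g => Fintype.ofFinite _
  have : Fintype (Quotient (orbitRel G ((G ⧸ H) × (G ⧸ K)))) := Fintype.ofFinite _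
  have hB := sum_card_fixedBy_eq_card_orbits_mul_card_group G ((G ⧸ H) × (G ⧸ K))
  have hterm : ∀ g : G, Cfsg.fixedPointCharacter H g * Cfsg.fixedPointCharacter K g =
      (Fintype.card (fixedBy ((G ⧸ H) × (G ⧸ K)) g) : ℂ) := by
    intro g
    unfold Cfsg.fixedPointCharacter
    rw [← Nat.cast_mul, ← Nat.card_prod, ← Nat.card_eq_fintype_card,
      Nat.card_congr (fixedByProdEquiv (X := G ⧸ H) (Y := G ⧸ K) g)]
  rw [Finset.sum_congr rfl (fun g _ => hterm g), ← Nat.cast_sum, hB, Nat.card_eq_fintype_card,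
    Nat.cast_mul]
  have hG : (Fintype.card G : ℂ) ≠ 0 := by
    exact_mod_cast Fintype.card_ne_zero
  change _ = (Nat.card (Quotient (orbitRel G ((G ⧸ H) × (G ⧸ K)))) : ℂ)
  rw [Nat.card_eq_fintype_card]
  field_simp

/-- orbits on pairs of cosets are classified by a separating double coset invariant -/
theorem card_orbits_eq_card_range {G : Type*} [Group G] (H K : Subgroup G) {T : Type*} (Φ : G → T)
    (hinv : ∀ h ∈ H, ∀ k ∈ K, ∀ g, Φ (h * g * k) = Φ g)
    (hsep : ∀ g g', Φ g = Φ g' → ∃ h ∈ H, ∃ k ∈ K, g' = h * g * k) :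
    Nat.card (orbitRel.Quotient G ((G ⧸ H) × (G ⧸ K))) = Nat.card (Set.range Φ) := by
  let Ψ : (G ⧸ H) × (G ⧸ K) → T := fun p =>
    Quotient.liftOn₂' p.1 p.2 (fun x y => Φ (x⁻¹ * y)) (by
      intro x y x' y' hx hy
      rw [QuotientGroup.leftRel_apply] at hx hy
      have := hinv _ (H.inv_mem hx) _ hy (x⁻¹ * y)
      rw [← this]
      congr 1
      group)
  have hΨ : ∀ x y : G, Ψ ((x : G ⧸ H), (y : G ⧸ K)) = Φ (x⁻¹ * y) := fun x y => rfl
  have hΨinv : ∀ (g : G) (p : (G ⧸ H) × (G ⧸ K)), Ψ (g • p) = Ψ p := by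
    rintro g ⟨x, y⟩
    induction x using QuotientGroup.induction_on with
    | H x =>
      induction y using QuotientGroup.induction_on with
      | H y =>
        have e : g • ((x : G ⧸ H), (y : G ⧸ K)) = (((g * x : G) : G ⧸ H), ((g * y : G) : G ⧸ K)) := rfl
        rw [e, hΨ, hΨ]
        congr 1
        group
  let Ψbar : orbitRel.Quotient G ((G ⧸ H) × (G ⧸ K)) → T :=
    Quotient.lift Ψ (by
      intro a b hab
      obtain ⟨g, rfl⟩ := hab
      exact hΨinv g b)
  have hinj : Function.Injective Ψbar := by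
    intro a b hab
    induction a using Quotient.inductionOn with
    | h a =>
      induction b using Quotient.inductionOn with
      | h b =>
        apply Quotient.sound
        obtain ⟨x, y⟩ := a
        obtain ⟨x', y'⟩ := b
        induction x using QuotientGroup.induction_on with
        | H x =>
        induction y using QuotientGroup.induction_on with
        | H y =>
        induction x' using QuotientGroup.induction_on with
        | H x' =>
        induction y' using QuotientGroup.induction_on with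
        | H y' =>
          have h1 : Φ (x⁻¹ * y) = Φ (x'⁻¹ * y') := hab
          obtain ⟨h, hh, k, hk, e⟩ := hsep _ _ h1
          -- `x'⁻¹ y' = h x⁻¹ y k`
          refine ⟨x * h⁻¹ * x'⁻¹, ?_⟩
          have e1 : (x * h⁻¹ * x'⁻¹) • ((x' : G ⧸ H), (y' : G ⧸ K)) =
              (((x * h⁻¹ * x'⁻¹ * x' : G) : G ⧸ H), ((x * h⁻¹ * x'⁻¹ * y' : G) : G ⧸ K)) := rfl
          change (x * h⁻¹ * x'⁻¹) • ((x' : G ⧸ H), (y' : G ⧸ K)) = _
          rw [e1]
          apply Prod.ext
          · simp only
            rw [QuotientGroup.eq]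
            have : (x * h⁻¹ * x'⁻¹ * x')⁻¹ * x = h := by group
            rw [this]
            exact hh
          · simp only
            rw [QuotientGroup.eq]
            have : (x * h⁻¹ * x'⁻¹ * y')⁻¹ * y = (x'⁻¹ * y')⁻¹ * h * (x⁻¹ * y) := by group
            rw [this, e]
            have : (h * (x⁻¹ * y) * k)⁻¹ * h * (x⁻¹ * y) = k⁻¹ := by group
            rw [this]
            exact K.inv_mem hk
  have hrange : Set.range Ψbar = Set.range Φ := by
    ext t
    constructor
    · rintro ⟨a, rfl⟩
      induction a using Quotient.inductionOn with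
      | h a =>
        obtain ⟨x, y⟩ := a
        induction x using QuotientGroup.induction_on with
        | H x =>
        induction y using QuotientGroup.induction_on with
        | H y =>
          exact ⟨x⁻¹ * y, rfl⟩
    · rintro ⟨g, rfl⟩
      refine ⟨Quotient.mk _ (((1 : G) : G ⧸ H), (g : G ⧸ K)), ?_⟩
      change Ψ _ = _
      rw [hΨ, inv_one, one_mul]
  rw [Nat.card_congr (Equiv.ofInjective Ψbar hinj), hrange]

end Cfsg.Agent.Lib.Helper15.Bru
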