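import Mathlib
import Cfsg.Agent.Lib.Helper15.QuadCount3
import Cfsg.Agent.Lib.Helper14.OrthoTransfer
set_option autoImplicit false
namespace Cfsg.Agent.Lib.Helper15

open Matrix

section plus
variable {F : Type*} [Field F] {m : ℕ}

/-- the hyperbolic form `Σ x_i y_i` as a quadratic form -/
noncomputable def plusQF (m : ℕ) (F : Type*) [Field F] : QuadraticForm F (Fin m ⊕ Fin m → F) :=
  ∑ i : Fin m, QuadraticMap.proj (R := F) (A := F) (Sum.inl i) (Sum.inr i)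

theorem plusQF_apply (v : Fin m ⊕ Fin m → F) :
    plusQF m F v = ∑ i : Fin m, v (Sum.inl i) * v (Sum.inr i) := by
  unfold plusQF
  rw [_root_.sum_apply]
  rfl

theorem coe_plusQF : ⇑(plusQF m F) = Cfsg.quadFormPlus m F := by
  funext v
  rw [plusQF_apply]
  rfl

theorem quadFormPlus_eq_dot (v : Fin m ⊕ Fin m → F) :
    Cfsg.quadFormPlus m F v = (v ∘ Sum.inl) ⬝ᵥ (v ∘ Sum.inr) := rfl

/-- `A ↦ diag(A, A⁻ᵀ)` into `GL` -/
def plusBlockGL (A : GL (Fin m) F) : GL (Fin m ⊕ Fin m) F where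
  val := fromBlocks (A : Matrix (Fin m) (Fin m) F) 0 0 ((A⁻¹ : GL (Fin m) F) : Matrix (Fin m) (Fin m) F)ᵀ
  inv := fromBlocks ((A⁻¹ : GL (Fin m) F) : Matrix (Fin m) (Fin m) F) 0 0 (A : Matrix (Fin m) (Fin m) F)ᵀ
  val_inv := by
    rw [fromBlocks_multiply]
    simp only [Matrix.mul_zero, Matrix.zero_mul, add_zero, zero_add]
    rw [← Matrix.transpose_mul, ← Units.val_mul, mul_inv_cancel]
    simp
  inv_val := by
    rw [fromBlocks_multiply]
    simp only [Matrix.mul_zero, Matrix.zero_mul, add_zero, zero_add]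
    rw [← Matrix.transpose_mul, ← Units.val_mul, inv_mul_cancel]
    simp

theorem plusBlockGL_val (A : GL (Fin m) F) :
    ((plusBlockGL A : GL (Fin m ⊕ Fin m) F) : Matrix (Fin m ⊕ Fin m) (Fin m ⊕ Fin m) F) =
      fromBlocks (A : Matrix (Fin m) (Fin m) F) 0 0 ((A : Matrix (Fin m) (Fin m) F)⁻¹)ᵀ := by
  show fromBlocks (A : Matrix (Fin m) (Fin m) F) 0 0 ((A⁻¹ : GL (Fin m) F) : Matrix (Fin m) (Fin m) F)ᵀ = _
  rw [Matrix.coe_units_inv]

theorem plusBlockGL_mulVec (A : GL (Fin m) F) (v : Fin m ⊕ Fin m → F) :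
    ((plusBlockGL A : GL (Fin m ⊕ Fin m) F) : Matrix (Fin m ⊕ Fin m) (Fin m ⊕ Fin m) F) *ᵥ v =
      Sum.elim ((A : Matrix (Fin m) (Fin m) F) *ᵥ (v ∘ Sum.inl))
        (((A⁻¹ : GL (Fin m) F) : Matrix (Fin m) (Fin m) F)ᵀ *ᵥ (v ∘ Sum.inr)) := by
  show fromBlocks (A : Matrix (Fin m) (Fin m) F) 0 0 ((A⁻¹ : GL (Fin m) F) : Matrix (Fin m) (Fin m) F)ᵀ *ᵥ v = _
  rw [fromBlocks_mulVec]
  simp

theorem plusBlockGL_mem (A : GL (Fin m) F) : plusBlockGL A ∈ Cfsg.isometryGroup F (Cfsg.quadFormPlus m F) := by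
  rw [mem_isometryGroup_iff]
  intro v
  rw [plusBlockGL_mulVec, quadFormPlus_eq_dot, quadFormPlus_eq_dot]
  have h1 : (Sum.elim ((A : Matrix (Fin m) (Fin m) F) *ᵥ (v ∘ Sum.inl))
        (((A⁻¹ : GL (Fin m) F) : Matrix (Fin m) (Fin m) F)ᵀ *ᵥ (v ∘ Sum.inr))) ∘ Sum.inl =
      (A : Matrix (Fin m) (Fin m) F) *ᵥ (v ∘ Sum.inl) := rfl
  have h2 : (Sum.elim ((A : Matrix (Fin m) (Fin m) F) *ᵥ (v ∘ Sum.inl))
        (((A⁻¹ : GL (Fin m) F) : Matrix (Fin m) (Fin m) F)ᵀ *ᵥ (v ∘ Sum.inr))) ∘ Sum.inr =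
      ((A⁻¹ : GL (Fin m) F) : Matrix (Fin m) (Fin m) F)ᵀ *ᵥ (v ∘ Sum.inr) := rfl
  rw [h1, h2, Matrix.mulVec_transpose, dotProduct_comm, ← Matrix.dotProduct_mulVec,
    Matrix.mulVec_mulVec, ← Units.val_mul, inv_mul_cancel, Units.val_one, Matrix.one_mulVec,
    dotProduct_comm]

/-- the embedding `GL_m → O⁺_{2m}` -/
def plusHom (m : ℕ) (F : Type*) [Field F] :
    GL (Fin m) F →* Cfsg.isometryGroup F (Cfsg.quadFormPlus m F) where
  toFun A := ⟨plusBlockGL A, plusBlockGL_mem A⟩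
  map_one' := by
    apply Subtype.ext
    apply Units.ext
    show fromBlocks ((1 : GL (Fin m) F) : Matrix (Fin m) (Fin m) F) 0 0
      (((1 : GL (Fin m) F)⁻¹ : GL (Fin m) F) : Matrix (Fin m) (Fin m) F)ᵀ = 1
    simp
  map_mul' A B := by
    apply Subtype.ext
    apply Units.ext
    show fromBlocks ((A * B : GL (Fin m) F) : Matrix (Fin m) (Fin m) F) 0 0
      (((A * B)⁻¹ : GL (Fin m) F) : Matrix (Fin m) (Fin m) F)ᵀ =
      fromBlocks (A : Matrix (Fin m) (Fin m) F) 0 0 ((A⁻¹ : GL (Fin m) F) : Matrix (Fin m) (Fin m) F)ᵀ *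
      fromBlocks (B : Matrix (Fin m) (Fin m) F) 0 0 ((B⁻¹ : GL (Fin m) F) : Matrix (Fin m) (Fin m) F)ᵀ
    rw [fromBlocks_multiply]
    simp only [Matrix.mul_zero, Matrix.zero_mul, add_zero, zero_add]
    rw [← Matrix.transpose_mul, ← Units.val_mul, ← Units.val_mul, _root_.mul_inv_rev]

theorem plusHom_val (A : GL (Fin m) F) :
    (((plusHom m F A : Cfsg.isometryGroup F (Cfsg.quadFormPlus m F)) : GL (Fin m ⊕ Fin m) F) :
      Matrix (Fin m ⊕ Fin m) (Fin m ⊕ Fin m) F) =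
      fromBlocks (A : Matrix (Fin m) (Fin m) F) 0 0 ((A : Matrix (Fin m) (Fin m) F)⁻¹)ᵀ :=
  plusBlockGL_val A

end plus

section perm
variable {F : Type*} [Field F] {ι : Type} [Fintype ι] [DecidableEq ι]

/-- permutation matrix in `GL` -/
def permGL (F : Type*) [Field F] (σ : Equiv.Perm ι) : GL ι F where
  val := σ.toPEquiv.toMatrix
  inv := σ.symm.toPEquiv.toMatrix
  val_inv := by
    rw [← PEquiv.toMatrix_trans, ← Equiv.toPEquiv_trans, Equiv.self_trans_symm, Equiv.toPEquiv_refl,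
      PEquiv.toMatrix_refl]
  inv_val := by
    rw [← PEquiv.toMatrix_trans, ← Equiv.toPEquiv_trans, Equiv.symm_trans_self, Equiv.toPEquiv_refl,
      PEquiv.toMatrix_refl]

theorem permGL_mulVec (σ : Equiv.Perm ι) (v : ι → F) :
    ((permGL F σ : GL ι F) : Matrix ι ι F) *ᵥ v = v ∘ σ :=
  PEquiv.toMatrix_toPEquiv_mulVec σ v

/-- permutation matrix as an isometry -/
def permIso (Q : (ι → F) → F) (σ : Equiv.Perm ι) (hσ : ∀ v, Q (v ∘ σ) = Q v) : Cfsg.isometryGroup F Q :=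
  ⟨permGL F σ, by
    rw [mem_isometryGroup_iff]
    intro v
    rw [permGL_mulVec]
    exact hσ v⟩

theorem permIso_mulVec (Q : (ι → F) → F) (σ : Equiv.Perm ι) (hσ : ∀ v, Q (v ∘ σ) = Q v) (v : ι → F) :
    (((permIso Q σ hσ : Cfsg.isometryGroup F Q) : GL ι F) : Matrix ι ι F) *ᵥ v = v ∘ σ :=
  permGL_mulVec σ v

/-- isometries are determined by their action on vectors -/
theorem isometry_ext (Q : (ι → F) → F) (g h : Cfsg.isometryGroup F Q)
    (hgh : ∀ v, ((g : GL ι F) : Matrix ι ι F) *ᵥ v = ((h : GL ι F) : Matrix ι ι F) *ᵥ v) : g = h := by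
  apply Subtype.ext
  apply Units.ext
  ext i j
  have := congrFun (hgh (Pi.single j 1)) i
  simpa using this

theorem isometry_mul_mulVec (Q : (ι → F) → F) (g h : Cfsg.isometryGroup F Q) (v : ι → F) :
    (((g * h : Cfsg.isometryGroup F Q) : GL ι F) : Matrix ι ι F) *ᵥ v =
      ((g : GL ι F) : Matrix ι ι F) *ᵥ (((h : GL ι F) : Matrix ι ι F) *ᵥ v) := by
  rw [Matrix.mulVec_mulVec]
  rfl

theorem isometry_inv_mulVec (Q : (ι → F) → F) (g : Cfsg.isometryGroup F Q) (v w : ι → F)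
    (h : ((g : GL ι F) : Matrix ι ι F) *ᵥ w = v) :
    (((g⁻¹ : Cfsg.isometryGroup F Q) : GL ι F) : Matrix ι ι F) *ᵥ v = w := by
  rw [← h, ← isometry_mul_mulVec, inv_mul_cancel]
  show (1 : Matrix ι ι F) *ᵥ w = w
  rw [Matrix.one_mulVec]

theorem permIso_inv_mulVec (Q : (ι → F) → F) (σ : Equiv.Perm ι) (hσ : ∀ v, Q (v ∘ σ) = Q v) (v : ι → F) :
    ((((permIso Q σ hσ)⁻¹ : Cfsg.isometryGroup F Q) : GL ι F) : Matrix ι ι F) *ᵥ v = v ∘ σ.symm := by
  apply isometry_inv_mulVec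
  rw [permIso_mulVec]
  funext i
  simp

end perm

end Cfsg.Agent.Lib.Helper15
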