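import Mathlib
import Cfsg.Agent.Lib.Helper15.OPlus1
import Cfsg.Agent.S0264
set_option autoImplicit false
namespace Cfsg.Agent.Lib.Helper15

open Matrix
open scoped commutatorElement

section torus
variable {F : Type*} [Field F] {n : ℕ}

/-- the diagonal matrix `diag(μ, 1, …, 1)` in `GL_{n+1}` -/
def dg (n : ℕ) (μ : F) (hμ : μ ≠ 0) : GL (Fin (n + 1)) F where
  val := diagonal (Function.update (fun _ => (1 : F)) 0 μ)
  inv := diagonal (Function.update (fun _ => (1 : F)) 0 μ⁻¹)
  val_inv := by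
    rw [diagonal_mul_diagonal, ← diagonal_one]
    congr 1
    funext i
    by_cases hi : i = 0
    · subst hi
      simp [mul_inv_cancel₀ hμ]
    · simp [Function.update_of_ne hi]
  inv_val := by
    rw [diagonal_mul_diagonal, ← diagonal_one]
    congr 1
    funext i
    by_cases hi : i = 0
    · subst hi
      simp [inv_mul_cancel₀ hμ]
    · simp [Function.update_of_ne hi]

theorem dg_det (μ : F) (hμ : μ ≠ 0) : ((dg n μ hμ : GL (Fin (n + 1)) F) : Matrix (Fin (n + 1)) (Fin (n + 1)) F).det = μ := by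
  show (diagonal (Function.update (fun _ => (1 : F)) 0 μ)).det = μ
  rw [det_diagonal, Finset.prod_update_of_mem (Finset.mem_univ _)]
  simp

theorem dg_inv (μ : F) (hμ : μ ≠ 0) : (dg n μ hμ)⁻¹ = dg n μ⁻¹ (inv_ne_zero hμ) := by
  apply Units.ext
  show diagonal (Function.update (fun _ => (1 : F)) 0 μ⁻¹) = diagonal (Function.update (fun _ => (1 : F)) 0 μ⁻¹)
  rfl

/-- the scaling function of the torus element -/
def torusCoeff (n : ℕ) (μ : F) : Fin (n + 1) ⊕ Fin (n + 1) → F :=
  Sum.elim (Function.update (fun _ => (1 : F)) 0 μ) (Function.update (fun _ => (1 : F)) 0 μ⁻¹)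

theorem plusHom_dg_mulVec (μ : F) (hμ : μ ≠ 0) (v : Fin (n + 1) ⊕ Fin (n + 1) → F) :
    (((plusHom (n + 1) F (dg n μ hμ) : Cfsg.isometryGroup F (Cfsg.quadFormPlus (n + 1) F)) :
      GL (Fin (n + 1) ⊕ Fin (n + 1)) F) : Matrix (Fin (n + 1) ⊕ Fin (n + 1)) (Fin (n + 1) ⊕ Fin (n + 1)) F) *ᵥ v =
      fun k => torusCoeff n μ k * v k := by
  show ((plusBlockGL (dg n μ hμ) : GL (Fin (n + 1) ⊕ Fin (n + 1)) F) : Matrix (Fin (n + 1) ⊕ Fin (n + 1)) (Fin (n + 1) ⊕ Fin (n + 1)) F) *ᵥ v = _
  rw [plusBlockGL_mulVec, dg_inv]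
  funext k
  rcases k with i | i
  · show (diagonal (Function.update (fun _ => (1 : F)) 0 μ) *ᵥ (v ∘ Sum.inl)) i = _
    rw [mulVec_diagonal]
    rfl
  · show ((diagonal (Function.update (fun _ => (1 : F)) 0 μ⁻¹))ᵀ *ᵥ (v ∘ Sum.inr)) i = _
    rw [diagonal_transpose, mulVec_diagonal]
    rfl

theorem quadFormPlus_swap (v : Fin (n + 1) ⊕ Fin (n + 1) → F) :
    Cfsg.quadFormPlus (n + 1) F (v ∘ (Equiv.swap (Sum.inl 0) (Sum.inr 0) : Equiv.Perm (Fin (n + 1) ⊕ Fin (n + 1)))) =
      Cfsg.quadFormPlus (n + 1) F v := by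
  unfold Cfsg.quadFormPlus
  refine Finset.sum_congr rfl fun i _ => ?_
  by_cases hi : i = 0
  · subst hi
    simp only [Function.comp_apply, Equiv.swap_apply_left, Equiv.swap_apply_right]
    ring
  · have h1 : (Equiv.swap (Sum.inl 0) (Sum.inr 0) : Equiv.Perm (Fin (n + 1) ⊕ Fin (n + 1))) (Sum.inl i) = Sum.inl i := by
      apply Equiv.swap_apply_of_ne_of_ne
      · intro h; exact hi (Sum.inl.inj h)
      · intro h; cases h
    have h2 : (Equiv.swap (Sum.inl 0) (Sum.inr 0) : Equiv.Perm (Fin (n + 1) ⊕ Fin (n + 1))) (Sum.inr i) = Sum.inr i := by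
      apply Equiv.swap_apply_of_ne_of_ne
      · intro h; cases h
      · intro h; exact hi (Sum.inr.inj h)
    simp only [Function.comp_apply, h1, h2]

/-- `diag(λ², 1, …; λ⁻², 1, …)` is a commutator in the orthogonal group -/
theorem plusHom_dg_sq_mem (l : F) (hl : l ≠ 0) :
    plusHom (n + 1) F (dg n (l * l) (mul_ne_zero hl hl)) ∈ Cfsg.Omega F (Cfsg.quadFormPlus (n + 1) F) := by
  set s := permIso (Cfsg.quadFormPlus (n + 1) F) (Equiv.swap (Sum.inl 0) (Sum.inr 0)) quadFormPlus_swap with hs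
  set t := plusHom (n + 1) F (dg n l hl) with ht
  have key : plusHom (n + 1) F (dg n (l * l) (mul_ne_zero hl hl)) = ⁅t, s⁆ := by
    rw [commutatorElement_def]
    apply isometry_ext
    intro v
    rw [isometry_mul_mulVec, isometry_mul_mulVec, isometry_mul_mulVec, hs, permIso_inv_mulVec, ht, ← map_inv,
      dg_inv, plusHom_dg_mulVec, permIso_mulVec, plusHom_dg_mulVec, plusHom_dg_mulVec]
    funext k
    rcases k with i | i
    · by_cases hi : i = 0
      · subst hi
        simp only [torusCoeff, Function.comp_apply, Equiv.swap_apply_left, Equiv.swap_apply_right, Equiv.symm_swap,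
          Sum.elim_inl, Sum.elim_inr, Function.update_self, inv_inv]
        ring
      · have h1 : (Equiv.swap (Sum.inl 0) (Sum.inr 0) : Equiv.Perm (Fin (n + 1) ⊕ Fin (n + 1))) (Sum.inl i) = Sum.inl i := by
          apply Equiv.swap_apply_of_ne_of_ne
          · intro h; exact hi (Sum.inl.inj h)
          · intro h; cases h
        simp only [torusCoeff, Function.comp_apply, h1, Equiv.symm_swap, Sum.elim_inl, Function.update_of_ne hi]
        ring
    · by_cases hi : i = 0
      · subst hi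
        simp only [torusCoeff, Function.comp_apply, Equiv.swap_apply_left, Equiv.swap_apply_right, Equiv.symm_swap,
          Sum.elim_inl, Sum.elim_inr, Function.update_self, inv_inv]
        rw [mul_inv]
        ring
      · have h2 : (Equiv.swap (Sum.inl 0) (Sum.inr 0) : Equiv.Perm (Fin (n + 1) ⊕ Fin (n + 1))) (Sum.inr i) = Sum.inr i := by
          apply Equiv.swap_apply_of_ne_of_ne
          · intro h; cases h
          · intro h; exact hi (Sum.inr.inj h)
        simp only [torusCoeff, Function.comp_apply, h2, Equiv.symm_swap, Sum.elim_inr, Function.update_of_ne hi]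
        ring
  rw [key]
  exact Subgroup.commutator_mem_commutator (Subgroup.mem_top _) (Subgroup.mem_top _)

end torus

section main
variable {F : Type*} [Field F] {m : ℕ}

theorem map_mem_commutator {G H : Type*} [Group G] [Group H] (φ : G →* H) (x : G) (hx : x ∈ commutator G) :
    φ x ∈ commutator H := by
  have h1 : φ x ∈ (commutator G).map φ := Subgroup.mem_map_of_mem φ hx
  rw [commutator_def, Subgroup.map_commutator] at h1
  rw [commutator_def]
  exact Subgroup.commutator_mono le_top le_top h1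

/-- `diag(A, A⁻ᵀ) ∈ Ω⁺` when `det A` is a square -/
theorem plusHom_mem_Omega_of_isSquare (hm : 1 ≤ m) (hex : m = 2 → ∃ a : F, a ≠ 0 ∧ a ≠ 1)
    (A : GL (Fin m) F) (hsq : IsSquare (A : Matrix (Fin m) (Fin m) F).det) :
    plusHom m F A ∈ Cfsg.Omega F (Cfsg.quadFormPlus m F) := by
  obtain ⟨n, rfl⟩ : ∃ n, m = n + 1 := ⟨m - 1, by omega⟩
  obtain ⟨l, hl⟩ := hsq
  have hdet : (A : Matrix (Fin (n + 1)) (Fin (n + 1)) F).det ≠ 0 := by
    have := (Matrix.isUnit_iff_isUnit_det _).1 (Units.isUnit A)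
    exact this.ne_zero
  have hl0 : l ≠ 0 := by
    rintro rfl
    rw [mul_zero] at hl
    exact hdet hl
  set D := dg n (l * l) (mul_ne_zero hl0 hl0) with hD
  have hA : A = (A * D⁻¹) * D := by group
  have h1 : A * D⁻¹ ∈ commutator (GL (Fin (n + 1)) F) := by
    rw [Cfsg.Agent.S0264.result (n + 1) hex, MonoidHom.mem_ker]
    apply Units.ext
    rw [Matrix.GeneralLinearGroup.val_det_apply, Units.val_one, Units.val_mul, Matrix.det_mul, hD, dg_inv, dg_det, hl]
    exact mul_inv_cancel₀ (mul_ne_zero hl0 hl0)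
  rw [hA, map_mul]
  exact Subgroup.mul_mem _ (map_mem_commutator _ _ h1) (plusHom_dg_sq_mem l hl0)

end main

end Cfsg.Agent.Lib.Helper15
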