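import Mathlib
import Cfsg.Agent.Lib.Helper15.OPlus2
set_option autoImplicit false
namespace Cfsg.Agent.Lib.Helper15

open Matrix
open scoped commutatorElement

section swapeven
variable {F : Type*} [Field F] {k m : ℕ}

/-- the shift by `k` on `Fin (k + k)` -/
def halfShift (k : ℕ) (i : Fin (k + k)) : Fin (k + k) :=
  ⟨if (i : ℕ) < k then (i : ℕ) + k else (i : ℕ) - k, by split_ifs <;> omega⟩

theorem halfShift_involutive (k : ℕ) : Function.Involutive (halfShift k) := by
  intro i
  apply Fin.ext
  simp only [halfShift]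
  split_ifs <;> omega

theorem halfShift_lt (i : Fin (k + k)) : ((halfShift k i : Fin (k + k)) : ℕ) < k ↔ ¬ (i : ℕ) < k := by
  simp only [halfShift]
  split_ifs <;> omega

/-- the shift as a permutation -/
def halfShiftPerm (k : ℕ) : Equiv.Perm (Fin (k + k)) := (halfShift_involutive k).toPerm _

theorem halfShiftPerm_apply (i : Fin (k + k)) : halfShiftPerm k i = halfShift k i := rfl

theorem halfShiftPerm_symm : (halfShiftPerm k).symm = halfShiftPerm k := Function.Involutive.toPerm_symm _

/-- swap `x_i ↔ y_i` for `i < k` -/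
def partSwapFun (k : ℕ) : Fin (k + k) ⊕ Fin (k + k) → Fin (k + k) ⊕ Fin (k + k)
  | Sum.inl i => if (i : ℕ) < k then Sum.inr i else Sum.inl i
  | Sum.inr i => if (i : ℕ) < k then Sum.inl i else Sum.inr i

theorem partSwapFun_inl_lt (i : Fin (k + k)) (h : (i : ℕ) < k) : partSwapFun k (Sum.inl i) = Sum.inr i := by
  simp [partSwapFun, h]

theorem partSwapFun_inl_ge (i : Fin (k + k)) (h : ¬ (i : ℕ) < k) : partSwapFun k (Sum.inl i) = Sum.inl i := by
  simp [partSwapFun, h]

theorem partSwapFun_inr_lt (i : Fin (k + k)) (h : (i : ℕ) < k) : partSwapFun k (Sum.inr i) = Sum.inl i := by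
  simp [partSwapFun, h]

theorem partSwapFun_inr_ge (i : Fin (k + k)) (h : ¬ (i : ℕ) < k) : partSwapFun k (Sum.inr i) = Sum.inr i := by
  simp [partSwapFun, h]

theorem partSwapFun_involutive (k : ℕ) : Function.Involutive (partSwapFun k) := by
  rintro (i | i)
  · by_cases h : (i : ℕ) < k
    · rw [partSwapFun_inl_lt i h, partSwapFun_inr_lt i h]
    · rw [partSwapFun_inl_ge i h, partSwapFun_inl_ge i h]
  · by_cases h : (i : ℕ) < k
    · rw [partSwapFun_inr_lt i h, partSwapFun_inl_lt i h]
    · rw [partSwapFun_inr_ge i h, partSwapFun_inr_ge i h]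

/-- the partial swap as a permutation -/
def partSwapPerm (k : ℕ) : Equiv.Perm (Fin (k + k) ⊕ Fin (k + k)) := (partSwapFun_involutive k).toPerm _

theorem partSwapPerm_apply (x : Fin (k + k) ⊕ Fin (k + k)) : partSwapPerm k x = partSwapFun k x := rfl

theorem partSwapPerm_symm : (partSwapPerm k).symm = partSwapPerm k := Function.Involutive.toPerm_symm _

theorem quadFormPlus_partSwap (v : Fin (k + k) ⊕ Fin (k + k) → F) :
    Cfsg.quadFormPlus (k + k) F (v ∘ partSwapPerm k) = Cfsg.quadFormPlus (k + k) F v := by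
  unfold Cfsg.quadFormPlus
  refine Finset.sum_congr rfl fun i _ => ?_
  show v (partSwapFun k (Sum.inl i)) * v (partSwapFun k (Sum.inr i)) = _
  by_cases h : (i : ℕ) < k
  · rw [partSwapFun_inl_lt i h, partSwapFun_inr_lt i h, mul_comm]
  · rw [partSwapFun_inl_ge i h, partSwapFun_inr_ge i h]

theorem quadFormPlus_sumCongr (τ : Equiv.Perm (Fin m)) (v : Fin m ⊕ Fin m → F) :
    Cfsg.quadFormPlus m F (v ∘ Equiv.sumCongr τ τ) = Cfsg.quadFormPlus m F v := by
  unfold Cfsg.quadFormPlus
  show ∑ i, v (Sum.inl (τ i)) * v (Sum.inr (τ i)) = _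
  exact Equiv.sum_comp τ (fun j => v (Sum.inl j) * v (Sum.inr j))

theorem quadFormPlus_sumComm (v : Fin m ⊕ Fin m → F) :
    Cfsg.quadFormPlus m F (v ∘ Equiv.sumComm (Fin m) (Fin m)) = Cfsg.quadFormPlus m F v := by
  unfold Cfsg.quadFormPlus
  refine Finset.sum_congr rfl fun i _ => ?_
  show v (Sum.inr i) * v (Sum.inl i) = _
  rw [mul_comm]

/-- the full swap `x ↔ y` as an isometry -/
def fullSwap (m : ℕ) (F : Type*) [Field F] : Cfsg.isometryGroup F (Cfsg.quadFormPlus m F) :=
  permIso (Cfsg.quadFormPlus m F) (Equiv.sumComm (Fin m) (Fin m)) quadFormPlus_sumComm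

theorem fullSwap_mulVec (v : Fin m ⊕ Fin m → F) :
    (((fullSwap m F : Cfsg.isometryGroup F (Cfsg.quadFormPlus m F)) : GL (Fin m ⊕ Fin m) F) :
      Matrix (Fin m ⊕ Fin m) (Fin m ⊕ Fin m) F) *ᵥ v = v ∘ Sum.swap :=
  permIso_mulVec _ _ _ v

theorem swap_identity (x : Fin (k + k) ⊕ Fin (k + k)) :
    (Equiv.sumCongr (halfShiftPerm k) (halfShiftPerm k)).symm ((partSwapPerm k).symm
      (Equiv.sumCongr (halfShiftPerm k) (halfShiftPerm k) (partSwapPerm k x))) = Equiv.sumComm _ _ x := by
  rw [partSwapPerm_symm, Equiv.sumCongr_symm, halfShiftPerm_symm]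
  rcases x with i | i
  · by_cases h : (i : ℕ) < k
    · have h' : ¬ ((halfShift k i : Fin (k + k)) : ℕ) < k := by rw [halfShift_lt]; exact not_not.2 h
      simp only [partSwapPerm_apply, Equiv.sumCongr_apply]
      rw [partSwapFun_inl_lt i h, Sum.map_inr, halfShiftPerm_apply, partSwapFun_inr_ge _ h', Sum.map_inr, halfShiftPerm_apply, halfShift_involutive]
      rfl
    · have h' : ((halfShift k i : Fin (k + k)) : ℕ) < k := by rw [halfShift_lt]; exact h
      simp only [partSwapPerm_apply, Equiv.sumCongr_apply]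
      rw [partSwapFun_inl_ge i h, Sum.map_inl, halfShiftPerm_apply, partSwapFun_inl_lt _ h', Sum.map_inr, halfShiftPerm_apply, halfShift_involutive]
      rfl
  · by_cases h : (i : ℕ) < k
    · have h' : ¬ ((halfShift k i : Fin (k + k)) : ℕ) < k := by rw [halfShift_lt]; exact not_not.2 h
      simp only [partSwapPerm_apply, Equiv.sumCongr_apply]
      rw [partSwapFun_inr_lt i h, Sum.map_inl, halfShiftPerm_apply, partSwapFun_inl_ge _ h', Sum.map_inl, halfShiftPerm_apply, halfShift_involutive]
      rfl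
    · have h' : ((halfShift k i : Fin (k + k)) : ℕ) < k := by rw [halfShift_lt]; exact h
      simp only [partSwapPerm_apply, Equiv.sumCongr_apply]
      rw [partSwapFun_inr_ge i h, Sum.map_inr, halfShiftPerm_apply, partSwapFun_inr_lt _ h', Sum.map_inl, halfShiftPerm_apply, halfShift_involutive]
      rfl

/-- in dimension `4k` the full swap is a commutator -/
theorem fullSwap_mem_Omega (k : ℕ) :
    fullSwap (k + k) F ∈ Cfsg.Omega F (Cfsg.quadFormPlus (k + k) F) := by
  set T := permIso (Cfsg.quadFormPlus (k + k) F) (partSwapPerm k) quadFormPlus_partSwap with hT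
  set P := permIso (Cfsg.quadFormPlus (k + k) F) (Equiv.sumCongr (halfShiftPerm k) (halfShiftPerm k))
    (quadFormPlus_sumCongr _) with hP
  have key : fullSwap (k + k) F = ⁅T, P⁆ := by
    rw [commutatorElement_def]
    apply isometry_ext
    intro v
    rw [isometry_mul_mulVec, isometry_mul_mulVec, isometry_mul_mulVec, hP, permIso_inv_mulVec, hT,
      permIso_inv_mulVec, permIso_mulVec, permIso_mulVec, fullSwap_mulVec]
    funext x
    show v (Sum.swap x) = v ((Equiv.sumCongr (halfShiftPerm k) (halfShiftPerm k)).symm ((partSwapPerm k).symm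
      (Equiv.sumCongr (halfShiftPerm k) (halfShiftPerm k) (partSwapPerm k x))))
    rw [swap_identity]
    rfl
  rw [key]
  exact Subgroup.commutator_mem_commutator (Subgroup.mem_top _) (Subgroup.mem_top _)

end swapeven

end Cfsg.Agent.Lib.Helper15
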