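import Mathlib
import Cfsg.Agent.Lib.Helper15.OPlus3
import Cfsg.Agent.Lib.Helper6.Hyperbolic2
set_option autoImplicit false
namespace Cfsg.Agent.Lib.Helper15

open Matrix Module QuadraticMap
open Cfsg.Agent.Lib.Helper6

section families
variable {F : Type*} [Field F] {m : ℕ}

theorem polar_plusQF (u v : Fin m ⊕ Fin m → F) :
    polar (plusQF m F) u v = ∑ i, (u (Sum.inl i) * v (Sum.inr i) + u (Sum.inr i) * v (Sum.inl i)) := by
  unfold polar
  rw [plusQF_apply, plusQF_apply, plusQF_apply, ← Finset.sum_sub_distrib, ← Finset.sum_sub_distrib]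
  refine Finset.sum_congr rfl fun i _ => ?_
  simp only [Pi.add_apply]
  ring

theorem nondegenerate_plusQF : (polarBilin (plusQF m F)).Nondegenerate := by
  classical
  have hleft : ∀ u : Fin m ⊕ Fin m → F, (∀ v, polar (plusQF m F) u v = 0) → u = 0 := by
    intro u hu
    funext j
    rcases j with j | j
    · have := hu (Pi.single (Sum.inr j) 1)
      rw [polar_plusQF] at this
      simpa [Pi.single_apply, Finset.sum_ite_eq] using this
    · have := hu (Pi.single (Sum.inl j) 1)
      rw [polar_plusQF] at this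
      simpa [Pi.single_apply, Finset.sum_ite_eq] using this
  constructor
  · intro u hu
    exact hleft u hu
  · intro u hu
    apply hleft u
    intro v
    rw [polar_comm]
    exact hu v

/-- the subspace `y = 0` -/
def plusE (m : ℕ) (F : Type*) [Field F] : Submodule F (Fin m ⊕ Fin m → F) :=
  LinearMap.ker (LinearMap.funLeft F F (Sum.inr : Fin m → Fin m ⊕ Fin m))

/-- the subspace `x = 0` -/
def plusE' (m : ℕ) (F : Type*) [Field F] : Submodule F (Fin m ⊕ Fin m → F) :=
  LinearMap.ker (LinearMap.funLeft F F (Sum.inl : Fin m → Fin m ⊕ Fin m))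

theorem mem_plusE (v : Fin m ⊕ Fin m → F) : v ∈ plusE m F ↔ ∀ i, v (Sum.inr i) = 0 := by
  unfold plusE
  rw [LinearMap.mem_ker]
  constructor
  · intro h i
    exact congrFun h i
  · intro h
    funext i
    exact h i

theorem mem_plusE' (v : Fin m ⊕ Fin m → F) : v ∈ plusE' m F ↔ ∀ i, v (Sum.inl i) = 0 := by
  unfold plusE'
  rw [LinearMap.mem_ker]
  constructor
  · intro h i
    exact congrFun h i
  · intro h
    funext i
    exact h i

theorem finrank_plus_space : finrank F (Fin m ⊕ Fin m → F) = 2 * m := by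
  rw [Module.finrank_fintype_fun_eq_card, Fintype.card_sum, Fintype.card_fin]
  ring

theorem finrank_plusE : finrank F (plusE m F) = m := by
  have h1 := LinearMap.finrank_range_add_finrank_ker (LinearMap.funLeft F F (Sum.inr : Fin m → Fin m ⊕ Fin m))
  have h2 : LinearMap.range (LinearMap.funLeft F F (Sum.inr : Fin m → Fin m ⊕ Fin m)) = ⊤ :=
    LinearMap.range_eq_top.2 (LinearMap.funLeft_surjective_of_injective F F _ Sum.inr_injective)
  rw [h2, finrank_top, Module.finrank_fintype_fun_eq_card, Fintype.card_fin, finrank_plus_space] at h1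
  unfold plusE
  omega

theorem finrank_plusE' : finrank F (plusE' m F) = m := by
  have h1 := LinearMap.finrank_range_add_finrank_ker (LinearMap.funLeft F F (Sum.inl : Fin m → Fin m ⊕ Fin m))
  have h2 : LinearMap.range (LinearMap.funLeft F F (Sum.inl : Fin m → Fin m ⊕ Fin m)) = ⊤ :=
    LinearMap.range_eq_top.2 (LinearMap.funLeft_surjective_of_injective F F _ Sum.inl_injective)
  rw [h2, finrank_top, Module.finrank_fintype_fun_eq_card, Fintype.card_fin, finrank_plus_space] at h1
  unfold plusE'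
  omega

theorem ts_plusE : TS (plusQF m F) (plusE m F) := by
  intro v hv
  rw [mem_plusE] at hv
  rw [plusQF_apply]
  apply Finset.sum_eq_zero
  intro i _
  rw [hv i, mul_zero]

theorem plusE_inf_plusE' : plusE m F ⊓ plusE' m F = ⊥ := by
  rw [eq_bot_iff]
  intro v hv
  rw [Submodule.mem_inf, mem_plusE, mem_plusE'] at hv
  rw [Submodule.mem_bot]
  funext j
  rcases j with j | j
  · exact hv.2 j
  · exact hv.1 j

/-- the linear automorphism of an element of `GL` -/
def glLin {ι : Type} [Fintype ι] [DecidableEq ι] (g : GL ι F) : (ι → F) ≃ₗ[F] (ι → F) :=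
  LinearEquiv.ofLinearMap (Matrix.toLin' (g : Matrix ι ι F)) (Matrix.toLin' ((g⁻¹ : GL ι F) : Matrix ι ι F))
    (by rw [← Matrix.toLin'_mul, ← Units.val_mul, mul_inv_cancel, Units.val_one, Matrix.toLin'_one])
    (by rw [← Matrix.toLin'_mul, ← Units.val_mul, inv_mul_cancel, Units.val_one, Matrix.toLin'_one])

theorem glLin_apply {ι : Type} [Fintype ι] [DecidableEq ι] (g : GL ι F) (v : ι → F) :
    glLin g v = (g : Matrix ι ι F) *ᵥ v := rfl

/-- image of a subspace under an element of `GL` -/
def glMap {ι : Type} [Fintype ι] [DecidableEq ι] (g : GL ι F) (U : Submodule F (ι → F)) : Submodule F (ι → F) :=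
  U.map ((glLin g : (ι → F) ≃ₗ[F] (ι → F)) : (ι → F) →ₗ[F] (ι → F))

theorem mem_glMap {ι : Type} [Fintype ι] [DecidableEq ι] (g : GL ι F) (U : Submodule F (ι → F)) (w : ι → F) :
    w ∈ glMap g U ↔ ∃ v ∈ U, (g : Matrix ι ι F) *ᵥ v = w := by
  unfold glMap
  rw [Submodule.mem_map]
  rfl

theorem glMap_one {ι : Type} [Fintype ι] [DecidableEq ι] (U : Submodule F (ι → F)) : glMap (1 : GL ι F) U = U := by
  ext w
  rw [mem_glMap]
  constructor
  · rintro ⟨v, hv, rfl⟩
    rw [Units.val_one, Matrix.one_mulVec]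
    exact hv
  · intro hw
    exact ⟨w, hw, by rw [Units.val_one, Matrix.one_mulVec]⟩

theorem glMap_mul {ι : Type} [Fintype ι] [DecidableEq ι] (g h : GL ι F) (U : Submodule F (ι → F)) :
    glMap (g * h) U = glMap g (glMap h U) := by
  ext w
  rw [mem_glMap, mem_glMap]
  constructor
  · rintro ⟨v, hv, rfl⟩
    refine ⟨(h : Matrix ι ι F) *ᵥ v, (mem_glMap h U _).2 ⟨v, hv, rfl⟩, ?_⟩
    rw [Matrix.mulVec_mulVec, Units.val_mul]
  · rintro ⟨u, hu, rfl⟩
    obtain ⟨v, hv, rfl⟩ := (mem_glMap h U u).1 hu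
    refine ⟨v, hv, ?_⟩
    rw [Matrix.mulVec_mulVec, Units.val_mul]

theorem finrank_glMap {ι : Type} [Fintype ι] [DecidableEq ι] (g : GL ι F) (U : Submodule F (ι → F)) :
    finrank F (glMap g U) = finrank F U :=
  LinearEquiv.finrank_map_eq (glLin g) U

theorem glMap_inf {ι : Type} [Fintype ι] [DecidableEq ι] (g : GL ι F) (U W : Submodule F (ι → F)) :
    glMap g (U ⊓ W) = glMap g U ⊓ glMap g W :=
  Submodule.map_inf _ (glLin g).injective

theorem ts_glMap (g : Cfsg.isometryGroup F (Cfsg.quadFormPlus m F)) (U : Submodule F (Fin m ⊕ Fin m → F))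
    (hU : TS (plusQF m F) U) : TS (plusQF m F) (glMap g.1 U) := by
  intro w hw
  obtain ⟨v, hv, rfl⟩ := (mem_glMap g.1 U w).1 hw
  have h1 := (mem_isometryGroup_iff (Cfsg.quadFormPlus m F) g.1).1 g.2 v
  have h2 : plusQF m F ((g.1 : Matrix (Fin m ⊕ Fin m) (Fin m ⊕ Fin m) F) *ᵥ v) = plusQF m F v := by
    rw [congrFun coe_plusQF, congrFun coe_plusQF]
    exact h1
  rw [h2]
  exact hU v hv

/-- exponent of the family character -/
noncomputable def famExp (g : Cfsg.isometryGroup F (Cfsg.quadFormPlus m F)) : ℕ :=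
  m - finrank F ↥(plusE m F ⊓ glMap g.1 (plusE m F))

theorem famExp_mul (g h : Cfsg.isometryGroup F (Cfsg.quadFormPlus m F)) :
    Even (famExp g + famExp h + famExp (g * h)) := by
  have key := parity_three (plusQF m F) nondegenerate_plusQF m finrank_plus_space
    (m - finrank F ↥(plusE m F ⊓ glMap g.1 (plusE m F))) (plusE m F) (glMap g.1 (plusE m F))
    (glMap (g * h).1 (plusE m F)) ts_plusE finrank_plusE (ts_glMap g _ ts_plusE)
    ((finrank_glMap g.1 _).trans finrank_plusE) (ts_glMap (g * h) _ ts_plusE)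
    ((finrank_glMap (g * h).1 _).trans finrank_plusE) rfl
  have h1 : glMap g.1 (plusE m F) ⊓ glMap (g * h).1 (plusE m F) = glMap g.1 (plusE m F ⊓ glMap h.1 (plusE m F)) := by
    rw [glMap_inf]
    congr 1
    exact glMap_mul g.1 h.1 _
  rw [h1, finrank_glMap] at key
  exact key

/-- the action on the two families of maximal totally singular subspaces -/
noncomputable def famHom (m : ℕ) (F : Type*) [Field F] :
    Cfsg.isometryGroup F (Cfsg.quadFormPlus m F) →* ℤˣ where
  toFun g := (-1) ^ famExp g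
  map_one' := by
    have : famExp (1 : Cfsg.isometryGroup F (Cfsg.quadFormPlus m F)) = 0 := by
      unfold famExp
      have h1 : glMap (1 : Cfsg.isometryGroup F (Cfsg.quadFormPlus m F)).1 (plusE m F) = plusE m F := glMap_one _
      rw [h1, inf_idem, finrank_plusE, Nat.sub_self]
    rw [this, pow_zero]
  map_mul' g h := by
    have h1 := (famExp_mul g h).neg_one_pow (α := ℤˣ)
    rw [pow_add, pow_add] at h1
    have h2 := eq_inv_of_mul_eq_one_left h1
    rw [Int.units_inv_eq_self] at h2
    exact h2.symm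

theorem famHom_apply (g : Cfsg.isometryGroup F (Cfsg.quadFormPlus m F)) : famHom m F g = (-1) ^ famExp g := rfl

/-- an element of `Ω⁺_{2m}` mapping `{y = 0}` into `{x = 0}` exists only for even `m` -/
theorem even_of_swap_mem_Omega (g : Cfsg.isometryGroup F (Cfsg.quadFormPlus m F))
    (hg : g ∈ Cfsg.Omega F (Cfsg.quadFormPlus m F))
    (h1 : ∀ v : Fin m ⊕ Fin m → F, (∀ i, v (Sum.inr i) = 0) →
      ∀ i, (((g : GL (Fin m ⊕ Fin m) F) : Matrix (Fin m ⊕ Fin m) (Fin m ⊕ Fin m) F) *ᵥ v) (Sum.inl i) = 0) :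
    Even m := by
  have h2 : g ∈ (famHom m F).ker := Abelianization.commutator_subset_ker (famHom m F) hg
  rw [MonoidHom.mem_ker, famHom_apply] at h2
  have hle : glMap g.1 (plusE m F) ≤ plusE' m F := by
    intro w hw
    obtain ⟨v, hv, rfl⟩ := (mem_glMap g.1 _ w).1 hw
    rw [mem_plusE'] 
    exact h1 v ((mem_plusE v).1 hv)
  have heq : glMap g.1 (plusE m F) = plusE' m F := by
    apply Submodule.eq_of_le_of_finrank_eq hle
    rw [finrank_glMap, finrank_plusE, finrank_plusE']
  have h3 : famExp g = m := by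
    unfold famExp
    rw [heq, plusE_inf_plusE', finrank_bot, Nat.sub_zero]
  rw [h3] at h2
  exact (neg_one_pow_eq_one_iff_even (by decide)).1 h2

end families

end Cfsg.Agent.Lib.Helper15
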