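import Mathlib
import Cfsg.Prelude.Def_GeometricClasses

/-!
# Decompositions permuted by an endomorphism: a small calculus
-/

set_option autoImplicit false

namespace Cfsg.Agent.Lib.Helper15.PDec

open Module Submodule

section basic

variable {F V : Type*} [Field F] [AddCommGroup V] [Module F V]

/-- `W` is the internal direct sum of the `D j` (`j : κ`), each of dimension `a`, and `y` permutes
the `D j` via `σ`. -/
def PD (y : V →ₗ[F] V) (a : ℕ) (W : Submodule F V) {κ : Type} (σ : Equiv.Perm κ) : Prop :=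
  ∃ D : κ → Submodule F V, (∀ j, finrank F (D j) = a) ∧ iSupIndep D ∧ iSup D = W ∧
    ∀ j, (D j).map y = D (σ j)

theorem PD.single (y : V →ₗ[F] V) (a : ℕ) (W : Submodule F V) (hW : finrank F W = a)
    (hy : W.map y = W) : PD y a W (1 : Equiv.Perm Unit) :=
  ⟨fun _ => W, fun _ => hW, iSupIndep_subsingleton _, iSup_const, fun _ => hy⟩

theorem PD.empty (y : V →ₗ[F] V) (a : ℕ) : PD y a ⊥ (1 : Equiv.Perm Empty) :=
  ⟨fun e => e.elim, fun e => e.elim, iSupIndep_subsingleton _, iSup_of_empty _, fun e => e.elim⟩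

theorem PD.series {κ₁ κ₂ : Type} {σ₁ : Equiv.Perm κ₁} {σ₂ : Equiv.Perm κ₂} {y : V →ₗ[F] V}
    {a : ℕ} {U W : Submodule F V} (h₁ : PD y a U σ₁) (h₂ : PD y a W σ₂) (hd : Disjoint U W) :
    PD y a (U ⊔ W) (Equiv.sumCongr σ₁ σ₂) := by
  obtain ⟨D₁, hD₁f, hD₁i, hD₁s, hD₁m⟩ := h₁
  obtain ⟨D₂, hD₂f, hD₂i, hD₂s, hD₂m⟩ := h₂
  refine ⟨Sum.elim D₁ D₂, ?_, ?_, ?_, ?_⟩
  · rintro (j | j)
    · exact hD₁f j
    · exact hD₂f j
  · rw [iSupIndep_def]
    rintro (i | i)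
    · have hle : (⨆ (j : κ₁ ⊕ κ₂) (_ : j ≠ Sum.inl i), Sum.elim D₁ D₂ j) ≤
          (⨆ (j : κ₁) (_ : j ≠ i), D₁ j) ⊔ W := by
        apply iSup₂_le
        rintro (j | j) hj
        · have hji : j ≠ i := fun h => hj (by rw [h])
          exact le_sup_of_le_left (le_iSup₂_of_le j hji le_rfl)
        · exact le_sup_of_le_right (by rw [← hD₂s]; exact le_iSup D₂ j)
      refine Disjoint.mono_right hle ?_
      apply Disjoint.disjoint_sup_right_of_disjoint_sup_left ((iSupIndep_def.mp hD₁i) i)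
      refine Disjoint.mono_left ?_ hd
      rw [← hD₁s]
      exact sup_le (le_iSup D₁ i) (iSup₂_le fun j _ => le_iSup D₁ j)
    · have hle : (⨆ (j : κ₁ ⊕ κ₂) (_ : j ≠ Sum.inr i), Sum.elim D₁ D₂ j) ≤
          (⨆ (j : κ₂) (_ : j ≠ i), D₂ j) ⊔ U := by
        apply iSup₂_le
        rintro (j | j) hj
        · exact le_sup_of_le_right (by rw [← hD₁s]; exact le_iSup D₁ j)
        · have hji : j ≠ i := fun h => hj (by rw [h])
          exact le_sup_of_le_left (le_iSup₂_of_le j hji le_rfl)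
      refine Disjoint.mono_right hle ?_
      apply Disjoint.disjoint_sup_right_of_disjoint_sup_left ((iSupIndep_def.mp hD₂i) i)
      refine Disjoint.mono_left ?_ hd.symm
      rw [← hD₂s]
      exact sup_le (le_iSup D₂ i) (iSup₂_le fun j _ => le_iSup D₂ j)
  · rw [iSup_sum]
    simp only [Sum.elim_inl, Sum.elim_inr]
    rw [← hD₁s, ← hD₂s]
  · rintro (j | j)
    · exact hD₁m j
    · exact hD₂m j

theorem PD.parallel {κ : Type} {σ : Equiv.Perm κ} {y : V →ₗ[F] V}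
    {a₁ a₂ : ℕ} {U W : Submodule F V} [FiniteDimensional F V]
    (h₁ : PD y a₁ U σ) (h₂ : PD y a₂ W σ) (hd : Disjoint U W) :
    PD y (a₁ + a₂) (U ⊔ W) σ := by
  obtain ⟨D₁, hD₁f, hD₁i, hD₁s, hD₁m⟩ := h₁
  obtain ⟨D₂, hD₂f, hD₂i, hD₂s, hD₂m⟩ := h₂
  have hU : ∀ j, D₁ j ≤ U := fun j => by rw [← hD₁s]; exact le_iSup D₁ j
  have hW : ∀ j, D₂ j ≤ W := fun j => by rw [← hD₂s]; exact le_iSup D₂ j
  refine ⟨fun j => D₁ j ⊔ D₂ j, ?_, ?_, ?_, ?_⟩
  · intro j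
    have h1 : D₁ j ⊓ D₂ j = ⊥ := by
      rw [eq_bot_iff, ← hd.eq_bot]
      exact inf_le_inf (hU j) (hW j)
    have h3 := Submodule.finrank_sup_add_finrank_inf_eq (D₁ j) (D₂ j)
    rw [h1, finrank_bot, add_zero, hD₁f, hD₂f] at h3
    exact h3
  · rw [iSupIndep_def]
    intro i
    have hle : (⨆ (j : κ) (_ : j ≠ i), (D₁ j ⊔ D₂ j)) ≤
        (⨆ (j : κ) (_ : j ≠ i), D₁ j) ⊔ (⨆ (j : κ) (_ : j ≠ i), D₂ j) := by
      apply iSup₂_le
      intro j hj
      exact sup_le_sup (le_iSup₂_of_le j hj le_rfl) (le_iSup₂_of_le j hj le_rfl)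
    refine Disjoint.mono_right hle ?_
    have hA₁ : (⨆ (j : κ) (_ : j ≠ i), D₁ j) ≤ U := iSup₂_le fun j _ => hU j
    have hA₂ : (⨆ (j : κ) (_ : j ≠ i), D₂ j) ≤ W := iSup₂_le fun j _ => hW j
    have hd₁ := (iSupIndep_def.mp hD₁i) i
    have hd₂ := (iSupIndep_def.mp hD₂i) i
    rw [Submodule.disjoint_def] at hd₁ hd₂ hd ⊢
    intro v hv hv'
    obtain ⟨p₁, hp₁, p₂, hp₂, rfl⟩ := Submodule.mem_sup.mp hv
    obtain ⟨q₁, hq₁, q₂, hq₂, hq⟩ := Submodule.mem_sup.mp hv'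
    have h0 : p₁ - q₁ = 0 := by
      apply hd (p₁ - q₁) (U.sub_mem (hU i hp₁) (hA₁ hq₁))
      have : p₁ - q₁ = q₂ - p₂ := by
        rw [sub_eq_sub_iff_add_eq_add, hq.symm.trans (add_comm q₁ q₂)]
      rw [this]
      exact W.sub_mem (hA₂ hq₂) (hW i hp₂)
    have h0' : p₂ - q₂ = 0 := by
      have : p₂ - q₂ = q₁ - p₁ := by
        rw [sub_eq_sub_iff_add_eq_add, add_comm p₂ p₁]
        exact hq.symm
      rw [this, ← neg_sub, h0, neg_zero]
    have hp₁0 : p₁ = 0 := hd₁ p₁ hp₁ (by rw [sub_eq_zero.mp h0]; exact hq₁)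
    have hp₂0 : p₂ = 0 := hd₂ p₂ hp₂ (by rw [sub_eq_zero.mp h0']; exact hq₂)
    rw [hp₁0, hp₂0, add_zero]
  · rw [iSup_sup_eq]
    show iSup D₁ ⊔ iSup D₂ = U ⊔ W
    rw [hD₁s, hD₂s]
  · intro j
    rw [Submodule.map_sup, hD₁m, hD₂m]

/-- A linearly independent family permuted up to nonzero scalars. -/
theorem PD.mono {ι : Type} (v : ι → V) (hli : LinearIndependent F v) (σ : Equiv.Perm ι)
    (c : ι → F) (hc : ∀ i, c i ≠ 0) (y : V →ₗ[F] V) (hy : ∀ i, y (v i) = c i • v (σ i)) :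
    PD y 1 (span F (Set.range v)) σ := by
  refine ⟨fun i => span F {v i}, ?_, hli.iSupIndep_span_singleton, ?_, ?_⟩
  · intro i
    exact finrank_span_singleton (hli.ne_zero i)
  · exact (Submodule.span_range_eq_iSup).symm
  · intro i
    rw [Submodule.map_span, Set.image_singleton, hy,
      Submodule.span_singleton_smul_eq (IsUnit.mk0 _ (hc i))]

theorem PD.congr {κ : Type} {σ : Equiv.Perm κ} {y : V →ₗ[F] V} {a a' : ℕ} {W W' : Submodule F V}
    (h : PD y a W σ) (ha : a = a') (hW : W = W') : PD y a' W' σ := by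
  subst ha; subst hW; exact h

/-- scaling the endomorphism by a nonzero scalar. -/
theorem PD.smul {κ : Type} {σ : Equiv.Perm κ} {y : V →ₗ[F] V} {a : ℕ} {W : Submodule F V}
    (h : PD y a W σ) (μ : F) (hμ : μ ≠ 0) : PD (μ • y) a W σ := by
  obtain ⟨D, h1, h2, h3, h4⟩ := h
  refine ⟨D, h1, h2, h3, fun j => ?_⟩
  rw [Submodule.map_smul _ _ μ hμ, h4]

end basic

section final

variable {F : Type*} [Field F]

/-- Conversion to the statement's form. -/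
theorem PD.toFin {κ : Type} [Fintype κ] {n t a : ℕ} (ht : 2 ≤ t) (ha : 0 < a)
    (hκ : Fintype.card κ = t) (y : (Fin n → F) →ₗ[F] (Fin n → F)) (σ : Equiv.Perm κ)
    (h : PD y a ⊤ σ) :
    ∃ D : Fin t → Submodule F (Fin n → F), Cfsg.Geo.IsMDecomposition a D ∧
      ∃ τ : Equiv.Perm (Fin t), ∀ j, (D j).map y = D (τ j) := by
  obtain ⟨D, h1, h2, h3, h4⟩ := h
  obtain ⟨e⟩ : Nonempty (κ ≃ Fin t) := ⟨Fintype.equivFinOfCardEq hκ⟩
  refine ⟨fun j => D (e.symm j), ⟨ht, ha, fun j => h1 _, h2.comp e.symm.injective, ?_⟩,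
    e.symm.trans (σ.trans e), fun j => ?_⟩
  · show (⨆ j, D (e.symm j)) = ⊤
    rw [← h3]
    exact e.symm.iSup_comp (g := D)
  · rw [h4]
    simp

end final

end Cfsg.Agent.Lib.Helper15.PDec
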