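import Mathlib

/-!
# Block theory for a semisimple endomorphism killed (on a subspace) by a polynomial all of whose
irreducible factors have the same degree `e`.
-/

set_option autoImplicit false

namespace Cfsg.Agent.Lib.Helper15.PSub

open Module Polynomial

section block

variable {F V : Type*} [Field F] [AddCommGroup V] [Module F V]

theorem pow_mem_of_invt (f : V →ₗ[F] V) {W : Submodule F V}
    (hW : W ∈ Module.End.invtSubmodule f) (n : ℕ) {w : V} (hw : w ∈ W) : (f ^ n) w ∈ W := by
  induction n generalizing w with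
  | zero => simpa using hw
  | succ n ih =>
    rw [pow_succ, Module.End.mul_apply]
    exact ih (hW hw)

/-- polynomials in `f` preserve `f`-invariant subspaces. -/
theorem aeval_mem_of_invt (f : V →ₗ[F] V) {W : Submodule F V}
    (hW : W ∈ Module.End.invtSubmodule f) (h : F[X]) {w : V} (hw : w ∈ W) :
    aeval f h w ∈ W := by
  induction h using Polynomial.induction_on' with
  | add p q hp hq =>
    rw [map_add, LinearMap.add_apply]
    exact W.add_mem hp hq
  | monomial n a =>
    rw [aeval_monomial, Module.End.mul_apply, Module.algebraMap_end_apply]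
    exact W.smul_mem _ (pow_mem_of_invt f hW n hw)

theorem aeval_mul_apply (f : V →ₗ[F] V) (g h : F[X]) (v : V) :
    aeval f (g * h) v = aeval f g (aeval f h v) := by
  rw [map_mul, Module.End.mul_apply]

/-- The cyclic subspace generated by `v` when `P(f) v = 0` with `P` irreducible has dimension
`deg P`. -/
theorem exists_cyclic (f : V →ₗ[F] V) (P : F[X]) (hP : Irreducible P) (v : V) (hv : v ≠ 0)
    (hPv : aeval f P v = 0) :
    ∃ W' : Submodule F V, W' ∈ Module.End.invtSubmodule f ∧ v ∈ W' ∧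
      finrank F W' = P.natDegree ∧
      ∀ W : Submodule F V, W ∈ Module.End.invtSubmodule f → v ∈ W → W' ≤ W := by
  classical
  let ψ : F[X] →ₗ[F] V := (LinearMap.applyₗ v).comp (aeval f).toLinearMap
  have hψ : ∀ h : F[X], ψ h = aeval f h v := fun h => rfl
  have hP0 : P ≠ 0 := hP.ne_zero
  set e := P.natDegree with he
  have hψP : ∀ g : F[X], ψ (P * g) = 0 := by
    intro g
    rw [hψ, mul_comm, aeval_mul_apply, hPv, map_zero]
  have hmod : ∀ h : F[X], ψ h = ψ (h % P) := by
    intro h
    conv_lhs => rw [← EuclideanDomain.div_add_mod h P]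
    rw [map_add, hψP, zero_add]
  have hmodmem : ∀ h : F[X], h % P ∈ degreeLT F e := by
    intro h
    rw [mem_degreeLT]
    have := degree_mod_lt h hP0
    rwa [degree_eq_natDegree hP0] at this
  have hinj : ∀ h ∈ degreeLT F e, ψ h = 0 → h = 0 := by
    intro h hh h0
    by_contra hne
    rcases EuclideanDomain.dvd_or_coprime P h hP with hd | hc
    · have h1 := natDegree_le_of_dvd hd hne
      rw [mem_degreeLT, degree_eq_natDegree hne, Nat.cast_lt] at hh
      omega
    · obtain ⟨a, b, hab⟩ := hc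
      have h2 : ψ 1 = 0 := by
        rw [← hab, map_add, mul_comm a P, hψP, zero_add, hψ, aeval_mul_apply, ← hψ h, h0, map_zero]
      rw [hψ, map_one, Module.End.one_apply] at h2
      exact hv h2
  refine ⟨Submodule.map ψ (degreeLT F e), ?_, ?_, ?_, ?_⟩
  · rw [Module.End.mem_invtSubmodule]
    rintro _ ⟨h, hh, rfl⟩
    rw [Submodule.mem_comap]
    have h1 : f (ψ h) = ψ (X * h) := by
      rw [hψ, hψ, aeval_mul_apply, aeval_X]
    rw [h1, hmod]
    exact ⟨_, hmodmem _, rfl⟩
  · refine ⟨1 % P, hmodmem _, ?_⟩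
    rw [← hmod, hψ, map_one, Module.End.one_apply]
  · have h1 : Function.Injective (ψ.domRestrict (degreeLT F e)) := by
      rw [← LinearMap.ker_eq_bot, LinearMap.ker_eq_bot']
      intro h hh
      apply Subtype.ext
      exact hinj h.1 h.2 hh
    have h2 : LinearMap.range (ψ.domRestrict (degreeLT F e)) = Submodule.map ψ (degreeLT F e) :=
      LinearMap.range_domRestrict _ _
    rw [← h2, LinearMap.finrank_range_of_inj h1, LinearEquiv.finrank_eq (degreeLTEquiv F e),
      Module.finrank_fin_fun]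
  · rintro W hW hvW _ ⟨h, _, rfl⟩
    rw [hψ]
    exact aeval_mem_of_invt f hW h hvW

/-- A nonzero vector killed by `Q(f)` yields a nonzero vector, in any invariant subspace containing
it, killed by `P(f)` for an irreducible factor `P` of `Q`. -/
theorem exists_irreducible_killer (f : V →ₗ[F] V) (Q : F[X]) (hQ0 : Q ≠ 0) (w : V) (hw : w ≠ 0)
    (hQw : aeval f Q w = 0) :
    ∃ P : F[X], Irreducible P ∧ P ∣ Q ∧ ∃ v : V, v ≠ 0 ∧ aeval f P v = 0 ∧
      ∀ W : Submodule F V, W ∈ Module.End.invtSubmodule f → w ∈ W → v ∈ W := by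
  classical
  -- pick `g ≠ 0` of minimal degree killing `w`
  have hex : ∃ d : ℕ, ∃ g : F[X], g ≠ 0 ∧ aeval f g w = 0 ∧ g.natDegree = d :=
    ⟨_, Q, hQ0, hQw, rfl⟩
  obtain ⟨g, hg0, hgw, hgd⟩ := Nat.find_spec hex
  have hmin : ∀ h : F[X], h ≠ 0 → aeval f h w = 0 → g.natDegree ≤ h.natDegree := by
    intro h hh0 hhw
    rw [hgd]
    exact Nat.find_min' hex ⟨h, hh0, hhw, rfl⟩
  have hgQ : g ∣ Q := by
    rw [← EuclideanDomain.mod_eq_zero]
    by_contra hne
    have h1 : aeval f (Q % g) w = 0 := by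
      have h2 : Q % g = Q - g * (Q / g) := by
        rw [eq_sub_iff_add_eq, add_comm, EuclideanDomain.div_add_mod]
      rw [h2, map_sub, LinearMap.sub_apply, hQw, mul_comm, aeval_mul_apply, hgw, map_zero,
        sub_zero]
    have h3 := hmin _ hne h1
    have h4 : (Q % g).degree < g.degree := degree_mod_lt Q hg0
    rw [degree_eq_natDegree hne, degree_eq_natDegree hg0, Nat.cast_lt] at h4
    omega
  have hgu : ¬ IsUnit g := by
    intro hu
    obtain ⟨c, hc, rfl⟩ := Polynomial.isUnit_iff.mp hu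
    rw [aeval_C, Module.algebraMap_end_apply] at hgw
    exact hw ((smul_eq_zero.mp hgw).resolve_left hc.ne_zero)
  obtain ⟨P, hP, g', rfl⟩ := WfDvdMonoid.exists_irreducible_factor hgu hg0
  have hg'0 : g' ≠ 0 := right_ne_zero_of_mul hg0
  refine ⟨P, hP, (Dvd.intro _ rfl).trans hgQ, aeval f g' w, ?_, ?_, ?_⟩
  · intro h0
    have h1 := hmin g' hg'0 h0
    rw [natDegree_mul hP.ne_zero hg'0] at h1
    have h2 : 0 < P.natDegree := hP.natDegree_pos
    omega
  · rw [← aeval_mul_apply]
    exact hgw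
  · intro W hW hwW
    exact aeval_mem_of_invt f hW g' hwW

/-- **Lemma A**: a nonzero invariant subspace killed by `Q(f)` contains an invariant subspace of
dimension `e`, if every irreducible factor of `Q` has degree `e`. -/
theorem exists_block (f : V →ₗ[F] V) (Q : F[X]) (hQ0 : Q ≠ 0) (e : ℕ)
    (hQ : ∀ P : F[X], Irreducible P → P ∣ Q → P.natDegree = e)
    (W : Submodule F V) (hW : W ∈ Module.End.invtSubmodule f) (hWne : W ≠ ⊥)
    (hWQ : ∀ w ∈ W, aeval f Q w = 0) :
    ∃ W' : Submodule F V, W' ≤ W ∧ W' ∈ Module.End.invtSubmodule f ∧ finrank F W' = e := by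
  obtain ⟨w, hwW, hw0⟩ := Submodule.exists_mem_ne_zero_of_ne_bot hWne
  obtain ⟨P, hP, hPQ, v, hv0, hPv, hvW⟩ := exists_irreducible_killer f Q hQ0 w hw0 (hWQ w hwW)
  obtain ⟨W', hW'inv, _, hW'dim, hW'min⟩ := exists_cyclic f P hP v hv0 hPv
  exact ⟨W', hW'min W hW (hvW W hW hwW), hW'inv, by rw [hW'dim, hQ P hP hPQ]⟩

variable [FiniteDimensional F V]

/-- complement of an invariant subspace inside an invariant subspace, for semisimple `f`. -/
theorem exists_compl_in (f : V →ₗ[F] V) (hss : Module.End.IsSemisimple f) (W W' : Submodule F V)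
    (hW : W ∈ Module.End.invtSubmodule f) (hW' : W' ∈ Module.End.invtSubmodule f) (hle : W' ≤ W) :
    ∃ W'' : Submodule F V, W'' ≤ W ∧ W'' ∈ Module.End.invtSubmodule f ∧ W' ⊓ W'' = ⊥ ∧
      W' ⊔ W'' = W ∧ finrank F W = finrank F W' + finrank F W'' := by
  obtain ⟨C, hC, hcompl⟩ := Module.End.isSemisimple_iff.mp hss W' hW'
  refine ⟨W ⊓ C, inf_le_left, Module.End.invtSubmodule.inf_mem hW hC, ?_, ?_, ?_⟩
  · rw [eq_bot_iff]
    calc W' ⊓ (W ⊓ C) ≤ W' ⊓ C := inf_le_inf_left _ inf_le_right
      _ = ⊥ := hcompl.inf_eq_bot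
  · rw [inf_comm W C, ← sup_inf_assoc_of_le C hle, hcompl.sup_eq_top, top_inf_eq]
  · have h1 : W' ⊓ (W ⊓ C) = ⊥ := by
      rw [eq_bot_iff]
      calc W' ⊓ (W ⊓ C) ≤ W' ⊓ C := inf_le_inf_left _ inf_le_right
        _ = ⊥ := hcompl.inf_eq_bot
    have h2 : W' ⊔ (W ⊓ C) = W := by
      rw [inf_comm W C, ← sup_inf_assoc_of_le C hle, hcompl.sup_eq_top, top_inf_eq]
    have h3 := Submodule.finrank_sup_add_finrank_inf_eq W' (W ⊓ C)
    rw [h1, h2, finrank_bot, add_zero] at h3
    exact h3

/-- **Lemma B**: `e` divides the dimension of every invariant subspace killed by `Q(f)`. -/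
theorem dvd_finrank_of_killed (f : V →ₗ[F] V) (hss : Module.End.IsSemisimple f) (Q : F[X]) (hQ0 : Q ≠ 0)
    (e : ℕ) (hQ : ∀ P : F[X], Irreducible P → P ∣ Q → P.natDegree = e)
    (W : Submodule F V) (hW : W ∈ Module.End.invtSubmodule f)
    (hWQ : ∀ w ∈ W, aeval f Q w = 0) : e ∣ finrank F W := by
  induction hd : finrank F W using Nat.strong_induction_on generalizing W with
  | _ d ih =>
    by_cases hWne : W = ⊥
    · rw [← hd, hWne, finrank_bot]
      exact dvd_zero e
    · obtain ⟨W', hle, hW'inv, hW'dim⟩ := exists_block f Q hQ0 e hQ W hW hWne hWQ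
      obtain ⟨W'', hle'', hW''inv, _, _, hdim⟩ := exists_compl_in f hss W W' hW hW'inv hle
      have he : 0 < e := by
        by_contra h0
        have he0 : e = 0 := by omega
        -- then `W' = ⊥`, but `exists_block` could still return it; use positivity of irreducible
        -- degrees instead
        obtain ⟨w, hwW, hw0⟩ := Submodule.exists_mem_ne_zero_of_ne_bot hWne
        obtain ⟨P, hP, hPQ, _⟩ := exists_irreducible_killer f Q hQ0 w hw0 (hWQ w hwW)
        have := hP.natDegree_pos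
        rw [hQ P hP hPQ] at this
        omega
      have h1 : finrank F W'' < d := by omega
      have h2 := ih _ h1 W'' hW''inv (fun w hw => hWQ w (hle'' hw)) rfl
      rw [← hd, hdim, hW'dim]
      exact Dvd.dvd.add (dvd_refl e) h2

/-- **Lemma C**: invariant subspaces of every dimension `j * e ≤ dim W` inside `W`. -/
theorem exists_invt_of_mul (f : V →ₗ[F] V) (hss : Module.End.IsSemisimple f) (Q : F[X]) (hQ0 : Q ≠ 0)
    (e : ℕ) (hQ : ∀ P : F[X], Irreducible P → P ∣ Q → P.natDegree = e)
    (W : Submodule F V) (hW : W ∈ Module.End.invtSubmodule f)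
    (hWQ : ∀ w ∈ W, aeval f Q w = 0) (j : ℕ) (hj : j * e ≤ finrank F W) :
    ∃ B : Submodule F V, B ≤ W ∧ B ∈ Module.End.invtSubmodule f ∧ finrank F B = j * e := by
  induction j with
  | zero => exact ⟨⊥, bot_le, Module.End.invtSubmodule.bot_mem f, by simp⟩
  | succ j ih =>
    obtain ⟨B, hBW, hBinv, hBdim⟩ := ih (by nlinarith)
    obtain ⟨B', hB'W, hB'inv, hinf, hsup, hdim⟩ := exists_compl_in f hss W B hW hBinv hBW
    by_cases he : e = 0
    · exact ⟨⊥, bot_le, Module.End.invtSubmodule.bot_mem f, by simp [he]⟩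
    have hB'ne : B' ≠ ⊥ := by
      intro h0
      rw [h0, finrank_bot, add_zero, hBdim] at hdim
      have : 0 < e := Nat.pos_of_ne_zero he
      nlinarith
    obtain ⟨W', hle, hW'inv, hW'dim⟩ :=
      exists_block f Q hQ0 e hQ B' hB'inv hB'ne (fun w hw => hWQ w (hB'W hw))
    refine ⟨B ⊔ W', sup_le hBW (hle.trans hB'W), Module.End.invtSubmodule.sup_mem hBinv hW'inv, ?_⟩
    have h1 : B ⊓ W' = ⊥ := by
      rw [eq_bot_iff, ← hinf]
      exact inf_le_inf_left _ hle
    have h3 := Submodule.finrank_sup_add_finrank_inf_eq B W'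
    rw [h1, finrank_bot, add_zero, hBdim, hW'dim] at h3
    rw [h3]
    ring

end block

end Cfsg.Agent.Lib.Helper15.PSub
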