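import Mathlib
import Cfsg.Agent.Lib.Helper15.PSub2

/-!
# Endomorphisms of prime order `r` over a finite field of characteristic `≠ r`
-/

set_option autoImplicit false

namespace Cfsg.Agent.Lib.Helper15.PSub

open Module Polynomial

section cyc

variable {F : Type*} [Field F] [Fintype F]

/-- irreducible factors of the `r`-th cyclotomic polynomial over a finite field of order `q` have
degree `ord_r(q)`. -/
theorem cyclotomic_factor_degree (p : ℕ) [hp : Fact p.Prime] [CharP F p] (r : ℕ)
    (hr : r.Prime) (hrp : r ≠ p) (P : F[X]) (hP : Irreducible P) (hPd : P ∣ cyclotomic r F) :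
    P.natDegree = orderOf ((Fintype.card F : ℕ) : ZMod r) := by
  obtain ⟨⟨f, hf0⟩, -, hf⟩ := FiniteField.card F p
  have hcop : p.Coprime r := (Nat.coprime_primes hp.out hr).mpr (Ne.symm hrp)
  have h1 := natDegree_of_dvd_cyclotomic_of_irreducible (K := F) (p := p) (f := f) (n := r)
    hf hcop hPd hP
  rw [h1, ← orderOf_units, ZMod.coe_unitOfCoprime, hf]
  simp

end cyc

section ord

variable {F V : Type*} [Field F] [AddCommGroup V] [Module F V]

theorem isSemisimple_of_pow_eq_smul (f : V →ₗ[F] V) (r : ℕ) (hr0 : (r : F) ≠ 0) (c : F)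
    (hc : c ≠ 0) (hf : f ^ r = c • (1 : V →ₗ[F] V)) : Module.End.IsSemisimple f := by
  apply Module.End.isSemisimple_of_squarefree_aeval_eq_zero
    (separable_X_pow_sub_C c hr0 hc).squarefree
  rw [map_sub, map_pow, aeval_X, aeval_C, hf, Algebra.algebraMap_eq_smul_one]
  exact sub_self _

/-- if `f^r = 1` and `W` is invariant with no fixed vectors then `Φ_r(f)` kills `W`. -/
theorem cyclotomic_kills (f : V →ₗ[F] V) (r : ℕ) [hr : Fact r.Prime] (hf : f ^ r = 1)
    (W : Submodule F V) (hW : W ∈ Module.End.invtSubmodule f)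
    (hWE : W ⊓ Module.End.eigenspace f 1 = ⊥) :
    ∀ w ∈ W, aeval f (cyclotomic r F) w = 0 := by
  intro w hw
  have h1 : aeval f (cyclotomic r F) w ∈ W := aeval_mem_of_invt f hW _ hw
  have h2 : aeval f (cyclotomic r F) w ∈ Module.End.eigenspace f 1 := by
    rw [Module.End.mem_eigenspace_iff, one_smul]
    have h3 : aeval f ((X - 1) * cyclotomic r F) w = 0 := by
      rw [mul_comm, cyclotomic_prime_mul_X_sub_one, map_sub, map_pow, aeval_X, map_one, hf,
        sub_self, LinearMap.zero_apply]
    rw [aeval_mul_apply, map_sub, aeval_X, map_one, LinearMap.sub_apply, Module.End.one_apply,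
      sub_eq_zero] at h3
    exact h3
  have h3 : aeval f (cyclotomic r F) w ∈ W ⊓ Module.End.eigenspace f 1 := ⟨h1, h2⟩
  rw [hWE] at h3
  exact (Submodule.mem_bot F).mp h3

theorem eigenspace_one_invt (f : V →ₗ[F] V) (U : Submodule F V)
    (hU : U ≤ Module.End.eigenspace f 1) : U ∈ Module.End.invtSubmodule f := by
  intro u hu
  have := hU hu
  rw [Module.End.mem_eigenspace_iff, one_smul] at this
  rw [Submodule.mem_comap, this]
  exact hu

end ord

section sub

variable {F V : Type*} [Field F] [AddCommGroup V] [Module F V] [FiniteDimensional F V]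

theorem exists_le_finrank_eq (C : Submodule F V) (l : ℕ) (hl : l ≤ finrank F C) :
    ∃ W₀ : Submodule F V, W₀ ≤ C ∧ finrank F W₀ = l := by
  classical
  let b := Module.finBasis F C
  let v : Fin l → V := fun i => (b (Fin.castLE hl i) : V)
  have hli : LinearIndependent F v := by
    have h1 : LinearIndependent F (fun i : Fin l => b (Fin.castLE hl i)) :=
      b.linearIndependent.comp _ (Fin.castLE_injective hl)
    exact h1.map' C.subtype (Submodule.ker_subtype C)
  refine ⟨Submodule.span F (Set.range v), ?_, ?_⟩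
  · rw [Submodule.span_le]
    rintro _ ⟨i, rfl⟩
    exact (b (Fin.castLE hl i)).2
  · rw [finrank_span_eq_card hli, Fintype.card_fin]

end sub

section fin

variable {F V : Type*} [Field F] [Fintype F] [AddCommGroup V] [Module F V] [FiniteDimensional F V]

/-- The structure of invariant subspaces for `f` of prime order `r ≠ p`. With `E` the fixed space and
`i = ord_r(q)`: every invariant `W` has `dim W = dim (W ⊓ E) + j * i`. -/
theorem invt_profile (p : ℕ) [Fact p.Prime] [CharP F p] (r : ℕ) [hr : Fact r.Prime]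
    (hrp : r ≠ p) (f : V →ₗ[F] V) (hf : f ^ r = 1)
    (W : Submodule F V) (hW : W ∈ Module.End.invtSubmodule f) :
    ∃ j : ℕ, finrank F W = finrank F ↥(W ⊓ Module.End.eigenspace f 1) +
      j * orderOf ((Fintype.card F : ℕ) : ZMod r) := by
  have hr0 : (r : F) ≠ 0 := by
    intro h0
    rw [CharP.cast_eq_zero_iff F p r] at h0
    exact hrp ((Nat.prime_dvd_prime_iff_eq Fact.out hr.out).mp h0).symm
  have hss : Module.End.IsSemisimple f :=
    isSemisimple_of_pow_eq_smul f r hr0 1 one_ne_zero (by rw [hf, one_smul])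
  have hE : Module.End.eigenspace f 1 ∈ Module.End.invtSubmodule f :=
    eigenspace_one_invt f _ le_rfl
  obtain ⟨W₂, hW₂W, hW₂inv, hinf, _, hdim⟩ := exists_compl_in f hss W
    (W ⊓ Module.End.eigenspace f 1) hW (Module.End.invtSubmodule.inf_mem hW hE) inf_le_left
  have hW₂E : W₂ ⊓ Module.End.eigenspace f 1 = ⊥ := by
    rw [eq_bot_iff, ← hinf]
    exact le_inf (le_inf (inf_le_left.trans hW₂W) inf_le_right) inf_le_left
  have hkill := cyclotomic_kills f r hf W₂ hW₂inv hW₂E
  obtain ⟨j, hj⟩ := dvd_finrank_of_killed f hss (cyclotomic r F) (cyclotomic_ne_zero r F) _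
    (fun P hP hPd => cyclotomic_factor_degree p r hr.out hrp P hP hPd) W₂ hW₂inv hkill
  exact ⟨j, by rw [hdim, hj, mul_comm]⟩

/-- Existence of invariant flags `U ≤ W` with prescribed profiles. -/
theorem exists_invt_flag (p : ℕ) [Fact p.Prime] [CharP F p] (r : ℕ) [hr : Fact r.Prime]
    (hrp : r ≠ p) (f : V →ₗ[F] V) (hf : f ^ r = 1) (u j u' j' : ℕ) (huu : u ≤ u')
    (hu' : u' ≤ finrank F ↥(Module.End.eigenspace f 1)) (hjj : j ≤ j')
    (hj' : finrank F ↥(Module.End.eigenspace f 1) +
      j' * orderOf ((Fintype.card F : ℕ) : ZMod r) ≤ finrank F V) :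
    ∃ U W : Submodule F V, U ≤ W ∧ U ∈ Module.End.invtSubmodule f ∧
      W ∈ Module.End.invtSubmodule f ∧
      finrank F U = u + j * orderOf ((Fintype.card F : ℕ) : ZMod r) ∧
      finrank F W = u' + j' * orderOf ((Fintype.card F : ℕ) : ZMod r) := by
  set i := orderOf ((Fintype.card F : ℕ) : ZMod r) with hi
  have hr0 : (r : F) ≠ 0 := by
    intro h0
    rw [CharP.cast_eq_zero_iff F p r] at h0
    exact hrp ((Nat.prime_dvd_prime_iff_eq Fact.out hr.out).mp h0).symm
  have hss : Module.End.IsSemisimple f :=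
    isSemisimple_of_pow_eq_smul f r hr0 1 one_ne_zero (by rw [hf, one_smul])
  have hE : Module.End.eigenspace f 1 ∈ Module.End.invtSubmodule f :=
    eigenspace_one_invt f _ le_rfl
  obtain ⟨K, _, hKinv, hEK, _, hdimK⟩ := exists_compl_in f hss ⊤
    (Module.End.eigenspace f 1) (Module.End.invtSubmodule.top_mem f) hE le_top
  rw [finrank_top] at hdimK
  have hKE : K ⊓ Module.End.eigenspace f 1 = ⊥ := by rw [inf_comm]; exact hEK
  have hkill := cyclotomic_kills f r hf K hKinv hKE
  have hQ : ∀ P : F[X], Irreducible P → P ∣ cyclotomic r F → P.natDegree = i :=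
    fun P hP hPd => cyclotomic_factor_degree p r hr.out hrp P hP hPd
  obtain ⟨B', hB'K, hB'inv, hB'dim⟩ := exists_invt_of_mul f hss (cyclotomic r F)
    (cyclotomic_ne_zero r F) i hQ K hKinv hkill j' (by omega)
  obtain ⟨B, hBB', hBinv, hBdim⟩ := exists_invt_of_mul f hss (cyclotomic r F)
    (cyclotomic_ne_zero r F) i hQ B' hB'inv (fun w hw => hkill w (hB'K hw)) j
    (by rw [hB'dim]; exact Nat.mul_le_mul_right _ hjj)
  -- nested subspaces of `E`
  obtain ⟨C', hC'E, hC'dim⟩ : ∃ C' : Submodule F V, C' ≤ Module.End.eigenspace f 1 ∧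
      finrank F C' = u' := by
    exact exists_le_finrank_eq (Module.End.eigenspace f 1) u' hu'
  obtain ⟨C, hCC', hCdim⟩ : ∃ C : Submodule F V, C ≤ C' ∧ finrank F C = u := by
    exact exists_le_finrank_eq C' u (by rw [hC'dim]; exact huu)
  have hdisj : ∀ (X Y : Submodule F V), X ≤ Module.End.eigenspace f 1 → Y ≤ K →
      finrank F ↥(X ⊔ Y) = finrank F X + finrank F Y := by
    intro X Y hX hY
    have h1 : X ⊓ Y = ⊥ := by
      rw [eq_bot_iff, ← hEK]
      exact inf_le_inf hX hY
    have h3 := Submodule.finrank_sup_add_finrank_inf_eq X Y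
    rw [h1, finrank_bot, add_zero] at h3
    exact h3
  refine ⟨C ⊔ B, C' ⊔ B', sup_le_sup hCC' hBB', ?_, ?_, ?_, ?_⟩
  · exact Module.End.invtSubmodule.sup_mem (eigenspace_one_invt f C (hCC'.trans hC'E)) hBinv
  · exact Module.End.invtSubmodule.sup_mem (eigenspace_one_invt f C' hC'E) hB'inv
  · rw [hdisj C B (hCC'.trans hC'E) (hBB'.trans hB'K), hCdim, hBdim]
  · rw [hdisj C' B' hC'E hB'K, hC'dim, hB'dim]

end fin

end Cfsg.Agent.Lib.Helper15.PSub
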