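import Mathlib
import Cfsg.Agent.Lib.Helper15.PSub3

/-!
# Endomorphisms with `x^r = c`, `c` not an `r`-th power
-/

set_option autoImplicit false

namespace Cfsg.Agent.Lib.Helper15.PSub

open Module Polynomial

section irr

variable {F : Type*} [Field F]

theorem irr_factor_degree (r : ℕ) (hr : r.Prime) (c : F) (hc : ∀ b : F, b ^ r ≠ c)
    (P : F[X]) (hP : Irreducible P) (hPd : P ∣ X ^ r - C c) : P.natDegree = r := by
  have hirr : Irreducible (X ^ r - C c) := X_pow_sub_C_irreducible_of_prime hr hc
  have hass : Associated P (X ^ r - C c) := by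
    obtain ⟨g, hg⟩ := hPd
    rcases hirr.isUnit_or_isUnit hg with h | h
    · exact absurd h hP.not_isUnit
    · obtain ⟨u, rfl⟩ := h
      exact ⟨u, hg.symm⟩
  rw [natDegree_eq_of_degree_eq (degree_eq_degree_of_associated hass), natDegree_X_pow_sub_C]

variable {V : Type*} [AddCommGroup V] [Module F V]

theorem aeval_X_pow_sub_C (x : V →ₗ[F] V) (r : ℕ) (c : F) (hx : x ^ r = c • (1 : V →ₗ[F] V)) :
    aeval x (X ^ r - C c : F[X]) = 0 := by
  rw [map_sub, map_pow, aeval_X, aeval_C, hx, Algebra.algebraMap_eq_smul_one]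
  exact sub_self _

end irr

section det

variable {F : Type*} [Field F]

/-- determinant and dimension for `x^r = c`, `c` not an `r`-th power. -/
theorem det_of_not_pow_aux (r : ℕ) (hr : r.Prime) (c : F) (hc : ∀ b : F, b ^ r ≠ c) (n : ℕ) :
    ∀ (V : Type*) [AddCommGroup V] [Module F V] [FiniteDimensional F V] (x : V →ₗ[F] V),
      finrank F V = n → x ^ r = c • (1 : V →ₗ[F] V) →
      r ∣ n ∧ LinearMap.det x = ((-1) ^ (r + 1) * c) ^ (n / r) := by
  induction n using Nat.strong_induction_on with
  | _ n ih =>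
    intro V _ _ _ x hn hx
    by_cases hn0 : n = 0
    · subst hn0
      refine ⟨dvd_zero r, ?_⟩
      rw [LinearMap.det_eq_one_of_finrank_eq_zero hn]
      simp
    have hQ0 : (X ^ r - C c : F[X]) ≠ 0 := X_pow_sub_C_ne_zero hr.pos c
    have hirr : Irreducible (X ^ r - C c : F[X]) := X_pow_sub_C_irreducible_of_prime hr hc
    have hkill : ∀ w ∈ (⊤ : Submodule F V), aeval x (X ^ r - C c : F[X]) w = 0 := by
      intro w _
      rw [aeval_X_pow_sub_C x r c hx, LinearMap.zero_apply]
    have htop : (⊤ : Submodule F V) ≠ ⊥ := by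
      intro h
      have h2 : finrank F (⊤ : Submodule F V) = 0 := by rw [h, finrank_bot]
      rw [finrank_top] at h2
      omega
    obtain ⟨W, -, hWinv, hWdim⟩ := exists_block x (X ^ r - C c) hQ0 r
      (irr_factor_degree r hr c hc) ⊤ (Module.End.invtSubmodule.top_mem x) htop hkill
    have he : W ≤ W.comap x := hWinv
    have hdet := LinearMap.det_eq_det_mul_det W x he
    -- the restriction
    have hxW : (x.restrict he) ^ r = c • (1 : W →ₗ[F] W) := by
      rw [Module.End.pow_restrict r he]
      ext w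
      simp [hx]
    have hdetW : LinearMap.det (x.restrict he) = (-1) ^ (r + 1) * c := by
      have hnt : Nontrivial W := by
        apply Module.nontrivial_of_finrank_pos (R := F)
        rw [hWdim]
        exact hr.pos
      have hmin : minpoly F (x.restrict he) = X ^ r - C c := by
        have h1 : minpoly F (x.restrict he) ∣ X ^ r - C c :=
          minpoly.dvd F _ (aeval_X_pow_sub_C _ r c hxW)
        have hint : IsIntegral F (x.restrict he) := Algebra.IsIntegral.isIntegral _
        have h2 : ¬ IsUnit (minpoly F (x.restrict he)) := minpoly.not_isUnit F _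
        obtain ⟨g, hg⟩ := h1
        rcases hirr.isUnit_or_isUnit hg with h | h
        · exact absurd h h2
        · apply eq_of_monic_of_associated (minpoly.monic hint) (monic_X_pow_sub_C c hr.ne_zero)
          obtain ⟨u, rfl⟩ := h
          exact ⟨u, hg.symm⟩
      have hchar : (x.restrict he).charpoly = X ^ r - C c := by
        have h1 := LinearMap.minpoly_dvd_charpoly (x.restrict he)
        rw [hmin] at h1
        apply eq_of_monic_of_dvd_of_natDegree_le (monic_X_pow_sub_C c hr.ne_zero)
          (LinearMap.charpoly_monic _) h1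
        rw [LinearMap.charpoly_natDegree, hWdim, natDegree_X_pow_sub_C]
      rw [LinearMap.det_eq_sign_charpoly_coeff, hchar, hWdim]
      have : (X ^ r - C c : F[X]).coeff 0 = -c := by
        rw [coeff_sub, coeff_X_pow, coeff_C_zero, if_neg hr.ne_zero.symm, zero_sub]
      rw [this, pow_succ]
      ring
    -- the quotient
    have hxQ : (W.mapQ W x he) ^ r = c • (1 : (V ⧸ W) →ₗ[F] (V ⧸ W)) := by
      rw [← Submodule.mapQ_pow W he r]
      apply Submodule.linearMap_qext
      ext v
      simp [hx]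
    have hdimQ : finrank F (V ⧸ W) = n - r := by
      have := Submodule.finrank_quotient_add_finrank W
      omega
    have hrn : r ≤ n := by
      have := Submodule.finrank_le W
      omega
    obtain ⟨hdvd, hdetQ⟩ := ih (n - r) (by have := hr.pos; omega) (V ⧸ W) (W.mapQ W x he) hdimQ hxQ
    have hdvdn : r ∣ n := by
      have h1 : r ∣ (n - r) + r := Dvd.dvd.add hdvd (dvd_refl r)
      rwa [Nat.sub_add_cancel hrn] at h1
    refine ⟨hdvdn, ?_⟩
    rw [hdet, hdetW, hdetQ, ← pow_succ']
    congr 1
    obtain ⟨k, rfl⟩ := hdvdn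
    have hk : 1 ≤ k := by
      rcases Nat.eq_zero_or_pos k with h | h
      · subst h; omega
      · exact h
    rw [Nat.mul_div_cancel_left _ hr.pos]
    have : r * k - r = r * (k - 1) := by rw [Nat.mul_sub, mul_one]
    rw [this, Nat.mul_div_cancel_left _ hr.pos]
    omega

variable {V : Type*} [AddCommGroup V] [Module F V] [FiniteDimensional F V]

theorem det_of_not_pow (r : ℕ) (hr : r.Prime) (c : F) (hc : ∀ b : F, b ^ r ≠ c)
    (x : V →ₗ[F] V) (hx : x ^ r = c • (1 : V →ₗ[F] V)) :
    r ∣ finrank F V ∧ LinearMap.det x = ((-1) ^ (r + 1) * c) ^ (finrank F V / r) :=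
  det_of_not_pow_aux r hr c hc _ V x rfl hx

/-- invariant subspaces have dimension divisible by `r`. -/
theorem dvd_finrank_of_not_pow (r : ℕ) (hr : r.Prime) (c : F) (hc : ∀ b : F, b ^ r ≠ c)
    (x : V →ₗ[F] V) (hx : x ^ r = c • (1 : V →ₗ[F] V)) (W : Submodule F V)
    (hW : W ∈ Module.End.invtSubmodule x) : r ∣ finrank F W := by
  have he : W ≤ W.comap x := hW
  have hxW : (x.restrict he) ^ r = c • (1 : W →ₗ[F] W) := by
    rw [Module.End.pow_restrict r he]
    ext w
    simp [hx]
  exact (det_of_not_pow r hr c hc (x.restrict he) hxW).1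

/-- invariant flags of all admissible dimensions. -/
theorem exists_invt_flag_of_not_pow (r : ℕ) (hr : r.Prime) (hr0 : (r : F) ≠ 0) (c : F)
    (hc : ∀ b : F, b ^ r ≠ c)
    (x : V →ₗ[F] V) (hx : x ^ r = c • (1 : V →ₗ[F] V)) (j j' : ℕ) (hjj : j ≤ j')
    (hj' : j' * r ≤ finrank F V) :
    ∃ U W : Submodule F V, U ≤ W ∧ U ∈ Module.End.invtSubmodule x ∧
      W ∈ Module.End.invtSubmodule x ∧ finrank F U = j * r ∧ finrank F W = j' * r := by
  have hc0 : c ≠ 0 := by
    intro h0
    exact hc 0 (by rw [zero_pow hr.ne_zero, h0])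
  have hss : Module.End.IsSemisimple x := isSemisimple_of_pow_eq_smul x r hr0 c hc0 hx
  have hQ0 : (X ^ r - C c : F[X]) ≠ 0 := X_pow_sub_C_ne_zero hr.pos c
  have hkill : ∀ w ∈ (⊤ : Submodule F V), aeval x (X ^ r - C c : F[X]) w = 0 := by
    intro w _
    rw [aeval_X_pow_sub_C x r c hx, LinearMap.zero_apply]
  obtain ⟨B', hB'K, hB'inv, hB'dim⟩ := exists_invt_of_mul x hss (X ^ r - C c) hQ0 r
    (irr_factor_degree r hr c hc) ⊤ (Module.End.invtSubmodule.top_mem x) hkill j'
    (by rw [finrank_top]; exact hj')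
  obtain ⟨B, hBB', hBinv, hBdim⟩ := exists_invt_of_mul x hss (X ^ r - C c) hQ0 r
    (irr_factor_degree r hr c hc) B' hB'inv (fun w _ => hkill w Submodule.mem_top) j
    (by rw [hB'dim]; exact Nat.mul_le_mul_right _ hjj)
  exact ⟨B, B', hBB', hBinv, hB'inv, hBdim, hB'dim⟩

end det

end Cfsg.Agent.Lib.Helper15.PSub
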