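import Mathlib
import Cfsg.Agent.Lib.Helper15.PDec1
import Cfsg.Agent.Lib.Helper15.PSub4

/-!
# Peeling invariant subspaces: decompositions stabilised by semisimple elements
-/

set_option autoImplicit false

namespace Cfsg.Agent.Lib.Helper15.PDec

open Module Submodule Polynomial Cfsg.Agent.Lib.Helper15.PSub

section lattice

variable {F V : Type*} [Field F] [AddCommGroup V] [Module F V]

theorem disjoint_sup_sup_of {C B C₁ C' B₁ B' : Submodule F V} (hCB : Disjoint C B)
    (hC₁ : C₁ ≤ C) (hC' : C' ≤ C) (hB₁ : B₁ ≤ B) (hB' : B' ≤ B)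
    (hC : Disjoint C₁ C') (hB : Disjoint B₁ B') : Disjoint (C₁ ⊔ B₁) (C' ⊔ B') := by
  rw [Submodule.disjoint_def] at hCB hC hB ⊢
  intro v hv hv'
  obtain ⟨p₁, hp₁, p₂, hp₂, rfl⟩ := Submodule.mem_sup.mp hv
  obtain ⟨q₁, hq₁, q₂, hq₂, hq⟩ := Submodule.mem_sup.mp hv'
  have h0 : p₁ - q₁ = 0 := by
    apply hCB (p₁ - q₁) (C.sub_mem (hC₁ hp₁) (hC' hq₁))
    have : p₁ - q₁ = q₂ - p₂ := by
      rw [sub_eq_sub_iff_add_eq_add, hq.symm.trans (add_comm q₁ q₂)]
    rw [this]
    exact B.sub_mem (hB' hq₂) (hB₁ hp₂)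
  have h0' : p₂ - q₂ = 0 := by
    have : p₂ - q₂ = q₁ - p₁ := by
      rw [sub_eq_sub_iff_add_eq_add, add_comm p₂ p₁]
      exact hq.symm
    rw [this, ← neg_sub, h0, neg_zero]
  have hp₁0 : p₁ = 0 := hC p₁ hp₁ (by rw [sub_eq_zero.mp h0]; exact hq₁)
  have hp₂0 : p₂ = 0 := hB p₂ hp₂ (by rw [sub_eq_zero.mp h0']; exact hq₂)
  rw [hp₁0, hp₂0, add_zero]

theorem finrank_sup_of_disjoint [FiniteDimensional F V] {U W : Submodule F V}
    (h : Disjoint U W) : finrank F ↥(U ⊔ W) = finrank F U + finrank F W := by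
  have h3 := Submodule.finrank_sup_add_finrank_inf_eq U W
  rw [h.eq_bot, finrank_bot, add_zero] at h3
  exact h3

theorem map_eq_of_invt [FiniteDimensional F V] (y : V →ₗ[F] V) (hinj : Function.Injective y)
    (W : Submodule F V) (hW : W ∈ Module.End.invtSubmodule y) : W.map y = W := by
  have hle : W.map y ≤ W := (Module.End.mem_invtSubmodule_iff_map_le _).mp hW
  apply Submodule.eq_of_le_of_finrank_eq hle
  exact (LinearEquiv.finrank_eq (Submodule.equivMapOfInjective y hinj W)).symm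

theorem injective_of_pow_eq_smul (x : V →ₗ[F] V) (r : ℕ) (z : F) (hz : z ≠ 0)
    (hx : x ^ r = z • (1 : V →ₗ[F] V)) (hr : r ≠ 0) : Function.Injective x := by
  rw [← LinearMap.ker_eq_bot, eq_bot_iff]
  intro v hv
  rw [LinearMap.mem_ker] at hv
  obtain ⟨k, rfl⟩ : ∃ k, r = k + 1 := ⟨r - 1, by omega⟩
  have h1 : (x ^ (k + 1)) v = z • v := by rw [hx]; simp
  rw [pow_succ, Module.End.mul_apply, hv, map_zero] at h1
  exact (Submodule.mem_bot F).mpr ((smul_eq_zero.mp h1.symm).resolve_left hz)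

end lattice

section peel

variable {F V : Type*} [Field F] [AddCommGroup V] [Module F V] [FiniteDimensional F V]

theorem peel_arith (a c t fC s s₁ : ℕ) (hc : 0 < c) (hs₁ : s₁ = min (a / c) s)
    (hdim : fC + s * c = a * (t + 1)) (hCdim : (t + 1) * (a % c) ≤ fC) :
    s₁ * c ≤ a ∧ a - s₁ * c ≤ fC ∧ t * (a % c) ≤ fC - (a - s₁ * c) ∧
      (fC - (a - s₁ * c)) + (s - s₁) * c = a * t := by
  have hdm := Nat.div_add_mod a c
  have hmod : a % c < c := Nat.mod_lt a hc
  have hle : a % c ≤ a := Nat.mod_le a c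
  rcases le_total (a / c) s with h | h
  · have h1 : s₁ = a / c := by rw [hs₁]; exact min_eq_left h
    subst h1
    have h2 : a / c * c ≤ a := Nat.div_mul_le_self a c
    have h3 : a - a / c * c = a % c := by
      have : a / c * c = c * (a / c) := mul_comm _ _
      omega
    rw [h3]
    have h4 : (t + 1) * (a % c) = t * (a % c) + a % c := by ring
    have h5 : (s - a / c) * c = s * c - a / c * c := Nat.sub_mul _ _ _
    have h6 : a / c * c ≤ s * c := Nat.mul_le_mul_right c h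
    have h7 : a * (t + 1) = a * t + a := by ring
    refine ⟨h2, by omega, by omega, by omega⟩
  · have h1 : s₁ = s := by rw [hs₁]; exact min_eq_right h
    subst h1
    have h2 : s₁ * c ≤ a / c * c := Nat.mul_le_mul_right c h
    have h3 : a / c * c ≤ a := Nat.div_mul_le_self a c
    have h7 : a * (t + 1) = a * t + a := by ring
    have h8 : t * (a % c) ≤ t * a := Nat.mul_le_mul_left t hle
    have h9 : t * a = a * t := mul_comm _ _
    rw [Nat.sub_self, zero_mul, add_zero]
    refine ⟨by omega, by omega, by omega, by omega⟩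

/-- **Peeling with trivial permutation.** `C` is a subspace all of whose subspaces are invariant,
`B` is invariant and killed by `Q(y)` where every irreducible factor of `Q` has degree `c`. -/
theorem peel_id (y : V →ₗ[F] V) (hss : Module.End.IsSemisimple y) (hinj : Function.Injective y)
    (Q : F[X]) (hQ0 : Q ≠ 0) (c : ℕ) (hc : 0 < c)
    (hQ : ∀ P : F[X], Irreducible P → P ∣ Q → P.natDegree = c) (a : ℕ) (t : ℕ) :
    ∀ (C B : Submodule F V), (∀ U : Submodule F V, U ≤ C → U ∈ Module.End.invtSubmodule y) →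
      B ∈ Module.End.invtSubmodule y → (∀ w ∈ B, aeval y Q w = 0) → Disjoint C B →
      finrank F C + finrank F B = a * t → t * (a % c) ≤ finrank F C →
      ∃ (κ : Type) (_ : Fintype κ) (σ : Equiv.Perm κ), Fintype.card κ = t ∧ PD y a (C ⊔ B) σ := by
  induction t with
  | zero =>
    intro C B _ _ _ _ hdim _
    have hC0 : C = ⊥ := by
      apply Submodule.finrank_eq_zero.mp
      omega
    have hB0 : B = ⊥ := by
      apply Submodule.finrank_eq_zero.mp
      omega
    refine ⟨Empty, inferInstance, 1, by simp, ?_⟩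
    rw [hC0, hB0, sup_bot_eq]
    exact PD.empty y a
  | succ t ih =>
    intro C B hC hB hBQ hCB hdim hCdim
    obtain ⟨s, hs⟩ := dvd_finrank_of_killed y hss Q hQ0 c hQ B hB hBQ
    rw [mul_comm] at hs
    rw [hs] at hdim
    obtain ⟨h1, h2, h3, h4⟩ := peel_arith a c t (finrank F C) s (min (a / c) s) hc rfl hdim hCdim
    set s₁ := min (a / c) s with hs₁
    have hs₁s : s₁ ≤ s := min_le_right _ _
    obtain ⟨B₁, hB₁B, hB₁inv, hB₁dim⟩ := exists_invt_of_mul y hss Q hQ0 c hQ B hB hBQ s₁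
      (by rw [hs]; exact Nat.mul_le_mul_right c hs₁s)
    obtain ⟨B', hB'B, hB'inv, hBinf, hBsup, hBdim⟩ := exists_compl_in y hss B B₁ hB hB₁inv hB₁B
    obtain ⟨C₁, hC₁C, hC₁dim⟩ := exists_le_finrank_eq C (a - s₁ * c) h2
    obtain ⟨C', hC'C, hC'inv, hCinf, hCsup, hCdim'⟩ :=
      exists_compl_in y hss C C₁ (hC C le_rfl) (hC C₁ hC₁C) hC₁C
    have hd₁ : Disjoint C₁ B₁ := hCB.mono hC₁C hB₁B
    have hW₁dim : finrank F ↥(C₁ ⊔ B₁) = a := by
      rw [finrank_sup_of_disjoint hd₁, hC₁dim, hB₁dim]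
      omega
    have hW₁inv : C₁ ⊔ B₁ ∈ Module.End.invtSubmodule y :=
      Module.End.invtSubmodule.sup_mem (hC C₁ hC₁C) hB₁inv
    have hP₁ : PD y a (C₁ ⊔ B₁) (1 : Equiv.Perm Unit) :=
      PD.single y a _ hW₁dim (map_eq_of_invt y hinj _ hW₁inv)
    have hB'dim : finrank F B' = (s - s₁) * c := by
      rw [Nat.sub_mul]
      omega
    obtain ⟨κ, hκ, σ, hcard, hP₂⟩ := ih C' B' (fun U hU => hC U (hU.trans hC'C)) hB'inv
      (fun w hw => hBQ w (hB'B hw)) (hCB.mono hC'C hB'B)
      (by rw [hB'dim]; omega) (by omega)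
    have hdisj : Disjoint (C₁ ⊔ B₁) (C' ⊔ B') :=
      disjoint_sup_sup_of hCB hC₁C hC'C hB₁B hB'B (disjoint_iff.mpr hCinf)
        (disjoint_iff.mpr hBinf)
    have hser := PD.series hP₁ hP₂ hdisj
    refine ⟨Unit ⊕ κ, inferInstance, _, ?_, PD.congr hser rfl ?_⟩
    · rw [Fintype.card_sum, Fintype.card_unit, hcard, add_comm]
    · rw [sup_sup_sup_comm, hCsup, hBsup]

end peel

section cyc

variable {F V : Type*} [Field F] [AddCommGroup V] [Module F V]

/-- The cyclic family `v, x v, …, x^(r-1) v` when `x^r v = z v`. -/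
theorem PD.cyc (x : V →ₗ[F] V) (r' : ℕ) (z : F) (hz : z ≠ 0) (v : V)
    (hv : (x ^ (r' + 1)) v = z • v)
    (hli : LinearIndependent F (fun i : Fin (r' + 1) => (x ^ (i : ℕ)) v)) :
    PD x 1 (span F (Set.range (fun i : Fin (r' + 1) => (x ^ (i : ℕ)) v))) (finRotate (r' + 1)) := by
  classical
  apply PD.mono _ hli (finRotate (r' + 1)) (fun i => if i = Fin.last r' then z else 1)
  · intro i
    by_cases h : i = Fin.last r'
    · rw [if_pos h]; exact hz
    · rw [if_neg h]; exact one_ne_zero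
  · intro i
    by_cases h : i = Fin.last r'
    · rw [if_pos h, h, finRotate_last]
      show x ((x ^ r') v) = z • (x ^ ((0 : Fin (r' + 1)) : ℕ)) v
      rw [← Module.End.mul_apply, ← pow_succ', hv]
      simp
    · rw [if_neg h, one_smul]
      have h1 : ((finRotate (r' + 1) i : Fin (r' + 1)) : ℕ) = (i : ℕ) + 1 := by
        rw [coe_finRotate, if_neg h]
      show x ((x ^ (i : ℕ)) v) = (x ^ ((finRotate (r' + 1) i : Fin (r' + 1)) : ℕ)) v
      rw [h1, ← Module.End.mul_apply, ← pow_succ']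

variable [FiniteDimensional F V]

omit [FiniteDimensional F V] in
/-- The cyclic subspace of a nonzero vector for `x^r = z`, `X^r - z` irreducible. -/
theorem exists_cyc_PD (x : V →ₗ[F] V) (r' : ℕ) (z : F) (hz : z ≠ 0)
    (hx : x ^ (r' + 1) = z • (1 : V →ₗ[F] V))
    (hirr : Irreducible (X ^ (r' + 1) - C z : F[X])) (v : V) (hv : v ≠ 0) :
    ∃ Z : Submodule F V, Z ∈ Module.End.invtSubmodule x ∧ v ∈ Z ∧ finrank F Z = r' + 1 ∧
      (∀ W : Submodule F V, W ∈ Module.End.invtSubmodule x → v ∈ W → Z ≤ W) ∧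
      PD x 1 Z (finRotate (r' + 1)) := by
  have hPv : aeval x (X ^ (r' + 1) - C z : F[X]) v = 0 := by
    rw [aeval_X_pow_sub_C x (r' + 1) z hx, LinearMap.zero_apply]
  obtain ⟨Z, hZinv, hvZ, hZdim, hZmin⟩ := exists_cyclic x _ hirr v hv hPv
  rw [natDegree_X_pow_sub_C] at hZdim
  have hxv : (x ^ (r' + 1)) v = z • v := by rw [hx]; simp
  set u : Fin (r' + 1) → V := fun i => (x ^ (i : ℕ)) v with hu
  have hspan_le : span F (Set.range u) ≤ Z := by
    rw [span_le]
    rintro _ ⟨i, rfl⟩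
    exact pow_mem_of_invt x hZinv _ hvZ
  have hspan_inv : span F (Set.range u) ∈ Module.End.invtSubmodule x := by
    rw [Module.End.mem_invtSubmodule_iff_map_le, Submodule.map_span, span_le]
    rintro _ ⟨_, ⟨i, rfl⟩, rfl⟩
    by_cases h : (i : ℕ) = r'
    · have : x (u i) = z • u 0 := by
        show x ((x ^ (i : ℕ)) v) = z • (x ^ ((0 : Fin (r' + 1)) : ℕ)) v
        rw [h, ← Module.End.mul_apply, ← pow_succ', hxv]
        simp
      rw [this]
      exact Submodule.smul_mem _ _ (subset_span ⟨0, rfl⟩)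
    · have hlt : (i : ℕ) + 1 < r' + 1 := by have := i.2; omega
      have : x (u i) = u ⟨(i : ℕ) + 1, hlt⟩ := by
        show x ((x ^ (i : ℕ)) v) = (x ^ ((i : ℕ) + 1)) v
        rw [← Module.End.mul_apply, ← pow_succ']
      rw [this]
      exact subset_span ⟨_, rfl⟩
  have hv_mem : v ∈ span F (Set.range u) := by
    apply subset_span
    refine ⟨0, ?_⟩
    show (x ^ ((0 : Fin (r' + 1)) : ℕ)) v = v
    simp
  have hspan_eq : span F (Set.range u) = Z :=
    le_antisymm hspan_le (hZmin _ hspan_inv hv_mem)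
  have hli : LinearIndependent F u := by
    rw [linearIndependent_iff_card_eq_finrank_span, Fintype.card_fin, Set.finrank, hspan_eq,
      hZdim]
  refine ⟨Z, hZinv, hvZ, hZdim, hZmin, ?_⟩
  rw [← hspan_eq]
  exact PD.cyc x r' z hz v hxv hli

/-- **Claim D3**: an invariant subspace of dimension `a * r` is a sum of `r` cyclically permuted
`a`-spaces. -/
theorem cyc_block (x : V →ₗ[F] V) (hss : Module.End.IsSemisimple x) (r' : ℕ) (z : F) (hz : z ≠ 0)
    (hx : x ^ (r' + 1) = z • (1 : V →ₗ[F] V))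
    (hirr : Irreducible (X ^ (r' + 1) - C z : F[X])) (a : ℕ) :
    ∀ W : Submodule F V, W ∈ Module.End.invtSubmodule x → finrank F W = a * (r' + 1) →
      PD x a W (finRotate (r' + 1)) := by
  induction a with
  | zero =>
    intro W _ hdim
    rw [zero_mul] at hdim
    have hW0 : W = ⊥ := Submodule.finrank_eq_zero.mp hdim
    subst hW0
    refine ⟨fun _ => ⊥, fun _ => finrank_bot F V, ?_, iSup_bot, fun _ => Submodule.map_bot _⟩
    rw [iSupIndep_def]
    intro i
    exact disjoint_bot_left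
  | succ a ih =>
    intro W hW hdim
    have hWne : W ≠ ⊥ := by
      intro h0
      rw [h0, finrank_bot] at hdim
      have : 0 < (a + 1) * (r' + 1) := Nat.mul_pos (Nat.succ_pos _) (Nat.succ_pos _)
      omega
    obtain ⟨v, hvW, hv0⟩ := Submodule.exists_mem_ne_zero_of_ne_bot hWne
    obtain ⟨Z, hZinv, hvZ, hZdim, hZmin, hZPD⟩ := exists_cyc_PD x r' z hz hx hirr v hv0
    have hZW : Z ≤ W := hZmin W hW hvW
    obtain ⟨Z', hZ'W, hZ'inv, hinf, hsup, hdim'⟩ := exists_compl_in x hss W Z hW hZinv hZW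
    have hZ'dim : finrank F Z' = a * (r' + 1) := by
      have : (a + 1) * (r' + 1) = a * (r' + 1) + (r' + 1) := by ring
      omega
    have h2 := ih Z' hZ'inv hZ'dim
    have h3 := PD.parallel hZPD h2 (disjoint_iff.mpr hinf)
    exact PD.congr h3 (add_comm 1 a) hsup

/-- **Claim D2**: an invariant subspace of dimension `a * r * t'` splits into `r * t'` permuted
`a`-spaces. -/
theorem cyc_blocks (x : V →ₗ[F] V) (hss : Module.End.IsSemisimple x) (r' : ℕ) (z : F) (hz : z ≠ 0)
    (hx : x ^ (r' + 1) = z • (1 : V →ₗ[F] V))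
    (hirr : Irreducible (X ^ (r' + 1) - C z : F[X])) (a : ℕ) (t' : ℕ) :
    ∀ W : Submodule F V, W ∈ Module.End.invtSubmodule x →
      finrank F W = a * (r' + 1) * t' →
      ∃ (κ : Type) (_ : Fintype κ) (σ : Equiv.Perm κ), Fintype.card κ = (r' + 1) * t' ∧
        PD x a W σ := by
  have hQ0 : (X ^ (r' + 1) - C z : F[X]) ≠ 0 := hirr.ne_zero
  have hQ : ∀ P : F[X], Irreducible P → P ∣ (X ^ (r' + 1) - C z : F[X]) →
      P.natDegree = r' + 1 := by
    intro P hP hPd
    have hass : Associated P (X ^ (r' + 1) - C z) := by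
      obtain ⟨g, hg⟩ := hPd
      rcases hirr.isUnit_or_isUnit hg with h | h
      · exact absurd h hP.not_isUnit
      · obtain ⟨u, rfl⟩ := h
        exact ⟨u, hg.symm⟩
    rw [natDegree_eq_of_degree_eq (degree_eq_degree_of_associated hass), natDegree_X_pow_sub_C]
  induction t' with
  | zero =>
    intro W _ hdim
    rw [mul_zero] at hdim
    have hW0 : W = ⊥ := Submodule.finrank_eq_zero.mp hdim
    subst hW0
    exact ⟨Empty, inferInstance, 1, by simp, PD.empty x a⟩
  | succ t' ih =>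
    intro W hW hdim
    have hkill : ∀ w ∈ W, aeval x (X ^ (r' + 1) - C z : F[X]) w = 0 := by
      intro w _
      rw [aeval_X_pow_sub_C x (r' + 1) z hx, LinearMap.zero_apply]
    obtain ⟨W₁, hW₁W, hW₁inv, hW₁dim⟩ := exists_invt_of_mul x hss _ hQ0 (r' + 1) hQ W hW hkill a
      (by rw [hdim]; exact Nat.le_mul_of_pos_right _ (Nat.succ_pos _))
    obtain ⟨W', hW'W, hW'inv, hinf, hsup, hdim'⟩ := exists_compl_in x hss W W₁ hW hW₁inv hW₁W
    have hW'dim : finrank F W' = a * (r' + 1) * t' := by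
      have : a * (r' + 1) * (t' + 1) = a * (r' + 1) * t' + a * (r' + 1) := by ring
      omega
    obtain ⟨κ, hκ, σ, hcard, hP₂⟩ := ih W' hW'inv hW'dim
    have hP₁ := cyc_block x hss r' z hz hx hirr a W₁ hW₁inv hW₁dim
    have hser := PD.series hP₁ hP₂ (disjoint_iff.mpr hinf)
    refine ⟨Fin (r' + 1) ⊕ κ, inferInstance, _, ?_, PD.congr hser rfl hsup⟩
    rw [Fintype.card_sum, Fintype.card_fin, hcard]
    ring

end cyc

end Cfsg.Agent.Lib.Helper15.PDec
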