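import Mathlib

/-!
# Counting subspaces of a finite vector space

`card_subspaces_mul`: `N(V,m) * ∏_{j<m} (q^m - q^j) = ∏_{j<m} (q^n - q^j)`.
-/

set_option autoImplicit false

namespace Cfsg.Agent.Lib.Helper15.PSub

open Module

section count

variable {F V : Type*} [Field F] [Fintype F] [AddCommGroup V] [Module F V]
  [FiniteDimensional F V]

/-- The fibre of `s ↦ span (range s)` over `W` is the set of bases of `W`. -/
noncomputable def fiberEquiv (m : ℕ) (W : Submodule F V) :
    {s : {s : Fin m → V // LinearIndependent F s} //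
        Submodule.span F (Set.range (s : Fin m → V)) = W} ≃
      {t : Fin m → W // LinearIndependent F t ∧ Submodule.span F (Set.range t) = ⊤} where
  toFun s := ⟨fun j => ⟨(s.1 : Fin m → V) j, by
      have h : (s.1 : Fin m → V) j ∈ Submodule.span F (Set.range (s.1 : Fin m → V)) :=
        Submodule.subset_span (Set.mem_range_self j)
      have h2 : Submodule.span F (Set.range (s.1 : Fin m → V)) ≤ W := le_of_eq s.2
      exact h2 h⟩, by
    constructor
    · apply LinearIndependent.of_comp W.subtype
      exact s.1.2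
    · apply Submodule.map_injective_of_injective W.injective_subtype
      rw [Submodule.map_span, Submodule.map_top, Submodule.range_subtype, ← Set.range_comp]
      exact s.2⟩
  invFun t := ⟨⟨fun j => ((t.1 j : W) : V), t.2.1.map' W.subtype (Submodule.ker_subtype W)⟩, by
    have h := congrArg (Submodule.map W.subtype) t.2.2
    rw [Submodule.map_span, Submodule.map_top, Submodule.range_subtype, ← Set.range_comp] at h
    exact h⟩
  left_inv s := by
    apply Subtype.ext
    apply Subtype.ext
    rfl
  right_inv t := by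
    apply Subtype.ext
    rfl

theorem card_bases (m : ℕ) (W : Submodule F V) (hW : finrank F W = m) :
    Nat.card {t : Fin m → W // LinearIndependent F t ∧ Submodule.span F (Set.range t) = ⊤} =
      ∏ j : Fin m, (Fintype.card F ^ m - Fintype.card F ^ (j : ℕ)) := by
  have : Finite V := Module.finite_of_finite F
  have h1 : {t : Fin m → W // LinearIndependent F t ∧ Submodule.span F (Set.range t) = ⊤} =
      {t : Fin m → W // LinearIndependent F t} := by
    congr 1
    funext t
    apply propext
    constructor
    · exact fun h => h.1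
    · intro h
      refine ⟨h, ?_⟩
      apply h.span_eq_top_of_card_eq_finrank'
      rw [Fintype.card_fin, hW]
  rw [h1, card_linearIndependent (K := F) (V := W) (k := m) (by rw [hW]), hW]

/-- `N(V,m) * ∏_{j<m} (q^m - q^j) = ∏_{j<m} (q^n - q^j)`. -/
theorem card_subspaces_mul (m : ℕ) (hm : m ≤ finrank F V) :
    Nat.card {W : Submodule F V // finrank F W = m} *
        ∏ j : Fin m, (Fintype.card F ^ m - Fintype.card F ^ (j : ℕ)) =
      ∏ j : Fin m, (Fintype.card F ^ finrank F V - Fintype.card F ^ (j : ℕ)) := by
  classical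
  have : Finite V := Module.finite_of_finite F
  have : Fintype V := Fintype.ofFinite V
  rw [← card_linearIndependent (K := F) (V := V) hm]
  let φ : {s : Fin m → V // LinearIndependent F s} → {W : Submodule F V // finrank F W = m} :=
    fun s => ⟨Submodule.span F (Set.range (s : Fin m → V)), by
      rw [finrank_span_eq_card s.2, Fintype.card_fin]⟩
  have : Finite {W : Submodule F V // finrank F W = m} := by
    have : Finite (Submodule F V) := Finite.of_injective (fun W => (W : Set V)) SetLike.coe_injective
    infer_instance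
  have : Fintype {W : Submodule F V // finrank F W = m} := Fintype.ofFinite _
  have : Fintype {s : Fin m → V // LinearIndependent F s} := Fintype.ofFinite _
  rw [Nat.card_congr (Equiv.sigmaFiberEquiv φ).symm, Nat.card_sigma]
  have h2 : ∀ W : {W : Submodule F V // finrank F W = m},
      Nat.card {s : {s : Fin m → V // LinearIndependent F s} // φ s = W} =
        ∏ j : Fin m, (Fintype.card F ^ m - Fintype.card F ^ (j : ℕ)) := by
    intro W
    rw [← card_bases m W.1 W.2, ← Nat.card_congr (fiberEquiv m W.1)]
    apply Nat.card_congr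
    apply Equiv.subtypeEquivRight
    intro s
    constructor
    · intro h
      exact congrArg Subtype.val h
    · intro h
      exact Subtype.ext h
  rw [Finset.sum_congr rfl (fun W _ => h2 W), Finset.sum_const, smul_eq_mul, Finset.card_univ,
    Nat.card_eq_fintype_card]

end count

/-- the `q`-factorial `∏_{t=1}^k (q^t - 1)`. -/
def qf (q k : ℕ) : ℕ := ∏ t ∈ Finset.range k, (q ^ (t + 1) - 1)

theorem qf_succ (q k : ℕ) : qf q (k + 1) = qf q k * (q ^ (k + 1) - 1) := by
  unfold qf
  rw [Finset.prod_range_succ]

theorem qf_pos (q k : ℕ) (hq : 2 ≤ q) : 0 < qf q k := by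
  unfold qf
  apply Finset.prod_pos
  intro t _
  have : 2 ≤ q ^ (t + 1) := le_trans hq (Nat.le_self_pow (by omega) q)
  omega

/-- `∏_{j<m} (q^(n-j) - 1) * qf (n-m) = qf n`. -/
theorem prod_top_mul_qf (q n m : ℕ) (hm : m ≤ n) :
    (∏ j ∈ Finset.range m, (q ^ (n - j) - 1)) * qf q (n - m) = qf q n := by
  induction m with
  | zero => simp
  | succ m ih =>
    rw [Finset.prod_range_succ]
    have h1 : n - m = (n - (m + 1)) + 1 := by omega
    have h2 : qf q (n - m) = qf q (n - (m + 1)) * (q ^ (n - m) - 1) := by
      conv_lhs => rw [h1, qf_succ]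
      rw [← h1]
    rw [← ih (by omega), h2]
    ring

theorem prod_pow_sub_pow (q n m : ℕ) (hm : m ≤ n) :
    ∏ j : Fin m, (q ^ n - q ^ (j : ℕ)) =
      (∏ j ∈ Finset.range m, q ^ j) * ∏ j ∈ Finset.range m, (q ^ (n - j) - 1) := by
  rw [← Finset.prod_mul_distrib, Fin.prod_univ_eq_prod_range (fun j => q ^ n - q ^ j) m]
  apply Finset.prod_congr rfl
  intro j hj
  have hj' : j < m := Finset.mem_range.mp hj
  rw [Nat.mul_sub, mul_one, ← pow_add]
  congr 2
  omega

section count2

variable {F V : Type*} [Field F] [Fintype F] [AddCommGroup V] [Module F V]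
  [FiniteDimensional F V]

theorem two_le_card_field : 2 ≤ Fintype.card F := Fintype.one_lt_card

/-- `N(V,m) * qf m = ∏_{j<m} (q^(n-j) - 1)`. -/
theorem card_subspaces_mul_qf (m : ℕ) (hm : m ≤ finrank F V) :
    Nat.card {W : Submodule F V // finrank F W = m} * qf (Fintype.card F) m =
      ∏ j ∈ Finset.range m, (Fintype.card F ^ (finrank F V - j) - 1) := by
  have h := card_subspaces_mul (F := F) (V := V) m hm
  rw [prod_pow_sub_pow _ _ _ hm, prod_pow_sub_pow _ _ _ le_rfl] at h
  have hpos : 0 < ∏ j ∈ Finset.range m, Fintype.card F ^ j := by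
    apply Finset.prod_pos
    intro j _
    exact pow_pos (by have := two_le_card_field (F := F); omega) _
  have h3 : ∏ j ∈ Finset.range m, (Fintype.card F ^ (m - j) - 1) = qf (Fintype.card F) m := by
    have := prod_top_mul_qf (Fintype.card F) m m le_rfl
    rw [Nat.sub_self] at this
    simpa [qf] using this
  rw [h3] at h
  apply Nat.eq_of_mul_eq_mul_left hpos
  rw [← h]
  ring

/-- `N(V,m) * (qf m * qf (n-m)) = qf n`. -/
theorem card_subspaces_qf (m : ℕ) (hm : m ≤ finrank F V) :
    Nat.card {W : Submodule F V // finrank F W = m} *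
        (qf (Fintype.card F) m * qf (Fintype.card F) (finrank F V - m)) =
      qf (Fintype.card F) (finrank F V) := by
  rw [← mul_assoc, card_subspaces_mul_qf m hm, prod_top_mul_qf _ _ _ hm]

end count2

/-- The Gaussian binomial coefficient. -/
def gauss (q n m : ℕ) : ℕ := qf q n / (qf q m * qf q (n - m))

theorem gauss_symm (q n m : ℕ) (hm : m ≤ n) : gauss q n (n - m) = gauss q n m := by
  unfold gauss
  rw [Nat.sub_sub_self hm, mul_comm]

theorem card_subspaces_eq_gauss {F V : Type*} [Field F] [Fintype F] [AddCommGroup V] [Module F V]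
    [FiniteDimensional F V] (m : ℕ) (hm : m ≤ finrank F V) :
    Nat.card {W : Submodule F V // finrank F W = m} =
      gauss (Fintype.card F) (finrank F V) m := by
  unfold gauss
  rw [← card_subspaces_qf m hm]
  have h2 := two_le_card_field (F := F)
  rw [Nat.mul_div_cancel _ (Nat.mul_pos (qf_pos _ _ h2) (qf_pos _ _ h2))]

theorem not_dvd_qf (p f k : ℕ) (hp : p.Prime) (hf : 1 ≤ f) : ¬ p ∣ qf (p ^ f) k := by
  unfold qf
  rw [Prime.dvd_finsetProd_iff hp.prime]
  rintro ⟨t, _, ht⟩
  have h1 : p ∣ (p ^ f) ^ (t + 1) := by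
    rw [← pow_mul]
    exact dvd_pow_self p (by positivity)
  have h2 : 1 ≤ (p ^ f) ^ (t + 1) := Nat.one_le_pow _ _ (pow_pos hp.pos _)
  have h3 : p ∣ 1 := by
    have := (Nat.dvd_sub h1 ht)
    rwa [Nat.sub_sub_self h2] at this
  exact hp.one_lt.ne' (Nat.dvd_one.mp h3)

/-- the characteristic does not divide the number of `m`-subspaces. -/
theorem not_dvd_card_subspaces {F V : Type*} [Field F] [Fintype F] [AddCommGroup V] [Module F V]
    [FiniteDimensional F V] (p : ℕ) [hp : Fact p.Prime] [CharP F p] (m : ℕ)
    (hm : m ≤ finrank F V) :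
    ¬ p ∣ Nat.card {W : Submodule F V // finrank F W = m} := by
  intro h
  obtain ⟨⟨f, hf0⟩, hf⟩ := FiniteField.card F p
  have h1 := card_subspaces_qf (F := F) (V := V) m hm
  have h2 : p ∣ qf (Fintype.card F) (finrank F V) := by
    rw [← h1]
    exact Dvd.dvd.mul_right h _
  rw [hf.2] at h2
  exact not_dvd_qf p f _ hp.out hf0 h2

/-- a prime dividing the number of `m`-subspaces divides some `q^t - 1`, `n - m < t ≤ n`. -/
theorem dvd_card_subspaces {F V : Type*} [Field F] [Fintype F] [AddCommGroup V] [Module F V]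
    [FiniteDimensional F V] (r : ℕ) (hr : r.Prime) (m : ℕ) (hm : m ≤ finrank F V)
    (h : r ∣ Nat.card {W : Submodule F V // finrank F W = m}) :
    ∃ t, finrank F V - m < t ∧ t ≤ finrank F V ∧ r ∣ Fintype.card F ^ t - 1 := by
  have h1 := card_subspaces_mul_qf (F := F) (V := V) m hm
  have h2 : r ∣ ∏ j ∈ Finset.range m, (Fintype.card F ^ (finrank F V - j) - 1) := by
    rw [← h1]
    exact Dvd.dvd.mul_right h _
  rw [Prime.dvd_finsetProd_iff hr.prime] at h2
  obtain ⟨j, hj, hj2⟩ := h2
  have hj' : j < m := Finset.mem_range.mp hj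
  exact ⟨finrank F V - j, by omega, by omega, hj2⟩

end Cfsg.Agent.Lib.Helper15.PSub
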