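import Mathlib
import Cfsg.Agent.Lib.Helper15.PSub4

/-!
# Model endomorphisms built from an irreducible polynomial
-/

set_option autoImplicit false

namespace Cfsg.Agent.Lib.Helper15.PSub

open Module Polynomial

section model

variable {F : Type*} [Field F]

/-- A model: `s` blocks `AdjoinRoot P` on which `y` is multiplication by the root, plus a
`k`-dimensional space on which `y` is the identity. -/
theorem exists_model (P : F[X]) [hP : Fact (Irreducible P)] (s k n : ℕ)
    (hn : n = s * P.natDegree + k) :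
    ∃ (y : (Fin n → F) →ₗ[F] (Fin n → F))
      (e : (Fin n → F) ≃ₗ[F] ((Fin s → AdjoinRoot P) × (Fin k → F))),
      ∀ v, e (y v) = (AdjoinRoot.root P • (e v).1, (e v).2) := by
  have hP0 : P ≠ 0 := hP.out.ne_zero
  have hfin : Module.Finite F (AdjoinRoot P) := (AdjoinRoot.powerBasis hP0).finite
  have hdimA : finrank F (AdjoinRoot P) = P.natDegree := by
    rw [PowerBasis.finrank (AdjoinRoot.powerBasis hP0), AdjoinRoot.powerBasis_dim]
  have hdim : finrank F (Fin n → F) = finrank F ((Fin s → AdjoinRoot P) × (Fin k → F)) := by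
    rw [Module.finrank_prod, Module.finrank_fin_fun, Module.finrank_fin_fun,
      Module.finrank_pi_fintype]
    simp only [hdimA, Finset.sum_const, Finset.card_univ, Fintype.card_fin, smul_eq_mul]
    exact hn
  let e : (Fin n → F) ≃ₗ[F] ((Fin s → AdjoinRoot P) × (Fin k → F)) :=
    LinearEquiv.ofFinrankEq _ _ hdim
  let y' : ((Fin s → AdjoinRoot P) × (Fin k → F)) →ₗ[F] ((Fin s → AdjoinRoot P) × (Fin k → F)) :=
    LinearMap.prodMap (Algebra.lsmul F F (Fin s → AdjoinRoot P) (AdjoinRoot.root P)) LinearMap.id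
  refine ⟨(e.symm : _ →ₗ[F] _) ∘ₗ y' ∘ₗ (e : _ →ₗ[F] _), e, ?_⟩
  intro v
  simp only [LinearMap.coe_comp, LinearEquiv.coe_coe, Function.comp_apply,
    LinearEquiv.apply_symm_apply]
  rfl

theorem model_pow {P : F[X]} {s k n : ℕ}
    (y : (Fin n → F) →ₗ[F] (Fin n → F))
    (e : (Fin n → F) ≃ₗ[F] ((Fin s → AdjoinRoot P) × (Fin k → F)))
    (hy : ∀ v, e (y v) = (AdjoinRoot.root P • (e v).1, (e v).2)) (t : ℕ) (v : Fin n → F) :
    e ((y ^ t) v) = (AdjoinRoot.root P ^ t • (e v).1, (e v).2) := by
  induction t generalizing v with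
  | zero => simp
  | succ t ih =>
    rw [pow_succ, Module.End.mul_apply, ih, hy]
    simp only [smul_smul, pow_succ]

/-- bad element of order `r`: `s` nontrivial blocks, fixed space of dimension `≤ k`. -/
theorem exists_order_r (r : ℕ) [hr : Fact r.Prime] (hr0 : (r : F) ≠ 0) (P : F[X])
    (hP : Irreducible P) (hPd : P ∣ cyclotomic r F) (s k n : ℕ) (hn : n = s * P.natDegree + k) :
    ∃ y : (Fin n → F) →ₗ[F] (Fin n → F), y ^ r = 1 ∧
      finrank F (Module.End.eigenspace y 1) ≤ k := by
  have : Fact (Irreducible P) := ⟨hP⟩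
  obtain ⟨y, e, hy⟩ := exists_model P s k n hn
  have hroot : AdjoinRoot.root P ^ r = 1 := by
    have h1 : P ∣ X ^ r - 1 := by
      rw [← cyclotomic_prime_mul_X_sub_one F r]
      exact Dvd.dvd.mul_right hPd _
    have h2 := AdjoinRoot.mk_eq_zero.mpr h1
    rw [map_sub, map_pow, AdjoinRoot.mk_X, map_one, sub_eq_zero] at h2
    exact h2
  have hroot1 : AdjoinRoot.root P - 1 ≠ 0 := by
    intro h0
    have h1 : AdjoinRoot.mk P (X - 1) = 0 := by
      rw [map_sub, AdjoinRoot.mk_X, map_one]
      exact h0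
    rw [AdjoinRoot.mk_eq_zero] at h1
    have h2 : (X - 1 : F[X]) ∣ cyclotomic r F := by
      have hirr : Irreducible (X - 1 : F[X]) := by
        have := irreducible_X_sub_C (1 : F)
        rwa [C_1] at this
      obtain ⟨g, hg⟩ := h1
      rcases hirr.isUnit_or_isUnit hg with h | h
      · exact absurd h hP.not_isUnit
      · obtain ⟨u, rfl⟩ := h
        have : (X - 1 : F[X]) * ↑u⁻¹ = P := by rw [hg, mul_assoc, Units.mul_inv, mul_one]
        rw [← this] at hPd
        exact (Dvd.intro _ rfl).trans hPd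
    have h3 : eval 1 (cyclotomic r F) = 0 := by
      obtain ⟨g, hg⟩ := h2
      rw [hg, eval_mul, eval_sub, eval_X, eval_one, sub_self, zero_mul]
    rw [eval_one_cyclotomic_prime] at h3
    exact hr0 h3
  refine ⟨y, ?_, ?_⟩
  · apply LinearMap.ext
    intro v
    apply e.injective
    rw [model_pow y e hy, hroot, one_smul, Module.End.one_apply]
  · have h1 : (Module.End.eigenspace y 1).map (e : (Fin n → F) →ₗ[F] _) ≤
        LinearMap.range (LinearMap.inr F (Fin s → AdjoinRoot P) (Fin k → F)) := by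
      rintro _ ⟨v, hv, rfl⟩
      rw [SetLike.mem_coe, Module.End.mem_eigenspace_iff, one_smul] at hv
      have h2 := hy v
      rw [hv] at h2
      have h3 : AdjoinRoot.root P • (e v).1 = (e v).1 := by
        have := congrArg Prod.fst h2
        exact this.symm
      have h4 : (AdjoinRoot.root P - 1) • (e v).1 = 0 := by
        rw [sub_smul, one_smul, h3, sub_self]
      have h5 : (e v).1 = 0 := (smul_eq_zero.mp h4).resolve_left hroot1
      refine ⟨(e v).2, ?_⟩
      rw [LinearMap.inr_apply]
      apply Prod.ext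
      · exact h5.symm
      · rfl
    have h2 := Submodule.finrank_mono h1
    rw [LinearEquiv.finrank_map_eq e, LinearMap.finrank_range_of_inj LinearMap.inr_injective,
      Module.finrank_fin_fun] at h2
    exact h2

/-- an element with `x^r = c`. -/
theorem exists_pow_eq (r : ℕ) (hr : r.Prime) (c : F) (hc : ∀ b : F, b ^ r ≠ c) (k n : ℕ)
    (hn : n = k * r) :
    ∃ x : (Fin n → F) →ₗ[F] (Fin n → F), x ^ r = c • (1 : (Fin n → F) →ₗ[F] (Fin n → F)) := by
  have hirr : Irreducible (X ^ r - C c : F[X]) := X_pow_sub_C_irreducible_of_prime hr hc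
  have : Fact (Irreducible (X ^ r - C c : F[X])) := ⟨hirr⟩
  obtain ⟨x, e, hx⟩ := exists_model (X ^ r - C c : F[X]) k 0 n
    (by rw [natDegree_X_pow_sub_C, add_zero]; exact hn)
  have hroot : AdjoinRoot.root (X ^ r - C c : F[X]) ^ r = algebraMap F _ c := by
    have h2 := AdjoinRoot.mk_self (f := (X ^ r - C c : F[X]))
    rw [map_sub, map_pow, AdjoinRoot.mk_X, AdjoinRoot.mk_C, sub_eq_zero] at h2
    exact h2
  refine ⟨x, ?_⟩
  apply LinearMap.ext
  intro v
  apply e.injective
  rw [model_pow x e hx, hroot, LinearMap.smul_apply, Module.End.one_apply, map_smul]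
  apply Prod.ext
  · simp only [Prod.smul_fst]
    rw [algebraMap_smul]
  · simp only [Prod.smul_snd]
    exact Subsingleton.elim _ _

end model

end Cfsg.Agent.Lib.Helper15.PSub
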