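import Mathlib

/-!
# Number theory in a finite field for the prime-order-element analysis
-/

set_option autoImplicit false

namespace Cfsg.Agent.Lib.Helper15.PSub

section nt

variable {F : Type*} [Field F] [Fintype F]

theorem exists_gen : ∃ g : Fˣ, orderOf g = Fintype.card F - 1 ∧ ∀ x : Fˣ, ∃ t : ℕ, g ^ t = x := by
  obtain ⟨g, hg⟩ := IsCyclic.exists_monoid_generator (α := Fˣ)
  refine ⟨g, ?_, ?_⟩
  · rw [orderOf_eq_card_of_forall_mem_powers hg, Nat.card_units, Nat.card_eq_fintype_card]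
  · intro x
    obtain ⟨t, ht⟩ := hg x
    exact ⟨t, ht⟩

theorem orderOf_zmod_eq_one_iff (q r : ℕ) (hq : 1 ≤ q) :
    orderOf ((q : ℕ) : ZMod r) = 1 ↔ r ∣ q - 1 := by
  rw [orderOf_eq_one_iff, ← ZMod.natCast_eq_zero_iff (q - 1) r, Nat.cast_sub hq, Nat.cast_one,
    sub_eq_zero]

theorem orderOf_zmod_dvd_iff (q r t : ℕ) (hq : 1 ≤ q) :
    orderOf ((q : ℕ) : ZMod r) ∣ t ↔ r ∣ q ^ t - 1 := by
  rw [orderOf_dvd_iff_pow_eq_one, ← Nat.cast_pow, ← ZMod.natCast_eq_zero_iff (q ^ t - 1) r,
    Nat.cast_sub (Nat.one_le_pow _ _ hq), Nat.cast_one, sub_eq_zero]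

/-- if `r ∤ q - 1` every nonzero element is an `r`-th power. -/
theorem exists_pow_eq_of_not_dvd (r : ℕ) (hr : r.Prime) (hrq : ¬ r ∣ Fintype.card F - 1) (c : F)
    (hc : c ≠ 0) : ∃ b : F, b ≠ 0 ∧ b ^ r = c := by
  have hcop : (Nat.card Fˣ).Coprime r := by
    rw [Nat.card_units, Nat.card_eq_fintype_card, Nat.coprime_comm]
    exact (Nat.Prime.coprime_iff_not_dvd hr).mpr hrq
  obtain ⟨b, hb⟩ := (powCoprime hcop).surjective (Units.mk0 c hc)
  refine ⟨(b : F), b.ne_zero, ?_⟩
  have := congrArg Units.val hb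
  simpa using this

/-- Euler-type criterion: if `c^k = 1` with `v_r(k) < v_r(q-1)` then `c` is an `r`-th power. -/
theorem exists_pow_eq_of_pow_eq_one (r : ℕ) (hr : r.Prime) (c : F) (hc : c ≠ 0) (k : ℕ)
    (hk0 : k ≠ 0) (hck : c ^ k = 1)
    (hv : padicValNat r k < padicValNat r (Fintype.card F - 1)) : ∃ b : F, b ^ r = c := by
  have : Fact r.Prime := ⟨hr⟩
  obtain ⟨g, hg, hgen⟩ := exists_gen (F := F)
  obtain ⟨t, ht⟩ := hgen (Units.mk0 c hc)
  have h1 : g ^ (t * k) = 1 := by
    rw [pow_mul, ht]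
    apply Units.ext
    simpa using hck
  have h2 : Fintype.card F - 1 ∣ t * k := by
    rw [← hg]
    exact orderOf_dvd_of_pow_eq_one h1
  have hq1 : Fintype.card F - 1 ≠ 0 := by
    have := Fintype.one_lt_card (α := F)
    omega
  by_cases ht0 : t = 0
  · refine ⟨1, ?_⟩
    rw [one_pow]
    have := congrArg Units.val ht
    rw [ht0, pow_zero] at this
    simpa using this
  have h3 : r ∣ t := by
    by_contra hrt
    have h4 : padicValNat r (t * k) = padicValNat r k := by
      rw [padicValNat.mul ht0 hk0, padicValNat.eq_zero_of_not_dvd hrt, zero_add]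
    have h5 : r ^ padicValNat r (Fintype.card F - 1) ∣ t * k :=
      pow_padicValNat_dvd.trans h2
    have h6 := (padicValNat_dvd_iff_le (Nat.mul_ne_zero ht0 hk0)).mp h5
    omega
  obtain ⟨t', rfl⟩ := h3
  refine ⟨((g ^ t' : Fˣ) : F), ?_⟩
  have := congrArg Units.val ht
  rw [mul_comm, pow_mul] at this
  simpa using this

/-- A non-`r`-th power `c` with `((-1)^(r+1) c)^(n/r) = 1`, in the "bad" case. -/
theorem exists_bad_scalar (r : ℕ) (hr : r.Prime) (hrq : r ∣ Fintype.card F - 1) (n : ℕ)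
    (hrn : r ∣ n)
    (hbad : ¬ (padicValNat r n ≤ padicValNat r (Fintype.card F - 1) ∧
      (r = 2 → Even n → Fintype.card F % 4 = 1))) (hn0 : n ≠ 0) :
    ∃ c : F, (∀ b : F, b ^ r ≠ c) ∧ ((-1) ^ (r + 1) * c) ^ (n / r) = 1 := by
  have : Fact r.Prime := ⟨hr⟩
  obtain ⟨g, hg, hgen⟩ := exists_gen (F := F)
  set Q := Fintype.card F - 1 with hQ
  have hq1 : Q ≠ 0 := by
    have := Fintype.one_lt_card (α := F)
    omega
  set a := padicValNat r Q with ha
  obtain ⟨u, hu⟩ : r ^ a ∣ Q := pow_padicValNat_dvd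
  have hru : ¬ r ∣ u := by
    rintro ⟨u', rfl⟩
    have : r ^ (a + 1) ∣ Q := ⟨u', by rw [hu, pow_succ]; ring⟩
    exact pow_succ_padicValNat_not_dvd hq1 this
  have ha1 : 1 ≤ a := by
    have := (padicValNat_dvd_iff_le (p := r) hq1 (n := 1)).mp (by simpa using hrq)
    exact this
  let c : Fˣ := g ^ u
  have hcpow : c ^ (r ^ a) = 1 := by
    show (g ^ u) ^ (r ^ a) = 1
    rw [← pow_mul, mul_comm, ← hu, ← hg, pow_orderOf_eq_one]
  have hcnot : ∀ b : F, b ^ r ≠ (c : F) := by
    intro b hb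
    have hb0 : b ≠ 0 := by
      intro h0
      rw [h0, zero_pow hr.ne_zero] at hb
      exact c.ne_zero hb.symm
    obtain ⟨t, ht⟩ := hgen (Units.mk0 b hb0)
    have h1 : g ^ (t * r) = g ^ u := by
      rw [pow_mul, ht]
      apply Units.ext
      rw [Units.val_pow_eq_pow_val, Units.val_mk0]
      exact hb
    rw [pow_eq_pow_iff_modEq, hg] at h1
    have h2 : t * r ≡ u [MOD r] := h1.of_dvd hrq
    have h3 : r ∣ u := by
      have : t * r ≡ 0 [MOD r] := (Nat.modEq_zero_iff_dvd).mpr (Dvd.intro_left t rfl)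
      exact (Nat.modEq_zero_iff_dvd).mp (h2.symm.trans this)
    exact hru h3
  refine ⟨(c : F), hcnot, ?_⟩
  have hcF : (c : F) ^ (r ^ a) = 1 := by
    have := congrArg Units.val hcpow
    simpa using this
  by_cases hcase : padicValNat r n ≤ a
  · -- then `r = 2`, `n` even and `q % 4 ≠ 1`
    have h2 : ¬ (r = 2 → Even n → Fintype.card F % 4 = 1) := fun h => hbad ⟨hcase, h⟩
    obtain ⟨hr2, h2'⟩ := Classical.not_imp.mp h2
    obtain ⟨hneven, hq4⟩ := Classical.not_imp.mp h2'
    subst hr2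
    -- `a = 1`
    have hqodd : Fintype.card F % 2 = 1 := by
      have := Fintype.one_lt_card (α := F)
      omega
    have hq43 : Fintype.card F % 4 = 3 := by omega
    have ha_eq : a = 1 := by
      apply le_antisymm _ ha1
      by_contra hlt
      have hlt : 2 ≤ a := by omega
      have : 2 ^ 2 ∣ Q := (pow_dvd_pow 2 hlt).trans pow_padicValNat_dvd
      omega
    rw [ha_eq, pow_one] at hcF
    have hc1 : (c : F) ≠ 1 := by
      intro h1
      exact hcnot 1 (by rw [one_pow, h1])
    have hcm1 : (c : F) = -1 := by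
      have : ((c : F) - 1) * ((c : F) + 1) = 0 := by ring_nf; rw [hcF]; ring
      rcases mul_eq_zero.mp this with h | h
      · exact absurd (sub_eq_zero.mp h) hc1
      · exact eq_neg_of_add_eq_zero_left h
    rw [hcm1]
    norm_num
  · have hcase : a + 1 ≤ padicValNat r n := by omega
    have h1 : r ^ (a + 1) ∣ n := (padicValNat_dvd_iff_le hn0).mpr hcase
    obtain ⟨w, hw⟩ := h1
    have hnr : n / r = r ^ a * w := by
      rw [hw, pow_succ, mul_assoc, mul_comm (r ^ a), mul_assoc, Nat.mul_div_cancel_left _ hr.pos]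
      ring
    rw [hnr, mul_pow, pow_mul (c : F), hcF, one_pow, mul_one, ← pow_mul]
    rcases hr.eq_two_or_odd' with h2 | hodd
    · subst h2
      have : Even ((2 + 1) * (2 ^ a * w)) := by
        apply Even.mul_left
        apply Even.mul_right
        exact (Nat.even_pow' (by omega)).mpr (by norm_num)
      exact Even.neg_one_pow this
    · have : Even ((r + 1) * (r ^ a * w)) := by
        apply Even.mul_right
        exact Odd.add_one hodd
      exact Even.neg_one_pow this

/-- In the "good" case no element of determinant one has `x^r = c` with `c` a non-`r`-th power. -/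
theorem false_of_good (r : ℕ) (hr : r.Prime) (n : ℕ) (hn0 : n ≠ 0)
    (hrn : r ∣ n) (c : F) (hc : ∀ b : F, b ^ r ≠ c)
    (hdet : ((-1) ^ (r + 1) * c) ^ (n / r) = 1)
    (hgood : padicValNat r n ≤ padicValNat r (Fintype.card F - 1))
    (hgood2 : r = 2 → Even n → Fintype.card F % 4 = 1) : False := by
  have : Fact r.Prime := ⟨hr⟩
  have hc0 : c ≠ 0 := by
    intro h0
    exact hc 0 (by rw [zero_pow hr.ne_zero, h0])
  obtain ⟨k, rfl⟩ := hrn
  have hk0 : k ≠ 0 := by
    rintro rfl
    exact hn0 (mul_zero r)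
  rw [Nat.mul_div_cancel_left _ hr.pos] at hdet
  have hvk : padicValNat r k < padicValNat r (Fintype.card F - 1) := by
    have : padicValNat r (r * k) = padicValNat r k + 1 := by
      rw [padicValNat.mul hr.ne_zero hk0, padicValNat_self, add_comm]
    omega
  rcases hr.eq_two_or_odd' with h2 | hodd
  · subst h2
    have hq4 := hgood2 rfl (even_two_mul k)
    have hsq : IsSquare (-1 : F) := FiniteField.isSquare_neg_one_iff.mpr (by omega)
    obtain ⟨ι, hι⟩ := hsq
    have hι0 : ι ≠ 0 := by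
      rintro rfl
      simp at hι
    have hd : (-c) ^ k = 1 := by
      have : ((-1 : F)) ^ (2 + 1) * c = -c := by norm_num
      rwa [this] at hdet
    obtain ⟨b, hb⟩ := exists_pow_eq_of_pow_eq_one 2 hr (-c) (neg_ne_zero.mpr hc0) k hk0 hd hvk
    apply hc (b / ι)
    rw [div_pow, hb, pow_two, ← hι]
    field_simp
  · have hd : c ^ k = 1 := by
      have : ((-1 : F)) ^ (r + 1) = 1 := Even.neg_one_pow (Odd.add_one hodd)
      rwa [this, one_mul] at hdet
    obtain ⟨b, hb⟩ := exists_pow_eq_of_pow_eq_one r hr c hc0 k hk0 hd hvk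
    exact hc b hb

end nt

end Cfsg.Agent.Lib.Helper15.PSub
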