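import Mathlib
import Cfsg.Agent.Lib.Helper15.PSub1
import Cfsg.Agent.Lib.Helper15.PSub5
import Cfsg.Agent.Lib.Helper15.PSub6

/-!
# Elements of prime order modulo scalars: invariant subspaces (assembled statements)
-/

set_option autoImplicit false

namespace Cfsg.Agent.Lib.Helper15.PSub

open Module Polynomial

section arith

theorem mspace_arith (i d s m n : ℕ) (_hi : 0 < i) (hn : n = d + s * i) (hm : m ≤ n)
    (h2 : m % i ≤ n % i) : ∃ u j, u ≤ d ∧ j ≤ s ∧ u + j * i = m := by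
  have hk : n % i = d % i := by rw [hn, Nat.add_mul_mod_self_right]
  by_cases h : m / i ≤ s
  · refine ⟨m % i, m / i, ?_, h, Nat.mod_add_div' m i⟩
    have := Nat.mod_le d i
    omega
  · have h1 : s * i ≤ m := by
      have h3 : s * i ≤ (m / i) * i := Nat.mul_le_mul_right i (by omega)
      have h4 := Nat.div_mul_le_self m i
      omega
    exact ⟨m - s * i, s, by omega, le_rfl, by omega⟩

theorem flag_arith (i d s m n : ℕ) (hi : 0 < i) (hn : n = d + s * i) (hm : 2 * m < n)
    (h2 : 2 * (m % i) ≤ n % i) :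
    ∃ u j u' j', u ≤ u' ∧ u' ≤ d ∧ j ≤ j' ∧ j' ≤ s ∧ u + j * i = m ∧ u' + j' * i = n - m := by
  have hk : n % i = d % i := by rw [hn, Nat.add_mul_mod_self_right]
  set a := m / i with ha
  set b := m % i with hb
  set k := d % i with hk'
  set e := d / i with he
  have hm' : b + a * i = m := Nat.mod_add_div' m i
  have hd' : k + e * i = d := Nat.mod_add_div' d i
  have hbi : b < i := Nat.mod_lt m hi
  have hki : k < i := Nat.mod_lt d hi
  rw [hk] at h2
  by_cases h : a ≤ s
  · -- `t = e + s - a`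
    have h2a : 2 * a ≤ e + s := by
      by_contra hc
      have hc' : e + s + 1 ≤ 2 * a := by omega
      have h3 : (e + s + 1) * i ≤ 2 * a * i := Nat.mul_le_mul_right i hc'
      have h4 : (e + s + 1) * i = e * i + s * i + i := by ring
      have h5 : 2 * a * i = 2 * (a * i) := by ring
      omega
    by_cases hts : e + s - a ≤ s
    · refine ⟨b, a, k - b, e + s - a, by omega, by omega, by omega, hts, hm', ?_⟩
      have h6 : (e + s - a) * i + a * i = e * i + s * i := by
        rw [← Nat.add_mul, Nat.sub_add_cancel (by omega), Nat.add_mul]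
      omega
    · have hea : a ≤ e := by omega
      refine ⟨b, a, k - b + (e - a) * i, s, by omega, ?_, h, le_rfl, hm', ?_⟩
      · have h6 : (e - a) * i + a * i = e * i := by
          rw [← Nat.add_mul, Nat.sub_add_cancel hea]
        omega
      · have h6 : (e - a) * i + a * i = e * i := by
          rw [← Nat.add_mul, Nat.sub_add_cancel hea]
        omega
  · have h1 : s * i ≤ m := by
      have h3 : s * i ≤ a * i := Nat.mul_le_mul_right i (by omega)
      omega
    exact ⟨m - s * i, s, n - m - s * i, s, by omega, by omega, le_rfl, le_rfl, by omega, by omega⟩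

end arith

section good

variable {F V : Type*} [Field F] [Fintype F] [AddCommGroup V] [Module F V] [FiniteDimensional F V]

theorem ne_zero_of_ne (p : ℕ) [hp : Fact p.Prime] [CharP F p] (r : ℕ) (hr : r.Prime)
    (hrp : r ≠ p) : (r : F) ≠ 0 := by
  intro h0
  rw [CharP.cast_eq_zero_iff F p r] at h0
  exact hrp ((Nat.prime_dvd_prime_iff_eq hp.out hr).mp h0).symm

/-- structure constants of an element of order `r`. -/
theorem exists_structure (p : ℕ) [Fact p.Prime] [CharP F p] (r : ℕ) [hr : Fact r.Prime]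
    (hrp : r ≠ p) (f : V →ₗ[F] V) (hf : f ^ r = 1) :
    ∃ s : ℕ, finrank F V = finrank F (Module.End.eigenspace f 1) +
      s * orderOf ((Fintype.card F : ℕ) : ZMod r) := by
  obtain ⟨j, hj⟩ := invt_profile p r hrp f hf ⊤ (Module.End.invtSubmodule.top_mem f)
  rw [finrank_top, top_inf_eq] at hj
  exact ⟨j, hj⟩

theorem orderOf_pos_of_ne (p : ℕ) [hp : Fact p.Prime] [CharP F p] (r : ℕ) [hr : Fact r.Prime]
    (hrp : r ≠ p) : 0 < orderOf ((Fintype.card F : ℕ) : ZMod r) := by
  apply orderOf_pos_iff.mpr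
  have hu : IsUnit ((Fintype.card F : ℕ) : ZMod r) := by
    obtain ⟨⟨f, _⟩, -, hf⟩ := FiniteField.card F p
    rw [hf, ZMod.isUnit_iff_coprime]
    apply Nat.Coprime.pow_left
    exact (Nat.coprime_primes hp.out hr.out).mpr (Ne.symm hrp)
  exact hu.isOfFinOrder

/-- **G2**: flags for elements of order `r`. -/
theorem exists_flag_of_order (p : ℕ) [Fact p.Prime] [CharP F p] (r : ℕ) [hr : Fact r.Prime]
    (hrp : r ≠ p) (f : V →ₗ[F] V) (hf : f ^ r = 1) (m : ℕ) (hm : 2 * m < finrank F V)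
    (h2 : 2 * (m % orderOf ((Fintype.card F : ℕ) : ZMod r)) ≤
      finrank F V % orderOf ((Fintype.card F : ℕ) : ZMod r)) :
    ∃ U W : Submodule F V, U ≤ W ∧ U ∈ Module.End.invtSubmodule f ∧
      W ∈ Module.End.invtSubmodule f ∧ finrank F U = m ∧ finrank F W = finrank F V - m := by
  obtain ⟨s, hs⟩ := exists_structure p r hrp f hf
  obtain ⟨u, j, u', j', huu, hu', hjj, hj', h3, h4⟩ := flag_arith _ _ s m _
    (orderOf_pos_of_ne p r hrp) hs hm h2
  obtain ⟨U, W, hUW, hU, hW, hUd, hWd⟩ := exists_invt_flag p r hrp f hf u j u' j' huu hu' hjj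
    (by
      rw [hs]
      exact Nat.add_le_add_left (Nat.mul_le_mul_right _ hj') _)
  exact ⟨U, W, hUW, hU, hW, by rw [hUd, h3], by rw [hWd, h4]⟩

/-- **G1**: `m`-spaces for elements of order `r`. -/
theorem exists_mspace_of_order (p : ℕ) [Fact p.Prime] [CharP F p] (r : ℕ) [hr : Fact r.Prime]
    (hrp : r ≠ p) (f : V →ₗ[F] V) (hf : f ^ r = 1) (m : ℕ) (hm : m ≤ finrank F V)
    (h2 : m % orderOf ((Fintype.card F : ℕ) : ZMod r) ≤
      finrank F V % orderOf ((Fintype.card F : ℕ) : ZMod r)) :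
    ∃ W : Submodule F V, W ∈ Module.End.invtSubmodule f ∧ finrank F W = m := by
  obtain ⟨s, hs⟩ := exists_structure p r hrp f hf
  obtain ⟨u, j, hu, hj, h3⟩ := mspace_arith _ _ s m _ (orderOf_pos_of_ne p r hrp) hs hm h2
  obtain ⟨U, W, -, hU, -, hUd, -⟩ := exists_invt_flag p r hrp f hf u j u j le_rfl hu le_rfl
    (by
      rw [hs]
      exact Nat.add_le_add_left (Nat.mul_le_mul_right _ hj) _)
  exact ⟨U, hU, by rw [hUd, h3]⟩

omit [Fintype F] [FiniteDimensional F V] in
/-- **G3**: scaling. -/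
theorem scale_pow (x : V →ₗ[F] V) (r : ℕ) (μ : F) (hμ : μ ≠ 0)
    (hx : x ^ r = (μ ^ r) • (1 : V →ₗ[F] V)) : (μ⁻¹ • x) ^ r = 1 := by
  rw [_root_.smul_pow, hx, smul_smul, inv_pow, inv_mul_cancel₀ (pow_ne_zero r hμ), one_smul]

omit [Fintype F] [FiniteDimensional F V] in
theorem scale_invt (x : V →ₗ[F] V) (μ : F) (hμ : μ ≠ 0) (W : Submodule F V) :
    W ∈ Module.End.invtSubmodule (μ⁻¹ • x) ↔ W ∈ Module.End.invtSubmodule x := by
  have h := Module.End.invtSubmodule_smul (f := x) (Units.mk0 μ⁻¹ (inv_ne_zero hμ))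
  have h2 : (Units.mk0 μ⁻¹ (inv_ne_zero hμ)) • x = μ⁻¹ • x := rfl
  rw [h2] at h
  rw [h]

omit [FiniteDimensional F V] [AddCommGroup V] [Module F V] in
/-- `z^r = 1` and `r ∤ q - 1` force `z = 1`. -/
theorem eq_one_of_pow_eq_one (r : ℕ) (hr : r.Prime) (hrq : ¬ r ∣ Fintype.card F - 1) (z : F)
    (hz : z ^ r = 1) : z = 1 := by
  have hz0 : z ≠ 0 := by
    rintro rfl
    rw [zero_pow hr.ne_zero] at hz
    exact zero_ne_one hz
  have h1 : (Units.mk0 z hz0) ^ r = 1 := by
    apply Units.ext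
    simpa using hz
  have h2 : orderOf (Units.mk0 z hz0) ∣ r := orderOf_dvd_of_pow_eq_one h1
  have h3 : orderOf (Units.mk0 z hz0) ∣ Fintype.card F - 1 := by
    have := orderOf_dvd_natCard (Units.mk0 z hz0)
    rwa [Nat.card_units, Nat.card_eq_fintype_card] at this
  have h4 : orderOf (Units.mk0 z hz0) = 1 := by
    rcases (Nat.dvd_prime hr).mp h2 with h | h
    · exact h
    · rw [h] at h3
      exact absurd h3 hrq
  have := orderOf_eq_one_iff.mp h4
  have := congrArg Units.val this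
  simpa using this

theorem smul_ne_zero_of_pow (x : V →ₗ[F] V) (hdet : LinearMap.det x = 1) (r : ℕ) (c : F)
    (hx : x ^ r = c • (1 : V →ₗ[F] V)) (hn : finrank F V ≠ 0) : c ≠ 0 := by
  rintro rfl
  have h1 : LinearMap.det (x ^ r) = 1 := by rw [map_pow, hdet, one_pow]
  have hne : Nonempty (Fin (finrank F V)) := Fin.pos_iff_nonempty.mp (Nat.pos_of_ne_zero hn)
  rw [hx, zero_smul, LinearMap.det_zero' (Module.finBasis F V)] at h1
  exact zero_ne_one h1

/-- **Good theorem for `m`-spaces** (with invariant complement). -/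
theorem good_mspace (p : ℕ) [Fact p.Prime] [CharP F p] (r : ℕ) [hr : Fact r.Prime] (hrp : r ≠ p)
    (x : V →ₗ[F] V) (hdet : LinearMap.det x = 1) (c : F)
    (hx : x ^ r = c • (1 : V →ₗ[F] V)) (hn : finrank F V ≠ 0) (m : ℕ) (hm : m ≤ finrank F V)
    (hcond : (orderOf ((Fintype.card F : ℕ) : ZMod r) = 1 ∧ (r ∣ m ∨
        (padicValNat r (finrank F V) ≤ padicValNat r (Fintype.card F - 1) ∧
          (r = 2 → Even (finrank F V) → Fintype.card F % 4 = 1)))) ∨
      (2 ≤ orderOf ((Fintype.card F : ℕ) : ZMod r) ∧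
        m % orderOf ((Fintype.card F : ℕ) : ZMod r) ≤
          finrank F V % orderOf ((Fintype.card F : ℕ) : ZMod r))) :
    ∃ U W : Submodule F V, IsCompl U W ∧ U ∈ Module.End.invtSubmodule x ∧
      W ∈ Module.End.invtSubmodule x ∧ finrank F U = m := by
  have hc0 : c ≠ 0 := smul_ne_zero_of_pow x hdet r c hx hn
  have hr0 : (r : F) ≠ 0 := ne_zero_of_ne p r hr.out hrp
  have hss : Module.End.IsSemisimple x := isSemisimple_of_pow_eq_smul x r hr0 c hc0 hx
  have hq1 : 1 ≤ Fintype.card F := Fintype.card_pos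
  suffices h : ∃ U : Submodule F V, U ∈ Module.End.invtSubmodule x ∧ finrank F U = m by
    obtain ⟨U, hU, hUd⟩ := h
    obtain ⟨W, hW, hUW⟩ := Module.End.isSemisimple_iff.mp hss U hU
    exact ⟨U, W, hUW, hU, hW, hUd⟩
  by_cases hpow : ∃ μ : F, μ ^ r = c
  · obtain ⟨μ, rfl⟩ := hpow
    have hμ : μ ≠ 0 := by
      rintro rfl
      rw [zero_pow hr.out.ne_zero] at hc0
      exact hc0 rfl
    have hf := scale_pow x r μ hμ hx
    have h2 : m % orderOf ((Fintype.card F : ℕ) : ZMod r) ≤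
        finrank F V % orderOf ((Fintype.card F : ℕ) : ZMod r) := by
      rcases hcond with ⟨h1, -⟩ | ⟨-, h⟩
      · rw [h1, Nat.mod_one, Nat.mod_one]
      · exact h
    obtain ⟨W, hW, hWd⟩ := exists_mspace_of_order p r hrp (μ⁻¹ • x) hf m hm h2
    exact ⟨W, (scale_invt x μ hμ W).mp hW, hWd⟩
  · have hpow' : ∀ b : F, b ^ r ≠ c := fun b hb => hpow ⟨b, hb⟩
    have hrq : r ∣ Fintype.card F - 1 := by
      by_contra hrq
      obtain ⟨b, -, hb⟩ := exists_pow_eq_of_not_dvd r hr.out hrq c hc0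
      exact hpow' b hb
    have hi1 : orderOf ((Fintype.card F : ℕ) : ZMod r) = 1 :=
      (orderOf_zmod_eq_one_iff _ r hq1).mpr hrq
    obtain ⟨hrn, hdetf⟩ := det_of_not_pow r hr.out c hpow' x hx
    rcases hcond with ⟨-, h⟩ | ⟨h, -⟩
    · rcases h with hrm | ⟨hg1, hg2⟩
      · obtain ⟨j, rfl⟩ := hrm
        obtain ⟨U, -, -, hU, -, hUd, -⟩ := exists_invt_flag_of_not_pow r hr.out hr0 c hpow' x hx j j
          le_rfl (by rw [mul_comm]; exact hm)
        exact ⟨U, hU, by rw [hUd, mul_comm]⟩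
      · rw [hdet] at hdetf
        exact (false_of_good r hr.out (finrank F V) hn hrn c hpow' hdetf.symm hg1 hg2).elim
    · omega

/-- **Good theorem for flags**. -/
theorem good_flag (p : ℕ) [Fact p.Prime] [CharP F p] (r : ℕ) [hr : Fact r.Prime] (hrp : r ≠ p)
    (x : V →ₗ[F] V) (hdet : LinearMap.det x = 1) (c : F)
    (hx : x ^ r = c • (1 : V →ₗ[F] V)) (m : ℕ) (hm : 2 * m < finrank F V)
    (hcond : (orderOf ((Fintype.card F : ℕ) : ZMod r) = 1 ∧ (r ∣ m ∨
        (padicValNat r (finrank F V) ≤ padicValNat r (Fintype.card F - 1) ∧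
          (r = 2 → Even (finrank F V) → Fintype.card F % 4 = 1)))) ∨
      (2 ≤ orderOf ((Fintype.card F : ℕ) : ZMod r) ∧
        2 * (m % orderOf ((Fintype.card F : ℕ) : ZMod r)) ≤
          finrank F V % orderOf ((Fintype.card F : ℕ) : ZMod r))) :
    ∃ U W : Submodule F V, U ≤ W ∧ U ∈ Module.End.invtSubmodule x ∧
      W ∈ Module.End.invtSubmodule x ∧ finrank F U = m ∧ finrank F W = finrank F V - m := by
  have hn : finrank F V ≠ 0 := by omega
  have hc0 : c ≠ 0 := smul_ne_zero_of_pow x hdet r c hx hn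
  have hr0 : (r : F) ≠ 0 := ne_zero_of_ne p r hr.out hrp
  have hq1 : 1 ≤ Fintype.card F := Fintype.card_pos
  by_cases hpow : ∃ μ : F, μ ^ r = c
  · obtain ⟨μ, rfl⟩ := hpow
    have hμ : μ ≠ 0 := by
      rintro rfl
      rw [zero_pow hr.out.ne_zero] at hc0
      exact hc0 rfl
    have hf := scale_pow x r μ hμ hx
    have h2 : 2 * (m % orderOf ((Fintype.card F : ℕ) : ZMod r)) ≤
        finrank F V % orderOf ((Fintype.card F : ℕ) : ZMod r) := by
      rcases hcond with ⟨h1, -⟩ | ⟨-, h⟩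
      · rw [h1, Nat.mod_one, Nat.mod_one]
      · exact h
    obtain ⟨U, W, hUW, hU, hW, hUd, hWd⟩ := exists_flag_of_order p r hrp (μ⁻¹ • x) hf m hm h2
    exact ⟨U, W, hUW, (scale_invt x μ hμ U).mp hU, (scale_invt x μ hμ W).mp hW, hUd, hWd⟩
  · have hpow' : ∀ b : F, b ^ r ≠ c := fun b hb => hpow ⟨b, hb⟩
    have hrq : r ∣ Fintype.card F - 1 := by
      by_contra hrq
      obtain ⟨b, -, hb⟩ := exists_pow_eq_of_not_dvd r hr.out hrq c hc0
      exact hpow' b hb
    have hi1 : orderOf ((Fintype.card F : ℕ) : ZMod r) = 1 :=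
      (orderOf_zmod_eq_one_iff _ r hq1).mpr hrq
    obtain ⟨hrn, hdetf⟩ := det_of_not_pow r hr.out c hpow' x hx
    rcases hcond with ⟨-, h⟩ | ⟨h, -⟩
    · rcases h with hrm | ⟨hg1, hg2⟩
      · obtain ⟨j, rfl⟩ := hrm
        obtain ⟨t, ht⟩ := hrn
        have hjt : 2 * j < t := by
          have : r * (2 * j) < r * t := by rw [← ht]; linarith
          exact Nat.lt_of_mul_lt_mul_left this
        obtain ⟨U, W, hUW, hU, hW, hUd, hWd⟩ := exists_invt_flag_of_not_pow r hr.out hr0 c hpow' x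
          hx j (t - j) (by omega) (by rw [ht, mul_comm]; exact Nat.mul_le_mul_left _ (by omega))
        refine ⟨U, W, hUW, hU, hW, by rw [hUd, mul_comm], ?_⟩
        rw [hWd, ht, Nat.sub_mul, mul_comm t r, mul_comm j r]
      · rw [hdet] at hdetf
        exact (false_of_good r hr.out (finrank F V) hn hrn c hpow' hdetf.symm hg1 hg2).elim
    · omega

end good

end Cfsg.Agent.Lib.Helper15.PSub
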