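import Mathlib
import Cfsg.Agent.Lib.Helper15.PSub7

/-!
# Bad elements and SL wrappers
-/

set_option autoImplicit false

namespace Cfsg.Agent.Lib.Helper15.PSub

open Module Polynomial

section bad

variable {F : Type*} [Field F] [Fintype F]

theorem smul_one_injective (n : ℕ) (hn : n ≠ 0) (a b : F)
    (h : a • (1 : (Fin n → F) →ₗ[F] (Fin n → F)) = b • 1) : a = b := by
  have h1 := LinearMap.congr_fun h (fun _ => 1)
  have h2 := congrFun h1 ⟨0, Nat.pos_of_ne_zero hn⟩
  simpa using h2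

theorem dvd_of_bad (r n q' : ℕ)
    (hbad : ¬ (padicValNat r n ≤ padicValNat r q' ∧ (r = 2 → Even n → Fintype.card F % 4 = 1))) :
    r ∣ n := by
  by_contra hrn
  apply hbad
  refine ⟨?_, ?_⟩
  · rw [padicValNat.eq_zero_of_not_dvd hrn]
    exact Nat.zero_le _
  · intro h2 he
    subst h2
    exact absurd (even_iff_two_dvd.mp he) hrn

/-- bad element, case `r ∣ q - 1`. -/
theorem bad_i1 (r : ℕ) (hr : r.Prime) (hrq : r ∣ Fintype.card F - 1) (n : ℕ) (hn0 : n ≠ 0)
    (hbad : ¬ (padicValNat r n ≤ padicValNat r (Fintype.card F - 1) ∧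
      (r = 2 → Even n → Fintype.card F % 4 = 1))) :
    ∃ x : (Fin n → F) →ₗ[F] (Fin n → F), LinearMap.det x = 1 ∧
      (∃ c : F, x ^ r = c • (1 : (Fin n → F) →ₗ[F] (Fin n → F))) ∧
      (∀ z : F, x ≠ z • (1 : (Fin n → F) →ₗ[F] (Fin n → F))) ∧
      ∀ W : Submodule F (Fin n → F), W ∈ Module.End.invtSubmodule x → r ∣ finrank F W := by
  have hrn : r ∣ n := dvd_of_bad r n _ hbad
  obtain ⟨c, hc, hδ⟩ := exists_bad_scalar r hr hrq n hrn hbad hn0
  obtain ⟨k, hk⟩ := hrn
  obtain ⟨x, hx⟩ := exists_pow_eq r hr c hc k n (by rw [hk, mul_comm])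
  refine ⟨x, ?_, ⟨c, hx⟩, ?_, ?_⟩
  · have h := (det_of_not_pow r hr c hc x hx).2
    rw [Module.finrank_fin_fun] at h
    rw [h, hδ]
  · intro z hz
    rw [hz, _root_.smul_pow, one_pow] at hx
    exact hc z (smul_one_injective n hn0 _ _ hx)
  · intro W hW
    exact dvd_finrank_of_not_pow r hr c hc x hx W hW

/-- bad element, case `r ∤ q - 1`. -/
theorem bad_i2 (p : ℕ) [Fact p.Prime] [CharP F p] (r : ℕ) [hr : Fact r.Prime] (hrp : r ≠ p)
    (hrq : ¬ r ∣ Fintype.card F - 1) (n : ℕ)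
    (hin : orderOf ((Fintype.card F : ℕ) : ZMod r) ≤ n) :
    ∃ y : (Fin n → F) →ₗ[F] (Fin n → F), LinearMap.det y = 1 ∧ y ^ r = 1 ∧
      (∀ z : F, y ≠ z • (1 : (Fin n → F) →ₗ[F] (Fin n → F))) ∧
      finrank F (Module.End.eigenspace y 1) ≤ n % orderOf ((Fintype.card F : ℕ) : ZMod r) := by
  set i := orderOf ((Fintype.card F : ℕ) : ZMod r) with hi
  have hipos : 0 < i := orderOf_pos_of_ne p r hrp
  have hr0 : (r : F) ≠ 0 := ne_zero_of_ne p r hr.out hrp
  have hn0 : n ≠ 0 := by omega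
  have hnu : ¬ IsUnit (cyclotomic r F) := by
    intro hu
    have := natDegree_eq_zero_of_isUnit hu
    rw [natDegree_cyclotomic, Nat.totient_prime hr.out] at this
    have := hr.out.two_le
    omega
  obtain ⟨P, hP, hPd⟩ := WfDvdMonoid.exists_irreducible_factor hnu (cyclotomic_ne_zero r F)
  have hdeg : P.natDegree = i := cyclotomic_factor_degree p r hr.out hrp P hP hPd
  obtain ⟨y, hy, hE⟩ := exists_order_r r hr0 P hP hPd (n / i) (n % i) n
    (by rw [hdeg]; exact (Nat.div_add_mod' n i).symm)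
  have hdet : LinearMap.det y = 1 := by
    apply eq_one_of_pow_eq_one r hr.out hrq
    rw [← map_pow, hy, map_one]
  refine ⟨y, hdet, hy, ?_, hE⟩
  intro z hz
  have hz1 : z = 1 := by
    apply eq_one_of_pow_eq_one r hr.out hrq
    have h1 := hy
    rw [hz, _root_.smul_pow, one_pow] at h1
    exact smul_one_injective n hn0 _ _ (by rw [h1, one_smul])
  rw [hz1, one_smul] at hz
  have h2 : Module.End.eigenspace y 1 = ⊤ := by
    rw [eq_top_iff]
    intro v _
    rw [Module.End.mem_eigenspace_iff, hz, one_smul, Module.End.one_apply]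
  rw [h2, finrank_top, Module.finrank_fin_fun] at hE
  have := Nat.mod_lt n hipos
  omega

end bad

section wrap

variable {F : Type*} [Field F] {n : ℕ}

/-- the element of `SL_n` with a given endomorphism of determinant one. -/
noncomputable def toSL (x : (Fin n → F) →ₗ[F] (Fin n → F)) (h : LinearMap.det x = 1) :
    Matrix.SpecialLinearGroup (Fin n) F :=
  ⟨LinearMap.toMatrix' x, by rw [LinearMap.det_toMatrix']; exact h⟩

theorem toLin'_toSL (x : (Fin n → F) →ₗ[F] (Fin n → F)) (h : LinearMap.det x = 1) :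
    Matrix.toLin' ((toSL x h : Matrix.SpecialLinearGroup (Fin n) F) : Matrix (Fin n) (Fin n) F) = x :=
  Matrix.toLin'_toMatrix' x

theorem det_toLin'_SL (X : Matrix.SpecialLinearGroup (Fin n) F) :
    LinearMap.det (Matrix.toLin' (X : Matrix (Fin n) (Fin n) F)) = 1 := by
  rw [LinearMap.det_toLin']
  exact X.2

theorem toLin'_pow' (M : Matrix (Fin n) (Fin n) F) (r : ℕ) :
    Matrix.toLin' (M ^ r) = (Matrix.toLin' M) ^ r := by
  induction r with
  | zero => rw [pow_zero, pow_zero, Matrix.toLin'_one]; rfl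
  | succ r ih => rw [pow_succ, pow_succ, Matrix.toLin'_mul, ih]; rfl

theorem toLin'_smul_one (c : F) :
    Matrix.toLin' (c • (1 : Matrix (Fin n) (Fin n) F)) = c • (1 : (Fin n → F) →ₗ[F] (Fin n → F)) := by
  rw [map_smul, Matrix.toLin'_one]
  rfl

theorem pow_SL_iff (X : Matrix.SpecialLinearGroup (Fin n) F) (r : ℕ) (c : F) :
    ((X ^ r : Matrix.SpecialLinearGroup (Fin n) F) : Matrix (Fin n) (Fin n) F) =
        c • (1 : Matrix (Fin n) (Fin n) F) ↔
      (Matrix.toLin' (X : Matrix (Fin n) (Fin n) F)) ^ r =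
        c • (1 : (Fin n → F) →ₗ[F] (Fin n → F)) := by
  rw [Matrix.SpecialLinearGroup.coe_pow, ← toLin'_pow', ← toLin'_smul_one]
  exact (Matrix.toLin'.injective.eq_iff).symm

theorem scalar_SL_iff (X : Matrix.SpecialLinearGroup (Fin n) F) (c : F) :
    (X : Matrix (Fin n) (Fin n) F) = c • (1 : Matrix (Fin n) (Fin n) F) ↔
      Matrix.toLin' (X : Matrix (Fin n) (Fin n) F) =
        c • (1 : (Fin n → F) →ₗ[F] (Fin n → F)) := by
  rw [← toLin'_smul_one]
  exact (Matrix.toLin'.injective.eq_iff).symm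

end wrap

end Cfsg.Agent.Lib.Helper15.PSub
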