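import Mathlib
import Cfsg.Prelude.Def_GeometricClasses
import Cfsg.Agent.Lib.Helper16.SympEmbed
import Cfsg.Agent.Lib.Helper15.PSub8

/-!
# Conjugating elements of `SL_n` into the similarity group of a symplectic form
-/

set_option autoImplicit false

namespace Cfsg.Agent.Lib.Helper15.PInv

open Module Submodule Cfsg.Agent.Lib.Helper15.PSub

section cent

variable {F V : Type*} [Field F] [AddCommGroup V] [Module F V] [FiniteDimensional F V]

/-- An endomorphism `g` of an `X`-invariant summand `Z` commuting with `X` extends (by the identity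
on an invariant complement) to an element of the centraliser of `X` with the same determinant. -/
theorem exists_comm_det (X : V →ₗ[F] V) (Z Z' : Submodule F V) (h : IsCompl Z Z')
    (hZ : ∀ z ∈ Z, X z ∈ Z) (hZ' : ∀ z ∈ Z', X z ∈ Z') (g : Z →ₗ[F] Z)
    (hg : ∀ z : Z, X (g z : V) = (g ⟨X (z : V), hZ z z.2⟩ : V)) :
    ∃ C : V →ₗ[F] V, C ∘ₗ X = X ∘ₗ C ∧ LinearMap.det C = LinearMap.det g := by
  let e := Submodule.prodEquivOfIsCompl Z Z' h
  obtain ⟨C, hCdef⟩ : ∃ C : V →ₗ[F] V, C = (e : (Z × Z') →ₗ[F] V) ∘ₗ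
      (LinearMap.prodMap g LinearMap.id) ∘ₗ (e.symm : V →ₗ[F] (Z × Z')) := ⟨_, rfl⟩
  have hC : ∀ (z : Z) (z' : Z'), C ((z : V) + (z' : V)) = (g z : V) + (z' : V) := by
    intro z z'
    have h1 : e.symm ((z : V) + (z' : V)) = (z, z') := by
      rw [LinearEquiv.symm_apply_eq]
      rfl
    rw [hCdef]
    show e (LinearMap.prodMap g LinearMap.id (e.symm ((z : V) + (z' : V)))) = _
    rw [h1]
    rfl
  refine ⟨C, ?_, ?_⟩
  · apply LinearMap.ext
    intro v
    obtain ⟨⟨z, z'⟩, rfl⟩ := e.surjective v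
    have hv : e (z, z') = (z : V) + (z' : V) := rfl
    have h2 : X ((z : V) + (z' : V)) =
        ((⟨X (z : V), hZ z z.2⟩ : Z) : V) + ((⟨X (z' : V), hZ' z' z'.2⟩ : Z') : V) := by
      rw [map_add]
    rw [hv, LinearMap.comp_apply, LinearMap.comp_apply, h2, hC, hC, map_add, hg z]
  · rw [hCdef, LinearMap.det_conj, LinearMap.det_prodMap, LinearMap.det_id, mul_one]

end cent

section conj

variable {F : Type*} [Field F] [Fintype F] {n : ℕ}

omit [Fintype F] in
theorem symp_hnd {f : (Fin n → F) → (Fin n → F) → F} (hf : Cfsg.Geo.IsSymplecticForm f)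
    (x : Fin n → F) (h : ∀ y, f x y = 0) : x = 0 := by
  by_contra hx
  obtain ⟨-, y, hy⟩ := hf.nondegenerate x hx
  exact hy (h y)

/-- the bilinear map of a symplectic form -/
noncomputable def bilOf {f : (Fin n → F) → (Fin n → F) → F} (hf : Cfsg.Geo.IsSymplecticForm f) :
    (Fin n → F) →ₗ[F] (Fin n → F) →ₗ[F] F :=
  LinearMap.mk₂ F f hf.bilinear.add_left (fun c x v => by rw [hf.bilinear.smul_left, smul_eq_mul])
    hf.bilinear.add_right (fun c v x => by rw [hf.bilinear.smul_right, smul_eq_mul])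

omit [Fintype F] in
theorem bilOf_apply {f : (Fin n → F) → (Fin n → F) → F} (hf : Cfsg.Geo.IsSymplecticForm f)
    (u v : Fin n → F) : bilOf hf u v = f u v := rfl

/-- **Assembly**: an element `x` of `SL_n` which scales the standard form in adapted coordinates
`Θ`, and whose centraliser in `GL_n` has all determinants, is `SL_n`-conjugate into the
similarity group of any symplectic form. -/
theorem conj_mem (m : ℕ) (hnm : n = 2 * m) (f : (Fin n → F) → (Fin n → F) → F)
    (hf : Cfsg.Geo.IsSymplecticForm f) (x : Matrix.SpecialLinearGroup (Fin n) F) (μ : F)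
    (hμ : μ ≠ 0) (Θ : (Fin m ⊕ Fin m → F) ≃ₗ[F] (Fin n → F))
    (hΘ : ∀ a b, Cfsg.sympForm m F
        (Θ.symm (Matrix.toLin' (x : Matrix (Fin n) (Fin n) F) (Θ a)))
        (Θ.symm (Matrix.toLin' (x : Matrix (Fin n) (Fin n) F) (Θ b))) =
      μ * Cfsg.sympForm m F a b)
    (hcent : ∀ δ : F, δ ≠ 0 → ∃ C : (Fin n → F) →ₗ[F] (Fin n → F),
      C ∘ₗ Matrix.toLin' (x : Matrix (Fin n) (Fin n) F) =
        Matrix.toLin' (x : Matrix (Fin n) (Fin n) F) ∘ₗ C ∧ LinearMap.det C = δ) :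
    ∃ P : Matrix.SpecialLinearGroup (Fin n) F, P⁻¹ * x * P ∈
      ((Cfsg.Geo.similarityGroup f).comap
        (Matrix.SpecialLinearGroup.toGL : Matrix.SpecialLinearGroup (Fin n) F →* GL (Fin n) F)) := by
  classical
  set X := Matrix.toLin' (x : Matrix (Fin n) (Fin n) F) with hX
  obtain ⟨Ψ, hΨ⟩ := Cfsg.Agent.Lib.Helper16.exists_symp_equiv (bilOf hf) (fun v => hf.alternating v)
    (fun v hv => symp_hnd hf v hv) m (by rw [Module.finrank_fin_fun, hnm])
  let P₀ : (Fin n → F) ≃ₗ[F] (Fin n → F) := Ψ.symm ≪≫ₗ Θ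
  have hP₀det : LinearMap.det (P₀ : (Fin n → F) →ₗ[F] (Fin n → F)) ≠ 0 :=
    (LinearEquiv.isUnit_det' P₀).ne_zero
  obtain ⟨C, hCX, hCdet⟩ := hcent _ (inv_ne_zero hP₀det)
  let Pl : (Fin n → F) →ₗ[F] (Fin n → F) := C ∘ₗ (P₀ : (Fin n → F) →ₗ[F] (Fin n → F))
  have hPldet : LinearMap.det Pl = 1 := by
    show LinearMap.det (C ∘ₗ (P₀ : (Fin n → F) →ₗ[F] (Fin n → F))) = 1
    rw [LinearMap.det_comp, hCdet, inv_mul_cancel₀ hP₀det]
  have hCinj : Function.Injective C := by
    have hu : IsUnit (LinearMap.det C) := by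
      rw [hCdet]
      exact (IsUnit.mk0 _ hP₀det).inv
    have := LinearMap.isUnit_iff_isUnit_det C |>.mpr hu
    exact ((Module.End.isUnit_iff C).mp this).injective
  refine ⟨toSL Pl hPldet, ?_⟩
  rw [Subgroup.mem_comap]
  refine ⟨Units.mk0 μ hμ, fun u v => ?_⟩
  -- describe the action of the conjugate
  have key : ∀ u : Fin n → F,
      ((Matrix.SpecialLinearGroup.toGL ((toSL Pl hPldet)⁻¹ * x * toSL Pl hPldet) : GL (Fin n) F) :
        Matrix (Fin n) (Fin n) F).mulVec u =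
      Ψ (Θ.symm (X (Θ (Ψ.symm u)))) := by
    intro u
    set w := ((Matrix.SpecialLinearGroup.toGL ((toSL Pl hPldet)⁻¹ * x * toSL Pl hPldet) :
      GL (Fin n) F) : Matrix (Fin n) (Fin n) F).mulVec u with hw
    have h1 : Pl w = X (Pl u) := by
      have h2 : ((toSL Pl hPldet : Matrix.SpecialLinearGroup (Fin n) F) :
          Matrix (Fin n) (Fin n) F).mulVec w =
          ((toSL Pl hPldet * ((toSL Pl hPldet)⁻¹ * x * toSL Pl hPldet) :
            Matrix.SpecialLinearGroup (Fin n) F) : Matrix (Fin n) (Fin n) F).mulVec u := by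
        rw [hw, Matrix.SpecialLinearGroup.coe_mul, ← Matrix.mulVec_mulVec]
        rfl
      have h3 : toSL Pl hPldet * ((toSL Pl hPldet)⁻¹ * x * toSL Pl hPldet) =
          x * toSL Pl hPldet := by group
      rw [h3, Matrix.SpecialLinearGroup.coe_mul, ← Matrix.mulVec_mulVec] at h2
      have h4 : ∀ z : Fin n → F, ((toSL Pl hPldet : Matrix.SpecialLinearGroup (Fin n) F) :
          Matrix (Fin n) (Fin n) F).mulVec z = Pl z := by
        intro z
        rw [← Matrix.toLin'_apply, toLin'_toSL]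
      rw [h4, h4] at h2
      rw [h2, hX, Matrix.toLin'_apply]
    have h5 : C (P₀ w) = C (X (P₀ u)) := by
      have h6 : C (X (P₀ u)) = X (C (P₀ u)) := LinearMap.congr_fun hCX (P₀ u)
      rw [h6]
      exact h1
    have h7 : P₀ w = X (P₀ u) := hCinj h5
    have h8 : Θ (Ψ.symm w) = X (Θ (Ψ.symm u)) := h7
    rw [← h8, LinearEquiv.symm_apply_apply, LinearEquiv.apply_symm_apply]
  rw [key u, key v]
  have h9 := hΨ (Θ.symm (X (Θ (Ψ.symm u)))) (Θ.symm (X (Θ (Ψ.symm v))))
  rw [bilOf_apply] at h9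
  rw [h9, hΘ]
  have h10 := hΨ (Ψ.symm u) (Ψ.symm v)
  rw [bilOf_apply, LinearEquiv.apply_symm_apply, LinearEquiv.apply_symm_apply] at h10
  rw [← h10]
  rfl

end conj

end Cfsg.Agent.Lib.Helper15.PInv
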