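import Mathlib
import Cfsg.Agent.Lib.Helper15.PInv1

/-!
# Pair bases adapted to an endomorphism (planes of constant determinant)
-/

set_option autoImplicit false

namespace Cfsg.Agent.Lib.Helper15.PInv

open Module Submodule

section spb

variable {F V : Type*} [Field F] [AddCommGroup V] [Module F V]

/-- `W` has a basis of pairs `(e j, f j)` spanning `X`-invariant planes on which `X` has
determinant `μ`. -/
def SPB (X : V →ₗ[F] V) (μ : F) (W : Submodule F V) (κ : Type) : Prop :=
  ∃ (e f : κ → V) (α β γ δ : κ → F), LinearIndependent F (Sum.elim e f) ∧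
    span F (Set.range (Sum.elim e f)) = W ∧
    (∀ j, X (e j) = α j • e j + γ j • f j) ∧ (∀ j, X (f j) = β j • e j + δ j • f j) ∧
    ∀ j, α j * δ j - β j * γ j = μ

theorem SPB.empty (X : V →ₗ[F] V) (μ : F) : SPB X μ ⊥ Empty := by
  refine ⟨fun e => e.elim, fun e => e.elim, fun e => e.elim, fun e => e.elim, fun e => e.elim,
    fun e => e.elim, linearIndependent_empty_type, ?_, fun e => e.elim, fun e => e.elim,
    fun e => e.elim⟩
  rw [Set.range_eq_empty, span_empty]

theorem SPB.series {κ₁ κ₂ : Type} {X : V →ₗ[F] V} {μ : F} {W₁ W₂ : Submodule F V}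
    (h₁ : SPB X μ W₁ κ₁) (h₂ : SPB X μ W₂ κ₂) (hd : Disjoint W₁ W₂) :
    SPB X μ (W₁ ⊔ W₂) (κ₁ ⊕ κ₂) := by
  obtain ⟨e₁, f₁, α₁, β₁, γ₁, δ₁, hli₁, hsp₁, he₁, hf₁, hμ₁⟩ := h₁
  obtain ⟨e₂, f₂, α₂, β₂, γ₂, δ₂, hli₂, hsp₂, he₂, hf₂, hμ₂⟩ := h₂
  refine ⟨Sum.elim e₁ e₂, Sum.elim f₁ f₂, Sum.elim α₁ α₂, Sum.elim β₁ β₂, Sum.elim γ₁ γ₂,
    Sum.elim δ₁ δ₂, ?_, ?_, ?_, ?_, ?_⟩
  · have hg : LinearIndependent F (Sum.elim (Sum.elim e₁ f₁) (Sum.elim e₂ f₂)) := by
      apply LinearIndependent.sum_type hli₁ hli₂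
      rw [hsp₁, hsp₂]
      exact hd
    have hcomp : Sum.elim (Sum.elim e₁ e₂) (Sum.elim f₁ f₂) =
        Sum.elim (Sum.elim e₁ f₁) (Sum.elim e₂ f₂) ∘ (Equiv.sumSumSumComm κ₁ κ₂ κ₁ κ₂) := by
      funext i
      rcases i with (i | i) | (i | i) <;> rfl
    rw [hcomp]
    exact hg.comp _ (Equiv.injective _)
  · rw [Set.Sum.elim_range, Set.Sum.elim_range, Set.Sum.elim_range, span_union, span_union,
      span_union, ← hsp₁, ← hsp₂, Set.Sum.elim_range, Set.Sum.elim_range, span_union, span_union]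
    exact sup_sup_sup_comm _ _ _ _
  · rintro (j | j)
    · exact he₁ j
    · exact he₂ j
  · rintro (j | j)
    · exact hf₁ j
    · exact hf₂ j
  · rintro (j | j)
    · exact hμ₁ j
    · exact hμ₂ j

theorem SPB.congr {κ : Type} {X : V →ₗ[F] V} {μ μ' : F} {W W' : Submodule F V}
    (h : SPB X μ W κ) (hμ : μ = μ') (hW : W = W') : SPB X μ' W' κ := by
  subst hμ; subst hW; exact h

/-- A single plane. -/
theorem SPB.plane (X : V →ₗ[F] V) (e₀ f₀ : V) (a b c d : F)
    (hli : LinearIndependent F (Sum.elim (fun _ : Unit => e₀) (fun _ : Unit => f₀)))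
    (he : X e₀ = a • e₀ + c • f₀) (hf : X f₀ = b • e₀ + d • f₀) :
    SPB X (a * d - b * c) (span F {e₀, f₀}) Unit := by
  refine ⟨fun _ => e₀, fun _ => f₀, fun _ => a, fun _ => b, fun _ => c, fun _ => d, hli, ?_,
    fun _ => he, fun _ => hf, fun _ => rfl⟩
  rw [Set.Sum.elim_range, Set.range_const, Set.range_const]
  rfl

variable [FiniteDimensional F V]

/-- An even-dimensional subspace of an eigenspace. -/
theorem SPB.of_eigen (X : V →ₗ[F] V) (lam : F) (U : Submodule F V)
    (hU : U ≤ Module.End.eigenspace X lam) (k : ℕ) (hk : finrank F U = 2 * k) :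
    SPB X (lam * lam) U (Fin k) := by
  classical
  have hcard : Fintype.card (Fin (finrank F U)) = Fintype.card (Fin k ⊕ Fin k) := by
    rw [Fintype.card_fin, Fintype.card_sum, Fintype.card_fin, hk]
    ring
  let b := (Module.finBasis F U).reindex (Fintype.equivOfCardEq hcard)
  let v : Fin k ⊕ Fin k → V := fun i => (b i : V)
  have hli : LinearIndependent F v :=
    b.linearIndependent.map' U.subtype (Submodule.ker_subtype U)
  have hspan : span F (Set.range v) = U := by
    have h1 : Set.range v = U.subtype '' Set.range b := by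
      rw [← Set.range_comp]
      rfl
    rw [h1, ← Submodule.map_span, b.span_eq, Submodule.map_subtype_top]
  have hv : Sum.elim (fun j => v (Sum.inl j)) (fun j => v (Sum.inr j)) = v := by
    funext i
    rcases i with i | i <;> rfl
  have hX : ∀ i, X (v i) = lam • v i := by
    intro i
    have h1 := hU (b i).2
    rwa [Module.End.mem_eigenspace_iff] at h1
  refine ⟨fun j => v (Sum.inl j), fun j => v (Sum.inr j), fun _ => lam, fun _ => 0, fun _ => 0,
    fun _ => lam, ?_, ?_, ?_, ?_, ?_⟩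
  · rw [hv]; exact hli
  · rw [hv]; exact hspan
  · intro j
    rw [hX, zero_smul, add_zero]
  · intro j
    rw [hX, zero_smul, zero_add]
  · intro j
    ring

end spb

section theta

open Matrix

variable {F V : Type*} [Field F] [AddCommGroup V] [Module F V] [FiniteDimensional F V]

theorem blocks_J (m : ℕ) (α β γ δ : Fin m → F) (μ : F) (hμ : ∀ j, α j * δ j - β j * γ j = μ) :
    (fromBlocks (diagonal α) (diagonal β) (diagonal γ) (diagonal δ))ᵀ * Matrix.J (Fin m) F *
      fromBlocks (diagonal α) (diagonal β) (diagonal γ) (diagonal δ) = μ • Matrix.J (Fin m) F := by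
  rw [Matrix.J, fromBlocks_transpose, fromBlocks_multiply, fromBlocks_multiply, fromBlocks_smul]
  simp only [diagonal_transpose, Matrix.mul_zero, Matrix.mul_one, zero_add, add_zero, Matrix.mul_neg,
    diagonal_mul_diagonal, neg_mul, smul_zero, smul_neg]
  congr 1
  · ext i j
    by_cases h : i = j
    · subst h
      simp only [Matrix.add_apply, Matrix.neg_apply, diagonal_apply_eq, Matrix.zero_apply]
      ring
    · simp [diagonal_apply_ne _ h]
  · ext i j
    by_cases h : i = j
    · subst h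
      simp only [Matrix.add_apply, Matrix.neg_apply, diagonal_apply_eq, Matrix.smul_apply, one_apply_eq, smul_eq_mul,
        mul_one]
      rw [← hμ i]; ring
    · simp [diagonal_apply_ne _ h, Matrix.one_apply_ne h]
  · ext i j
    by_cases h : i = j
    · subst h
      simp only [Matrix.add_apply, Matrix.neg_apply, diagonal_apply_eq, Matrix.smul_apply, one_apply_eq, smul_eq_mul,
        mul_one]
      rw [← hμ i]; ring
    · simp [diagonal_apply_ne _ h, Matrix.one_apply_ne h]
  · ext i j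
    by_cases h : i = j
    · subst h
      simp only [Matrix.add_apply, Matrix.neg_apply, diagonal_apply_eq, Matrix.zero_apply]
      ring
    · simp [diagonal_apply_ne _ h]

theorem sympForm_mulVec (m : ℕ) (M : Matrix (Fin m ⊕ Fin m) (Fin m ⊕ Fin m) F) (μ : F)
    (hM : Mᵀ * Matrix.J (Fin m) F * M = μ • Matrix.J (Fin m) F) (a b : Fin m ⊕ Fin m → F) :
    Cfsg.sympForm m F (M.mulVec a) (M.mulVec b) = μ * Cfsg.sympForm m F a b := by
  unfold Cfsg.sympForm
  have h1 : (M.mulVec a) ⬝ᵥ (Matrix.J (Fin m) F).mulVec (M.mulVec b) =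
      a ⬝ᵥ (Mᵀ * Matrix.J (Fin m) F * M).mulVec b := by
    rw [Matrix.mulVec_mulVec, dotProduct_comm, Matrix.dotProduct_mulVec, dotProduct_comm,
      ← Matrix.mulVec_transpose, Matrix.mulVec_mulVec, Matrix.mul_assoc]
  rw [h1, hM, Matrix.smul_mulVec, dotProduct_smul, smul_eq_mul]

omit [FiniteDimensional F V] in
/-- From an adapted pair basis to adapted symplectic coordinates. -/
theorem SPB.exists_theta {κ : Type} [Fintype κ] (m : ℕ) (hκ : Fintype.card κ = m)
    (X : V →ₗ[F] V) (μ : F) (h : SPB X μ ⊤ κ) :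
    ∃ Θ : (Fin m ⊕ Fin m → F) ≃ₗ[F] V, ∀ a b,
      Cfsg.sympForm m F (Θ.symm (X (Θ a))) (Θ.symm (X (Θ b))) = μ * Cfsg.sympForm m F a b := by
  classical
  obtain ⟨e, f, α, β, γ, δ, hli, hsp, he, hf, hμ⟩ := h
  obtain ⟨ε⟩ : Nonempty (Fin m ≃ κ) := ⟨(Fintype.equivFinOfCardEq hκ).symm⟩
  have hcomp : Sum.elim (e ∘ ε) (f ∘ ε) = Sum.elim e f ∘ (Equiv.sumCongr ε ε) := by
    funext i
    rcases i with i | i <;> rfl
  have hli' : LinearIndependent F (Sum.elim (e ∘ ε) (f ∘ ε)) := by
    rw [hcomp]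
    exact hli.comp _ (Equiv.injective _)
  have hsp' : ⊤ ≤ span F (Set.range (Sum.elim (e ∘ ε) (f ∘ ε))) := by
    rw [hcomp, (Equiv.sumCongr ε ε).surjective.range_comp, hsp]
  let bb : Basis (Fin m ⊕ Fin m) F V := Basis.mk hli' hsp'
  have hbbl : ∀ j, bb (Sum.inl j) = e (ε j) := fun j => by
    show Basis.mk hli' hsp' (Sum.inl j) = _
    rw [Basis.mk_apply]
    rfl
  have hbbr : ∀ j, bb (Sum.inr j) = f (ε j) := fun j => by
    show Basis.mk hli' hsp' (Sum.inr j) = _
    rw [Basis.mk_apply]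
    rfl
  have hM : LinearMap.toMatrix bb bb X = fromBlocks (diagonal (α ∘ ε)) (diagonal (β ∘ ε))
      (diagonal (γ ∘ ε)) (diagonal (δ ∘ ε)) := by
    ext i j
    rw [LinearMap.toMatrix_apply]
    rcases j with j | j
    · have h1 : X (bb (Sum.inl j)) = α (ε j) • bb (Sum.inl j) + γ (ε j) • bb (Sum.inr j) := by
        rw [hbbl, hbbr]
        exact he (ε j)
      rw [h1, map_add, map_smul, map_smul, Basis.repr_self, Basis.repr_self]
      rcases i with i | i
      · by_cases hij : i = j
        · subst hij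
          simp
        · simp [hij]
      · by_cases hij : i = j
        · subst hij
          simp
        · simp [hij]
    · have h1 : X (bb (Sum.inr j)) = β (ε j) • bb (Sum.inl j) + δ (ε j) • bb (Sum.inr j) := by
        rw [hbbl, hbbr]
        exact hf (ε j)
      rw [h1, map_add, map_smul, map_smul, Basis.repr_self, Basis.repr_self]
      rcases i with i | i
      · by_cases hij : i = j
        · subst hij
          simp
        · simp [hij]
      · by_cases hij : i = j
        · subst hij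
          simp
        · simp [hij]
  have hJ := blocks_J m (α ∘ ε) (β ∘ ε) (γ ∘ ε) (δ ∘ ε) μ (fun j => hμ (ε j))
  rw [← hM] at hJ
  refine ⟨bb.equivFun.symm, fun a b => ?_⟩
  have hact : ∀ a : Fin m ⊕ Fin m → F,
      bb.equivFun.symm.symm (X (bb.equivFun.symm a)) = (LinearMap.toMatrix bb bb X).mulVec a := by
    intro a
    have h2 := LinearMap.toMatrix_mulVec_repr bb bb X (bb.equivFun.symm a)
    rw [LinearEquiv.symm_symm, Basis.equivFun_apply, ← h2]
    congr 1
    have h3 := bb.equivFun.apply_symm_apply a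
    rw [Basis.equivFun_apply] at h3
    exact h3
  rw [hact, hact]
  exact sympForm_mulVec m _ μ hJ a b

end theta

end Cfsg.Agent.Lib.Helper15.PInv
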