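import Mathlib
import Cfsg.Agent.Lib.Helper15.PInv2
import Cfsg.Agent.Lib.Helper15.PDec2

/-!
# Involutions modulo scalars: the diagonal type and the irreducible type
-/

set_option autoImplicit false

namespace Cfsg.Agent.Lib.Helper15.PInv

open Module Submodule Polynomial Cfsg.Agent.Lib.Helper15.PSub Cfsg.Agent.Lib.Helper15.PDec

section general

variable {F V : Type*} [Field F] [AddCommGroup V] [Module F V] [FiniteDimensional F V]

/-- determinant of a map acting by scalars on two complementary subspaces -/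
theorem det_of_isCompl_smul (X : V →ₗ[F] V) (Z Z' : Submodule F V) (h : IsCompl Z Z') (a b : F)
    (hZ : ∀ z ∈ Z, X z = a • z) (hZ' : ∀ z ∈ Z', X z = b • z) :
    LinearMap.det X = a ^ finrank F Z * b ^ finrank F Z' := by
  let e := Submodule.prodEquivOfIsCompl Z Z' h
  have hX : X = (e : (Z × Z') →ₗ[F] V) ∘ₗ
      (LinearMap.prodMap (a • (LinearMap.id : Z →ₗ[F] Z)) (b • (LinearMap.id : Z' →ₗ[F] Z'))) ∘ₗ
      (e.symm : V →ₗ[F] (Z × Z')) := by
    apply LinearMap.ext
    intro v
    obtain ⟨⟨z, z'⟩, rfl⟩ := e.surjective v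
    rw [LinearMap.comp_apply, LinearMap.comp_apply]
    have h1 : (e.symm : V →ₗ[F] (Z × Z')) (e (z, z')) = (z, z') := e.symm_apply_apply _
    rw [h1]
    show X ((z : V) + (z' : V)) = ((a • z : Z) : V) + ((b • z' : Z') : V)
    rw [map_add, hZ z z.2, hZ' z' z'.2]
    rfl
  rw [hX, LinearMap.det_conj, LinearMap.det_prodMap, LinearMap.det_smul, LinearMap.det_smul,
    LinearMap.det_id, LinearMap.det_id, mul_one, mul_one]

omit [FiniteDimensional F V] in
/-- determinant of an endomorphism of a plane in terms of a basis -/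
theorem det_plane (u : Fin 2 → V) (hli : LinearIndependent F u)
    (g : span F (Set.range u) →ₗ[F] span F (Set.range u)) (a b c d : F)
    (h0 : ∀ z : span F (Set.range u), (z : V) = u 0 → (g z : V) = a • u 0 + c • u 1)
    (h1 : ∀ z : span F (Set.range u), (z : V) = u 1 → (g z : V) = b • u 0 + d • u 1) :
    LinearMap.det g = a * d - b * c := by
  let bz := Basis.span hli
  have hb : ∀ i, (bz i : V) = u i := fun i => congrArg Subtype.val (Basis.span_apply hli i)
  have hg0 : g (bz 0) = a • bz 0 + c • bz 1 := by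
    apply Subtype.ext
    rw [h0 (bz 0) (hb 0)]
    simp [hb]
  have hg1 : g (bz 1) = b • bz 0 + d • bz 1 := by
    apply Subtype.ext
    rw [h1 (bz 1) (hb 1)]
    simp [hb]
  rw [← LinearMap.det_toMatrix bz, Matrix.det_fin_two]
  simp only [LinearMap.toMatrix_apply, hg0, hg1, map_add, map_smul, Basis.repr_self,
    Finsupp.add_apply, Finsupp.smul_apply, Finsupp.single_apply, smul_eq_mul]
  simp

end general

section typeD

variable {F V : Type*} [Field F] [AddCommGroup V] [Module F V] [FiniteDimensional F V]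

omit [FiniteDimensional F V] in
/-- eigenspace splitting for `X² = w²`, `2 ≠ 0`. -/
theorem typeD_isCompl (X : V →ₗ[F] V) (w : F) (hw : w ≠ 0) (h2 : (2 : F) ≠ 0)
    (hX : X ^ 2 = (w * w) • (1 : V →ₗ[F] V)) :
    IsCompl (Module.End.eigenspace X w) (Module.End.eigenspace X (-w)) := by
  have hXX : ∀ v, X (X v) = (w * w) • v := by
    intro v
    have := LinearMap.congr_fun hX v
    rw [pow_two, Module.End.mul_apply] at this
    rw [this]
    simp
  have h2w : (2 * w : F) ≠ 0 := mul_ne_zero h2 hw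
  constructor
  · rw [Submodule.disjoint_def]
    intro v hv hv'
    rw [Module.End.mem_eigenspace_iff] at hv hv'
    have h3 : (2 * w) • v = 0 := by
      have : w • v = (-w) • v := by rw [← hv, hv']
      rw [neg_smul] at this
      rw [two_mul, add_smul]
      nth_rewrite 1 [this]
      rw [neg_add_cancel]
    exact (smul_eq_zero.mp h3).resolve_left h2w
  · rw [codisjoint_iff, eq_top_iff]
    intro v _
    have hp : w • v + X v ∈ Module.End.eigenspace X w := by
      rw [Module.End.mem_eigenspace_iff, map_add, map_smul, hXX, smul_add, smul_smul]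
      abel
    have hm : w • v - X v ∈ Module.End.eigenspace X (-w) := by
      rw [Module.End.mem_eigenspace_iff, map_sub, map_smul, hXX, smul_sub, smul_smul, neg_smul,
        neg_mul, neg_smul, sub_neg_eq_add]
      abel
    have hv : v = (2 * w)⁻¹ • (w • v + X v) + (2 * w)⁻¹ • (w • v - X v) := by
      rw [← smul_add]
      have : w • v + X v + (w • v - X v) = (2 * w) • v := by
        rw [two_mul, add_smul]
        abel
      rw [this, inv_smul_smul₀ h2w]
    rw [hv]
    exact Submodule.add_mem _ (Submodule.mem_sup_left (Submodule.smul_mem _ _ hp))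
      (Submodule.mem_sup_right (Submodule.smul_mem _ _ hm))

theorem typeD_det (X : V →ₗ[F] V) (w : F) (hw : w ≠ 0) (h2 : (2 : F) ≠ 0)
    (hX : X ^ 2 = (w * w) • (1 : V →ₗ[F] V)) :
    LinearMap.det X = w ^ finrank F (Module.End.eigenspace X w) *
      (-w) ^ finrank F (Module.End.eigenspace X (-w)) := by
  apply det_of_isCompl_smul X _ _ (typeD_isCompl X w hw h2 hX)
  · intro z hz
    exact Module.End.mem_eigenspace_iff.mp hz
  · intro z hz
    exact Module.End.mem_eigenspace_iff.mp hz

/-- adapted pair basis for the diagonal type with even-dimensional eigenspaces -/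
theorem typeD_SPB (X : V →ₗ[F] V) (w : F) (hw : w ≠ 0) (h2 : (2 : F) ≠ 0)
    (hX : X ^ 2 = (w * w) • (1 : V →ₗ[F] V)) (k₁ k₂ : ℕ)
    (h₁ : finrank F (Module.End.eigenspace X w) = 2 * k₁)
    (h₂ : finrank F (Module.End.eigenspace X (-w)) = 2 * k₂) :
    SPB X (w * w) ⊤ (Fin k₁ ⊕ Fin k₂) := by
  have hc := typeD_isCompl X w hw h2 hX
  have s₁ := SPB.of_eigen X w _ le_rfl k₁ h₁
  have s₂ := SPB.of_eigen X (-w) _ le_rfl k₂ h₂
  have s₂' : SPB X (w * w) (Module.End.eigenspace X (-w)) (Fin k₂) :=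
    s₂.congr (by ring) rfl
  exact (s₁.series s₂' hc.disjoint).congr rfl hc.sup_eq_top

/-- centraliser of a diagonalisable element contains all determinants -/
theorem typeD_cent (X : V →ₗ[F] V) (w : F) (hw : w ≠ 0) (h2 : (2 : F) ≠ 0)
    (hX : X ^ 2 = (w * w) • (1 : V →ₗ[F] V)) (hV : finrank F V ≠ 0) (δ : F) :
    ∃ C : V →ₗ[F] V, C ∘ₗ X = X ∘ₗ C ∧ LinearMap.det C = δ := by
  have hc := typeD_isCompl X w hw h2 hX
  have hss : Module.End.IsSemisimple X :=
    isSemisimple_of_pow_eq_smul X 2 (by exact_mod_cast h2) (w * w) (mul_ne_zero hw hw) hX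
  -- an eigenvector
  obtain ⟨lam, v₀, hv₀, hv₀0⟩ : ∃ (lam : F) (v₀ : V), X v₀ = lam • v₀ ∧ v₀ ≠ 0 := by
    by_cases hp : Module.End.eigenspace X w = ⊥
    · have hm : Module.End.eigenspace X (-w) = ⊤ := by
        have := hc.sup_eq_top
        rwa [hp, bot_sup_eq] at this
      have hne : (⊤ : Submodule F V) ≠ ⊥ := by
        intro h
        apply hV
        rw [← finrank_top F V, h, finrank_bot]
      obtain ⟨v₀, hv₀, hv₀0⟩ := Submodule.exists_mem_ne_zero_of_ne_bot (hm ▸ hne)
      exact ⟨-w, v₀, Module.End.mem_eigenspace_iff.mp hv₀, hv₀0⟩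
    · obtain ⟨v₀, hv₀, hv₀0⟩ := Submodule.exists_mem_ne_zero_of_ne_bot hp
      exact ⟨w, v₀, Module.End.mem_eigenspace_iff.mp hv₀, hv₀0⟩
  have hZinv : span F {v₀} ∈ Module.End.invtSubmodule X := by
    rw [Module.End.mem_invtSubmodule_iff_map_le, Submodule.map_span, span_le]
    rintro _ ⟨x, hx, rfl⟩
    rw [Set.mem_singleton_iff.mp hx, hv₀]
    exact Submodule.smul_mem _ _ (Submodule.mem_span_singleton_self v₀)
  obtain ⟨Z', hZ'inv, hcompl⟩ := Module.End.isSemisimple_iff.mp hss _ hZinv
  obtain ⟨C, hC, hCdet⟩ := exists_comm_det X (span F {v₀}) Z' hcompl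
    (fun z hz => hZinv hz) (fun z hz => hZ'inv hz) (δ • LinearMap.id) (fun z => by
      simp only [LinearMap.smul_apply, LinearMap.id_coe, id_eq, Submodule.coe_smul, map_smul])
  refine ⟨C, hC, ?_⟩
  rw [hCdet, LinearMap.det_smul, LinearMap.det_id, mul_one, finrank_span_singleton hv₀0, pow_one]

end typeD

end Cfsg.Agent.Lib.Helper15.PInv
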