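import Mathlib
import Cfsg.Agent.Lib.Helper15.PInv3

/-!
# Involutions modulo scalars: the irreducible type and the unipotent type
-/

set_option autoImplicit false

namespace Cfsg.Agent.Lib.Helper15.PInv

open Module Submodule Polynomial Cfsg.Agent.Lib.Helper15.PSub Cfsg.Agent.Lib.Helper15.PDec

section typeI

variable {F V : Type*} [Field F] [AddCommGroup V] [Module F V] [FiniteDimensional F V]

omit [FiniteDimensional F V] in
/-- the cyclic plane of a nonzero vector when `X² = z`, `X² - z` irreducible -/
theorem typeI_plane (X : V →ₗ[F] V) (z : F) (hX : X ^ 2 = z • (1 : V →ₗ[F] V))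
    (hirr : Irreducible (Polynomial.X ^ 2 - C z : F[X])) (v : V) (hv : v ≠ 0) :
    span F {v, X v} ∈ Module.End.invtSubmodule X ∧ finrank F ↥(span F {v, X v}) = 2 := by
  have hPv : aeval X (Polynomial.X ^ 2 - C z : F[X]) v = 0 := by
    rw [aeval_X_pow_sub_C X 2 z hX, LinearMap.zero_apply]
  obtain ⟨Z, hZinv, hvZ, hZdim, hZmin⟩ := exists_cyclic X _ hirr v hv hPv
  rw [natDegree_X_pow_sub_C] at hZdim
  have hXX : X (X v) = z • v := by
    have := LinearMap.congr_fun hX v
    rw [pow_two, Module.End.mul_apply] at this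
    rw [this]
    simp
  have hinv : span F {v, X v} ∈ Module.End.invtSubmodule X := by
    rw [Module.End.mem_invtSubmodule_iff_map_le, Submodule.map_span, span_le]
    rintro _ ⟨x, hx, rfl⟩
    rcases hx with rfl | hx
    · exact subset_span (Set.mem_insert_of_mem _ rfl)
    · rw [Set.mem_singleton_iff.mp hx, hXX]
      exact Submodule.smul_mem _ _ (subset_span (Set.mem_insert _ _))
  have hle : span F {v, X v} ≤ Z := by
    rw [span_le]
    rintro x (rfl | hx)
    · exact hvZ
    · rw [Set.mem_singleton_iff.mp hx]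
      exact hZinv hvZ
  have heq : span F {v, X v} = Z :=
    le_antisymm hle (hZmin _ hinv (subset_span (Set.mem_insert _ _)))
  exact ⟨hinv, by rw [heq, hZdim]⟩

/-- adapted pair bases for the irreducible type -/
theorem typeI_SPB (X : V →ₗ[F] V) (z : F) (hz : z ≠ 0) (h2 : (2 : F) ≠ 0)
    (hX : X ^ 2 = z • (1 : V →ₗ[F] V))
    (hirr : Irreducible (Polynomial.X ^ 2 - C z : F[X])) (k : ℕ) :
    ∀ W : Submodule F V, W ∈ Module.End.invtSubmodule X → finrank F W = 2 * k →
      ∃ (κ : Type) (_ : Fintype κ), Fintype.card κ = k ∧ SPB X (-z) W κ := by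
  have hss : Module.End.IsSemisimple X :=
    isSemisimple_of_pow_eq_smul X 2 (by exact_mod_cast h2) z hz hX
  induction k with
  | zero =>
    intro W _ hdim
    have hW0 : W = ⊥ := Submodule.finrank_eq_zero.mp (by omega)
    subst hW0
    exact ⟨Empty, inferInstance, by simp, SPB.empty X (-z)⟩
  | succ k ih =>
    intro W hW hdim
    have hWne : W ≠ ⊥ := by
      intro h0
      rw [h0, finrank_bot] at hdim
      omega
    obtain ⟨v, hvW, hv0⟩ := Submodule.exists_mem_ne_zero_of_ne_bot hWne
    obtain ⟨hZinv, hZdim⟩ := typeI_plane X z hX hirr v hv0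
    have hXX : X (X v) = z • v := by
      have := LinearMap.congr_fun hX v
      rw [pow_two, Module.End.mul_apply] at this
      rw [this]
      simp
    have hZW : span F {v, X v} ≤ W := by
      rw [span_le]
      rintro x (rfl | hx)
      · exact hvW
      · rw [Set.mem_singleton_iff.mp hx]
        exact hW hvW
    have hrange : Set.range (Sum.elim (fun _ : Unit => v) (fun _ : Unit => X v)) = {v, X v} := by
      rw [Set.Sum.elim_range, Set.range_const, Set.range_const]
      rfl
    have hli : LinearIndependent F (Sum.elim (fun _ : Unit => v) (fun _ : Unit => X v)) := by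
      rw [linearIndependent_iff_card_eq_finrank_span, Set.finrank, hrange, hZdim]
      simp
    have hP₁ := SPB.plane X v (X v) 0 z 1 0 hli (by rw [zero_smul, one_smul, zero_add])
      (by rw [hXX, zero_smul, add_zero])
    obtain ⟨W', hW'W, hW'inv, hinf, hsup, hdim'⟩ := exists_compl_in X hss W _ hW hZinv hZW
    have hW'dim : finrank F W' = 2 * k := by omega
    obtain ⟨κ, hκ, hcard, hP₂⟩ := ih W' hW'inv hW'dim
    have hser := (hP₁.congr (by ring) rfl).series hP₂ (disjoint_iff.mpr hinf)
    refine ⟨Unit ⊕ κ, inferInstance, ?_, hser.congr rfl hsup⟩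
    rw [Fintype.card_sum, Fintype.card_unit, hcard, add_comm]

/-- centraliser of an irreducible-type element contains all determinants -/
theorem typeI_cent [Fintype F] (X : V →ₗ[F] V) (z : F) (hz : z ≠ 0) (h2 : (2 : F) ≠ 0)
    (hodd : Fintype.card F % 2 = 1)
    (hX : X ^ 2 = z • (1 : V →ₗ[F] V))
    (hirr : Irreducible (Polynomial.X ^ 2 - C z : F[X])) (hV : finrank F V ≠ 0) (δ : F) :
    ∃ C : V →ₗ[F] V, C ∘ₗ X = X ∘ₗ C ∧ LinearMap.det C = δ := by
  have hss : Module.End.IsSemisimple X :=
    isSemisimple_of_pow_eq_smul X 2 (by exact_mod_cast h2) z hz hX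
  obtain ⟨v, hv0⟩ : ∃ v : V, v ≠ 0 := by
    by_contra hall
    apply hV
    rw [finrank_zero_iff_forall_zero]
    intro v
    by_contra hv
    exact hall ⟨v, hv⟩
  obtain ⟨hZinv, hZdim⟩ := typeI_plane X z hX hirr v hv0
  have hXX : X (X v) = z • v := by
    have := LinearMap.congr_fun hX v
    rw [pow_two, Module.End.mul_apply] at this
    rw [this]
    simp
  have hrange : Set.range ![v, X v] = {v, X v} := by
    rw [Matrix.range_cons, Matrix.range_cons, Matrix.range_empty, Set.union_empty]
    rfl
  have hli : LinearIndependent F ![v, X v] := by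
    rw [linearIndependent_iff_card_eq_finrank_span, Set.finrank, hrange, hZdim]
    simp
  rw [← hrange] at hZinv
  obtain ⟨Z', hZ'inv, hcompl⟩ := Module.End.isSemisimple_iff.mp hss _ hZinv
  -- solve the norm equation
  obtain ⟨a, b, hab⟩ : ∃ a b : F, a * a - z * (b * b) = δ := by
    have hf2 : (Polynomial.X ^ 2 - C δ : F[X]).degree = 2 := degree_X_pow_sub_C (by norm_num) δ
    have hg2 : (C (-z) * Polynomial.X ^ 2 : F[X]).degree = 2 := by
      rw [degree_C_mul_X_pow 2 (neg_ne_zero.mpr hz)]
      rfl
    obtain ⟨a, b, h⟩ := FiniteField.exists_root_sum_quadratic hf2 hg2 hodd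
    refine ⟨a, b, ?_⟩
    simp only [eval_sub, eval_pow, eval_X, eval_C, eval_mul] at h
    linear_combination h
  have hgZ : ∀ x ∈ span F (Set.range ![v, X v]),
      (a • (1 : V →ₗ[F] V) + b • X) x ∈ span F (Set.range ![v, X v]) := by
    intro x hx
    rw [LinearMap.add_apply, LinearMap.smul_apply, LinearMap.smul_apply, Module.End.one_apply]
    exact Submodule.add_mem _ (Submodule.smul_mem _ _ hx) (Submodule.smul_mem _ _ (hZinv hx))
  obtain ⟨C, hC, hCdet⟩ := exists_comm_det X _ Z' hcompl (fun x hx => hZinv hx)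
    (fun x hx => hZ'inv hx) ((a • (1 : V →ₗ[F] V) + b • X).restrict hgZ) (fun x => by
      simp only [LinearMap.coe_restrict_apply, LinearMap.add_apply, LinearMap.smul_apply,
        Module.End.one_apply, map_add, map_smul])
  refine ⟨C, hC, ?_⟩
  rw [hCdet, det_plane ![v, X v] hli _ a (b * z) b a]
  · rw [← hab]; ring
  · intro x hx
    simp only [LinearMap.coe_restrict_apply, LinearMap.add_apply, LinearMap.smul_apply,
      Module.End.one_apply, hx, Matrix.cons_val_zero, Matrix.cons_val_one]
  · intro x hx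
    simp only [LinearMap.coe_restrict_apply, LinearMap.add_apply, LinearMap.smul_apply,
      Module.End.one_apply, hx, Matrix.cons_val_zero, Matrix.cons_val_one, hXX, smul_smul]
    rw [add_comm]

end typeI

section typeU

variable {F V : Type*} [Field F] [AddCommGroup V] [Module F V] [FiniteDimensional F V]

omit [FiniteDimensional F V] in
theorem typeU_sq (X : V →ₗ[F] V) (w : F) (h2 : (2 : F) = 0)
    (hX : X ^ 2 = (w * w) • (1 : V →ₗ[F] V)) (v : V) :
    (X - w • (1 : V →ₗ[F] V)) ((X - w • (1 : V →ₗ[F] V)) v) = 0 := by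
  have hXX : X (X v) = (w * w) • v := by
    have := LinearMap.congr_fun hX v
    rw [pow_two, Module.End.mul_apply] at this
    rw [this]
    simp
  simp only [LinearMap.sub_apply, LinearMap.smul_apply, Module.End.one_apply, map_sub, map_smul,
    hXX, smul_sub, smul_smul]
  have h3 : (2 : F) • (w • X v) = 0 := by rw [h2, zero_smul]
  have h4 : (2 : F) • ((w * w) • v) = 0 := by rw [h2, zero_smul]
  rw [two_smul] at h3 h4
  have : (w * w) • v - w • X v - (w • X v - (w * w) • v) =
      ((w * w) • v + (w * w) • v) - (w • X v + w • X v) := by abel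
  rw [this, h3, h4, sub_zero]

/-- adapted pair basis for the unipotent type in characteristic two -/
theorem typeU_SPB (X : V →ₗ[F] V) (w : F) (h2 : (2 : F) = 0)
    (hX : X ^ 2 = (w * w) • (1 : V →ₗ[F] V)) (m : ℕ) (hV : finrank F V = 2 * m) :
    ∃ (κ : Type) (_ : Fintype κ), Fintype.card κ = m ∧ SPB X (w * w) ⊤ κ := by
  classical
  set N : V →ₗ[F] V := X - w • (1 : V →ₗ[F] V) with hN
  have hNN : ∀ v, N (N v) = 0 := typeU_sq X w h2 hX
  have hXN : ∀ v, X v = w • v + N v := by
    intro v
    rw [hN, LinearMap.sub_apply, LinearMap.smul_apply, Module.End.one_apply]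
    abel
  have hker : LinearMap.ker N = Module.End.eigenspace X w := by
    ext v
    rw [LinearMap.mem_ker, Module.End.mem_eigenspace_iff, hN, LinearMap.sub_apply,
      LinearMap.smul_apply, Module.End.one_apply, sub_eq_zero]
  obtain ⟨Cv, hCv⟩ := Submodule.exists_isCompl (LinearMap.ker N)
  -- `hCv : IsCompl (ker N) Cv`
  set k := finrank F Cv with hk
  let b := Module.finBasis F Cv
  let v : Fin k → V := fun i => (b i : V)
  have hliv : LinearIndependent F v :=
    b.linearIndependent.map' Cv.subtype (Submodule.ker_subtype Cv)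
  have hspanv : span F (Set.range v) = Cv := by
    have h1 : Set.range v = Cv.subtype '' Set.range b := by
      rw [← Set.range_comp]
      rfl
    rw [h1, ← Submodule.map_span, b.span_eq, Submodule.map_subtype_top]
  have hdisj : Disjoint Cv (LinearMap.ker N) := hCv.disjoint.symm
  have hliNv : LinearIndependent F (N ∘ v) := by
    apply hliv.map
    rw [hspanv]
    exact hdisj
  have hspanNv : span F (Set.range (N ∘ v)) = Cv.map N := by
    rw [Set.range_comp, ← Submodule.map_span, hspanv]
  have hmapker : Cv.map N ≤ LinearMap.ker N := by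
    rintro _ ⟨x, _, rfl⟩
    exact LinearMap.mem_ker.mpr (hNN x)
  have hli : LinearIndependent F (Sum.elim v (N ∘ v)) := by
    apply LinearIndependent.sum_type hliv hliNv
    rw [hspanv, hspanNv]
    exact hdisj.mono_right hmapker
  have hP₁ : SPB X (w * w) (Cv ⊔ Cv.map N) (Fin k) := by
    refine ⟨v, N ∘ v, fun _ => w, fun _ => 0, fun _ => 1, fun _ => w, hli, ?_, ?_, ?_, ?_⟩
    · rw [Set.Sum.elim_range, span_union, hspanv, hspanNv]
    · intro j
      rw [hXN, one_smul]
      rfl
    · intro j
      show X (N (v j)) = _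
      rw [hXN, hNN, add_zero, zero_smul, zero_add]
      rfl
    · intro j
      ring
  -- the complement of `N(Cv)` in `ker N`
  obtain ⟨C', hC'le, -, hinf, hsup, hdimker⟩ := exists_compl_in (0 : V →ₗ[F] V)
    Module.End.isSemisimple_zero (LinearMap.ker N) (Cv.map N)
    (fun x _ => by simp) (fun x _ => by simp) hmapker
  have hmapdim : finrank F ↥(Cv.map N) = k := by
    have hinj : Function.Injective (N.domRestrict Cv) := by
      rw [← LinearMap.ker_eq_bot, eq_bot_iff]
      intro x hx
      rw [LinearMap.mem_ker, LinearMap.domRestrict_apply] at hx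
      have : (x : V) ∈ Cv ⊓ LinearMap.ker N := ⟨x.2, LinearMap.mem_ker.mpr hx⟩
      rw [hdisj.eq_bot, Submodule.mem_bot] at this
      rw [Submodule.mem_bot]
      exact Subtype.ext this
    have h1 := LinearMap.finrank_range_of_inj hinj
    have h2 : LinearMap.range (N.domRestrict Cv) = Cv.map N := by
      rw [LinearMap.range_domRestrict]
    rw [h2] at h1
    exact h1
  have hsum : finrank F ↥(LinearMap.ker N) + k = 2 * m := by
    have h3 := Submodule.finrank_add_eq_of_isCompl hCv
    rw [hV] at h3
    exact h3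
  have hC'dim : finrank F C' = 2 * (m - k) := by
    rw [hmapdim] at hdimker
    omega
  have hkm : k ≤ m := by
    rw [hmapdim] at hdimker
    omega
  have hP₂ := SPB.of_eigen X w C' (by rw [← hker]; exact hC'le) (m - k) hC'dim
  have hdisj2 : Disjoint (Cv ⊔ Cv.map N) C' := by
    apply Disjoint.disjoint_sup_left_of_disjoint_sup_right (disjoint_iff.mpr hinf)
    rw [hsup]
    exact hdisj
  have hser := hP₁.series hP₂ hdisj2
  refine ⟨Fin k ⊕ Fin (m - k), inferInstance, ?_, hser.congr rfl ?_⟩
  · rw [Fintype.card_sum, Fintype.card_fin, Fintype.card_fin]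
    omega
  · rw [sup_assoc, hsup, sup_comm]
    exact hCv.sup_eq_top

/-- centraliser of a non-scalar unipotent-type element in a perfect field of characteristic two -/
theorem typeU_cent (X : V →ₗ[F] V) (w : F) (h2 : (2 : F) = 0)
    (hX : X ^ 2 = (w * w) • (1 : V →ₗ[F] V)) (hns : X ≠ w • (1 : V →ₗ[F] V)) (δ : F)
    (hδ : ∃ lam : F, lam * lam = δ) :
    ∃ C : V →ₗ[F] V, C ∘ₗ X = X ∘ₗ C ∧ LinearMap.det C = δ := by
  classical
  set N : V →ₗ[F] V := X - w • (1 : V →ₗ[F] V) with hN
  have hNN : ∀ v, N (N v) = 0 := typeU_sq X w h2 hX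
  have hXN : ∀ v, X v = w • v + N v := by
    intro v
    rw [hN, LinearMap.sub_apply, LinearMap.smul_apply, Module.End.one_apply]
    abel
  obtain ⟨v₀, hv₀⟩ : ∃ v₀, N v₀ ≠ 0 := by
    by_contra hall
    apply hns
    apply LinearMap.ext
    intro v
    have h1 : N v = 0 := by
      by_contra h
      exact hall ⟨v, h⟩
    rw [hXN, h1, add_zero]
    simp
  have hv₀0 : v₀ ≠ 0 := by
    rintro rfl
    exact hv₀ (map_zero N)
  -- `N v₀ ∉ span {v₀}`
  have hnotin : N v₀ ∉ span F {v₀} := by
    intro hmem
    obtain ⟨c, hc⟩ := Submodule.mem_span_singleton.mp hmem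
    have h1 : N (N v₀) = c • N v₀ := by rw [← hc, map_smul, ← hc]
    rw [hNN] at h1
    rcases smul_eq_zero.mp h1.symm with h | h
    · rw [h, zero_smul] at hc
      exact hv₀ hc.symm
    · exact hv₀ h
  obtain ⟨f₀, hf₀, hle⟩ := Submodule.exists_le_ker_of_notMem hnotin
  have hf₀v : f₀ v₀ = 0 := by
    have := hle (Submodule.mem_span_singleton_self v₀)
    exact LinearMap.mem_ker.mp this
  set φ : V →ₗ[F] F := (f₀ (N v₀))⁻¹ • f₀ with hφ
  have hφN : φ (N v₀) = 1 := by
    rw [hφ, LinearMap.smul_apply, smul_eq_mul, inv_mul_cancel₀ hf₀]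
  have hφv : φ v₀ = 0 := by
    rw [hφ, LinearMap.smul_apply, hf₀v, smul_zero]
  set Z : Submodule F V := span F {v₀, N v₀} with hZ
  set Z' : Submodule F V := LinearMap.ker φ ⊓ LinearMap.ker (φ ∘ₗ N) with hZ'
  have hZinv : ∀ x ∈ Z, X x ∈ Z := by
    have hle : Z.map X ≤ Z := by
      rw [hZ, Submodule.map_span, span_le]
      rintro _ ⟨x, hx, rfl⟩
      rcases hx with rfl | hx
      · rw [hXN]
        exact Submodule.add_mem _ (Submodule.smul_mem _ _ (subset_span (Set.mem_insert _ _)))
          (subset_span (Set.mem_insert_of_mem _ rfl))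
      · rw [Set.mem_singleton_iff.mp hx, hXN, hNN, add_zero]
        exact Submodule.smul_mem _ _ (subset_span (Set.mem_insert_of_mem _ rfl))
    intro x hx
    exact hle (Submodule.mem_map_of_mem hx)
  have hZ'inv : ∀ x ∈ Z', X x ∈ Z' := by
    intro x hx
    obtain ⟨h1, h2⟩ := hx
    rw [SetLike.mem_coe, LinearMap.mem_ker] at h1 h2
    rw [LinearMap.comp_apply] at h2
    refine ⟨?_, ?_⟩
    · rw [SetLike.mem_coe, LinearMap.mem_ker, hXN, map_add, map_smul, h1, h2, smul_zero, add_zero]
    · rw [SetLike.mem_coe, LinearMap.mem_ker, LinearMap.comp_apply, hXN, map_add, map_smul, hNN,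
        add_zero, map_smul, h2, smul_zero]
  have hcompl : IsCompl Z Z' := by
    constructor
    · rw [Submodule.disjoint_def]
      intro x hx hx'
      rw [hZ, Submodule.mem_span_pair] at hx
      obtain ⟨a, b, rfl⟩ := hx
      obtain ⟨h1, h2⟩ := hx'
      rw [SetLike.mem_coe, LinearMap.mem_ker] at h1 h2
      rw [LinearMap.comp_apply] at h2
      rw [map_add, map_smul, map_smul, hφv, hφN, smul_zero, zero_add, smul_eq_mul, mul_one] at h1
      rw [map_add, map_smul, map_smul, hNN, smul_zero, add_zero, map_smul, hφN, smul_eq_mul,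
        mul_one] at h2
      rw [h1, h2, zero_smul, zero_smul, add_zero]
    · rw [codisjoint_iff, eq_top_iff]
      intro u _
      have hz : φ (N u) • v₀ + φ u • N v₀ ∈ Z := by
        rw [hZ, Submodule.mem_span_pair]
        exact ⟨_, _, rfl⟩
      have hz' : u - (φ (N u) • v₀ + φ u • N v₀) ∈ Z' := by
        refine ⟨?_, ?_⟩
        · rw [SetLike.mem_coe, LinearMap.mem_ker, map_sub, map_add, map_smul, map_smul, hφv, hφN,
            smul_zero, zero_add, smul_eq_mul, mul_one, sub_self]
        · rw [SetLike.mem_coe, LinearMap.mem_ker, LinearMap.comp_apply, map_sub, map_add, map_smul,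
            map_smul, hNN, smul_zero, add_zero, map_sub, map_smul, hφN, smul_eq_mul, mul_one,
            sub_self]
      have : u = (φ (N u) • v₀ + φ u • N v₀) + (u - (φ (N u) • v₀ + φ u • N v₀)) := by abel
      rw [this]
      exact Submodule.add_mem _ (Submodule.mem_sup_left hz) (Submodule.mem_sup_right hz')
  obtain ⟨lam, hlam⟩ := hδ
  obtain ⟨C, hC, hCdet⟩ := exists_comm_det X Z Z' hcompl hZinv hZ'inv (lam • LinearMap.id)
    (fun z => by
      simp only [LinearMap.smul_apply, LinearMap.id_coe, id_eq, Submodule.coe_smul, map_smul])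
  refine ⟨C, hC, ?_⟩
  have hZdim : finrank F Z = 2 := by
    have hli : LinearIndependent F ![v₀, N v₀] := by
      rw [LinearIndependent.pair_iff]
      intro s t hst
      have h1 : N (s • v₀ + t • N v₀) = 0 := by rw [hst, map_zero]
      rw [map_add, map_smul, map_smul, hNN, smul_zero, add_zero] at h1
      have hs : s = 0 := (smul_eq_zero.mp h1).resolve_right hv₀
      rw [hs, zero_smul, zero_add] at hst
      exact ⟨hs, (smul_eq_zero.mp hst).resolve_right hv₀⟩
    have h3 := finrank_span_eq_card hli
    rw [Fintype.card_fin] at h3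
    have hrange : Set.range ![v₀, N v₀] = {v₀, N v₀} := by
      rw [Matrix.range_cons, Matrix.range_cons, Matrix.range_empty, Set.union_empty]
      rfl
    rw [hrange] at h3
    exact h3
  rw [hCdet, LinearMap.det_smul, LinearMap.det_id, mul_one, hZdim, pow_two, hlam]

end typeU

end Cfsg.Agent.Lib.Helper15.PInv
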