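import Mathlib
set_option autoImplicit false
namespace Cfsg.Agent.Lib.Helper15
open Polynomial DirectSum

section detid
variable {F : Type*} [Field F] {V N : Type*} [AddCommGroup V] [Module F V] [FiniteDimensional F V]
  [AddCommGroup N] [Module F N] [FiniteDimensional F N]

/-- Weinstein–Aronszajn for linear maps -/
theorem det_one_add_comp_comm (f : N →ₗ[F] V) (g : V →ₗ[F] N) :
    LinearMap.det (1 + f ∘ₗ g) = LinearMap.det (1 + g ∘ₗ f) := by
  classical
  let bV := Module.finBasis F V
  let bN := Module.finBasis F N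
  rw [← LinearMap.det_toMatrix bV, ← LinearMap.det_toMatrix bN]
  rw [map_add, map_add, LinearMap.toMatrix_comp bV bN bV, LinearMap.toMatrix_comp bN bV bN]
  rw [show (1 : V →ₗ[F] V) = LinearMap.id from rfl, show (1 : N →ₗ[F] N) = LinearMap.id from rfl,
    LinearMap.toMatrix_id, LinearMap.toMatrix_id]
  exact Matrix.det_one_add_mul_comm _ _

end detid

theorem exists_det_lsmul_quot {F : Type*} [Field F] [Finite F] (q : F[X]) (hq : Irreducible q) (d : F) :
    ∃ r : F[X], LinearMap.det (Algebra.lsmul F F (F[X] ⧸ Submodule.span F[X] {q}) r) = d := by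
  have : Fact (Irreducible q) := ⟨hq⟩
  have : FiniteDimensional F (AdjoinRoot q) := (AdjoinRoot.powerBasis hq.ne_zero).finite
  have : Finite (AdjoinRoot q) := Module.finite_of_finite F
  obtain ⟨a, ha⟩ := FiniteField.norm_surjective F (AdjoinRoot q) d
  obtain ⟨r, rfl⟩ := AdjoinRoot.mk_surjective a
  refine ⟨r, ?_⟩
  rw [← ha, Algebra.norm_apply]
  congr 1

theorem exists_comm_det {F : Type*} [Field F] [Finite F] {V : Type*} [AddCommGroup V] [Module F V]
    [FiniteDimensional F V] [Nontrivial V]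
    (φ : Module.End F V) (k : ℕ) (hk : (k : F) ≠ 0) (hφ : φ ^ k = 1) (d : F) :
    ∃ c : Module.End F V, c * φ = φ * c ∧ LinearMap.det c = d := by
  classical
  have h1 : Module.IsTorsion F[X] (Module.AEval' φ) := Module.AEval.isTorsion_of_finiteDimensional F V φ
  obtain ⟨ι, hι, p, hp, e, ⟨E⟩⟩ := Module.equiv_directSum_of_isTorsion h1
  -- find i₀ with e i₀ ≠ 0
  have hex : ∃ i, e i ≠ 0 := by
    by_contra hne
    push Not at hne
    obtain ⟨v, hv⟩ := exists_ne (0 : V)
    apply hv
    have h0 : E (Module.AEval'.of φ v) = 0 := by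
      ext i
      have htop : (Submodule.span F[X] {p i ^ e i}) = ⊤ := by
        rw [hne i, pow_zero]; exact Ideal.span_singleton_one
      have hss : Subsingleton (F[X] ⧸ Submodule.span F[X] {p i ^ e i}) := by
        rw [htop]; infer_instance
      exact Subsingleton.elim _ _
    rw [LinearEquiv.map_eq_zero_iff, LinearEquiv.map_eq_zero_iff] at h0
    exact h0
  obtain ⟨i₀, hi₀⟩ := hex
  have hkill : ∀ m : Module.AEval' φ, (X ^ k - 1 : F[X]) • m = 0 := by
    intro m
    obtain ⟨v, rfl⟩ := (Module.AEval'.of φ).surjective m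
    rw [sub_smul, one_smul, Module.AEval'.X_pow_smul_of, hφ, one_smul, sub_self]
  have hdvd : p i₀ ^ e i₀ ∣ X ^ k - 1 := by
    have h2 := hkill (E.symm (DirectSum.of _ i₀ (Submodule.Quotient.mk 1)))
    rw [← map_smul, LinearEquiv.map_eq_zero_iff] at h2
    have h3 := congrArg (fun z => z i₀) h2
    simp only [DirectSum.smul_apply, DirectSum.of_eq_same, DirectSum.zero_apply] at h3
    rw [← Submodule.Quotient.mk_smul, Submodule.Quotient.mk_eq_zero, smul_eq_mul, mul_one,
      Submodule.mem_span_singleton] at h3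
    obtain ⟨a, ha⟩ := h3
    exact ⟨a, by rw [← ha, smul_eq_mul, mul_comm]⟩
  have hsep : Squarefree (X ^ k - 1 : F[X]) := by
    have := separable_X_pow_sub_C (1 : F) hk one_ne_zero
    rw [map_one] at this
    exact this.squarefree
  have he : e i₀ = 1 := by
    by_contra hne
    have h2 : 2 ≤ e i₀ := by omega
    have h3 : p i₀ * p i₀ ∣ X ^ k - 1 := by
      refine dvd_trans ?_ hdvd
      rw [← pow_two]
      exact pow_dvd_pow _ h2
    exact (hp i₀).not_isUnit (hsep _ h3)
  have key : ∀ j, j = 1 → ∃ r : F[X],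
      LinearMap.det (Algebra.lsmul F F (F[X] ⧸ Submodule.span F[X] {p i₀ ^ j}) r) = d := by
    intro j hj
    subst hj
    rw [pow_one]
    exact exists_det_lsmul_quot (p i₀) (hp i₀) d
  obtain ⟨r, hr⟩ := key (e i₀) he
  let π₀ : V →ₗ[F] (F[X] ⧸ Submodule.span F[X] {p i₀ ^ e i₀}) :=
    (DirectSum.component F[X] ι (fun i => F[X] ⧸ Submodule.span F[X] {p i ^ e i}) i₀).restrictScalars F ∘ₗ
      (E.toLinearMap.restrictScalars F) ∘ₗ (Module.AEval'.of φ).toLinearMap
  let ι₀ : (F[X] ⧸ Submodule.span F[X] {p i₀ ^ e i₀}) →ₗ[F] V :=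
    (Module.AEval'.of φ).symm.toLinearMap ∘ₗ (E.symm.toLinearMap.restrictScalars F) ∘ₗ
      (DirectSum.lof F[X] ι (fun i => F[X] ⧸ Submodule.span F[X] {p i ^ e i}) i₀).restrictScalars F
  have hπι : π₀ ∘ₗ ι₀ = LinearMap.id := by
    apply LinearMap.ext
    intro n
    simp only [π₀, ι₀, LinearMap.comp_apply, LinearMap.restrictScalars_apply, LinearEquiv.coe_coe,
      LinearEquiv.apply_symm_apply, DirectSum.component.lof_self, LinearMap.id_apply]
  have hinj : Function.Injective ι₀ := by
    intro a b hab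
    have := congrArg π₀ hab
    rw [← LinearMap.comp_apply, ← LinearMap.comp_apply, hπι] at this
    exact this
  have hfd : FiniteDimensional F (F[X] ⧸ Submodule.span F[X] {p i₀ ^ e i₀}) :=
    FiniteDimensional.of_injective ι₀ hinj
  set μ := Algebra.lsmul F F (F[X] ⧸ Submodule.span F[X] {p i₀ ^ e i₀}) r with hμ
  refine ⟨1 + ι₀ ∘ₗ ((μ - 1) ∘ₗ π₀), ?_, ?_⟩
  · have hπ : ∀ v, π₀ (φ v) = (X : F[X]) • π₀ v := by
      intro v
      simp only [π₀, LinearMap.comp_apply, LinearMap.restrictScalars_apply, LinearEquiv.coe_coe]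
      rw [← Module.AEval'.X_smul_of, map_smul, map_smul]
    have hι : ∀ n, ι₀ ((X : F[X]) • n) = φ (ι₀ n) := by
      intro n
      simp only [ι₀, LinearMap.comp_apply, LinearMap.restrictScalars_apply, LinearEquiv.coe_coe]
      rw [map_smul, map_smul, Module.AEval'.of_symm_X_smul]
    have hμX : ∀ n, (μ - 1) ((X : F[X]) • n) = (X : F[X]) • (μ - 1) n := by
      intro n
      simp only [hμ, LinearMap.sub_apply, Algebra.lsmul_coe, Module.End.one_apply, smul_sub]
      rw [smul_comm]
    apply LinearMap.ext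
    intro v
    simp only [Module.End.mul_apply, LinearMap.add_apply, Module.End.one_apply, LinearMap.comp_apply,
      map_add, hπ, hμX, hι]
  · rw [det_one_add_comp_comm, LinearMap.comp_assoc, hπι, LinearMap.comp_id, add_sub_cancel, hr]

end Cfsg.Agent.Lib.Helper15
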