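import Mathlib
import Cfsg.Agent.Lib.Helper15.SympOrder
import Cfsg.Agent.Lib.Helper15.PSub1

/-!
# Counting pairs of complementary totally isotropic subspaces of a symplectic space
-/

set_option autoImplicit false

namespace Cfsg.Agent.Lib.Helper15.PSpD

open Module Submodule Cfsg.Agent.Lib.Helper15

section basic

variable {F V : Type*} [Field F] [AddCommGroup V] [Module F V]
variable (B : V →ₗ[F] V →ₗ[F] F)

/-- a vector of a totally isotropic `W` which is orthogonal to a supplement `U` is zero -/
theorem polar_inj (halt : ∀ x, B x x = 0) (hnd : ∀ x, (∀ y, B x y = 0) → x = 0)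
    (U W : Submodule F V) (hUW : U ⊔ W = ⊤) (hW : ∀ u ∈ W, ∀ v ∈ W, B u v = 0)
    (w : V) (hw : w ∈ W) (h : ∀ u ∈ U, B u w = 0) : w = 0 := by
  apply hnd
  intro y
  have hy : y ∈ U ⊔ W := by rw [hUW]; exact mem_top
  obtain ⟨u, hu, w', hw', rfl⟩ := mem_sup.mp hy
  rw [alt_swap B halt, map_add, LinearMap.add_apply, h u hu, hW w' hw' w hw, add_zero, neg_zero]

theorem polar_finrank_le [FiniteDimensional F V] (halt : ∀ x, B x x = 0)
    (hnd : ∀ x, (∀ y, B x y = 0) → x = 0)
    (U W : Submodule F V) (hUW : U ⊔ W = ⊤) (hW : ∀ u ∈ W, ∀ v ∈ W, B u v = 0) :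
    finrank F W ≤ finrank F U := by
  let ψ : W →ₗ[F] Module.Dual F U :=
    { toFun := fun w => (B.flip w.1).domRestrict U
      map_add' := fun a b => by ext u; simp
      map_smul' := fun c a => by ext u; simp }
  have hinj : Function.Injective ψ := by
    rw [← LinearMap.ker_eq_bot, LinearMap.ker_eq_bot']
    intro w hw
    apply Subtype.ext
    apply polar_inj B halt hnd U W hUW hW w.1 w.2
    intro u hu
    have := LinearMap.congr_fun hw ⟨u, hu⟩
    exact this
  have := LinearMap.finrank_le_finrank_of_injective hinj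
  rwa [Subspace.dual_finrank_eq] at this

theorem polar_finrank [FiniteDimensional F V] (halt : ∀ x, B x x = 0)
    (hnd : ∀ x, (∀ y, B x y = 0) → x = 0) (d : ℕ) (hV : finrank F V = 2 * d)
    (U W : Submodule F V) (hUW : IsCompl U W) (hU : ∀ u ∈ U, ∀ v ∈ U, B u v = 0)
    (hW : ∀ u ∈ W, ∀ v ∈ W, B u v = 0) : finrank F U = d ∧ finrank F W = d := by
  have h1 := polar_finrank_le B halt hnd U W hUW.sup_eq_top hW
  have h2 := polar_finrank_le B halt hnd W U (by rw [sup_comm]; exact hUW.sup_eq_top) hU
  have h3 := Submodule.finrank_add_eq_of_isCompl hUW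
  omega

theorem span_ti {k : ℕ} (e : Fin k → V) (h : ∀ i j, B (e i) (e j) = 0) :
    ∀ u ∈ span F (Set.range e), ∀ v ∈ span F (Set.range e), B u v = 0 := by
  intro u hu v hv
  obtain ⟨a, rfl⟩ := (mem_span_range_iff_exists_fun F).mp hu
  obtain ⟨b, rfl⟩ := (mem_span_range_iff_exists_fun F).mp hv
  simp only [map_sum, map_smul, LinearMap.sum_apply, LinearMap.smul_apply, h, smul_zero,
    Finset.sum_const_zero]

theorem sympFam_li_e {k : ℕ} {e f : Fin k → V} (h : IsSympFam B e f) :
    LinearIndependent F e := by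
  rw [Fintype.linearIndependent_iff]
  intro g hg j
  have h1 : B (∑ i, g i • e i) (f j) = g j := by
    simp only [map_sum, map_smul, LinearMap.sum_apply, LinearMap.smul_apply, h.ef, smul_eq_mul]
    simp
  rw [hg] at h1
  simpa using h1.symm

theorem sympFam_li_f {k : ℕ} {e f : Fin k → V} (h : IsSympFam B e f) :
    LinearIndependent F f := by
  rw [Fintype.linearIndependent_iff]
  intro g hg j
  have h1 : B (e j) (∑ i, g i • f i) = g j := by
    simp only [map_sum, map_smul, h.ef, smul_eq_mul]
    simp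
  rw [hg] at h1
  simpa using h1.symm

/-- a full symplectic family spans a pair of complementary totally isotropic subspaces -/
theorem sympFam_isCompl [FiniteDimensional F V] (halt : ∀ x, B x x = 0) (d : ℕ)
    (hV : finrank F V = 2 * d) {e f : Fin d → V} (h : IsSympFam B e f) :
    IsCompl (span F (Set.range e)) (span F (Set.range f)) := by
  constructor
  · rw [Submodule.disjoint_def]
    intro x hxe hxf
    obtain ⟨b, rfl⟩ := (mem_span_range_iff_exists_fun F).mp hxf
    have hb : ∀ j, b j = 0 := by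
      intro j
      have h0 := span_ti B e h.ee _ hxe (e j) (subset_span ⟨j, rfl⟩)
      simp only [map_sum, map_smul, LinearMap.sum_apply, LinearMap.smul_apply, h.fe B halt,
        smul_eq_mul] at h0
      simpa using h0
    simp [hb]
  · rw [codisjoint_iff, eq_top_iff]
    intro x _
    have hperp : sympPerp B e f = ⊥ := by
      apply Submodule.finrank_eq_zero.mp
      have := finrank_sympPerp B halt h
      omega
    have h1 := sub_sympComb_mem B halt h x
    rw [hperp, mem_bot, sub_eq_zero] at h1
    rw [h1]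
    unfold sympComb
    apply Submodule.sub_mem
    · apply Submodule.mem_sup_left
      exact Submodule.sum_mem _ fun i _ => Submodule.smul_mem _ _ (subset_span ⟨i, rfl⟩)
    · apply Submodule.mem_sup_right
      exact Submodule.sum_mem _ fun i _ => Submodule.smul_mem _ _ (subset_span ⟨i, rfl⟩)

/-- the dual family of a basis of `U` inside the complementary totally isotropic `W` -/
theorem exists_dual_fam [FiniteDimensional F V] (halt : ∀ x, B x x = 0)
    (hnd : ∀ x, (∀ y, B x y = 0) → x = 0) (d : ℕ) (hV : finrank F V = 2 * d)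
    (U W : Submodule F V) (hUW : IsCompl U W) (hU : ∀ u ∈ U, ∀ v ∈ U, B u v = 0)
    (hW : ∀ u ∈ W, ∀ v ∈ W, B u v = 0) (e : Fin d → V) (he : span F (Set.range e) = U) :
    ∃ f : Fin d → V, (∀ j, f j ∈ W) ∧ IsSympFam B e f := by
  classical
  obtain ⟨hUd, hWd⟩ := polar_finrank B halt hnd d hV U W hUW hU hW
  let φ : W →ₗ[F] (Fin d → F) :=
    { toFun := fun w i => B (e i) w.1
      map_add' := fun a b => by ext i; simp
      map_smul' := fun c a => by ext i; simp }
  have hinj : Function.Injective φ := by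
    rw [← LinearMap.ker_eq_bot, LinearMap.ker_eq_bot']
    intro w hw
    apply Subtype.ext
    apply polar_inj B halt hnd U W hUW.sup_eq_top hW w.1 w.2
    intro u hu
    rw [← he] at hu
    obtain ⟨a, rfl⟩ := (mem_span_range_iff_exists_fun F).mp hu
    simp only [map_sum, map_smul, LinearMap.sum_apply, LinearMap.smul_apply]
    apply Finset.sum_eq_zero
    intro i _
    have := congrFun hw i
    have h2 : B (e i) w.1 = 0 := this
    rw [h2, smul_zero]
  have hsurj : Function.Surjective φ := by
    apply (LinearMap.injective_iff_surjective_of_finrank_eq_finrank ?_).mp hinj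
    rw [hWd, Module.finrank_pi, Fintype.card_fin]
  choose f hf using fun j : Fin d => hsurj (Pi.single j 1)
  refine ⟨fun j => (f j).1, fun j => (f j).2, ?_, ?_, ?_⟩
  · intro i j
    apply hU
    · rw [← he]; exact subset_span ⟨i, rfl⟩
    · rw [← he]; exact subset_span ⟨j, rfl⟩
  · intro i j
    exact hW _ (f i).2 _ (f j).2
  · intro i j
    have := congrFun (hf j) i
    have h2 : B (e i) (f j).1 = (Pi.single j 1 : Fin d → F) i := this
    rw [h2, Pi.single_apply]

/-- uniqueness of the dual family -/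
theorem dual_fam_unique (halt : ∀ x, B x x = 0)
    (hnd : ∀ x, (∀ y, B x y = 0) → x = 0) {d : ℕ}
    (U W : Submodule F V) (hUW : U ⊔ W = ⊤)
    (hW : ∀ u ∈ W, ∀ v ∈ W, B u v = 0) (e : Fin d → V) (he : span F (Set.range e) = U)
    (f f' : Fin d → V) (hf : ∀ j, f j ∈ W) (hf' : ∀ j, f' j ∈ W)
    (h : ∀ i j, B (e i) (f j) = B (e i) (f' j)) : f = f' := by
  funext j
  rw [← sub_eq_zero]
  apply polar_inj B halt hnd U W hUW hW _ (Submodule.sub_mem _ (hf j) (hf' j))
  intro u hu
  rw [← he] at hu
  obtain ⟨a, rfl⟩ := (mem_span_range_iff_exists_fun F).mp hu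
  simp only [map_sum, map_smul, LinearMap.sum_apply, LinearMap.smul_apply, map_sub, h, sub_self]

end basic

section count

variable {F V : Type*} [Field F] [Fintype F] [AddCommGroup V] [Module F V] [FiniteDimensional F V]
variable (B : V →ₗ[F] V →ₗ[F] F)

/-- the type of ordered pairs of complementary totally isotropic subspaces -/
abbrev PolarPair : Type _ :=
  {P : Submodule F V × Submodule F V // IsCompl P.1 P.2 ∧ (∀ u ∈ P.1, ∀ v ∈ P.1, B u v = 0) ∧
    (∀ u ∈ P.2, ∀ v ∈ P.2, B u v = 0)}

/-- the pair spanned by a full symplectic family -/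
noncomputable def famPair (halt : ∀ x, B x x = 0) (d : ℕ) (hV : finrank F V = 2 * d)
    (x : SympFam B d) : PolarPair B :=
  ⟨(span F (Set.range x.1.1), span F (Set.range x.1.2)),
    sympFam_isCompl B halt d hV x.2, span_ti B _ x.2.ee, span_ti B _ x.2.ff⟩

/-- the fibre of `famPair` is the set of bases of the first subspace -/
noncomputable def famPairFiber (halt : ∀ x, B x x = 0) (hnd : ∀ x, (∀ y, B x y = 0) → x = 0)
    (d : ℕ) (hV : finrank F V = 2 * d) (P : PolarPair B) :
    {x : SympFam B d // famPair B halt d hV x = P} ≃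
      {s : {s : Fin d → V // LinearIndependent F s} //
        Submodule.span F (Set.range (s : Fin d → V)) = P.1.1} := by
  refine Equiv.ofBijective (fun x => ⟨⟨x.1.1.1, sympFam_li_e B x.1.2⟩,
    congrArg (fun Q : PolarPair B => Q.1.1) x.2⟩) ⟨?_, ?_⟩
  · intro x y hxy
    have h1 : x.1.1.1 = y.1.1.1 := congrArg (fun s => (s.1.1 : Fin d → V)) hxy
    apply Subtype.ext
    apply Subtype.ext
    apply Prod.ext h1
    have hxe : span F (Set.range x.1.1.1) = P.1.1 := congrArg (fun Q : PolarPair B => Q.1.1) x.2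
    have hxf : span F (Set.range x.1.1.2) = P.1.2 := congrArg (fun Q : PolarPair B => Q.1.2) x.2
    have hyf : span F (Set.range y.1.1.2) = P.1.2 := congrArg (fun Q : PolarPair B => Q.1.2) y.2
    apply dual_fam_unique B halt hnd P.1.1 P.1.2 P.2.1.sup_eq_top P.2.2.2 x.1.1.1 hxe
    · intro j; rw [← hxf]; exact subset_span ⟨j, rfl⟩
    · intro j; rw [← hyf]; exact subset_span ⟨j, rfl⟩
    · intro i j
      rw [x.1.2.ef, h1, y.1.2.ef]
  · rintro ⟨⟨e, hli⟩, he⟩
    obtain ⟨f, hfW, hfam⟩ := exists_dual_fam B halt hnd d hV P.1.1 P.1.2 P.2.1 P.2.2.1 P.2.2.2 e he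
    have hc := sympFam_isCompl B halt d hV hfam
    obtain ⟨hUd, hWd⟩ := polar_finrank B halt hnd d hV P.1.1 P.1.2 P.2.1 P.2.2.1 P.2.2.2
    have hfsp : span F (Set.range f) = P.1.2 := by
      apply Submodule.eq_of_le_of_finrank_eq
      · rw [span_le]; rintro _ ⟨j, rfl⟩; exact hfW j
      · rw [hWd, finrank_span_eq_card (sympFam_li_f B hfam), Fintype.card_fin]
    refine ⟨⟨⟨(e, f), hfam⟩, ?_⟩, rfl⟩
    apply Subtype.ext
    exact Prod.ext he hfsp

/-- the number of polar pairs times the number of bases of a `d`-space is the number of full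
symplectic families -/
theorem card_polar_mul (halt : ∀ x, B x x = 0) (hnd : ∀ x, (∀ y, B x y = 0) → x = 0)
    (d : ℕ) (hV : finrank F V = 2 * d) :
    Nat.card (PolarPair B) * ∏ j : Fin d, (Fintype.card F ^ d - Fintype.card F ^ (j : ℕ)) =
      Nat.card (SympFam B d) := by
  classical
  have : Finite V := Module.finite_of_finite F
  have : Finite (PolarPair B) := by unfold PolarPair; infer_instance
  have : Fintype (PolarPair B) := Fintype.ofFinite _
  rw [Nat.card_congr (Equiv.sigmaFiberEquiv (famPair B halt d hV)).symm, Nat.card_sigma]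
  have hfib : ∀ P : PolarPair B, Nat.card {x : SympFam B d // famPair B halt d hV x = P} =
      ∏ j : Fin d, (Fintype.card F ^ d - Fintype.card F ^ (j : ℕ)) := by
    intro P
    obtain ⟨hUd, hWd⟩ := polar_finrank B halt hnd d hV P.1.1 P.1.2 P.2.1 P.2.2.1 P.2.2.2
    rw [Nat.card_congr (famPairFiber B halt hnd d hV P),
      Nat.card_congr (Cfsg.Agent.Lib.Helper15.PSub.fiberEquiv d P.1.1),
      Cfsg.Agent.Lib.Helper15.PSub.card_bases d P.1.1 hUd]
  simp only [hfib, Finset.sum_const, Finset.card_univ, smul_eq_mul]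
  rw [Nat.card_eq_fintype_card]

end count

end Cfsg.Agent.Lib.Helper15.PSpD
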