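import Mathlib
import Cfsg.Agent.Lib.Helper15.PSpD1

/-!
# Arithmetic of the number of polar pairs
-/

set_option autoImplicit false

namespace Cfsg.Agent.Lib.Helper15.PSpD

open Module Submodule Cfsg.Agent.Lib.Helper15 Cfsg.Agent.Lib.Helper15.PSub

/-- the closed formula for the number of polar pairs, in multiplicative form -/
theorem polar_count_identity (q d N : ℕ) (hq : 2 ≤ q)
    (hN : N * ∏ j : Fin d, (q ^ d - q ^ (j : ℕ)) =
      q ^ (d ^ 2) * ∏ i ∈ Finset.range d, (q ^ (2 * (i + 1)) - 1)) :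
    N * (∏ j ∈ Finset.range d, q ^ j) =
      q ^ (d ^ 2) * ∏ i ∈ Finset.range d, (q ^ (i + 1) + 1) := by
  have h1 : ∏ j : Fin d, (q ^ d - q ^ (j : ℕ)) = (∏ j ∈ Finset.range d, q ^ j) * qf q d := by
    rw [prod_pow_sub_pow q d d le_rfl]
    congr 1
    have := prod_top_mul_qf q d d le_rfl
    rw [Nat.sub_self] at this
    have h0 : qf q 0 = 1 := by unfold qf; simp
    rw [h0, mul_one] at this
    exact this
  have h2 : ∏ i ∈ Finset.range d, (q ^ (2 * (i + 1)) - 1) =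
      qf q d * ∏ i ∈ Finset.range d, (q ^ (i + 1) + 1) := by
    unfold qf
    rw [← Finset.prod_mul_distrib]
    apply Finset.prod_congr rfl
    intro i _
    have : q ^ (2 * (i + 1)) = q ^ (i + 1) * q ^ (i + 1) := by rw [← pow_add]; congr 1; omega
    rw [this]
    have h1 : 1 ≤ q ^ (i + 1) := Nat.one_le_pow _ _ (by omega)
    obtain ⟨t, ht⟩ : ∃ t, q ^ (i + 1) = t + 1 := ⟨q ^ (i + 1) - 1, by omega⟩
    rw [ht]
    have : (t + 1) * (t + 1) - 1 = (t + 1 - 1) * (t + 1 + 1) := by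
      rw [Nat.add_sub_cancel]
      have : (t + 1) * (t + 1) = t * (t + 1 + 1) + 1 := by ring
      rw [this, Nat.add_sub_cancel]
    exact this
  rw [h1, h2] at hN
  have hpos := qf_pos q d hq
  apply Nat.eq_of_mul_eq_mul_right hpos
  rw [mul_assoc, hN]
  ring

/-- the number of polar pairs is even when `q` is odd -/
theorem polar_count_even (q d N : ℕ) (hq : 2 ≤ q) (hodd : Odd q) (hd : 1 ≤ d)
    (hN : N * ∏ j : Fin d, (q ^ d - q ^ (j : ℕ)) =
      q ^ (d ^ 2) * ∏ i ∈ Finset.range d, (q ^ (2 * (i + 1)) - 1)) : 2 ∣ N := by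
  have h3 := polar_count_identity q d N hq hN
  have h4 : 2 ∣ N * (∏ j ∈ Finset.range d, q ^ j) := by
    rw [h3]
    apply Dvd.dvd.mul_left
    apply dvd_trans _ (Finset.dvd_prod_of_mem _ (Finset.mem_range.mpr hd))
    rw [zero_add, pow_one]
    obtain ⟨t, ht⟩ := hodd
    exact ⟨t + 1, by rw [ht]; ring⟩
  rcases (Nat.Prime.dvd_mul Nat.prime_two).mp h4 with h | h
  · exact h
  · exfalso
    obtain ⟨i, -, hi⟩ := (Prime.dvd_finsetProd_iff Nat.prime_two.prime _).mp h
    have := Nat.prime_two.dvd_of_dvd_pow hi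
    obtain ⟨t, ht⟩ := hodd
    omega

/-- a prime dividing the number of polar pairs (and not `q`) divides some `q^(i+1) + 1` -/
theorem polar_count_arith (q d N r : ℕ) (hq : 2 ≤ q)
    (hN : N * ∏ j : Fin d, (q ^ d - q ^ (j : ℕ)) =
      q ^ (d ^ 2) * ∏ i ∈ Finset.range d, (q ^ (2 * (i + 1)) - 1))
    (hr : r.Prime) (hrq : ¬ r ∣ q) (hrN : r ∣ N) : ∃ i, i < d ∧ r ∣ q ^ (i + 1) + 1 := by
  have h3 := polar_count_identity q d N hq hN
  have h4 : r ∣ q ^ (d ^ 2) * ∏ i ∈ Finset.range d, (q ^ (i + 1) + 1) := by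
    rw [← h3]
    exact Dvd.dvd.mul_right hrN _
  rcases (Nat.Prime.dvd_mul hr).mp h4 with h5 | h5
  · exact absurd (hr.dvd_of_dvd_pow h5) hrq
  · obtain ⟨i, hi, hd⟩ := (Prime.dvd_finsetProd_iff hr.prime _).mp h5
    exact ⟨i, Finset.mem_range.mp hi, hd⟩

/-- from `r ∣ q^k + 1` to the order of `q` modulo `r` -/
theorem order_of_dvd_add_one (q r k : ℕ) [hr : Fact r.Prime] (hr2 : r ≠ 2) (hk : 1 ≤ k)
    (h : r ∣ q ^ k + 1) :
    ∃ j, 1 ≤ j ∧ j ≤ k ∧ orderOf ((q : ℕ) : ZMod r) = 2 * j ∧ r ∣ q ^ j + 1 := by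
  have hak : ((q : ℕ) : ZMod r) ^ k = -1 := by
    have := (ZMod.natCast_eq_zero_iff (q ^ k + 1) r).mpr h
    push_cast at this
    exact eq_neg_of_add_eq_zero_left this
  have h2 : (2 : ZMod r) ≠ 0 := by
    intro h0
    have : ((2 : ℕ) : ZMod r) = 0 := by exact_mod_cast h0
    rw [ZMod.natCast_eq_zero_iff] at this
    have := (Nat.prime_dvd_prime_iff_eq hr.out Nat.prime_two).mp this
    exact hr2 this
  have hneg : (-1 : ZMod r) ≠ 1 := by
    intro h0
    apply h2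
    have : (1 : ZMod r) + 1 = 0 := by
      nth_rewrite 1 [← h0]
      ring
    rw [← this]; ring
  have ha2k : ((q : ℕ) : ZMod r) ^ (2 * k) = 1 := by
    rw [mul_comm, pow_mul, hak]; ring
  have hi2k : orderOf ((q : ℕ) : ZMod r) ∣ 2 * k := orderOf_dvd_of_pow_eq_one ha2k
  have hik : ¬ orderOf ((q : ℕ) : ZMod r) ∣ k := by
    intro hd
    have := orderOf_dvd_iff_pow_eq_one.mp hd
    rw [hak] at this
    exact hneg this
  have heven : 2 ∣ orderOf ((q : ℕ) : ZMod r) := by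
    by_contra hodd
    apply hik
    have hcop : Nat.Coprime (orderOf ((q : ℕ) : ZMod r)) 2 := by
      rw [Nat.coprime_comm]
      exact (Nat.Prime.coprime_iff_not_dvd Nat.prime_two).mpr hodd
    exact hcop.dvd_of_dvd_mul_left hi2k
  obtain ⟨j, hj⟩ := heven
  have hjk : j ∣ k := by
    rw [hj] at hi2k
    exact Nat.dvd_of_mul_dvd_mul_left (by norm_num) hi2k
  have hj1 : 1 ≤ j := by
    rcases Nat.eq_zero_or_pos j with h0 | h0
    · exfalso
      rw [h0, mul_zero] at hj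
      rw [hj] at hik
      exact hik (by rw [hj] at hi2k; have := Nat.eq_zero_of_zero_dvd hi2k; omega)
    · exact h0
  have haj : ((q : ℕ) : ZMod r) ^ j = -1 := by
    have hsq : ((q : ℕ) : ZMod r) ^ j * ((q : ℕ) : ZMod r) ^ j = 1 := by
      rw [← pow_add, ← two_mul, ← hj]
      exact pow_orderOf_eq_one _
    rcases mul_self_eq_one_iff.mp hsq with h1 | h1
    · exfalso
      have := orderOf_dvd_of_pow_eq_one h1
      rw [hj] at this
      have := Nat.le_of_dvd hj1 this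
      omega
    · exact h1
  refine ⟨j, hj1, Nat.le_of_dvd hk hjk, hj, ?_⟩
  rw [← ZMod.natCast_eq_zero_iff]
  push_cast
  rw [haj]; ring

end Cfsg.Agent.Lib.Helper15.PSpD
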