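import Mathlib

/-!
# The hermitian-type alternating form on a field extension of even degree
-/

set_option autoImplicit false

namespace Cfsg.Agent.Lib.Helper15.PSpD

open Module Submodule

section field

variable {F E : Type*} [Field F] [Fintype F] [Field E] [Algebra F E] [FiniteDimensional F E]

/-- the `j`-th power of the Frobenius of `E` over `F` -/
noncomputable def frobPow (F E : Type*) [Field F] [Fintype F] [Field E] [Algebra F E] (j : ℕ) :
    E →ₐ[F] E := (FiniteField.frobeniusAlgHom F E) ^ j

omit [FiniteDimensional F E] in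
theorem frobPow_apply (j : ℕ) (x : E) : frobPow F E j x = x ^ (Fintype.card F ^ j) := by
  unfold frobPow
  induction j generalizing x with
  | zero => simp
  | succ j ih =>
    rw [pow_succ, AlgHom.mul_apply, ih, FiniteField.frobeniusAlgHom_apply, ← pow_mul, pow_succ,
      mul_comm]

theorem frobPow_frobPow (j : ℕ) (hfr : finrank F E = 2 * j) (x : E) :
    frobPow F E j (frobPow F E j x) = x := by
  have : Finite E := Module.finite_of_finite F
  have : Fintype E := Fintype.ofFinite E
  rw [frobPow_apply, frobPow_apply, ← pow_mul, ← pow_add, ← two_mul, ← hfr,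
    ← Module.card_eq_pow_finrank, FiniteField.pow_card]

/-- `frobPow` as an algebra equivalence -/
noncomputable def frobEquiv (j : ℕ) (hfr : finrank F E = 2 * j) : E ≃ₐ[F] E :=
  AlgEquiv.ofAlgHom (frobPow F E j) (frobPow F E j)
    (by ext x; exact frobPow_frobPow j hfr x) (by ext x; exact frobPow_frobPow j hfr x)

theorem trace_frobPow (j : ℕ) (hfr : finrank F E = 2 * j) (x : E) :
    Algebra.trace F E (frobPow F E j x) = Algebra.trace F E x :=
  Algebra.trace_eq_of_algEquiv (frobEquiv j hfr) x

/-- the form `(a, b) ↦ Tr(θ a σ(b))` -/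
noncomputable def hermForm (F : Type*) {E : Type*} [Field F] [Fintype F] [Field E] [Algebra F E]
    (j : ℕ) (θ : E) : E →ₗ[F] E →ₗ[F] F :=
  (Algebra.traceForm F E).compl₁₂ (LinearMap.mulLeft F θ) (frobPow F E j).toLinearMap

omit [FiniteDimensional F E] in
theorem hermForm_apply (j : ℕ) (θ a b : E) :
    hermForm F j θ a b = Algebra.trace F E (θ * a * frobPow F E j b) := by
  unfold hermForm
  rw [LinearMap.compl₁₂_apply, Algebra.traceForm_apply, LinearMap.mulLeft_apply,
    AlgHom.toLinearMap_apply]

theorem hermForm_alt (h2 : (2 : F) ≠ 0) (j : ℕ) (hfr : finrank F E = 2 * j) (θ : E)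
    (hθ : frobPow F E j θ = -θ) (a : E) : hermForm F j θ a a = 0 := by
  rw [hermForm_apply]
  have h1 := trace_frobPow j hfr (θ * a * frobPow F E j a)
  rw [map_mul (frobPow F E j), map_mul (frobPow F E j), frobPow_frobPow j hfr, hθ] at h1
  have h3 : -θ * frobPow F E j a * a = -(θ * a * frobPow F E j a) := by ring
  rw [h3, map_neg] at h1
  have h4 : (2 : F) * Algebra.trace F E (θ * a * frobPow F E j a) = 0 := by
    rw [two_mul]
    nth_rewrite 1 [← h1]
    exact neg_add_cancel _
  rcases mul_eq_zero.mp h4 with h | h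
  · exact absurd h h2
  · exact h

omit [FiniteDimensional F E] in
theorem hermForm_inv (j : ℕ) (θ α : E) (hα : α * frobPow F E j α = 1) (a b : E) :
    hermForm F j θ (α * a) (α * b) = hermForm F j θ a b := by
  rw [hermForm_apply, hermForm_apply, map_mul (frobPow F E j)]
  congr 1
  have : θ * (α * a) * (frobPow F E j α * frobPow F E j b) =
      (α * frobPow F E j α) * (θ * a * frobPow F E j b) := by ring
  rw [this, hα, one_mul]

theorem hermForm_nondeg (j : ℕ) (hfr : finrank F E = 2 * j) (θ : E) (hθ : θ ≠ 0) (a : E)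
    (h : ∀ b, hermForm F j θ a b = 0) : a = 0 := by
  by_contra ha
  obtain ⟨c, hc⟩ := Algebra.trace_surjective F E 1
  have h1 := h (frobPow F E j ((θ * a)⁻¹ * c))
  rw [hermForm_apply, frobPow_frobPow j hfr, ← mul_assoc, mul_inv_cancel₀ (mul_ne_zero hθ ha),
    one_mul, hc] at h1
  exact one_ne_zero h1

end field

section adjoin

open Polynomial

variable {F : Type*} [Field F] (P : F[X]) [hP : Fact (Irreducible P)]

/-- an `F`-subspace of `F[X]/(P)` stable under multiplication by the root is trivial -/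
theorem adjoinRoot_invt (S : Submodule F (AdjoinRoot P))
    (hS : ∀ s ∈ S, AdjoinRoot.root P * s ∈ S) : S = ⊥ ∨ S = ⊤ := by
  have hpow : ∀ n : ℕ, ∀ s ∈ S, AdjoinRoot.root P ^ n * s ∈ S := by
    intro n
    induction n with
    | zero => intro s hs; simpa using hs
    | succ n ih =>
      intro s hs
      rw [pow_succ', mul_assoc]
      exact hS _ (ih s hs)
  have key : ∀ g : F[X], ∀ s ∈ S, AdjoinRoot.mk P g * s ∈ S := by
    intro g
    induction g using Polynomial.induction_on' with
    | add f g hf hg =>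
      intro s hs
      rw [map_add, add_mul]
      exact Submodule.add_mem _ (hf s hs) (hg s hs)
    | monomial n c =>
      intro s hs
      rw [← C_mul_X_pow_eq_monomial, map_mul, map_pow, AdjoinRoot.mk_C, AdjoinRoot.mk_X, mul_assoc,
        ← AdjoinRoot.algebraMap_eq, ← Algebra.smul_def]
      exact Submodule.smul_mem _ _ (hpow n s hs)
  by_cases hbot : S = ⊥
  · exact Or.inl hbot
  · right
    obtain ⟨s, hs, hs0⟩ := (Submodule.ne_bot_iff S).mp hbot
    rw [eq_top_iff]
    intro t _
    obtain ⟨g, hg⟩ := AdjoinRoot.mk_surjective (g := P) (t * s⁻¹)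
    have := key g s hs
    rw [hg, mul_assoc, inv_mul_cancel₀ hs0, mul_one] at this
    exact this

theorem adjoinRoot_finrank : finrank F (AdjoinRoot P) = P.natDegree := by
  have h0 : P ≠ 0 := hP.out.ne_zero
  rw [(AdjoinRoot.powerBasis h0).finrank, AdjoinRoot.powerBasis_dim]

theorem adjoinRoot_finiteDimensional : FiniteDimensional F (AdjoinRoot P) :=
  (AdjoinRoot.powerBasis hP.out.ne_zero).finite

theorem adjoinRoot_pow_eq_one (r : ℕ) [Fact r.Prime] (hPd : P ∣ cyclotomic r F) :
    AdjoinRoot.root P ^ r = 1 := by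
  have h1 : AdjoinRoot.mk P (X ^ r - 1) = 0 := by
    rw [AdjoinRoot.mk_eq_zero, ← cyclotomic_prime_mul_X_sub_one F r]
    exact Dvd.dvd.mul_right hPd _
  rw [map_sub, map_pow, AdjoinRoot.mk_X, map_one, sub_eq_zero] at h1
  exact h1

theorem adjoinRoot_ne_one (r : ℕ) [Fact r.Prime] (hr0 : (r : F) ≠ 0) (hPd : P ∣ cyclotomic r F) :
    AdjoinRoot.root P ≠ 1 := by
  intro h1
  have h2 : AdjoinRoot.mk P (cyclotomic r F) = 0 := AdjoinRoot.mk_eq_zero.mpr hPd
  rw [← AdjoinRoot.aeval_eq, h1, ← map_one (algebraMap F (AdjoinRoot P)), aeval_algebraMap_apply,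
    coe_aeval_eq_eval, eval_one_cyclotomic_prime, map_eq_zero] at h2
  exact hr0 h2

end adjoin

end Cfsg.Agent.Lib.Helper15.PSpD
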