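import Mathlib
import Cfsg.Agent.Lib.Helper15.SympOrder
set_option autoImplicit false
namespace Cfsg.Agent.Lib.Helper15

open Matrix Module
open Cfsg.Agent.Lib.Helper6

section abstract
variable {F V : Type*} [Field F] [AddCommGroup V] [Module F V] [Finite F] [FiniteDimensional F V]
variable (B : V →ₗ[F] V →ₗ[F] F) (halt : ∀ x, B x x = 0) (hnd : ∀ x, (∀ y, B x y = 0) → x = 0)

include halt hnd in
theorem exists_sympFam_first (m : ℕ) (hV : finrank F V = 2 * m) (w : V) (hw : w ≠ 0) (k : ℕ) (hk1 : 1 ≤ k)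
    (hk : k ≤ m) : ∃ p : SympFam B k, p.1.1 ⟨0, hk1⟩ = w := by
  induction k, hk1 using Nat.le_induction with
  | base =>
    obtain ⟨y, hy⟩ : ∃ y, B w y ≠ 0 := by
      by_contra hcon
      push Not at hcon
      exact hw (hnd w hcon)
    refine ⟨⟨(fun _ => w, fun _ => (B w y)⁻¹ • y), ⟨fun i j => halt w, fun i j => halt _, fun i j => ?_⟩⟩, rfl⟩
    show B w ((B w y)⁻¹ • y) = _
    rw [map_smul, smul_eq_mul, inv_mul_cancel₀ hy, if_pos (Subsingleton.elim i j)]
  | succ k hk1 ih =>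
    obtain ⟨p, hp⟩ := ih (by omega)
    have hcard : Nat.card {x : SympFam B (k + 1) // x.init B = p} =
        (Nat.card F ^ (2 * (m - k)) - 1) * Nat.card F ^ (2 * (m - k) - 1) := by
      rw [Nat.card_congr (fiberEquiv B halt p)]
      apply card_hyp_pairs B halt hnd p.2
      have := finrank_sympPerp B halt p.2
      omega
    have hq : 2 ≤ Nat.card F := by
      have : Fintype F := Fintype.ofFinite F
      rw [Nat.card_eq_fintype_card]
      exact Fintype.one_lt_card
    have hpos : 0 < Nat.card {x : SympFam B (k + 1) // x.init B = p} := by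
      rw [hcard]
      apply Nat.mul_pos
      · have : 2 ^ 1 ≤ Nat.card F ^ (2 * (m - k)) :=
          le_trans (Nat.pow_le_pow_left hq 1) (Nat.pow_le_pow_right (by omega) (by omega))
        omega
      · exact Nat.pos_of_ne_zero (pow_ne_zero _ (by omega))
    have : Nonempty {x : SympFam B (k + 1) // x.init B = p} := (Nat.card_pos_iff.mp hpos).1
    obtain ⟨x, hx⟩ := this
    refine ⟨x, ?_⟩
    have : (x.init B).1.1 ⟨0, hk1⟩ = w := by rw [hx]; exact hp
    exact this

end abstract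

section concrete
variable {m : ℕ} {F : Type*} [Field F]

theorem symp_smul_def (g : Matrix.symplecticGroup (Fin m) F) (x : Fin m ⊕ Fin m → F) : g • x = g.1 *ᵥ x := rfl

theorem exists_symp_map [Finite F] (hm : 1 ≤ m) (w : Fin m ⊕ Fin m → F) (hw : w ≠ 0) :
    ∃ A : Matrix.symplecticGroup (Fin m) F, A • (Pi.single (Sum.inr ⟨0, hm⟩) 1 : Fin m ⊕ Fin m → F) = w := by
  obtain ⟨p, hp⟩ := exists_sympFam_first (stdSymp m F) stdSymp_alt stdSymp_nondeg m
    (by rw [Module.finrank_pi, Fintype.card_sum, Fintype.card_fin]; ring) w hw m hm le_rfl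
  refine ⟨sympEquivFam.symm p, ?_⟩
  have := congrArg (fun q : SympFam (stdSymp m F) m => q.1.1 ⟨0, hm⟩) (sympEquivFam.apply_symm_apply p)
  rw [← hp, ← this]
  rfl

open MulAction in
theorem orbit_symp_eq [Finite F] (hm : 1 ≤ m) (w : Fin m ⊕ Fin m → F) (hw : w ≠ 0) :
    orbit (Matrix.symplecticGroup (Fin m) F) w = {x | x ≠ 0} := by
  ext x
  constructor
  · rintro ⟨g, rfl⟩
    intro h0
    apply hw
    have : g⁻¹ • (g • w) = g⁻¹ • (0 : Fin m ⊕ Fin m → F) := congrArg _ h0
    rw [inv_smul_smul] at this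
    rw [this, symp_smul_def, mulVec_zero]
  · intro hx
    obtain ⟨A, hA⟩ := exists_symp_map hm w hw
    obtain ⟨A', hA'⟩ := exists_symp_map hm x hx
    refine ⟨A' * A⁻¹, ?_⟩
    show (A' * A⁻¹) • w = x
    rw [← hA, mul_smul, inv_smul_smul, hA']

open MulAction in
theorem card_stabilizer_symp [Fintype F] (hm : 1 ≤ m) (w : Fin m ⊕ Fin m → F) (hw : w ≠ 0) :
    Nat.card (stabilizer (Matrix.symplecticGroup (Fin m) F) w) * (Fintype.card F ^ (2 * m) - 1) =
      Nat.card (Matrix.symplecticGroup (Fin m) F) := by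
  classical
  rw [← Subgroup.card_mul_index (stabilizer (Matrix.symplecticGroup (Fin m) F) w), index_stabilizer,
    orbit_symp_eq hm w hw]
  congr 1
  have : Fintype.card {x : Fin m ⊕ Fin m → F // x ≠ 0} = Fintype.card (Fin m ⊕ Fin m → F) - 1 := by
    rw [Fintype.card_subtype_compl, Fintype.card_subtype_eq]
  rw [Fintype.card_pi, Finset.prod_const, Finset.card_univ, Fintype.card_sum, Fintype.card_fin] at this
  rw [show 2 * m = m + m by ring, ← this, ← Nat.card_eq_fintype_card]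
  rfl

end concrete



section transv
variable {m : ℕ} {F : Type*} [Field F]

/-- A symplectic matrix with `rank (t - 1) = 1` in characteristic 2 over a finite field is `x ↦ x + B(x,w) w`. -/
theorem exists_transv_vec [Finite F] [CharP F 2] (t : Matrix.symplecticGroup (Fin m) F)
    (ht : ((t : Matrix (Fin m ⊕ Fin m) (Fin m ⊕ Fin m) F) - 1).rank = 1) :
    ∃ w : Fin m ⊕ Fin m → F, w ≠ 0 ∧ ∀ x, t.1 *ᵥ x = x + Cfsg.sympForm m F x w • w := by
  classical
  have hpres := (mem_symplecticGroup_iff_preserves t.1).1 t.2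
  rw [Matrix.rank, finrank_eq_one_iff'] at ht
  obtain ⟨⟨v, hvr⟩, hv0, hv⟩ := ht
  have hv0' : v ≠ 0 := fun h => hv0 (Subtype.ext h)
  have hψ : ∀ x, ∃ c : F, (t.1 - 1) *ᵥ x = c • v := by
    intro x
    obtain ⟨c, hc⟩ := hv ⟨(t.1 - 1) *ᵥ x, ⟨x, rfl⟩⟩
    exact ⟨c, (congrArg Subtype.val hc).symm⟩
  choose ψ hψ using hψ
  have htx : ∀ x, t.1 *ᵥ x = x + ψ x • v := by
    intro x
    rw [← hψ x, sub_mulVec, one_mulVec]; abel
  obtain ⟨x₀, hx₀⟩ := hvr
  have hx₀' : (t.1 - 1) *ᵥ x₀ = v := hx₀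
  have hψ0 : ψ x₀ = 1 := by
    have := hψ x₀
    rw [hx₀'] at this
    have h2 : (1 - ψ x₀) • v = 0 := by rw [sub_smul, one_smul, ← this, sub_self]
    rcases smul_eq_zero.1 h2 with h | h
    · exact (sub_eq_zero.1 h).symm
    · exact absurd h hv0'
  have hrel : ∀ x y, ψ y * Cfsg.sympForm m F x v = ψ x * Cfsg.sympForm m F y v := by
    intro x y
    have := hpres x y
    rw [htx x, htx y] at this
    simp only [sympForm_add_left, sympForm_add_right, sympForm_smul_left, sympForm_smul_right, sympForm_self] at this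
    rw [sympForm_swap v y] at this
    linear_combination this
  have hc : ∀ y, ψ y * Cfsg.sympForm m F x₀ v = Cfsg.sympForm m F y v := by
    intro y
    rw [hrel x₀ y, hψ0, one_mul]
  obtain ⟨y₁, hy₁⟩ : ∃ y, Cfsg.sympForm m F y v ≠ 0 := by
    by_contra hcon
    push Not at hcon
    apply hv0'
    apply stdSymp_nondeg v
    intro y
    rw [stdSymp_apply, sympForm_swap, hcon, neg_zero]
  have hc0 : Cfsg.sympForm m F x₀ v ≠ 0 := by
    intro h
    apply hy₁
    rw [← hc y₁, h, mul_zero]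
  obtain ⟨s, hs⟩ := FiniteField.isSquare_of_char_two (ringChar.eq F 2) (Cfsg.sympForm m F x₀ v)⁻¹
  have hs0 : s ≠ 0 := by
    rintro rfl
    rw [mul_zero] at hs
    exact inv_ne_zero hc0 hs
  refine ⟨s • v, smul_ne_zero hs0 hv0', fun x => ?_⟩
  rw [htx x, sympForm_smul_right, smul_smul]
  congr 2
  rw [← hc x, mul_comm s, mul_assoc, mul_assoc, ← hs, mul_inv_cancel₀ hc0, mul_one]


open MulAction in
theorem centralizer_transv_eq [CharP F 2] (t : Matrix.symplecticGroup (Fin m) F) (w : Fin m ⊕ Fin m → F) (hw : w ≠ 0)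
    (htw : ∀ x, t.1 *ᵥ x = x + Cfsg.sympForm m F x w • w) :
    Subgroup.centralizer ({t} : Set (Matrix.symplecticGroup (Fin m) F)) =
      stabilizer (Matrix.symplecticGroup (Fin m) F) w := by
  ext g
  rw [Subgroup.mem_centralizer_singleton_iff, mem_stabilizer_iff, symp_smul_def]
  have hpres := (mem_symplecticGroup_iff_preserves g.1).1 g.2
  constructor
  · intro hgt
    have h1 : ∀ x, Cfsg.sympForm m F x w • (g.1 *ᵥ w) = Cfsg.sympForm m F (g.1 *ᵥ x) w • w := by
      intro x
      have h2 : (g * t).1 *ᵥ x = (t * g).1 *ᵥ x := by rw [hgt]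
      rw [show (g * t).1 = g.1 * t.1 from rfl, show (t * g).1 = t.1 * g.1 from rfl, ← mulVec_mulVec,
        ← mulVec_mulVec, htw, htw, mulVec_add, mulVec_smul] at h2
      exact add_left_cancel h2
    obtain ⟨y₁, hy₁⟩ : ∃ y, Cfsg.sympForm m F y w ≠ 0 := by
      by_contra hcon
      push Not at hcon
      apply hw
      apply stdSymp_nondeg w
      intro y
      rw [stdSymp_apply, sympForm_swap, hcon, neg_zero]
    set x₁ := (Cfsg.sympForm m F y₁ w)⁻¹ • y₁ with hx₁
    have hx₁w : Cfsg.sympForm m F x₁ w = 1 := by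
      rw [hx₁, sympForm_smul_left, inv_mul_cancel₀ hy₁]
    have hgw : g.1 *ᵥ w = Cfsg.sympForm m F (g.1 *ᵥ x₁) w • w := by
      rw [← h1 x₁, hx₁w, one_smul]
    set c := Cfsg.sympForm m F (g.1 *ᵥ x₁) w with hc
    have h3 : Cfsg.sympForm m F (g.1 *ᵥ x₁) (g.1 *ᵥ w) = 1 := by rw [hpres, hx₁w]
    rw [hgw, sympForm_smul_right, ← hc] at h3
    have hc1 : c = 1 := by
      have : (c - 1) ^ 2 = 0 := by
        have h2 : (2 : F) = 0 := CharP.cast_eq_zero F 2
        linear_combination h3 - c * h2 + h2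
      exact sub_eq_zero.1 ((pow_eq_zero_iff (two_ne_zero)).1 this)
    rw [hgw, hc1, one_smul]
  · intro hgw
    apply Subtype.ext
    show g.1 * t.1 = t.1 * g.1
    apply matrix_ext_mulVec
    intro x
    rw [← mulVec_mulVec, ← mulVec_mulVec, htw, htw, mulVec_add, mulVec_smul, hgw]
    congr 2
    conv_lhs => rw [← hpres x w, hgw]


open MulAction in
theorem card_centralizer_transv [Fintype F] [CharP F 2] (hm : 1 ≤ m) (t : Matrix.symplecticGroup (Fin m) F)
    (ht : ((t : Matrix (Fin m ⊕ Fin m) (Fin m ⊕ Fin m) F) - 1).rank = 1) :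
    Nat.card (Subgroup.centralizer ({t} : Set (Matrix.symplecticGroup (Fin m) F))) * (Fintype.card F ^ (2 * m) - 1) =
      Nat.card (Matrix.symplecticGroup (Fin m) F) := by
  obtain ⟨w, hw, htw⟩ := exists_transv_vec t ht
  rw [centralizer_transv_eq t w hw htw]
  exact card_stabilizer_symp hm w hw

end transv
end Cfsg.Agent.Lib.Helper15
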