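import Mathlib
import Cfsg.Agent.Lib.Helper15.SympStab

/-!
# Abstract lemmas on invariant polar pairs and the standard model of a symplectic space
-/

set_option autoImplicit false

namespace Cfsg.Agent.Lib.Helper15.PSpD

open Module Submodule Cfsg.Agent.Lib.Helper15 Cfsg.Agent.Lib.Helper6

section abstract

variable {F V : Type*} [Field F] [AddCommGroup V] [Module F V]
variable (B : V →ₗ[F] V →ₗ[F] F)

/-- an element acting irreducibly on the non-isotropic space `V₁ = (x-1)V` fixes no pair of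
totally isotropic subspaces which span `V` -/
theorem no_invt_pair (x : V →ₗ[F] V) (V₁ : Submodule F V)
    (h1 : ∀ v₁ ∈ V₁, ∃ v, x v - v = v₁) (h1' : ∀ v, x v - v ∈ V₁)
    (h2 : ∀ S : Submodule F V, S ≤ V₁ → (∀ s ∈ S, x s ∈ S) → S = ⊥ ∨ S = V₁)
    (h3 : ∃ u ∈ V₁, ∃ v ∈ V₁, B u v ≠ 0) :
    ¬ ∃ U W : Submodule F V, U ⊔ W = ⊤ ∧ (∀ u ∈ U, ∀ v ∈ U, B u v = 0) ∧
      (∀ u ∈ W, ∀ v ∈ W, B u v = 0) ∧ (∀ u ∈ U, x u ∈ U) ∧ (∀ w ∈ W, x w ∈ W) := by
  rintro ⟨U, W, hUW, hU, hW, hxU, hxW⟩
  obtain ⟨u₁, hu₁, v₁, hv₁, huv⟩ := h3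
  have hbot : ∀ T : Submodule F V, (∀ u ∈ T, ∀ v ∈ T, B u v = 0) → (∀ u ∈ T, x u ∈ T) →
      T ⊓ V₁ = ⊥ := by
    intro T hT hxT
    rcases h2 (T ⊓ V₁) inf_le_right (by
      intro s hs
      refine ⟨hxT s hs.1, ?_⟩
      have : x s = (x s - s) + s := by abel
      rw [this]
      exact Submodule.add_mem _ (h1' s) hs.2) with h | h
    · exact h
    · exfalso
      have hle : V₁ ≤ T := by rw [← h]; exact inf_le_left
      exact huv (hT u₁ (hle hu₁) v₁ (hle hv₁))
  obtain ⟨v, hv⟩ := h1 u₁ hu₁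
  have hv' : v ∈ U ⊔ W := by rw [hUW]; exact mem_top
  obtain ⟨a, ha, b, hb, rfl⟩ := mem_sup.mp hv'
  have ha0 : x a - a = 0 := by
    have : x a - a ∈ U ⊓ V₁ := ⟨Submodule.sub_mem _ (hxU a ha) ha, h1' a⟩
    rw [hbot U hU hxU] at this
    exact (mem_bot F).mp this
  have hb0 : x b - b = 0 := by
    have : x b - b ∈ W ⊓ V₁ := ⟨Submodule.sub_mem _ (hxW b hb) hb, h1' b⟩
    rw [hbot W hW hxW] at this
    exact (mem_bot F).mp this
  have : u₁ = 0 := by
    rw [← hv, map_add]
    have : x a + x b - (a + b) = (x a - a) + (x b - b) := by abel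
    rw [this, ha0, hb0, add_zero]
  rw [this] at huv
  simp at huv

/-- an element of odd order cannot interchange two distinct subspaces -/
theorem eq_of_swap (g : V →ₗ[F] V) (r : ℕ) (hr : Odd r) (hg : g ^ r = 1) (U W : Submodule F V)
    (h1 : U.map g = W) (h2 : W.map g = U) : U = W := by
  have hk : ∀ k : ℕ, U.map (g ^ (2 * k)) = U := by
    intro k
    induction k with
    | zero => simp [Module.End.one_eq_id]
    | succ k ih =>
      have : g ^ (2 * (k + 1)) = g ^ (2 * k) * (g * g) := by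
        rw [← pow_two, ← pow_add, mul_add, mul_one]
      rw [this, Module.End.mul_eq_comp, Submodule.map_comp, Module.End.mul_eq_comp,
        Submodule.map_comp, h1, h2, ih]
  obtain ⟨k, rfl⟩ := hr
  have h3 := hk (k + 1)
  have : g ^ (2 * (k + 1)) = g := by
    have : 2 * (k + 1) = (2 * k + 1) + 1 := by ring
    rw [this, pow_succ, hg, one_mul]
  rw [this, h1] at h3
  exact h3.symm

end abstract

section iso

variable {F V : Type*} [Field F] [Finite F] [AddCommGroup V] [Module F V] [FiniteDimensional F V]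
variable (B : V →ₗ[F] V →ₗ[F] F)

/-- a nondegenerate alternating space of dimension `2d` is isometric to the standard one -/
theorem exists_symp_iso (halt : ∀ x, B x x = 0) (hnd : ∀ x, (∀ y, B x y = 0) → x = 0) (d : ℕ)
    (hd : 1 ≤ d) (hV : finrank F V = 2 * d) :
    ∃ Ψ : (Fin d ⊕ Fin d → F) ≃ₗ[F] V, ∀ u v, B (Ψ u) (Ψ v) = Cfsg.sympForm d F u v := by
  classical
  have hV0 : 0 < finrank F V := by omega
  obtain ⟨w, hw⟩ : ∃ w : V, w ≠ 0 := by
    have := Module.finrank_pos_iff_exists_ne_zero.mp hV0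
    exact this
  obtain ⟨p, -⟩ := exists_sympFam_first B halt hnd d hV w hw d hd le_rfl
  obtain ⟨⟨e, f⟩, h⟩ := p
  simp only at h
  let ψ : (Fin d ⊕ Fin d → F) →ₗ[F] V :=
    { toFun := fun u => ∑ i, u (Sum.inr i) • e i + ∑ i, u (Sum.inl i) • f i
      map_add' := fun u v => by
        simp only [Pi.add_apply, add_smul, Finset.sum_add_distrib]
        abel
      map_smul' := fun c u => by
        simp only [Pi.smul_apply, smul_eq_mul, mul_smul, RingHom.id_apply, smul_add,
          Finset.smul_sum] }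
  have hψ : ∀ u v, B (ψ u) (ψ v) = Cfsg.sympForm d F u v := by
    intro u v
    show B (∑ i, u (Sum.inr i) • e i + ∑ i, u (Sum.inl i) • f i)
      (∑ i, v (Sum.inr i) • e i + ∑ i, v (Sum.inl i) • f i) = _
    rw [sympForm_eq_sum]
    simp only [map_add, map_sum, map_smul, LinearMap.add_apply, LinearMap.sum_apply,
      LinearMap.smul_apply, smul_eq_mul, h.ee, h.ff, h.ef, h.fe B halt, mul_zero,
      Finset.sum_const_zero, zero_add, add_zero]
    simp only [mul_ite, mul_one, mul_zero, mul_neg, Finset.mem_univ, if_true,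
      Finset.sum_ite_eq']
    rw [← Finset.sum_add_distrib]
    apply Finset.sum_congr rfl
    intro i _
    ring
  have hinj : Function.Injective ψ := by
    rw [← LinearMap.ker_eq_bot, LinearMap.ker_eq_bot']
    intro u hu
    apply stdSymp_nondeg
    intro y
    rw [stdSymp_apply, ← hψ, hu, map_zero, LinearMap.zero_apply]
  have hfr : finrank F (Fin d ⊕ Fin d → F) = finrank F V := by
    rw [hV, Module.finrank_pi, Fintype.card_sum, Fintype.card_fin]; ring
  refine ⟨LinearMap.linearEquivOfInjective ψ hinj hfr, fun u v => ?_⟩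
  rw [LinearMap.linearEquivOfInjective_apply]
  exact hψ u v

end iso

end Cfsg.Agent.Lib.Helper15.PSpD
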