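import Mathlib
import Cfsg.Agent.Lib.Helper15.PSpD4

/-!
# Transport of a model element to a symplectic matrix
-/

set_option autoImplicit false

namespace Cfsg.Agent.Lib.Helper15.PSpD

open Module Submodule Cfsg.Agent.Lib.Helper15 Cfsg.Agent.Lib.Helper6

section transport

variable {F V : Type*} [Field F] [Fintype F] [AddCommGroup V] [Module F V] [FiniteDimensional F V]
variable (B : V →ₗ[F] V →ₗ[F] F)

/-- an isometry of odd order of a symplectic space with no invariant pair of totally isotropic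
subspaces spanning the space gives a symplectic matrix deranging the polar pairs -/
theorem derange_of_model (halt : ∀ x, B x x = 0) (hnd : ∀ x, (∀ y, B x y = 0) → x = 0) (d : ℕ)
    (hd : 1 ≤ d) (hV : finrank F V = 2 * d) (x' : V →ₗ[F] V)
    (hiso : ∀ u v, B (x' u) (x' v) = B u v) (r : ℕ) (hodd : Odd r) (hxr : x' ^ r = 1)
    (hns : ∀ z : F, x' ≠ z • LinearMap.id)
    (hno : ¬ ∃ U W : Submodule F V, U ⊔ W = ⊤ ∧ (∀ u ∈ U, ∀ v ∈ U, B u v = 0) ∧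
      (∀ u ∈ W, ∀ v ∈ W, B u v = 0) ∧ (∀ u ∈ U, x' u ∈ U) ∧ (∀ w ∈ W, x' w ∈ W)) :
    ∃ x : ↥(Matrix.symplecticGroup (Fin d) F),
      (∃ z : F, ((x ^ r : ↥(Matrix.symplecticGroup (Fin d) F)) : Matrix (Fin d ⊕ Fin d) (Fin d ⊕ Fin d) F) = z • (1 : Matrix (Fin d ⊕ Fin d) (Fin d ⊕ Fin d) F)) ∧
      (∀ z : F, (x : Matrix (Fin d ⊕ Fin d) (Fin d ⊕ Fin d) F) ≠ z • (1 : Matrix (Fin d ⊕ Fin d) (Fin d ⊕ Fin d) F)) ∧
      ¬ (∃ U W : Submodule F (Fin d ⊕ Fin d → F), IsCompl U W ∧ (∀ u ∈ U, ∀ v ∈ U, Cfsg.sympForm d F u v = 0) ∧ (∀ u ∈ W, ∀ v ∈ W, Cfsg.sympForm d F u v = 0) ∧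
        ((U.map (Matrix.toLin' (x : Matrix (Fin d ⊕ Fin d) (Fin d ⊕ Fin d) F)) = U ∧ W.map (Matrix.toLin' (x : Matrix (Fin d ⊕ Fin d) (Fin d ⊕ Fin d) F)) = W) ∨
         (U.map (Matrix.toLin' (x : Matrix (Fin d ⊕ Fin d) (Fin d ⊕ Fin d) F)) = W ∧ W.map (Matrix.toLin' (x : Matrix (Fin d ⊕ Fin d) (Fin d ⊕ Fin d) F)) = U))) := by
  classical
  obtain ⟨Ψ, hΨ⟩ := exists_symp_iso B halt hnd d hd hV
  obtain ⟨y, hy⟩ : ∃ y : (Fin d ⊕ Fin d → F) →ₗ[F] (Fin d ⊕ Fin d → F),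
      y = Ψ.symm.toLinearMap ∘ₗ x' ∘ₗ Ψ.toLinearMap := ⟨_, rfl⟩
  have hyΨ : ∀ u, Ψ (y u) = x' (Ψ u) := by
    intro u
    rw [hy]
    simp
  have hypow : ∀ k : ℕ, ∀ u, Ψ ((y ^ k) u) = (x' ^ k) (Ψ u) := by
    intro k
    induction k with
    | zero => intro u; simp
    | succ k ih =>
      intro u
      rw [pow_succ', Module.End.mul_apply, hyΨ, ih, pow_succ', Module.End.mul_apply]
  have hyr : y ^ r = 1 := by
    apply LinearMap.ext
    intro u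
    apply Ψ.injective
    rw [hypow, hxr]
    rfl
  obtain ⟨A, hA⟩ : ∃ A : Matrix (Fin d ⊕ Fin d) (Fin d ⊕ Fin d) F, A = LinearMap.toMatrixAlgEquiv' y :=
    ⟨_, rfl⟩
  have hAy : Matrix.toLin' A = y := by
    rw [hA]
    exact Matrix.toLinAlgEquiv'_toMatrixAlgEquiv' y
  have hAmul : ∀ u, A.mulVec u = y u := by
    intro u
    rw [← hAy, Matrix.toLin'_apply]
  have hAmem : A ∈ Matrix.symplecticGroup (Fin d) F := by
    rw [mem_symplecticGroup_iff_preserves]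
    intro u v
    rw [hAmul, hAmul, ← hΨ, hyΨ, hyΨ, hiso, hΨ]
  refine ⟨⟨A, hAmem⟩, ⟨1, ?_⟩, ?_, ?_⟩
  · rw [SubmonoidClass.coe_pow, one_smul]
    show A ^ r = 1
    rw [hA, ← map_pow, hyr, map_one]
  · intro z hz
    have hz' : A = z • (1 : Matrix (Fin d ⊕ Fin d) (Fin d ⊕ Fin d) F) := hz
    apply hns z
    ext1 v
    obtain ⟨u, rfl⟩ := Ψ.surjective v
    rw [← hyΨ, ← hAmul, hz', Matrix.smul_mulVec, Matrix.one_mulVec, map_smul]
    rfl
  · rintro ⟨U, W, hUW, hU, hW, hfix⟩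
    have hfix' : (U.map y = U ∧ W.map y = W) ∨ (U.map y = W ∧ W.map y = U) := by
      rw [← hAy]; exact hfix
    clear hfix
    rcases hfix' with ⟨h1, h2⟩ | ⟨h1, h2⟩
    · apply hno
      refine ⟨U.map Ψ.toLinearMap, W.map Ψ.toLinearMap, ?_, ?_, ?_, ?_, ?_⟩
      · rw [← Submodule.map_sup, hUW.sup_eq_top, Submodule.map_top, LinearEquiv.range]
      · rintro _ ⟨u, hu, rfl⟩ _ ⟨v, hv, rfl⟩
        show B (Ψ u) (Ψ v) = 0
        rw [hΨ]
        exact hU u hu v hv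
      · rintro _ ⟨u, hu, rfl⟩ _ ⟨v, hv, rfl⟩
        show B (Ψ u) (Ψ v) = 0
        rw [hΨ]
        exact hW u hu v hv
      · rintro _ ⟨u, hu, rfl⟩
        show x' (Ψ u) ∈ _
        rw [← hyΨ]
        refine ⟨y u, ?_, rfl⟩
        rw [← h1]
        exact ⟨u, hu, rfl⟩
      · rintro _ ⟨u, hu, rfl⟩
        show x' (Ψ u) ∈ _
        rw [← hyΨ]
        refine ⟨y u, ?_, rfl⟩
        rw [← h2]
        exact ⟨u, hu, rfl⟩
    · have hUeqW := eq_of_swap y r hodd hyr U W h1 h2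
      rw [← hUeqW] at hUW
      have hbot : U = ⊥ := by
        have := hUW.inf_eq_bot
        rwa [inf_idem] at this
      have htop : U = ⊤ := by
        have := hUW.sup_eq_top
        rwa [sup_idem] at this
      have hmem : (Pi.single (Sum.inl ⟨0, hd⟩) 1 : Fin d ⊕ Fin d → F) ∈ U := by
        rw [htop]; exact mem_top
      rw [hbot, mem_bot] at hmem
      have := congrFun hmem (Sum.inl ⟨0, hd⟩)
      simp at this

end transport

end Cfsg.Agent.Lib.Helper15.PSpD
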