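import Mathlib
import Cfsg.Agent.Lib.Helper15.PSpD5

/-!
# The product model: an irreducible isometry plus a trivial summand
-/

set_option autoImplicit false

namespace Cfsg.Agent.Lib.Helper15.PSpD

open Module Submodule Cfsg.Agent.Lib.Helper15 Cfsg.Agent.Lib.Helper6

section product

variable {F M : Type*} [Field F] [AddCommGroup M] [Module F M]

/-- the orthogonal sum of a form on `M` and the standard symplectic form -/
noncomputable def prodForm (BE : M →ₗ[F] M →ₗ[F] F) (m : ℕ) :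
    (M × (Fin m ⊕ Fin m → F)) →ₗ[F] (M × (Fin m ⊕ Fin m → F)) →ₗ[F] F :=
  BE.compl₁₂ (LinearMap.fst F M (Fin m ⊕ Fin m → F)) (LinearMap.fst F M (Fin m ⊕ Fin m → F)) +
    (stdSymp m F).compl₁₂ (LinearMap.snd F M (Fin m ⊕ Fin m → F))
      (LinearMap.snd F M (Fin m ⊕ Fin m → F))

theorem prodForm_apply (BE : M →ₗ[F] M →ₗ[F] F) (m : ℕ) (a b : M × (Fin m ⊕ Fin m → F)) :
    prodForm BE m a b = BE a.1 b.1 + Cfsg.sympForm m F a.2 b.2 := by
  unfold prodForm
  rw [LinearMap.add_apply, LinearMap.add_apply, LinearMap.compl₁₂_apply, LinearMap.compl₁₂_apply]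
  rfl

theorem prodForm_alt (BE : M →ₗ[F] M →ₗ[F] F) (haltE : ∀ a, BE a a = 0) (m : ℕ)
    (a : M × (Fin m ⊕ Fin m → F)) : prodForm BE m a a = 0 := by
  rw [prodForm_apply, haltE, sympForm_self, add_zero]

theorem prodForm_nondeg (BE : M →ₗ[F] M →ₗ[F] F) (hndE : ∀ a, (∀ b, BE a b = 0) → a = 0) (m : ℕ)
    (a : M × (Fin m ⊕ Fin m → F)) (h : ∀ b, prodForm BE m a b = 0) : a = 0 := by
  apply Prod.ext
  · apply hndE
    intro b
    have := h (b, 0)
    rw [prodForm_apply] at this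
    simpa [sympForm_zero_right] using this
  · apply stdSymp_nondeg
    intro v
    have := h (0, v)
    rw [prodForm_apply] at this
    simpa using this

theorem prodMap_pow_apply (g : M →ₗ[F] M) (m : ℕ) (k : ℕ) (a : M × (Fin m ⊕ Fin m → F)) :
    ((g.prodMap (LinearMap.id : (Fin m ⊕ Fin m → F) →ₗ[F] (Fin m ⊕ Fin m → F))) ^ k) a =
      ((g ^ k) a.1, a.2) := by
  induction k with
  | zero => simp
  | succ k ih =>
    rw [pow_succ', Module.End.mul_apply, ih, pow_succ', Module.End.mul_apply]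
    rfl

/-- the properties of the product model -/
theorem prod_model (BE : M →ₗ[F] M →ₗ[F] F) (g : M →ₗ[F] M) (hisoE : ∀ a b, BE (g a) (g b) = BE a b) (r : ℕ)
    (hgr : g ^ r = 1) (hns : ∀ z : F, g ≠ z • LinearMap.id) (hsurj : ∀ b, ∃ a, g a - a = b)
    (hirr : ∀ S : Submodule F M, (∀ s ∈ S, g s ∈ S) → S = ⊥ ∨ S = ⊤)
    (hnt : ∃ a b, BE a b ≠ 0) (m : ℕ) :
    (∀ a b, prodForm BE m ((g.prodMap LinearMap.id) a) ((g.prodMap LinearMap.id) b) =
      prodForm BE m a b) ∧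
    (g.prodMap (LinearMap.id : (Fin m ⊕ Fin m → F) →ₗ[F] (Fin m ⊕ Fin m → F))) ^ r = 1 ∧
    (∀ z : F, (g.prodMap (LinearMap.id : (Fin m ⊕ Fin m → F) →ₗ[F] (Fin m ⊕ Fin m → F))) ≠
      z • LinearMap.id) ∧
    ¬ ∃ U W : Submodule F (M × (Fin m ⊕ Fin m → F)), U ⊔ W = ⊤ ∧
      (∀ u ∈ U, ∀ v ∈ U, prodForm BE m u v = 0) ∧
      (∀ u ∈ W, ∀ v ∈ W, prodForm BE m u v = 0) ∧
      (∀ u ∈ U, (g.prodMap LinearMap.id) u ∈ U) ∧ (∀ w ∈ W, (g.prodMap LinearMap.id) w ∈ W) := by
  refine ⟨?_, ?_, ?_, ?_⟩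
  · intro a b
    rw [prodForm_apply, prodForm_apply]
    show BE (g a.1) (g b.1) + Cfsg.sympForm m F a.2 b.2 = _
    rw [hisoE]
  · apply LinearMap.ext
    intro a
    rw [prodMap_pow_apply, hgr]
    rfl
  · intro z hz
    apply hns z
    apply LinearMap.ext
    intro a
    have := LinearMap.congr_fun hz (a, 0)
    exact congrArg Prod.fst this
  · apply no_invt_pair (prodForm BE m) (g.prodMap LinearMap.id)
      (LinearMap.range (LinearMap.inl F M (Fin m ⊕ Fin m → F)))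
    · rintro _ ⟨b, rfl⟩
      obtain ⟨a, ha⟩ := hsurj b
      refine ⟨(a, 0), ?_⟩
      show ((g a, (0 : Fin m ⊕ Fin m → F)) : M × (Fin m ⊕ Fin m → F)) - (a, 0) = (b, 0)
      rw [Prod.mk_sub_mk, ha, sub_zero]
    · intro v
      refine ⟨g v.1 - v.1, ?_⟩
      show ((g v.1 - v.1, (0 : Fin m ⊕ Fin m → F)) : M × (Fin m ⊕ Fin m → F)) = (g v.1, v.2) - v
      apply Prod.ext
      · rfl
      · show (0 : Fin m ⊕ Fin m → F) = v.2 - v.2
        rw [sub_self]
    · intro S hS hinv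
      have hS' : S = (S.comap (LinearMap.inl F M (Fin m ⊕ Fin m → F))).map
          (LinearMap.inl F M (Fin m ⊕ Fin m → F)) := by
        rw [Submodule.map_comap_eq_of_le hS]
      rcases hirr (S.comap (LinearMap.inl F M (Fin m ⊕ Fin m → F))) (by
        intro s hs
        rw [Submodule.mem_comap] at hs ⊢
        have := hinv _ hs
        exact this) with h | h
      · left
        rw [hS', h, Submodule.map_bot]
      · right
        rw [hS', h, Submodule.map_top]
    · obtain ⟨a, b, hab⟩ := hnt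
      refine ⟨(a, 0), ⟨a, rfl⟩, (b, 0), ⟨b, rfl⟩, ?_⟩
      rw [prodForm_apply]
      simpa [sympForm_zero_right] using hab

end product

end Cfsg.Agent.Lib.Helper15.PSpD
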