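import Mathlib
import Cfsg.Agent.Lib.Helper15.PSpD6
import Cfsg.Agent.Lib.Helper15.PSpD3
import Cfsg.Agent.Lib.Helper15.PSpD2
import Cfsg.Agent.Lib.Helper15.PSub3

/-!
# Existence of derangements of odd prime order on polar pairs
-/

set_option autoImplicit false

namespace Cfsg.Agent.Lib.Helper15.PSpD

open Module Submodule Polynomial Cfsg.Agent.Lib.Helper15 Cfsg.Agent.Lib.Helper6
  Cfsg.Agent.Lib.Helper15.PSub

section final

variable {F : Type*} [Field F] [Fintype F]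

omit [Fintype F] in
theorem mulLeft_pow_apply {E : Type*} [Field E] [Algebra F E] (α : E) (k : ℕ) (a : E) :
    ((LinearMap.mulLeft F α) ^ k) a = α ^ k * a := by
  induction k generalizing a with
  | zero => simp
  | succ k ih =>
    rw [pow_succ', Module.End.mul_apply, ih, LinearMap.mulLeft_apply, pow_succ', mul_assoc]

/-- the derangement, given the order of `q` modulo `r` -/
theorem exists_derangement (p : ℕ) [Fact p.Prime] [CharP F p] (hodd : Odd (Fintype.card F))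
    (d : ℕ) (r : ℕ) [hr : Fact r.Prime] (hr2 : r ≠ 2) (hrp : r ≠ p) (j : ℕ) (hj1 : 1 ≤ j)
    (hjd : j ≤ d) (hord : orderOf ((Fintype.card F : ℕ) : ZMod r) = 2 * j)
    (hrj : r ∣ Fintype.card F ^ j + 1) :
    ∃ x : ↥(Matrix.symplecticGroup (Fin d) F),
      (∃ z : F, ((x ^ r : ↥(Matrix.symplecticGroup (Fin d) F)) : Matrix (Fin d ⊕ Fin d) (Fin d ⊕ Fin d) F) = z • (1 : Matrix (Fin d ⊕ Fin d) (Fin d ⊕ Fin d) F)) ∧
      (∀ z : F, (x : Matrix (Fin d ⊕ Fin d) (Fin d ⊕ Fin d) F) ≠ z • (1 : Matrix (Fin d ⊕ Fin d) (Fin d ⊕ Fin d) F)) ∧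
      ¬ (∃ U W : Submodule F (Fin d ⊕ Fin d → F), IsCompl U W ∧ (∀ u ∈ U, ∀ v ∈ U, Cfsg.sympForm d F u v = 0) ∧ (∀ u ∈ W, ∀ v ∈ W, Cfsg.sympForm d F u v = 0) ∧
        ((U.map (Matrix.toLin' (x : Matrix (Fin d ⊕ Fin d) (Fin d ⊕ Fin d) F)) = U ∧ W.map (Matrix.toLin' (x : Matrix (Fin d ⊕ Fin d) (Fin d ⊕ Fin d) F)) = W) ∨
         (U.map (Matrix.toLin' (x : Matrix (Fin d ⊕ Fin d) (Fin d ⊕ Fin d) F)) = W ∧ W.map (Matrix.toLin' (x : Matrix (Fin d ⊕ Fin d) (Fin d ⊕ Fin d) F)) = U))) := by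
  classical
  -- characteristic facts
  have h2F : (2 : F) ≠ 0 := by
    apply Ring.two_ne_zero
    intro h2
    have := FiniteField.even_card_iff_char_two.mp h2
    rcases hodd with ⟨t, ht⟩
    omega
  have hr0 : (r : F) ≠ 0 := by
    intro h0
    have := (CharP.cast_eq_zero_iff F p r).mp h0
    have := (Nat.prime_dvd_prime_iff_eq (Fact.out : p.Prime) hr.out).mp this
    exact hrp this.symm
  -- an irreducible factor of the cyclotomic polynomial
  have hcyc0 : cyclotomic r F ≠ 0 := cyclotomic_ne_zero r F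
  have hcycu : ¬ IsUnit (cyclotomic r F) := by
    intro hu
    have := natDegree_eq_zero_of_isUnit hu
    rw [natDegree_cyclotomic, Nat.totient_prime hr.out] at this
    have := hr.out.two_le
    omega
  obtain ⟨P, hPirr, hPd⟩ := WfDvdMonoid.exists_irreducible_factor hcycu hcyc0
  have hPf : Fact (Irreducible P) := ⟨hPirr⟩
  have hfd : FiniteDimensional F (AdjoinRoot P) := adjoinRoot_finiteDimensional P
  have hfr : finrank F (AdjoinRoot P) = 2 * j := by
    rw [adjoinRoot_finrank, cyclotomic_factor_degree p r hr.out hrp P hPirr hPd, hord]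
  obtain ⟨α, hα⟩ : ∃ α : AdjoinRoot P, α = AdjoinRoot.root P := ⟨_, rfl⟩
  have hαr : α ^ r = 1 := by rw [hα]; exact adjoinRoot_pow_eq_one P r hPd
  have hα1 : α ≠ 1 := by rw [hα]; exact adjoinRoot_ne_one P r hr0 hPd
  have hα0 : α ≠ 0 := by
    intro h0
    rw [h0, zero_pow hr.out.ne_zero] at hαr
    exact zero_ne_one hαr
  have hα2 : α * α ≠ 1 := by
    intro h
    apply hα1
    have h2 : α ^ 2 = 1 := by rw [pow_two]; exact h
    have h3 : α ^ Nat.gcd 2 r = 1 := pow_gcd_eq_one.mpr ⟨h2, hαr⟩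
    have hg : Nat.gcd 2 r = 1 := by
      rw [Nat.coprime_primes Nat.prime_two hr.out |>.mpr (Ne.symm hr2)]
    rwa [hg, pow_one] at h3
  have hσα : α * frobPow F (AdjoinRoot P) j α = 1 := by
    rw [frobPow_apply, ← pow_succ']
    obtain ⟨t, ht⟩ := hrj
    rw [ht, pow_mul, hαr, one_pow]
  have hσα' : frobPow F (AdjoinRoot P) j α = α⁻¹ := eq_inv_of_mul_eq_one_right hσα
  obtain ⟨θ, hθ⟩ : ∃ θ : AdjoinRoot P, θ = α - α⁻¹ := ⟨_, rfl⟩
  have hθ0 : θ ≠ 0 := by
    rw [hθ]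
    intro h
    apply hα2
    rw [sub_eq_zero] at h
    nth_rewrite 2 [h]
    exact mul_inv_cancel₀ hα0
  have hσθ : frobPow F (AdjoinRoot P) j θ = -θ := by
    rw [hθ, map_sub, map_inv₀, hσα', inv_inv]
    ring
  -- the data on `E`
  obtain ⟨BE, hBE⟩ : ∃ BE : AdjoinRoot P →ₗ[F] AdjoinRoot P →ₗ[F] F, BE = hermForm F j θ := ⟨_, rfl⟩
  obtain ⟨g, hg⟩ : ∃ g : AdjoinRoot P →ₗ[F] AdjoinRoot P, g = LinearMap.mulLeft F α := ⟨_, rfl⟩
  have hgapp : ∀ a, g a = α * a := by intro a; rw [hg, LinearMap.mulLeft_apply]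
  have haltE : ∀ a, BE a a = 0 := by
    intro a; rw [hBE]; exact hermForm_alt h2F j hfr θ hσθ a
  have hndE : ∀ a, (∀ b, BE a b = 0) → a = 0 := by
    intro a h; rw [hBE] at h; exact hermForm_nondeg j hfr θ hθ0 a h
  have hisoE : ∀ a b, BE (g a) (g b) = BE a b := by
    intro a b; rw [hgapp, hgapp, hBE]; exact hermForm_inv j θ α hσα a b
  have hgr : g ^ r = 1 := by
    apply LinearMap.ext
    intro a
    rw [hg, mulLeft_pow_apply, hαr, one_mul]
    rfl
  have hns : ∀ z : F, g ≠ z • LinearMap.id := by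
    intro z hz
    have h1 := LinearMap.congr_fun hz 1
    rw [hgapp, mul_one] at h1
    have h2 : α = algebraMap F (AdjoinRoot P) z := by
      rw [h1, Algebra.algebraMap_eq_smul_one]
      rfl
    apply hα2
    have h3 : frobPow F (AdjoinRoot P) j α = α := by
      rw [h2, AlgHom.commutes]
    rw [h3] at hσα
    exact hσα
  have hsurj : ∀ b, ∃ a, g a - a = b := by
    intro b
    have h1 : α - 1 ≠ 0 := sub_ne_zero.mpr hα1
    refine ⟨(α - 1)⁻¹ * b, ?_⟩
    rw [hgapp]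
    have : α * ((α - 1)⁻¹ * b) - (α - 1)⁻¹ * b = ((α - 1) * (α - 1)⁻¹) * b := by ring
    rw [this, mul_inv_cancel₀ h1, one_mul]
  have hirr : ∀ S : Submodule F (AdjoinRoot P), (∀ s ∈ S, g s ∈ S) → S = ⊥ ∨ S = ⊤ := by
    intro S hS
    apply adjoinRoot_invt P S
    intro s hs
    have := hS s hs
    rwa [hgapp, hα] at this
  have hnt : ∃ a b, BE a b ≠ 0 := by
    by_contra hcon
    push Not at hcon
    exact one_ne_zero (hndE 1 (hcon 1))
  -- the product model
  obtain ⟨m, hm⟩ : ∃ m, d = j + m := ⟨d - j, by omega⟩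
  obtain ⟨hiso, hxr, hns', hno⟩ := prod_model BE g hisoE r hgr hns hsurj hirr hnt m
  have hV : finrank F (AdjoinRoot P × (Fin m ⊕ Fin m → F)) = 2 * d := by
    rw [Module.finrank_prod, hfr, Module.finrank_pi, Fintype.card_sum, Fintype.card_fin, hm]
    ring
  exact derange_of_model (prodForm BE m) (prodForm_alt BE haltE m) (prodForm_nondeg BE hndE m) d
    (by omega) hV _ hiso r (hr.out.odd_of_ne_two hr2) hxr hns' hno

end final

end Cfsg.Agent.Lib.Helper15.PSpD
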