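import Mathlib
import Cfsg.Agent.Lib.Helper15.PDec2
import Cfsg.Agent.Lib.Helper15.PSub7

/-!
# Monomial bases for elements of order `r` when `ord_r(q) = r - 1`
-/

set_option autoImplicit false

namespace Cfsg.Agent.Lib.Helper15.PDec

open Module Submodule Polynomial Cfsg.Agent.Lib.Helper15.PSub

section lines

variable {F V : Type*} [Field F] [AddCommGroup V] [Module F V] [FiniteDimensional F V]

/-- a subspace of the fixed space is a sum of fixed lines. -/
theorem lines_of_fixed (y : V →ₗ[F] V) (C : Submodule F V)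
    (hC : C ≤ Module.End.eigenspace y 1) :
    PD y 1 C (1 : Equiv.Perm (Fin (finrank F C))) := by
  classical
  let b := Module.finBasis F C
  let v : Fin (finrank F C) → V := fun i => (b i : V)
  have hli : LinearIndependent F v :=
    b.linearIndependent.map' C.subtype (Submodule.ker_subtype C)
  have hspan : span F (Set.range v) = C := by
    have h1 : Set.range v = C.subtype '' Set.range b := by
      rw [← Set.range_comp]
      rfl
    rw [h1, ← Submodule.map_span, b.span_eq, Submodule.map_subtype_top]
  have h := PD.mono v hli (1 : Equiv.Perm (Fin (finrank F C))) (fun _ => 1)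
    (fun _ => one_ne_zero) y (by
      intro i
      have h1 := hC (b i).2
      rw [Module.End.mem_eigenspace_iff, one_smul] at h1
      rw [one_smul]
      exact h1)
  rw [hspan] at h
  exact h

end lines

section mono

variable {F V : Type*} [Field F] [Fintype F] [AddCommGroup V] [Module F V] [FiniteDimensional F V]

/-- **Claim C**: when `ord_r(q) = r - 1`, an element of order `r` with at least as many fixed
dimensions as blocks permutes the lines of a basis. -/
theorem mono_lines (p : ℕ) [Fact p.Prime] [CharP F p] (r : ℕ) [hr : Fact r.Prime] (hrp : r ≠ p)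
    (y : V →ₗ[F] V) (hy : y ^ r = 1)
    (hc : orderOf ((Fintype.card F : ℕ) : ZMod r) = r - 1) (s : ℕ) :
    ∀ (C B : Submodule F V), C ≤ Module.End.eigenspace y 1 → B ∈ Module.End.invtSubmodule y →
      B ⊓ Module.End.eigenspace y 1 = ⊥ → finrank F B = s * (r - 1) → s ≤ finrank F C →
      ∃ (κ : Type) (_ : Fintype κ) (σ : Equiv.Perm κ),
        Fintype.card κ = finrank F C + finrank F B ∧ PD y 1 (C ⊔ B) σ := by
  have hr0 : (r : F) ≠ 0 := ne_zero_of_ne p r hr.out hrp
  have hss : Module.End.IsSemisimple y :=
    isSemisimple_of_pow_eq_smul y r hr0 1 one_ne_zero (by rw [hy, one_smul])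
  have hr2 : 2 ≤ r := hr.out.two_le
  induction s with
  | zero =>
    intro C B hC _ _ hBdim _
    rw [zero_mul] at hBdim
    have hB0 : B = ⊥ := Submodule.finrank_eq_zero.mp hBdim
    subst hB0
    refine ⟨Fin (finrank F C), inferInstance, 1, ?_, ?_⟩
    · rw [Fintype.card_fin, finrank_bot, add_zero]
    · rw [sup_bot_eq]
      exact lines_of_fixed y C hC
  | succ s ih =>
    intro C B hC hB hBE hBdim hsC
    have hCB : Disjoint C B := by
      rw [disjoint_iff, eq_bot_iff, ← hBE, inf_comm]
      exact inf_le_inf_left _ hC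
    have hBne : B ≠ ⊥ := by
      intro h0
      rw [h0, finrank_bot] at hBdim
      have : 0 < (s + 1) * (r - 1) := Nat.mul_pos (Nat.succ_pos _) (by omega)
      omega
    have hCne : C ≠ ⊥ := by
      intro h0
      rw [h0, finrank_bot] at hsC
      omega
    obtain ⟨w, hwB, hw0⟩ := Submodule.exists_mem_ne_zero_of_ne_bot hBne
    have hkill := cyclotomic_kills y r hy B hB hBE
    obtain ⟨P, hP, hPd, b, hb0, hPb, hbmem⟩ := exists_irreducible_killer y (cyclotomic r F)
      (cyclotomic_ne_zero r F) w hw0 (hkill w hwB)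
    have hbB : b ∈ B := hbmem B hB hwB
    obtain ⟨B₁, hB₁inv, hbB₁, hB₁dim, hB₁min⟩ := exists_cyclic y P hP b hb0 hPb
    have hdeg : P.natDegree = r - 1 := by
      rw [cyclotomic_factor_degree p r hr.out hrp P hP hPd, hc]
    rw [hdeg] at hB₁dim
    have hB₁B : B₁ ≤ B := hB₁min B hB hbB
    obtain ⟨f, hfC, hf0⟩ := Submodule.exists_mem_ne_zero_of_ne_bot hCne
    have hyf : y f = f := by
      have h1 := hC hfC
      rw [Module.End.mem_eigenspace_iff, one_smul] at h1
      exact h1
    have hyif : ∀ i : ℕ, (y ^ i) f = f := by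
      intro i
      induction i with
      | zero => simp
      | succ i ihi => rw [pow_succ, Module.End.mul_apply, hyf, ihi]
    obtain ⟨r', rfl⟩ : ∃ r', r = r' + 1 := ⟨r - 1, by omega⟩
    set u : Fin (r' + 1) → V := fun i => (y ^ (i : ℕ)) (f + b) with hu
    have hui : ∀ i : Fin (r' + 1), u i = f + (y ^ (i : ℕ)) b := by
      intro i
      show (y ^ (i : ℕ)) (f + b) = f + (y ^ (i : ℕ)) b
      rw [map_add, hyif]
    have hfspan : span F {f} ≤ C := by
      rw [span_le, Set.singleton_subset_iff]
      exact hfC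
    have hyv : (y ^ (r' + 1)) (f + b) = (1 : F) • (f + b) := by rw [hy]; simp
    -- the span of the family
    have hle : span F (Set.range u) ≤ span F {f} ⊔ B₁ := by
      rw [span_le]
      rintro _ ⟨i, rfl⟩
      rw [hui]
      exact Submodule.add_mem _ (Submodule.mem_sup_left (Submodule.mem_span_singleton_self f))
        (Submodule.mem_sup_right (pow_mem_of_invt y hB₁inv _ hbB₁))
    have hspan_inv : span F (Set.range u) ∈ Module.End.invtSubmodule y := by
      rw [Module.End.mem_invtSubmodule_iff_map_le, Submodule.map_span, span_le]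
      rintro _ ⟨_, ⟨i, rfl⟩, rfl⟩
      by_cases h : (i : ℕ) = r'
      · have : y (u i) = u 0 := by
          show y ((y ^ (i : ℕ)) (f + b)) = (y ^ ((0 : Fin (r' + 1)) : ℕ)) (f + b)
          rw [h, ← Module.End.mul_apply, ← pow_succ', hy]
          simp
        rw [this]
        exact subset_span ⟨0, rfl⟩
      · have hlt : (i : ℕ) + 1 < r' + 1 := by have := i.2; omega
        have : y (u i) = u ⟨(i : ℕ) + 1, hlt⟩ := by
          show y ((y ^ (i : ℕ)) (f + b)) = (y ^ ((i : ℕ) + 1)) (f + b)
          rw [← Module.End.mul_apply, ← pow_succ']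
        rw [this]
        exact subset_span ⟨_, rfl⟩
    have hsum : ∑ i : Fin (r' + 1), u i = ((r' + 1 : ℕ) : F) • f := by
      have h1 : ∑ i : Fin (r' + 1), u i = ∑ i ∈ Finset.range (r' + 1), (y ^ i) (f + b) := by
        rw [Finset.sum_range]
      have h2 : ∑ i ∈ Finset.range (r' + 1), (y ^ i) b = 0 := by
        have h3 := hkill b hbB
        rw [cyclotomic_prime, map_sum, LinearMap.sum_apply] at h3
        simpa using h3
      rw [h1]
      simp only [map_add, hyif, Finset.sum_add_distrib, h2, add_zero, Finset.sum_const,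
        Finset.card_range]
      rw [Nat.cast_smul_eq_nsmul]
    have hf_mem : f ∈ span F (Set.range u) := by
      have h1 : ∑ i : Fin (r' + 1), u i ∈ span F (Set.range u) :=
        Submodule.sum_mem _ (fun i _ => subset_span ⟨i, rfl⟩)
      rw [hsum] at h1
      have h2 := Submodule.smul_mem _ (((r' + 1 : ℕ) : F))⁻¹ h1
      rwa [inv_smul_smul₀ hr0] at h2
    have hb_mem : b ∈ span F (Set.range u) := by
      have h1 : u 0 ∈ span F (Set.range u) := subset_span ⟨0, rfl⟩
      have h2 : b = u 0 - f := by
        rw [hui]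
        simp
      rw [h2]
      exact Submodule.sub_mem _ h1 hf_mem
    have hspan_eq : span F (Set.range u) = span F {f} ⊔ B₁ := by
      apply le_antisymm hle
      apply sup_le
      · rw [span_le, Set.singleton_subset_iff]
        exact hf_mem
      · exact hB₁min _ hspan_inv hb_mem
    have hd₁ : Disjoint (span F {f}) B₁ := hCB.mono hfspan hB₁B
    have hZdim : finrank F ↥(span F {f} ⊔ B₁) = r' + 1 := by
      rw [finrank_sup_of_disjoint hd₁, finrank_span_singleton hf0, hB₁dim]
      omega
    have hli : LinearIndependent F u := by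
      rw [linearIndependent_iff_card_eq_finrank_span, Fintype.card_fin, Set.finrank, hspan_eq,
        hZdim]
    have hP₁ := PD.cyc y r' 1 one_ne_zero (f + b) hyv hli
    -- complements
    obtain ⟨B', hB'B, hB'inv, hBinf, hBsup, hBdim'⟩ := exists_compl_in y hss B B₁ hB hB₁inv hB₁B
    obtain ⟨C', hC'C, hC'inv, hCinf, hCsup, hCdim'⟩ := exists_compl_in y hss C (span F {f})
      (eigenspace_one_invt y C hC) (eigenspace_one_invt y _ (hfspan.trans hC)) hfspan
    rw [finrank_span_singleton hf0] at hCdim'
    have hB'E : B' ⊓ Module.End.eigenspace y 1 = ⊥ := by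
      rw [eq_bot_iff, ← hBE]
      exact inf_le_inf_right _ hB'B
    have hB'dim : finrank F B' = s * (r' + 1 - 1) := by
      have : (s + 1) * (r' + 1 - 1) = s * (r' + 1 - 1) + (r' + 1 - 1) := by ring
      omega
    obtain ⟨κ, hκ, σ, hcard, hP₂⟩ := ih C' B' (hC'C.trans hC) hB'inv hB'E hB'dim (by omega)
    have hdisj : Disjoint (span F {f} ⊔ B₁) (C' ⊔ B') :=
      disjoint_sup_sup_of hCB hfspan hC'C hB₁B hB'B (disjoint_iff.mpr hCinf)
        (disjoint_iff.mpr hBinf)
    rw [hspan_eq] at hP₁
    have hser := PD.series hP₁ hP₂ hdisj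
    refine ⟨Fin (r' + 1) ⊕ κ, inferInstance, _, ?_, PD.congr hser rfl ?_⟩
    · rw [Fintype.card_sum, Fintype.card_fin, hcard]
      omega
    · rw [sup_sup_sup_comm, hCsup, hBsup]

end mono

end Cfsg.Agent.Lib.Helper15.PDec
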