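import Mathlib
import Cfsg.Agent.Lib.Helper15.PDec3

/-!
# Sufficiency: elements of odd prime order stabilising equidimensional decompositions
-/

set_option autoImplicit false

namespace Cfsg.Agent.Lib.Helper15.PDec

open Module Submodule Polynomial Cfsg.Agent.Lib.Helper15.PSub

theorem lines_arith (n d s c k : ℕ) (hc : 0 < c) (hn : n = d + s * c) (hk : k = n % c)
    (hle : n ≤ k * (c + 1)) : s ≤ d := by
  have h1 := Nat.div_add_mod n c
  have h2 : n % c = d % c := by rw [hn, Nat.add_mul_mod_self_right]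
  have h3 : d % c ≤ d := Nat.mod_le d c
  have h4 : s ≤ n / c := by
    rw [Nat.le_div_iff_mul_le hc, hn]
    omega
  have h5 : n / c ≤ k := by
    apply Nat.le_of_mul_le_mul_left _ hc
    have : k * (c + 1) = c * k + k := by ring
    omega
  omega

section good

variable {F V : Type*} [Field F] [Fintype F] [AddCommGroup V] [Module F V] [FiniteDimensional F V]

/-- **Sufficiency.** -/
theorem good_dec (p : ℕ) [Fact p.Prime] [CharP F p] (r : ℕ) [hr : Fact r.Prime] (hrp : r ≠ p)
    (x : V →ₗ[F] V) (hdet : LinearMap.det x = 1) (z : F)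
    (hx : x ^ r = z • (1 : V →ₗ[F] V)) (a t : ℕ) (hdim : finrank F V = a * t)
    (hn : finrank F V ≠ 0)
    (hcond : (a = 1 ∧ 1 < orderOf ((Fintype.card F : ℕ) : ZMod r) ∧
        orderOf ((Fintype.card F : ℕ) : ZMod r) = r - 1 ∧
        finrank F V ≤ (finrank F V % orderOf ((Fintype.card F : ℕ) : ZMod r)) * r) ∨
      (orderOf ((Fintype.card F : ℕ) : ZMod r) ≤ a ∧
        finrank F V % orderOf ((Fintype.card F : ℕ) : ZMod r) =
          t * (a % orderOf ((Fintype.card F : ℕ) : ZMod r)))) :
    ∃ (κ : Type) (_ : Fintype κ) (σ : Equiv.Perm κ), Fintype.card κ = t ∧ PD x a ⊤ σ := by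
  set c := orderOf ((Fintype.card F : ℕ) : ZMod r) with hcdef
  have hz0 : z ≠ 0 := smul_ne_zero_of_pow x hdet r z hx hn
  have hr0 : (r : F) ≠ 0 := ne_zero_of_ne p r hr.out hrp
  have hq1 : 1 ≤ Fintype.card F := Fintype.card_pos
  have hcpos : 0 < c := orderOf_pos_of_ne p r hrp
  have hr2 : 2 ≤ r := hr.out.two_le
  by_cases hpow : ∃ μ : F, μ ^ r = z
  · obtain ⟨μ, rfl⟩ := hpow
    have hμ : μ ≠ 0 := by
      rintro rfl
      rw [zero_pow hr.out.ne_zero] at hz0
      exact hz0 rfl
    have hy := scale_pow x r μ hμ hx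
    set y := μ⁻¹ • x with hydef
    have hxy : x = μ • y := by rw [hydef, smul_smul, mul_inv_cancel₀ hμ, one_smul]
    have hss : Module.End.IsSemisimple y :=
      isSemisimple_of_pow_eq_smul y r hr0 1 one_ne_zero (by rw [hy, one_smul])
    have hinj : Function.Injective y :=
      injective_of_pow_eq_smul y r 1 one_ne_zero (by rw [hy, one_smul]) hr.out.ne_zero
    have hE : Module.End.eigenspace y 1 ∈ Module.End.invtSubmodule y :=
      eigenspace_one_invt y _ le_rfl
    obtain ⟨B, _, hBinv, hEB, hsup, hdimB⟩ := exists_compl_in y hss ⊤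
      (Module.End.eigenspace y 1) (Module.End.invtSubmodule.top_mem y) hE le_top
    rw [finrank_top] at hdimB
    have hBE : B ⊓ Module.End.eigenspace y 1 = ⊥ := by rw [inf_comm]; exact hEB
    have hkill := cyclotomic_kills y r hy B hBinv hBE
    have hQ : ∀ P : F[X], Irreducible P → P ∣ cyclotomic r F → P.natDegree = c :=
      fun P hP hPd => cyclotomic_factor_degree p r hr.out hrp P hP hPd
    obtain ⟨s, hs⟩ := dvd_finrank_of_killed y hss (cyclotomic r F) (cyclotomic_ne_zero r F) c hQ
      B hBinv hkill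
    rw [mul_comm] at hs
    suffices h : ∃ (κ : Type) (_ : Fintype κ) (σ : Equiv.Perm κ), Fintype.card κ = t ∧
        PD y a ⊤ σ by
      obtain ⟨κ, hκ, σ, hcard, hP⟩ := h
      refine ⟨κ, hκ, σ, hcard, ?_⟩
      rw [hxy]
      exact hP.smul μ hμ
    rcases hcond with ⟨ha1, hc1, hcr, hle⟩ | ⟨hca, hmod⟩
    · have hsd : s ≤ finrank F (Module.End.eigenspace y 1) := by
        apply lines_arith (finrank F V) _ s c _ hcpos (by rw [hdimB, hs]) rfl
        have : c + 1 = r := by omega
        rw [this]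
        exact hle
      obtain ⟨κ, hκ, σ, hcard, hP⟩ := mono_lines p r hrp y hy hcr s
        (Module.End.eigenspace y 1) B le_rfl hBinv hBE (by rw [hs, hcr]) hsd
      refine ⟨κ, hκ, σ, ?_, ?_⟩
      · rw [hcard, ← hdimB, hdim, ha1, one_mul]
      · rw [hsup] at hP
        exact PD.congr hP ha1.symm rfl
    · obtain ⟨κ, hκ, σ, hcard, hP⟩ := peel_id y hss hinj (cyclotomic r F) (cyclotomic_ne_zero r F)
        c hcpos hQ a t (Module.End.eigenspace y 1) B (fun U hU => eigenspace_one_invt y U hU)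
        hBinv hkill (disjoint_iff.mpr hEB) (by rw [← hdimB, hdim])
        (by
          rw [← hmod, hdimB, hs, Nat.add_mul_mod_self_right]
          exact Nat.mod_le _ _)
      refine ⟨κ, hκ, σ, hcard, ?_⟩
      rw [hsup] at hP
      exact hP
  · have hpow' : ∀ b : F, b ^ r ≠ z := fun b hb => hpow ⟨b, hb⟩
    have hrq : r ∣ Fintype.card F - 1 := by
      by_contra hrq
      obtain ⟨b, -, hb⟩ := exists_pow_eq_of_not_dvd r hr.out hrq z hz0
      exact hpow' b hb
    have hc1 : c = 1 := (orderOf_zmod_eq_one_iff _ r hq1).mpr hrq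
    have hss : Module.End.IsSemisimple x := isSemisimple_of_pow_eq_smul x r hr0 z hz0 hx
    have hinj : Function.Injective x := injective_of_pow_eq_smul x r z hz0 hx hr.out.ne_zero
    have hirr : Irreducible (X ^ r - C z : F[X]) := X_pow_sub_C_irreducible_of_prime hr.out hpow'
    obtain ⟨hrn, -⟩ := det_of_not_pow r hr.out z hpow' x hx
    rw [hdim] at hrn
    rcases (Nat.Prime.dvd_mul hr.out).mp hrn with hra | hrt
    · -- `r ∣ a`
      obtain ⟨κ, hκ, σ, hcard, hP⟩ := peel_id x hss hinj (X ^ r - C z) hirr.ne_zero r hr.out.pos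
        (irr_factor_degree r hr.out z hpow') a t ⊥ ⊤
        (fun U hU => by
          rw [le_bot_iff.mp hU]
          exact Module.End.invtSubmodule.bot_mem x)
        (Module.End.invtSubmodule.top_mem x)
        (fun w _ => by rw [aeval_X_pow_sub_C x r z hx, LinearMap.zero_apply])
        disjoint_bot_left (by rw [finrank_bot, zero_add, finrank_top, hdim])
        (by rw [Nat.mod_eq_zero_of_dvd hra, mul_zero]; exact Nat.zero_le _)
      refine ⟨κ, hκ, σ, hcard, ?_⟩
      rw [bot_sup_eq] at hP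
      exact hP
    · -- `r ∣ t`
      obtain ⟨t', rfl⟩ := hrt
      obtain ⟨r', rfl⟩ : ∃ r', r = r' + 1 := ⟨r - 1, by omega⟩
      exact cyc_blocks x hss r' z hz0 hx hirr a t' ⊤ (Module.End.invtSubmodule.top_mem x)
        (by rw [finrank_top, hdim]; ring)

end good

end Cfsg.Agent.Lib.Helper15.PDec
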