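import Mathlib
import Cfsg.Agent.Lib.Helper15.PSub1

/-!
# Counting flags and complementary pairs
-/

set_option autoImplicit false

namespace Cfsg.Agent.Lib.Helper15.PSub

open Module

section flags

variable {F V : Type*} [Field F] [Fintype F] [AddCommGroup V] [Module F V]
  [FiniteDimensional F V]

theorem finite_submodule : Finite (Submodule F V) := by
  have : Finite V := Module.finite_of_finite F
  exact Finite.of_injective (fun W => (W : Set V)) SetLike.coe_injective

theorem card_sub_le (W : Submodule F V) (m : ℕ) :
    Nat.card {U : Submodule F V // U ≤ W ∧ finrank F U = m} =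
      Nat.card {U' : Submodule F W // finrank F U' = m} := by
  symm
  apply Nat.card_congr
  refine ((Submodule.MapSubtype.orderIso W).toEquiv.subtypeEquiv
    (q := fun x => finrank F x.1 = m) ?_).trans ?_
  · intro U'
    show finrank F U' = m ↔ finrank F (U'.map W.subtype) = m
    rw [Submodule.finrank_map_subtype_eq]
  · exact Equiv.subtypeSubtypeEquivSubtypeInter (fun p' : Submodule F V => p' ≤ W)
      (fun p' : Submodule F V => finrank F p' = m)

/-- the number of flags `U ≤ W` with `dim U = m`, `dim W = k`. -/
theorem card_flags (m k : ℕ) (hk : k ≤ finrank F V) (hmk : m ≤ k) :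
    Nat.card {P : Submodule F V × Submodule F V //
        P.1 ≤ P.2 ∧ finrank F P.1 = m ∧ finrank F P.2 = k} =
      gauss (Fintype.card F) (finrank F V) k * gauss (Fintype.card F) k m := by
  classical
  have := finite_submodule (F := F) (V := V)
  have : Fintype {W : Submodule F V // finrank F W = k} := Fintype.ofFinite _
  let e : {P : Submodule F V × Submodule F V //
        P.1 ≤ P.2 ∧ finrank F P.1 = m ∧ finrank F P.2 = k} ≃
      Σ W : {W : Submodule F V // finrank F W = k},
        {U : Submodule F V // U ≤ W.1 ∧ finrank F U = m} :=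
    { toFun := fun P => ⟨⟨P.1.2, P.2.2.2⟩, ⟨P.1.1, P.2.1, P.2.2.1⟩⟩
      invFun := fun x => ⟨(x.2.1, x.1.1), x.2.2.1, x.2.2.2, x.1.2⟩
      left_inv := fun P => rfl
      right_inv := fun x => rfl }
  rw [Nat.card_congr e, Nat.card_sigma]
  have h2 : ∀ W : {W : Submodule F V // finrank F W = k},
      Nat.card {U : Submodule F V // U ≤ W.1 ∧ finrank F U = m} =
        gauss (Fintype.card F) k m := by
    intro W
    rw [card_sub_le, card_subspaces_eq_gauss m (by rw [W.2]; exact hmk), W.2]
  rw [Finset.sum_congr rfl (fun W _ => h2 W), Finset.sum_const, smul_eq_mul, Finset.card_univ,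
    ← Nat.card_eq_fintype_card, card_subspaces_eq_gauss k hk]

/-- the number of complements of `U`. -/
theorem card_compl (U : Submodule F V) :
    Nat.card {W : Submodule F V // IsCompl U W} =
      Fintype.card F ^ ((finrank F V - finrank F U) * finrank F U) := by
  obtain ⟨W₀, h⟩ := Submodule.exists_isCompl U
  let e : {f : V →ₗ[F] U // ∀ x : U, f x = x} ≃ (W₀ →ₗ[F] U) :=
    { toFun := fun f => f.1.comp W₀.subtype
      invFun := fun g => ⟨LinearMap.ofIsCompl h LinearMap.id g, fun x => by
        rw [LinearMap.ofIsCompl_apply_left]; rfl⟩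
      left_inv := fun f => by
        apply Subtype.ext
        apply LinearMap.ofIsCompl_eq
        · intro u
          exact (f.2 u).symm
        · intro u
          rfl
      right_inv := fun g => by
        ext w
        simp }
  rw [Nat.card_congr (Submodule.isComplEquivProj U), Nat.card_congr e,
    Module.natCard_eq_pow_finrank (K := F), Module.finrank_linearMap, Nat.card_eq_fintype_card]
  congr 2
  have := Submodule.finrank_add_eq_of_isCompl h
  omega

/-- the number of complementary pairs `(U, W)` with `dim U = m`. -/
theorem card_pairs (m : ℕ) (hm : m ≤ finrank F V) :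
    Nat.card {P : Submodule F V × Submodule F V // IsCompl P.1 P.2 ∧ finrank F P.1 = m} =
      gauss (Fintype.card F) (finrank F V) m *
        Fintype.card F ^ ((finrank F V - m) * m) := by
  classical
  have := finite_submodule (F := F) (V := V)
  have : Fintype {U : Submodule F V // finrank F U = m} := Fintype.ofFinite _
  let e : {P : Submodule F V × Submodule F V // IsCompl P.1 P.2 ∧ finrank F P.1 = m} ≃
      Σ U : {U : Submodule F V // finrank F U = m}, {W : Submodule F V // IsCompl U.1 W} :=
    { toFun := fun P => ⟨⟨P.1.1, P.2.2⟩, ⟨P.1.2, P.2.1⟩⟩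
      invFun := fun x => ⟨(x.1.1, x.2.1), x.2.2, x.1.2⟩
      left_inv := fun P => rfl
      right_inv := fun x => rfl }
  rw [Nat.card_congr e, Nat.card_sigma]
  have h2 : ∀ U : {U : Submodule F V // finrank F U = m},
      Nat.card {W : Submodule F V // IsCompl U.1 W} =
        Fintype.card F ^ ((finrank F V - m) * m) := by
    intro U
    rw [card_compl, U.2]
  rw [Finset.sum_congr rfl (fun U _ => h2 U), Finset.sum_const, smul_eq_mul, Finset.card_univ,
    ← Nat.card_eq_fintype_card, card_subspaces_eq_gauss m hm]

end flags

section gauss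

variable (F : Type*) [Field F] [Fintype F]

/-- `gauss q n m` as the number of `m`-subspaces of `F^n`. -/
theorem gauss_eq_card (n m : ℕ) (hm : m ≤ n) :
    gauss (Fintype.card F) n m =
      Nat.card {W : Submodule F (Fin n → F) // finrank F W = m} := by
  rw [card_subspaces_eq_gauss m (by rw [Module.finrank_fin_fun]; exact hm),
    Module.finrank_fin_fun]

theorem not_dvd_gauss (p : ℕ) [Fact p.Prime] [CharP F p] (n m : ℕ) (hm : m ≤ n) :
    ¬ p ∣ gauss (Fintype.card F) n m := by
  rw [gauss_eq_card F n m hm]
  exact not_dvd_card_subspaces p m (by rw [Module.finrank_fin_fun]; exact hm)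

theorem dvd_gauss (r : ℕ) (hr : r.Prime) (n m : ℕ) (hm : m ≤ n)
    (h : r ∣ gauss (Fintype.card F) n m) :
    ∃ t, n - m < t ∧ t ≤ n ∧ r ∣ Fintype.card F ^ t - 1 := by
  rw [gauss_eq_card F n m hm] at h
  have := dvd_card_subspaces r hr m (by rw [Module.finrank_fin_fun]; exact hm) h
  rwa [Module.finrank_fin_fun] at this

end gauss

end Cfsg.Agent.Lib.Helper15.PSub
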