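import Mathlib
import Cfsg.Prelude.Def_GeometricClasses
import Cfsg.Agent.Lib.Helper15.PSub9
import Cfsg.Agent.Lib.Helper15.PSub6

/-!
# Counting ordered equidimensional decompositions
-/

set_option autoImplicit false
set_option warn.classDefReducibility false

namespace Cfsg.Agent.Lib.Helper15.PDec

open Module Submodule Cfsg.Agent.Lib.Helper15.PSub

section count

variable {F : Type*} [Field F] {n : ℕ}

theorem isMDec_perm {t a : ℕ} {D : Fin t → Submodule F (Fin n → F)}
    (h : Cfsg.Geo.IsMDecomposition a D) (σ : Equiv.Perm (Fin t)) :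
    Cfsg.Geo.IsMDecomposition a (D ∘ σ) := by
  refine ⟨h.two_le, h.pos, fun i => h.finrank_eq _, h.indep.comp σ.injective, ?_⟩
  rw [← h.iSup_eq_top]
  exact σ.iSup_comp (g := D)

theorem isMDec_map {t a : ℕ} {D : Fin t → Submodule F (Fin n → F)}
    (h : Cfsg.Geo.IsMDecomposition a D) (g : (Fin n → F) ≃ₗ[F] (Fin n → F)) :
    Cfsg.Geo.IsMDecomposition a (fun j => (D j).map (g : (Fin n → F) →ₗ[F] (Fin n → F))) := by
  refine ⟨h.two_le, h.pos, fun i => ?_, ?_, ?_⟩
  · rw [LinearEquiv.finrank_map_eq, h.finrank_eq]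
  · exact h.indep.map_orderIso (Submodule.orderIsoMapComap g)
  · show (⨆ j, (D j).map (g : (Fin n → F) →ₗ[F] (Fin n → F))) = ⊤
    rw [← Submodule.map_iSup, h.iSup_eq_top, Submodule.map_top, LinearEquiv.range]

theorem isMDec_injective {t a : ℕ} {D : Fin t → Submodule F (Fin n → F)}
    (h : Cfsg.Geo.IsMDecomposition a D) : Function.Injective D := by
  apply h.indep.injective
  intro i h0
  have h1 := h.finrank_eq i
  rw [h0, finrank_bot] at h1
  have := h.pos
  omega

/-- the action of `S_t` on ordered decompositions -/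
noncomputable def permAction (t a : ℕ) : MulAction (Equiv.Perm (Fin t))
    {D : Fin t → Submodule F (Fin n → F) // Cfsg.Geo.IsMDecomposition a D} where
  smul σ D := ⟨D.1 ∘ σ.symm, isMDec_perm D.2 σ.symm⟩
  one_smul _ := Subtype.ext rfl
  mul_smul _ _ _ := Subtype.ext rfl

/-- the action of `GL(V)` on ordered decompositions -/
noncomputable def glAction (t a : ℕ) : MulAction ((Fin n → F) ≃ₗ[F] (Fin n → F))
    {D : Fin t → Submodule F (Fin n → F) // Cfsg.Geo.IsMDecomposition a D} where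
  smul g D := ⟨fun j => (D.1 j).map (g : (Fin n → F) →ₗ[F] (Fin n → F)), isMDec_map D.2 g⟩
  one_smul D := Subtype.ext (funext fun j => Submodule.map_id _)
  mul_smul g h D := Subtype.ext (funext fun j => by
    show (D.1 j).map ((g * h : (Fin n → F) ≃ₗ[F] (Fin n → F)) : (Fin n → F) →ₗ[F] (Fin n → F)) =
      ((D.1 j).map (h : (Fin n → F) →ₗ[F] (Fin n → F))).map
        (g : (Fin n → F) →ₗ[F] (Fin n → F))
    rw [← Submodule.map_comp]
    rfl)

theorem factorial_dvd_card [Finite F] (t a : ℕ) :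
    t.factorial ∣
      Nat.card {D : Fin t → Submodule F (Fin n → F) // Cfsg.Geo.IsMDecomposition a D} := by
  classical
  let _ := permAction (F := F) (n := n) t a
  have hfree : ∀ D : {D : Fin t → Submodule F (Fin n → F) // Cfsg.Geo.IsMDecomposition a D},
      MulAction.stabilizer (Equiv.Perm (Fin t)) D = ⊥ := by
    intro D
    rw [eq_bot_iff]
    intro σ hσ
    rw [MulAction.mem_stabilizer_iff] at hσ
    rw [Subgroup.mem_bot]
    have h1 : D.1 ∘ σ.symm = D.1 := congrArg Subtype.val hσ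
    have hinj := isMDec_injective D.2
    have h2 : ∀ j, σ.symm j = j := fun j => hinj (congrFun h1 j)
    ext j
    have := h2 (σ j)
    rw [Equiv.symm_apply_apply] at this
    rw [Equiv.Perm.one_apply, ← this]
  have e := MulAction.selfEquivOrbitsQuotientProd hfree
  rw [Nat.card_congr e, Nat.card_prod, Nat.card_perm, Nat.card_eq_fintype_card (α := Fin t),
    Fintype.card_fin]
  exact Dvd.intro_left _ rfl

theorem exists_map_eq {t a : ℕ} {D D' : Fin t → Submodule F (Fin n → F)}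
    (h : Cfsg.Geo.IsMDecomposition a D) (h' : Cfsg.Geo.IsMDecomposition a D') :
    ∃ g : (Fin n → F) ≃ₗ[F] (Fin n → F),
      ∀ j, (D j).map (g : (Fin n → F) →ₗ[F] (Fin n → F)) = D' j := by
  classical
  let e := h.indep.linearEquiv h.iSup_eq_top
  let e' := h'.indep.linearEquiv h'.iSup_eq_top
  let ψ : ∀ i, D i ≃ₗ[F] D' i := fun i =>
    LinearEquiv.ofFinrankEq (D i) (D' i) (by rw [h.finrank_eq, h'.finrank_eq])
  let φ : (Π₀ i, D i) ≃ₗ[F] (Π₀ i, D' i) := DFinsupp.mapRange.linearEquiv ψ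
  refine ⟨e.symm ≪≫ₗ φ ≪≫ₗ e', fun j => ?_⟩
  have hle : (D j).map ((e.symm ≪≫ₗ φ ≪≫ₗ e' : (Fin n → F) ≃ₗ[F] (Fin n → F)) :
      (Fin n → F) →ₗ[F] (Fin n → F)) ≤ D' j := by
    rintro _ ⟨x, hx, rfl⟩
    have h1 : e.symm x = DFinsupp.single j ⟨x, hx⟩ :=
      h.indep.linearEquiv_symm_apply h.iSup_eq_top hx
    show e' (φ (e.symm x)) ∈ D' j
    rw [h1]
    have h2 : φ (DFinsupp.single j ⟨x, hx⟩) = DFinsupp.single j (ψ j ⟨x, hx⟩) :=
      DFinsupp.mapRange_single (hf := fun i => (ψ i).map_zero)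
    rw [h2]
    show (h'.indep.linearEquiv h'.iSup_eq_top) _ ∈ D' j
    rw [iSupIndep.linearEquiv_apply, DFinsupp.sumAddHom_single]
    exact Subtype.property _
  apply Submodule.eq_of_le_of_finrank_eq hle
  rw [LinearEquiv.finrank_map_eq, h.finrank_eq, h'.finrank_eq]

theorem card_dvd_card_GL [Fintype F] (t a : ℕ)
    (D₀ : {D : Fin t → Submodule F (Fin n → F) // Cfsg.Geo.IsMDecomposition a D}) :
    Nat.card {D : Fin t → Submodule F (Fin n → F) // Cfsg.Geo.IsMDecomposition a D} ∣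
      Nat.card (GL (Fin n) F) := by
  classical
  have : Finite (Submodule F (Fin n → F)) := finite_submodule
  let _ := glAction (F := F) (n := n) t a
  have horb : MulAction.orbit ((Fin n → F) ≃ₗ[F] (Fin n → F)) D₀ = Set.univ := by
    rw [Set.eq_univ_iff_forall]
    intro D
    obtain ⟨g, hg⟩ := exists_map_eq D₀.2 D.2
    exact ⟨g, Subtype.ext (funext hg)⟩
  have e := MulAction.orbitProdStabilizerEquivGroup ((Fin n → F) ≃ₗ[F] (Fin n → F)) D₀
  have hcard : Nat.card ((Fin n → F) ≃ₗ[F] (Fin n → F)) = Nat.card (GL (Fin n) F) := by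
    apply Nat.card_congr
    exact ((Matrix.GeneralLinearGroup.toLin (n := Fin n) (R := F)).trans
      (LinearMap.GeneralLinearGroup.generalLinearEquiv F (Fin n → F))).symm.toEquiv
  rw [← hcard, ← Nat.card_congr e, Nat.card_prod, horb, Nat.card_congr (Equiv.Set.univ _)]
  exact Dvd.intro _ rfl

theorem ord_le_of_dvd_card_GL [Fintype F] (p : ℕ) [hp : Fact p.Prime] [CharP F p] (r : ℕ)
    (hr : r.Prime) (hrp : r ≠ p) (h : r ∣ Nat.card (GL (Fin n) F)) :
    orderOf ((Fintype.card F : ℕ) : ZMod r) ≤ n := by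
  rw [Matrix.card_GL_field] at h
  obtain ⟨i, -, hi⟩ := (Nat.Prime.prime hr).exists_mem_finset_dvd h
  have hq1 : 1 ≤ Fintype.card F := Fintype.card_pos
  have hin : (i : ℕ) < n := i.2
  have hsplit : Fintype.card F ^ n - Fintype.card F ^ (i : ℕ) =
      Fintype.card F ^ (i : ℕ) * (Fintype.card F ^ (n - (i : ℕ)) - 1) := by
    rw [Nat.mul_sub, mul_one, ← pow_add]
    congr 2
    omega
  rw [hsplit] at hi
  have hnq : ¬ r ∣ Fintype.card F ^ (i : ℕ) := by
    intro hd
    have h1 := hr.dvd_of_dvd_pow hd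
    obtain ⟨⟨f, _⟩, -, hf⟩ := FiniteField.card F p
    rw [hf] at h1
    have h2 := hr.dvd_of_dvd_pow h1
    exact hrp ((Nat.prime_dvd_prime_iff_eq hr hp.out).mp h2)
  have h3 : r ∣ Fintype.card F ^ (n - (i : ℕ)) - 1 :=
    ((Nat.Prime.dvd_mul hr).mp hi).resolve_left hnq
  have h4 := (orderOf_zmod_dvd_iff (Fintype.card F) r (n - (i : ℕ)) hq1).mpr h3
  have h5 := Nat.le_of_dvd (by omega) h4
  omega

/-- If `r` divides the number of unordered decompositions then `ord_r(q) ≤ n`. -/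
theorem ord_le_of_dvd [Fintype F] (p : ℕ) [hp : Fact p.Prime] [CharP F p] (r : ℕ)
    (hr : r.Prime) (hrp : r ≠ p) (t a : ℕ)
    (D₀ : {D : Fin t → Submodule F (Fin n → F) // Cfsg.Geo.IsMDecomposition a D})
    (h : r ∣ Nat.card {D : Fin t → Submodule F (Fin n → F) // Cfsg.Geo.IsMDecomposition a D} /
      Nat.factorial t) :
    orderOf ((Fintype.card F : ℕ) : ZMod r) ≤ n := by
  apply ord_le_of_dvd_card_GL p r hr hrp
  refine Dvd.dvd.trans ?_ (card_dvd_card_GL t a D₀)
  have : Finite F := Finite.of_fintype F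
  exact h.trans (Nat.div_dvd_of_dvd (factorial_dvd_card t a))

end count

end Cfsg.Agent.Lib.Helper15.PDec
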