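import Mathlib
import Cfsg.Agent.Lib.Helper15.PDec2

/-!
# Necessity tools: a decomposition permuted by an element of prime order `r`
-/

set_option autoImplicit false

namespace Cfsg.Agent.Lib.Helper15.PDec

open Module Submodule Cfsg.Agent.Lib.Helper15.PSub

section perm

variable {F V : Type*} [Field F] [AddCommGroup V] [Module F V] {t : ℕ}

theorem map_pow_D (L : V →ₗ[F] V) (D : Fin t → Submodule F V) (σ : Equiv.Perm (Fin t))
    (hσ : ∀ j, (D j).map L = D (σ j)) (k : ℕ) (j : Fin t) :
    (D j).map (L ^ k) = D ((σ ^ k) j) := by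
  induction k with
  | zero =>
    rw [pow_zero, pow_zero, Module.End.one_eq_id, Submodule.map_id, Equiv.Perm.one_apply]
  | succ k ih =>
    rw [pow_succ', Module.End.mul_eq_comp, Submodule.map_comp, ih, hσ, pow_succ',
      Equiv.Perm.mul_apply]

theorem pow_apply_mem_D (L : V →ₗ[F] V) (D : Fin t → Submodule F V) (σ : Equiv.Perm (Fin t))
    (hσ : ∀ j, (D j).map L = D (σ j)) (k : ℕ) (j : Fin t) {v : V} (hv : v ∈ D j) :
    (L ^ k) v ∈ D ((σ ^ k) j) := by
  rw [← map_pow_D L D σ hσ k j]
  exact Submodule.mem_map_of_mem hv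

/-- No power `σ^i`, `0 < i < r`, fixes `j` when `σ^r` does and `σ` does not. -/
theorem pow_apply_ne {r : ℕ} (hr : r.Prime) (σ : Equiv.Perm (Fin t)) (j : Fin t)
    (hrj : (σ ^ r) j = j) (hj : σ j ≠ j) {i : ℕ} (hi0 : 0 < i) (hir : i < r) :
    (σ ^ i) j ≠ j := by
  intro h
  have h1 : Function.IsPeriodicPt σ r j := by
    show σ^[r] j = j
    rw [← Equiv.Perm.coe_pow]
    exact hrj
  have h2 : Function.IsPeriodicPt σ i j := by
    show σ^[i] j = j
    rw [← Equiv.Perm.coe_pow]
    exact h
  have h3 := h1.gcd h2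
  have hcop : Nat.gcd r i = 1 := by
    rw [← Nat.coprime_iff_gcd_eq_one, Nat.Prime.coprime_iff_not_dvd hr]
    intro hd
    exact absurd (Nat.le_of_dvd hi0 hd) (by omega)
  rw [hcop] at h3
  exact hj h3

/-- distinctness of the first `r` members of a nontrivial orbit -/
theorem pow_apply_injOn {r : ℕ} (hr : r.Prime) (σ : Equiv.Perm (Fin t)) (j : Fin t)
    (hrj : (σ ^ r) j = j) (hj : σ j ≠ j) :
    Set.InjOn (fun i : ℕ => (σ ^ i) j) (Finset.range r : Set ℕ) := by
  have key : ∀ i i' : ℕ, i < i' → i' < r → (σ ^ i) j ≠ (σ ^ i') j := by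
    intro i i' hii hi' h
    have h1 : (σ ^ (i' - i)) j = j := by
      have h2 : σ ^ i' = σ ^ i * σ ^ (i' - i) := by rw [← pow_add]; congr 1; omega
      rw [h2, Equiv.Perm.mul_apply] at h
      exact ((σ ^ i).injective h).symm
    exact pow_apply_ne hr σ j hrj hj (by omega) (by omega) h1
  intro i hi i' hi' h
  simp only [Finset.coe_range, Set.mem_Iio] at hi hi'
  rcases lt_trichotomy i i' with hlt | heq | hgt
  · exact absurd h (key i i' hlt hi')
  · exact heq
  · exact absurd h.symm (key i' i hgt hi)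

/-- If `σ^i j ≠ j` for `0 < i < r`, the sum `1 + L + ⋯ + L^(r-1)` is injective on `D j`. -/
theorem eq_zero_of_sum_eq_zero {r : ℕ} (hr : r.Prime) (L : V →ₗ[F] V)
    (D : Fin t → Submodule F V) (hind : iSupIndep D) (σ : Equiv.Perm (Fin t))
    (hσ : ∀ j, (D j).map L = D (σ j)) (j : Fin t)
    (hne : ∀ i, 0 < i → i < r → (σ ^ i) j ≠ j) {v : V} (hv : v ∈ D j)
    (hsum : (∑ i ∈ Finset.range r, L ^ i) v = 0) : v = 0 := by
  have hp0 : 0 < r := hr.pos
  rw [LinearMap.sum_apply] at hsum
  obtain ⟨m, rfl⟩ : ∃ m, r = m + 1 := ⟨r - 1, by omega⟩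
  rw [Finset.sum_range_succ'] at hsum
  simp only [pow_zero, Module.End.one_apply] at hsum
  have hmem : ∑ i ∈ Finset.range m, (L ^ (i + 1)) v ∈ ⨆ (k) (_ : k ≠ j), D k := by
    apply Submodule.sum_mem
    intro i hi
    rw [Finset.mem_range] at hi
    have h1 := pow_apply_mem_D L D σ hσ (i + 1) j hv
    have h2 := hne (i + 1) (by omega) (by omega)
    exact Submodule.mem_iSup_of_mem _ (Submodule.mem_iSup_of_mem h2 h1)
  have hv2 : v = -∑ i ∈ Finset.range m, (L ^ (i + 1)) v := by
    rw [eq_neg_iff_add_eq_zero, add_comm]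
    exact hsum
  have hdis := (iSupIndep_def.mp hind) j
  rw [Submodule.disjoint_def] at hdis
  apply hdis v hv
  rw [hv2]
  exact Submodule.neg_mem _ hmem

theorem perm_pow_eq (y : V →ₗ[F] V) (r : ℕ) (hy : y ^ r = 1) (D : Fin t → Submodule F V)
    (hinj : Function.Injective D) (σ : Equiv.Perm (Fin t))
    (hσ : ∀ j, (D j).map y = D (σ j)) (j : Fin t) : (σ ^ r) j = j := by
  have h := map_pow_D y D σ hσ r j
  rw [hy, Module.End.one_eq_id, Submodule.map_id] at h
  exact (hinj h).symm

/-- the trace element `(1 + y + ⋯ + y^(r-1)) v` is fixed by `y`. -/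
theorem trace_fixed (y : V →ₗ[F] V) (r : ℕ) (hy : y ^ r = 1) (v : V) :
    (∑ i ∈ Finset.range r, y ^ i) v ∈ Module.End.eigenspace y 1 := by
  rw [Module.End.mem_eigenspace_iff, one_smul]
  have h := mul_geom_sum y r
  rw [hy, sub_self] at h
  have h2 := LinearMap.congr_fun h v
  rw [Module.End.mul_apply, LinearMap.sub_apply, Module.End.one_apply, LinearMap.zero_apply,
    sub_eq_zero] at h2
  exact h2

/-- the sum of the other summands -/
def others (D : Fin t → Submodule F V) (k : Fin t) : Submodule F V := ⨆ (m) (_ : m ≠ k), D m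

theorem map_others_le (y : V →ₗ[F] V) (D : Fin t → Submodule F V) (σ : Equiv.Perm (Fin t))
    (hσ : ∀ j, (D j).map y = D (σ j)) (k : Fin t) :
    (others D k).map y ≤ others D (σ k) := by
  unfold others
  rw [Submodule.map_iSup]
  apply iSup_le
  intro m
  rw [Submodule.map_iSup]
  apply iSup_le
  intro hm
  rw [hσ]
  exact le_iSup₂_of_le (σ m) (fun h => hm (σ.injective h)) le_rfl

theorem mem_others_pow (y : V →ₗ[F] V) (D : Fin t → Submodule F V) (σ : Equiv.Perm (Fin t))
    (hσ : ∀ j, (D j).map y = D (σ j)) {u : V} (hu : y u = u) (k : Fin t)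
    (h : u ∈ others D k) (i : ℕ) : u ∈ others D ((σ ^ i) k) := by
  induction i with
  | zero => simpa using h
  | succ i ih =>
    rw [pow_succ', Equiv.Perm.mul_apply]
    have h1 := map_others_le y D σ hσ ((σ ^ i) k) (Submodule.mem_map_of_mem ih)
    rwa [hu] at h1

theorem eq_zero_of_mem_others (D : Fin t → Submodule F V) (hind : iSupIndep D)
    (S : Finset (Fin t)) :
    ∀ u : V, u ∈ ⨆ k ∈ S, D k → (∀ k ∈ S, u ∈ others D k) → u = 0 := by
  classical
  induction S using Finset.induction_on with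
  | empty =>
    intro u hu _
    simpa using hu
  | insert k S hk ih =>
    intro u hu h
    rw [Finset.iSup_insert] at hu
    obtain ⟨p, hp, q, hq, rfl⟩ := Submodule.mem_sup.mp hu
    have hq' : q ∈ others D k := by
      have hle : (⨆ m ∈ S, D m) ≤ others D k := by
        apply iSup₂_le
        intro m hm
        exact le_iSup₂_of_le m (fun hmk => hk (hmk ▸ hm)) le_rfl
      exact hle hq
    have hp' : p ∈ others D k := by
      have h1 := h k (Finset.mem_insert_self k S)
      have h2 := Submodule.sub_mem _ h1 hq'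
      rwa [add_sub_cancel_right] at h2
    have hdis := (iSupIndep_def.mp hind) k
    rw [Submodule.disjoint_def] at hdis
    have hp0 : p = 0 := hdis p hp hp'
    rw [hp0, zero_add]
    apply ih q hq
    intro m hm
    have h1 := h m (Finset.mem_insert_of_mem hm)
    rwa [hp0, zero_add] at h1

variable [FiniteDimensional F V]

theorem finrank_biSup_of_indep (D : Fin t → Submodule F V) (hind : iSupIndep D)
    (S : Finset (Fin t)) :
    finrank F ↥(⨆ k ∈ S, D k) = ∑ k ∈ S, finrank F (D k) := by
  classical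
  induction S using Finset.induction_on with
  | empty => simp
  | insert k S hk ih =>
    rw [Finset.iSup_insert, Finset.sum_insert hk]
    have hdis : Disjoint (D k) (⨆ m ∈ S, D m) := by
      have := hind.disjoint_biSup (x := k) (y := (S : Set (Fin t))) (by simpa using hk)
      simpa using this
    rw [finrank_sup_of_disjoint hdis, ih]

/-- **Rank bound**: an `r`-cycle of `a`-spaces forces `dim C_V(y) + (r-1) a ≤ dim V`. -/
theorem rank_bound (r : ℕ) (hr : r.Prime) (y : V →ₗ[F] V) (hy : y ^ r = 1)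
    (D : Fin t → Submodule F V) (hind : iSupIndep D) (a : ℕ)
    (hdim : ∀ j, finrank F (D j) = a) (hinj : Function.Injective D) (σ : Equiv.Perm (Fin t))
    (hσ : ∀ j, (D j).map y = D (σ j)) (j : Fin t) (hj : σ j ≠ j) :
    finrank F (Module.End.eigenspace y 1) + (r - 1) * a ≤ finrank F V := by
  classical
  have hrj : (σ ^ r) j = j := perm_pow_eq y r hy D hinj σ hσ j
  have hinjOn := pow_apply_injOn hr σ j hrj hj
  set S : Finset (Fin t) := (Finset.range (r - 1)).image (fun i : ℕ => (σ ^ i) j) with hS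
  have hScard : S.card = r - 1 := by
    rw [hS, Finset.card_image_of_injOn, Finset.card_range]
    intro i hi i' hi' h
    apply hinjOn _ _ h
    · simp only [Finset.coe_range, Set.mem_Iio] at hi ⊢; omega
    · simp only [Finset.coe_range, Set.mem_Iio] at hi' ⊢; omega
  have hr1 : 1 ≤ r := hr.pos
  have hk₀ : (σ ^ (r - 1)) j ∉ S := by
    intro hmem
    rw [hS, Finset.mem_image] at hmem
    obtain ⟨i, hi, hi'⟩ := hmem
    rw [Finset.mem_range] at hi
    have := hinjOn (by simp only [Finset.coe_range, Set.mem_Iio]; omega)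
      (by simp only [Finset.coe_range, Set.mem_Iio]; omega) hi'
    omega
  have hdis : Disjoint (Module.End.eigenspace y 1) (⨆ k ∈ S, D k) := by
    rw [Submodule.disjoint_def]
    intro u huE huS
    rw [Module.End.mem_eigenspace_iff, one_smul] at huE
    have h0 : u ∈ others D ((σ ^ (r - 1)) j) := by
      have hle : (⨆ k ∈ S, D k) ≤ others D ((σ ^ (r - 1)) j) := by
        apply iSup₂_le
        intro m hm
        exact le_iSup₂_of_le m (fun hmk => hk₀ (hmk ▸ hm)) le_rfl
      exact hle huS
    apply eq_zero_of_mem_others D hind S u huS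
    intro k hk
    rw [hS, Finset.mem_image] at hk
    obtain ⟨i, _, rfl⟩ := hk
    have h1 := mem_others_pow y D σ hσ huE _ h0 (i + 1)
    have h2 : (σ ^ (i + 1)) ((σ ^ (r - 1)) j) = (σ ^ i) j := by
      rw [← Equiv.Perm.mul_apply, ← pow_add]
      have : i + 1 + (r - 1) = i + r := by omega
      rw [this, pow_add, Equiv.Perm.mul_apply, hrj]
    rwa [h2] at h1
  have h3 := Submodule.finrank_add_finrank_le_of_disjoint hdis
  rw [finrank_biSup_of_indep D hind S] at h3
  simp only [hdim, Finset.sum_const, hScard, smul_eq_mul] at h3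
  exact h3

/-- **Fixed-space bound**: an `r`-cycle of `a`-spaces forces `a ≤ dim C_V(y)`. -/
theorem fixed_bound (r : ℕ) (hr : r.Prime) (y : V →ₗ[F] V) (hy : y ^ r = 1)
    (D : Fin t → Submodule F V) (hind : iSupIndep D)
    (hinj : Function.Injective D) (σ : Equiv.Perm (Fin t))
    (hσ : ∀ j, (D j).map y = D (σ j)) (j : Fin t) (hj : σ j ≠ j) :
    finrank F (D j) ≤ finrank F (Module.End.eigenspace y 1) := by
  have hrj : (σ ^ r) j = j := perm_pow_eq y r hy D hinj σ hσ j
  let T : V →ₗ[F] V := ∑ i ∈ Finset.range r, y ^ i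
  let g : D j →ₗ[F] Module.End.eigenspace y 1 :=
    (T.domRestrict (D j)).codRestrict _ (fun v => trace_fixed y r hy v)
  apply LinearMap.finrank_le_finrank_of_injective (f := g)
  rw [← LinearMap.ker_eq_bot, eq_bot_iff]
  intro v hv
  rw [LinearMap.mem_ker] at hv
  have h1 : T (v : V) = 0 := congrArg Subtype.val hv
  have h2 := eq_zero_of_sum_eq_zero hr y D hind σ hσ j
    (fun i hi0 hir => pow_apply_ne hr σ j hrj hj hi0 hir) v.2 h1
  rw [Submodule.mem_bot]
  exact Subtype.ext h2

end perm

end Cfsg.Agent.Lib.Helper15.PDec
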