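import Mathlib
import Cfsg.Agent.Lib.Helper15.PDec6
import Cfsg.Agent.Lib.Helper15.PSub8

/-!
# Necessity: bad elements of order `r` for equidimensional decompositions
-/

set_option autoImplicit false

namespace Cfsg.Agent.Lib.Helper15.PDec

open Module Submodule Polynomial Cfsg.Agent.Lib.Helper15.PSub

section orbit

variable {F V : Type*} [Field F] [AddCommGroup V] [Module F V] {t : ℕ}

theorem pow_mod_apply (σ : Equiv.Perm (Fin t)) (r : ℕ) (k : Fin t) (hk : (σ ^ r) k = k)
    (i : ℕ) : (σ ^ i) k = (σ ^ (i % r)) k := by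
  have h1 : ∀ q : ℕ, ((σ ^ r) ^ q) k = k := by
    intro q
    induction q with
    | zero => simp
    | succ q ih => rw [pow_succ, Equiv.Perm.mul_apply, hk, ih]
  conv_lhs => rw [← Nat.mod_add_div i r]
  rw [pow_add, pow_mul, Equiv.Perm.mul_apply, h1]

variable [FiniteDimensional F V]

/-- **Orbit count**: lower bound for the fixed space of a monomial-type element. -/
theorem orbit_count (r : ℕ) (hr : r.Prime) (y : V →ₗ[F] V) (hy : y ^ r = 1)
    (D : Fin t → Submodule F V) (hind : iSupIndep D) (hne : ∀ j, D j ≠ ⊥)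
    (σ : Equiv.Perm (Fin t)) (hσ : ∀ j, (D j).map y = D (σ j))
    (hfix : ∀ j, σ j = j → D j ≤ Module.End.eigenspace y 1) :
    ∀ (m : ℕ) (S : Finset (Fin t)), S.card = m → (∀ k ∈ S, σ k ∈ S) →
      S.card ≤ r * finrank F ↥(Module.End.eigenspace y 1 ⊓ ⨆ k ∈ S, D k) := by
  classical
  have hinj : Function.Injective D := hind.injective hne
  have hpow : ∀ j, (σ ^ r) j = j := fun j => perm_pow_eq y r hy D hinj σ hσ j
  intro m
  induction m using Nat.strong_induction_on with
  | _ m ih =>
    intro S hSm hSinv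
    by_cases hS0 : S = ∅
    · rw [hS0]; simp
    obtain ⟨k, hk⟩ := Finset.nonempty_iff_ne_empty.mpr hS0
    set O : Finset (Fin t) := (Finset.range r).image (fun i : ℕ => (σ ^ i) k) with hO
    have hpowS : ∀ i : ℕ, (σ ^ i) k ∈ S := by
      intro i
      induction i with
      | zero => simpa using hk
      | succ i ihi =>
        rw [pow_succ', Equiv.Perm.mul_apply]
        exact hSinv _ ihi
    have hOS : O ⊆ S := by
      intro x hx
      rw [hO, Finset.mem_image] at hx
      obtain ⟨i, _, rfl⟩ := hx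
      exact hpowS i
    have hOcard : O.card ≤ r := by
      calc O.card ≤ (Finset.range r).card := Finset.card_image_le
        _ = r := Finset.card_range r
    have hO_mem : ∀ i : ℕ, (σ ^ i) k ∈ O := by
      intro i
      rw [pow_mod_apply σ r k (hpow k) i, hO, Finset.mem_image]
      exact ⟨i % r, Finset.mem_range.mpr (Nat.mod_lt _ hr.pos), rfl⟩
    have hkO : k ∈ O := by simpa using hO_mem 0
    have hS'inv : ∀ x ∈ S \ O, σ x ∈ S \ O := by
      intro x hx
      rw [Finset.mem_sdiff] at hx ⊢
      refine ⟨hSinv x hx.1, fun hσx => hx.2 ?_⟩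
      rw [hO, Finset.mem_image] at hσx
      obtain ⟨i, _, hi⟩ := hσx
      have h1 : x = (σ ^ (r - 1)) (σ x) := by
        rw [← Equiv.Perm.mul_apply, ← pow_succ]
        have : r - 1 + 1 = r := Nat.sub_add_cancel hr.pos
        rw [this, hpow x]
      rw [h1, ← hi, ← Equiv.Perm.mul_apply, ← pow_add]
      exact hO_mem _
    have hS'card : (S \ O).card < m := by
      rw [← hSm]
      exact Finset.card_lt_card (Finset.sdiff_ssubset hOS ⟨k, hkO⟩)
    have hIH := ih _ hS'card (S \ O) rfl hS'inv
    -- a nonzero fixed vector in the orbit sum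
    have hpos : 1 ≤ finrank F ↥(Module.End.eigenspace y 1 ⊓ ⨆ x ∈ O, D x) := by
      rw [Submodule.one_le_finrank_iff]
      obtain ⟨v, hvD, hv0⟩ := Submodule.exists_mem_ne_zero_of_ne_bot (hne k)
      by_cases hfk : σ k = k
      · intro h0
        have h1 : v ∈ Module.End.eigenspace y 1 ⊓ ⨆ x ∈ O, D x :=
          ⟨hfix k hfk hvD, (le_iSup₂_of_le k hkO le_rfl : D k ≤ ⨆ x ∈ O, D x) hvD⟩
        rw [h0, Submodule.mem_bot] at h1
        exact hv0 h1
      · intro h0
        have h1 : (∑ i ∈ Finset.range r, y ^ i) v ∈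
            Module.End.eigenspace y 1 ⊓ ⨆ x ∈ O, D x := by
          refine ⟨trace_fixed y r hy v, ?_⟩
          rw [LinearMap.sum_apply]
          apply Submodule.sum_mem
          intro i _
          have h2 := pow_apply_mem_D y D σ hσ i k hvD
          exact (le_iSup₂_of_le _ (hO_mem i) le_rfl : D ((σ ^ i) k) ≤ ⨆ x ∈ O, D x) h2
        rw [h0, Submodule.mem_bot] at h1
        exact hv0 (eq_zero_of_sum_eq_zero hr y D hind σ hσ k
          (fun i hi0 hir => pow_apply_ne hr σ k (hpow k) hfk hi0 hir) hvD h1)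
    have hdisj : Disjoint (⨆ x ∈ O, D x) (⨆ x ∈ S \ O, D x) := by
      have h1 : Disjoint (O : Set (Fin t)) ((S \ O : Finset (Fin t)) : Set (Fin t)) := by
        rw [Finset.disjoint_coe]
        exact Finset.disjoint_sdiff
      have h2 := hind.disjoint_biSup_biSup h1
      simpa using h2
    have hdisj' : Disjoint (Module.End.eigenspace y 1 ⊓ ⨆ x ∈ O, D x)
        (Module.End.eigenspace y 1 ⊓ ⨆ x ∈ S \ O, D x) :=
      hdisj.mono inf_le_right inf_le_right
    have hle : (Module.End.eigenspace y 1 ⊓ ⨆ x ∈ O, D x) ⊔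
        (Module.End.eigenspace y 1 ⊓ ⨆ x ∈ S \ O, D x) ≤
        Module.End.eigenspace y 1 ⊓ ⨆ x ∈ S, D x := by
      apply sup_le
      · exact inf_le_inf_left _ (biSup_mono (fun x hx => hOS hx))
      · exact inf_le_inf_left _ (biSup_mono (fun x hx => (Finset.mem_sdiff.mp hx).1))
    have h5 := Submodule.finrank_mono hle
    rw [finrank_sup_of_disjoint hdisj'] at h5
    have h6 : (S \ O).card + O.card = S.card := Finset.card_sdiff_add_card_eq_card hOS
    have h7 : r * finrank F ↥(Module.End.eigenspace y 1 ⊓ ⨆ x ∈ S, D x) ≥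
        r * (finrank F ↥(Module.End.eigenspace y 1 ⊓ ⨆ x ∈ O, D x) +
          finrank F ↥(Module.End.eigenspace y 1 ⊓ ⨆ x ∈ S \ O, D x)) :=
      Nat.mul_le_mul_left r h5
    have h8 : r * 1 ≤ r * finrank F ↥(Module.End.eigenspace y 1 ⊓ ⨆ x ∈ O, D x) :=
      Nat.mul_le_mul_left r hpos
    rw [Nat.mul_add] at h7
    omega

theorem count_lines (r : ℕ) (hr : r.Prime) (y : V →ₗ[F] V) (hy : y ^ r = 1)
    (D : Fin t → Submodule F V) (hind : iSupIndep D) (hne : ∀ j, D j ≠ ⊥)
    (σ : Equiv.Perm (Fin t)) (hσ : ∀ j, (D j).map y = D (σ j))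
    (hfix : ∀ j, σ j = j → D j ≤ Module.End.eigenspace y 1) :
    t ≤ r * finrank F (Module.End.eigenspace y 1) := by
  have h := orbit_count r hr y hy D hind hne σ hσ hfix _ Finset.univ rfl
    (fun k _ => Finset.mem_univ _)
  rw [Finset.card_univ, Fintype.card_fin] at h
  refine h.trans (Nat.mul_le_mul_left r (Submodule.finrank_mono inf_le_left))

end orbit

section model

variable {F : Type*} [Field F]

/-- element of order `r` with `s` blocks of type `P` and fixed space of dimension exactly `k`. -/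
theorem exists_order_r_exact (r : ℕ) [hr : Fact r.Prime] (hr0 : (r : F) ≠ 0) (P : F[X])
    (hP : Irreducible P) (hPd : P ∣ cyclotomic r F) (s k n : ℕ) (hn : n = s * P.natDegree + k) :
    ∃ y : (Fin n → F) →ₗ[F] (Fin n → F), y ^ r = 1 ∧
      finrank F (Module.End.eigenspace y 1) = k := by
  have : Fact (Irreducible P) := ⟨hP⟩
  obtain ⟨y, e, hy⟩ := exists_model P s k n hn
  have hroot : AdjoinRoot.root P ^ r = 1 := by
    have h1 : P ∣ X ^ r - 1 := by
      rw [← cyclotomic_prime_mul_X_sub_one F r]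
      exact Dvd.dvd.mul_right hPd _
    have h2 := AdjoinRoot.mk_eq_zero.mpr h1
    rw [map_sub, map_pow, AdjoinRoot.mk_X, map_one, sub_eq_zero] at h2
    exact h2
  have hroot1 : AdjoinRoot.root P - 1 ≠ 0 := by
    intro h0
    have h1 : AdjoinRoot.mk P (X - 1) = 0 := by
      rw [map_sub, AdjoinRoot.mk_X, map_one]
      exact h0
    rw [AdjoinRoot.mk_eq_zero] at h1
    have h2 : (X - 1 : F[X]) ∣ cyclotomic r F := by
      have hirr : Irreducible (X - 1 : F[X]) := by
        have := irreducible_X_sub_C (1 : F)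
        rwa [C_1] at this
      obtain ⟨g, hg⟩ := h1
      rcases hirr.isUnit_or_isUnit hg with h | h
      · exact absurd h hP.not_isUnit
      · obtain ⟨u, rfl⟩ := h
        have : (X - 1 : F[X]) * ↑u⁻¹ = P := by rw [hg, mul_assoc, Units.mul_inv, mul_one]
        rw [← this] at hPd
        exact (Dvd.intro _ rfl).trans hPd
    have h3 : eval 1 (cyclotomic r F) = 0 := by
      obtain ⟨g, hg⟩ := h2
      rw [hg, eval_mul, eval_sub, eval_X, eval_one, sub_self, zero_mul]
    rw [eval_one_cyclotomic_prime] at h3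
    exact hr0 h3
  refine ⟨y, ?_, ?_⟩
  · apply LinearMap.ext
    intro v
    apply e.injective
    rw [model_pow y e hy, hroot, one_smul, Module.End.one_apply]
  · have h1 : (Module.End.eigenspace y 1).map (e : (Fin n → F) →ₗ[F] _) =
        LinearMap.range (LinearMap.inr F (Fin s → AdjoinRoot P) (Fin k → F)) := by
      apply le_antisymm
      · rintro _ ⟨v, hv, rfl⟩
        rw [SetLike.mem_coe, Module.End.mem_eigenspace_iff, one_smul] at hv
        have h2 := hy v
        rw [hv] at h2
        have h3 : AdjoinRoot.root P • (e v).1 = (e v).1 := by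
          have := congrArg Prod.fst h2
          exact this.symm
        have h4 : (AdjoinRoot.root P - 1) • (e v).1 = 0 := by
          rw [sub_smul, one_smul, h3, sub_self]
        have h5 : (e v).1 = 0 := (smul_eq_zero.mp h4).resolve_left hroot1
        refine ⟨(e v).2, ?_⟩
        rw [LinearMap.inr_apply]
        apply Prod.ext
        · exact h5.symm
        · rfl
      · rintro _ ⟨b, rfl⟩
        refine ⟨e.symm (0, b), ?_, ?_⟩
        · rw [SetLike.mem_coe, Module.End.mem_eigenspace_iff, one_smul]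
          apply e.injective
          rw [hy, LinearEquiv.apply_symm_apply, smul_zero]
        · simp
    have h2 : finrank F ↥((Module.End.eigenspace y 1).map
        (e : (Fin n → F) →ₗ[F] ((Fin s → AdjoinRoot P) × (Fin k → F)))) =
        finrank F ↥(LinearMap.range (LinearMap.inr F (Fin s → AdjoinRoot P) (Fin k → F))) := by
      rw [h1]
    rw [LinearEquiv.finrank_map_eq e, LinearMap.finrank_range_of_inj LinearMap.inr_injective,
      Module.finrank_fin_fun] at h2
    exact h2

end model

section bad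

variable {F : Type*} [Field F] [Fintype F]

/-- bad element with exactly `s` blocks. -/
theorem exists_bad (p : ℕ) [Fact p.Prime] [CharP F p] (r : ℕ) [hr : Fact r.Prime] (hrp : r ≠ p)
    (hrq : ¬ r ∣ Fintype.card F - 1) (n s : ℕ) (hs : 1 ≤ s)
    (hsn : s * orderOf ((Fintype.card F : ℕ) : ZMod r) ≤ n) :
    ∃ y : (Fin n → F) →ₗ[F] (Fin n → F), LinearMap.det y = 1 ∧ y ^ r = 1 ∧
      (∀ z : F, y ≠ z • (1 : (Fin n → F) →ₗ[F] (Fin n → F))) ∧
      finrank F (Module.End.eigenspace y 1) = n - s * orderOf ((Fintype.card F : ℕ) : ZMod r) := by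
  set i := orderOf ((Fintype.card F : ℕ) : ZMod r) with hi
  have hipos : 0 < i := orderOf_pos_of_ne p r hrp
  have hr0 : (r : F) ≠ 0 := ne_zero_of_ne p r hr.out hrp
  have hsi : 0 < s * i := Nat.mul_pos hs hipos
  have hn0 : n ≠ 0 := by omega
  have hnu : ¬ IsUnit (cyclotomic r F) := by
    intro hu
    have := natDegree_eq_zero_of_isUnit hu
    rw [natDegree_cyclotomic, Nat.totient_prime hr.out] at this
    have := hr.out.two_le
    omega
  obtain ⟨P, hP, hPd⟩ := WfDvdMonoid.exists_irreducible_factor hnu (cyclotomic_ne_zero r F)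
  have hdeg : P.natDegree = i := cyclotomic_factor_degree p r hr.out hrp P hP hPd
  obtain ⟨y, hy, hE⟩ := exists_order_r_exact r hr0 P hP hPd s (n - s * i) n
    (by rw [hdeg]; omega)
  have hdet : LinearMap.det y = 1 := by
    apply eq_one_of_pow_eq_one r hr.out hrq
    rw [← map_pow, hy, map_one]
  refine ⟨y, hdet, hy, ?_, hE⟩
  intro z hz
  have hz1 : z = 1 := by
    apply eq_one_of_pow_eq_one r hr.out hrq
    have h1 := hy
    rw [hz, _root_.smul_pow, one_pow] at h1
    exact smul_one_injective n hn0 _ _ (by rw [h1, one_smul])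
  rw [hz1, one_smul] at hz
  have h2 : Module.End.eigenspace y 1 = ⊤ := by
    rw [eq_top_iff]
    intro v _
    rw [Module.End.mem_eigenspace_iff, hz, one_smul, Module.End.one_apply]
  rw [h2, finrank_top, Module.finrank_fin_fun] at hE
  omega

end bad

end Cfsg.Agent.Lib.Helper15.PDec
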