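import Mathlib
import Cfsg.Agent.Lib.Helper15.PDec4
import Cfsg.Agent.Lib.Helper15.PDec5
import Cfsg.Agent.Lib.Helper15.PDec7

/-!
# Necessity theorem for equidimensional decompositions
-/

set_option autoImplicit false

namespace Cfsg.Agent.Lib.Helper15.PDec

open Module Submodule Polynomial Cfsg.Agent.Lib.Helper15.PSub

section small

variable {F V : Type*} [Field F] [Fintype F] [AddCommGroup V] [Module F V] [FiniteDimensional F V]

theorem le_eigenspace_of_small (p : ℕ) [Fact p.Prime] [CharP F p] (r : ℕ) [hr : Fact r.Prime]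
    (hrp : r ≠ p) (y : V →ₗ[F] V) (hy : y ^ r = 1) (W : Submodule F V)
    (hW : W ∈ Module.End.invtSubmodule y)
    (hdim : finrank F W < orderOf ((Fintype.card F : ℕ) : ZMod r)) :
    W ≤ Module.End.eigenspace y 1 := by
  obtain ⟨j, hj⟩ := invt_profile p r hrp y hy W hW
  have hj0 : j = 0 := by
    by_contra h
    have : 1 ≤ j := Nat.one_le_iff_ne_zero.mpr h
    have : orderOf ((Fintype.card F : ℕ) : ZMod r) ≤ j * orderOf ((Fintype.card F : ℕ) : ZMod r) :=
      Nat.le_mul_of_pos_left _ this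
    omega
  rw [hj0, zero_mul, add_zero] at hj
  have h1 : W ⊓ Module.End.eigenspace y 1 = W :=
    Submodule.eq_of_le_of_finrank_eq inf_le_left hj.symm
  rw [← h1]
  exact inf_le_right

theorem mod_le_inf_eig (p : ℕ) [Fact p.Prime] [CharP F p] (r : ℕ) [hr : Fact r.Prime]
    (hrp : r ≠ p) (y : V →ₗ[F] V) (hy : y ^ r = 1) (W : Submodule F V)
    (hW : W ∈ Module.End.invtSubmodule y) :
    finrank F W % orderOf ((Fintype.card F : ℕ) : ZMod r) ≤
      finrank F ↥(W ⊓ Module.End.eigenspace y 1) := by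
  obtain ⟨j, hj⟩ := invt_profile p r hrp y hy W hW
  rw [hj, Nat.add_mul_mod_self_right]
  exact Nat.mod_le _ _

end small

section nec

variable {F : Type*} [Field F] [Fintype F]

theorem ord_dvd_pred (p : ℕ) [hp : Fact p.Prime] [CharP F p] (r : ℕ) [hr : Fact r.Prime]
    (hrp : r ≠ p) : orderOf ((Fintype.card F : ℕ) : ZMod r) ∣ r - 1 := by
  apply orderOf_dvd_of_pow_eq_one
  have hne0 : ((Fintype.card F : ℕ) : ZMod r) ≠ 0 := by
    intro h0
    rw [ZMod.natCast_eq_zero_iff] at h0
    obtain ⟨⟨f, _⟩, -, hf⟩ := FiniteField.card F p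
    rw [hf] at h0
    have h2 := hr.out.dvd_of_dvd_pow h0
    exact hrp ((Nat.prime_dvd_prime_iff_eq hr.out hp.out).mp h2)
  exact ZMod.pow_card_sub_one_eq_one hne0

/-- **Necessity.** -/
theorem necessity (p : ℕ) [Fact p.Prime] [CharP F p] (r : ℕ) [hr : Fact r.Prime] (hrp : r ≠ p)
    (n a t : ℕ) (hat : n = a * t) (ha : 1 ≤ a)
    (hc2 : 2 ≤ orderOf ((Fintype.card F : ℕ) : ZMod r))
    (hcn : orderOf ((Fintype.card F : ℕ) : ZMod r) ≤ n)
    (hgood : ∀ y : (Fin n → F) →ₗ[F] (Fin n → F), LinearMap.det y = 1 → y ^ r = 1 →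
      (∀ z : F, y ≠ z • (1 : (Fin n → F) →ₗ[F] (Fin n → F))) →
      ∃ D : Fin t → Submodule F (Fin n → F), Cfsg.Geo.IsMDecomposition a D ∧
        ∃ σ : Equiv.Perm (Fin t), ∀ j, (D j).map y = D (σ j)) :
    (a = 1 ∧ orderOf ((Fintype.card F : ℕ) : ZMod r) = r - 1 ∧
        n ≤ (n % orderOf ((Fintype.card F : ℕ) : ZMod r)) * r) ∨
      (orderOf ((Fintype.card F : ℕ) : ZMod r) ≤ a ∧
        n % orderOf ((Fintype.card F : ℕ) : ZMod r) =
          t * (a % orderOf ((Fintype.card F : ℕ) : ZMod r))) := by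
  set c := orderOf ((Fintype.card F : ℕ) : ZMod r) with hc
  have hq1 : 1 ≤ Fintype.card F := Fintype.card_pos
  have hcpos : 0 < c := by omega
  have hr2 : 2 ≤ r := hr.out.two_le
  have hrq : ¬ r ∣ Fintype.card F - 1 := by
    intro h
    have := (orderOf_zmod_eq_one_iff _ r hq1).mpr h
    omega
  have hcr : c ≤ r - 1 := Nat.le_of_dvd (by omega) (ord_dvd_pred p r hrp)
  have hinvt : ∀ (y : (Fin n → F) →ₗ[F] (Fin n → F)) (D : Fin t → Submodule F (Fin n → F))
      (σ : Equiv.Perm (Fin t)), (∀ j, (D j).map y = D (σ j)) → ∀ j, σ j = j →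
      D j ∈ Module.End.invtSubmodule y := by
    intro y D σ hσ j hj
    rw [Module.End.mem_invtSubmodule_iff_map_le, hσ, hj]
  have hmodE : ∀ s : ℕ, s = n / c → n - s * c = n % c := by
    intro s hs
    have := Nat.div_add_mod n c
    have h2 : s * c = c * (n / c) := by rw [hs, mul_comm]
    omega
  by_cases hca : c ≤ a
  · right
    refine ⟨hca, ?_⟩
    by_contra hmod
    obtain ⟨y, hdet, hy, hns, hE⟩ := exists_bad p r hrp hrq n (n / c)
      (Nat.div_pos hcn hcpos) (Nat.div_mul_le_self n c)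
    rw [← hc, hmodE _ rfl] at hE
    obtain ⟨D, hD, σ, hσ⟩ := hgood y hdet hy hns
    have hinj := isMDec_injective hD
    have hlt : n % c < c := Nat.mod_lt n hcpos
    by_cases hid : ∀ j, σ j = j
    · have h1 : ∀ j, a % c ≤ finrank F ↥(D j ⊓ Module.End.eigenspace y 1) := by
        intro j
        have := mod_le_inf_eig p r hrp y hy (D j) (hinvt y D σ hσ j (hid j))
        rwa [hD.finrank_eq] at this
      have hind' : iSupIndep (fun j => D j ⊓ Module.End.eigenspace y 1) :=
        hD.indep.mono (fun j => inf_le_left)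
      have h2 := finrank_biSup_of_indep (fun j => D j ⊓ Module.End.eigenspace y 1) hind'
        Finset.univ
      have h3 : (⨆ k ∈ (Finset.univ : Finset (Fin t)), D k ⊓ Module.End.eigenspace y 1) ≤
          Module.End.eigenspace y 1 := iSup₂_le fun k _ => inf_le_right
      have h4 := Submodule.finrank_mono h3
      rw [h2, hE] at h4
      have h5 : t * (a % c) ≤
          ∑ k ∈ (Finset.univ : Finset (Fin t)), finrank F ↥(D k ⊓ Module.End.eigenspace y 1) := by
        have := Finset.sum_le_sum (s := (Finset.univ : Finset (Fin t)))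
          (f := fun _ => a % c)
          (g := fun k => finrank F ↥(D k ⊓ Module.End.eigenspace y 1)) (fun k _ => h1 k)
        simpa using this
      have h6 : n % c = (t * (a % c)) % c := by
        rw [hat, Nat.mul_mod, Nat.mul_mod t (a % c), Nat.mod_mod, mul_comm]
      have h7 : t * (a % c) < c := by omega
      rw [Nat.mod_eq_of_lt h7] at h6
      exact hmod h6
    · obtain ⟨j, hj⟩ := not_forall.mp hid
      have h1 := fixed_bound r hr.out y hy D hD.indep hinj σ hσ j hj
      rw [hD.finrank_eq, hE] at h1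
      omega
  · left
    have hac : a < c := by omega
    by_cases hN1 : 2 ≤ a ∨ c ≠ r - 1
    · exfalso
      obtain ⟨y, hdet, hy, hns, hE⟩ := exists_bad p r hrp hrq n 1 le_rfl
        (by rw [one_mul]; exact hcn)
      rw [one_mul, ← hc] at hE
      obtain ⟨D, hD, σ, hσ⟩ := hgood y hdet hy hns
      have hinj := isMDec_injective hD
      by_cases hid : ∀ j, σ j = j
      · have h1 : ∀ j, D j ≤ Module.End.eigenspace y 1 := fun j =>
          le_eigenspace_of_small p r hrp y hy (D j) (hinvt y D σ hσ j (hid j))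
            (by rw [hD.finrank_eq]; exact hac)
        have h2 : Module.End.eigenspace y 1 = ⊤ := by
          rw [eq_top_iff, ← hD.iSup_eq_top]
          exact iSup_le h1
        rw [h2, finrank_top, Module.finrank_fin_fun] at hE
        omega
      · obtain ⟨j, hj⟩ := not_forall.mp hid
        have h1 := rank_bound r hr.out y hy D hD.indep a hD.finrank_eq hinj σ hσ j hj
        rw [hE, Module.finrank_fin_fun] at h1
        rcases hN1 with h2a | hcne
        · have : (r - 1) * 2 ≤ (r - 1) * a := Nat.mul_le_mul_left _ h2a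
          omega
        · have : (r - 1) * 1 ≤ (r - 1) * a := Nat.mul_le_mul_left _ ha
          omega
    · rw [not_or, not_le, not_not] at hN1
      obtain ⟨ha2, hcr'⟩ := hN1
      have ha1 : a = 1 := by omega
      refine ⟨ha1, hcr', ?_⟩
      by_contra hlt
      obtain ⟨y, hdet, hy, hns, hE⟩ := exists_bad p r hrp hrq n (n / c)
        (Nat.div_pos hcn hcpos) (Nat.div_mul_le_self n c)
      rw [← hc, hmodE _ rfl] at hE
      obtain ⟨D, hD, σ, hσ⟩ := hgood y hdet hy hns
      have hfix : ∀ j, σ j = j → D j ≤ Module.End.eigenspace y 1 := fun j hj =>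
        le_eigenspace_of_small p r hrp y hy (D j) (hinvt y D σ hσ j hj)
          (by rw [hD.finrank_eq]; exact hac)
      have hne : ∀ j, D j ≠ ⊥ := by
        intro j h0
        have h1 := hD.finrank_eq j
        rw [h0, finrank_bot] at h1
        omega
      have h1 := count_lines r hr.out y hy D hD.indep hne σ hσ hfix
      rw [hE] at h1
      rw [ha1, one_mul] at hat
      rw [mul_comm] at h1
      omega

omit [Fintype F] in
/-- Decompositions exist. -/
theorem exists_isMDec (n a t : ℕ) (hat : n = a * t) (ha : 1 ≤ a) (ht : 2 ≤ t) :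
    ∃ D : Fin t → Submodule F (Fin n → F), Cfsg.Geo.IsMDecomposition a D := by
  have hss : Module.End.IsSemisimple (1 : (Fin n → F) →ₗ[F] (Fin n → F)) :=
    Module.End.isSemisimple_id
  obtain ⟨κ, hκ, σ, hcard, hP⟩ := peel_id (1 : (Fin n → F) →ₗ[F] (Fin n → F)) hss
    (fun _ _ h => h) (1 : F[X]) one_ne_zero 1 one_pos
    (fun P hP hPd => absurd (isUnit_of_dvd_one hPd) hP.not_isUnit) a t ⊤ ⊥
    (fun U _ => by
      intro u hu
      exact hu)
    (Module.End.invtSubmodule.bot_mem _)
    (fun w hw => by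
      rw [(Submodule.mem_bot F).mp hw, map_zero])
    disjoint_bot_right (by rw [finrank_top, finrank_bot, add_zero, Module.finrank_fin_fun, hat])
    (by rw [Nat.mod_one, mul_zero]; exact Nat.zero_le _)
  rw [sup_bot_eq] at hP
  obtain ⟨D, hD, -⟩ := PD.toFin ht ha hcard _ σ hP
  exact ⟨D, hD⟩

end nec

end Cfsg.Agent.Lib.Helper15.PDec
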