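import Mathlib
import Cfsg.Agent.Lib.Helper15.SympCount

/-!
# Orthogonal sums of nondegenerate subspaces of an alternating space
-/

set_option autoImplicit false

namespace Cfsg.Agent.Lib.Helper15.PSpI

open Module Submodule Cfsg.Agent.Lib.Helper15

section basic

variable {F V : Type*} [Field F] [AddCommGroup V] [Module F V]
variable (B : V →ₗ[F] V →ₗ[F] F)

/-- the form is nondegenerate on `S` -/
def NondegOn (S : Submodule F V) : Prop := ∀ u ∈ S, (∀ v ∈ S, B u v = 0) → u = 0

/-- `S` and `T` are orthogonal -/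
def Orth (S T : Submodule F V) : Prop := ∀ u ∈ S, ∀ v ∈ T, B u v = 0

variable {B}

theorem Orth.symm (halt : ∀ x, B x x = 0) {S T : Submodule F V} (h : Orth B S T) : Orth B T S := by
  intro u hu v hv
  rw [alt_swap B halt, h v hv u hu, neg_zero]

theorem orth_iff_le {S T : Submodule F V} : Orth B S T ↔ T ≤ S.orthogonalBilin B := by
  constructor
  · intro h v hv
    rw [mem_orthogonalBilin_iff]
    intro u hu
    exact h u hu v hv
  · intro h u hu v hv
    exact (mem_orthogonalBilin_iff.mp (h hv)) u hu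

theorem Orth.mono {S T S' T' : Submodule F V} (h : Orth B S T) (hS : S' ≤ S) (hT : T' ≤ T) :
    Orth B S' T' := fun u hu v hv => h u (hS hu) v (hT hv)

theorem Orth.sup_right {S T T' : Submodule F V} (h : Orth B S T) (h' : Orth B S T') :
    Orth B S (T ⊔ T') := by
  rw [orth_iff_le] at h h' ⊢
  exact sup_le h h'

theorem Orth.sup_left (halt : ∀ x, B x x = 0) {S S' T : Submodule F V} (h : Orth B S T)
    (h' : Orth B S' T) : Orth B (S ⊔ S') T :=
  ((h.symm halt).sup_right (h'.symm halt)).symm halt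

theorem Orth.iSup_right {ι : Sort*} {S : Submodule F V} {T : ι → Submodule F V}
    (h : ∀ i, Orth B S (T i)) : Orth B S (⨆ i, T i) := by
  rw [orth_iff_le]
  exact iSup_le fun i => orth_iff_le.mp (h i)

theorem Orth.iSup_left (halt : ∀ x, B x x = 0) {ι : Sort*} {S : ι → Submodule F V}
    {T : Submodule F V} (h : ∀ i, Orth B (S i) T) : Orth B (⨆ i, S i) T :=
  (Orth.iSup_right fun i => (h i).symm halt).symm halt

theorem Orth.disjoint (halt : ∀ x, B x x = 0) {S T : Submodule F V} (h : Orth B S T)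
    (hS : NondegOn B S) : Disjoint S T := by
  rw [Submodule.disjoint_def]
  intro u huS huT
  apply hS u huS
  intro v hv
  rw [alt_swap B halt, h v hv u huT, neg_zero]

theorem nondegOn_sup (halt : ∀ x, B x x = 0) {S T : Submodule F V} (h : Orth B S T)
    (hS : NondegOn B S) (hT : NondegOn B T) : NondegOn B (S ⊔ T) := by
  intro u hu hu0
  obtain ⟨s, hs, t, ht, rfl⟩ := mem_sup.mp hu
  have hs0 : s = 0 := by
    apply hS s hs
    intro v hv
    have := hu0 v (mem_sup_left hv)
    rw [map_add, LinearMap.add_apply, (h.symm halt) t ht v hv, add_zero] at this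
    exact this
  have ht0 : t = 0 := by
    apply hT t ht
    intro v hv
    have := hu0 v (mem_sup_right hv)
    rw [map_add, LinearMap.add_apply, h s hs v hv, zero_add] at this
    exact this
  rw [hs0, ht0, add_zero]

theorem finrank_sup_of_orth [FiniteDimensional F V] (halt : ∀ x, B x x = 0) {S T : Submodule F V}
    (h : Orth B S T) (hS : NondegOn B S) :
    finrank F ↥(S ⊔ T) = finrank F S + finrank F T := by
  have h1 := Submodule.finrank_sup_add_finrank_inf_eq S T
  rw [(h.disjoint halt hS).eq_bot, finrank_bot, add_zero] at h1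
  exact h1

/-- the orthogonal projection onto a nondegenerate subspace -/
theorem exists_proj [FiniteDimensional F V] (halt : ∀ x, B x x = 0) (S : Submodule F V)
    (hS : NondegOn B S) (v : V) : ∃ s ∈ S, ∀ u ∈ S, B u (v - s) = 0 := by
  let φ : S →ₗ[F] Module.Dual F S :=
    { toFun := fun s => (B.flip s.1).domRestrict S
      map_add' := fun a b => by ext u; simp
      map_smul' := fun c a => by ext u; simp }
  have hinj : Function.Injective φ := by
    rw [← LinearMap.ker_eq_bot, LinearMap.ker_eq_bot']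
    intro s hs
    apply Subtype.ext
    apply hS s.1 s.2
    intro u hu
    have := LinearMap.congr_fun hs ⟨u, hu⟩
    have h2 : B u s.1 = 0 := this
    rw [alt_swap B halt, h2, neg_zero]
  have hsurj : Function.Surjective φ :=
    (LinearMap.injective_iff_surjective_of_finrank_eq_finrank
      (Subspace.dual_finrank_eq (K := F) (V := S)).symm).mp hinj
  obtain ⟨s, hs⟩ := hsurj ((B.flip v).domRestrict S)
  refine ⟨s.1, s.2, fun u hu => ?_⟩
  have := LinearMap.congr_fun hs ⟨u, hu⟩
  have h2 : B u s.1 = B u v := this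
  rw [map_sub, h2, sub_self]

/-- the orthogonal complement of `S` inside `V'` -/
def perpIn (B : V →ₗ[F] V →ₗ[F] F) (V' S : Submodule F V) : Submodule F V :=
  V' ⊓ S.orthogonalBilin B

theorem mem_perpIn {V' S : Submodule F V} {v : V} :
    v ∈ perpIn B V' S ↔ v ∈ V' ∧ ∀ u ∈ S, B u v = 0 := by
  unfold perpIn
  rw [mem_inf, mem_orthogonalBilin_iff]

theorem perpIn_le (V' S : Submodule F V) : perpIn B V' S ≤ V' := inf_le_left

theorem orth_perpIn (V' S : Submodule F V) : Orth B S (perpIn B V' S) :=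
  fun u hu _ hv => (mem_perpIn.mp hv).2 u hu

theorem sup_perpIn [FiniteDimensional F V] (halt : ∀ x, B x x = 0) {V' S : Submodule F V}
    (hSV : S ≤ V') (hS : NondegOn B S) : S ⊔ perpIn B V' S = V' := by
  apply le_antisymm (sup_le hSV (perpIn_le V' S))
  intro v hv
  obtain ⟨s, hs, hsv⟩ := exists_proj halt S hS v
  have : v = s + (v - s) := by abel
  rw [this]
  exact add_mem (mem_sup_left hs) (mem_sup_right (mem_perpIn.mpr ⟨sub_mem hv (hSV hs), hsv⟩))

theorem nondegOn_perpIn [FiniteDimensional F V] (halt : ∀ x, B x x = 0) {V' S : Submodule F V}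
    (hSV : S ≤ V') (hS : NondegOn B S) (hV' : NondegOn B V') : NondegOn B (perpIn B V' S) := by
  intro t ht ht0
  apply hV' t (perpIn_le V' S ht)
  intro v hv
  rw [← sup_perpIn halt hSV hS] at hv
  obtain ⟨s, hs, t', ht', rfl⟩ := mem_sup.mp hv
  rw [map_add, ht0 t' ht', add_zero, alt_swap B halt, (mem_perpIn.mp ht).2 s hs, neg_zero]

theorem finrank_perpIn [FiniteDimensional F V] (halt : ∀ x, B x x = 0) {V' S : Submodule F V}
    (hSV : S ≤ V') (hS : NondegOn B S) :
    finrank F S + finrank F (perpIn B V' S) = finrank F V' := by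
  rw [← finrank_sup_of_orth halt (orth_perpIn V' S) hS, sup_perpIn halt hSV hS]

/-- an endomorphism with `x² = z ≠ 0` maps an invariant subspace onto itself -/
theorem map_eq_of_le (x : V →ₗ[F] V) (z : F) (hz : z ≠ 0) (hx2 : ∀ v, x (x v) = z • v)
    {T : Submodule F V} (h : T.map x ≤ T) : T.map x = T := by
  apply le_antisymm h
  intro t ht
  refine ⟨x (z⁻¹ • t), h ⟨z⁻¹ • t, T.smul_mem _ ht, rfl⟩, ?_⟩
  rw [hx2, smul_smul, mul_inv_cancel₀ hz, one_smul]

theorem map_map_eq (x : V →ₗ[F] V) (z : F) (hz : z ≠ 0) (hx2 : ∀ v, x (x v) = z • v)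
    (T : Submodule F V) : (T.map x).map x = T := by
  apply le_antisymm
  · rintro _ ⟨_, ⟨t, ht, rfl⟩, rfl⟩
    rw [hx2]
    exact T.smul_mem _ ht
  · intro t ht
    refine ⟨x (z⁻¹ • t), ⟨z⁻¹ • t, T.smul_mem _ ht, rfl⟩, ?_⟩
    rw [hx2, smul_smul, mul_inv_cancel₀ hz, one_smul]

theorem map_perpIn (x : V →ₗ[F] V) (z : F) (hz : z ≠ 0) (hx2 : ∀ v, x (x v) = z • v)
    (hiso : ∀ u v, B (x u) (x v) = B u v) {V' S : Submodule F V} (hV' : V'.map x = V')
    (hS : S.map x = S) : (perpIn B V' S).map x = perpIn B V' S := by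
  apply map_eq_of_le x z hz hx2
  rintro _ ⟨t, ht, rfl⟩
  have ht := mem_perpIn.mp ht
  rw [mem_perpIn]
  refine ⟨by rw [← hV']; exact ⟨t, ht.1, rfl⟩, ?_⟩
  intro u hu
  rw [← hS] at hu
  obtain ⟨u', hu', rfl⟩ := hu
  rw [hiso]
  exact ht.2 u' hu'

theorem nondegOn_map (x : V →ₗ[F] V) (hiso : ∀ u v, B (x u) (x v) = B u v) {S : Submodule F V} (hS : NondegOn B S) :
    NondegOn B (S.map x) := by
  rintro _ ⟨s, hs, rfl⟩ h0
  have : s = 0 := by
    apply hS s hs
    intro v hv
    rw [← hiso]
    exact h0 _ ⟨v, hv, rfl⟩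
  rw [this, map_zero]

theorem injective_of_sq (x : V →ₗ[F] V) (z : F) (hz : z ≠ 0) (hx2 : ∀ v, x (x v) = z • v) :
    Function.Injective x := by
  intro u v huv
  have := congrArg x huv
  rw [hx2, hx2] at this
  exact smul_right_injective V hz this

theorem orth_finset_sum (halt : ∀ x, B x x = 0) {ι : Type*} (D : ι → Submodule F V)
    (horth : ∀ k k', k ≠ k' → Orth B (D k) (D k')) (A A' : Finset ι) (h : Disjoint A A') :
    Orth B (⨆ k ∈ A, D k) (⨆ k ∈ A', D k) := by
  apply Orth.iSup_left halt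
  intro k
  apply Orth.iSup_left halt
  intro hk
  apply Orth.iSup_right
  intro k'
  apply Orth.iSup_right
  intro hk'
  apply horth
  rintro rfl
  exact (Finset.disjoint_left.mp h hk) hk'

theorem finset_sum [FiniteDimensional F V] (halt : ∀ x, B x x = 0) {ι : Type*} [DecidableEq ι]
    (D : ι → Submodule F V) (m : ℕ) (hfr : ∀ k, finrank F (D k) = m)
    (hnd : ∀ k, NondegOn B (D k)) (horth : ∀ k k', k ≠ k' → Orth B (D k) (D k'))
    (A : Finset ι) :
    finrank F ↥(⨆ k ∈ A, D k) = m * A.card ∧ NondegOn B (⨆ k ∈ A, D k) := by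
  induction A using Finset.induction_on with
  | empty =>
    have h0 : (⨆ k ∈ (∅ : Finset ι), D k) = ⊥ := by simp
    rw [h0, finrank_bot, Finset.card_empty, mul_zero]
    refine ⟨rfl, ?_⟩
    intro u hu _
    exact (mem_bot F).mp hu
  | insert k A hk ih =>
    have ho : Orth B (D k) (⨆ k' ∈ A, D k') := by
      have := orth_finset_sum halt D horth {k} A (Finset.disjoint_singleton_left.mpr hk)
      simpa using this
    rw [Finset.iSup_insert]
    refine ⟨?_, nondegOn_sup halt ho (hnd k) ih.2⟩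
    rw [finrank_sup_of_orth halt ho (hnd k), hfr, ih.1, Finset.card_insert_of_notMem hk]
    ring

end basic

end Cfsg.Agent.Lib.Helper15.PSpI
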