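import Mathlib
import Cfsg.Agent.Lib.Helper15.PSpI1
import Cfsg.Prelude.Def_GeometricClasses

/-!
# Orthogonal decompositions permuted by an isometry: a small calculus
-/

set_option autoImplicit false

namespace Cfsg.Agent.Lib.Helper15.PSpI

open Module Submodule Cfsg.Agent.Lib.Helper15

section calculus

variable {F V : Type*} [Field F] [AddCommGroup V] [Module F V]
variable (B : V →ₗ[F] V →ₗ[F] F)

/-- `W` is the orthogonal sum of nondegenerate `D j` (`j : κ`) of dimension `a` permuted by `y`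
via `σ` -/
def PDO (y : V →ₗ[F] V) (a : ℕ) (W : Submodule F V) {κ : Type} (σ : Equiv.Perm κ) : Prop :=
  ∃ D : κ → Submodule F V, (∀ j, finrank F (D j) = a) ∧ iSup D = W ∧
    (∀ j, (D j).map y = D (σ j)) ∧ (∀ j, NondegOn B (D j)) ∧
    (∀ j j', j ≠ j' → Orth B (D j) (D j'))

variable {B}

theorem PDO.empty (y : V →ₗ[F] V) (a : ℕ) : PDO B y a ⊥ (1 : Equiv.Perm Empty) :=
  ⟨fun e => e.elim, fun e => e.elim, iSup_of_empty _, fun e => e.elim, fun e => e.elim,
    fun e => e.elim⟩

theorem PDO.single (y : V →ₗ[F] V) (a : ℕ) (W : Submodule F V) (hW : finrank F W = a)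
    (hy : W.map y = W) (hnd : NondegOn B W) : PDO B y a W (1 : Equiv.Perm Unit) :=
  ⟨fun _ => W, fun _ => hW, iSup_const, fun _ => hy, fun _ => hnd,
    fun j j' h => absurd (Subsingleton.elim j j') h⟩

/-- the swap of `Bool` -/
def boolSwap : Equiv.Perm Bool := ⟨not, not, Bool.not_not, Bool.not_not⟩

theorem PDO.pair (y : V →ₗ[F] V) (hinj : Function.Injective y) (a : ℕ) (P : Submodule F V)
    (hP : finrank F P = a) (hyy : (P.map y).map y = P) (hnd : NondegOn B P)
    (hnd' : NondegOn B (P.map y)) (horth : Orth B P (P.map y)) (halt : ∀ x, B x x = 0) :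
    PDO B y a (P ⊔ P.map y) boolSwap := by
  refine ⟨fun b => if b then P.map y else P, ?_, ?_, ?_, ?_, ?_⟩
  · intro b
    cases b
    · exact hP
    · show finrank F (P.map y) = a
      rw [← hP]
      exact (Submodule.equivMapOfInjective y hinj P).finrank_eq.symm
  · apply le_antisymm
    · apply iSup_le
      intro b
      cases b
      · exact le_sup_left
      · exact le_sup_right
    · apply sup_le
      · exact le_iSup (fun b : Bool => if b then P.map y else P) false
      · exact le_iSup (fun b : Bool => if b then P.map y else P) true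
  · intro b
    cases b
    · rfl
    · exact hyy
  · intro b
    cases b
    · exact hnd
    · exact hnd'
  · intro b b' hbb'
    cases b <;> cases b'
    · exact absurd rfl hbb'
    · exact horth
    · exact horth.symm halt
    · exact absurd rfl hbb'

theorem PDO.series {κ₁ κ₂ : Type} {σ₁ : Equiv.Perm κ₁} {σ₂ : Equiv.Perm κ₂} {y : V →ₗ[F] V}
    {a : ℕ} {U W : Submodule F V} (h₁ : PDO B y a U σ₁) (h₂ : PDO B y a W σ₂)
    (ho : Orth B U W) (halt : ∀ x, B x x = 0) :
    PDO B y a (U ⊔ W) (Equiv.sumCongr σ₁ σ₂) := by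
  obtain ⟨D₁, hD₁f, hD₁s, hD₁m, hD₁n, hD₁o⟩ := h₁
  obtain ⟨D₂, hD₂f, hD₂s, hD₂m, hD₂n, hD₂o⟩ := h₂
  have hU : ∀ j, D₁ j ≤ U := fun j => by rw [← hD₁s]; exact le_iSup D₁ j
  have hW : ∀ j, D₂ j ≤ W := fun j => by rw [← hD₂s]; exact le_iSup D₂ j
  refine ⟨Sum.elim D₁ D₂, ?_, ?_, ?_, ?_, ?_⟩
  · rintro (j | j)
    · exact hD₁f j
    · exact hD₂f j
  · rw [iSup_sum]
    simp only [Sum.elim_inl, Sum.elim_inr]
    rw [← hD₁s, ← hD₂s]
  · rintro (j | j)
    · exact hD₁m j
    · exact hD₂m j
  · rintro (j | j)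
    · exact hD₁n j
    · exact hD₂n j
  · rintro (j | j) (j' | j') hjj'
    · exact hD₁o j j' (fun h => hjj' (by rw [h]))
    · exact ho.mono (hU j) (hW j')
    · exact (ho.mono (hU j') (hW j)).symm halt
    · exact hD₂o j j' (fun h => hjj' (by rw [h]))

theorem PDO.iSupIndep {κ : Type} {D : κ → Submodule F V} (halt : ∀ x, B x x = 0)
    (hnd : ∀ j, NondegOn B (D j)) (horth : ∀ j j', j ≠ j' → Orth B (D j) (D j')) :
    iSupIndep D := by
  rw [iSupIndep_def]
  intro i
  apply Orth.disjoint halt _ (hnd i)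
  apply Orth.iSup_right
  intro j
  apply Orth.iSup_right
  intro hj
  exact horth i j (Ne.symm hj)

end calculus

end Cfsg.Agent.Lib.Helper15.PSpI
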