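import Mathlib
import Cfsg.Agent.Lib.Helper15.PSpI2

/-!
# Decomposition of a symplectic space into hyperbolic planes permuted by an element with
scalar square
-/

set_option autoImplicit false

namespace Cfsg.Agent.Lib.Helper15.PSpI

open Module Submodule Cfsg.Agent.Lib.Helper15

section planes

variable {F V : Type*} [Field F] [AddCommGroup V] [Module F V]
variable {B : V →ₗ[F] V →ₗ[F] F}

/-- the plane spanned by a non-orthogonal pair -/
theorem plane_props (halt : ∀ x, B x x = 0) (u w : V) (huw : B u w ≠ 0) :
    finrank F (span F ({u, w} : Set V)) = 2 ∧ NondegOn B (span F ({u, w} : Set V)) := by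
  constructor
  · have hli : LinearIndependent F ![u, w] := by
      rw [LinearIndependent.pair_iff]
      intro s t hst
      have h1 : B (s • u + t • w) w = 0 := by rw [hst]; simp
      have h2 : B u (s • u + t • w) = 0 := by rw [hst]; simp
      rw [map_add, map_smul, map_smul, LinearMap.add_apply, LinearMap.smul_apply,
        LinearMap.smul_apply, halt, smul_zero, add_zero, smul_eq_mul] at h1
      rw [map_add, map_smul, map_smul, halt, smul_zero, zero_add, smul_eq_mul] at h2
      exact ⟨(mul_eq_zero.mp h1).resolve_right huw, (mul_eq_zero.mp h2).resolve_right huw⟩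
    have h3 : finrank F (span F (Set.range ![u, w])) = 2 := by
      rw [finrank_span_eq_card hli, Fintype.card_fin]
    have h4 : Set.range ![u, w] = ({u, w} : Set V) := by
      ext v
      simp only [Set.mem_range, Fin.exists_fin_two, Matrix.cons_val_zero, Matrix.cons_val_one,
        Set.mem_insert_iff, Set.mem_singleton_iff, eq_comm]
    rw [← h4]
    exact h3
  · intro v hv h0
    obtain ⟨a, b, rfl⟩ := mem_span_pair.mp hv
    have h1 := h0 w (subset_span (by simp))
    have h2 := h0 u (subset_span (by simp))
    rw [map_add, map_smul, map_smul, LinearMap.add_apply, LinearMap.smul_apply,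
      LinearMap.smul_apply, halt, smul_zero, add_zero, smul_eq_mul] at h1
    rw [map_add, map_smul, map_smul, LinearMap.add_apply, LinearMap.smul_apply,
      LinearMap.smul_apply, halt, smul_zero, zero_add, smul_eq_mul, alt_swap B halt w u, mul_neg,
      neg_eq_zero] at h2
    rw [(mul_eq_zero.mp h1).resolve_right huw, (mul_eq_zero.mp h2).resolve_right huw]
    simp

theorem span_pair_le {S : Submodule F V} {u w : V} (hu : u ∈ S) (hw : w ∈ S) :
    span F ({u, w} : Set V) ≤ S := by
  rw [span_le]
  intro v hv
  rcases hv with rfl | rfl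
  · exact hu
  · exact hw

/-- the basic block: an invariant plane or a plane orthogonal to its image -/
theorem exists_block [FiniteDimensional F V] (halt : ∀ x, B x x = 0) (x : V →ₗ[F] V) (z : F)
    (hz : z ≠ 0) (hx2 : ∀ v, x (x v) = z • v) (hiso : ∀ u v, B (x u) (x v) = B u v)
    (V' : Submodule F V) (hV'x : V'.map x = V') (hV'n : NondegOn B V') (hV'0 : V' ≠ ⊥) :
    ∃ P : Submodule F V, P ≤ V' ∧ finrank F P = 2 ∧ NondegOn B P ∧
      (P.map x = P ∨ Orth B P (P.map x)) := by
  have hxV' : ∀ v ∈ V', x v ∈ V' := fun v hv => by rw [← hV'x]; exact ⟨v, hv, rfl⟩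
  by_cases hA : ∃ v ∈ V', B v (x v) ≠ 0
  · obtain ⟨v, hv, hvx⟩ := hA
    obtain ⟨h1, h2⟩ := plane_props halt v (x v) hvx
    refine ⟨span F {v, x v}, span_pair_le hv (hxV' v hv), h1, h2, Or.inl ?_⟩
    apply map_eq_of_le x z hz hx2
    rw [Submodule.map_span_le]
    intro p hp
    rcases hp with rfl | rfl
    · exact subset_span (by simp)
    · rw [hx2]
      exact Submodule.smul_mem _ _ (subset_span (by simp))
  · push Not at hA
    by_cases hB : ∃ u ∈ V', x u ∉ span F ({u} : Set V)
    · obtain ⟨u, hu, hxu⟩ := hB
      have hu0 : u ≠ 0 := by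
        rintro rfl
        apply hxu
        rw [map_zero]
        exact zero_mem _
      have hxu0 : x u ≠ 0 := by
        intro h
        apply hxu
        rw [h]
        exact zero_mem _
      obtain ⟨w, hw, hw1, hw2⟩ : ∃ w ∈ V', B (x u) w = 0 ∧ B u w ≠ 0 := by
        by_contra hcon
        push Not at hcon
        obtain ⟨w₀, hw₀, hw₀'⟩ : ∃ w₀ ∈ V', B (x u) w₀ ≠ 0 := by
          by_contra h
          push Not at h
          exact hxu0 (hV'n (x u) (hxV' u hu) h)
        have key : ∀ w ∈ V', B (u - (B u w₀ / B (x u) w₀) • x u) w = 0 := by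
          intro w hw
          have h1 := hcon (w - (B (x u) w / B (x u) w₀) • w₀)
            (V'.sub_mem hw (V'.smul_mem _ hw₀)) (by
              rw [map_sub, map_smul, smul_eq_mul, div_mul_cancel₀ _ hw₀', sub_self])
          rw [map_sub, map_smul, smul_eq_mul, sub_eq_zero] at h1
          rw [map_sub, map_smul, LinearMap.sub_apply, LinearMap.smul_apply, smul_eq_mul, h1]
          field_simp
          ring
        have h2 := hV'n _ (V'.sub_mem hu (V'.smul_mem _ (hxV' u hu))) key
        rw [sub_eq_zero] at h2
        have hc : B u w₀ / B (x u) w₀ ≠ 0 := by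
          intro hc
          rw [hc, zero_smul] at h2
          exact hu0 h2
        apply hxu
        rw [mem_span_singleton]
        refine ⟨(B u w₀ / B (x u) w₀)⁻¹, ?_⟩
        rw [inv_smul_eq_iff₀ hc]
        exact h2
      obtain ⟨h1, h2⟩ := plane_props halt u w hw2
      refine ⟨span F {u, w}, span_pair_le hu hw, h1, h2, Or.inr ?_⟩
      rw [orth_iff_le, Submodule.map_span_le]
      intro p hp
      rw [mem_orthogonalBilin_iff]
      intro p' hp'
      obtain ⟨a, b, rfl⟩ := mem_span_pair.mp hp'
      have huxw : B u (x w) = 0 := by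
        rw [← hiso, hx2, map_smul, smul_eq_mul, hw1, mul_zero]
      have hwxu : B w (x u) = 0 := by rw [alt_swap B halt, hw1, neg_zero]
      rcases hp with h | h
      · rw [h, map_add, map_smul, map_smul, LinearMap.add_apply, LinearMap.smul_apply,
          LinearMap.smul_apply, hA u hu, hwxu, smul_zero, smul_zero, add_zero]
      · have h' : p = w := h
        rw [h', map_add, map_smul, map_smul, LinearMap.add_apply, LinearMap.smul_apply,
          LinearMap.smul_apply, hA w hw, huxw, smul_zero, smul_zero, add_zero]
    · push Not at hB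
      obtain ⟨u, hu, hu0⟩ := (Submodule.ne_bot_iff V').mp hV'0
      obtain ⟨w, hw, huw⟩ : ∃ w ∈ V', B u w ≠ 0 := by
        by_contra h
        push Not at h
        exact hu0 (hV'n u hu h)
      obtain ⟨h1, h2⟩ := plane_props halt u w huw
      refine ⟨span F {u, w}, span_pair_le hu hw, h1, h2, Or.inl ?_⟩
      apply map_eq_of_le x z hz hx2
      rw [Submodule.map_span_le]
      intro p hp
      rcases hp with rfl | rfl
      · exact span_mono (by simp) (hB p hu)
      · exact span_mono (by simp) (hB p hw)

/-- every invariant nondegenerate subspace is an orthogonal sum of planes permuted by `x` -/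
theorem exists_planes [FiniteDimensional F V] (halt : ∀ x, B x x = 0) (x : V →ₗ[F] V) (z : F)
    (hz : z ≠ 0) (hx2 : ∀ v, x (x v) = z • v) (hiso : ∀ u v, B (x u) (x v) = B u v) :
    ∀ (n : ℕ) (V' : Submodule F V), V'.map x = V' → NondegOn B V' → finrank F V' = n →
      ∃ (ι : Type) (_ : Fintype ι) (π : Equiv.Perm ι), PDO B x 2 V' π := by
  intro n
  induction n using Nat.strong_induction_on with
  | _ n ih =>
    intro V' hV'x hV'n hfr
    by_cases hV'0 : V' = ⊥
    · rw [hV'0]
      exact ⟨Empty, inferInstance, 1, PDO.empty x 2⟩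
    · obtain ⟨P, hPV', hP2, hPn, hPx⟩ := exists_block halt x z hz hx2 hiso V' hV'x hV'n hV'0
      have hinj := injective_of_sq x z hz hx2
      rcases hPx with hPx | hPx
      · -- invariant plane
        have hT := map_perpIn x z hz hx2 hiso hV'x hPx
        have hTn := nondegOn_perpIn halt hPV' hPn hV'n
        have hTf := finrank_perpIn halt hPV' hPn (V' := V')
        obtain ⟨ι, hι, π, hπ⟩ := ih (finrank F (perpIn B V' P)) (by omega) _ hT hTn rfl
        refine ⟨Unit ⊕ ι, inferInstance, Equiv.sumCongr 1 π, ?_⟩
        have := PDO.series (PDO.single x 2 P hP2 hPx hPn) hπ (orth_perpIn V' P) halt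
        rwa [sup_perpIn halt hPV' hPn] at this
      · -- swapped pair
        have hxP : P.map x ≤ V' := by
          rw [← hV'x]
          exact Submodule.map_mono hPV'
        have hxPn : NondegOn B (P.map x) := nondegOn_map x hiso hPn
        have hS : (P ⊔ P.map x).map x = P ⊔ P.map x := by
          rw [Submodule.map_sup, map_map_eq x z hz hx2, sup_comm]
        have hSV' : P ⊔ P.map x ≤ V' := sup_le hPV' hxP
        have hSn : NondegOn B (P ⊔ P.map x) := nondegOn_sup halt hPx hPn hxPn
        have hSf : finrank F ↥(P ⊔ P.map x) = 4 := by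
          rw [finrank_sup_of_orth halt hPx hPn, hP2,
            ← (Submodule.equivMapOfInjective x hinj P).finrank_eq, hP2]
        have hT := map_perpIn x z hz hx2 hiso hV'x hS
        have hTn := nondegOn_perpIn halt hSV' hSn hV'n
        have hTf := finrank_perpIn halt hSV' hSn (V' := V')
        obtain ⟨ι, hι, π, hπ⟩ := ih (finrank F (perpIn B V' (P ⊔ P.map x))) (by omega) _ hT hTn rfl
        refine ⟨Bool ⊕ ι, inferInstance, Equiv.sumCongr boolSwap π, ?_⟩
        have := PDO.series (PDO.pair x hinj 2 P hP2 (map_map_eq x z hz hx2 P) hPn hxPn hPx halt) hπ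
          (orth_perpIn V' (P ⊔ P.map x)) halt
        rwa [sup_perpIn halt hSV' hSn] at this

end planes

end Cfsg.Agent.Lib.Helper15.PSpI
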