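import Mathlib
import Cfsg.Agent.Lib.Helper15.PSpI3

/-!
# Grouping planes into summands of a prescribed even dimension
-/

set_option autoImplicit false

namespace Cfsg.Agent.Lib.Helper15.PSpI

open Module Submodule Cfsg.Agent.Lib.Helper15

section comb

/-- an involution on a set of `h t'` points has an invariant `h`-subset or an `h`-subset disjoint
from its image -/
theorem exists_selection {ι : Type} [Fintype ι] [DecidableEq ι] (π : Equiv.Perm ι)
    (hπ : ∀ k, π (π k) = k) (h t' : ℕ) (ht' : 1 ≤ t')
    (hcard : Fintype.card ι = h * t') :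
    (∃ A : Finset ι, A.image π = A ∧ A.card = h) ∨
    (∃ A : Finset ι, Disjoint A (A.image π) ∧ A.card = h) := by
  classical
  obtain ⟨_, _⟩ := exists_wellFoundedLT ι
  obtain ⟨Fix, hFix⟩ : ∃ Fix : Finset ι, Fix = Finset.univ.filter (fun k => π k = k) := ⟨_, rfl⟩
  obtain ⟨T, hT⟩ : ∃ T : Finset ι, T = Finset.univ.filter (fun k => k < π k) := ⟨_, rfl⟩
  have hFixmem : ∀ k, k ∈ Fix ↔ π k = k := by intro k; rw [hFix]; simp
  have hTmem : ∀ k, k ∈ T ↔ k < π k := by intro k; rw [hT]; simp
  have hT'mem : ∀ k, k ∈ T.image π ↔ π k < k := by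
    intro k
    rw [Finset.mem_image]
    constructor
    · rintro ⟨k', hk', rfl⟩
      rw [hπ]
      exact (hTmem k').mp hk'
    · intro hk
      exact ⟨π k, (hTmem _).mpr (by rw [hπ]; exact hk), hπ k⟩
  have hd1 : Disjoint Fix T := by
    rw [Finset.disjoint_left]
    intro k hk hk'
    rw [hFixmem] at hk
    rw [hTmem, hk] at hk'
    exact lt_irrefl _ hk'
  have hd2 : Disjoint Fix (T.image π) := by
    rw [Finset.disjoint_left]
    intro k hk hk'
    rw [hFixmem] at hk
    rw [hT'mem, hk] at hk'
    exact lt_irrefl _ hk'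
  have hd3 : Disjoint T (T.image π) := by
    rw [Finset.disjoint_left]
    intro k hk hk'
    rw [hTmem] at hk
    rw [hT'mem] at hk'
    exact lt_asymm hk hk'
  have huniv : (Finset.univ : Finset ι) = Fix ∪ (T ∪ T.image π) := by
    ext k
    simp only [Finset.mem_univ, Finset.mem_union, true_iff]
    rcases lt_trichotomy k (π k) with h1 | h1 | h1
    · exact Or.inr (Or.inl ((hTmem k).mpr h1))
    · exact Or.inl ((hFixmem k).mpr h1.symm)
    · exact Or.inr (Or.inr ((hT'mem k).mpr h1))
  have hcount : Fix.card + 2 * T.card = h * t' := by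
    rw [← hcard, ← Finset.card_univ, huniv,
      Finset.card_union_of_disjoint (Finset.disjoint_union_right.mpr ⟨hd1, hd2⟩),
      Finset.card_union_of_disjoint hd3, Finset.card_image_of_injective _ π.injective]
    ring
  have hht : h ≤ h * t' := Nat.le_mul_of_pos_right h ht'
  by_cases hcase : h - 2 * min T.card (h / 2) ≤ Fix.card
  · left
    obtain ⟨Af, hAf, hAfc⟩ := Finset.exists_subset_card_eq hcase
    obtain ⟨Ac, hAc, hAcc⟩ := Finset.exists_subset_card_eq (min_le_left T.card (h / 2))
    have hAfπ : Af.image π = Af := by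
      ext k
      rw [Finset.mem_image]
      constructor
      · rintro ⟨k', hk', rfl⟩
        rw [(hFixmem k').mp (hAf hk')]
        exact hk'
      · intro hk
        exact ⟨k, hk, (hFixmem k).mp (hAf hk)⟩
    have hAcππ : (Ac.image π).image π = Ac := by
      ext k
      simp only [Finset.mem_image]
      constructor
      · rintro ⟨_, ⟨k', hk', rfl⟩, rfl⟩
        rw [hπ]
        exact hk'
      · intro hk
        exact ⟨π k, ⟨k, hk, rfl⟩, hπ k⟩
    refine ⟨Af ∪ (Ac ∪ Ac.image π), ?_, ?_⟩
    · rw [Finset.image_union, Finset.image_union, hAfπ, hAcππ, Finset.union_comm (Ac.image π) Ac]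
    · have hdA3 : Disjoint Ac (Ac.image π) :=
        Disjoint.mono hAc (Finset.image_subset_image hAc) hd3
      have hdA12 : Disjoint Af (Ac ∪ Ac.image π) := by
        rw [Finset.disjoint_union_right]
        exact ⟨Disjoint.mono hAf hAc hd1, Disjoint.mono hAf (Finset.image_subset_image hAc) hd2⟩
      rw [Finset.card_union_of_disjoint hdA12, Finset.card_union_of_disjoint hdA3,
        Finset.card_image_of_injective _ π.injective, hAfc, hAcc]
      have : min T.card (h / 2) ≤ h / 2 := min_le_right _ _
      omega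
  · right
    have hTh : h ≤ T.card := by
      rcases le_total T.card (h / 2) with hle | hle
      · rw [min_eq_left hle] at hcase
        omega
      · rw [min_eq_right hle] at hcase
        have hf0 : Fix.card = 0 := by omega
        have hodd : h % 2 = 1 := by omega
        have h2 : (h * t') % 2 = 0 := by omega
        rw [Nat.mul_mod, hodd, one_mul, Nat.mod_mod] at h2
        have ht2 : 2 ≤ t' := by omega
        have := Nat.mul_le_mul_left h ht2
        omega
    obtain ⟨A, hA, hAc⟩ := Finset.exists_subset_card_eq hTh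
    exact ⟨A, Disjoint.mono hA (Finset.image_subset_image hA) hd3, hAc⟩

end comb

section step

variable {F V : Type*} [Field F] [AddCommGroup V] [Module F V] [FiniteDimensional F V]
variable {B : V →ₗ[F] V →ₗ[F] F}

/-- an invariant nondegenerate summand of dimension `2h`, or one orthogonal to its image -/
theorem exists_summand (halt : ∀ x, B x x = 0) (x : V →ₗ[F] V) (z : F)
    (hz : z ≠ 0) (hx2 : ∀ v, x (x v) = z • v) (hiso : ∀ u v, B (x u) (x v) = B u v)
    (h t' : ℕ) (ht' : 1 ≤ t') (V' : Submodule F V) (hV'x : V'.map x = V')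
    (hV'n : NondegOn B V') (hfr : finrank F V' = 2 * (h * t')) :
    (∃ D : Submodule F V, D ≤ V' ∧ finrank F D = 2 * h ∧ NondegOn B D ∧ D.map x = D) ∨
    (∃ D : Submodule F V, D ≤ V' ∧ finrank F D = 2 * h ∧ NondegOn B D ∧
      Orth B D (D.map x)) := by
  classical
  obtain ⟨ι, hι, π, D, hDf, hDs, hDm, hDn, hDo⟩ :=
    exists_planes halt x z hz hx2 hiso _ V' hV'x hV'n rfl
  have hDinj : Function.Injective D := by
    apply (PDO.iSupIndep halt hDn hDo).injective
    intro k hk
    have := hDf k
    rw [hk, finrank_bot] at this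
    omega
  have hπ : ∀ k, π (π k) = k := by
    intro k
    apply hDinj
    rw [← hDm, ← hDm, map_map_eq x z hz hx2]
  have hsumA : ∀ A : Finset ι, (⨆ k ∈ A, D k) ≤ V' := by
    intro A
    rw [← hDs]
    exact iSup₂_le fun k _ => le_iSup D k
  have hcard : Fintype.card ι = h * t' := by
    have h1 := (finset_sum halt D 2 hDf hDn hDo Finset.univ).1
    have h2 : (⨆ k ∈ (Finset.univ : Finset ι), D k) = V' := by
      rw [← hDs]
      simp
    rw [h2, hfr, Finset.card_univ] at h1
    omega
  have hmapA : ∀ A : Finset ι, (⨆ k ∈ A, D k).map x = ⨆ k ∈ A.image π, D k := by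
    intro A
    rw [Finset.iSup_finset_image, Submodule.map_iSup]
    apply iSup_congr
    intro k
    rw [Submodule.map_iSup]
    apply iSup_congr
    intro _
    exact hDm k
  rcases exists_selection π hπ h t' ht' hcard with ⟨A, hA1, hA2⟩ | ⟨A, hA1, hA2⟩
  · left
    obtain ⟨h1, h2⟩ := finset_sum halt D 2 hDf hDn hDo A
    refine ⟨⨆ k ∈ A, D k, hsumA A, by rw [h1, hA2], h2, ?_⟩
    rw [hmapA, hA1]
  · right
    obtain ⟨h1, h2⟩ := finset_sum halt D 2 hDf hDn hDo A
    refine ⟨⨆ k ∈ A, D k, hsumA A, by rw [h1, hA2], h2, ?_⟩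
    rw [hmapA]
    exact orth_finset_sum halt D hDo A (A.image π) hA1

/-- the main decomposition theorem -/
theorem exists_decomp (halt : ∀ x, B x x = 0) (x : V →ₗ[F] V) (z : F)
    (hz : z ≠ 0) (hx2 : ∀ v, x (x v) = z • v) (hiso : ∀ u v, B (x u) (x v) = B u v)
    (h : ℕ) (hh : 1 ≤ h) :
    ∀ (t' : ℕ) (V' : Submodule F V), V'.map x = V' → NondegOn B V' →
      finrank F V' = 2 * (h * t') →
      ∃ (κ : Type) (_ : Fintype κ) (σ : Equiv.Perm κ), Fintype.card κ = t' ∧
        PDO B x (2 * h) V' σ := by
  intro t'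
  induction t' using Nat.strong_induction_on with
  | _ t' ih =>
    intro V' hV'x hV'n hfr
    have hinj := injective_of_sq x z hz hx2
    rcases Nat.eq_zero_or_pos t' with ht0 | htpos
    · have hV'0 : V' = ⊥ := by
        apply Submodule.finrank_eq_zero.mp
        rw [hfr, ht0, mul_zero, mul_zero]
      rw [hV'0, ht0]
      exact ⟨Empty, inferInstance, 1, by simp, PDO.empty x (2 * h)⟩
    · rcases exists_summand halt x z hz hx2 hiso h t' htpos V' hV'x hV'n hfr with
        ⟨D, hDV', hDf, hDn, hDx⟩ | ⟨D, hDV', hDf, hDn, hDx⟩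
      · obtain ⟨t'', rfl⟩ : ∃ t'', t' = t'' + 1 := ⟨t' - 1, by omega⟩
        have hT := map_perpIn x z hz hx2 hiso hV'x hDx
        have hTn := nondegOn_perpIn halt hDV' hDn hV'n
        have hTf := finrank_perpIn halt hDV' hDn (V' := V')
        have hTf' : finrank F (perpIn B V' D) = 2 * (h * t'') := by
          rw [hDf, hfr, Nat.mul_succ] at hTf
          omega
        obtain ⟨κ, hκ, σ, hκc, hσ⟩ := ih t'' (by omega) _ hT hTn hTf'
        refine ⟨Unit ⊕ κ, inferInstance, Equiv.sumCongr 1 σ, ?_, ?_⟩
        · rw [Fintype.card_sum, hκc, Fintype.card_unit, add_comm]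
        · have := PDO.series (PDO.single x (2 * h) D hDf hDx hDn) hσ (orth_perpIn V' D) halt
          rwa [sup_perpIn halt hDV' hDn] at this
      · have hxD : D.map x ≤ V' := by
          rw [← hV'x]
          exact Submodule.map_mono hDV'
        have hxDn : NondegOn B (D.map x) := nondegOn_map x hiso hDn
        have hS : (D ⊔ D.map x).map x = D ⊔ D.map x := by
          rw [Submodule.map_sup, map_map_eq x z hz hx2, sup_comm]
        have hSV' : D ⊔ D.map x ≤ V' := sup_le hDV' hxD
        have hSn : NondegOn B (D ⊔ D.map x) := nondegOn_sup halt hDx hDn hxDn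
        have hSf : finrank F ↥(D ⊔ D.map x) = 2 * h + 2 * h := by
          rw [finrank_sup_of_orth halt hDx hDn, hDf,
            ← (Submodule.equivMapOfInjective x hinj D).finrank_eq, hDf]
        have hT := map_perpIn x z hz hx2 hiso hV'x hS
        have hTn := nondegOn_perpIn halt hSV' hSn hV'n
        have hTf := finrank_perpIn halt hSV' hSn (V' := V')
        have ht2 : 2 ≤ t' := by
          by_contra hlt
          have h1 : t' = 1 := by omega
          rw [hSf, hfr, h1, mul_one] at hTf
          omega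
        obtain ⟨t'', rfl⟩ : ∃ t'', t' = t'' + 2 := ⟨t' - 2, by omega⟩
        have hTf' : finrank F (perpIn B V' (D ⊔ D.map x)) = 2 * (h * t'') := by
          rw [hSf, hfr, Nat.mul_add] at hTf
          omega
        obtain ⟨κ, hκ, σ, hκc, hσ⟩ := ih t'' (by omega) _ hT hTn hTf'
        refine ⟨Bool ⊕ κ, inferInstance, Equiv.sumCongr boolSwap σ, ?_, ?_⟩
        · rw [Fintype.card_sum, hκc, Fintype.card_bool, add_comm]
        · have := PDO.series
            (PDO.pair x hinj (2 * h) D hDf (map_map_eq x z hz hx2 D) hDn hxDn hDx halt) hσ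
            (orth_perpIn V' (D ⊔ D.map x)) halt
          rwa [sup_perpIn halt hSV' hSn] at this

end step

end Cfsg.Agent.Lib.Helper15.PSpI
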