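import Mathlib
import Cfsg.Agent.Lib.Helper15.PSpI4
import Cfsg.Agent.Lib.Helper15.PDec8

/-!
# Isometries of prime order of an alternating space: adjoints, fixed part, profile
-/

set_option autoImplicit false

namespace Cfsg.Agent.Lib.Helper15.PSpJ

open Module Submodule Polynomial Cfsg.Agent.Lib.Helper15 Cfsg.Agent.Lib.Helper15.PSpI
  Cfsg.Agent.Lib.Helper15.PSub Cfsg.Agent.Lib.Helper15.PDec

section adjoint

variable {F V : Type*} [Field F] [AddCommGroup V] [Module F V]
variable {B : V →ₗ[F] V →ₗ[F] F}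

theorem adj_pow (y y' : V →ₗ[F] V) (hiso : ∀ u v, B (y u) (y v) = B u v)
    (hinv : ∀ w, y (y' w) = w) (n : ℕ) (u w : V) : B ((y ^ n) u) w = B u ((y' ^ n) w) := by
  induction n generalizing u w with
  | zero => simp
  | succ n ih =>
    rw [pow_succ', Module.End.mul_apply, pow_succ, Module.End.mul_apply, ← ih]
    nth_rewrite 1 [← hinv w]
    rw [hiso]

theorem adj_aeval (y y' : V →ₗ[F] V) (hiso : ∀ u v, B (y u) (y v) = B u v)
    (hinv : ∀ w, y (y' w) = w) (g : F[X]) (u w : V) :
    B (aeval y g u) w = B u (aeval y' g w) := by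
  induction g using Polynomial.induction_on' with
  | add p q hp hq =>
    rw [map_add, map_add, LinearMap.add_apply, LinearMap.add_apply, map_add, map_add,
      LinearMap.add_apply, hp, hq]
  | monomial n a =>
    rw [aeval_monomial, aeval_monomial, Module.End.mul_apply, Module.End.mul_apply,
      Module.algebraMap_end_apply, Module.algebraMap_end_apply, map_smul, map_smul,
      LinearMap.smul_apply, adj_pow y y' hiso hinv]

theorem frob_aeval [Fintype F] (y : V →ₗ[F] V) (g : F[X]) (m : ℕ) :
    aeval (y ^ (Fintype.card F ^ m)) g = (aeval y g) ^ (Fintype.card F ^ m) := by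
  induction m with
  | zero => simp
  | succ m ih =>
    rw [pow_succ, pow_mul, ← expand_aeval, FiniteField.expand_card, map_pow, ih, ← pow_mul]

end adjoint

section parity

variable {F V : Type*} [Field F] [AddCommGroup V] [Module F V] [FiniteDimensional F V]
variable {B : V →ₗ[F] V →ₗ[F] F}

/-- a subspace on which an alternating form is nondegenerate has even dimension -/
theorem even_finrank_of_nondegOn (halt : ∀ x, B x x = 0) (S : Submodule F V)
    (hS : NondegOn B S) : Even (finrank F S) := by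
  classical
  obtain ⟨ι, hι, π, D, hDf, hDs, hDm, hDn, hDo⟩ :=
    exists_planes halt (LinearMap.id : V →ₗ[F] V) 1 one_ne_zero (fun v => by simp)
      (fun u v => rfl) _ S (Submodule.map_id S) hS rfl
  have h1 := (finset_sum halt D 2 hDf hDn hDo Finset.univ).1
  have h2 : (⨆ k ∈ (Finset.univ : Finset ι), D k) = S := by
    rw [← hDs]
    simp
  rw [h2] at h1
  rw [h1]
  exact even_two_mul _

/-- a nondegenerate subspace of prescribed even dimension inside a nondegenerate subspace -/
theorem exists_nondeg_le (halt : ∀ x, B x x = 0) (S : Submodule F V) (hS : NondegOn B S)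
    (f : ℕ) (hf : 2 * f ≤ finrank F S) :
    ∃ S' : Submodule F V, S' ≤ S ∧ NondegOn B S' ∧ finrank F S' = 2 * f := by
  classical
  obtain ⟨ι, hι, π, D, hDf, hDs, hDm, hDn, hDo⟩ :=
    exists_planes halt (LinearMap.id : V →ₗ[F] V) 1 one_ne_zero (fun v => by simp)
      (fun u v => rfl) _ S (Submodule.map_id S) hS rfl
  have h1 := (finset_sum halt D 2 hDf hDn hDo Finset.univ).1
  have h2 : (⨆ k ∈ (Finset.univ : Finset ι), D k) = S := by
    rw [← hDs]
    simp
  rw [h2] at h1
  have hfc : f ≤ (Finset.univ : Finset ι).card := by omega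
  obtain ⟨A, -, hA⟩ := Finset.exists_subset_card_eq hfc
  obtain ⟨h3, h4⟩ := finset_sum halt D 2 hDf hDn hDo A
  refine ⟨⨆ k ∈ A, D k, ?_, h4, by rw [h3, hA]⟩
  rw [← hDs]
  exact iSup₂_le fun k _ => le_iSup D k

end parity

section prime

variable {F V : Type*} [Field F] [AddCommGroup V] [Module F V] [FiniteDimensional F V]
variable {B : V →ₗ[F] V →ₗ[F] F}

omit [FiniteDimensional F V] in
theorem pow_fixed (y : V →ₗ[F] V) (n : ℕ) (c : V) (hc : y c = c) : (y ^ n) c = c := by
  induction n with
  | zero => simp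
  | succ n ih => rw [pow_succ, Module.End.mul_apply, hc, ih]

omit [FiniteDimensional F V] in
theorem iso_pow (y : V →ₗ[F] V) (hiso : ∀ u v, B (y u) (y v) = B u v) (n : ℕ) (u v : V) :
    B ((y ^ n) u) ((y ^ n) v) = B u v := by
  induction n with
  | zero => simp
  | succ n ih => rw [pow_succ', Module.End.mul_apply, Module.End.mul_apply, hiso, ih]

omit [FiniteDimensional F V] in
theorem pow_mem_of_map_eq (y : V →ₗ[F] V) {V' : Submodule F V} (hV'x : V'.map y = V') (n : ℕ)
    {v : V} (hv : v ∈ V') : (y ^ n) v ∈ V' := by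
  induction n with
  | zero => simpa using hv
  | succ n ih =>
    rw [pow_succ', Module.End.mul_apply, ← hV'x]
    exact ⟨_, ih, rfl⟩

omit [FiniteDimensional F V] in
theorem fix_of_mem_inf (y : V →ₗ[F] V) {V' : Submodule F V} {c : V}
    (hc : c ∈ V' ⊓ Module.End.eigenspace y 1) : y c = c := by
  have := (Submodule.mem_inf.mp hc).2
  rwa [Module.End.mem_eigenspace_iff, one_smul] at this

/-- the fixed part of an invariant nondegenerate subspace is nondegenerate -/
theorem nondegOn_fixed (y : V →ₗ[F] V) (hiso : ∀ u v, B (y u) (y v) = B u v) (r : ℕ)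
    (hr0 : (r : F) ≠ 0) (hy : y ^ r = 1) (V' : Submodule F V) (hV'x : V'.map y = V')
    (hV'n : NondegOn B V') : NondegOn B (V' ⊓ Module.End.eigenspace y 1) := by
  intro c hc hc0
  apply hV'n c hc.1
  intro v hv
  have hcfix : y c = c := fix_of_mem_inf y hc
  have hT : (∑ i ∈ Finset.range r, y ^ i) v ∈ V' ⊓ Module.End.eigenspace y 1 := by
    refine ⟨?_, trace_fixed y r hy v⟩
    rw [LinearMap.sum_apply]
    exact Submodule.sum_mem _ fun i _ => pow_mem_of_map_eq y hV'x i hv
  have h1 := hc0 _ hT
  rw [LinearMap.sum_apply, map_sum] at h1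
  have h2 : ∀ i ∈ Finset.range r, B c ((y ^ i) v) = B c v := by
    intro i _
    nth_rewrite 1 [← pow_fixed y i c hcfix]
    exact iso_pow y hiso i c v
  rw [Finset.sum_congr rfl h2, Finset.sum_const, Finset.card_range, nsmul_eq_mul] at h1
  exact (mul_eq_zero.mp h1).resolve_left hr0

/-- the moved part: the orthogonal complement of the fixed part -/
def movPart (B : V →ₗ[F] V →ₗ[F] F) (y : V →ₗ[F] V) (V' : Submodule F V) : Submodule F V :=
  perpIn B V' (V' ⊓ Module.End.eigenspace y 1)

omit [FiniteDimensional F V] in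
theorem movPart_le (y : V →ₗ[F] V) (V' : Submodule F V) : movPart B y V' ≤ V' := perpIn_le _ _

theorem movPart_props (halt : ∀ x, B x x = 0) (y : V →ₗ[F] V)
    (hiso : ∀ u v, B (y u) (y v) = B u v) (r : ℕ) (hr : r ≠ 0)
    (hr0 : (r : F) ≠ 0) (hy : y ^ r = 1) (V' : Submodule F V) (hV'x : V'.map y = V')
    (hV'n : NondegOn B V') :
    (movPart B y V').map y = movPart B y V' ∧ NondegOn B (movPart B y V') ∧
      movPart B y V' ⊓ Module.End.eigenspace y 1 = ⊥ ∧
      finrank F ↥(V' ⊓ Module.End.eigenspace y 1) + finrank F (movPart B y V') = finrank F V' ∧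
      (V' ⊓ Module.End.eigenspace y 1) ⊔ movPart B y V' = V' ∧
      Orth B (V' ⊓ Module.End.eigenspace y 1) (movPart B y V') := by
  have hCn := nondegOn_fixed y hiso r hr0 hy V' hV'x hV'n
  have hinj : Function.Injective y :=
    injective_of_pow_eq_smul y r 1 one_ne_zero (by rw [hy, one_smul]) hr
  refine ⟨?_, nondegOn_perpIn halt inf_le_left hCn hV'n, ?_, finrank_perpIn halt inf_le_left hCn,
    sup_perpIn halt inf_le_left hCn, orth_perpIn _ _⟩
  · apply map_eq_of_invt y hinj
    rw [Module.End.mem_invtSubmodule_iff_map_le]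
    rintro _ ⟨t, ht, rfl⟩
    have ht' := mem_perpIn.mp ht
    refine mem_perpIn.mpr ⟨by rw [← hV'x]; exact ⟨t, ht'.1, rfl⟩, ?_⟩
    intro u hu
    have hufix : y u = u := fix_of_mem_inf y hu
    rw [← hufix, hiso]
    exact ht'.2 u hu
  · rw [eq_bot_iff]
    intro v hv
    have h1 : v ∈ V' ⊓ Module.End.eigenspace y 1 := ⟨movPart_le y V' hv.1, hv.2⟩
    have h2 := hCn v h1 (fun u hu => by
      rw [alt_swap B halt]
      rw [(mem_perpIn.mp hv.1).2 u hu, neg_zero])
    rw [h2]
    exact zero_mem _

end prime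

section profile

variable {F V : Type*} [Field F] [Fintype F] [AddCommGroup V] [Module F V] [FiniteDimensional F V]
variable {B : V →ₗ[F] V →ₗ[F] F}

/-- the block size: `i` if `i` is even and `2i` otherwise -/
def cOf (i : ℕ) : ℕ := if Even i then i else 2 * i

theorem cOf_pos {i : ℕ} (hi : 0 < i) : 0 < cOf i := by
  unfold cOf
  split_ifs <;> omega

theorem cOf_even {i : ℕ} : Even (cOf i) := by
  unfold cOf
  split_ifs with h
  · exact h
  · exact even_two_mul i

theorem ne_zero_of_ne' (p : ℕ) [hp : Fact p.Prime] [CharP F p] (r : ℕ) (hr : r.Prime)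
    (hrp : r ≠ p) : (r : F) ≠ 0 := by
  intro h0
  rw [CharP.cast_eq_zero_iff F p r] at h0
  exact hrp ((Nat.prime_dvd_prime_iff_eq hp.out hr).mp h0).symm

/-- the dimension of the moved part of an invariant nondegenerate subspace is a multiple of the
block size -/
theorem movPart_profile (p : ℕ) [Fact p.Prime] [CharP F p] (r : ℕ) [hr : Fact r.Prime]
    (hrp : r ≠ p) (halt : ∀ x, B x x = 0) (y : V →ₗ[F] V)
    (hiso : ∀ u v, B (y u) (y v) = B u v) (hy : y ^ r = 1) (V' : Submodule F V)
    (hV'x : V'.map y = V') (hV'n : NondegOn B V') :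
    ∃ s : ℕ, finrank F (movPart B y V') = cOf (orderOf ((Fintype.card F : ℕ) : ZMod r)) * s := by
  have hr0 : (r : F) ≠ 0 := ne_zero_of_ne' p r hr.out hrp
  obtain ⟨hMx, hMn, hME, -, -, -⟩ :=
    movPart_props halt y hiso r hr.out.ne_zero hr0 hy V' hV'x hV'n
  have hMinv : movPart B y V' ∈ Module.End.invtSubmodule y := by
    rw [Module.End.mem_invtSubmodule_iff_map_le, hMx]
  obtain ⟨j, hj⟩ := invt_profile p r hrp y hy (movPart B y V') hMinv
  rw [hME, finrank_bot, zero_add] at hj
  have heven := even_finrank_of_nondegOn halt _ hMn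
  unfold cOf
  split_ifs with hi
  · exact ⟨j, by rw [hj, mul_comm]⟩
  · rw [hj, Nat.even_mul] at heven
    rcases heven with ⟨s, hs⟩ | h
    · exact ⟨s, by rw [hj, hs]; ring⟩
    · exact absurd h hi

end profile

end Cfsg.Agent.Lib.Helper15.PSpJ
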