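import Mathlib
import Cfsg.Agent.Lib.Helper15.PSpJ1

/-!
# Extraction of a nondegenerate invariant block of size `c`
-/

set_option autoImplicit false

namespace Cfsg.Agent.Lib.Helper15.PSpJ

open Module Submodule Polynomial Cfsg.Agent.Lib.Helper15 Cfsg.Agent.Lib.Helper15.PSpI
  Cfsg.Agent.Lib.Helper15.PSub Cfsg.Agent.Lib.Helper15.PDec

section helpers

variable {F V : Type*} [Field F] [AddCommGroup V] [Module F V]
variable {B : V →ₗ[F] V →ₗ[F] F}

/-- cyclic submodules for an irreducible polynomial are irreducible -/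
theorem cyclic_irred (y : V →ₗ[F] V) (P : F[X]) (hP : Irreducible P) (Z' : Submodule F V)
    (hZ' : Z' ∈ Module.End.invtSubmodule y) (hkill : ∀ w ∈ Z', aeval y P w = 0) (v : V)
    (hv : v ∈ Z') (hv0 : v ≠ 0) [FiniteDimensional F V] :
    ∃ M : Submodule F V, M ≤ Z' ∧ M ∈ Module.End.invtSubmodule y ∧ v ∈ M ∧
      finrank F M = P.natDegree ∧
      ∀ S : Submodule F V, S ≤ M → S ∈ Module.End.invtSubmodule y → S ≠ ⊥ → S = M := by
  obtain ⟨M, hMinv, hvM, hMdim, hMmin⟩ := exists_cyclic y P hP v hv0 (hkill v hv)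
  have hMZ : M ≤ Z' := hMmin Z' hZ' hv
  refine ⟨M, hMZ, hMinv, hvM, hMdim, ?_⟩
  intro S hSM hSinv hS0
  obtain ⟨s, hsS, hs0⟩ := Submodule.exists_mem_ne_zero_of_ne_bot hS0
  obtain ⟨M', hM'inv, hsM', hM'dim, hM'min⟩ :=
    exists_cyclic y P hP s hs0 (hkill s (hMZ (hSM hsS)))
  have h1 : M' ≤ S := hM'min S hSinv hsS
  apply Submodule.eq_of_le_of_finrank_le hSM
  rw [hMdim, ← hM'dim]
  exact Submodule.finrank_mono h1

/-- an irreducible invariant subspace which is not totally isotropic is nondegenerate -/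
theorem nondeg_of_irred (halt : ∀ x, B x x = 0) (y : V →ₗ[F] V)
    (hiso : ∀ u v, B (y u) (y v) = B u v) (M : Submodule F V) (hMx : M.map y = M)
    (hirr : ∀ S : Submodule F V, S ≤ M → S ∈ Module.End.invtSubmodule y → S ≠ ⊥ → S = M)
    (hnti : ∃ u ∈ M, ∃ w ∈ M, B u w ≠ 0) : NondegOn B M := by
  obtain ⟨u₀, hu₀, w₀, hw₀, huw⟩ := hnti
  have hRinv : perpIn B M M ∈ Module.End.invtSubmodule y := by
    rw [Module.End.mem_invtSubmodule_iff_map_le]
    rintro _ ⟨t, ht, rfl⟩
    have ht' := mem_perpIn.mp ht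
    refine mem_perpIn.mpr ⟨by rw [← hMx]; exact ⟨t, ht'.1, rfl⟩, ?_⟩
    intro u hu
    rw [← hMx] at hu
    obtain ⟨u', hu', rfl⟩ := hu
    rw [hiso]
    exact ht'.2 u' hu'
  have hR : perpIn B M M = ⊥ := by
    by_contra hne
    have := hirr _ (perpIn_le M M) hRinv hne
    have hw : w₀ ∈ perpIn B M M := by rw [this]; exact hw₀
    exact huw ((mem_perpIn.mp hw).2 u₀ hu₀)
  intro u hu hu0
  have : u ∈ perpIn B M M := by
    refine mem_perpIn.mpr ⟨hu, fun w hw => ?_⟩
    rw [alt_swap B halt, hu0 w hw, neg_zero]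
  rw [hR] at this
  exact (mem_bot F).mp this

/-- if `B(v, y v) = 0` on an invariant nondegenerate subspace then `y` is trivial there -/
theorem polarize (halt : ∀ x, B x x = 0) (y y' : V →ₗ[F] V)
    (hiso : ∀ u v, B (y u) (y v) = B u v) (hinv : ∀ w, y (y' w) = w) (r : ℕ) (hodd : Odd r)
    (hy : y ^ r = 1) (Z : Submodule F V) (hZx : Z.map y = Z) (hZx' : ∀ w ∈ Z, y' w ∈ Z)
    (hZn : NondegOn B Z) (h0 : ∀ v ∈ Z, B v (y v) = 0) : ∀ w ∈ Z, y w = w := by
  have hyZ : ∀ w ∈ Z, y w ∈ Z := fun w hw => by rw [← hZx]; exact ⟨w, hw, rfl⟩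
  have h2 : ∀ w ∈ Z, y w = y' w := by
    intro w hw
    rw [← sub_eq_zero]
    apply hZn _ (Z.sub_mem (hyZ w hw) (hZx' w hw))
    intro u hu
    have h1 := h0 (u + w) (Z.add_mem hu hw)
    simp only [map_add, LinearMap.add_apply] at h1
    have h3 : B w (y u) = - B u (y' w) := by
      rw [alt_swap B halt]
      congr 1
      nth_rewrite 1 [← hinv w]
      rw [hiso]
    have h4 : B u (y w) - B u (y' w) = 0 := by
      linear_combination h1 - h0 u hu - h0 w hw - h3
    rw [alt_swap B halt, map_sub, h4, neg_zero]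
  have hsq : ∀ w ∈ Z, y (y w) = w := by
    intro w hw
    rw [h2 w hw, hinv]
  have hpow : ∀ k : ℕ, ∀ w ∈ Z, (y ^ (2 * k)) w = w := by
    intro k
    induction k with
    | zero => intro w _; simp
    | succ k ih =>
      intro w hw
      have : 2 * (k + 1) = 2 * k + 2 := by ring
      rw [this, pow_add, Module.End.mul_apply, pow_two, Module.End.mul_apply, hsq w hw, ih w hw]
  intro w hw
  obtain ⟨k, hk⟩ := hodd
  have h5 := LinearMap.congr_fun hy w
  rw [hk, pow_succ', Module.End.mul_apply, hpow k w hw, Module.End.one_apply] at h5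
  exact h5

/-- dimension comparison through a pairing which is nondegenerate on one side -/
theorem finrank_le_of_pairing [FiniteDimensional F V] (S T : Submodule F V)
    (h : ∀ t ∈ T, (∀ s ∈ S, B s t = 0) → t = 0) : finrank F T ≤ finrank F S := by
  let ψ : T →ₗ[F] Module.Dual F S :=
    { toFun := fun t => (B.flip t.1).domRestrict S
      map_add' := fun a b => by ext u; simp
      map_smul' := fun c a => by ext u; simp }
  have hinj : Function.Injective ψ := by
    rw [← LinearMap.ker_eq_bot, LinearMap.ker_eq_bot']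
    intro t ht
    apply Subtype.ext
    apply h t.1 t.2
    intro s hs
    have := LinearMap.congr_fun ht ⟨s, hs⟩
    exact this
  have := LinearMap.finrank_le_finrank_of_injective hinj
  rwa [Subspace.dual_finrank_eq] at this

/-- a totally isotropic invariant subspace of a nondegenerate invariant space has an invariant
partner of the same dimension making a nondegenerate sum -/
theorem pair_block [FiniteDimensional F V] (halt : ∀ x, B x x = 0) (y : V →ₗ[F] V)
    (hiso : ∀ u v, B (y u) (y v) = B u v) (hss : Module.End.IsSemisimple y)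
    (hinj : Function.Injective y) (N' : Submodule F V) (hN'x : N'.map y = N')
    (hN'n : NondegOn B N') (W : Submodule F V) (hWN : W ≤ N')
    (hWinv : W ∈ Module.End.invtSubmodule y) (hWti : ∀ u ∈ W, ∀ w ∈ W, B u w = 0) :
    ∃ R' : Submodule F V, R' ≤ N' ∧ R' ∈ Module.End.invtSubmodule y ∧ W ⊓ R' = ⊥ ∧
      finrank F R' = finrank F W ∧ NondegOn B (W ⊔ R') ∧
      (∀ w ∈ R', (∀ u ∈ W, B u w = 0) → w = 0) := by
  have hWx : W.map y = W := map_eq_of_invt y hinj W hWinv
  have hN'inv : N' ∈ Module.End.invtSubmodule y := by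
    rw [Module.End.mem_invtSubmodule_iff_map_le, hN'x]
  have hWpinv : perpIn B N' W ∈ Module.End.invtSubmodule y := by
    rw [Module.End.mem_invtSubmodule_iff_map_le]
    rintro _ ⟨t, ht, rfl⟩
    have ht' := mem_perpIn.mp ht
    refine mem_perpIn.mpr ⟨by rw [← hN'x]; exact ⟨t, ht'.1, rfl⟩, ?_⟩
    intro u hu
    rw [← hWx] at hu
    obtain ⟨u', hu', rfl⟩ := hu
    rw [hiso]
    exact ht'.2 u' hu'
  obtain ⟨R', hR'N, hR'inv, hinf, hsup, -⟩ :=
    exists_compl_in y hss N' (perpIn B N' W) hN'inv hWpinv (perpIn_le N' W)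
  have ha : ∀ w ∈ R', (∀ u ∈ W, B u w = 0) → w = 0 := by
    intro w hw h0
    have : w ∈ perpIn B N' W ⊓ R' := ⟨mem_perpIn.mpr ⟨hR'N hw, h0⟩, hw⟩
    rw [hinf] at this
    exact (mem_bot F).mp this
  have hb : ∀ u ∈ W, (∀ w ∈ R', B w u = 0) → u = 0 := by
    intro u hu h0
    apply hN'n u (hWN hu)
    intro v hv
    rw [← hsup] at hv
    obtain ⟨t, ht, w, hw, rfl⟩ := mem_sup.mp hv
    rw [map_add, (mem_perpIn.mp ht).2 u hu, zero_add, alt_swap B halt, h0 w hw, neg_zero]
  have hWWp : W ≤ perpIn B N' W := fun u hu => mem_perpIn.mpr ⟨hWN hu, fun u' hu' => hWti u' hu' u hu⟩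
  refine ⟨R', hR'N, hR'inv, ?_, ?_, ?_, ha⟩
  · rw [eq_bot_iff, ← hinf]
    exact inf_le_inf_right _ hWWp
  · exact le_antisymm (finrank_le_of_pairing W R' ha) (finrank_le_of_pairing R' W hb)
  · intro z hz hz0
    obtain ⟨u, hu, w, hw, rfl⟩ := mem_sup.mp hz
    have hw0 : w = 0 := by
      apply ha w hw
      intro u' hu'
      have := hz0 u' (mem_sup_left hu')
      rw [map_add, LinearMap.add_apply, hWti u hu u' hu', zero_add] at this
      rw [alt_swap B halt, this, neg_zero]
    have hu0 : u = 0 := by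
      apply hb u hu
      intro w' hw'
      have := hz0 w' (mem_sup_right hw')
      rw [hw0, add_zero] at this
      rw [alt_swap B halt, this, neg_zero]
    rw [hu0, hw0, add_zero]

/-- semisimplicity: a power of `P(y)` kills `w` only if `P(y)` does -/
theorem bezout_kill (y : V →ₗ[F] V) (r : ℕ) (hr0 : (r : F) ≠ 0) (hy : y ^ r = 1) (P : F[X])
    (hPd : P ∣ X ^ r - 1) (Q : ℕ) (hQ : 1 ≤ Q) (w : V) (hw : ((aeval y P) ^ Q) w = 0) :
    aeval y P w = 0 := by
  obtain ⟨S, hS⟩ := hPd
  have hsep : (X ^ r - 1 : F[X]).Separable := by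
    have := separable_X_pow_sub_C (1 : F) hr0 one_ne_zero
    rwa [C_1] at this
  rw [hS] at hsep
  obtain ⟨a, b, hab⟩ := (hsep.isCoprime.pow_left (m := Q - 1))
  have h1 : P = a * P ^ Q + b * (X ^ r - 1) := by
    have hQ' : P ^ Q = P ^ (Q - 1) * P := by
      rw [← pow_succ]
      congr 1
      omega
    rw [hS, hQ']
    linear_combination (-P) * hab
  have h2 : aeval y (X ^ r - 1 : F[X]) = 0 := by
    rw [map_sub, map_pow, aeval_X, map_one, hy, sub_self]
  rw [h1, map_add, map_mul, map_mul, map_pow, h2, mul_zero, add_zero, Module.End.mul_apply, hw,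
    map_zero]

end helpers

section main

variable {F V : Type*} [Field F] [Fintype F] [AddCommGroup V] [Module F V] [FiniteDimensional F V]
variable {B : V →ₗ[F] V →ₗ[F] F}

omit [Field F] [Fintype F] in
/-- if the order of `q` modulo `r` is `2 j` then `r ∣ q^j + 1` -/
theorem dvd_of_order_even (q r j : ℕ) [hr : Fact r.Prime] (hj : 1 ≤ j)
    (hord : orderOf ((q : ℕ) : ZMod r) = j + j) : r ∣ q ^ j + 1 := by
  have hsq : ((q : ℕ) : ZMod r) ^ j * ((q : ℕ) : ZMod r) ^ j = 1 := by
    rw [← pow_add, ← hord]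
    exact pow_orderOf_eq_one _
  rw [← ZMod.natCast_eq_zero_iff]
  push_cast
  rcases mul_self_eq_one_iff.mp hsq with h1 | h1
  · exfalso
    have := orderOf_dvd_of_pow_eq_one h1
    rw [hord] at this
    have := Nat.le_of_dvd hj this
    omega
  · rw [h1]; ring

/-- **Block extraction**: a nonzero invariant nondegenerate subspace without fixed vectors contains
an invariant nondegenerate subspace of dimension `c`. -/
theorem exists_cblock (p : ℕ) [Fact p.Prime] [CharP F p] (r : ℕ) [hr : Fact r.Prime]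
    (hrp : r ≠ p) (hr2 : r ≠ 2) (halt : ∀ x, B x x = 0) (y : V →ₗ[F] V)
    (hiso : ∀ u v, B (y u) (y v) = B u v) (hy : y ^ r = 1) (N' : Submodule F V)
    (hN'x : N'.map y = N') (hN'n : NondegOn B N')
    (hN'E : N' ⊓ Module.End.eigenspace y 1 = ⊥) (hN'0 : N' ≠ ⊥) :
    ∃ Z : Submodule F V, Z ≤ N' ∧ Z.map y = Z ∧ NondegOn B Z ∧
      finrank F Z = cOf (orderOf ((Fintype.card F : ℕ) : ZMod r)) := by
  classical
  have hr0 : (r : F) ≠ 0 := ne_zero_of_ne' p r hr.out hrp
  have hss : Module.End.IsSemisimple y :=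
    isSemisimple_of_pow_eq_smul y r hr0 1 one_ne_zero (by rw [hy, one_smul])
  have hinj : Function.Injective y :=
    injective_of_pow_eq_smul y r 1 one_ne_zero (by rw [hy, one_smul]) hr.out.ne_zero
  have hodd : Odd r := hr.out.odd_of_ne_two hr2
  have hN'inv : N' ∈ Module.End.invtSubmodule y := by
    rw [Module.End.mem_invtSubmodule_iff_map_le, hN'x]
  have hkill := cyclotomic_kills y r hy N' hN'inv hN'E
  obtain ⟨w, hwN, hw0⟩ := Submodule.exists_mem_ne_zero_of_ne_bot hN'0
  obtain ⟨P, hPirr, hPdvd, v, hv0, hPv, hvW⟩ :=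
    exists_irreducible_killer y (cyclotomic r F) (cyclotomic_ne_zero r F) w hw0 (hkill w hwN)
  have hvN : v ∈ N' := hvW N' hN'inv hwN
  have hPdeg : P.natDegree = orderOf ((Fintype.card F : ℕ) : ZMod r) :=
    cyclotomic_factor_degree p r hr.out hrp P hPirr hPdvd
  have hPX : P ∣ X ^ r - 1 := dvd_trans hPdvd (cyclotomic.dvd_X_pow_sub_one r F)
  have hipos : 0 < orderOf ((Fintype.card F : ℕ) : ZMod r) := by
    rw [← hPdeg]; exact hPirr.natDegree_pos
  -- the `P`-primary part
  have hKinv : N' ⊓ LinearMap.ker (aeval y P) ∈ Module.End.invtSubmodule y := by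
    apply Module.End.invtSubmodule.inf_mem hN'inv
    intro u hu
    rw [Submodule.mem_comap, LinearMap.mem_ker]
    rw [LinearMap.mem_ker] at hu
    have h1 : aeval y P (y u) = aeval y (P * X) u := by rw [aeval_mul_apply, aeval_X]
    rw [h1, mul_comm, aeval_mul_apply, hu, aeval_X, map_zero]
  obtain ⟨W, hWK, hWinv, hvW', hWdim, hWirr⟩ := cyclic_irred y P hPirr _ hKinv
    (fun w hw => LinearMap.mem_ker.mp hw.2) v ⟨hvN, LinearMap.mem_ker.mpr hPv⟩ hv0
  have hWN : W ≤ N' := hWK.trans inf_le_left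
  have hWx : W.map y = W := map_eq_of_invt y hinj W hWinv
  by_cases hti : ∀ u ∈ W, ∀ w ∈ W, B u w = 0
  · obtain ⟨R', hR'N, hR'inv, hWR', hR'dim, hZn, ha⟩ :=
      pair_block halt y hiso hss hinj N' hN'x hN'n W hWN hWinv hti
    have hZinv : W ⊔ R' ∈ Module.End.invtSubmodule y :=
      Module.End.invtSubmodule.sup_mem hWinv hR'inv
    have hZN : W ⊔ R' ≤ N' := sup_le hWN hR'N
    have hZdim : finrank F ↥(W ⊔ R') = 2 * orderOf ((Fintype.card F : ℕ) : ZMod r) := by
      have := Submodule.finrank_sup_add_finrank_inf_eq W R'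
      rw [hWR', finrank_bot, add_zero, hR'dim, hWdim, hPdeg] at this
      omega
    by_cases hie : Even (orderOf ((Fintype.card F : ℕ) : ZMod r))
    · obtain ⟨j', hj'⟩ := hie
      have hj'1 : 1 ≤ j' := by omega
      have hQr : r ∣ Fintype.card F ^ j' + 1 := dvd_of_order_even _ r j' hj'1 hj'
      obtain ⟨y', hy'⟩ : ∃ y' : V →ₗ[F] V, y' = y ^ (r - 1) := ⟨_, rfl⟩
      have hinv : ∀ w, y (y' w) = w := by
        intro w
        rw [hy', ← Module.End.mul_apply, ← pow_succ', Nat.sub_add_cancel hr.out.pos, hy]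
        rfl
      have hyQ : y ^ (Fintype.card F ^ j') = y' := by
        apply LinearMap.ext
        intro w
        apply hinj
        rw [hinv, ← Module.End.mul_apply, ← pow_succ']
        obtain ⟨k, hk⟩ := hQr
        rw [hk, pow_mul, hy, one_pow]
        rfl
      have hkillR : ∀ w ∈ R', aeval y P w = 0 := by
        intro w hw
        apply bezout_kill y r hr0 hy P hPX (Fintype.card F ^ j') (Nat.one_le_pow _ _ Fintype.card_pos)
        apply ha
        · rw [← map_pow]
          exact aeval_mem_of_invt y hR'inv _ hw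
        · intro u hu
          rw [← frob_aeval, hyQ, ← adj_aeval y y' hiso hinv]
          have : aeval y P u = 0 := LinearMap.mem_ker.mp (hWK hu).2
          rw [this, LinearMap.map_zero₂]
      have hkillZ : ∀ w ∈ W ⊔ R', aeval y P w = 0 := by
        intro w hw
        obtain ⟨u, hu, w', hw', rfl⟩ := mem_sup.mp hw
        rw [map_add, LinearMap.mem_ker.mp (hWK hu).2, hkillR w' hw', add_zero]
      have hZx : (W ⊔ R').map y = W ⊔ R' := map_eq_of_invt y hinj _ hZinv
      obtain ⟨v₁, hv₁Z, hv₁⟩ : ∃ v₁ ∈ W ⊔ R', B v₁ (y v₁) ≠ 0 := by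
        by_contra hcon
        push Not at hcon
        have hfix := polarize halt y y' hiso hinv r hodd hy (W ⊔ R') hZx
          (fun w hw => by
            rw [hy']
            exact pow_mem_of_invt y hZinv _ hw) hZn hcon
        have hZE : W ⊔ R' ≤ N' ⊓ Module.End.eigenspace y 1 := by
          intro w hw
          refine Submodule.mem_inf.mpr ⟨hZN hw, ?_⟩
          rw [Module.End.mem_eigenspace_iff, one_smul]
          exact hfix w hw
        rw [hN'E, le_bot_iff] at hZE
        rw [hZE, finrank_bot] at hZdim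
        omega
      have hv₁0 : v₁ ≠ 0 := by
        rintro rfl
        simp at hv₁
      obtain ⟨M, hMZ, hMinv, hv₁M, hMdim, hMirr⟩ :=
        cyclic_irred y P hPirr _ hZinv hkillZ v₁ hv₁Z hv₁0
      have hMx : M.map y = M := map_eq_of_invt y hinj M hMinv
      have hMn : NondegOn B M := nondeg_of_irred halt y hiso M hMx hMirr
        ⟨v₁, hv₁M, y v₁, hMinv hv₁M, hv₁⟩
      refine ⟨M, hMZ.trans hZN, hMx, hMn, ?_⟩
      rw [hMdim, hPdeg]
      unfold cOf
      rw [if_pos ⟨j', hj'⟩]
    · refine ⟨W ⊔ R', hZN, map_eq_of_invt y hinj _ hZinv, hZn, ?_⟩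
      rw [hZdim]
      unfold cOf
      rw [if_neg hie]
  · push Not at hti
    obtain ⟨u, hu, w', hw', huw⟩ := hti
    have hWn : NondegOn B W := nondeg_of_irred halt y hiso W hWx hWirr ⟨u, hu, w', hw', huw⟩
    have heven := even_finrank_of_nondegOn halt W hWn
    rw [hWdim, hPdeg] at heven
    refine ⟨W, hWN, hWx, hWn, ?_⟩
    rw [hWdim, hPdeg]
    unfold cOf
    rw [if_pos heven]

end main

end Cfsg.Agent.Lib.Helper15.PSpJ
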