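import Mathlib
import Cfsg.Agent.Lib.Helper15.PSpJ2

/-!
# Sufficiency: every isometry of odd prime order stabilises an orthogonal decomposition when the
numerical conditions hold
-/

set_option autoImplicit false

namespace Cfsg.Agent.Lib.Helper15.PSpJ

open Module Submodule Polynomial Cfsg.Agent.Lib.Helper15 Cfsg.Agent.Lib.Helper15.PSpI
  Cfsg.Agent.Lib.Helper15.PSub Cfsg.Agent.Lib.Helper15.PDec

section suff

variable {F V : Type*} [Field F] [AddCommGroup V] [Module F V] [FiniteDimensional F V]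
variable {B : V →ₗ[F] V →ₗ[F] F}

/-- the orthogonal complement of an invariant subspace in an invariant subspace is invariant -/
theorem map_perpIn_of_inj (y : V →ₗ[F] V) (hinj : Function.Injective y)
    (hiso : ∀ u v, B (y u) (y v) = B u v) {V' S : Submodule F V} (hV' : V'.map y = V')
    (hS : S.map y = S) : (perpIn B V' S).map y = perpIn B V' S := by
  apply map_eq_of_invt y hinj
  rw [Module.End.mem_invtSubmodule_iff_map_le]
  rintro _ ⟨t, ht, rfl⟩
  have ht' := mem_perpIn.mp ht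
  refine mem_perpIn.mpr ⟨by rw [← hV']; exact ⟨t, ht'.1, rfl⟩, ?_⟩
  intro u hu
  rw [← hS] at hu
  obtain ⟨u', hu', rfl⟩ := hu
  rw [hiso]
  exact ht'.2 u' hu'

end suff

section suff2

variable {F V : Type*} [Field F] [Fintype F] [AddCommGroup V] [Module F V] [FiniteDimensional F V]
variable {B : V →ₗ[F] V →ₗ[F] F}

/-- invariant nondegenerate subspaces of the moved part, of every admissible dimension -/
theorem exists_moved_sub (p : ℕ) [Fact p.Prime] [CharP F p] (r : ℕ) [hr : Fact r.Prime]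
    (hrp : r ≠ p) (hr2 : r ≠ 2) (halt : ∀ x, B x x = 0) (y : V →ₗ[F] V)
    (hiso : ∀ u v, B (y u) (y v) = B u v) (hy : y ^ r = 1) (M' : Submodule F V)
    (hM'x : M'.map y = M') (hM'n : NondegOn B M')
    (hM'E : M' ⊓ Module.End.eigenspace y 1 = ⊥) (s : ℕ)
    (hM'f : finrank F M' = cOf (orderOf ((Fintype.card F : ℕ) : ZMod r)) * s) :
    ∀ m, m ≤ s → ∃ D : Submodule F V, D ≤ M' ∧ D.map y = D ∧ NondegOn B D ∧
      finrank F D = cOf (orderOf ((Fintype.card F : ℕ) : ZMod r)) * m := by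
  have hinj : Function.Injective y :=
    injective_of_pow_eq_smul y r 1 one_ne_zero (by rw [hy, one_smul]) hr.out.ne_zero
  have hipos : 0 < orderOf ((Fintype.card F : ℕ) : ZMod r) := orderOf_pos_of_ne p r hrp
  have hcpos := cOf_pos hipos
  intro m
  induction m with
  | zero =>
    intro _
    refine ⟨⊥, bot_le, Submodule.map_bot y, ?_, by rw [finrank_bot, mul_zero]⟩
    intro u hu _
    exact (mem_bot F).mp hu
  | succ m ih =>
    intro hm
    obtain ⟨D, hDM, hDx, hDn, hDf⟩ := ih (by omega)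
    have hTx := map_perpIn_of_inj y hinj hiso hM'x hDx
    have hTn := nondegOn_perpIn halt hDM hDn hM'n
    have hTf := finrank_perpIn halt hDM hDn (V' := M')
    have hTE : perpIn B M' D ⊓ Module.End.eigenspace y 1 = ⊥ := by
      rw [eq_bot_iff, ← hM'E]
      exact inf_le_inf_right _ (perpIn_le M' D)
    have hT0 : perpIn B M' D ≠ ⊥ := by
      intro h0
      rw [h0, finrank_bot, add_zero, hDf, hM'f] at hTf
      have := Nat.eq_of_mul_eq_mul_left hcpos hTf
      omega
    obtain ⟨Z, hZT, hZx, hZn, hZf⟩ :=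
      exists_cblock p r hrp hr2 halt y hiso hy _ hTx hTn hTE hT0
    have ho : Orth B D Z := (orth_perpIn M' D).mono le_rfl hZT
    refine ⟨D ⊔ Z, sup_le hDM (hZT.trans (perpIn_le M' D)), ?_, nondegOn_sup halt ho hDn hZn, ?_⟩
    · rw [Submodule.map_sup, hDx, hZx]
    · rw [finrank_sup_of_orth halt ho hDn, hDf, hZf]
      ring

/-- **Sufficiency.** -/
theorem exists_fixed_decomp (p : ℕ) [Fact p.Prime] [CharP F p] (r : ℕ) [hr : Fact r.Prime]
    (hrp : r ≠ p) (hr2 : r ≠ 2) (halt : ∀ x, B x x = 0) (y : V →ₗ[F] V)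
    (hiso : ∀ u v, B (y u) (y v) = B u v) (hy : y ^ r = 1) (a : ℕ) (hae : Even a) :
    ∀ (t' : ℕ) (V' : Submodule F V), V'.map y = V' → NondegOn B V' → finrank F V' = a * t' →
      t' * (a % cOf (orderOf ((Fintype.card F : ℕ) : ZMod r))) ≤
        finrank F ↥(V' ⊓ Module.End.eigenspace y 1) →
      ∃ (κ : Type) (_ : Fintype κ) (σ : Equiv.Perm κ), Fintype.card κ = t' ∧
        PDO B y a V' σ := by
  have hr0 : (r : F) ≠ 0 := ne_zero_of_ne' p r hr.out hrp
  have hinj : Function.Injective y :=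
    injective_of_pow_eq_smul y r 1 one_ne_zero (by rw [hy, one_smul]) hr.out.ne_zero
  have hipos : 0 < orderOf ((Fintype.card F : ℕ) : ZMod r) := orderOf_pos_of_ne p r hrp
  obtain ⟨c, hc⟩ : ∃ c, c = cOf (orderOf ((Fintype.card F : ℕ) : ZMod r)) := ⟨_, rfl⟩
  rw [← hc]
  have hcpos : 0 < c := by rw [hc]; exact cOf_pos hipos
  have hce : Even c := by rw [hc]; exact cOf_even
  intro t'
  induction t' with
  | zero =>
    intro V' _ _ hfr _
    have hV'0 : V' = ⊥ := by
      apply Submodule.finrank_eq_zero.mp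
      rw [hfr, mul_zero]
    rw [hV'0]
    exact ⟨Empty, inferInstance, 1, by simp, PDO.empty y a⟩
  | succ t ih =>
    intro V' hV'x hV'n hfr hfix
    obtain ⟨hMx, hMn, hME, hCM, hsup, hCMo⟩ :=
      movPart_props halt y hiso r hr.out.ne_zero hr0 hy V' hV'x hV'n
    obtain ⟨s, hs⟩ := movPart_profile p r hrp halt y hiso hy V' hV'x hV'n
    rw [← hc] at hs
    have hCn := nondegOn_fixed y hiso r hr0 hy V' hV'x hV'n
    obtain ⟨h1, h2, h3, h4⟩ := peel_arith a c t
      (finrank F ↥(V' ⊓ Module.End.eigenspace y 1)) s (min (a / c) s) hcpos rfl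
      (by rw [← hfr, ← hCM, hs, mul_comm c s]) hfix
    obtain ⟨m, hm⟩ : ∃ m, m = min (a / c) s := ⟨_, rfl⟩
    rw [← hm] at h1 h2 h3 h4
    have hms : m ≤ s := by rw [hm]; exact min_le_right _ _
    obtain ⟨DN, hDNM, hDNx, hDNn, hDNf⟩ := exists_moved_sub p r hrp hr2 halt y hiso hy
      (movPart B y V') hMx hMn hME s (by rw [hs, hc]) m hms
    rw [← hc] at hDNf
    -- the fixed part of the summand
    have heven : Even (a - m * c) := by
      rcases hae with ⟨a', ha'⟩
      rcases hce with ⟨c', hc'⟩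
      refine ⟨a' - m * c', ?_⟩
      have h7 : m * (c' + c') = m * c' + m * c' := by ring
      rw [ha', hc', h7]
      omega
    obtain ⟨f, hf⟩ := heven
    obtain ⟨DC, hDCC, hDCn, hDCf⟩ := exists_nondeg_le halt _ hCn f (by omega)
    have hDCx : DC.map y = DC := by
      apply le_antisymm
      · rintro _ ⟨u, hu, rfl⟩
        rw [fix_of_mem_inf y (hDCC hu)]
        exact hu
      · intro u hu
        exact ⟨u, hu, fix_of_mem_inf y (hDCC hu)⟩
    have ho : Orth B DC DN := hCMo.mono hDCC hDNM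
    have hDV' : DC ⊔ DN ≤ V' := sup_le (hDCC.trans inf_le_left) (hDNM.trans (movPart_le y V'))
    have hDn : NondegOn B (DC ⊔ DN) := nondegOn_sup halt ho hDCn hDNn
    have hDx : (DC ⊔ DN).map y = DC ⊔ DN := by rw [Submodule.map_sup, hDCx, hDNx]
    have hDf : finrank F ↥(DC ⊔ DN) = a := by
      rw [finrank_sup_of_orth halt ho hDCn, hDCf, hDNf]
      have : c * m = m * c := mul_comm _ _
      omega
    -- the complement
    have hTx := map_perpIn_of_inj y hinj hiso hV'x hDx
    have hTn := nondegOn_perpIn halt hDV' hDn hV'n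
    have hTf := finrank_perpIn halt hDV' hDn (V' := V')
    have hTf' : finrank F (perpIn B V' (DC ⊔ DN)) = a * t := by
      rw [hDf, hfr, Nat.mul_succ] at hTf
      omega
    have hTfix : t * (a % c) ≤
        finrank F ↥(perpIn B V' (DC ⊔ DN) ⊓ Module.End.eigenspace y 1) := by
      have hle : perpIn B (V' ⊓ Module.End.eigenspace y 1) DC ≤
          perpIn B V' (DC ⊔ DN) ⊓ Module.End.eigenspace y 1 := by
        intro u hu
        have hu' := mem_perpIn.mp hu
        refine Submodule.mem_inf.mpr ⟨mem_perpIn.mpr ⟨hu'.1.1, ?_⟩, hu'.1.2⟩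
        intro d hd
        obtain ⟨d₁, hd₁, d₂, hd₂, rfl⟩ := mem_sup.mp hd
        rw [map_add, LinearMap.add_apply, hu'.2 d₁ hd₁, zero_add]
        exact (hCMo.symm halt) d₂ (hDNM hd₂) u hu'.1
      have h5 := Submodule.finrank_mono hle
      have h6 := finrank_perpIn halt hDCC hDCn (V' := V' ⊓ Module.End.eigenspace y 1)
      rw [hDCf] at h6
      omega
    obtain ⟨κ, hκ, σ, hκc, hσ⟩ := ih _ hTx hTn hTf' hTfix
    refine ⟨Unit ⊕ κ, inferInstance, Equiv.sumCongr 1 σ, ?_, ?_⟩
    · rw [Fintype.card_sum, hκc, Fintype.card_unit, add_comm]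
    · have := PDO.series (PDO.single y a _ hDf hDx hDn) hσ (orth_perpIn V' (DC ⊔ DN)) halt
      rwa [sup_perpIn halt hDV' hDn] at this

end suff2

end Cfsg.Agent.Lib.Helper15.PSpJ
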