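import Mathlib
import Cfsg.Agent.Lib.Helper15.PSpJ3
import Cfsg.Agent.Lib.Helper15.PSpD7

/-!
# Model elements of odd prime order in the symplectic group
-/

set_option autoImplicit false

namespace Cfsg.Agent.Lib.Helper15.PSpJ

open Module Submodule Polynomial Cfsg.Agent.Lib.Helper15 Cfsg.Agent.Lib.Helper15.PSpI
  Cfsg.Agent.Lib.Helper15.PSub Cfsg.Agent.Lib.Helper15.PDec Cfsg.Agent.Lib.Helper15.PSpD
  Cfsg.Agent.Lib.Helper6

section transport

variable {F V : Type*} [Field F] [Fintype F] [AddCommGroup V] [Module F V] [FiniteDimensional F V]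
variable (B : V →ₗ[F] V →ₗ[F] F)

/-- an isometry of an abstract symplectic space is conjugate to a symplectic matrix -/
theorem exists_symp_conj (halt : ∀ x, B x x = 0) (hnd : ∀ x, (∀ y, B x y = 0) → x = 0) (d : ℕ)
    (hd : 1 ≤ d) (hV : finrank F V = 2 * d) (y' : V →ₗ[F] V)
    (hiso : ∀ u v, B (y' u) (y' v) = B u v) :
    ∃ (x : ↥(Matrix.symplecticGroup (Fin d) F)) (Ψ : (Fin d ⊕ Fin d → F) ≃ₗ[F] V),
      ∀ u, Ψ (Matrix.toLin' (x : Matrix (Fin d ⊕ Fin d) (Fin d ⊕ Fin d) F) u) = y' (Ψ u) := by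
  classical
  obtain ⟨Ψ, hΨ⟩ := exists_symp_iso B halt hnd d hd hV
  obtain ⟨y, hy⟩ : ∃ y : (Fin d ⊕ Fin d → F) →ₗ[F] (Fin d ⊕ Fin d → F),
      y = Ψ.symm.toLinearMap ∘ₗ y' ∘ₗ Ψ.toLinearMap := ⟨_, rfl⟩
  have hyΨ : ∀ u, Ψ (y u) = y' (Ψ u) := by
    intro u
    rw [hy]
    simp
  obtain ⟨A, hA⟩ : ∃ A : Matrix (Fin d ⊕ Fin d) (Fin d ⊕ Fin d) F, A = LinearMap.toMatrixAlgEquiv' y :=
    ⟨_, rfl⟩
  have hAy : Matrix.toLin' A = y := by
    rw [hA]
    exact Matrix.toLinAlgEquiv'_toMatrixAlgEquiv' y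
  have hAmul : ∀ u, A.mulVec u = y u := by
    intro u
    rw [← hAy, Matrix.toLin'_apply]
  have hAmem : A ∈ Matrix.symplecticGroup (Fin d) F := by
    rw [mem_symplecticGroup_iff_preserves]
    intro u v
    rw [hAmul, hAmul, ← hΨ, hyΨ, hyΨ, hiso, hΨ]
  refine ⟨⟨A, hAmem⟩, Ψ, fun u => ?_⟩
  show Ψ (Matrix.toLin' A u) = _
  rw [hAy, hyΨ]

end transport

section pi

variable {F M : Type*} [Field F] [AddCommGroup M] [Module F M]

/-- the orthogonal sum of `s` copies of a form -/
noncomputable def piForm (BM : M →ₗ[F] M →ₗ[F] F) (s : ℕ) :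
    (Fin s → M) →ₗ[F] (Fin s → M) →ₗ[F] F :=
  ∑ k : Fin s, BM.compl₁₂ (LinearMap.proj k) (LinearMap.proj k)

theorem piForm_apply (BM : M →ₗ[F] M →ₗ[F] F) (s : ℕ) (u v : Fin s → M) :
    piForm BM s u v = ∑ k, BM (u k) (v k) := by
  unfold piForm
  rw [LinearMap.sum_apply, LinearMap.sum_apply]
  rfl

/-- the diagonal action on `s` copies -/
noncomputable def piMap (g : M →ₗ[F] M) (s : ℕ) : (Fin s → M) →ₗ[F] (Fin s → M) :=
  LinearMap.pi fun k => g ∘ₗ LinearMap.proj k

theorem piMap_apply (g : M →ₗ[F] M) (s : ℕ) (u : Fin s → M) (k : Fin s) :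
    piMap g s u k = g (u k) := rfl

theorem piMap_pow_apply (g : M →ₗ[F] M) (s : ℕ) (n : ℕ) (u : Fin s → M) (k : Fin s) :
    ((piMap g s) ^ n) u k = (g ^ n) (u k) := by
  induction n generalizing u with
  | zero => simp
  | succ n ih =>
    rw [pow_succ, Module.End.mul_apply, ih, piMap_apply, pow_succ, Module.End.mul_apply]

theorem piForm_alt (BM : M →ₗ[F] M →ₗ[F] F) (haltM : ∀ a, BM a a = 0) (s : ℕ)
    (u : Fin s → M) : piForm BM s u u = 0 := by
  rw [piForm_apply]
  exact Finset.sum_eq_zero fun k _ => haltM (u k)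

theorem piForm_nondeg (BM : M →ₗ[F] M →ₗ[F] F) (hndM : ∀ a, (∀ b, BM a b = 0) → a = 0)
    (s : ℕ) (u : Fin s → M) (h : ∀ v, piForm BM s u v = 0) : u = 0 := by
  classical
  funext k
  apply hndM
  intro b
  have := h (Pi.single k b)
  rw [piForm_apply, Finset.sum_eq_single k] at this
  · simpa using this
  · intro k' _ hk'
    rw [Pi.single_eq_of_ne hk', map_zero]
  · intro hk
    exact absurd (Finset.mem_univ k) hk

end pi

section model

variable {F : Type*} [Field F] [Fintype F]

/-- from a block to an element of the symplectic group with `s` blocks and a trivial part -/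
theorem exists_model_elt {M : Type*} [AddCommGroup M] [Module F M] [FiniteDimensional F M]
    (BM : M →ₗ[F] M →ₗ[F] F) (haltM : ∀ a, BM a a = 0)
    (hndM : ∀ a, (∀ b, BM a b = 0) → a = 0) (g : M →ₗ[F] M)
    (hisoM : ∀ a b, BM (g a) (g b) = BM a b) (r : ℕ) (hodd : Odd r) (hgr : g ^ r = 1)
    (hfix : ∀ a, g a = a → a = 0) (hM : 0 < finrank F M) (d s m : ℕ) (hs : 1 ≤ s)
    (hdim : s * finrank F M + 2 * m = 2 * d) :
    ∃ x : ↥(Matrix.symplecticGroup (Fin d) F),
      (Matrix.toLin' (x : Matrix (Fin d ⊕ Fin d) (Fin d ⊕ Fin d) F)) ^ r = 1 ∧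
      finrank F (Module.End.eigenspace
        (Matrix.toLin' (x : Matrix (Fin d ⊕ Fin d) (Fin d ⊕ Fin d) F)) 1) = 2 * m ∧
      ∀ z : F, (x : Matrix (Fin d ⊕ Fin d) (Fin d ⊕ Fin d) F) ≠
        z • (1 : Matrix (Fin d ⊕ Fin d) (Fin d ⊕ Fin d) F) := by
  classical
  have hd : 1 ≤ d := by
    have : 1 ≤ s * finrank F M := Nat.mul_pos hs hM
    omega
  obtain ⟨y', hy'⟩ : ∃ y' : ((Fin s → M) × (Fin m ⊕ Fin m → F)) →ₗ[F]
      ((Fin s → M) × (Fin m ⊕ Fin m → F)), y' = (piMap g s).prodMap LinearMap.id := ⟨_, rfl⟩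
  have hy'app : ∀ a, y' a = (piMap g s a.1, a.2) := by intro a; rw [hy']; rfl
  have hV : finrank F ((Fin s → M) × (Fin m ⊕ Fin m → F)) = 2 * d := by
    rw [Module.finrank_prod, Module.finrank_pi_fintype, Module.finrank_pi, Fintype.card_sum,
      Fintype.card_fin]
    simp only [Finset.sum_const, Finset.card_univ, Fintype.card_fin, smul_eq_mul]
    omega
  have hiso : ∀ a b, prodForm (piForm BM s) m (y' a) (y' b) = prodForm (piForm BM s) m a b := by
    intro a b
    rw [hy'app, hy'app, prodForm_apply, prodForm_apply, piForm_apply, piForm_apply]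
    simp only [piMap_apply, hisoM]
  obtain ⟨x, Ψ, hΨ⟩ := exists_symp_conj (prodForm (piForm BM s) m)
    (prodForm_alt _ (piForm_alt BM haltM s) m) (prodForm_nondeg _ (piForm_nondeg BM hndM s) m)
    d hd hV y' hiso
  obtain ⟨Y, hY⟩ : ∃ Y : (Fin d ⊕ Fin d → F) →ₗ[F] (Fin d ⊕ Fin d → F),
      Y = Matrix.toLin' (x : Matrix (Fin d ⊕ Fin d) (Fin d ⊕ Fin d) F) := ⟨_, rfl⟩
  rw [← hY] at hΨ
  have hpow : ∀ k : ℕ, ∀ u, Ψ ((Y ^ k) u) = (y' ^ k) (Ψ u) := by
    intro k
    induction k with
    | zero => intro u; simp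
    | succ k ih =>
      intro u
      rw [pow_succ', Module.End.mul_apply, hΨ, ih, pow_succ', Module.End.mul_apply]
  have hy'pow : ∀ k : ℕ, ∀ a, (y' ^ k) a = ((piMap g s ^ k) a.1, a.2) := by
    intro k
    induction k with
    | zero => intro a; simp
    | succ k ih =>
      intro a
      rw [pow_succ', Module.End.mul_apply, ih, hy'app, pow_succ', Module.End.mul_apply]
  have hy'r : y' ^ r = 1 := by
    apply LinearMap.ext
    intro a
    rw [hy'pow]
    apply Prod.ext
    · funext k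
      show ((piMap g s) ^ r) a.1 k = a.1 k
      rw [piMap_pow_apply, hgr]
      rfl
    · rfl
  refine ⟨x, ?_, ?_, ?_⟩
  · rw [← hY]
    apply LinearMap.ext
    intro u
    apply Ψ.injective
    rw [hpow, hy'r]
    rfl
  · rw [← hY]
    have hmap : (Module.End.eigenspace Y 1).map Ψ.toLinearMap =
        LinearMap.range (LinearMap.inr F (Fin s → M) (Fin m ⊕ Fin m → F)) := by
      ext a
      constructor
      · rintro ⟨u, hu, rfl⟩
        have hu' : Y u = u := by
          have := hu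
          rwa [SetLike.mem_coe, Module.End.mem_eigenspace_iff, one_smul] at this
        have h1 : y' (Ψ u) = Ψ u := by rw [← hΨ, hu']
        rw [hy'app] at h1
        have h2 : (Ψ u).1 = 0 := by
          funext k
          apply hfix
          have := congrFun (congrArg Prod.fst h1) k
          exact this
        refine ⟨(Ψ u).2, ?_⟩
        apply Prod.ext
        · exact h2.symm
        · rfl
      · rintro ⟨w, rfl⟩
        refine ⟨Ψ.symm (0, w), ?_, by simp⟩
        rw [SetLike.mem_coe, Module.End.mem_eigenspace_iff, one_smul]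
        apply Ψ.injective
        rw [hΨ, LinearEquiv.apply_symm_apply, hy'app]
        apply Prod.ext
        · funext k
          show g 0 = 0
          exact map_zero g
        · rfl
    have h1 := LinearEquiv.finrank_map_eq Ψ (Module.End.eigenspace Y 1)
    rw [← h1, hmap, LinearMap.finrank_range_of_inj LinearMap.inr_injective, Module.finrank_pi,
      Fintype.card_sum, Fintype.card_fin]
    ring
  · intro z hz
    have hYz : ∀ u, Y u = z • u := by
      intro u
      rw [hY, hz, Matrix.toLin'_apply, Matrix.smul_mulVec, Matrix.one_mulVec]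
    have hgz : ∀ a, g a = z • a := by
      intro a
      have h1 := hΨ (Ψ.symm (Pi.single ⟨0, hs⟩ a, 0))
      rw [hYz, map_smul, LinearEquiv.apply_symm_apply, hy'app] at h1
      have h2 := congrFun (congrArg Prod.fst h1) ⟨0, hs⟩
      simp only [Prod.smul_fst, Pi.smul_apply, Pi.single_eq_same] at h2
      rw [piMap_apply, Pi.single_eq_same] at h2
      exact h2.symm
    obtain ⟨a, ha⟩ : ∃ a : M, a ≠ 0 := Module.finrank_pos_iff_exists_ne_zero.mp hM
    obtain ⟨b, hb⟩ : ∃ b, BM a b ≠ 0 := by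
      by_contra hcon
      push Not at hcon
      exact ha (hndM a hcon)
    have hz2 : z * z = 1 := by
      have := hisoM a b
      rw [hgz, hgz, map_smul, map_smul, LinearMap.smul_apply, smul_eq_mul, smul_eq_mul,
        ← mul_assoc] at this
      exact mul_right_cancel₀ hb (by rw [this, one_mul])
    have hgpow : ∀ k : ℕ, (g ^ k) a = z ^ k • a := by
      intro k
      induction k with
      | zero => simp
      | succ k ih => rw [pow_succ', Module.End.mul_apply, ih, map_smul, hgz, smul_smul, pow_succ]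
    have hzr : z ^ r = 1 := by
      have := hgpow r
      rw [hgr, Module.End.one_apply] at this
      have h3 : (z ^ r - 1) • a = 0 := by rw [sub_smul, one_smul, ← this, sub_self]
      rcases smul_eq_zero.mp h3 with h4 | h4
      · exact sub_eq_zero.mp h4
      · exact absurd h4 ha
    have hz1 : z = 1 := by
      obtain ⟨k, hk⟩ := hodd
      rw [hk, pow_succ, pow_mul, pow_two, hz2, one_pow, one_mul] at hzr
      exact hzr
    apply ha
    apply hfix
    rw [hgz, hz1, one_smul]

end model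

end Cfsg.Agent.Lib.Helper15.PSpJ
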