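import Mathlib
import Cfsg.Agent.Lib.Helper15.PSpJ4

/-!
# The two kinds of blocks and the model elements with a prescribed number of blocks
-/

set_option autoImplicit false

namespace Cfsg.Agent.Lib.Helper15.PSpJ

open Module Submodule Polynomial Cfsg.Agent.Lib.Helper15 Cfsg.Agent.Lib.Helper15.PSpI
  Cfsg.Agent.Lib.Helper15.PSub Cfsg.Agent.Lib.Helper15.PDec Cfsg.Agent.Lib.Helper15.PSpD
  Cfsg.Agent.Lib.Helper6

section blocks

universe u

variable {F : Type u} [Field F] [Fintype F]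

/-- the hermitian-type form is alternating for `θ = α - σ α`, in every characteristic -/
theorem hermForm_alt' {E : Type*} [Field E] [Algebra F E] [FiniteDimensional F E] (j : ℕ)
    (hfr : finrank F E = 2 * j) (α a : E) :
    Cfsg.Agent.Lib.Helper15.PSpD.hermForm F j (α - frobPow F E j α) a a = 0 := by
  rw [Cfsg.Agent.Lib.Helper15.PSpD.hermForm_apply, sub_mul, sub_mul, map_sub, sub_eq_zero]
  have h1 := trace_frobPow j hfr (α * a * frobPow F E j a)
  rw [map_mul (frobPow F E j), map_mul (frobPow F E j), frobPow_frobPow j hfr] at h1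
  rw [← h1]
  congr 1
  ring

/-- the data of a block: a nondegenerate alternating space with a fixed-point-free isometry of
order `r` -/
def IsBlock (r : ℕ) (c : ℕ) (M : Type u) [AddCommGroup M] [Module F M]
    (BM : M →ₗ[F] M →ₗ[F] F) (g : M →ₗ[F] M) : Prop :=
  (∀ a, BM a a = 0) ∧ (∀ a, (∀ b, BM a b = 0) → a = 0) ∧ (∀ a b, BM (g a) (g b) = BM a b) ∧
    g ^ r = 1 ∧ (∀ a, g a = a → a = 0) ∧ finrank F M = c

theorem exists_root_data (p : ℕ) [Fact p.Prime] [CharP F p] (r : ℕ) [hr : Fact r.Prime]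
    (hrp : r ≠ p) :
    ∃ P : F[X], Irreducible P ∧ P ∣ cyclotomic r F ∧
      P.natDegree = orderOf ((Fintype.card F : ℕ) : ZMod r) := by
  have hcyc0 : cyclotomic r F ≠ 0 := cyclotomic_ne_zero r F
  have hcycu : ¬ IsUnit (cyclotomic r F) := by
    intro hu
    have := natDegree_eq_zero_of_isUnit hu
    rw [natDegree_cyclotomic, Nat.totient_prime hr.out] at this
    have := hr.out.two_le
    omega
  obtain ⟨P, hPirr, hPd⟩ := WfDvdMonoid.exists_irreducible_factor hcycu hcyc0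
  exact ⟨P, hPirr, hPd, cyclotomic_factor_degree p r hr.out hrp P hPirr hPd⟩

/-- the block for even `i` -/
theorem exists_block_even (p : ℕ) [Fact p.Prime] [CharP F p] (r : ℕ) [hr : Fact r.Prime]
    (hr2 : r ≠ 2) (hrp : r ≠ p) (j : ℕ) (hj1 : 1 ≤ j)
    (hord : orderOf ((Fintype.card F : ℕ) : ZMod r) = j + j) :
    ∃ (M : Type u) (_ : AddCommGroup M) (_ : Module F M) (_ : FiniteDimensional F M)
      (BM : M →ₗ[F] M →ₗ[F] F) (g : M →ₗ[F] M), IsBlock r (j + j) M BM g := by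
  classical
  have hr0 : (r : F) ≠ 0 := ne_zero_of_ne' p r hr.out hrp
  obtain ⟨P, hPirr, hPd, hPdeg⟩ := exists_root_data (F := F) p r hrp
  have hPf : Fact (Irreducible P) := ⟨hPirr⟩
  have hfd : FiniteDimensional F (AdjoinRoot P) := adjoinRoot_finiteDimensional P
  have hfr : finrank F (AdjoinRoot P) = 2 * j := by
    rw [adjoinRoot_finrank, hPdeg, hord, two_mul]
  have hrj : r ∣ Fintype.card F ^ j + 1 := dvd_of_order_even _ r j hj1 hord
  obtain ⟨α, hα⟩ : ∃ α : AdjoinRoot P, α = AdjoinRoot.root P := ⟨_, rfl⟩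
  have hαr : α ^ r = 1 := by rw [hα]; exact adjoinRoot_pow_eq_one P r hPd
  have hα1 : α ≠ 1 := by rw [hα]; exact adjoinRoot_ne_one P r hr0 hPd
  have hα0 : α ≠ 0 := by
    intro h0
    rw [h0, zero_pow hr.out.ne_zero] at hαr
    exact zero_ne_one hαr
  have hα2 : α * α ≠ 1 := by
    intro h
    apply hα1
    have h2 : α ^ 2 = 1 := by rw [pow_two]; exact h
    have h3 : α ^ Nat.gcd 2 r = 1 := pow_gcd_eq_one.mpr ⟨h2, hαr⟩
    have hg : Nat.gcd 2 r = 1 := by
      rw [Nat.coprime_primes Nat.prime_two hr.out |>.mpr (Ne.symm hr2)]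
    rwa [hg, pow_one] at h3
  have hσα : α * frobPow F (AdjoinRoot P) j α = 1 := by
    rw [frobPow_apply, ← pow_succ']
    obtain ⟨t, ht⟩ := hrj
    rw [ht, pow_mul, hαr, one_pow]
  have hθ0 : α - frobPow F (AdjoinRoot P) j α ≠ 0 := by
    intro h
    apply hα2
    rw [sub_eq_zero] at h
    nth_rewrite 2 [h]
    exact hσα
  refine ⟨AdjoinRoot P, inferInstance, inferInstance, hfd,
    Cfsg.Agent.Lib.Helper15.PSpD.hermForm F j (α - frobPow F (AdjoinRoot P) j α), LinearMap.mulLeft F α, ?_, ?_, ?_, ?_, ?_, ?_⟩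
  · exact hermForm_alt' j hfr α
  · exact hermForm_nondeg j hfr _ hθ0
  · intro a b
    rw [LinearMap.mulLeft_apply, LinearMap.mulLeft_apply]
    exact hermForm_inv j _ α hσα a b
  · apply LinearMap.ext
    intro a
    rw [mulLeft_pow_apply, hαr, one_mul]
    rfl
  · intro a ha
    rw [LinearMap.mulLeft_apply] at ha
    have h1 : (α - 1) * a = 0 := by rw [sub_mul, one_mul, ha, sub_self]
    exact (mul_eq_zero.mp h1).resolve_left (sub_ne_zero.mpr hα1)
  · rw [hfr, two_mul]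

/-- the hyperbolic block, used for odd `i` -/
theorem exists_block_hyp (p : ℕ) [Fact p.Prime] [CharP F p] (r : ℕ) [hr : Fact r.Prime]
    (hrp : r ≠ p) :
    ∃ (M : Type u) (_ : AddCommGroup M) (_ : Module F M) (_ : FiniteDimensional F M)
      (BM : M →ₗ[F] M →ₗ[F] F) (g : M →ₗ[F] M),
      IsBlock r (2 * orderOf ((Fintype.card F : ℕ) : ZMod r)) M BM g := by
  classical
  have hr0 : (r : F) ≠ 0 := ne_zero_of_ne' p r hr.out hrp
  obtain ⟨P, hPirr, hPd, hPdeg⟩ := exists_root_data (F := F) p r hrp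
  have hPf : Fact (Irreducible P) := ⟨hPirr⟩
  have hfd : FiniteDimensional F (AdjoinRoot P) := adjoinRoot_finiteDimensional P
  have hfr : finrank F (AdjoinRoot P) = orderOf ((Fintype.card F : ℕ) : ZMod r) := by
    rw [adjoinRoot_finrank, hPdeg]
  obtain ⟨α, hα⟩ : ∃ α : AdjoinRoot P, α = AdjoinRoot.root P := ⟨_, rfl⟩
  have hαr : α ^ r = 1 := by rw [hα]; exact adjoinRoot_pow_eq_one P r hPd
  have hα1 : α ≠ 1 := by rw [hα]; exact adjoinRoot_ne_one P r hr0 hPd
  have hα0 : α ≠ 0 := by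
    intro h0
    rw [h0, zero_pow hr.out.ne_zero] at hαr
    exact zero_ne_one hαr
  have hαi1 : α⁻¹ ≠ 1 := by
    intro h
    apply hα1
    rw [← inv_inv α, h, inv_one]
  obtain ⟨BM, hBM⟩ : ∃ BM : (AdjoinRoot P × AdjoinRoot P) →ₗ[F] (AdjoinRoot P × AdjoinRoot P) →ₗ[F] F,
      BM = (Algebra.traceForm F (AdjoinRoot P)).compl₁₂ (LinearMap.fst F _ _) (LinearMap.snd F _ _) -
        (Algebra.traceForm F (AdjoinRoot P)).compl₁₂ (LinearMap.snd F _ _) (LinearMap.fst F _ _) :=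
    ⟨_, rfl⟩
  have hBMapp : ∀ u v, BM u v = Algebra.trace F (AdjoinRoot P) (u.1 * v.2) -
      Algebra.trace F (AdjoinRoot P) (u.2 * v.1) := by
    intro u v
    rw [hBM, LinearMap.sub_apply, LinearMap.sub_apply, LinearMap.compl₁₂_apply,
      LinearMap.compl₁₂_apply, Algebra.traceForm_apply, Algebra.traceForm_apply]
    rfl
  obtain ⟨g, hg⟩ : ∃ g : (AdjoinRoot P × AdjoinRoot P) →ₗ[F] (AdjoinRoot P × AdjoinRoot P),
      g = (LinearMap.mulLeft F α).prodMap (LinearMap.mulLeft F α⁻¹) := ⟨_, rfl⟩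
  have hgapp : ∀ u, g u = (α * u.1, α⁻¹ * u.2) := by intro u; rw [hg]; rfl
  obtain ⟨c₁, hc₁⟩ := Algebra.trace_surjective F (AdjoinRoot P) 1
  refine ⟨AdjoinRoot P × AdjoinRoot P, inferInstance, inferInstance, inferInstance, BM, g,
    ?_, ?_, ?_, ?_, ?_, ?_⟩
  · intro u
    rw [hBMapp, mul_comm, sub_self]
  · intro u hu
    apply Prod.ext
    · by_contra h
      have h' : u.1 ≠ 0 := h
      have := hu (0, u.1⁻¹ * c₁)
      rw [hBMapp] at this
      simp only [mul_zero, map_zero, sub_zero] at this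
      rw [← mul_assoc, mul_inv_cancel₀ h', one_mul, hc₁] at this
      exact one_ne_zero this
    · by_contra h
      have h' : u.2 ≠ 0 := h
      have := hu (u.2⁻¹ * c₁, 0)
      rw [hBMapp] at this
      simp only [mul_zero, map_zero, zero_sub, neg_eq_zero] at this
      rw [← mul_assoc, mul_inv_cancel₀ h', one_mul, hc₁] at this
      exact one_ne_zero this
  · intro u v
    rw [hgapp, hgapp, hBMapp, hBMapp]
    have h1 : α * u.1 * (α⁻¹ * v.2) = (α * α⁻¹) * (u.1 * v.2) := by ring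
    have h2 : α⁻¹ * u.2 * (α * v.1) = (α * α⁻¹) * (u.2 * v.1) := by ring
    show Algebra.trace F (AdjoinRoot P) (α * u.1 * (α⁻¹ * v.2)) -
      Algebra.trace F (AdjoinRoot P) (α⁻¹ * u.2 * (α * v.1)) = _
    rw [h1, h2, mul_inv_cancel₀ hα0, one_mul, one_mul]
  · have hpow : ∀ k : ℕ, ∀ u, (g ^ k) u = (α ^ k * u.1, α⁻¹ ^ k * u.2) := by
      intro k
      induction k with
      | zero => intro u; simp
      | succ k ih =>
        intro u
        rw [pow_succ', Module.End.mul_apply, ih, hgapp]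
        apply Prod.ext
        · show α * (α ^ k * u.1) = α ^ (k + 1) * u.1
          rw [pow_succ']; ring
        · show α⁻¹ * (α⁻¹ ^ k * u.2) = α⁻¹ ^ (k + 1) * u.2
          rw [pow_succ']; ring
    apply LinearMap.ext
    intro u
    rw [hpow, inv_pow, hαr, inv_one, one_mul, one_mul]
    rfl
  · intro u hu
    rw [hgapp] at hu
    have h1 : α * u.1 = u.1 := congrArg Prod.fst hu
    have h2 : α⁻¹ * u.2 = u.2 := congrArg Prod.snd hu
    have h3 : (α - 1) * u.1 = 0 := by rw [sub_mul, one_mul, h1, sub_self]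
    have h4 : (α⁻¹ - 1) * u.2 = 0 := by rw [sub_mul, one_mul, h2, sub_self]
    apply Prod.ext
    · exact (mul_eq_zero.mp h3).resolve_left (sub_ne_zero.mpr hα1)
    · exact (mul_eq_zero.mp h4).resolve_left (sub_ne_zero.mpr hαi1)
  · rw [Module.finrank_prod, hfr, two_mul]

/-- the block of size `c` -/
theorem exists_block_c (p : ℕ) [Fact p.Prime] [CharP F p] (r : ℕ) [hr : Fact r.Prime]
    (hr2 : r ≠ 2) (hrp : r ≠ p) :
    ∃ (M : Type u) (_ : AddCommGroup M) (_ : Module F M) (_ : FiniteDimensional F M)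
      (BM : M →ₗ[F] M →ₗ[F] F) (g : M →ₗ[F] M),
      IsBlock r (cOf (orderOf ((Fintype.card F : ℕ) : ZMod r))) M BM g := by
  have hipos : 0 < orderOf ((Fintype.card F : ℕ) : ZMod r) := orderOf_pos_of_ne p r hrp
  unfold cOf
  split_ifs with hi
  · obtain ⟨j, hj⟩ := hi
    have := exists_block_even p r hr2 hrp j (by omega) hj
    rwa [← hj] at this
  · exact exists_block_hyp p r hrp

/-- elements of order `r` of the symplectic group with `s` blocks -/
theorem exists_elt (p : ℕ) [Fact p.Prime] [CharP F p] (r : ℕ) [hr : Fact r.Prime]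
    (hr2 : r ≠ 2) (hrp : r ≠ p) (d s : ℕ) (hs : 1 ≤ s)
    (hsd : cOf (orderOf ((Fintype.card F : ℕ) : ZMod r)) * s ≤ 2 * d) :
    ∃ x : ↥(Matrix.symplecticGroup (Fin d) F),
      (Matrix.toLin' (x : Matrix (Fin d ⊕ Fin d) (Fin d ⊕ Fin d) F)) ^ r = 1 ∧
      finrank F (Module.End.eigenspace
        (Matrix.toLin' (x : Matrix (Fin d ⊕ Fin d) (Fin d ⊕ Fin d) F)) 1) =
          2 * d - cOf (orderOf ((Fintype.card F : ℕ) : ZMod r)) * s ∧
      ∀ z : F, (x : Matrix (Fin d ⊕ Fin d) (Fin d ⊕ Fin d) F) ≠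
        z • (1 : Matrix (Fin d ⊕ Fin d) (Fin d ⊕ Fin d) F) := by
  have hipos : 0 < orderOf ((Fintype.card F : ℕ) : ZMod r) := orderOf_pos_of_ne p r hrp
  obtain ⟨M, i1, i2, i3, BM, g, h1, h2, h3, h4, h5, h6⟩ := exists_block_c (F := F) p r hr2 hrp
  obtain ⟨c, hc⟩ : ∃ c, c = cOf (orderOf ((Fintype.card F : ℕ) : ZMod r)) := ⟨_, rfl⟩
  rw [← hc] at h6 hsd ⊢
  have hcpos : 0 < c := by rw [hc]; exact cOf_pos hipos
  have hce : Even c := by rw [hc]; exact cOf_even
  obtain ⟨m, hm⟩ : ∃ m, 2 * d - c * s = 2 * m := by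
    obtain ⟨c', hc'⟩ := hce
    refine ⟨d - c' * s, ?_⟩
    rw [hc'] at hsd ⊢
    have : (c' + c') * s = c' * s + c' * s := by ring
    omega
  obtain ⟨x, hx1, hx2, hx3⟩ := exists_model_elt BM h1 h2 g h3 r (hr.out.odd_of_ne_two hr2) h4 h5
    (by rw [h6]; exact hcpos) d s m hs (by rw [h6]; have : s * c = c * s := mul_comm _ _
                                           omega)
  exact ⟨x, hx1, by rw [hx2, hm], hx3⟩

end blocks

end Cfsg.Agent.Lib.Helper15.PSpJ
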