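import Mathlib
import Cfsg.Prelude.Def_GeometricClasses

/-!
# Swapping the two factors of a tensor decomposition (helper15)

`tensorProductSubgroup n₁ n₂ e P = tensorProductSubgroup n₂ n₁ (e.trans (Equiv.prodComm _ _)) P` and the
corresponding statement for `IsTensorFormStructure`.  Used to reduce tensor-product rows in which no order
relation between `n₁` and `n₂` is assumed (S5709, S5666) to the case `n₁ < n₂`.
-/

set_option autoImplicit false

namespace Cfsg.Agent.Lib.Helper15.TensSwap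

open Matrix
open scoped Kronecker

variable {ι : Type} [Fintype ι] [DecidableEq ι] {F : Type*} [Field F]

/-- reindexing a Kronecker product along the swap of the two factors -/
theorem reindex_prodComm_kronecker {a b : ℕ} (A : Matrix (Fin a) (Fin a) F) (B : Matrix (Fin b) (Fin b) F) :
    Matrix.reindex (Equiv.prodComm (Fin a) (Fin b)) (Equiv.prodComm (Fin a) (Fin b)) (A ⊗ₖ B) = B ⊗ₖ A := by
  ext ⟨j, i⟩ ⟨j', i'⟩
  simp [Matrix.reindex_apply, Matrix.kroneckerMap_apply, mul_comm]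

theorem glReindex_val' {κ : Type} [Fintype κ] [DecidableEq κ] (e : κ ≃ ι) (g : GL κ F) :
    ((Cfsg.Geo.glReindex e g : GL ι F) : Matrix ι ι F) = Matrix.reindex e e (g : Matrix κ κ F) := rfl

theorem glReindex_trans {κ μ : Type} [Fintype κ] [DecidableEq κ] [Fintype μ] [DecidableEq μ]
    (e₁ : κ ≃ μ) (e₂ : μ ≃ ι) (g : GL κ F) :
    Cfsg.Geo.glReindex (e₁.trans e₂) g = Cfsg.Geo.glReindex e₂ (Cfsg.Geo.glReindex e₁ g) := by
  apply Units.ext
  rw [glReindex_val', glReindex_val', glReindex_val']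
  ext i j
  simp [Matrix.reindex_apply]

/-- the swap of the two factors maps the Kronecker subgroup onto the Kronecker subgroup -/
theorem map_kroneckerSubgroup_prodComm (a b : ℕ) :
    (Cfsg.Geo.kroneckerSubgroup a b F).map
      (Cfsg.Geo.glReindex (Equiv.prodComm (Fin a) (Fin b))).toMonoidHom =
      Cfsg.Geo.kroneckerSubgroup b a F := by
  ext g
  constructor
  · rintro ⟨k, ⟨A, B, hk⟩, rfl⟩
    refine ⟨B, A, ?_⟩
    change ((Cfsg.Geo.glReindex (Equiv.prodComm (Fin a) (Fin b)) k : GL (Fin b × Fin a) F) :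
      Matrix (Fin b × Fin a) (Fin b × Fin a) F) = _
    rw [glReindex_val', hk, reindex_prodComm_kronecker]
  · rintro ⟨B, A, hg⟩
    refine ⟨Cfsg.Geo.glReindex (Equiv.prodComm (Fin b) (Fin a)) g, ⟨A, B, ?_⟩, ?_⟩
    · rw [glReindex_val', hg, reindex_prodComm_kronecker]
    · change Cfsg.Geo.glReindex (Equiv.prodComm (Fin a) (Fin b))
        (Cfsg.Geo.glReindex (Equiv.prodComm (Fin b) (Fin a)) g) = g
      rw [← glReindex_trans]
      apply Units.ext
      rw [glReindex_val']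
      ext i j
      simp [Matrix.reindex_apply]

/-- **swap of the two tensor factors** for the tensor-product subgroup -/
theorem tensorProductSubgroup_swap (n₁ n₂ : ℕ) (e : ι ≃ Fin n₁ × Fin n₂) (P : GL ι F) :
    Cfsg.Geo.tensorProductSubgroup n₁ n₂ e P =
      Cfsg.Geo.tensorProductSubgroup n₂ n₁ (e.trans (Equiv.prodComm (Fin n₁) (Fin n₂))) P := by
  unfold Cfsg.Geo.tensorProductSubgroup
  congr 1
  rw [← map_kroneckerSubgroup_prodComm n₁ n₂, Subgroup.map_map]
  congr 1

/-- **swap of the two tensor factors** for the tensor structure of a form -/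
theorem isTensorFormStructure_swap (σ : F → F) (f : (ι → F) → (ι → F) → F) {n₁ n₂ : ℕ}
    (f₁ : (Fin n₁ → F) → (Fin n₁ → F) → F) (f₂ : (Fin n₂ → F) → (Fin n₂ → F) → F)
    (e : ι ≃ Fin n₁ × Fin n₂) (P : GL ι F) (h : Cfsg.Geo.IsTensorFormStructure σ f f₁ f₂ e P) :
    Cfsg.Geo.IsTensorFormStructure σ f f₂ f₁ (e.trans (Equiv.prodComm (Fin n₁) (Fin n₂))) P := by
  obtain ⟨c, hc, h⟩ := h
  refine ⟨c, hc, ?_⟩
  intro x y
  have hx : x ∘ (e.trans (Equiv.prodComm (Fin n₁) (Fin n₂))) = (x ∘ Equiv.prodComm (Fin n₁) (Fin n₂)) ∘ e := rfl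
  have hy : y ∘ (e.trans (Equiv.prodComm (Fin n₁) (Fin n₂))) = (y ∘ Equiv.prodComm (Fin n₁) (Fin n₂)) ∘ e := rfl
  rw [hx, hy, h]
  congr 1
  unfold Cfsg.Geo.formOfGram
  rw [← (Equiv.prodComm (Fin n₁) (Fin n₂)).sum_comp]
  apply Finset.sum_congr rfl
  intro p _
  rw [← (Equiv.prodComm (Fin n₁) (Fin n₂)).sum_comp]
  apply Finset.sum_congr rfl
  intro p' _
  obtain ⟨i, j⟩ := p
  obtain ⟨i', j'⟩ := p'
  simp only [Function.comp_apply, Equiv.prodComm_apply, Prod.swap_prod_mk, Matrix.kroneckerMap_apply]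
  ring

end Cfsg.Agent.Lib.Helper15.TensSwap
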