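import Mathlib
import Cfsg.Agent.Lib.Helper15.PSpI4
import Cfsg.Agent.Lib.Helper15.SympOrder

/-!
# Involutions of `PSp` stabilise orthogonal decompositions
-/

set_option autoImplicit false

namespace Cfsg.Agent.Lib.Helper15.PSpI

open Module Submodule Cfsg.Agent.Lib.Helper15 Cfsg.Agent.Lib.Helper6

section final

variable {F : Type*} [Field F]

/-- a symplectic matrix with scalar square stabilises an orthogonal decomposition into `t`
nondegenerate subspaces of even dimension `a` -/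
theorem exists_decomposition (d : ℕ) (hd : 1 ≤ d) (a t : ℕ) (hat : 2 * d = a * t) (ha : 2 ≤ a)
    (hae : Even a) (ht : 2 ≤ t) (x : ↥(Matrix.symplecticGroup (Fin d) F))
    (hx1 : ∃ z : F, ((x ^ 2 : ↥(Matrix.symplecticGroup (Fin d) F)) : Matrix (Fin d ⊕ Fin d) (Fin d ⊕ Fin d) F) = z • (1 : Matrix (Fin d ⊕ Fin d) (Fin d ⊕ Fin d) F)) :
    ∃ D : Fin t → Submodule F (Fin d ⊕ Fin d → F), (Cfsg.Geo.IsMDecomposition a D ∧ (∀ j, ∀ u ∈ D j, u ≠ 0 → ∃ v ∈ D j, Cfsg.sympForm d F u v ≠ 0) ∧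
          (∀ j j', j ≠ j' → ∀ u ∈ D j, ∀ v ∈ D j', Cfsg.sympForm d F u v = 0)) ∧
        ∃ σ : Equiv.Perm (Fin t), ∀ j, (D j).map (Matrix.toLin' (x : Matrix (Fin d ⊕ Fin d) (Fin d ⊕ Fin d) F)) = D (σ j) := by
  classical
  obtain ⟨z, hz⟩ := hx1
  obtain ⟨h, hh⟩ := hae
  have hh1 : 1 ≤ h := by omega
  have ha2 : a = 2 * h := by omega
  obtain ⟨y, hy⟩ : ∃ y : (Fin d ⊕ Fin d → F) →ₗ[F] (Fin d ⊕ Fin d → F),
      y = Matrix.toLin' (x : Matrix (Fin d ⊕ Fin d) (Fin d ⊕ Fin d) F) := ⟨_, rfl⟩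
  rw [← hy]
  have hx2 : ∀ v, y (y v) = z • v := by
    intro v
    rw [hy, Matrix.toLin'_apply, Matrix.toLin'_apply, Matrix.mulVec_mulVec, ← pow_two,
      ← SubmonoidClass.coe_pow, hz, Matrix.smul_mulVec, Matrix.one_mulVec]
  have hiso : ∀ u v, stdSymp d F (y u) (y v) = stdSymp d F u v := by
    intro u v
    rw [hy, stdSymp_apply, stdSymp_apply, Matrix.toLin'_apply, Matrix.toLin'_apply]
    exact (mem_symplecticGroup_iff_preserves x.1).mp x.2 u v
  have hz0 : z ≠ 0 := by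
    intro h0
    have h1 := hx2 (Pi.single (Sum.inl ⟨0, hd⟩) 1)
    rw [h0, zero_smul] at h1
    have h2 := hiso (y (Pi.single (Sum.inl ⟨0, hd⟩) 1)) (y (Pi.single (Sum.inr ⟨0, hd⟩) 1))
    rw [h1, map_zero, LinearMap.zero_apply, hiso, stdSymp_apply, sympForm_single_right_inr] at h2
    simp at h2
  have htop : (⊤ : Submodule F (Fin d ⊕ Fin d → F)).map y = ⊤ := by
    apply map_eq_of_le y z hz0 hx2
    exact le_top
  have hnd : NondegOn (stdSymp d F) ⊤ := by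
    intro u _ hu
    exact stdSymp_nondeg u fun v => hu v mem_top
  have hfr : finrank F (⊤ : Submodule F (Fin d ⊕ Fin d → F)) = 2 * (h * t) := by
    rw [finrank_top, Module.finrank_pi, Fintype.card_sum, Fintype.card_fin, ← two_mul, hat, ha2,
      mul_assoc]
  obtain ⟨κ, hκ, σ, hκc, D, hDf, hDs, hDm, hDn, hDo⟩ :=
    exists_decomp stdSymp_alt y z hz0 hx2 hiso h hh1 t ⊤ htop hnd hfr
  obtain ⟨e⟩ : Nonempty (κ ≃ Fin t) := ⟨Fintype.equivFinOfCardEq hκc⟩
  refine ⟨fun j => D (e.symm j), ⟨⟨ht, by omega, fun j => by rw [hDf, ha2],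
    (PDO.iSupIndep stdSymp_alt hDn hDo).comp e.symm.injective, ?_⟩, ?_, ?_⟩,
    e.symm.trans (σ.trans e), fun j => ?_⟩
  · show (⨆ j, D (e.symm j)) = ⊤
    rw [← hDs]
    exact e.symm.iSup_comp (g := D)
  · intro j u hu hu0
    by_contra hcon
    push Not at hcon
    exact hu0 (hDn (e.symm j) u hu hcon)
  · intro j j' hjj' u hu v hv
    exact hDo (e.symm j) (e.symm j') (fun h => hjj' (e.symm.injective h)) u hu v hv
  · rw [hDm]
    simp

end final

end Cfsg.Agent.Lib.Helper15.PSpI
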