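import Mathlib
import Cfsg.Agent.Lib.Helper15.PSpJ5
import Cfsg.Agent.Lib.Helper15.PSpI5

/-!
# Counting orthogonal decompositions: divisibility of their number
-/

set_option autoImplicit false
set_option warn.classDefReducibility false

namespace Cfsg.Agent.Lib.Helper15.PSpJ

open Module Submodule Polynomial Cfsg.Agent.Lib.Helper15 Cfsg.Agent.Lib.Helper15.PSpI
  Cfsg.Agent.Lib.Helper15.PSub Cfsg.Agent.Lib.Helper15.PDec Cfsg.Agent.Lib.Helper15.PSpD
  Cfsg.Agent.Lib.Helper6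

section od

variable {F : Type*} [Field F]

/-- orthogonal decompositions into nondegenerate `a`-spaces -/
abbrev IsOD (d a t : ℕ) (D : Fin t → Submodule F (Fin d ⊕ Fin d → F)) : Prop :=
  (Cfsg.Geo.IsMDecomposition a D ∧
    (∀ j, ∀ u ∈ D j, u ≠ 0 → ∃ v ∈ D j, Cfsg.sympForm d F u v ≠ 0) ∧
    (∀ j j', j ≠ j' → ∀ u ∈ D j, ∀ v ∈ D j', Cfsg.sympForm d F u v = 0))

theorem isOD_perm {d a t : ℕ} {D : Fin t → Submodule F (Fin d ⊕ Fin d → F)}
    (h : IsOD d a t D) (σ : Equiv.Perm (Fin t)) : IsOD d a t (D ∘ σ) := by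
  obtain ⟨h1, h2, h3⟩ := h
  refine ⟨⟨h1.two_le, h1.pos, fun i => h1.finrank_eq _, h1.indep.comp σ.injective, ?_⟩,
    fun j => h2 (σ j), fun j j' hjj' => h3 (σ j) (σ j') (fun h => hjj' (σ.injective h))⟩
  rw [← h1.iSup_eq_top]
  exact σ.iSup_comp (g := D)

theorem isOD_injective {d a t : ℕ} {D : Fin t → Submodule F (Fin d ⊕ Fin d → F)}
    (h : IsOD d a t D) : Function.Injective D := by
  apply h.1.indep.injective
  intro i h0
  have h1 := h.1.finrank_eq i
  rw [h0, finrank_bot] at h1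
  have := h.1.pos
  omega

/-- the action of `S_t` on ordered orthogonal decompositions -/
noncomputable def odPermAction (d a t : ℕ) : MulAction (Equiv.Perm (Fin t))
    {D : Fin t → Submodule F (Fin d ⊕ Fin d → F) // IsOD d a t D} where
  smul σ D := ⟨D.1 ∘ σ.symm, isOD_perm D.2 σ.symm⟩
  one_smul _ := Subtype.ext rfl
  mul_smul _ _ _ := Subtype.ext rfl

theorem factorial_dvd_card_od [Finite F] (d a t : ℕ) :
    t.factorial ∣
      Nat.card {D : Fin t → Submodule F (Fin d ⊕ Fin d → F) // IsOD d a t D} := by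
  classical
  let _ := odPermAction (F := F) d a t
  have hfree : ∀ D : {D : Fin t → Submodule F (Fin d ⊕ Fin d → F) // IsOD d a t D},
      MulAction.stabilizer (Equiv.Perm (Fin t)) D = ⊥ := by
    intro D
    rw [eq_bot_iff]
    intro σ hσ
    rw [MulAction.mem_stabilizer_iff] at hσ
    rw [Subgroup.mem_bot]
    have h1 : D.1 ∘ σ.symm = D.1 := congrArg Subtype.val hσ
    have hinj := isOD_injective D.2
    have h2 : ∀ j, σ.symm j = j := fun j => hinj (congrFun h1 j)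
    ext j
    have := h2 (σ j)
    rw [Equiv.symm_apply_apply] at this
    rw [Equiv.Perm.one_apply, ← this]
  have e := MulAction.selfEquivOrbitsQuotientProd hfree
  rw [Nat.card_congr e, Nat.card_prod, Nat.card_perm, Nat.card_eq_fintype_card (α := Fin t),
    Fintype.card_fin]
  exact Dvd.intro_left _ rfl


/-- an isometric identification of the orthogonal sum of `t` standard spaces with an orthogonal
decomposition -/
theorem exists_od_iso [Fintype F] {d a t h : ℕ} (hh : 1 ≤ h) (ha : a = 2 * h)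
    (hdim : 2 * d = a * t)
    {D : Fin t → Submodule F (Fin d ⊕ Fin d → F)} (hD : IsOD d a t D) :
    ∃ Φ : (Fin t → (Fin h ⊕ Fin h → F)) ≃ₗ[F] (Fin d ⊕ Fin d → F),
      (∀ u v, Cfsg.sympForm d F (Φ u) (Φ v) = piForm (stdSymp h F) t u v) ∧
      ∀ j v, v ∈ D j ↔ ∃ u, Φ (Pi.single j u) = v := by
  classical
  obtain ⟨h1, h2, h3⟩ := hD
  have hex : ∀ j, ∃ φ : (Fin h ⊕ Fin h → F) ≃ₗ[F] ↥(D j),
      ∀ u v, Cfsg.sympForm d F (φ u : Fin d ⊕ Fin d → F) (φ v : Fin d ⊕ Fin d → F) =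
        Cfsg.sympForm h F u v := by
    intro j
    have := exists_symp_iso ((stdSymp d F).domRestrict₁₂ (D j) (D j))
      (fun x => by
        rw [LinearMap.domRestrict₁₂_apply]
        exact stdSymp_alt _)
      (fun x hx => by
        by_contra hne
        have hne' : (x : Fin d ⊕ Fin d → F) ≠ 0 := fun h0 => hne (Subtype.ext h0)
        obtain ⟨v, hv, hv0⟩ := h2 j x x.2 hne'
        apply hv0
        have := hx ⟨v, hv⟩
        rw [LinearMap.domRestrict₁₂_apply] at this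
        exact this) h hh (by rw [h1.finrank_eq, ha])
    obtain ⟨Ψ, hΨ⟩ := this
    refine ⟨Ψ, fun u v => ?_⟩
    rw [← hΨ u v, LinearMap.domRestrict₁₂_apply]
    rfl
  choose φ hφ using hex
  obtain ⟨Φ₀, hΦ₀⟩ : ∃ Φ₀ : (Fin t → (Fin h ⊕ Fin h → F)) →ₗ[F] (Fin d ⊕ Fin d → F),
      Φ₀ = ∑ j, (D j).subtype ∘ₗ (φ j).toLinearMap ∘ₗ LinearMap.proj j := ⟨_, rfl⟩
  have hΦ₀app : ∀ m, Φ₀ m = ∑ j, (φ j (m j) : Fin d ⊕ Fin d → F) := by
    intro m
    rw [hΦ₀, LinearMap.sum_apply]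
    rfl
  have hiso : ∀ u v, Cfsg.sympForm d F (Φ₀ u) (Φ₀ v) = piForm (stdSymp h F) t u v := by
    intro u v
    rw [← stdSymp_apply, hΦ₀app, hΦ₀app, map_sum, piForm_apply]
    apply Finset.sum_congr rfl
    intro j _
    rw [map_sum, LinearMap.sum_apply, Finset.sum_eq_single j]
    · rw [stdSymp_apply, hφ, stdSymp_apply]
    · intro k _ hk
      rw [stdSymp_apply]
      exact h3 k j hk _ (φ k (u k)).2 _ (φ j (v j)).2
    · intro hj
      exact absurd (Finset.mem_univ j) hj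
  have hinj : Function.Injective Φ₀ := by
    rw [← LinearMap.ker_eq_bot, LinearMap.ker_eq_bot']
    intro u hu
    apply piForm_nondeg (stdSymp h F) stdSymp_nondeg t u
    intro v
    rw [← hiso, hu]
    exact sympForm_zero_left _
  have hfr : finrank F (Fin t → (Fin h ⊕ Fin h → F)) = finrank F (Fin d ⊕ Fin d → F) := by
    rw [Module.finrank_pi_fintype, Module.finrank_pi, Module.finrank_pi, Fintype.card_sum,
      Fintype.card_sum, Fintype.card_fin, Fintype.card_fin]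
    simp only [Finset.sum_const, Finset.card_univ, Fintype.card_fin, smul_eq_mul]
    rw [ha] at hdim
    have h5 : t * (h + h) = 2 * h * t := by ring
    omega
  obtain ⟨Φ, hΦ⟩ : ∃ Φ : (Fin t → (Fin h ⊕ Fin h → F)) ≃ₗ[F] (Fin d ⊕ Fin d → F),
      ∀ u, Φ u = Φ₀ u := ⟨LinearMap.linearEquivOfInjective Φ₀ hinj hfr, fun u => rfl⟩
  refine ⟨Φ, fun u v => by rw [hΦ, hΦ, hiso], fun j v => ?_⟩
  have hsingle : ∀ u, Φ (Pi.single j u) = (φ j u : Fin d ⊕ Fin d → F) := by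
    intro u
    rw [hΦ, hΦ₀app, Finset.sum_eq_single j]
    · rw [Pi.single_eq_same]
    · intro k _ hk
      rw [Pi.single_eq_of_ne hk, map_zero]
      rfl
    · intro hj
      exact absurd (Finset.mem_univ j) hj
  constructor
  · intro hv
    refine ⟨(φ j).symm ⟨v, hv⟩, ?_⟩
    rw [hsingle, LinearEquiv.apply_symm_apply]
  · rintro ⟨u, rfl⟩
    rw [hsingle]
    exact (φ j u).2

/-- the symplectic group is transitive on ordered orthogonal decompositions -/
theorem exists_symp_map_eq [Fintype F] {d a t : ℕ} (ha : 2 ≤ a) (hae : Even a)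
    (hdim : 2 * d = a * t)
    {D D' : Fin t → Submodule F (Fin d ⊕ Fin d → F)} (hD : IsOD d a t D)
    (hD' : IsOD d a t D') :
    ∃ g : ↥(Matrix.symplecticGroup (Fin d) F), ∀ j,
      (D j).map (Matrix.toLin' (g : Matrix (Fin d ⊕ Fin d) (Fin d ⊕ Fin d) F)) = D' j := by
  classical
  obtain ⟨h, hh⟩ := hae
  have hh' : a = 2 * h := by omega
  have hh1 : 1 ≤ h := by omega
  obtain ⟨Φ, hΦ1, hΦ2⟩ := exists_od_iso hh1 hh' hdim hD
  obtain ⟨Φ', hΦ'1, hΦ'2⟩ := exists_od_iso hh1 hh' hdim hD'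
  obtain ⟨y, hy⟩ : ∃ y : (Fin d ⊕ Fin d → F) →ₗ[F] (Fin d ⊕ Fin d → F),
      y = Φ'.toLinearMap ∘ₗ Φ.symm.toLinearMap := ⟨_, rfl⟩
  have hyapp : ∀ u, y u = Φ' (Φ.symm u) := by intro u; rw [hy]; rfl
  obtain ⟨A, hA⟩ : ∃ A : Matrix (Fin d ⊕ Fin d) (Fin d ⊕ Fin d) F,
      A = LinearMap.toMatrixAlgEquiv' y := ⟨_, rfl⟩
  have hAy : Matrix.toLin' A = y := by
    rw [hA]
    exact Matrix.toLinAlgEquiv'_toMatrixAlgEquiv' y
  have hAmul : ∀ u, A.mulVec u = y u := by
    intro u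
    rw [← hAy, Matrix.toLin'_apply]
  have hAmem : A ∈ Matrix.symplecticGroup (Fin d) F := by
    rw [mem_symplecticGroup_iff_preserves]
    intro u v
    rw [hAmul, hAmul, hyapp, hyapp, hΦ'1, ← hΦ1, LinearEquiv.apply_symm_apply,
      LinearEquiv.apply_symm_apply]
  refine ⟨⟨A, hAmem⟩, fun j => ?_⟩
  show (D j).map (Matrix.toLin' A) = D' j
  rw [hAy]
  apply le_antisymm
  · rintro _ ⟨v, hv, rfl⟩
    obtain ⟨u, rfl⟩ := (hΦ2 j v).mp hv
    rw [hyapp, LinearEquiv.symm_apply_apply]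
    exact (hΦ'2 j _).mpr ⟨u, rfl⟩
  · intro v' hv'
    obtain ⟨u, rfl⟩ := (hΦ'2 j v').mp hv'
    refine ⟨Φ (Pi.single j u), (hΦ2 j _).mpr ⟨u, rfl⟩, ?_⟩
    rw [hyapp, LinearEquiv.symm_apply_apply]

/-- an isometry maps orthogonal decompositions to orthogonal decompositions -/
theorem isOD_map {d a t : ℕ} {D : Fin t → Submodule F (Fin d ⊕ Fin d → F)}
    (hD : IsOD d a t D) (g : (Fin d ⊕ Fin d → F) ≃ₗ[F] (Fin d ⊕ Fin d → F))
    (hg : ∀ u v, Cfsg.sympForm d F (g u) (g v) = Cfsg.sympForm d F u v) :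
    IsOD d a t (fun j => (D j).map (g : (Fin d ⊕ Fin d → F) →ₗ[F] (Fin d ⊕ Fin d → F))) := by
  obtain ⟨h1, h2, h3⟩ := hD
  refine ⟨⟨h1.two_le, h1.pos, fun i => ?_, ?_, ?_⟩, ?_, ?_⟩
  · rw [LinearEquiv.finrank_map_eq, h1.finrank_eq]
  · exact h1.indep.map_orderIso (Submodule.orderIsoMapComap g)
  · show (⨆ j, (D j).map (g : (Fin d ⊕ Fin d → F) →ₗ[F] (Fin d ⊕ Fin d → F))) = ⊤
    rw [← Submodule.map_iSup, h1.iSup_eq_top, Submodule.map_top, LinearEquiv.range]
  · rintro j _ ⟨u, hu, rfl⟩ hne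
    have hu0 : u ≠ 0 := by
      rintro rfl
      exact hne (map_zero _)
    obtain ⟨v, hv, hv0⟩ := h2 j u hu hu0
    refine ⟨g v, ⟨v, hv, rfl⟩, ?_⟩
    show Cfsg.sympForm d F (g u) (g v) ≠ 0
    rw [hg]
    exact hv0
  · rintro j j' hjj' _ ⟨u, hu, rfl⟩ _ ⟨v, hv, rfl⟩
    show Cfsg.sympForm d F (g u) (g v) = 0
    rw [hg]
    exact h3 j j' hjj' u hu v hv

/-- the linear automorphism given by a symplectic matrix -/
noncomputable def sympLin {d : ℕ} (g : ↥(Matrix.symplecticGroup (Fin d) F)) :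
    (Fin d ⊕ Fin d → F) ≃ₗ[F] (Fin d ⊕ Fin d → F) :=
  LinearEquiv.ofLinearMap
    (Matrix.toLin' (g : Matrix (Fin d ⊕ Fin d) (Fin d ⊕ Fin d) F))
    (Matrix.toLin' ((g⁻¹ : ↥(Matrix.symplecticGroup (Fin d) F)) :
      Matrix (Fin d ⊕ Fin d) (Fin d ⊕ Fin d) F))
    (by
      rw [← Matrix.toLin'_mul, ← Submonoid.coe_mul, mul_inv_cancel, Submonoid.coe_one,
        Matrix.toLin'_one])
    (by
      rw [← Matrix.toLin'_mul, ← Submonoid.coe_mul, inv_mul_cancel, Submonoid.coe_one,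
        Matrix.toLin'_one])

theorem sympLin_coe {d : ℕ} (g : ↥(Matrix.symplecticGroup (Fin d) F)) :
    ((sympLin g : (Fin d ⊕ Fin d → F) ≃ₗ[F] (Fin d ⊕ Fin d → F)) :
      (Fin d ⊕ Fin d → F) →ₗ[F] (Fin d ⊕ Fin d → F)) =
      Matrix.toLin' (g : Matrix (Fin d ⊕ Fin d) (Fin d ⊕ Fin d) F) := rfl

theorem sympLin_iso {d : ℕ} (g : ↥(Matrix.symplecticGroup (Fin d) F)) (u v : Fin d ⊕ Fin d → F) :
    Cfsg.sympForm d F (sympLin g u) (sympLin g v) = Cfsg.sympForm d F u v := by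
  have := (mem_symplecticGroup_iff_preserves
    (g : Matrix (Fin d ⊕ Fin d) (Fin d ⊕ Fin d) F)).mp g.2 u v
  rw [← Matrix.toLin'_apply, ← Matrix.toLin'_apply] at this
  exact this

/-- the action of the symplectic group on ordered orthogonal decompositions -/
noncomputable def odSympAction (d a t : ℕ) : MulAction ↥(Matrix.symplecticGroup (Fin d) F)
    {D : Fin t → Submodule F (Fin d ⊕ Fin d → F) // IsOD d a t D} where
  smul g D := ⟨fun j => (D.1 j).map
    (Matrix.toLin' (g : Matrix (Fin d ⊕ Fin d) (Fin d ⊕ Fin d) F)),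
    isOD_map D.2 (sympLin g) (sympLin_iso g)⟩
  one_smul D := Subtype.ext (funext fun j => by
    show (D.1 j).map (Matrix.toLin' ((1 : ↥(Matrix.symplecticGroup (Fin d) F)) :
      Matrix (Fin d ⊕ Fin d) (Fin d ⊕ Fin d) F)) = D.1 j
    rw [Submonoid.coe_one, Matrix.toLin'_one]
    exact Submodule.map_id _)
  mul_smul g h D := Subtype.ext (funext fun j => by
    show (D.1 j).map (Matrix.toLin' ((g * h : ↥(Matrix.symplecticGroup (Fin d) F)) :
      Matrix (Fin d ⊕ Fin d) (Fin d ⊕ Fin d) F)) =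
      ((D.1 j).map (Matrix.toLin' (h : Matrix (Fin d ⊕ Fin d) (Fin d ⊕ Fin d) F))).map
        (Matrix.toLin' (g : Matrix (Fin d ⊕ Fin d) (Fin d ⊕ Fin d) F))
    rw [← Submodule.map_comp, Submonoid.coe_mul, Matrix.toLin'_mul])

theorem card_od_dvd_card_symp [Fintype F] {d a t : ℕ} (ha : 2 ≤ a) (hae : Even a)
    (hdim : 2 * d = a * t)
    (D₀ : {D : Fin t → Submodule F (Fin d ⊕ Fin d → F) // IsOD d a t D}) :
    Nat.card {D : Fin t → Submodule F (Fin d ⊕ Fin d → F) // IsOD d a t D} ∣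
      Nat.card ↥(Matrix.symplecticGroup (Fin d) F) := by
  classical
  let _ := odSympAction (F := F) d a t
  have horb : MulAction.orbit ↥(Matrix.symplecticGroup (Fin d) F) D₀ = Set.univ := by
    rw [Set.eq_univ_iff_forall]
    intro D
    obtain ⟨g, hg⟩ := exists_symp_map_eq ha hae hdim D₀.2 D.2
    exact ⟨g, Subtype.ext (_root_.funext hg)⟩
  have e := MulAction.orbitProdStabilizerEquivGroup ↥(Matrix.symplecticGroup (Fin d) F) D₀
  rw [← Nat.card_congr e, Nat.card_prod, horb, Nat.card_congr (Equiv.Set.univ _)]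
  exact Dvd.intro _ rfl

/-- if `r` divides the number of unordered orthogonal decompositions then `r` divides
`q ^ (2 (j + 1)) - 1` for some `j < d` -/
theorem exists_dvd_of_dvd_od [Fintype F] (p : ℕ) [hp : Fact p.Prime] [CharP F p] (r : ℕ)
    (hr : r.Prime) (hrp : r ≠ p) {d a t : ℕ} (ha : 2 ≤ a) (hae : Even a)
    (hdim : 2 * d = a * t)
    (D₀ : {D : Fin t → Submodule F (Fin d ⊕ Fin d → F) // IsOD d a t D})
    (h : r ∣ Nat.card {D : Fin t → Submodule F (Fin d ⊕ Fin d → F) // IsOD d a t D} /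
      Nat.factorial t) :
    ∃ j < d, r ∣ Fintype.card F ^ (2 * (j + 1)) - 1 := by
  have h1 : r ∣ Nat.card ↥(Matrix.symplecticGroup (Fin d) F) :=
    (h.trans (Nat.div_dvd_of_dvd (factorial_dvd_card_od d a t))).trans
      (card_od_dvd_card_symp ha hae hdim D₀)
  rw [card_symplecticGroup] at h1
  have hnq : ¬ r ∣ Fintype.card F ^ (d ^ 2) := by
    intro hd
    have h1 := hr.dvd_of_dvd_pow hd
    obtain ⟨⟨f, _⟩, -, hf⟩ := FiniteField.card F p
    rw [hf] at h1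
    have h2 := hr.dvd_of_dvd_pow h1
    exact hrp ((Nat.prime_dvd_prime_iff_eq hr hp.out).mp h2)
  have h2 := ((Nat.Prime.dvd_mul hr).mp h1).resolve_left hnq
  obtain ⟨j, hj, hjd⟩ := (Nat.Prime.prime hr).exists_mem_finset_dvd h2
  exact ⟨j, Finset.mem_range.mp hj, hjd⟩

end od

end Cfsg.Agent.Lib.Helper15.PSpJ
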