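import Mathlib
import Cfsg.Agent.Lib.Helper15.PSpJ6
import Cfsg.Agent.Lib.Helper15.PDec8

/-!
# Elements of odd prime order of `PSp` and orthogonal decompositions: the criterion
-/

set_option autoImplicit false

namespace Cfsg.Agent.Lib.Helper15.PSpJ

open Module Submodule Polynomial Cfsg.Agent.Lib.Helper15 Cfsg.Agent.Lib.Helper15.PSpI
  Cfsg.Agent.Lib.Helper15.PSub Cfsg.Agent.Lib.Helper15.PDec Cfsg.Agent.Lib.Helper15.PSpD
  Cfsg.Agent.Lib.Helper6

section crit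

variable {F : Type*} [Field F] [Fintype F]

theorem cOf_le_pred (p : ℕ) [hp : Fact p.Prime] [CharP F p] (r : ℕ) [hr : Fact r.Prime]
    (hr2 : r ≠ 2) (hrp : r ≠ p) :
    cOf (orderOf ((Fintype.card F : ℕ) : ZMod r)) ≤ r - 1 := by
  have h1 := ord_dvd_pred (F := F) p r hrp
  have hodd : Odd r := hr.out.odd_of_ne_two hr2
  have hr1 : 0 < r - 1 := by have := hr.out.two_le; omega
  unfold cOf
  split_ifs with hi
  · exact Nat.le_of_dvd hr1 h1
  · have h2 : 2 ∣ r - 1 := by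
      obtain ⟨k, hk⟩ := hodd
      exact ⟨k, by omega⟩
    have hcop : Nat.Coprime 2 (orderOf ((Fintype.card F : ℕ) : ZMod r)) := by
      rw [Nat.coprime_two_left]
      exact Nat.not_even_iff_odd.mp hi
    exact Nat.le_of_dvd hr1 (hcop.mul_dvd_of_dvd_of_dvd h2 h1)

theorem cOf_le_of_dvd {i m : ℕ} (hm : 0 < m) (h : i ∣ 2 * m) : cOf i ≤ 2 * m := by
  unfold cOf
  split_ifs with hi
  · exact Nat.le_of_dvd (by omega) h
  · have hcop : Nat.Coprime i 2 := by
      rw [Nat.coprime_two_right]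
      exact Nat.not_even_iff_odd.mp hi
    have h2 : i ∣ m := hcop.dvd_of_dvd_mul_left h
    have := Nat.le_of_dvd hm h2
    omega

omit [Fintype F] in
theorem nondegOn_of_od {d a t : ℕ} {D : Fin t → Submodule F (Fin d ⊕ Fin d → F)}
    (hD : IsOD d a t D) (j : Fin t) : NondegOn (stdSymp d F) (D j) := by
  intro u hu huv
  by_contra hne
  obtain ⟨v, hv, hv0⟩ := hD.2.1 j u hu hne
  exact hv0 (huv v hv)

omit [Fintype F] in
theorem sympLin_iso' {d : ℕ} (x : ↥(Matrix.symplecticGroup (Fin d) F))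
    (u v : Fin d ⊕ Fin d → F) :
    stdSymp d F (Matrix.toLin' (x : Matrix (Fin d ⊕ Fin d) (Fin d ⊕ Fin d) F) u)
      (Matrix.toLin' (x : Matrix (Fin d ⊕ Fin d) (Fin d ⊕ Fin d) F) v) = stdSymp d F u v := by
  rw [stdSymp_apply, stdSymp_apply, Matrix.toLin'_apply, Matrix.toLin'_apply]
  exact (mem_symplecticGroup_iff_preserves x.1).mp x.2 u v

/-- **Necessity.** -/
theorem necessity_sp (p : ℕ) [Fact p.Prime] [CharP F p] (r : ℕ) [hr : Fact r.Prime]
    (hr2 : r ≠ 2) (hrp : r ≠ p) (d a t : ℕ) (hat : 2 * d = a * t) (ha : 2 ≤ a)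
    (hcn : cOf (orderOf ((Fintype.card F : ℕ) : ZMod r)) ≤ 2 * d)
    (hgood : ∀ x : ↥(Matrix.symplecticGroup (Fin d) F),
      (Matrix.toLin' (x : Matrix (Fin d ⊕ Fin d) (Fin d ⊕ Fin d) F)) ^ r = 1 →
      (∀ z : F, (x : Matrix (Fin d ⊕ Fin d) (Fin d ⊕ Fin d) F) ≠
        z • (1 : Matrix (Fin d ⊕ Fin d) (Fin d ⊕ Fin d) F)) →
      ∃ D : Fin t → Submodule F (Fin d ⊕ Fin d → F), IsOD d a t D ∧
        ∃ σ : Equiv.Perm (Fin t), ∀ j,
          (D j).map (Matrix.toLin' (x : Matrix (Fin d ⊕ Fin d) (Fin d ⊕ Fin d) F)) = D (σ j)) :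
    cOf (orderOf ((Fintype.card F : ℕ) : ZMod r)) ≤ a ∧
      (2 * d) % cOf (orderOf ((Fintype.card F : ℕ) : ZMod r)) =
        t * (a % cOf (orderOf ((Fintype.card F : ℕ) : ZMod r))) := by
  have hipos : 0 < orderOf ((Fintype.card F : ℕ) : ZMod r) := orderOf_pos_of_ne p r hrp
  have hcr := cOf_le_pred (F := F) p r hr2 hrp
  obtain ⟨c, hc⟩ : ∃ c, c = cOf (orderOf ((Fintype.card F : ℕ) : ZMod r)) := ⟨_, rfl⟩
  rw [← hc] at hcn hcr ⊢
  have hcpos : 0 < c := by rw [hc]; exact cOf_pos hipos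
  have hr3 : 2 ≤ r := hr.out.two_le
  have hfrV : finrank F (Fin d ⊕ Fin d → F) = 2 * d := by
    rw [Module.finrank_pi, Fintype.card_sum, Fintype.card_fin, two_mul]
  -- the profile of an invariant summand
  have hprof : ∀ (x : ↥(Matrix.symplecticGroup (Fin d) F)),
      (Matrix.toLin' (x : Matrix (Fin d ⊕ Fin d) (Fin d ⊕ Fin d) F)) ^ r = 1 →
      ∀ (D : Fin t → Submodule F (Fin d ⊕ Fin d → F)), IsOD d a t D → ∀ j,
      (D j).map (Matrix.toLin' (x : Matrix (Fin d ⊕ Fin d) (Fin d ⊕ Fin d) F)) = D j →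
      ∃ s, finrank F ↥(D j ⊓ Module.End.eigenspace
        (Matrix.toLin' (x : Matrix (Fin d ⊕ Fin d) (Fin d ⊕ Fin d) F)) 1) + c * s = a := by
    intro x hx D hD j hj
    have hr0 : (r : F) ≠ 0 := ne_zero_of_ne' p r hr.out hrp
    obtain ⟨s, hs⟩ := movPart_profile (B := stdSymp d F) p r hrp stdSymp_alt _ (sympLin_iso' x) hx
      (D j) hj (nondegOn_of_od hD j)
    obtain ⟨-, -, -, h4, -, -⟩ := movPart_props (B := stdSymp d F) stdSymp_alt _ (sympLin_iso' x) r
      hr.out.ne_zero hr0 hx (D j) hj (nondegOn_of_od hD j)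
    refine ⟨s, ?_⟩
    rw [← hc] at hs
    rw [← hs, h4, hD.1.finrank_eq]
  have hca : c ≤ a := by
    by_contra hlt
    have hac : a < c := by omega
    obtain ⟨x, hx, hE, hns⟩ := exists_elt (F := F) p r hr2 hrp d 1 le_rfl
      (by rw [mul_one, ← hc]; exact hcn)
    rw [mul_one, ← hc] at hE
    obtain ⟨D, hD, σ, hσ⟩ := hgood x hx hns
    have hinj := isOD_injective hD
    by_cases hid : ∀ j, σ j = j
    · have h1 : ∀ j, D j ≤ Module.End.eigenspace
          (Matrix.toLin' (x : Matrix (Fin d ⊕ Fin d) (Fin d ⊕ Fin d) F)) 1 := by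
        intro j
        obtain ⟨s, hs⟩ := hprof x hx D hD j (by rw [hσ, hid])
        have hs0 : s = 0 := by
          by_contra hne
          have : c * 1 ≤ c * s := Nat.mul_le_mul_left c (Nat.one_le_iff_ne_zero.mpr hne)
          omega
        rw [hs0, mul_zero, add_zero] at hs
        have h2 : D j ⊓ Module.End.eigenspace
            (Matrix.toLin' (x : Matrix (Fin d ⊕ Fin d) (Fin d ⊕ Fin d) F)) 1 = D j :=
          Submodule.eq_of_le_of_finrank_eq inf_le_left (by rw [hs, hD.1.finrank_eq])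
        rw [← h2]
        exact inf_le_right
      have h2 : Module.End.eigenspace
          (Matrix.toLin' (x : Matrix (Fin d ⊕ Fin d) (Fin d ⊕ Fin d) F)) 1 = ⊤ := by
        rw [eq_top_iff, ← hD.1.iSup_eq_top]
        exact iSup_le h1
      rw [h2, finrank_top, hfrV] at hE
      omega
    · obtain ⟨j, hj⟩ := not_forall.mp hid
      have h1 := rank_bound r hr.out _ hx D hD.1.indep a hD.1.finrank_eq hinj σ hσ j hj
      rw [hE, hfrV] at h1
      have : (r - 1) * 2 ≤ (r - 1) * a := Nat.mul_le_mul_left _ ha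
      omega
  refine ⟨hca, ?_⟩
  have hmodE : 2 * d - c * (2 * d / c) = 2 * d % c := by
    have := Nat.div_add_mod (2 * d) c
    omega
  obtain ⟨x, hx, hE, hns⟩ := exists_elt (F := F) p r hr2 hrp d (2 * d / c)
    (Nat.div_pos hcn hcpos) (by rw [← hc]; exact Nat.mul_div_le (2 * d) c)
  rw [← hc, hmodE] at hE
  obtain ⟨D, hD, σ, hσ⟩ := hgood x hx hns
  have hinj := isOD_injective hD
  have hlt : 2 * d % c < c := Nat.mod_lt _ hcpos
  by_cases hid : ∀ j, σ j = j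
  · have h1 : ∀ j, a % c ≤ finrank F ↥(D j ⊓ Module.End.eigenspace
        (Matrix.toLin' (x : Matrix (Fin d ⊕ Fin d) (Fin d ⊕ Fin d) F)) 1) := by
      intro j
      obtain ⟨s, hs⟩ := hprof x hx D hD j (by rw [hσ, hid])
      rw [← hs, Nat.add_mul_mod_self_left]
      exact Nat.mod_le _ _
    have hind' : iSupIndep (fun j => D j ⊓ Module.End.eigenspace
        (Matrix.toLin' (x : Matrix (Fin d ⊕ Fin d) (Fin d ⊕ Fin d) F)) 1) :=
      hD.1.indep.mono (fun j => inf_le_left)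
    have h2 := finrank_biSup_of_indep (fun j => D j ⊓ Module.End.eigenspace
      (Matrix.toLin' (x : Matrix (Fin d ⊕ Fin d) (Fin d ⊕ Fin d) F)) 1) hind' Finset.univ
    have h3 : (⨆ k ∈ (Finset.univ : Finset (Fin t)), D k ⊓ Module.End.eigenspace
        (Matrix.toLin' (x : Matrix (Fin d ⊕ Fin d) (Fin d ⊕ Fin d) F)) 1) ≤
        Module.End.eigenspace
          (Matrix.toLin' (x : Matrix (Fin d ⊕ Fin d) (Fin d ⊕ Fin d) F)) 1 :=
      iSup₂_le fun k _ => inf_le_right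
    have h4 := Submodule.finrank_mono h3
    rw [h2, hE] at h4
    have h5 : t * (a % c) ≤
        ∑ k ∈ (Finset.univ : Finset (Fin t)), finrank F ↥(D k ⊓ Module.End.eigenspace
          (Matrix.toLin' (x : Matrix (Fin d ⊕ Fin d) (Fin d ⊕ Fin d) F)) 1) := by
      have := Finset.sum_le_sum (s := (Finset.univ : Finset (Fin t)))
        (f := fun _ => a % c)
        (g := fun k => finrank F ↥(D k ⊓ Module.End.eigenspace
          (Matrix.toLin' (x : Matrix (Fin d ⊕ Fin d) (Fin d ⊕ Fin d) F)) 1)) (fun k _ => h1 k)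
      simpa using this
    have h6 : 2 * d % c = (t * (a % c)) % c := by
      rw [hat, Nat.mul_mod, Nat.mul_mod t (a % c), Nat.mod_mod, mul_comm]
    have h7 : t * (a % c) < c := by omega
    rw [Nat.mod_eq_of_lt h7] at h6
    exact h6
  · exfalso
    obtain ⟨j, hj⟩ := not_forall.mp hid
    have h1 := fixed_bound r hr.out _ hx D hD.1.indep hinj σ hσ j hj
    rw [hD.1.finrank_eq, hE] at h1
    omega

/-- **Sufficiency.** -/
theorem sufficiency_sp (p : ℕ) [Fact p.Prime] [CharP F p] (r : ℕ) [hr : Fact r.Prime]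
    (hr2 : r ≠ 2) (hrp : r ≠ p) (d a t : ℕ) (hd : 1 ≤ d) (hat : 2 * d = a * t) (ha : 2 ≤ a)
    (hae : Even a) (ht : 2 ≤ t)
    (hmod : (2 * d) % cOf (orderOf ((Fintype.card F : ℕ) : ZMod r)) =
        t * (a % cOf (orderOf ((Fintype.card F : ℕ) : ZMod r))))
    (x : ↥(Matrix.symplecticGroup (Fin d) F))
    (hx : ∃ z : F, ((x ^ r : ↥(Matrix.symplecticGroup (Fin d) F)) :
      Matrix (Fin d ⊕ Fin d) (Fin d ⊕ Fin d) F) =
        z • (1 : Matrix (Fin d ⊕ Fin d) (Fin d ⊕ Fin d) F)) :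
    ∃ D : Fin t → Submodule F (Fin d ⊕ Fin d → F), IsOD d a t D ∧
      ∃ σ : Equiv.Perm (Fin t), ∀ j,
        (D j).map (Matrix.toLin' (x : Matrix (Fin d ⊕ Fin d) (Fin d ⊕ Fin d) F)) = D (σ j) := by
  classical
  obtain ⟨z, hz⟩ := hx
  have hipos : 0 < orderOf ((Fintype.card F : ℕ) : ZMod r) := orderOf_pos_of_ne p r hrp
  obtain ⟨c, hc⟩ : ∃ c, c = cOf (orderOf ((Fintype.card F : ℕ) : ZMod r)) := ⟨_, rfl⟩
  rw [← hc] at hmod
  have hcpos : 0 < c := by rw [hc]; exact cOf_pos hipos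
  obtain ⟨y₀, hy₀⟩ : ∃ y₀ : (Fin d ⊕ Fin d → F) →ₗ[F] (Fin d ⊕ Fin d → F),
      y₀ = Matrix.toLin' (x : Matrix (Fin d ⊕ Fin d) (Fin d ⊕ Fin d) F) := ⟨_, rfl⟩
  rw [← hy₀]
  have hy₀r : y₀ ^ r = z • (1 : (Fin d ⊕ Fin d → F) →ₗ[F] (Fin d ⊕ Fin d → F)) := by
    rw [hy₀, ← Matrix.toLin'_pow, ← SubmonoidClass.coe_pow, hz, map_smul, Matrix.toLin'_one]
    rfl
  have hiso₀ : ∀ u v, stdSymp d F (y₀ u) (y₀ v) = stdSymp d F u v := by
    intro u v
    rw [hy₀]
    exact sympLin_iso' x u v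
  have hisoPow : ∀ k : ℕ, ∀ u v, stdSymp d F ((y₀ ^ k) u) ((y₀ ^ k) v) = stdSymp d F u v := by
    intro k
    induction k with
    | zero => intro u v; simp
    | succ k ih =>
      intro u v
      rw [pow_succ, Module.End.mul_apply, Module.End.mul_apply, ih, hiso₀]
  have hz2 : z * z = 1 := by
    have h1 := hisoPow r (Pi.single (Sum.inl ⟨0, hd⟩) 1) (Pi.single (Sum.inr ⟨0, hd⟩) 1)
    have hval : stdSymp d F (Pi.single (Sum.inl ⟨0, hd⟩) 1) (Pi.single (Sum.inr ⟨0, hd⟩) 1) =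
        -1 := by
      rw [stdSymp_apply, sympForm_single_right_inr, Pi.single_eq_same]
    rw [hy₀r] at h1
    simp only [LinearMap.smul_apply, Module.End.one_apply, map_smul, smul_eq_mul, hval] at h1
    linear_combination (-1 : F) * h1
  have hz0 : z ≠ 0 := by
    rintro rfl
    rw [zero_mul] at hz2
    exact zero_ne_one hz2
  obtain ⟨y, hy⟩ : ∃ y : (Fin d ⊕ Fin d → F) →ₗ[F] (Fin d ⊕ Fin d → F), y = z • y₀ := ⟨_, rfl⟩
  have hyr : y ^ r = 1 := by
    rw [hy, _root_.smul_pow, hy₀r, smul_smul]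
    obtain ⟨k, hk⟩ := hr.out.odd_of_ne_two hr2
    have : z ^ r * z = 1 := by
      rw [← pow_succ, hk, show 2 * k + 1 + 1 = 2 * (k + 1) by ring, pow_mul, pow_two, hz2,
        one_pow]
    rw [this, one_smul]
  have hiso : ∀ u v, stdSymp d F (y u) (y v) = stdSymp d F u v := by
    intro u v
    rw [hy]
    simp only [LinearMap.smul_apply, map_smul, smul_eq_mul, hiso₀]
    linear_combination (stdSymp d F u v) * hz2
  have hmap : ∀ W : Submodule F (Fin d ⊕ Fin d → F), W.map y = W.map y₀ := by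
    intro W
    rw [hy]
    exact Submodule.map_smul y₀ W z hz0
  have hinj : Function.Injective y :=
    injective_of_pow_eq_smul y r 1 one_ne_zero (by rw [hyr, one_smul]) hr.out.ne_zero
  have htop : (⊤ : Submodule F (Fin d ⊕ Fin d → F)).map y = ⊤ := by
    rw [Submodule.map_top]
    exact LinearMap.range_eq_top.mpr (LinearMap.injective_iff_surjective.mp hinj)
  have hnd : NondegOn (stdSymp d F) ⊤ := by
    intro u _ hu
    exact stdSymp_nondeg u fun v => hu v mem_top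
  have hfr : finrank F (⊤ : Submodule F (Fin d ⊕ Fin d → F)) = a * t := by
    rw [finrank_top, Module.finrank_pi, Fintype.card_sum, Fintype.card_fin, ← two_mul, hat]
  have hr0 : (r : F) ≠ 0 := ne_zero_of_ne' p r hr.out hrp
  have hfix : t * (a % c) ≤ finrank F ↥((⊤ : Submodule F (Fin d ⊕ Fin d → F)) ⊓
      Module.End.eigenspace y 1) := by
    obtain ⟨s, hs⟩ := movPart_profile (B := stdSymp d F) p r hrp stdSymp_alt y hiso hyr ⊤ htop hnd
    obtain ⟨-, -, -, h4, -, -⟩ := movPart_props (B := stdSymp d F) stdSymp_alt y hiso r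
      hr.out.ne_zero hr0 hyr ⊤ htop hnd
    rw [← hc] at hs
    rw [hs, hfr, ← hat] at h4
    rw [← hmod, ← h4, Nat.add_mul_mod_self_left]
    exact Nat.mod_le _ _
  rw [hc] at hfix
  obtain ⟨κ, hκ, σ, hκc, D, hDf, hDs, hDm, hDn, hDo⟩ :=
    exists_fixed_decomp (B := stdSymp d F) p r hrp hr2 stdSymp_alt y hiso hyr a hae t ⊤ htop hnd
      hfr hfix
  obtain ⟨e⟩ : Nonempty (κ ≃ Fin t) := ⟨Fintype.equivFinOfCardEq hκc⟩
  refine ⟨fun j => D (e.symm j), ⟨⟨ht, by omega, fun j => by rw [hDf],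
    (PDO.iSupIndep stdSymp_alt hDn hDo).comp e.symm.injective, ?_⟩, ?_, ?_⟩,
    e.symm.trans (σ.trans e), fun j => ?_⟩
  · show (⨆ j, D (e.symm j)) = ⊤
    rw [← hDs]
    exact e.symm.iSup_comp (g := D)
  · intro j u hu hu0
    by_contra hcon
    push Not at hcon
    exact hu0 (hDn (e.symm j) u hu hcon)
  · intro j j' hjj' u hu v hv
    exact hDo (e.symm j) (e.symm j') (fun h => hjj' (e.symm.injective h)) u hu v hv
  · rw [← hmap, hDm]
    simp

/-- **The criterion.** -/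
theorem criterion (p : ℕ) [Fact p.Prime] [CharP F p] (d : ℕ) (hd : 2 ≤ d)
    (a t : ℕ) (hat : 2 * d = a * t) (ha : 2 ≤ a) (hae : Even a) (ht : 2 ≤ t)
    (r : ℕ) [hr : Fact r.Prime] (hr2 : r ≠ 2) (hrp : r ≠ p)
    (hΩ : r ∣ Nat.card {D : Fin t → Submodule F (Fin d ⊕ Fin d → F) // IsOD d a t D} /
      Nat.factorial t) :
    (∀ x : ↥(Matrix.symplecticGroup (Fin d) F),
      (∃ z : F, ((x ^ r : ↥(Matrix.symplecticGroup (Fin d) F)) :
        Matrix (Fin d ⊕ Fin d) (Fin d ⊕ Fin d) F) =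
          z • (1 : Matrix (Fin d ⊕ Fin d) (Fin d ⊕ Fin d) F)) →
      (∀ z : F, (x : Matrix (Fin d ⊕ Fin d) (Fin d ⊕ Fin d) F) ≠
        z • (1 : Matrix (Fin d ⊕ Fin d) (Fin d ⊕ Fin d) F)) →
      ∃ D : Fin t → Submodule F (Fin d ⊕ Fin d → F), IsOD d a t D ∧
        ∃ σ : Equiv.Perm (Fin t), ∀ j,
          (D j).map (Matrix.toLin' (x : Matrix (Fin d ⊕ Fin d) (Fin d ⊕ Fin d) F)) =
            D (σ j)) ↔
    (cOf (orderOf ((Fintype.card F : ℕ) : ZMod r)) ≤ a ∧
      (2 * d) % cOf (orderOf ((Fintype.card F : ℕ) : ZMod r)) =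
        t * (a % cOf (orderOf ((Fintype.card F : ℕ) : ZMod r)))) := by
  constructor
  · intro hgood
    have hq1 : 1 ≤ Fintype.card F := Fintype.card_pos
    obtain ⟨D₀, hD₀, -⟩ := PSpI.exists_decomposition (F := F) d (by omega) a t hat ha hae ht 1
      ⟨1, by rw [one_pow, one_smul]; rfl⟩
    obtain ⟨j, hj, hjd⟩ := exists_dvd_of_dvd_od p r hr.out hrp ha hae hat ⟨D₀, hD₀⟩ hΩ
    have h1 := (orderOf_zmod_dvd_iff (Fintype.card F) r (2 * (j + 1)) hq1).mpr hjd
    have hcn : cOf (orderOf ((Fintype.card F : ℕ) : ZMod r)) ≤ 2 * d := by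
      have := cOf_le_of_dvd (Nat.succ_pos j) h1
      omega
    apply necessity_sp p r hr2 hrp d a t hat ha hcn
    intro x hx hns
    apply hgood x ⟨1, ?_⟩ hns
    rw [SubmonoidClass.coe_pow, one_smul]
    apply Matrix.toLin'.injective
    rw [Matrix.toLin'_pow, hx, Matrix.toLin'_one]
    rfl
  · rintro ⟨-, hmod⟩ x hx -
    exact sufficiency_sp p r hr2 hrp d a t (by omega) hat ha hae ht hmod x hx

end crit

end Cfsg.Agent.Lib.Helper15.PSpJ
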