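import Mathlib
import Cfsg.Agent.Lib.Helper15.PSpJ7

/-!
# Counting totally isotropic subspaces of a symplectic space
-/

set_option autoImplicit false

namespace Cfsg.Agent.Lib.Helper15.PSpK

open Module Submodule Cfsg.Agent.Lib.Helper15 Cfsg.Agent.Lib.Helper15.PSub

section count

variable {F V : Type*} [Field F] [Fintype F] [AddCommGroup V] [Module F V]
  [FiniteDimensional F V]
variable (B : V →ₗ[F] V →ₗ[F] F)

/-- linearly independent families of pairwise orthogonal vectors -/
abbrev TIFrame (k : ℕ) : Type _ :=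
  {s : Fin k → V // LinearIndependent F s ∧ ∀ a b, B (s a) (s b) = 0}

/-- the fibres of the restriction map on frames -/
noncomputable def tiFrameEquiv (halt : ∀ x, B x x = 0) (k : ℕ) :
    TIFrame B (k + 1) ≃
      Σ s : TIFrame B k, {w : V // (∀ a, B (s.1 a) w = 0) ∧ w ∉ span F (Set.range s.1)} where
  toFun s := ⟨⟨Fin.init s.1, (linearIndependent_finSucc'.mp s.2.1).1,
      fun a b => s.2.2 a.castSucc b.castSucc⟩,
    ⟨s.1 (Fin.last k), fun a => s.2.2 a.castSucc (Fin.last k),
      (linearIndependent_finSucc'.mp s.2.1).2⟩⟩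
  invFun s := ⟨Fin.snoc s.1.1 s.2.1, linearIndependent_finSnoc.mpr ⟨s.1.2.1, s.2.2.2⟩, by
    intro a b
    induction a using Fin.lastCases with
    | last =>
      induction b using Fin.lastCases with
      | last => rw [Fin.snoc_last]; exact halt _
      | cast b =>
        rw [Fin.snoc_last, Fin.snoc_castSucc, alt_swap B halt, s.2.2.1 b, neg_zero]
    | cast a =>
      induction b using Fin.lastCases with
      | last => rw [Fin.snoc_last, Fin.snoc_castSucc]; exact s.2.2.1 a
      | cast b => rw [Fin.snoc_castSucc, Fin.snoc_castSucc]; exact s.1.2.2 a b⟩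
  left_inv s := by
    apply Subtype.ext
    exact Fin.snoc_init_self s.1
  right_inv := fun ⟨s, w⟩ => by
    have h1 : Fin.init (Fin.snoc s.1 w.1 : Fin (k + 1) → V) = s.1 := Fin.init_snoc _ _
    refine Sigma.ext (Subtype.ext h1) ?_
    apply (Subtype.heq_iff_coe_eq ?_).mpr
    · show (Fin.snoc s.1 w.1 : Fin (k + 1) → V) (Fin.last k) = w.1
      exact Fin.snoc_last _ _
    · intro x
      show ((∀ a, B (Fin.init (Fin.snoc s.1 w.1 : Fin (k + 1) → V) a) x = 0) ∧
        x ∉ span F (Set.range (Fin.init (Fin.snoc s.1 w.1 : Fin (k + 1) → V)))) ↔ _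
      rw [h1]

theorem card_fiber (halt : ∀ x, B x x = 0) (hnd : ∀ x, (∀ y, B x y = 0) → x = 0) (k : ℕ)
    (s : TIFrame B k) :
    Nat.card {w : V // (∀ a, B (s.1 a) w = 0) ∧ w ∉ span F (Set.range s.1)} =
      Fintype.card F ^ (finrank F V - k) - Fintype.card F ^ k := by
  classical
  have : Finite V := Module.finite_of_finite F
  obtain ⟨U, hU⟩ : ∃ U : Submodule F V, U = span F (Set.range s.1) := ⟨_, rfl⟩
  have hUdim : finrank F U = k := by
    rw [hU, finrank_span_eq_card s.2.1, Fintype.card_fin]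
  have hti := PSpD.span_ti B s.1 s.2.2
  rw [← hU] at hti ⊢
  have hBnd : LinearMap.BilinForm.Nondegenerate B := by
    refine ⟨hnd, ?_⟩
    intro y hy
    apply hnd
    intro x
    rw [alt_swap B halt, hy x, neg_zero]
  have hperp : finrank F (LinearMap.BilinForm.orthogonal B U) = finrank F V - k := by
    rw [LinearMap.BilinForm.finrank_orthogonal hBnd, hUdim]
  have hle : U ≤ LinearMap.BilinForm.orthogonal B U := fun u hu n hn => hti n hn u hu
  have hset : {w : V | (∀ a, B (s.1 a) w = 0) ∧ w ∉ U} =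
      ((LinearMap.BilinForm.orthogonal B U : Submodule F V) : Set V) \ (U : Set V) := by
    ext w
    simp only [Set.mem_ofPred_eq, Set.mem_sdiff, SetLike.mem_coe]
    constructor
    · rintro ⟨h1, h2⟩
      refine ⟨fun n hn => ?_, h2⟩
      rw [hU] at hn
      obtain ⟨c, rfl⟩ := (mem_span_range_iff_exists_fun F).mp hn
      show B _ w = 0
      simp only [map_sum, map_smul, LinearMap.sum_apply, LinearMap.smul_apply, h1, smul_zero,
        Finset.sum_const_zero]
    · rintro ⟨h1, h2⟩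
      refine ⟨fun a => h1 _ ?_, h2⟩
      rw [hU]
      exact subset_span ⟨a, rfl⟩
  have h1 : Nat.card {w : V // (∀ a, B (s.1 a) w = 0) ∧ w ∉ U} =
      Set.ncard {w : V | (∀ a, B (s.1 a) w = 0) ∧ w ∉ U} := by
    rw [← Nat.card_coe_set_eq]
    rfl
  rw [h1, hset, Set.ncard_sdiff hle (Set.toFinite _), ← Nat.card_coe_set_eq,
    ← Nat.card_coe_set_eq]
  have h2 : Nat.card ↥(LinearMap.BilinForm.orthogonal B U) = Fintype.card F ^ (finrank F V - k) := by
    rw [Module.natCard_eq_pow_finrank (K := F), hperp, Nat.card_eq_fintype_card]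
  have h3 : Nat.card ↥U = Fintype.card F ^ k := by
    rw [Module.natCard_eq_pow_finrank (K := F), hUdim, Nat.card_eq_fintype_card]
  exact congrArg₂ _ h2 h3

theorem card_tiFrame (halt : ∀ x, B x x = 0) (hnd : ∀ x, (∀ y, B x y = 0) → x = 0) (k : ℕ) :
    Nat.card (TIFrame B k) =
      ∏ j ∈ Finset.range k, (Fintype.card F ^ (finrank F V - j) - Fintype.card F ^ j) := by
  classical
  have : Finite V := Module.finite_of_finite F
  induction k with
  | zero =>
    rw [Finset.range_zero, Finset.prod_empty]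
    have : Unique (TIFrame B (V := V) 0) :=
      { default := ⟨Fin.elim0, linearIndependent_empty_type, fun a => a.elim0⟩
        uniq := fun s => Subtype.ext (funext fun a => a.elim0) }
    exact Nat.card_unique
  | succ k ih =>
    have : Fintype (TIFrame B (V := V) k) := Fintype.ofFinite _
    rw [Nat.card_congr (tiFrameEquiv B halt k), Nat.card_sigma,
      Finset.sum_congr rfl (fun s _ => card_fiber B halt hnd k s), Finset.sum_const, smul_eq_mul,
      Finset.card_univ, ← Nat.card_eq_fintype_card, ih, Finset.prod_range_succ]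

/-- `N_ti(m) * ∏_{j<m} (q^m - q^j) = ∏_{j<m} (q^(n-j) - q^j)` -/
theorem card_ti_mul (halt : ∀ x, B x x = 0) (hnd : ∀ x, (∀ y, B x y = 0) → x = 0) (m : ℕ) :
    Nat.card {W : Submodule F V // finrank F W = m ∧ ∀ u ∈ W, ∀ v ∈ W, B u v = 0} *
        ∏ j : Fin m, (Fintype.card F ^ m - Fintype.card F ^ (j : ℕ)) =
      ∏ j ∈ Finset.range m, (Fintype.card F ^ (finrank F V - j) - Fintype.card F ^ j) := by
  classical
  have : Finite V := Module.finite_of_finite F
  rw [← card_tiFrame B halt hnd m]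
  let φ : TIFrame B m → {W : Submodule F V // finrank F W = m ∧ ∀ u ∈ W, ∀ v ∈ W, B u v = 0} :=
    fun s => ⟨Submodule.span F (Set.range s.1), by
      rw [finrank_span_eq_card s.2.1, Fintype.card_fin], PSpD.span_ti B s.1 s.2.2⟩
  have : Finite {W : Submodule F V // finrank F W = m ∧ ∀ u ∈ W, ∀ v ∈ W, B u v = 0} := by
    have : Finite (Submodule F V) := Finite.of_injective (fun W => (W : Set V)) SetLike.coe_injective
    infer_instance
  have : Fintype {W : Submodule F V // finrank F W = m ∧ ∀ u ∈ W, ∀ v ∈ W, B u v = 0} :=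
    Fintype.ofFinite _
  have : Fintype (TIFrame B (V := V) m) := Fintype.ofFinite _
  rw [Nat.card_congr (Equiv.sigmaFiberEquiv φ).symm, Nat.card_sigma]
  have h2 : ∀ W : {W : Submodule F V // finrank F W = m ∧ ∀ u ∈ W, ∀ v ∈ W, B u v = 0},
      Nat.card {s : TIFrame B m // φ s = W} =
        ∏ j : Fin m, (Fintype.card F ^ m - Fintype.card F ^ (j : ℕ)) := by
    intro W
    rw [← card_bases m W.1 W.2.1, ← Nat.card_congr (PSub.fiberEquiv m W.1)]
    apply Nat.card_congr
    refine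
      { toFun := fun s => ⟨⟨s.1.1, s.1.2.1⟩, congrArg Subtype.val s.2⟩
        invFun := fun s => ⟨⟨s.1.1, s.1.2, fun a b => ?_⟩, Subtype.ext s.2⟩
        left_inv := fun s => rfl
        right_inv := fun s => rfl }
    have hsW : span F (Set.range s.1.1) ≤ W.1 := le_of_eq s.2
    have ha : s.1.1 a ∈ W.1 := hsW (subset_span ⟨a, rfl⟩)
    have hb : s.1.1 b ∈ W.1 := hsW (subset_span ⟨b, rfl⟩)
    exact W.2.2 _ ha _ hb
  rw [Finset.sum_congr rfl (fun W _ => h2 W), Finset.sum_const, smul_eq_mul, Finset.card_univ,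
    Nat.card_eq_fintype_card]


theorem prod_ti_split (q n m : ℕ) (hm : 2 * m ≤ n) :
    ∏ j ∈ Finset.range m, (q ^ (n - j) - q ^ j) =
      (∏ j ∈ Finset.range m, q ^ j) * ∏ j ∈ Finset.range m, (q ^ (n - 2 * j) - 1) := by
  rw [← Finset.prod_mul_distrib]
  apply Finset.prod_congr rfl
  intro j hj
  have hj' : j < m := Finset.mem_range.mp hj
  rw [Nat.mul_sub, mul_one, ← pow_add]
  congr 2
  omega

/-- `N_ti(m) * ∏_{j<m} (q^(m-j) - 1) = ∏_{j<m} (q^(n-2j) - 1)` -/
theorem card_ti_mul' (halt : ∀ x, B x x = 0) (hnd : ∀ x, (∀ y, B x y = 0) → x = 0) (m : ℕ)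
    (hm : 2 * m ≤ finrank F V) :
    Nat.card {W : Submodule F V // finrank F W = m ∧ ∀ u ∈ W, ∀ v ∈ W, B u v = 0} *
        ∏ j ∈ Finset.range m, (Fintype.card F ^ (m - j) - 1) =
      ∏ j ∈ Finset.range m, (Fintype.card F ^ (finrank F V - 2 * j) - 1) := by
  have h := card_ti_mul B halt hnd m
  rw [prod_pow_sub_pow _ _ _ le_rfl, prod_ti_split _ _ _ hm] at h
  have hpos : 0 < ∏ j ∈ Finset.range m, Fintype.card F ^ j := by
    apply Finset.prod_pos
    intro j _
    exact pow_pos Fintype.card_pos _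
  apply Nat.eq_of_mul_eq_mul_left hpos
  rw [← h]
  ring

theorem not_dvd_pow_sub_one (p : ℕ) [hp : Fact p.Prime] [CharP F p] (e : ℕ) (he : 1 ≤ e) :
    ¬ p ∣ Fintype.card F ^ e - 1 := by
  intro h
  obtain ⟨⟨f, hf0⟩, -, hf⟩ := FiniteField.card F p
  have h1 : p ∣ Fintype.card F ^ e := by
    rw [hf, ← pow_mul]
    exact dvd_pow_self p (by positivity)
  have h2 : 1 ≤ Fintype.card F ^ e := Nat.one_le_pow _ _ Fintype.card_pos
  have h3 : p ∣ 1 := by
    have := Nat.dvd_sub h1 h
    rwa [Nat.sub_sub_self h2] at this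
  exact hp.out.one_lt.ne' (Nat.dvd_one.mp h3)

theorem not_dvd_card_ti (halt : ∀ x, B x x = 0) (hnd : ∀ x, (∀ y, B x y = 0) → x = 0)
    (p : ℕ) [hp : Fact p.Prime] [CharP F p] (m : ℕ) (hm : 2 * m ≤ finrank F V) :
    ¬ p ∣ Nat.card {W : Submodule F V // finrank F W = m ∧ ∀ u ∈ W, ∀ v ∈ W, B u v = 0} := by
  intro h
  have h1 := card_ti_mul' B halt hnd m hm
  have h2 : p ∣ ∏ j ∈ Finset.range m, (Fintype.card F ^ (finrank F V - 2 * j) - 1) := by
    rw [← h1]
    exact Dvd.dvd.mul_right h _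
  rw [Prime.dvd_finsetProd_iff hp.out.prime] at h2
  obtain ⟨j, hj, hj2⟩ := h2
  have hj' : j < m := Finset.mem_range.mp hj
  exact not_dvd_pow_sub_one p _ (by omega) hj2

theorem exists_dvd_of_dvd_card_ti (halt : ∀ x, B x x = 0)
    (hnd : ∀ x, (∀ y, B x y = 0) → x = 0) (r : ℕ) (hr : r.Prime) (m : ℕ)
    (hm : 2 * m ≤ finrank F V)
    (h : r ∣ Nat.card {W : Submodule F V // finrank F W = m ∧ ∀ u ∈ W, ∀ v ∈ W, B u v = 0}) :
    ∃ j < m, r ∣ Fintype.card F ^ (finrank F V - 2 * j) - 1 := by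
  have h1 := card_ti_mul' B halt hnd m hm
  have h2 : r ∣ ∏ j ∈ Finset.range m, (Fintype.card F ^ (finrank F V - 2 * j) - 1) := by
    rw [← h1]
    exact Dvd.dvd.mul_right h _
  rw [Prime.dvd_finsetProd_iff hr.prime] at h2
  obtain ⟨j, hj, hj2⟩ := h2
  exact ⟨j, Finset.mem_range.mp hj, hj2⟩

end count

end Cfsg.Agent.Lib.Helper15.PSpK
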