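import Mathlib
import Cfsg.Agent.Lib.Helper15.PSpK1

/-!
# Tools: common isotropic vectors, peeling hyperbolic blocks, kernels of coprime products
-/

set_option autoImplicit false

namespace Cfsg.Agent.Lib.Helper15.PSpK

open Module Submodule Polynomial Cfsg.Agent.Lib.Helper15 Cfsg.Agent.Lib.Helper15.PSpI
  Cfsg.Agent.Lib.Helper15.PSub Cfsg.Agent.Lib.Helper15.PDec Cfsg.Agent.Lib.Helper15.PSpJ

section cw

variable {F V : Type*} [Field F] [Fintype F] [AddCommGroup V] [Module F V]
  [FiniteDimensional F V]

/-- **Chevalley–Warning** for bilinear forms: `k` forms on a space of dimension `> 2k` have a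
common nonzero isotropic vector -/
theorem exists_common_isotropic (p : ℕ) [Fact p.Prime] [CharP F p] {k : ℕ}
    (β : Fin k → (V →ₗ[F] V →ₗ[F] F)) (K : Submodule F V) (hK : 2 * k < finrank F K) :
    ∃ v ∈ K, v ≠ 0 ∧ ∀ j, β j v v = 0 := by
  classical
  obtain ⟨N, hN⟩ : ∃ N, finrank F K = N := ⟨_, rfl⟩
  let b : Basis (Fin N) F K := Module.finBasisOfFinrankEq F K hN
  let f : Fin k → MvPolynomial (Fin N) F := fun j =>
    ∑ a, ∑ c, MvPolynomial.C (β j (b a : V) (b c : V)) * MvPolynomial.X a * MvPolynomial.X c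
  have hdeg : ∀ j, (f j).totalDegree ≤ 2 := by
    intro j
    apply (MvPolynomial.totalDegree_finsetSum _ _).trans
    apply Finset.sup_le
    intro a _
    apply (MvPolynomial.totalDegree_finsetSum _ _).trans
    apply Finset.sup_le
    intro c _
    apply (MvPolynomial.totalDegree_mul _ _).trans
    have h1 := MvPolynomial.totalDegree_mul (MvPolynomial.C (β j (b a : V) (b c : V)))
      (MvPolynomial.X a : MvPolynomial (Fin N) F)
    rw [MvPolynomial.totalDegree_C, MvPolynomial.totalDegree_X, zero_add] at h1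
    rw [MvPolynomial.totalDegree_X]
    omega
  have hvec : ∀ x : Fin N → F, ((b.equivFun.symm x : K) : V) = ∑ a, x a • (b a : V) := by
    intro x
    rw [Basis.equivFun_symm_apply, Submodule.coe_sum]
    rfl
  have heval : ∀ j (x : Fin N → F), MvPolynomial.eval x (f j) =
      β j ((b.equivFun.symm x : K) : V) ((b.equivFun.symm x : K) : V) := by
    intro j x
    rw [hvec]
    simp only [f, map_sum, map_mul, MvPolynomial.eval_C, MvPolynomial.eval_X, map_smul,
      LinearMap.sum_apply, LinearMap.smul_apply, smul_eq_mul, Finset.mul_sum]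
    rw [Finset.sum_comm]
    apply Finset.sum_congr rfl
    intro a _
    apply Finset.sum_congr rfl
    intro c _
    ring
  have hsum : ∑ j, (f j).totalDegree < Fintype.card (Fin N) := by
    rw [Fintype.card_fin]
    calc ∑ j, (f j).totalDegree ≤ ∑ _j : Fin k, 2 := Finset.sum_le_sum fun j _ => hdeg j
      _ = 2 * k := by simp [mul_comm]
      _ < finrank F K := hK
      _ = N := hN
  have hdvd := char_dvd_card_solutions_of_fintype_sum_lt p hsum
  have hzero : ∀ j, MvPolynomial.eval (0 : Fin N → F) (f j) = 0 := by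
    intro j
    rw [heval, map_zero]
    simp
  have hdvd' : p ∣ Nat.card {x : Fin N → F // ∀ j, MvPolynomial.eval x (f j) = 0} := by
    rw [Nat.card_eq_fintype_card]
    convert hdvd
  have hcard : 1 < Nat.card {x : Fin N → F // ∀ j, MvPolynomial.eval x (f j) = 0} := by
    have hne : Nonempty {x : Fin N → F // ∀ j, MvPolynomial.eval x (f j) = 0} := ⟨⟨0, hzero⟩⟩
    have hpos : 0 < Nat.card {x : Fin N → F // ∀ j, MvPolynomial.eval x (f j) = 0} :=
      Nat.card_pos
    have := Nat.le_of_dvd hpos hdvd'
    have := (Fact.out : p.Prime).two_le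
    omega
  have hnt := Finite.one_lt_card_iff_nontrivial.mp hcard
  obtain ⟨⟨x, hx⟩, hne⟩ := exists_ne (⟨0, hzero⟩ :
    {x : Fin N → F // ∀ j, MvPolynomial.eval x (f j) = 0})
  refine ⟨(b.equivFun.symm x : K), (b.equivFun.symm x : K).2, ?_, fun j => ?_⟩
  · intro h0
    apply hne
    apply Subtype.ext
    have h1 : (b.equivFun.symm x : K) = 0 := Subtype.ext h0
    have h2 := congrArg b.equivFun h1
    rw [LinearEquiv.apply_symm_apply, map_zero] at h2
    exact h2
  · rw [← heval]
    exact hx j

end cw

section engine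

variable {F V : Type*} [Field F] [AddCommGroup V] [Module F V] [FiniteDimensional F V]
variable {B : V →ₗ[F] V →ₗ[F] F}

/-- **Peeling engine**: a source of invariant totally isotropic `i`-spaces yields invariant totally
isotropic `i j`-spaces -/
theorem peel_engine (halt : ∀ x, B x x = 0) (y : V →ₗ[F] V)
    (hiso : ∀ u v, B (y u) (y v) = B u v) (hss : Module.End.IsSemisimple y)
    (hinj : Function.Injective y) (i θ : ℕ) (S₀ : Submodule F V)
    (hsrc : ∀ S : Submodule F V, S ≤ S₀ → S.map y = S → NondegOn B S → θ < finrank F S →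
      ∃ U : Submodule F V, U ≤ S ∧ U ∈ Module.End.invtSubmodule y ∧
        (∀ u ∈ U, ∀ w ∈ U, B u w = 0) ∧ finrank F U = i) :
    ∀ (j : ℕ) (S : Submodule F V), S ≤ S₀ → S.map y = S → NondegOn B S →
      θ + 2 * i * j < finrank F S + 2 * i →
      ∃ W : Submodule F V, W ≤ S ∧ W ∈ Module.End.invtSubmodule y ∧
        (∀ u ∈ W, ∀ w ∈ W, B u w = 0) ∧ finrank F W = i * j := by
  intro j
  induction j with
  | zero =>
    intro S _ _ _ _
    refine ⟨⊥, bot_le, Module.End.invtSubmodule.bot_mem y, ?_, by simp⟩
    intro u hu w _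
    rw [(Submodule.mem_bot F).mp hu, map_zero, LinearMap.zero_apply]
  | succ j ih =>
    intro S hS₀ hSx hSn hlt
    have hlt' : θ + 2 * i * j < finrank F S := by
      have : 2 * i * (j + 1) = 2 * i * j + 2 * i := by ring
      omega
    obtain ⟨U, hUS, hUinv, hUti, hUdim⟩ := hsrc S hS₀ hSx hSn (by omega)
    obtain ⟨R', hR'S, hR'inv, hUR', hR'dim, hHn, -⟩ :=
      pair_block halt y hiso hss hinj S hSx hSn U hUS hUinv hUti
    have hHinv : U ⊔ R' ∈ Module.End.invtSubmodule y :=
      Module.End.invtSubmodule.sup_mem hUinv hR'inv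
    have hHS : U ⊔ R' ≤ S := sup_le hUS hR'S
    have hHx : (U ⊔ R').map y = U ⊔ R' := map_eq_of_invt y hinj _ hHinv
    have hHdim : finrank F ↥(U ⊔ R') = 2 * i := by
      have := Submodule.finrank_sup_add_finrank_inf_eq U R'
      rw [hUR', finrank_bot, add_zero, hR'dim, hUdim] at this
      omega
    have hS'x := map_perpIn_of_inj y hinj hiso hSx hHx
    have hS'n := nondegOn_perpIn halt hHS hHn hSn
    have hS'dim := finrank_perpIn halt (V' := S) hHS hHn
    obtain ⟨W', hW'S, hW'inv, hW'ti, hW'dim⟩ :=
      ih (perpIn B S (U ⊔ R')) ((perpIn_le S _).trans hS₀) hS'x hS'n (by omega)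
    have horth : Orth B U W' := fun u hu w hw =>
      (mem_perpIn.mp (hW'S hw)).2 u (mem_sup_left hu)
    refine ⟨U ⊔ W', sup_le hUS (hW'S.trans (perpIn_le S _)),
      Module.End.invtSubmodule.sup_mem hUinv hW'inv, ?_, ?_⟩
    · intro a ha c hc
      obtain ⟨u, hu, w, hw, rfl⟩ := mem_sup.mp ha
      obtain ⟨u', hu', w', hw', rfl⟩ := mem_sup.mp hc
      simp only [map_add, LinearMap.add_apply, hUti u hu u' hu', hW'ti w hw w' hw',
        horth u hu w' hw', (horth.symm halt) w hw u' hu', add_zero]
    · have hdis : U ⊓ W' = ⊥ := by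
        rw [eq_bot_iff]
        intro v hv
        have h1 : v ∈ U ⊔ R' := mem_sup_left hv.1
        have h2 := mem_perpIn.mp (hW'S hv.2)
        have := hHn v h1 (fun u hu => by rw [alt_swap B halt, h2.2 u hu, neg_zero])
        rw [this]
        exact zero_mem _
      have := Submodule.finrank_sup_add_finrank_inf_eq U W'
      rw [hdis, finrank_bot, add_zero, hUdim, hW'dim] at this
      rw [this]
      ring

/-- totally isotropic subspaces of every dimension up to half inside a nondegenerate subspace -/
theorem exists_ti_le (halt : ∀ x, B x x = 0) (S : Submodule F V) (hSn : NondegOn B S) (w : ℕ)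
    (hw : 2 * w ≤ finrank F S) :
    ∃ W : Submodule F V, W ≤ S ∧ (∀ u ∈ W, ∀ v ∈ W, B u v = 0) ∧ finrank F W = w := by
  have h := peel_engine (B := B) halt (1 : V →ₗ[F] V) (fun u v => rfl)
    Module.End.isSemisimple_id (fun u v h => h) 1 1 S
    (fun S' _ _ _ hlt => by
      have hne : S' ≠ ⊥ := by
        intro h0
        rw [h0, finrank_bot] at hlt
        omega
      obtain ⟨v, hvS, hv0⟩ := Submodule.exists_mem_ne_zero_of_ne_bot hne
      refine ⟨span F {v}, by rwa [span_singleton_le_iff_mem], fun u hu => hu, ?_,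
        finrank_span_singleton hv0⟩
      intro a ha c hc
      obtain ⟨s, rfl⟩ := mem_span_singleton.mp ha
      obtain ⟨t, rfl⟩ := mem_span_singleton.mp hc
      simp only [map_smul, LinearMap.smul_apply, halt, smul_zero])
    w S le_rfl (Submodule.map_id S) hSn (by omega)
  obtain ⟨W, hWS, -, hWti, hWdim⟩ := h
  exact ⟨W, hWS, hWti, by rw [hWdim, one_mul]⟩

end engine

section kernels

variable {F V : Type*} [Field F] [AddCommGroup V] [Module F V] [FiniteDimensional F V]

omit [FiniteDimensional F V] in
theorem ker_aeval_invt (y : V →ₗ[F] V) (P : F[X]) :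
    LinearMap.ker (aeval y P) ∈ Module.End.invtSubmodule y := by
  intro u hu
  rw [Submodule.mem_comap, LinearMap.mem_ker]
  rw [LinearMap.mem_ker] at hu
  have h1 : aeval y P (y u) = aeval y (P * X) u := by rw [aeval_mul_apply, aeval_X]
  rw [h1, mul_comm, aeval_mul_apply, hu, aeval_X, map_zero]

/-- the kernel of a product of coprime polynomials inside an invariant subspace -/
theorem finrank_inf_ker_mul (y : V →ₗ[F] V) (W : Submodule F V)
    (hW : W ∈ Module.End.invtSubmodule y) {P Q : F[X]} (h : IsCoprime P Q) :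
    finrank F ↥(W ⊓ LinearMap.ker (aeval y (P * Q))) =
      finrank F ↥(W ⊓ LinearMap.ker (aeval y P)) + finrank F ↥(W ⊓ LinearMap.ker (aeval y Q)) := by
  have hsup : W ⊓ LinearMap.ker (aeval y (P * Q)) =
      (W ⊓ LinearMap.ker (aeval y P)) ⊔ (W ⊓ LinearMap.ker (aeval y Q)) := by
    apply le_antisymm
    · intro w hw
      obtain ⟨hwW, hwk⟩ := Submodule.mem_inf.mp hw
      rw [LinearMap.mem_ker] at hwk
      obtain ⟨a, b, hab⟩ := h
      have h1 : w = aeval y (b * Q) w + aeval y (a * P) w := by
        rw [← LinearMap.add_apply, ← map_add, add_comm, hab, map_one, Module.End.one_apply]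
      rw [h1]
      apply Submodule.add_mem
      · apply Submodule.mem_sup_left
        refine Submodule.mem_inf.mpr ⟨aeval_mem_of_invt y hW _ hwW, ?_⟩
        rw [LinearMap.mem_ker, ← aeval_mul_apply,
          show P * (b * Q) = b * (P * Q) by ring, aeval_mul_apply, hwk, map_zero]
      · apply Submodule.mem_sup_right
        refine Submodule.mem_inf.mpr ⟨aeval_mem_of_invt y hW _ hwW, ?_⟩
        rw [LinearMap.mem_ker, ← aeval_mul_apply,
          show Q * (a * P) = a * (P * Q) by ring, aeval_mul_apply, hwk, map_zero]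
    · apply sup_le
      · apply inf_le_inf_left
        intro w hw
        rw [LinearMap.mem_ker] at hw ⊢
        rw [mul_comm, aeval_mul_apply, hw, map_zero]
      · apply inf_le_inf_left
        intro w hw
        rw [LinearMap.mem_ker] at hw ⊢
        rw [aeval_mul_apply, hw, map_zero]
  have hdis : (W ⊓ LinearMap.ker (aeval y P)) ⊓ (W ⊓ LinearMap.ker (aeval y Q)) = ⊥ := by
    rw [eq_bot_iff]
    have := (disjoint_ker_aeval_of_isCoprime y h).eq_bot
    rw [← this]
    exact inf_le_inf inf_le_right inf_le_right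
  rw [hsup]
  have := Submodule.finrank_sup_add_finrank_inf_eq (W ⊓ LinearMap.ker (aeval y P))
    (W ⊓ LinearMap.ker (aeval y Q))
  rw [hdis, finrank_bot, add_zero] at this
  exact this

theorem finrank_inf_ker_prod (y : V →ₗ[F] V) (W : Submodule F V)
    (hW : W ∈ Module.End.invtSubmodule y) {ι : Type*} [DecidableEq ι] (s : Finset ι)
    (P : ι → F[X]) (hcop : ∀ a ∈ s, ∀ b ∈ s, a ≠ b → IsCoprime (P a) (P b)) :
    finrank F ↥(W ⊓ LinearMap.ker (aeval y (∏ a ∈ s, P a))) =
      ∑ a ∈ s, finrank F ↥(W ⊓ LinearMap.ker (aeval y (P a))) := by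
  induction s using Finset.induction_on with
  | empty =>
    rw [Finset.prod_empty, Finset.sum_empty, map_one]
    have : LinearMap.ker (1 : V →ₗ[F] V) = ⊥ := LinearMap.ker_id
    rw [this, inf_bot_eq, finrank_bot]
  | insert a s ha ih =>
    rw [Finset.prod_insert ha, Finset.sum_insert ha]
    have hc : IsCoprime (P a) (∏ b ∈ s, P b) := by
      apply IsCoprime.prod_right
      intro b hb
      exact hcop a (Finset.mem_insert_self a s) b (Finset.mem_insert_of_mem hb)
        (fun h => ha (h ▸ hb))
    rw [finrank_inf_ker_mul y W hW hc, ih (fun b hb c hc' hbc =>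
      hcop b (Finset.mem_insert_of_mem hb) c (Finset.mem_insert_of_mem hc') hbc)]

/-- if every irreducible factor `P` of a squarefree `Q` has a `P`-primary part of dimension at
most `deg P`, the `Q`-part has dimension at most `deg Q` -/
theorem finrank_inf_ker_le (y : V →ₗ[F] V) (W : Submodule F V)
    (hW : W ∈ Module.End.invtSubmodule y)
    (hsmall : ∀ P : F[X], Irreducible P →
      finrank F ↥(W ⊓ LinearMap.ker (aeval y P)) ≤ P.natDegree) :
    ∀ (n : ℕ) (Q : F[X]), Q.natDegree = n → Squarefree Q →
      finrank F ↥(W ⊓ LinearMap.ker (aeval y Q)) ≤ Q.natDegree := by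
  intro n
  induction n using Nat.strong_induction_on with
  | _ n ih =>
    intro Q hQn hQsq
    have hQ0 : Q ≠ 0 := hQsq.ne_zero
    by_cases hu : IsUnit Q
    · have hinj : LinearMap.ker (aeval y Q) = ⊥ := by
        rw [LinearMap.ker_eq_bot]
        obtain ⟨c, hc, rfl⟩ := Polynomial.isUnit_iff.mp hu
        intro u v huv
        rw [aeval_C, Module.algebraMap_end_apply, Module.algebraMap_end_apply] at huv
        exact smul_right_injective V hc.ne_zero huv
      rw [hinj, inf_bot_eq, finrank_bot]
      exact Nat.zero_le _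
    · obtain ⟨P, hPirr, Q', rfl⟩ := WfDvdMonoid.exists_irreducible_factor hu hQ0
      have hQ'0 : Q' ≠ 0 := right_ne_zero_of_mul hQ0
      have hcop : IsCoprime P Q' := by
        rw [hPirr.coprime_iff_not_dvd]
        intro hd
        obtain ⟨Q'', rfl⟩ := hd
        have : P * P ∣ P * (P * Q'') := ⟨Q'', by ring⟩
        exact hPirr.not_isUnit (hQsq P this)
      have hdeg : (P * Q').natDegree = P.natDegree + Q'.natDegree :=
        natDegree_mul hPirr.ne_zero hQ'0
      have hPpos := hPirr.natDegree_pos
      rw [finrank_inf_ker_mul y W hW hcop, hdeg]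
      have h1 := hsmall P hPirr
      have h2 := ih Q'.natDegree (by omega) Q' rfl (hQsq.of_mul_right)
      omega

end kernels

end Cfsg.Agent.Lib.Helper15.PSpK
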