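import Mathlib
import Cfsg.Agent.Lib.Helper15.PSpK2

/-!
# Involutions of `PSp` (odd characteristic) and totally isotropic subspaces
-/

set_option autoImplicit false

namespace Cfsg.Agent.Lib.Helper15.PSpK

open Module Submodule Polynomial Cfsg.Agent.Lib.Helper15 Cfsg.Agent.Lib.Helper15.PSpI
  Cfsg.Agent.Lib.Helper15.PSub Cfsg.Agent.Lib.Helper15.PDec Cfsg.Agent.Lib.Helper15.PSpJ
  Cfsg.Agent.Lib.Helper6

section abstract

variable {F V : Type*} [Field F] [Fintype F] [AddCommGroup V] [Module F V]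
  [FiniteDimensional F V]
variable {B : V →ₗ[F] V →ₗ[F] F}

omit [Fintype F] in
/-- case `y² = 1` -/
theorem ti_of_sq_one (halt : ∀ x, B x x = 0) (hnd : ∀ x, (∀ y, B x y = 0) → x = 0)
    (h2 : (2 : F) ≠ 0) (d : ℕ) (hV : finrank F V = 2 * d) (y : V →ₗ[F] V)
    (hiso : ∀ u v, B (y u) (y v) = B u v) (hy : ∀ v, y (y v) = v) (m : ℕ) (hm : m ≤ d) :
    ∃ W : Submodule F V, finrank F W = m ∧ (∀ u ∈ W, ∀ v ∈ W, B u v = 0) ∧ W.map y ≤ W := by
  have hy2 : y ^ 2 = 1 := by
    apply LinearMap.ext
    intro v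
    rw [pow_two, Module.End.mul_apply, hy]
    rfl
  have h2' : ((2 : ℕ) : F) ≠ 0 := by exact_mod_cast h2
  have hinj : Function.Injective y := fun u v huv => by
    have := congrArg y huv
    rwa [hy, hy] at this
  have htop : (⊤ : Submodule F V).map y = ⊤ := by
    rw [Submodule.map_top]
    exact LinearMap.range_eq_top.mpr (LinearMap.injective_iff_surjective.mp hinj)
  have hnd' : NondegOn B (⊤ : Submodule F V) := fun u _ hu => hnd u fun v => hu v mem_top
  obtain ⟨hMx, hMn, hME, hdim, -, horth⟩ :=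
    movPart_props halt y hiso 2 two_ne_zero h2' hy2 ⊤ htop hnd'
  have hCn := nondegOn_fixed y hiso 2 h2' hy2 ⊤ htop hnd'
  rw [finrank_top, hV] at hdim
  obtain ⟨a, ha⟩ := even_finrank_of_nondegOn halt _ hCn
  obtain ⟨b, hb⟩ := even_finrank_of_nondegOn halt _ hMn
  have hneg : ∀ v ∈ movPart B y ⊤, y v = -v := by
    intro v hv
    have h1 : v + y v ∈ movPart B y ⊤ ⊓ Module.End.eigenspace y 1 := by
      refine Submodule.mem_inf.mpr ⟨Submodule.add_mem _ hv (by rw [← hMx]; exact ⟨v, hv, rfl⟩), ?_⟩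
      rw [Module.End.mem_eigenspace_iff, one_smul, map_add, hy, add_comm]
    rw [hME, Submodule.mem_bot] at h1
    exact (eq_neg_of_add_eq_zero_right h1)
  obtain ⟨W₁, hW₁C, hW₁ti, hW₁dim⟩ := exists_ti_le halt _ hCn (min m a) (by omega)
  obtain ⟨W₂, hW₂M, hW₂ti, hW₂dim⟩ := exists_ti_le halt _ hMn (m - min m a) (by omega)
  have horth' : Orth B W₁ W₂ := horth.mono hW₁C hW₂M
  refine ⟨W₁ ⊔ W₂, ?_, ?_, ?_⟩
  · have hdis : W₁ ⊓ W₂ = ⊥ := by
      rw [eq_bot_iff]
      calc W₁ ⊓ W₂ ≤ ((⊤ : Submodule F V) ⊓ Module.End.eigenspace y 1) ⊓ movPart B y ⊤ :=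
            inf_le_inf hW₁C hW₂M
        _ = ⊥ := (horth.disjoint halt hCn).eq_bot
    have := Submodule.finrank_sup_add_finrank_inf_eq W₁ W₂
    rw [hdis, finrank_bot, add_zero, hW₁dim, hW₂dim] at this
    omega
  · intro u hu v hv
    obtain ⟨u₁, hu₁, u₂, hu₂, rfl⟩ := mem_sup.mp hu
    obtain ⟨v₁, hv₁, v₂, hv₂, rfl⟩ := mem_sup.mp hv
    simp only [map_add, LinearMap.add_apply, hW₁ti u₁ hu₁ v₁ hv₁, hW₂ti u₂ hu₂ v₂ hv₂,
      horth' u₁ hu₁ v₂ hv₂, (horth'.symm halt) u₂ hu₂ v₁ hv₁, add_zero]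
  · rw [Submodule.map_sup]
    apply sup_le_sup
    · rintro _ ⟨w, hw, rfl⟩
      rw [fix_of_mem_inf y (hW₁C hw)]
      exact hw
    · rintro _ ⟨w, hw, rfl⟩
      rw [hneg w (hW₂M hw)]
      exact W₂.neg_mem hw

omit [Fintype F] in
/-- case `y² = -1` with `-1` a square -/
theorem ti_of_sq_neg_one_sq (halt : ∀ x, B x x = 0) (hnd : ∀ x, (∀ y, B x y = 0) → x = 0)
    (h2 : (2 : F) ≠ 0) (d : ℕ) (hV : finrank F V = 2 * d) (y : V →ₗ[F] V)
    (hiso : ∀ u v, B (y u) (y v) = B u v) (hy : ∀ v, y (y v) = -v) (ι : F) (hι : ι * ι = -1)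
    (m : ℕ) (hm : m ≤ d) :
    ∃ W : Submodule F V, finrank F W = m ∧ (∀ u ∈ W, ∀ v ∈ W, B u v = 0) ∧ W.map y ≤ W := by
  have hti : ∀ c : F, c * c = -1 → ∀ u ∈ Module.End.eigenspace y c,
      ∀ v ∈ Module.End.eigenspace y c, B u v = 0 := by
    intro c hc u hu v hv
    rw [Module.End.mem_eigenspace_iff] at hu hv
    have h1 := hiso u v
    rw [hu, hv] at h1
    simp only [map_smul, LinearMap.smul_apply, smul_eq_mul] at h1
    have h3 : (2 : F) * B u v = 0 := by linear_combination -h1 + (B u v) * hc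
    exact (mul_eq_zero.mp h3).resolve_left h2
  have hneg : (-ι) * (-ι) = -1 := by rw [neg_mul_neg, hι]
  have hsup : Module.End.eigenspace y ι ⊔ Module.End.eigenspace y (-ι) = ⊤ := by
    rw [eq_top_iff]
    intro v _
    have hv : v = (2 : F)⁻¹ • (v - ι • y v) + (2 : F)⁻¹ • (v + ι • y v) := by
      rw [← smul_add]
      have : v - ι • y v + (v + ι • y v) = (2 : F) • v := by rw [two_smul]; abel
      rw [this, smul_smul, inv_mul_cancel₀ h2, one_smul]
    rw [hv]
    apply Submodule.add_mem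
    · apply Submodule.mem_sup_left
      apply Submodule.smul_mem
      rw [Module.End.mem_eigenspace_iff, map_sub, map_smul, hy, smul_sub, smul_smul, hι]
      simp only [smul_neg, neg_smul, one_smul, sub_neg_eq_add]
      abel
    · apply Submodule.mem_sup_right
      apply Submodule.smul_mem
      rw [Module.End.mem_eigenspace_iff, map_add, map_smul, hy, smul_add, smul_smul]
      have : -ι * ι = 1 := by rw [neg_mul, hι, neg_neg]
      rw [this]
      simp only [smul_neg, neg_smul, one_smul]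
      abel
  have h1 := PSpD.polar_finrank_le B halt hnd _ _ hsup (hti (-ι) hneg)
  have h2' := PSpD.polar_finrank_le B halt hnd _ _ (by rw [sup_comm]; exact hsup) (hti ι hι)
  have h3 := Submodule.finrank_sup_add_finrank_inf_eq (Module.End.eigenspace y ι)
    (Module.End.eigenspace y (-ι))
  rw [hsup, finrank_top, hV] at h3
  obtain ⟨W, hWle, hWdim⟩ := exists_le_finrank_eq (Module.End.eigenspace y ι) m (by omega)
  refine ⟨W, hWdim, fun u hu v hv => hti ι hι u (hWle hu) v (hWle hv), ?_⟩
  rintro _ ⟨w, hw, rfl⟩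
  have := hWle hw
  rw [Module.End.mem_eigenspace_iff] at this
  rw [this]
  exact W.smul_mem _ hw

/-- case `y² = -1`, `m` even, `-1` not a square -/
theorem ti_of_sq_neg_one_even (p : ℕ) [Fact p.Prime] [CharP F p] (halt : ∀ x, B x x = 0)
    (hnd : ∀ x, (∀ y, B x y = 0) → x = 0)
    (h2 : (2 : F) ≠ 0) (d : ℕ) (hV : finrank F V = 2 * d) (y : V →ₗ[F] V)
    (hiso : ∀ u v, B (y u) (y v) = B u v) (hy : ∀ v, y (y v) = -v)
    (hns : ∀ c : F, c * c ≠ -1) (j : ℕ) (hm : 2 * j ≤ d) :
    ∃ W : Submodule F V, finrank F W = 2 * j ∧ (∀ u ∈ W, ∀ v ∈ W, B u v = 0) ∧ W.map y ≤ W := by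
  have hy2 : y ^ 2 = (-1 : F) • (1 : V →ₗ[F] V) := by
    apply LinearMap.ext
    intro v
    rw [pow_two, Module.End.mul_apply, hy]
    simp
  have h2' : ((2 : ℕ) : F) ≠ 0 := by exact_mod_cast h2
  have hss : Module.End.IsSemisimple y :=
    isSemisimple_of_pow_eq_smul y 2 h2' (-1) (neg_ne_zero.mpr one_ne_zero) hy2
  have hinj : Function.Injective y :=
    injective_of_pow_eq_smul y 2 (-1) (neg_ne_zero.mpr one_ne_zero) hy2 two_ne_zero
  have htop : (⊤ : Submodule F V).map y = ⊤ := by
    rw [Submodule.map_top]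
    exact LinearMap.range_eq_top.mpr (LinearMap.injective_iff_surjective.mp hinj)
  have hnd' : NondegOn B (⊤ : Submodule F V) := fun u _ hu => hnd u fun v => hu v mem_top
  have h := peel_engine (B := B) halt y hiso hss hinj 2 2 ⊤
    (fun S _ hSx _ hlt => by
      obtain ⟨v, hvS, hv0, hv⟩ := exists_common_isotropic p
        (fun _ : Fin 1 => B.compl₂ y) S (by omega)
      have hv1 : B v (y v) = 0 := hv 0
      have hyvS : y v ∈ S := by rw [← hSx]; exact ⟨v, hvS, rfl⟩
      have hli : LinearIndependent F ![v, y v] := by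
        rw [LinearIndependent.pair_iff' hv0]
        intro c hc
        have h3 := congrArg y hc
        rw [map_smul, hy, ← hc, smul_smul] at h3
        have h4 : (c * c + 1) • v = 0 := by rw [add_smul, one_smul, h3, neg_add_cancel]
        rcases smul_eq_zero.mp h4 with h5 | h5
        · exact hns c (eq_neg_of_add_eq_zero_left h5)
        · exact hv0 h5
      refine ⟨span F {v, y v}, ?_, ?_, ?_, ?_⟩
      · rw [span_le]
        intro w hw
        rcases hw with rfl | rfl
        · exact hvS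
        · exact hyvS
      · rw [Module.End.mem_invtSubmodule_iff_map_le, Submodule.map_span, span_le]
        rintro _ ⟨w, hw, rfl⟩
        rcases hw with rfl | rfl
        · exact subset_span (by simp)
        · rw [hy]
          exact Submodule.neg_mem _ (subset_span (by simp))
      · have key : ∀ u ∈ ({v, y v} : Set V), ∀ w ∈ ({v, y v} : Set V), B u w = 0 := by
          intro u hu w hw
          rcases hu with rfl | rfl <;> rcases hw with rfl | rfl
          · exact halt _
          · exact hv1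
          · rw [alt_swap B halt, hv1, neg_zero]
          · exact halt _
        intro u hu w hw
        induction hu using Submodule.span_induction with
        | mem a ha =>
          induction hw using Submodule.span_induction with
          | mem b hb => exact key a ha b hb
          | zero => simp
          | add b c _ _ hb hc => rw [map_add, hb, hc, add_zero]
          | smul t b _ hb => rw [map_smul, hb, smul_zero]
        | zero => simp
        | add a c _ _ ha hc => rw [map_add, LinearMap.add_apply, ha, hc, add_zero]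
        | smul t a _ ha => rw [map_smul, LinearMap.smul_apply, ha, smul_zero]
      · have : ({v, y v} : Set V) = Set.range ![v, y v] := by
          ext w
          simp only [Set.mem_insert_iff, Set.mem_singleton_iff, Set.mem_range, Fin.exists_fin_two,
            Matrix.cons_val_zero, Matrix.cons_val_one]
          constructor
          · rintro (h | h)
            · exact Or.inl h.symm
            · exact Or.inr h.symm
          · rintro (h | h)
            · exact Or.inl h.symm
            · exact Or.inr h.symm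
        rw [this, finrank_span_eq_card hli, Fintype.card_fin])
    j ⊤ le_rfl htop hnd' (by rw [finrank_top, hV]; omega)
  obtain ⟨W, -, hWinv, hWti, hWdim⟩ := h
  exact ⟨W, hWdim, hWti, (Module.End.mem_invtSubmodule_iff_map_le _).mp hWinv⟩

/-- every isometry with square `±1` fixes a totally isotropic `m`-space when `m` is even or `-1`
is a square -/
theorem ti_of_sq_scalar (p : ℕ) [Fact p.Prime] [CharP F p] (halt : ∀ x, B x x = 0)
    (hnd : ∀ x, (∀ y, B x y = 0) → x = 0)
    (h2 : (2 : F) ≠ 0) (d : ℕ) (hd : 1 ≤ d) (hV : finrank F V = 2 * d) (y : V →ₗ[F] V)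
    (hiso : ∀ u v, B (y u) (y v) = B u v) (z : F) (hy : ∀ v, y (y v) = z • v)
    (m : ℕ) (hm : m ≤ d) (hcond : Even m ∨ IsSquare (-1 : F)) :
    ∃ W : Submodule F V, finrank F W = m ∧ (∀ u ∈ W, ∀ v ∈ W, B u v = 0) ∧ W.map y ≤ W := by
  have hz2 : z * z = 1 := by
    have hV0 : 0 < finrank F V := by omega
    obtain ⟨u, hu0⟩ := Module.finrank_pos_iff_exists_ne_zero.mp hV0
    have : ∃ v, B u v ≠ 0 := by
      by_contra hcon
      push Not at hcon
      exact hu0 (hnd u hcon)
    obtain ⟨v, huv⟩ := this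
    have h1 : B (y (y u)) (y (y v)) = B u v := by rw [hiso, hiso]
    rw [hy, hy] at h1
    simp only [map_smul, LinearMap.smul_apply, smul_eq_mul] at h1
    have h3 : (z * z - 1) * B u v = 0 := by linear_combination h1
    rcases mul_eq_zero.mp h3 with h4 | h4
    · exact sub_eq_zero.mp h4
    · exact absurd h4 huv
  rcases mul_self_eq_one_iff.mp hz2 with rfl | rfl
  · exact ti_of_sq_one halt hnd h2 d hV y hiso (fun v => by rw [hy, one_smul]) m hm
  · have hy' : ∀ v, y (y v) = -v := fun v => by rw [hy, neg_smul, one_smul]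
    by_cases hsq : IsSquare (-1 : F)
    · obtain ⟨ι, hι⟩ := hsq
      exact ti_of_sq_neg_one_sq halt hnd h2 d hV y hiso hy' ι hι.symm m hm
    · obtain ⟨j, hj⟩ := hcond.resolve_right hsq
      have := ti_of_sq_neg_one_even p halt hnd h2 d hV y hiso hy'
        (fun c hc => hsq ⟨c, hc.symm⟩) j (by omega)
      rw [hj, ← two_mul]
      exact this

omit [Fintype F] in
/-- an endomorphism with square `-1` of an odd-dimensional space forces `-1` to be a square -/
theorem isSquare_neg_one_of_odd (y : V →ₗ[F] V) (hy : ∀ v, y (y v) = -v) (W : Submodule F V)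
    (hW : W.map y ≤ W) (hodd : Odd (finrank F W)) : IsSquare (-1 : F) := by
  have hW' : ∀ w ∈ W, y w ∈ W := fun w hw => hW ⟨w, hw, rfl⟩
  have h1 : (y.restrict hW') * (y.restrict hW') = (-1 : F) • (1 : W →ₗ[F] W) := by
    apply LinearMap.ext
    intro w
    apply Subtype.ext
    rw [Module.End.mul_apply, LinearMap.coe_restrict_apply, LinearMap.coe_restrict_apply, hy]
    simp
  have h2 := congrArg LinearMap.det h1
  rw [map_mul, LinearMap.det_smul, map_one, mul_one, hodd.neg_one_pow] at h2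
  exact ⟨_, h2.symm⟩

end abstract

section final

variable {F : Type*} [Field F] [Fintype F]

/-- the case `r = 2` of the criterion -/
theorem two_criterion (p : ℕ) [Fact p.Prime] [CharP F p] (hp2 : p ≠ 2) (d m : ℕ) (hd : 1 ≤ d)
    (hmd : m ≤ d) :
    (∀ x : ↥(Matrix.symplecticGroup (Fin d) F),
      (∃ z : F, ((x ^ 2 : ↥(Matrix.symplecticGroup (Fin d) F)) :
        Matrix (Fin d ⊕ Fin d) (Fin d ⊕ Fin d) F) =
          z • (1 : Matrix (Fin d ⊕ Fin d) (Fin d ⊕ Fin d) F)) →
      (∀ z : F, (x : Matrix (Fin d ⊕ Fin d) (Fin d ⊕ Fin d) F) ≠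
        z • (1 : Matrix (Fin d ⊕ Fin d) (Fin d ⊕ Fin d) F)) →
      ∃ W : Submodule F (Fin d ⊕ Fin d → F), Module.finrank F ↥W = m ∧
        (∀ u ∈ W, ∀ v ∈ W, Cfsg.sympForm d F u v = 0) ∧
        W.map (Matrix.toLin' (x : Matrix (Fin d ⊕ Fin d) (Fin d ⊕ Fin d) F)) ≤ W) ↔
    (Even m ∨ Fintype.card F % 4 = 1) := by
  have h2 : (2 : F) ≠ 0 := by
    intro h
    have h3 : ((2 : ℕ) : F) = 0 := by exact_mod_cast h
    rw [CharP.cast_eq_zero_iff F p 2] at h3
    exact hp2 ((Nat.prime_dvd_prime_iff_eq (Fact.out : p.Prime) Nat.prime_two).mp h3)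
  have hfrV : finrank F (Fin d ⊕ Fin d → F) = 2 * d := by
    rw [Module.finrank_pi, Fintype.card_sum, Fintype.card_fin, two_mul]
  constructor
  · intro hall
    by_contra hcon
    rw [not_or] at hcon
    obtain ⟨hmo, hq⟩ := hcon
    have hq3 : Fintype.card F % 4 = 3 := by
      have hodd : Fintype.card F % 2 = 1 :=
        FiniteField.odd_card_of_char_ne_two (by rw [ringChar.eq F p]; exact hp2)
      omega
    obtain ⟨W, hWdim, -, hWx⟩ := hall ⟨Matrix.J (Fin d) F, SymplecticGroup.J_mem (Fin d) F⟩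
      ⟨-1, by
        rw [SubmonoidClass.coe_pow, pow_two]
        show Matrix.J (Fin d) F * Matrix.J (Fin d) F = _
        rw [Matrix.J_squared, neg_smul, one_smul]⟩
      (fun z hz => by
        have hz' : Matrix.J (Fin d) F = z • 1 := hz
        have h0 := congrFun (congrFun hz' (Sum.inl ⟨0, hd⟩)) (Sum.inl ⟨0, hd⟩)
        have h1 := congrFun (congrFun hz' (Sum.inl ⟨0, hd⟩)) (Sum.inr ⟨0, hd⟩)
        simp [Matrix.J, Matrix.fromBlocks] at h0 h1)
    have hsq := isSquare_neg_one_of_odd
      (Matrix.toLin' (Matrix.J (Fin d) F)) (fun v => by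
        rw [Matrix.toLin'_apply, Matrix.toLin'_apply, Matrix.mulVec_mulVec, Matrix.J_squared,
          Matrix.neg_mulVec, Matrix.one_mulVec]) W hWx (by rw [hWdim]; exact Nat.not_even_iff_odd.mp hmo)
    rw [FiniteField.isSquare_neg_one_iff] at hsq
    exact hsq hq3
  · intro hcond x ⟨z, hz⟩ _
    have hcond' : Even m ∨ IsSquare (-1 : F) := by
      rcases hcond with h | h
      · exact Or.inl h
      · right
        rw [FiniteField.isSquare_neg_one_iff]
        omega
    obtain ⟨y, hy⟩ : ∃ y : (Fin d ⊕ Fin d → F) →ₗ[F] (Fin d ⊕ Fin d → F),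
        y = Matrix.toLin' (x : Matrix (Fin d ⊕ Fin d) (Fin d ⊕ Fin d) F) := ⟨_, rfl⟩
    rw [← hy]
    have hx2 : ∀ v, y (y v) = z • v := by
      intro v
      rw [hy, Matrix.toLin'_apply, Matrix.toLin'_apply, Matrix.mulVec_mulVec, ← pow_two,
        ← SubmonoidClass.coe_pow, hz, Matrix.smul_mulVec, Matrix.one_mulVec]
    have hiso : ∀ u v, stdSymp d F (y u) (y v) = stdSymp d F u v := by
      intro u v
      rw [hy]
      exact sympLin_iso' x u v
    exact ti_of_sq_scalar (B := stdSymp d F) p stdSymp_alt stdSymp_nondeg h2 d hd hfrV y hiso z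
      hx2 m hmd hcond'

end final

end Cfsg.Agent.Lib.Helper15.PSpK
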