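import Mathlib
import Cfsg.Agent.Lib.Helper15.PSpK3

/-!
# Invariant totally isotropic subspaces for isometries of odd prime order
-/

set_option autoImplicit false

namespace Cfsg.Agent.Lib.Helper15.PSpK

open Module Submodule Polynomial Cfsg.Agent.Lib.Helper15 Cfsg.Agent.Lib.Helper15.PSpI
  Cfsg.Agent.Lib.Helper15.PSub Cfsg.Agent.Lib.Helper15.PDec Cfsg.Agent.Lib.Helper15.PSpJ
  Cfsg.Agent.Lib.Helper6

section source

variable {F V : Type*} [Field F] [Fintype F] [AddCommGroup V] [Module F V]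
  [FiniteDimensional F V]
variable {B : V →ₗ[F] V →ₗ[F] F}

omit [Fintype F] [FiniteDimensional F V] in
/-- a vector with `B v (y^e v) = 0` for `1 ≤ e < deg P` and `P(y) v = 0` has `B v (y^e v) = 0`
for all `e` -/
theorem all_powers_isotropic (halt : ∀ x, B x x = 0) (y : V →ₗ[F] V) (P : F[X]) (hP0 : P ≠ 0)
    (v : V) (hPv : aeval y P v = 0)
    (hsmall : ∀ e, 1 ≤ e → e < P.natDegree → B v ((y ^ e) v) = 0) :
    ∀ e : ℕ, B v ((y ^ e) v) = 0 := by
  intro e
  induction e using Nat.strong_induction_on with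
  | _ e ih =>
    by_cases h0 : e = 0
    · rw [h0, pow_zero]
      exact halt v
    by_cases h1 : e < P.natDegree
    · exact hsmall e (by omega) h1
    · push Not at h1
      have h2 : B v ((y ^ (e - P.natDegree)) (aeval y P v)) = 0 := by
        rw [hPv, map_zero, map_zero]
      rw [aeval_eq_sum_range, LinearMap.sum_apply, map_sum, map_sum,
        Finset.sum_range_succ] at h2
      have h3 : ∀ a ∈ Finset.range P.natDegree,
          B v ((y ^ (e - P.natDegree)) ((P.coeff a • y ^ a) v)) = 0 := by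
        intro a ha
        rw [Finset.mem_range] at ha
        rw [LinearMap.smul_apply, map_smul, map_smul, ← Module.End.mul_apply, ← pow_add,
          ih (e - P.natDegree + a) (by omega), smul_zero]
      rw [Finset.sum_eq_zero h3, zero_add, LinearMap.smul_apply, map_smul, map_smul,
        ← Module.End.mul_apply, ← pow_add, Nat.sub_add_cancel h1, smul_eq_mul] at h2
      rcases mul_eq_zero.mp h2 with h4 | h4
      · exact absurd h4 (by
          rw [coeff_natDegree]
          exact leadingCoeff_ne_zero.mpr hP0)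
      · exact h4

omit [Fintype F] [FiniteDimensional F V] in
/-- the span of the orbit of such a vector is invariant and totally isotropic -/
theorem orbit_span_ti (halt : ∀ x, B x x = 0) (y : V →ₗ[F] V)
    (hiso : ∀ u v, B (y u) (y v) = B u v) (v : V) (hall : ∀ e : ℕ, B v ((y ^ e) v) = 0) :
    span F (Set.range fun e : ℕ => (y ^ e) v) ∈ Module.End.invtSubmodule y ∧
      ∀ u ∈ span F (Set.range fun e : ℕ => (y ^ e) v),
        ∀ w ∈ span F (Set.range fun e : ℕ => (y ^ e) v), B u w = 0 := by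
  constructor
  · rw [Module.End.mem_invtSubmodule_iff_map_le, Submodule.map_span, span_le]
    rintro _ ⟨_, ⟨e, rfl⟩, rfl⟩
    apply subset_span
    refine ⟨e + 1, ?_⟩
    show (y ^ (e + 1)) v = y ((y ^ e) v)
    rw [pow_succ', Module.End.mul_apply]
  · have key : ∀ a b : ℕ, B ((y ^ a) v) ((y ^ b) v) = 0 := by
      have key1 : ∀ a b : ℕ, a ≤ b → B ((y ^ a) v) ((y ^ b) v) = 0 := by
        intro a b hab
        have : (y ^ b) v = (y ^ a) ((y ^ (b - a)) v) := by
          rw [← Module.End.mul_apply, ← pow_add, Nat.add_sub_cancel' hab]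
        rw [this, iso_pow y hiso]
        exact hall _
      intro a b
      rcases le_total a b with h | h
      · exact key1 a b h
      · rw [alt_swap B halt, key1 b a h, neg_zero]
    intro u hu w hw
    induction hu using Submodule.span_induction with
    | mem a ha =>
      obtain ⟨ea, rfl⟩ := ha
      induction hw using Submodule.span_induction with
      | mem b hb =>
        obtain ⟨eb, rfl⟩ := hb
        exact key ea eb
      | zero => simp
      | add b c _ _ hb hc => rw [map_add, hb, hc, add_zero]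
      | smul t b _ hb => rw [map_smul, hb, smul_zero]
    | zero => simp
    | add a c _ _ ha hc => rw [map_add, LinearMap.add_apply, ha, hc, add_zero]
    | smul t a _ ha => rw [map_smul, LinearMap.smul_apply, ha, smul_zero]

/-- in a subspace killed by an irreducible `P` of dimension at least `2 deg P` there is an
invariant totally isotropic subspace of dimension `deg P` -/
theorem exists_ti_of_large (p : ℕ) [Fact p.Prime] [CharP F p] (halt : ∀ x, B x x = 0)
    (y : V →ₗ[F] V) (hiso : ∀ u v, B (y u) (y v) = B u v) (P : F[X]) (hPirr : Irreducible P)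
    (K : Submodule F V) (hKinv : K ∈ Module.End.invtSubmodule y)
    (hkill : ∀ w ∈ K, aeval y P w = 0) (hK : 2 * P.natDegree ≤ finrank F K) :
    ∃ U : Submodule F V, U ≤ K ∧ U ∈ Module.End.invtSubmodule y ∧
      (∀ u ∈ U, ∀ w ∈ U, B u w = 0) ∧ finrank F U = P.natDegree := by
  have hpos := hPirr.natDegree_pos
  obtain ⟨v, hvK, hv0, hv⟩ := exists_common_isotropic p
    (fun j : Fin (P.natDegree - 1) => B.compl₂ (y ^ ((j : ℕ) + 1))) K (by omega)
  have hall := all_powers_isotropic halt y P hPirr.ne_zero v (hkill v hvK) (fun e he1 he2 => by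
    have := hv ⟨e - 1, by omega⟩
    simp only [LinearMap.compl₂_apply] at this
    rwa [Nat.sub_add_cancel he1] at this)
  obtain ⟨hLinv, hLti⟩ := orbit_span_ti halt y hiso v hall
  obtain ⟨U, hUinv, hvU, hUdim, hUmin⟩ := exists_cyclic y P hPirr v hv0 (hkill v hvK)
  have hvL : v ∈ span F (Set.range fun e : ℕ => (y ^ e) v) :=
    subset_span ⟨0, by simp⟩
  have hUL := hUmin _ hLinv hvL
  exact ⟨U, hUmin K hKinv hvK, hUinv, fun u hu w hw => hLti u (hUL hu) w (hUL hw), hUdim⟩

/-- the source for odd `i` -/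
theorem source_odd (p : ℕ) [Fact p.Prime] [CharP F p] (r : ℕ) [hr : Fact r.Prime]
    (hrp : r ≠ p) (halt : ∀ x, B x x = 0) (y : V →ₗ[F] V)
    (hiso : ∀ u v, B (y u) (y v) = B u v) (hy : y ^ r = 1)
    (hi : ¬ Even (orderOf ((Fintype.card F : ℕ) : ZMod r)))
    (S : Submodule F V) (hSx : S.map y = S) (hSE : S ⊓ Module.End.eigenspace y 1 = ⊥)
    (hS0 : 0 < finrank F S) :
    ∃ U : Submodule F V, U ≤ S ∧ U ∈ Module.End.invtSubmodule y ∧
      (∀ u ∈ U, ∀ w ∈ U, B u w = 0) ∧
      finrank F U = orderOf ((Fintype.card F : ℕ) : ZMod r) := by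
  have hinj : Function.Injective y :=
    injective_of_pow_eq_smul y r 1 one_ne_zero (by rw [hy, one_smul]) hr.out.ne_zero
  have hSinv : S ∈ Module.End.invtSubmodule y := by
    rw [Module.End.mem_invtSubmodule_iff_map_le, hSx]
  have hkill := cyclotomic_kills y r hy S hSinv hSE
  have hS0' : S ≠ ⊥ := by
    intro h
    rw [h, finrank_bot] at hS0
    omega
  obtain ⟨w, hwS, hw0⟩ := Submodule.exists_mem_ne_zero_of_ne_bot hS0'
  obtain ⟨P, hPirr, hPdvd, v, hv0, hPv, hvW⟩ :=
    exists_irreducible_killer y (cyclotomic r F) (cyclotomic_ne_zero r F) w hw0 (hkill w hwS)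
  have hvS : v ∈ S := hvW S hSinv hwS
  have hPdeg : P.natDegree = orderOf ((Fintype.card F : ℕ) : ZMod r) :=
    cyclotomic_factor_degree p r hr.out hrp P hPirr hPdvd
  have hKinv : S ⊓ LinearMap.ker (aeval y P) ∈ Module.End.invtSubmodule y :=
    Module.End.invtSubmodule.inf_mem hSinv (ker_aeval_invt y P)
  obtain ⟨W, hWK, hWinv, hvW', hWdim, hWirr⟩ := cyclic_irred y P hPirr _ hKinv
    (fun w hw => LinearMap.mem_ker.mp hw.2) v ⟨hvS, LinearMap.mem_ker.mpr hPv⟩ hv0
  have hWx : W.map y = W := map_eq_of_invt y hinj W hWinv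
  refine ⟨W, hWK.trans inf_le_left, hWinv, ?_, by rw [hWdim, hPdeg]⟩
  by_contra hti
  push Not at hti
  obtain ⟨u, hu, w', hw', huw⟩ := hti
  have hWn : NondegOn B W := nondeg_of_irred halt y hiso W hWx hWirr ⟨u, hu, w', hw', huw⟩
  have heven := even_finrank_of_nondegOn halt W hWn
  rw [hWdim, hPdeg] at heven
  exact hi heven

/-- the source for even `i` -/
theorem source_even (p : ℕ) [Fact p.Prime] [CharP F p] (r : ℕ) [hr : Fact r.Prime]
    (hrp : r ≠ p) (halt : ∀ x, B x x = 0) (y : V →ₗ[F] V)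
    (hiso : ∀ u v, B (y u) (y v) = B u v) (hy : y ^ r = 1)
    (S : Submodule F V) (hSx : S.map y = S) (hSE : S ⊓ Module.End.eigenspace y 1 = ⊥)
    (hS0 : r - 1 < finrank F S) :
    ∃ U : Submodule F V, U ≤ S ∧ U ∈ Module.End.invtSubmodule y ∧
      (∀ u ∈ U, ∀ w ∈ U, B u w = 0) ∧
      finrank F U = orderOf ((Fintype.card F : ℕ) : ZMod r) := by
  have hr0 : (r : F) ≠ 0 := ne_zero_of_ne' p r hr.out hrp
  have hss : Module.End.IsSemisimple y :=
    isSemisimple_of_pow_eq_smul y r hr0 1 one_ne_zero (by rw [hy, one_smul])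
  have hSinv : S ∈ Module.End.invtSubmodule y := by
    rw [Module.End.mem_invtSubmodule_iff_map_le, hSx]
  have hkill := cyclotomic_kills y r hy S hSinv hSE
  have hex : ∃ P : F[X], Irreducible P ∧ P ∣ cyclotomic r F ∧
      P.natDegree < finrank F ↥(S ⊓ LinearMap.ker (aeval y P)) := by
    by_contra hcon
    push Not at hcon
    have hsmall : ∀ P : F[X], Irreducible P →
        finrank F ↥(S ⊓ LinearMap.ker (aeval y P)) ≤ P.natDegree := by
      intro P hPirr
      by_cases hPd : P ∣ cyclotomic r F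
      · exact hcon P hPirr hPd
      · have hcop : IsCoprime P (cyclotomic r F) := (hPirr.coprime_iff_not_dvd).mpr hPd
        have hle : S ⊓ LinearMap.ker (aeval y P) ≤ ⊥ := by
          rw [← (disjoint_ker_aeval_of_isCoprime y hcop).eq_bot]
          intro w hw
          exact Submodule.mem_inf.mpr ⟨hw.2, LinearMap.mem_ker.mpr (hkill w hw.1)⟩
        rw [le_bot_iff.mp hle, finrank_bot]
        exact Nat.zero_le _
    have hsq : Squarefree (cyclotomic r F) := by
      have : NeZero ((r : ℕ) : F) := ⟨hr0⟩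
      exact (separable_cyclotomic r F).squarefree
    have h1 := finrank_inf_ker_le y S hSinv hsmall _ (cyclotomic r F) rfl hsq
    have h2 : S ⊓ LinearMap.ker (aeval y (cyclotomic r F)) = S :=
      inf_eq_left.mpr fun w hw => LinearMap.mem_ker.mpr (hkill w hw)
    rw [h2, natDegree_cyclotomic, Nat.totient_prime hr.out] at h1
    omega
  obtain ⟨P, hPirr, hPdvd, hPlt⟩ := hex
  have hPdeg : P.natDegree = orderOf ((Fintype.card F : ℕ) : ZMod r) :=
    cyclotomic_factor_degree p r hr.out hrp P hPirr hPdvd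
  have hKinv : S ⊓ LinearMap.ker (aeval y P) ∈ Module.End.invtSubmodule y :=
    Module.End.invtSubmodule.inf_mem hSinv (ker_aeval_invt y P)
  have hKkill : ∀ w ∈ S ⊓ LinearMap.ker (aeval y P), aeval y P w = 0 :=
    fun w hw => LinearMap.mem_ker.mp hw.2
  have hdvd : P.natDegree ∣ finrank F ↥(S ⊓ LinearMap.ker (aeval y P)) :=
    dvd_finrank_of_killed y hss P hPirr.ne_zero P.natDegree (fun P' hP' hd => by
      have := (hP'.associated_of_dvd hPirr hd)
      exact natDegree_eq_of_degree_eq (degree_eq_degree_of_associated this))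
      _ hKinv hKkill
  have h2 : 2 * P.natDegree ≤ finrank F ↥(S ⊓ LinearMap.ker (aeval y P)) := by
    obtain ⟨k, hk⟩ := hdvd
    rw [hk] at hPlt ⊢
    have hk2 : 2 ≤ k := by
      by_contra hlt
      have : k ≤ 1 := by omega
      have := Nat.mul_le_mul_left P.natDegree this
      omega
    calc 2 * P.natDegree = P.natDegree * 2 := mul_comm _ _
      _ ≤ P.natDegree * k := Nat.mul_le_mul_left _ hk2
  obtain ⟨U, hUK, hUinv, hUti, hUdim⟩ :=
    exists_ti_of_large p halt y hiso P hPirr _ hKinv hKkill h2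
  exact ⟨U, hUK.trans inf_le_left, hUinv, hUti, by rw [hUdim, hPdeg]⟩

/-- the threshold of the peeling engine -/
def thr (r i : ℕ) : ℕ := if Even i then r - 1 else 0

/-- invariant totally isotropic subspaces for an isometry of odd prime order `r` -/
theorem exists_ti_invt (p : ℕ) [Fact p.Prime] [CharP F p] (r : ℕ) [hr : Fact r.Prime]
    (hrp : r ≠ p) (halt : ∀ x, B x x = 0) (hnd : ∀ x, (∀ y, B x y = 0) → x = 0)
    (y : V →ₗ[F] V) (hiso : ∀ u v, B (y u) (y v) = B u v) (hy : y ^ r = 1) (j w : ℕ)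
    (hj : j = 0 ∨ thr r (orderOf ((Fintype.card F : ℕ) : ZMod r)) +
      2 * orderOf ((Fintype.card F : ℕ) : ZMod r) * j <
        finrank F (movPart B y ⊤) + 2 * orderOf ((Fintype.card F : ℕ) : ZMod r))
    (hw : 2 * w ≤ finrank F ↥((⊤ : Submodule F V) ⊓ Module.End.eigenspace y 1)) :
    ∃ W : Submodule F V, finrank F W = orderOf ((Fintype.card F : ℕ) : ZMod r) * j + w ∧
      (∀ u ∈ W, ∀ v ∈ W, B u v = 0) ∧ W.map y ≤ W := by
  have hr0 : (r : F) ≠ 0 := ne_zero_of_ne' p r hr.out hrp
  have hss : Module.End.IsSemisimple y :=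
    isSemisimple_of_pow_eq_smul y r hr0 1 one_ne_zero (by rw [hy, one_smul])
  have hinj : Function.Injective y :=
    injective_of_pow_eq_smul y r 1 one_ne_zero (by rw [hy, one_smul]) hr.out.ne_zero
  have htop : (⊤ : Submodule F V).map y = ⊤ := by
    rw [Submodule.map_top]
    exact LinearMap.range_eq_top.mpr (LinearMap.injective_iff_surjective.mp hinj)
  have hnd' : NondegOn B (⊤ : Submodule F V) := fun u _ hu => hnd u fun v => hu v mem_top
  obtain ⟨hMx, hMn, hME, -, -, horth⟩ :=
    movPart_props halt y hiso r hr.out.ne_zero hr0 hy ⊤ htop hnd'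
  have hCn := nondegOn_fixed y hiso r hr0 hy ⊤ htop hnd'
  obtain ⟨W₂, hW₂C, hW₂ti, hW₂dim⟩ := exists_ti_le halt _ hCn w hw
  have hM : ∃ W₁ : Submodule F V, W₁ ≤ movPart B y ⊤ ∧ W₁ ∈ Module.End.invtSubmodule y ∧
      (∀ u ∈ W₁, ∀ w ∈ W₁, B u w = 0) ∧
      finrank F W₁ = orderOf ((Fintype.card F : ℕ) : ZMod r) * j := by
    rcases hj with rfl | hj
    · refine ⟨⊥, bot_le, Module.End.invtSubmodule.bot_mem y, ?_, by simp⟩
      intro u hu w _
      rw [(Submodule.mem_bot F).mp hu, map_zero, LinearMap.zero_apply]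
    · apply peel_engine halt y hiso hss hinj (orderOf ((Fintype.card F : ℕ) : ZMod r))
        (thr r (orderOf ((Fintype.card F : ℕ) : ZMod r))) (movPart B y ⊤) ?_ j _ le_rfl hMx hMn hj
      intro S hSM hSx _ hlt
      have hSE : S ⊓ Module.End.eigenspace y 1 = ⊥ := by
        rw [eq_bot_iff, ← hME]
        exact inf_le_inf_right _ hSM
      unfold thr at hlt
      split_ifs at hlt with hi
      · exact source_even p r hrp halt y hiso hy S hSx hSE hlt
      · exact source_odd p r hrp halt y hiso hy hi S hSx hSE hlt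
  obtain ⟨W₁, hW₁M, hW₁inv, hW₁ti, hW₁dim⟩ := hM
  have horth' : Orth B W₂ W₁ := horth.mono hW₂C hW₁M
  refine ⟨W₁ ⊔ W₂, ?_, ?_, ?_⟩
  · have hdis : W₁ ⊓ W₂ = ⊥ := by
      rw [eq_bot_iff]
      calc W₁ ⊓ W₂ ≤ movPart B y ⊤ ⊓ ((⊤ : Submodule F V) ⊓ Module.End.eigenspace y 1) :=
            inf_le_inf hW₁M hW₂C
        _ = ⊥ := by rw [inf_comm]; exact (horth.disjoint halt hCn).eq_bot
    have := Submodule.finrank_sup_add_finrank_inf_eq W₁ W₂
    rw [hdis, finrank_bot, add_zero, hW₁dim, hW₂dim] at this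
    exact this
  · intro u hu v hv
    obtain ⟨u₁, hu₁, u₂, hu₂, rfl⟩ := mem_sup.mp hu
    obtain ⟨v₁, hv₁, v₂, hv₂, rfl⟩ := mem_sup.mp hv
    simp only [map_add, LinearMap.add_apply, hW₁ti u₁ hu₁ v₁ hv₁, hW₂ti u₂ hu₂ v₂ hv₂,
      horth' u₂ hu₂ v₁ hv₁, (horth'.symm halt) u₁ hu₁ v₂ hv₂, add_zero]
  · rw [Submodule.map_sup]
    apply sup_le_sup
    · exact (Module.End.mem_invtSubmodule_iff_map_le _).mp hW₁inv
    · rintro _ ⟨w, hw, rfl⟩
      rw [fix_of_mem_inf y (hW₂C hw)]
      exact hw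

end source

end Cfsg.Agent.Lib.Helper15.PSpK
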