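import Mathlib
import Cfsg.Agent.Lib.Helper15.PSpK4

/-!
# Roots of unity with distinct minimal polynomials; half-dimension bound; isometric transport
-/

set_option autoImplicit false

namespace Cfsg.Agent.Lib.Helper15.PSpK

open Module Submodule Polynomial Cfsg.Agent.Lib.Helper15 Cfsg.Agent.Lib.Helper15.PSpI
  Cfsg.Agent.Lib.Helper15.PSub Cfsg.Agent.Lib.Helper15.PDec Cfsg.Agent.Lib.Helper15.PSpJ
  Cfsg.Agent.Lib.Helper15.PSpD Cfsg.Agent.Lib.Helper6

section half

variable {F V : Type*} [Field F] [AddCommGroup V] [Module F V] [FiniteDimensional F V]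
variable {B : V →ₗ[F] V →ₗ[F] F}

/-- a totally isotropic subspace of a nondegenerate subspace has at most half its dimension -/
theorem ti_le_half (halt : ∀ x, B x x = 0) (S U : Submodule F V) (hUS : U ≤ S)
    (hSn : NondegOn B S) (hUti : ∀ u ∈ U, ∀ w ∈ U, B u w = 0) :
    2 * finrank F U ≤ finrank F S := by
  obtain ⟨R', hR'S, -, hUR', hR'dim, -, -⟩ :=
    pair_block (B := B) halt (1 : V →ₗ[F] V) (fun u v => rfl) Module.End.isSemisimple_id
      (fun u v h => h) S (Submodule.map_id S) hSn U hUS (fun u hu => hu) hUti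
  have h1 := Submodule.finrank_sup_add_finrank_inf_eq U R'
  rw [hUR', finrank_bot, add_zero, hR'dim] at h1
  have h2 := Submodule.finrank_mono (sup_le hUS hR'S)
  omega

end half

section transport

variable {F V : Type*} [Field F] [Fintype F] [AddCommGroup V] [Module F V] [FiniteDimensional F V]
variable (B : V →ₗ[F] V →ₗ[F] F)

/-- an isometry of an abstract symplectic space is conjugate, by an isometry, to a symplectic
matrix -/
theorem exists_symp_conj_iso (halt : ∀ x, B x x = 0) (hnd : ∀ x, (∀ y, B x y = 0) → x = 0)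
    (d : ℕ) (hd : 1 ≤ d) (hV : finrank F V = 2 * d) (y' : V →ₗ[F] V)
    (hiso : ∀ u v, B (y' u) (y' v) = B u v) :
    ∃ (x : ↥(Matrix.symplecticGroup (Fin d) F)) (Ψ : (Fin d ⊕ Fin d → F) ≃ₗ[F] V),
      (∀ u, Ψ (Matrix.toLin' (x : Matrix (Fin d ⊕ Fin d) (Fin d ⊕ Fin d) F) u) = y' (Ψ u)) ∧
      ∀ u v, B (Ψ u) (Ψ v) = Cfsg.sympForm d F u v := by
  classical
  obtain ⟨Ψ, hΨ⟩ := exists_symp_iso B halt hnd d hd hV
  obtain ⟨y, hy⟩ : ∃ y : (Fin d ⊕ Fin d → F) →ₗ[F] (Fin d ⊕ Fin d → F),
      y = Ψ.symm.toLinearMap ∘ₗ y' ∘ₗ Ψ.toLinearMap := ⟨_, rfl⟩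
  have hyΨ : ∀ u, Ψ (y u) = y' (Ψ u) := by
    intro u
    rw [hy]
    simp
  obtain ⟨A, hA⟩ : ∃ A : Matrix (Fin d ⊕ Fin d) (Fin d ⊕ Fin d) F, A = LinearMap.toMatrixAlgEquiv' y :=
    ⟨_, rfl⟩
  have hAy : Matrix.toLin' A = y := by
    rw [hA]
    exact Matrix.toLinAlgEquiv'_toMatrixAlgEquiv' y
  have hAmul : ∀ u, A.mulVec u = y u := by
    intro u
    rw [← hAy, Matrix.toLin'_apply]
  have hAmem : A ∈ Matrix.symplecticGroup (Fin d) F := by
    rw [mem_symplecticGroup_iff_preserves]
    intro u v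
    rw [hAmul, hAmul, ← hΨ, hyΨ, hyΨ, hiso, hΨ]
  refine ⟨⟨A, hAmem⟩, Ψ, fun u => ?_, hΨ⟩
  show Ψ (Matrix.toLin' A u) = _
  rw [hAy, hyΨ]

end transport

section roots

variable {F E : Type*} [Field F] [Fintype F] [Field E] [Algebra F E] [FiniteDimensional F E]

/-- roots of unity of order `r` with pairwise distinct minimal polynomials -/
theorem exists_roots (r : ℕ) [hr : Fact r.Prime] (α : E) (hα : α ^ r = 1) (hα1 : α ≠ 1) (u : ℕ)
    (hu : u * finrank F E ≤ r - 1) :
    ∃ ν : Fin u → E, (∀ k, ν k ^ r = 1 ∧ ν k ≠ 1) ∧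
      Function.Injective (fun k => minpoly F (ν k)) := by
  classical
  have hord : orderOf α = r := orderOf_eq_prime hα hα1
  have hr1 : 1 ≤ r := hr.out.pos
  obtain ⟨R, hR⟩ : ∃ R : Finset E, R = (Finset.range (r - 1)).image (fun k => α ^ (k + 1)) :=
    ⟨_, rfl⟩
  have hRcard : R.card = r - 1 := by
    rw [hR, Finset.card_image_of_injOn, Finset.card_range]
    intro a ha b hb hab
    simp only [Finset.coe_range, Set.mem_Iio] at ha hb
    have h1 : α ^ (a + 1) = α ^ (b + 1) := hab
    have h2 := pow_injOn_Iio_orderOf (x := α) (by rw [hord]; show a + 1 < r; omega)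
      (by rw [hord]; show b + 1 < r; omega) h1
    omega
  have hRmem : ∀ μ ∈ R, μ ^ r = 1 ∧ μ ≠ 1 := by
    intro μ hμ
    rw [hR, Finset.mem_image] at hμ
    obtain ⟨k, hk, rfl⟩ := hμ
    rw [Finset.mem_range] at hk
    refine ⟨by rw [← pow_mul, mul_comm, pow_mul, hα, one_pow], ?_⟩
    intro h1
    have h2 := orderOf_dvd_of_pow_eq_one h1
    rw [hord] at h2
    have := Nat.le_of_dvd (by omega) h2
    omega
  have hfib : ∀ P ∈ R.image (minpoly F), (R.filter (fun μ => minpoly F μ = P)).card ≤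
      finrank F E := by
    intro P hP
    rw [Finset.mem_image] at hP
    obtain ⟨μ₀, hμ₀, rfl⟩ := hP
    have hint : IsIntegral F μ₀ := Algebra.IsIntegral.isIntegral μ₀
    have hne : (minpoly F μ₀).map (algebraMap F E) ≠ 0 :=
      (Polynomial.map_ne_zero_iff (algebraMap F E).injective).mpr (minpoly.ne_zero hint)
    have hsub : R.filter (fun μ => minpoly F μ = minpoly F μ₀) ⊆
        ((minpoly F μ₀).map (algebraMap F E)).roots.toFinset := by
      intro μ hμ
      rw [Finset.mem_filter] at hμ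
      rw [Multiset.mem_toFinset, mem_roots hne, IsRoot.def, eval_map_algebraMap, ← hμ.2]
      exact minpoly.aeval F μ
    calc (R.filter (fun μ => minpoly F μ = minpoly F μ₀)).card
        ≤ ((minpoly F μ₀).map (algebraMap F E)).roots.toFinset.card := Finset.card_le_card hsub
      _ ≤ Multiset.card ((minpoly F μ₀).map (algebraMap F E)).roots := Multiset.toFinset_card_le _
      _ ≤ ((minpoly F μ₀).map (algebraMap F E)).natDegree := card_roots' _
      _ = (minpoly F μ₀).natDegree := natDegree_map _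
      _ ≤ finrank F E := minpoly.natDegree_le μ₀
  have hcard := Finset.card_le_mul_card_image R (finrank F E) hfib
  have hu' : u ≤ (R.image (minpoly F)).card := by
    rw [hRcard] at hcard
    have hpos : 0 < finrank F E := Module.finrank_pos
    by_contra hlt
    push Not at hlt
    have h1 : (R.image (minpoly F)).card + 1 ≤ u := hlt
    have h2 := Nat.mul_le_mul_left (finrank F E) h1
    have h3 : finrank F E * ((R.image (minpoly F)).card + 1) =
        finrank F E * (R.image (minpoly F)).card + finrank F E := by ring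
    rw [mul_comm] at hu
    omega
  obtain ⟨PP, hPPsub, hPPcard⟩ := Finset.exists_subset_card_eq hu'
  have hchoose : ∀ P : PP, ∃ μ ∈ R, minpoly F μ = P.1 := by
    intro P
    have := hPPsub P.2
    rw [Finset.mem_image] at this
    exact this
  choose μ hμR hμP using hchoose
  obtain ⟨e⟩ : Nonempty (Fin u ≃ PP) := by
    have : Fintype.card PP = u := by rw [Fintype.card_coe, hPPcard]
    exact ⟨(Fintype.equivFinOfCardEq this).symm⟩
  refine ⟨fun k => μ (e k), fun k => hRmem _ (hμR (e k)), ?_⟩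
  intro k k' hkk'
  have h1 : minpoly F (μ (e k)) = minpoly F (μ (e k')) := hkk'
  rw [hμP, hμP] at h1
  exact e.injective (Subtype.ext h1)

end roots

end Cfsg.Agent.Lib.Helper15.PSpK
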