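import Mathlib
import Cfsg.Agent.Lib.Helper15.PSpK5

/-!
# Model isometries with several non-isomorphic self-dual blocks
-/

set_option autoImplicit false

namespace Cfsg.Agent.Lib.Helper15.PSpK

open Module Submodule Polynomial Cfsg.Agent.Lib.Helper15 Cfsg.Agent.Lib.Helper15.PSpI
  Cfsg.Agent.Lib.Helper15.PSub Cfsg.Agent.Lib.Helper15.PDec Cfsg.Agent.Lib.Helper15.PSpJ
  Cfsg.Agent.Lib.Helper15.PSpD Cfsg.Agent.Lib.Helper6

section dsum

variable {F M : Type*} [Field F] [AddCommGroup M] [Module F M]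
variable {ι : Type*} [Fintype ι] [DecidableEq ι]

/-- the orthogonal sum of a family of forms -/
noncomputable def dForm (BM : ι → (M →ₗ[F] M →ₗ[F] F)) : (ι → M) →ₗ[F] (ι → M) →ₗ[F] F :=
  ∑ a, (BM a).compl₁₂ (LinearMap.proj a) (LinearMap.proj a)

omit [DecidableEq ι] in
theorem dForm_apply (BM : ι → (M →ₗ[F] M →ₗ[F] F)) (u v : ι → M) :
    dForm BM u v = ∑ a, BM a (u a) (v a) := by
  unfold dForm
  rw [LinearMap.sum_apply, LinearMap.sum_apply]
  rfl

omit [DecidableEq ι] in
theorem dForm_alt (BM : ι → (M →ₗ[F] M →ₗ[F] F)) (halt : ∀ a x, BM a x x = 0) (u : ι → M) :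
    dForm BM u u = 0 := by
  rw [dForm_apply]
  exact Finset.sum_eq_zero fun a _ => halt a (u a)

theorem dForm_nondeg (BM : ι → (M →ₗ[F] M →ₗ[F] F))
    (hnd : ∀ a x, (∀ y, BM a x y = 0) → x = 0) (u : ι → M) (h : ∀ v, dForm BM u v = 0) :
    u = 0 := by
  funext k
  apply hnd k
  intro b
  have := h (Pi.single k b)
  rw [dForm_apply, Finset.sum_eq_single k] at this
  · simpa using this
  · intro k' _ hk'
    rw [Pi.single_eq_of_ne hk', map_zero]
  · intro hk
    exact absurd (Finset.mem_univ k) hk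

end dsum

section model

variable {F E : Type*} [Field F] [Fintype F] [Field E] [Algebra F E] [FiniteDimensional F E]
variable {ι : Type*} [Fintype ι] [DecidableEq ι]

/-- the model map: multiplication by `μ k` on the `k`-th copy of `E`, identity on the rest -/
noncomputable def modelMap (μ : ι → E) (m₀ : ℕ) :
    ((ι → E) × (Fin m₀ ⊕ Fin m₀ → F)) →ₗ[F] ((ι → E) × (Fin m₀ ⊕ Fin m₀ → F)) :=
  (LinearMap.pi fun k => LinearMap.mulLeft F (μ k) ∘ₗ LinearMap.proj k).prodMap LinearMap.id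

omit [Fintype F] [FiniteDimensional F E] [Fintype ι] [DecidableEq ι] in
theorem modelMap_apply (μ : ι → E) (m₀ : ℕ) (a : (ι → E) × (Fin m₀ ⊕ Fin m₀ → F)) :
    modelMap μ m₀ a = (fun k => μ k * a.1 k, a.2) := rfl

omit [Fintype F] [FiniteDimensional F E] [Fintype ι] [DecidableEq ι] in
theorem modelMap_pow_apply (μ : ι → E) (m₀ : ℕ) (n : ℕ)
    (a : (ι → E) × (Fin m₀ ⊕ Fin m₀ → F)) :
    ((modelMap μ m₀) ^ n) a = (fun k => μ k ^ n * a.1 k, a.2) := by
  induction n generalizing a with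
  | zero => simp
  | succ n ih =>
    rw [pow_succ, Module.End.mul_apply, modelMap_apply, ih]
    apply Prod.ext
    · funext k
      show μ k ^ n * (μ k * a.1 k) = μ k ^ (n + 1) * a.1 k
      rw [pow_succ]
      ring
    · rfl

omit [Fintype F] [FiniteDimensional F E] [Fintype ι] [DecidableEq ι] in
theorem aeval_modelMap (μ : ι → E) (m₀ : ℕ) (P : F[X])
    (a : (ι → E) × (Fin m₀ ⊕ Fin m₀ → F)) :
    aeval (modelMap μ m₀) P a = (fun k => aeval (μ k) P * a.1 k, (eval 1 P) • a.2) := by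
  induction P using Polynomial.induction_on' with
  | add P Q hP hQ =>
    rw [map_add, LinearMap.add_apply, hP, hQ]
    apply Prod.ext
    · funext k
      show aeval (μ k) P * a.1 k + aeval (μ k) Q * a.1 k = aeval (μ k) (P + Q) * a.1 k
      rw [map_add, add_mul]
    · show eval 1 P • a.2 + eval 1 Q • a.2 = eval 1 (P + Q) • a.2
      rw [eval_add, add_smul]
  | monomial n c =>
    rw [aeval_monomial, Module.algebraMap_end_eq_smul_id, ← Module.End.one_eq_id, smul_mul_assoc,
      one_mul, LinearMap.smul_apply, modelMap_pow_apply]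
    apply Prod.ext
    · funext k
      show c • (μ k ^ n * a.1 k) = aeval (μ k) (monomial n c) * a.1 k
      rw [aeval_monomial, Algebra.smul_def, mul_assoc]
    · show c • a.2 = eval 1 (monomial n c) • a.2
      rw [eval_monomial, one_pow, mul_one]

/-- the model form -/
noncomputable def modelForm (j₀ : ℕ) (μ : ι → E) (m₀ : ℕ) :
    ((ι → E) × (Fin m₀ ⊕ Fin m₀ → F)) →ₗ[F] ((ι → E) × (Fin m₀ ⊕ Fin m₀ → F)) →ₗ[F] F :=
  prodForm (dForm fun k => Cfsg.Agent.Lib.Helper15.PSpD.hermForm F j₀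
    (μ k - frobPow F E j₀ (μ k))) m₀

omit [DecidableEq ι] [FiniteDimensional F E] in
theorem modelForm_apply (j₀ : ℕ) (μ : ι → E) (m₀ : ℕ)
    (a b : (ι → E) × (Fin m₀ ⊕ Fin m₀ → F)) :
    modelForm j₀ μ m₀ a b = (∑ k, Cfsg.Agent.Lib.Helper15.PSpD.hermForm F j₀
      (μ k - frobPow F E j₀ (μ k)) (a.1 k) (b.1 k)) + Cfsg.sympForm m₀ F a.2 b.2 := by
  unfold modelForm
  rw [prodForm_apply, dForm_apply]

/-- the subspace supported on the coordinates in `A` -/
def suppSub (A : Finset ι) (m₀ : ℕ) : Submodule F ((ι → E) × (Fin m₀ ⊕ Fin m₀ → F)) where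
  carrier := {a | a.2 = 0 ∧ ∀ k, k ∉ A → a.1 k = 0}
  add_mem' := by
    rintro a b ⟨ha1, ha2⟩ ⟨hb1, hb2⟩
    refine ⟨by rw [Prod.snd_add, ha1, hb1, add_zero], fun k hk => ?_⟩
    rw [Prod.fst_add, Pi.add_apply, ha2 k hk, hb2 k hk, add_zero]
  zero_mem' := ⟨rfl, fun _ _ => rfl⟩
  smul_mem' := by
    rintro c a ⟨ha1, ha2⟩
    refine ⟨by rw [Prod.smul_snd, ha1, smul_zero], fun k hk => ?_⟩
    rw [Prod.smul_fst, Pi.smul_apply, ha2 k hk, smul_zero]

/-- the subspace of vectors with vanishing block coordinates -/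
def fixSub (ι : Type*) (E : Type*) [Field E] [Algebra F E] (m₀ : ℕ) :
    Submodule F ((ι → E) × (Fin m₀ ⊕ Fin m₀ → F)) where
  carrier := {a | a.1 = 0}
  add_mem' := by
    rintro a b ha hb
    show (a + b).1 = 0
    rw [Prod.fst_add, ha, hb, add_zero]
  zero_mem' := rfl
  smul_mem' := by
    rintro c a ha
    show (c • a).1 = 0
    rw [Prod.smul_fst, ha, smul_zero]

omit [Fintype F] [DecidableEq ι] in
theorem finrank_suppSub_le (A : Finset ι) (m₀ : ℕ) :
    finrank F (suppSub (F := F) (E := E) A m₀) ≤ A.card * finrank F E := by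
  let φ : suppSub (F := F) (E := E) A m₀ →ₗ[F] (A → E) :=
    { toFun := fun a k => a.1.1 k.1
      map_add' := fun a b => rfl
      map_smul' := fun c a => rfl }
  have hinj : Function.Injective φ := by
    rw [← LinearMap.ker_eq_bot, LinearMap.ker_eq_bot']
    intro a ha
    apply Subtype.ext
    apply Prod.ext
    · funext k
      by_cases hk : k ∈ A
      · exact congrFun ha ⟨k, hk⟩
      · exact a.2.2 k hk
    · exact a.2.1
  have := LinearMap.finrank_le_finrank_of_injective hinj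
  rwa [Module.finrank_pi_fintype, Finset.sum_const, Finset.card_univ, Fintype.card_coe,
    smul_eq_mul] at this

omit [Fintype F] [FiniteDimensional F E] [Fintype ι] [DecidableEq ι] in
theorem finrank_fixSub_le (m₀ : ℕ) :
    finrank F (fixSub (F := F) ι E m₀) ≤ 2 * m₀ := by
  let φ : fixSub (F := F) ι E m₀ →ₗ[F] (Fin m₀ ⊕ Fin m₀ → F) :=
    { toFun := fun a => a.1.2
      map_add' := fun a b => rfl
      map_smul' := fun c a => rfl }
  have hinj : Function.Injective φ := by
    rw [← LinearMap.ker_eq_bot, LinearMap.ker_eq_bot']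
    intro a ha
    apply Subtype.ext
    exact Prod.ext a.2 ha
  have := LinearMap.finrank_le_finrank_of_injective hinj
  rwa [Module.finrank_pi, Fintype.card_sum, Fintype.card_fin, ← two_mul] at this

theorem nondegOn_suppSub (j₀ : ℕ) (hfr : finrank F E = 2 * j₀) (μ : ι → E)
    (hθ : ∀ k, μ k - frobPow F E j₀ (μ k) ≠ 0) (A : Finset ι) (m₀ : ℕ) :
    NondegOn (modelForm j₀ μ m₀) (suppSub (F := F) (E := E) A m₀) := by
  intro a ha h
  apply Prod.ext
  · funext k
    by_cases hk : k ∈ A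
    · apply hermForm_nondeg j₀ hfr _ (hθ k)
      intro b
      have := h (Pi.single k b, 0) ⟨rfl, fun k' hk' => by
        show (Pi.single k b : ι → E) k' = 0
        have hne : k' ≠ k := fun h => hk' (by rw [h]; exact hk)
        simp [Pi.single_eq_of_ne hne]⟩
      rw [modelForm_apply, Finset.sum_eq_single k] at this
      · have h5 : ((Pi.single k b, 0) : (ι → E) × (Fin m₀ ⊕ Fin m₀ → F)).1 k = b := by
          simp
        rw [h5, sympForm_zero_right, add_zero] at this
        exact this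
      · intro k' _ hk'
        have h5 : ((Pi.single k b, 0) : (ι → E) × (Fin m₀ ⊕ Fin m₀ → F)).1 k' = 0 := by
          simp [Pi.single_eq_of_ne hk']
        rw [h5, map_zero]
      · intro hk'
        exact absurd (Finset.mem_univ k) hk'
    · exact ha.2 k hk
  · exact ha.1

omit [FiniteDimensional F E] [DecidableEq ι] in
theorem nondegOn_fixSub (j₀ : ℕ) (μ : ι → E) (m₀ : ℕ) :
    NondegOn (modelForm j₀ μ m₀) (fixSub (F := F) ι E m₀) := by
  intro a ha h
  have ha' : a.1 = 0 := ha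
  apply Prod.ext
  · exact ha'
  · apply stdSymp_nondeg
    intro b
    have := h (0, b) rfl
    rw [modelForm_apply] at this
    simpa [ha'] using this

omit [Fintype F] [FiniteDimensional F E] [Fintype ι] [DecidableEq ι] in
/-- the kernel of `P(y)` is supported on the coordinates whose `μ` is a root of `P` -/
theorem ker_le_suppSub [Fintype ι] (μ : ι → E) (m₀ : ℕ) (P : F[X]) (hP1 : eval 1 P ≠ 0)
    (A : Finset ι) (hA : ∀ k, aeval (μ k) P = 0 → k ∈ A) :
    LinearMap.ker (aeval (modelMap μ m₀) P) ≤ suppSub (F := F) (E := E) A m₀ := by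
  intro a ha
  rw [LinearMap.mem_ker, aeval_modelMap] at ha
  have h1 := congrArg Prod.fst ha
  have h2 := congrArg Prod.snd ha
  refine ⟨(smul_eq_zero.mp h2).resolve_left hP1, fun k hk => ?_⟩
  have h3 : aeval (μ k) P * a.1 k = 0 := congrFun h1 k
  exact (mul_eq_zero.mp h3).resolve_left (fun h => hk (hA k h))

omit [Fintype F] [FiniteDimensional F E] [Fintype ι] [DecidableEq ι] in
theorem ker_le_fixSub (μ : ι → E) (hμ1 : ∀ k, μ k ≠ 1) (m₀ : ℕ) :
    LinearMap.ker (aeval (modelMap μ m₀) (X - 1 : F[X])) ≤ fixSub (F := F) ι E m₀ := by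
  intro a ha
  rw [LinearMap.mem_ker, aeval_modelMap] at ha
  have h1 := congrArg Prod.fst ha
  show a.1 = 0
  funext k
  have h3 : aeval (μ k) (X - 1 : F[X]) * a.1 k = 0 := congrFun h1 k
  rw [map_sub, aeval_X, map_one] at h3
  exact (mul_eq_zero.mp h3).resolve_left (sub_ne_zero.mpr (hμ1 k))


section bound

/-- one primary piece of an invariant totally isotropic subspace of the model -/
theorem bound_piece (j₀ : ℕ) (hfr : finrank F E = 2 * j₀) (hj1 : 1 ≤ j₀) (μ : ι → E)
    (hθ : ∀ k, μ k - frobPow F E j₀ (μ k) ≠ 0) (m₀ : ℕ)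
    (hss : Module.End.IsSemisimple (modelMap (F := F) μ m₀))
    (W : Submodule F ((ι → E) × (Fin m₀ ⊕ Fin m₀ → F)))
    (hWinv : W ∈ Module.End.invtSubmodule (modelMap μ m₀))
    (hWti : ∀ u ∈ W, ∀ v ∈ W, modelForm j₀ μ m₀ u v = 0)
    (P : F[X]) (hPirr : Irreducible P) (hPdeg : P.natDegree = 2 * j₀) (hP1 : eval 1 P ≠ 0)
    (A : Finset ι) (hA : ∀ k, aeval (μ k) P = 0 → k ∈ A) :
    ∃ j, finrank F ↥(W ⊓ LinearMap.ker (aeval (modelMap μ m₀) P)) = 2 * j₀ * j ∧
      2 * j ≤ A.card := by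
  have halt : ∀ a, modelForm (F := F) j₀ μ m₀ a a = 0 := by
    intro a
    unfold modelForm
    exact prodForm_alt _ (dForm_alt _ (fun k x => hermForm_alt' j₀ hfr (μ k) x)) m₀ a
  have hKle : W ⊓ LinearMap.ker (aeval (modelMap μ m₀) P) ≤ suppSub (F := F) (E := E) A m₀ :=
    inf_le_right.trans (ker_le_suppSub μ m₀ P hP1 A hA)
  have h1 := ti_le_half halt _ _ hKle (nondegOn_suppSub j₀ hfr μ hθ A m₀)
    (fun u hu v hv => hWti u hu.1 v hv.1)
  have h2 := finrank_suppSub_le (F := F) (E := E) A m₀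
  have hKinv : W ⊓ LinearMap.ker (aeval (modelMap μ m₀) P) ∈
      Module.End.invtSubmodule (modelMap μ m₀) :=
    Module.End.invtSubmodule.inf_mem hWinv (ker_aeval_invt _ P)
  have hdvd : P.natDegree ∣ finrank F ↥(W ⊓ LinearMap.ker (aeval (modelMap μ m₀) P)) :=
    dvd_finrank_of_killed _ hss P hPirr.ne_zero P.natDegree (fun P' hP' hd => by
      have := (hP'.associated_of_dvd hPirr hd)
      exact natDegree_eq_of_degree_eq (degree_eq_degree_of_associated this))
      _ hKinv (fun w hw => LinearMap.mem_ker.mp hw.2)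
  rw [hPdeg] at hdvd
  obtain ⟨j, hj⟩ := hdvd
  refine ⟨j, hj, ?_⟩
  rw [hj] at h1
  rw [hfr] at h2
  have h3 : 2 * (2 * j₀ * j) = (2 * j₀) * (2 * j) := by ring
  have h4 : A.card * (2 * j₀) = (2 * j₀) * A.card := by ring
  rw [h3] at h1
  rw [h4] at h2
  exact Nat.le_of_mul_le_mul_left (h1.trans h2) (by omega)

end bound

end model

end Cfsg.Agent.Lib.Helper15.PSpK
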