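import Mathlib
import Cfsg.Agent.Lib.Helper15.PSpK6

/-!
# Elements of odd prime order with a prescribed profile of self-dual blocks
-/

set_option autoImplicit false

namespace Cfsg.Agent.Lib.Helper15.PSpK

open Module Submodule Polynomial Cfsg.Agent.Lib.Helper15 Cfsg.Agent.Lib.Helper15.PSpI
  Cfsg.Agent.Lib.Helper15.PSub Cfsg.Agent.Lib.Helper15.PDec Cfsg.Agent.Lib.Helper15.PSpJ
  Cfsg.Agent.Lib.Helper15.PSpD Cfsg.Agent.Lib.Helper6

section rootfacts

variable {F E : Type*} [Field F] [Fintype F] [Field E] [Algebra F E] [FiniteDimensional F E]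

omit [FiniteDimensional F E] in
theorem root_sigma (r : ℕ) (j₀ : ℕ) (hrj : r ∣ Fintype.card F ^ j₀ + 1) (μ : E)
    (hμ : μ ^ r = 1) : μ * frobPow F E j₀ μ = 1 := by
  rw [frobPow_apply, ← pow_succ']
  obtain ⟨t, ht⟩ := hrj
  rw [ht, pow_mul, hμ, one_pow]

omit [FiniteDimensional F E] in
theorem root_theta (r : ℕ) [hr : Fact r.Prime] (hr2 : r ≠ 2) (j₀ : ℕ)
    (hrj : r ∣ Fintype.card F ^ j₀ + 1) (μ : E) (hμ : μ ^ r = 1) (hμ1 : μ ≠ 1) :
    μ - frobPow F E j₀ μ ≠ 0 := by
  intro h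
  have hσ := root_sigma r j₀ hrj μ hμ
  rw [sub_eq_zero] at h
  rw [← h] at hσ
  apply hμ1
  have h2 : μ ^ 2 = 1 := by rw [pow_two]; exact hσ
  have h3 : μ ^ Nat.gcd 2 r = 1 := pow_gcd_eq_one.mpr ⟨h2, hμ⟩
  have hg : Nat.gcd 2 r = 1 := by
    rw [Nat.coprime_primes Nat.prime_two hr.out |>.mpr (Ne.symm hr2)]
  rwa [hg, pow_one] at h3

theorem root_minpoly (p : ℕ) [Fact p.Prime] [CharP F p] (r : ℕ) [hr : Fact r.Prime]
    (hrp : r ≠ p) (μ : E) (hμ : μ ^ r = 1) (hμ1 : μ ≠ 1) :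
    Irreducible (minpoly F μ) ∧
      (minpoly F μ).natDegree = orderOf ((Fintype.card F : ℕ) : ZMod r) ∧
      eval 1 (minpoly F μ) ≠ 0 := by
  have hint : IsIntegral F μ := Algebra.IsIntegral.isIntegral μ
  have hirr := minpoly.irreducible hint
  have hr0 : (r : F) ≠ 0 := ne_zero_of_ne' p r hr.out hrp
  have hcyc : aeval μ (cyclotomic r F) = 0 := by
    have h1 : aeval μ (cyclotomic r F * (X - 1)) = 0 := by
      rw [cyclotomic_prime_mul_X_sub_one, map_sub, map_pow, aeval_X, hμ, map_one, sub_self]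
    rw [map_mul, map_sub, aeval_X, map_one] at h1
    exact (mul_eq_zero.mp h1).resolve_right (sub_ne_zero.mpr hμ1)
  have hdvd : minpoly F μ ∣ cyclotomic r F := minpoly.dvd F μ hcyc
  refine ⟨hirr, cyclotomic_factor_degree p r hr.out hrp _ hirr hdvd, ?_⟩
  intro h0
  obtain ⟨Q', hQ'⟩ := hdvd
  have h1 := congrArg (eval 1) hQ'
  rw [eval_one_cyclotomic_prime, eval_mul, h0, zero_mul] at h1
  exact hr0 h1

omit [Fintype F] in
theorem minpoly_eq_of_aeval (μ μ' : E) (h : aeval μ' (minpoly F μ) = 0) :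
    minpoly F μ' = minpoly F μ := by
  have hint : IsIntegral F μ := Algebra.IsIntegral.isIntegral μ
  exact (minpoly.eq_of_irreducible_of_monic (minpoly.irreducible hint) h
    (minpoly.monic hint)).symm

end rootfacts

section bound

variable {F E : Type*} [Field F] [Fintype F] [Field E] [Algebra F E] [FiniteDimensional F E]

/-- the profile map: `a₁` copies of `ν 0` and one copy of each `ν (k+1)` -/
def profMu {u' : ℕ} (a₁ : ℕ) (ν : Fin (u' + 1) → E) : Fin a₁ ⊕ Fin u' → E :=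
  Sum.elim (fun _ => ν 0) (fun k => ν k.succ)

/-- **The bound** for invariant totally isotropic subspaces of the model -/
theorem model_bound (p : ℕ) [Fact p.Prime] [CharP F p] (r : ℕ) [hr : Fact r.Prime]
    (hr2 : r ≠ 2) (hrp : r ≠ p) (j₀ : ℕ) (hj1 : 1 ≤ j₀) (hfr : finrank F E = 2 * j₀)
    (hord : orderOf ((Fintype.card F : ℕ) : ZMod r) = j₀ + j₀) (a₁ u' m₀ : ℕ)
    (ν : Fin (u' + 1) → E) (hν : ∀ k, ν k ^ r = 1 ∧ ν k ≠ 1)
    (hνinj : Function.Injective fun k => minpoly F (ν k))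
    (W : Submodule F ((Fin a₁ ⊕ Fin u' → E) × (Fin m₀ ⊕ Fin m₀ → F)))
    (hWinv : W ∈ Module.End.invtSubmodule (modelMap (profMu a₁ ν) m₀))
    (hWti : ∀ u ∈ W, ∀ v ∈ W, modelForm j₀ (profMu a₁ ν) m₀ u v = 0) :
    ∃ w j, finrank F W = w + 2 * j₀ * j ∧ w ≤ m₀ ∧ 2 * j ≤ a₁ := by
  classical
  have hr0 : (r : F) ≠ 0 := ne_zero_of_ne' p r hr.out hrp
  have hrj : r ∣ Fintype.card F ^ j₀ + 1 := dvd_of_order_even _ r j₀ hj1 hord
  obtain ⟨μ, hμdef⟩ : ∃ μ : Fin a₁ ⊕ Fin u' → E, μ = profMu a₁ ν := ⟨_, rfl⟩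
  rw [← hμdef] at hWinv hWti
  have hμl : ∀ a, μ (Sum.inl a) = ν 0 := fun a => by rw [hμdef]; rfl
  have hμr : ∀ k, μ (Sum.inr k) = ν k.succ := fun k => by rw [hμdef]; rfl
  have hμroot : ∀ c, μ c ^ r = 1 ∧ μ c ≠ 1 := by
    intro c
    rcases c with a | k
    · rw [hμl]; exact hν 0
    · rw [hμr]; exact hν _
  have hθ : ∀ c, μ c - frobPow F E j₀ (μ c) ≠ 0 := fun c =>
    root_theta r hr2 j₀ hrj (μ c) (hμroot c).1 (hμroot c).2
  obtain ⟨y, hy⟩ : ∃ y, y = modelMap (F := F) μ m₀ := ⟨_, rfl⟩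
  have hyr : y ^ r = 1 := by
    apply LinearMap.ext
    intro a
    rw [hy, modelMap_pow_apply]
    apply Prod.ext
    · funext c
      show μ c ^ r * a.1 c = a.1 c
      rw [(hμroot c).1, one_mul]
    · rfl
  have hss : Module.End.IsSemisimple y :=
    isSemisimple_of_pow_eq_smul y r hr0 1 one_ne_zero (by rw [hyr, one_smul])
  rw [← hy] at hWinv
  have halt : ∀ a, modelForm (F := F) j₀ μ m₀ a a = 0 := by
    intro a
    unfold modelForm
    exact prodForm_alt _ (dForm_alt _ (fun k x => hermForm_alt' j₀ hfr (μ k) x)) m₀ a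
  -- the minimal polynomials
  have hPfacts : ∀ k, Irreducible (minpoly F (ν k)) ∧ (minpoly F (ν k)).natDegree = 2 * j₀ ∧
      eval 1 (minpoly F (ν k)) ≠ 0 := by
    intro k
    obtain ⟨h1, h2, h3⟩ := root_minpoly (F := F) p r hrp (ν k) (hν k).1 (hν k).2
    exact ⟨h1, by rw [h2, hord, two_mul], h3⟩
  have hPne : ∀ k k', k ≠ k' → IsCoprime (minpoly F (ν k)) (minpoly F (ν k')) := by
    intro k k' hkk'
    rw [(hPfacts k).1.coprime_iff_not_dvd]
    intro hd
    have hint : IsIntegral F (ν k) := Algebra.IsIntegral.isIntegral (ν k)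
    have hint' : IsIntegral F (ν k') := Algebra.IsIntegral.isIntegral (ν k')
    have := eq_of_monic_of_associated (minpoly.monic hint) (minpoly.monic hint')
      ((hPfacts k).1.associated_of_dvd (hPfacts k').1 hd)
    exact hkk' (hνinj this)
  have hX1 : ∀ k, IsCoprime (X - 1 : F[X]) (minpoly F (ν k)) := by
    intro k
    have hirr : Irreducible (X - 1 : F[X]) := by
      have := irreducible_X_sub_C (1 : F)
      rwa [C_1] at this
    rw [hirr.coprime_iff_not_dvd]
    intro hd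
    apply (hPfacts k).2.2
    have : (X - C (1 : F)) ∣ minpoly F (ν k) := by rwa [C_1]
    exact dvd_iff_isRoot.mp this
  -- the product kills everything
  obtain ⟨Q₂, hQ₂⟩ : ∃ Q₂ : F[X], Q₂ = ∏ k : Fin u', minpoly F (ν k.succ) := ⟨_, rfl⟩
  have hkillall : ∀ a, aeval y ((X - 1) * (minpoly F (ν 0) * Q₂)) a = 0 := by
    intro a
    rw [hy, aeval_modelMap]
    apply Prod.ext
    · funext c
      show aeval (μ c) ((X - 1) * (minpoly F (ν 0) * Q₂)) * a.1 c = 0
      have : aeval (μ c) ((X - 1) * (minpoly F (ν 0) * Q₂)) = 0 := by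
        rcases c with a' | k
        · rw [hμl, map_mul, map_mul, minpoly.aeval, zero_mul, mul_zero]
        · rw [hμr, map_mul, map_mul, hQ₂]
          have hd : minpoly F (ν k.succ) ∣ ∏ k : Fin u', minpoly F (ν k.succ) :=
            Finset.dvd_prod_of_mem _ (Finset.mem_univ k)
          obtain ⟨Q', hQ'⟩ := hd
          rw [hQ', map_mul, minpoly.aeval, zero_mul, mul_zero, mul_zero]
      rw [this, zero_mul]
    · show eval 1 ((X - 1) * (minpoly F (ν 0) * Q₂)) • a.2 = 0
      rw [eval_mul, eval_sub, eval_X, eval_one, sub_self, zero_mul, zero_smul]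
  have hWall : W ⊓ LinearMap.ker (aeval y ((X - 1) * (minpoly F (ν 0) * Q₂))) = W :=
    inf_eq_left.mpr fun w _ => LinearMap.mem_ker.mpr (hkillall w)
  have hcop2 : IsCoprime (minpoly F (ν 0)) Q₂ := by
    rw [hQ₂]
    apply IsCoprime.prod_right
    intro k _
    exact hPne 0 k.succ (Fin.succ_ne_zero k).symm
  have hcop1 : IsCoprime (X - 1 : F[X]) (minpoly F (ν 0) * Q₂) := by
    apply IsCoprime.mul_right (hX1 0)
    rw [hQ₂]
    apply IsCoprime.prod_right
    intro k _
    exact hX1 k.succ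
  have hsplit := finrank_inf_ker_mul y W hWinv hcop1
  rw [hWall, finrank_inf_ker_mul y W hWinv hcop2, hQ₂,
    finrank_inf_ker_prod y W hWinv Finset.univ (fun k : Fin u' => minpoly F (ν k.succ))
      (fun a _ b _ hab => hPne a.succ b.succ (fun h => hab (Fin.succ_injective _ h)))] at hsplit
  -- the fixed part
  have hC : 2 * finrank F ↥(W ⊓ LinearMap.ker (aeval y (X - 1 : F[X]))) ≤ 2 * m₀ := by
    have hle : W ⊓ LinearMap.ker (aeval y (X - 1 : F[X])) ≤ fixSub (F := F) _ E m₀ := by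
      rw [hy]
      exact inf_le_right.trans (ker_le_fixSub μ (fun c => (hμroot c).2) m₀)
    have h1 := ti_le_half halt _ _ hle (nondegOn_fixSub j₀ μ m₀)
      (fun u hu v hv => hWti u hu.1 v hv.1)
    exact h1.trans (finrank_fixSub_le m₀)
  -- the pieces
  rw [hy] at hss hWinv hsplit hC
  obtain ⟨j, hj, hj2⟩ := bound_piece j₀ hfr hj1 μ hθ m₀ hss W hWinv hWti (minpoly F (ν 0))
    (hPfacts 0).1 (hPfacts 0).2.1 (hPfacts 0).2.2
    (Finset.univ.image Sum.inl) (by
      intro c hc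
      rcases c with a | k
      · exact Finset.mem_image_of_mem _ (Finset.mem_univ a)
      · exfalso
        rw [hμr] at hc
        have := minpoly_eq_of_aeval (F := F) (ν 0) (ν k.succ) hc
        exact Fin.succ_ne_zero k (hνinj this))
  have hzero : ∀ k : Fin u',
      finrank F ↥(W ⊓ LinearMap.ker (aeval (modelMap μ m₀) (minpoly F (ν k.succ)))) = 0 := by
    intro k
    obtain ⟨j', hj', hj'2⟩ := bound_piece j₀ hfr hj1 μ hθ m₀ hss W hWinv hWti
      (minpoly F (ν k.succ)) (hPfacts _).1 (hPfacts _).2.1 (hPfacts _).2.2 {Sum.inr k} (by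
        intro c hc
        rcases c with a | k'
        · exfalso
          rw [hμl] at hc
          have := minpoly_eq_of_aeval (F := F) (ν k.succ) (ν 0) hc
          exact Fin.succ_ne_zero k (hνinj this).symm
        · rw [hμr] at hc
          have := minpoly_eq_of_aeval (F := F) (ν k.succ) (ν k'.succ) hc
          have h2 := Fin.succ_injective _ (hνinj this)
          rw [h2]
          exact Finset.mem_singleton_self _)
    rw [Finset.card_singleton] at hj'2
    have : j' = 0 := by omega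
    rw [hj', this, mul_zero]
  rw [Finset.sum_eq_zero (fun k _ => hzero k), add_zero, hj] at hsplit
  have hcard : (Finset.univ.image (Sum.inl : Fin a₁ → Fin a₁ ⊕ Fin u')).card = a₁ := by
    rw [Finset.card_image_of_injective _ Sum.inl_injective, Finset.card_univ, Fintype.card_fin]
  rw [hcard] at hj2
  exact ⟨_, j, hsplit, by omega, hj2⟩

end bound

end Cfsg.Agent.Lib.Helper15.PSpK
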