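import Mathlib
import Cfsg.Agent.Lib.Helper15.PSpK7

/-!
# Symplectic matrices of odd prime order with a prescribed profile of self-dual blocks
-/

set_option autoImplicit false

namespace Cfsg.Agent.Lib.Helper15.PSpK

open Module Submodule Polynomial Cfsg.Agent.Lib.Helper15 Cfsg.Agent.Lib.Helper15.PSpI
  Cfsg.Agent.Lib.Helper15.PSub Cfsg.Agent.Lib.Helper15.PDec Cfsg.Agent.Lib.Helper15.PSpJ
  Cfsg.Agent.Lib.Helper15.PSpD Cfsg.Agent.Lib.Helper6

section elt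

universe u

variable {F : Type u} [Field F] [Fintype F]

/-- elements of `Sp_{2d}(q)` of order `r` with `a₁` copies of one self-dual block and one copy
each of `u'` further pairwise non-isomorphic self-dual blocks -/
theorem exists_profile_elt (p : ℕ) [Fact p.Prime] [CharP F p] (r : ℕ) [hr : Fact r.Prime]
    (hr2 : r ≠ 2) (hrp : r ≠ p) (j₀ : ℕ) (hj1 : 1 ≤ j₀)
    (hord : orderOf ((Fintype.card F : ℕ) : ZMod r) = j₀ + j₀) (d a₁ u' m₀ : ℕ) (ha₁ : 1 ≤ a₁)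
    (hu : (u' + 1) * (2 * j₀) ≤ r - 1) (hdim : (a₁ + u') * (2 * j₀) + 2 * m₀ = 2 * d) :
    ∃ x : ↥(Matrix.symplecticGroup (Fin d) F),
      (Matrix.toLin' (x : Matrix (Fin d ⊕ Fin d) (Fin d ⊕ Fin d) F)) ^ r = 1 ∧
      (∀ z : F, (x : Matrix (Fin d ⊕ Fin d) (Fin d ⊕ Fin d) F) ≠
        z • (1 : Matrix (Fin d ⊕ Fin d) (Fin d ⊕ Fin d) F)) ∧
      ∀ W : Submodule F (Fin d ⊕ Fin d → F), (∀ u ∈ W, ∀ v ∈ W, Cfsg.sympForm d F u v = 0) →
        W.map (Matrix.toLin' (x : Matrix (Fin d ⊕ Fin d) (Fin d ⊕ Fin d) F)) ≤ W →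
        ∃ w j, finrank F W = w + 2 * j₀ * j ∧ w ≤ m₀ ∧ 2 * j ≤ a₁ := by
  classical
  have hr0 : (r : F) ≠ 0 := ne_zero_of_ne' p r hr.out hrp
  obtain ⟨P, hPirr, hPd, hPdeg⟩ := exists_root_data (F := F) p r hrp
  have hPf : Fact (Irreducible P) := ⟨hPirr⟩
  have hfd : FiniteDimensional F (AdjoinRoot P) := adjoinRoot_finiteDimensional P
  have hfr : finrank F (AdjoinRoot P) = 2 * j₀ := by
    rw [adjoinRoot_finrank, hPdeg, hord, two_mul]
  have hrj : r ∣ Fintype.card F ^ j₀ + 1 := dvd_of_order_even _ r j₀ hj1 hord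
  obtain ⟨α, hα⟩ : ∃ α : AdjoinRoot P, α = AdjoinRoot.root P := ⟨_, rfl⟩
  have hαr : α ^ r = 1 := by rw [hα]; exact adjoinRoot_pow_eq_one P r hPd
  have hα1 : α ≠ 1 := by rw [hα]; exact adjoinRoot_ne_one P r hr0 hPd
  obtain ⟨ν, hν, hνinj⟩ := exists_roots (F := F) r α hαr hα1 (u' + 1) (by rw [hfr]; exact hu)
  obtain ⟨μ, hμdef⟩ : ∃ μ : Fin a₁ ⊕ Fin u' → AdjoinRoot P, μ = profMu a₁ ν := ⟨_, rfl⟩
  have hμl : ∀ a, μ (Sum.inl a) = ν 0 := fun a => by rw [hμdef]; rfl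
  have hμroot : ∀ c, μ c ^ r = 1 ∧ μ c ≠ 1 := by
    intro c
    rcases c with a | k
    · rw [hμl]; exact hν 0
    · rw [hμdef]; exact hν _
  have hθ : ∀ c, μ c - frobPow F (AdjoinRoot P) j₀ (μ c) ≠ 0 := fun c =>
    root_theta r hr2 j₀ hrj (μ c) (hμroot c).1 (hμroot c).2
  obtain ⟨y', hy'⟩ : ∃ y', y' = modelMap (F := F) μ m₀ := ⟨_, rfl⟩
  have halt : ∀ a, modelForm (F := F) j₀ μ m₀ a a = 0 := by
    intro a
    unfold modelForm
    exact prodForm_alt _ (dForm_alt _ (fun k x => hermForm_alt' j₀ hfr (μ k) x)) m₀ a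
  have hnd : ∀ a, (∀ b, modelForm (F := F) j₀ μ m₀ a b = 0) → a = 0 := by
    intro a h
    unfold modelForm at h
    exact prodForm_nondeg _ (dForm_nondeg _ (fun k x hx => hermForm_nondeg j₀ hfr _ (hθ k) x hx))
      m₀ a h
  have hiso : ∀ a b, modelForm (F := F) j₀ μ m₀ (y' a) (y' b) = modelForm j₀ μ m₀ a b := by
    intro a b
    rw [hy', modelForm_apply, modelForm_apply, modelMap_apply, modelMap_apply]
    congr 1
    apply Finset.sum_congr rfl
    intro k _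
    exact hermForm_inv j₀ _ (μ k) (root_sigma r j₀ hrj (μ k) (hμroot k).1) (a.1 k) (b.1 k)
  have hy'r : y' ^ r = 1 := by
    apply LinearMap.ext
    intro a
    rw [hy', modelMap_pow_apply]
    apply Prod.ext
    · funext c
      show μ c ^ r * a.1 c = a.1 c
      rw [(hμroot c).1, one_mul]
    · rfl
  have hV : finrank F ((Fin a₁ ⊕ Fin u' → AdjoinRoot P) × (Fin m₀ ⊕ Fin m₀ → F)) = 2 * d := by
    rw [Module.finrank_prod, Module.finrank_pi_fintype, Module.finrank_pi, Fintype.card_sum,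
      Fintype.card_fin]
    simp only [Finset.sum_const, Finset.card_univ, Fintype.card_sum, Fintype.card_fin,
      smul_eq_mul, hfr]
    omega
  have hd : 1 ≤ d := by
    have : 1 ≤ (a₁ + u') * (2 * j₀) := Nat.mul_pos (by omega) (by omega)
    omega
  obtain ⟨x, Ψ, hΨ, hΨiso⟩ := exists_symp_conj_iso (modelForm (F := F) j₀ μ m₀) halt hnd d hd hV
    y' hiso
  have hΨpow : ∀ n : ℕ, ∀ u, Ψ (((Matrix.toLin'
      (x : Matrix (Fin d ⊕ Fin d) (Fin d ⊕ Fin d) F)) ^ n) u) = (y' ^ n) (Ψ u) := by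
    intro n
    induction n with
    | zero => intro u; simp
    | succ n ih =>
      intro u
      rw [pow_succ', Module.End.mul_apply, hΨ, ih, pow_succ', Module.End.mul_apply]
  refine ⟨x, ?_, ?_, ?_⟩
  · apply LinearMap.ext
    intro u
    apply Ψ.injective
    rw [hΨpow, hy'r]
    rfl
  · intro z hz
    have h1 : ∀ v, y' v = z • v := by
      intro v
      obtain ⟨u, rfl⟩ := Ψ.surjective v
      rw [← hΨ, hz, Matrix.toLin'_apply, Matrix.smul_mulVec, Matrix.one_mulVec, map_smul]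
    have h2 := h1 (Pi.single (Sum.inl ⟨0, ha₁⟩) 1, 0)
    rw [hy', modelMap_apply] at h2
    have h3 := congrFun (congrArg Prod.fst h2) (Sum.inl ⟨0, ha₁⟩)
    simp only [Pi.single_eq_same, mul_one, Prod.smul_fst, Pi.smul_apply] at h3
    rw [hμl, Algebra.smul_def, mul_one] at h3
    obtain ⟨-, hdeg, -⟩ := root_minpoly (F := F) p r hrp (ν 0) (hν 0).1 (hν 0).2
    rw [h3, minpoly.eq_X_sub_C_of_algebraMap_inj z (algebraMap F (AdjoinRoot P)).injective,
      natDegree_X_sub_C, hord] at hdeg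
    omega
  · intro W hWti hWx
    have hbound := model_bound (F := F) p r hr2 hrp j₀ hj1 hfr hord a₁ u' m₀ ν hν hνinj
      (W.map Ψ.toLinearMap) (by
        rw [← hμdef, ← hy']
        rw [Module.End.mem_invtSubmodule_iff_map_le]
        rintro _ ⟨_, ⟨w, hw, rfl⟩, rfl⟩
        refine ⟨Matrix.toLin' (x : Matrix (Fin d ⊕ Fin d) (Fin d ⊕ Fin d) F) w,
          hWx ⟨w, hw, rfl⟩, ?_⟩
        exact hΨ w) (by
        rw [← hμdef]
        rintro _ ⟨u, hu, rfl⟩ _ ⟨v, hv, rfl⟩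
        show modelForm j₀ μ m₀ (Ψ u) (Ψ v) = 0
        rw [hΨiso]
        exact hWti u hu v hv)
    rw [LinearEquiv.finrank_map_eq] at hbound
    exact hbound

end elt

end Cfsg.Agent.Lib.Helper15.PSpK
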