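import Mathlib
import Cfsg.Agent.Lib.Helper15.PSpK4
import Cfsg.Agent.Lib.Helper15.PSpK8
import Cfsg.Agent.Lib.Helper15.PSpJ7

/-!
# Totally isotropic subspaces fixed by elements of odd prime order of `PSp`: sufficiency
-/

set_option autoImplicit false

namespace Cfsg.Agent.Lib.Helper15.PSpK

open Module Submodule Polynomial Cfsg.Agent.Lib.Helper15 Cfsg.Agent.Lib.Helper15.PSpI
  Cfsg.Agent.Lib.Helper15.PSub Cfsg.Agent.Lib.Helper15.PDec Cfsg.Agent.Lib.Helper15.PSpJ
  Cfsg.Agent.Lib.Helper6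

section arith

theorem suff_arith_odd (i d m s : ℕ) (hi : 1 ≤ i) (hmd : m ≤ d) (hs : 2 * i * s ≤ 2 * d)
    (h2 : 2 * (m % i) ≤ (2 * d) % (2 * i)) :
    ∃ j w, i * j + w = m ∧ (j = 0 ∨ 0 + 2 * i * j < 2 * i * s + 2 * i) ∧
      2 * w ≤ 2 * d - 2 * i * s := by
  have hm := Nat.div_add_mod m i
  have hn := Nat.div_add_mod (2 * d) (2 * i)
  by_cases hcase : m / i ≤ s
  · refine ⟨m / i, m % i, hm, Or.inr ?_, ?_⟩
    · have := Nat.mul_le_mul_left (2 * i) hcase
      omega
    · have h3 : s ≤ 2 * d / (2 * i) := by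
        rw [Nat.le_div_iff_mul_le (by omega)]
        rw [mul_comm]; exact hs
      have := Nat.mul_le_mul_left (2 * i) h3
      omega
  · push Not at hcase
    have h4 : i * s ≤ i * (m / i) := Nat.mul_le_mul_left i hcase.le
    refine ⟨s, m - i * s, by omega, Or.inr (by omega), ?_⟩
    have : 2 * i * s = 2 * (i * s) := by ring
    omega

theorem suff_arith_even (i d m s t r : ℕ) (hi : 1 ≤ i) (hmd : m ≤ d) (hs : i * s ≤ 2 * d)
    (hit : i * t = r - 1) (him : i ≤ m)
    (h2 : 2 * (m % i) ≤ (2 * d) % i) (h3 : t + 2 * (m / i) ≤ (2 * d) / i) :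
    ∃ j w, i * j + w = m ∧ (j = 0 ∨ (r - 1) + 2 * i * j < i * s + 2 * i) ∧
      2 * w ≤ 2 * d - i * s := by
  have hm := Nat.div_add_mod m i
  have hn := Nat.div_add_mod (2 * d) i
  have hm1 : 1 ≤ m / i := by
    rw [Nat.one_le_div_iff (by omega)]
    exact him
  have hsn : s ≤ 2 * d / i := by
    rw [Nat.le_div_iff_mul_le (by omega), mul_comm]
    exact hs
  have hsn' := Nat.mul_le_mul_left i hsn
  have h3' := Nat.mul_le_mul_left i h3
  rw [Nat.mul_add] at h3'
  by_cases hcase : m / i ≤ (s + 1 - t) / 2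
  · refine ⟨m / i, m % i, hm, Or.inr ?_, ?_⟩
    · have h5 : 2 * (m / i) ≤ s + 1 - t := by omega
      have h6 : t + 2 * (m / i) ≤ s + 1 := by omega
      have h7 := Nat.mul_le_mul_left i h6
      rw [Nat.mul_add, Nat.mul_add] at h7
      have : i * (2 * (m / i)) = 2 * i * (m / i) := by ring
      rw [← hit]
      omega
    · omega
  · push Not at hcase
    obtain ⟨e, he⟩ : ∃ e, e = (s + 1 - t) / 2 := ⟨_, rfl⟩
    rw [← he] at hcase
    have h4 : i * e ≤ i * (m / i) := Nat.mul_le_mul_left i hcase.le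
    refine ⟨e, m - i * e, by omega, ?_, ?_⟩
    · by_cases he0 : e = 0
      · exact Or.inl he0
      · right
        have h5 : t + 2 * e ≤ s + 1 := by omega
        have h7 := Nat.mul_le_mul_left i h5
        rw [Nat.mul_add, Nat.mul_add] at h7
        have : i * (2 * e) = 2 * i * e := by ring
        rw [← hit]
        omega
    · have h5 : s ≤ t + 2 * e := by omega
      have h7 := Nat.mul_le_mul_left i h5
      rw [Nat.mul_add] at h7
      have h8 : i * (2 * e) = 2 * (i * e) := by ring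
      have h9 : i * (2 * (m / i)) = 2 * (i * (m / i)) := by ring
      omega

end arith

section suff

variable {F : Type*} [Field F] [Fintype F]

/-- **Sufficiency** for odd `r ≠ p`. -/
theorem sufficiency_ti (p : ℕ) [Fact p.Prime] [CharP F p] (r : ℕ) [hr : Fact r.Prime]
    (hr2 : r ≠ 2) (hrp : r ≠ p) (d m : ℕ) (hd : 1 ≤ d) (hmd : m ≤ d)
    (him : orderOf ((Fintype.card F : ℕ) : ZMod r) ≤ m)
    (h2 : 2 * (m % orderOf ((Fintype.card F : ℕ) : ZMod r)) ≤
      (2 * d) % cOf (orderOf ((Fintype.card F : ℕ) : ZMod r)))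
    (h3 : Odd (orderOf ((Fintype.card F : ℕ) : ZMod r)) ∨
      (r - 1) / orderOf ((Fintype.card F : ℕ) : ZMod r) +
        2 * (m / orderOf ((Fintype.card F : ℕ) : ZMod r)) ≤
          (2 * d) / orderOf ((Fintype.card F : ℕ) : ZMod r))
    (x : ↥(Matrix.symplecticGroup (Fin d) F))
    (hx : ∃ z : F, ((x ^ r : ↥(Matrix.symplecticGroup (Fin d) F)) :
      Matrix (Fin d ⊕ Fin d) (Fin d ⊕ Fin d) F) =
        z • (1 : Matrix (Fin d ⊕ Fin d) (Fin d ⊕ Fin d) F)) :
    ∃ W : Submodule F (Fin d ⊕ Fin d → F), finrank F W = m ∧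
      (∀ u ∈ W, ∀ v ∈ W, Cfsg.sympForm d F u v = 0) ∧
      W.map (Matrix.toLin' (x : Matrix (Fin d ⊕ Fin d) (Fin d ⊕ Fin d) F)) ≤ W := by
  classical
  obtain ⟨z, hz⟩ := hx
  have hipos : 0 < orderOf ((Fintype.card F : ℕ) : ZMod r) := orderOf_pos_of_ne p r hrp
  have hidvd := ord_dvd_pred (F := F) p r hrp
  obtain ⟨i, hi⟩ : ∃ i, i = orderOf ((Fintype.card F : ℕ) : ZMod r) := ⟨_, rfl⟩
  obtain ⟨y₀, hy₀⟩ : ∃ y₀ : (Fin d ⊕ Fin d → F) →ₗ[F] (Fin d ⊕ Fin d → F),
      y₀ = Matrix.toLin' (x : Matrix (Fin d ⊕ Fin d) (Fin d ⊕ Fin d) F) := ⟨_, rfl⟩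
  rw [← hy₀]
  have hy₀r : y₀ ^ r = z • (1 : (Fin d ⊕ Fin d → F) →ₗ[F] (Fin d ⊕ Fin d → F)) := by
    rw [hy₀, ← Matrix.toLin'_pow, ← SubmonoidClass.coe_pow, hz, map_smul, Matrix.toLin'_one]
    rfl
  have hiso₀ : ∀ u v, stdSymp d F (y₀ u) (y₀ v) = stdSymp d F u v := by
    intro u v
    rw [hy₀]
    exact sympLin_iso' x u v
  have hisoPow : ∀ k : ℕ, ∀ u v, stdSymp d F ((y₀ ^ k) u) ((y₀ ^ k) v) = stdSymp d F u v := by
    intro k
    induction k with
    | zero => intro u v; simp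
    | succ k ih =>
      intro u v
      rw [pow_succ, Module.End.mul_apply, Module.End.mul_apply, ih, hiso₀]
  have hz2 : z * z = 1 := by
    have h1 := hisoPow r (Pi.single (Sum.inl ⟨0, hd⟩) 1) (Pi.single (Sum.inr ⟨0, hd⟩) 1)
    have hval : stdSymp d F (Pi.single (Sum.inl ⟨0, hd⟩) 1) (Pi.single (Sum.inr ⟨0, hd⟩) 1) =
        -1 := by
      rw [stdSymp_apply, sympForm_single_right_inr, Pi.single_eq_same]
    rw [hy₀r] at h1
    simp only [LinearMap.smul_apply, Module.End.one_apply, map_smul, smul_eq_mul, hval] at h1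
    linear_combination (-1 : F) * h1
  have hz0 : z ≠ 0 := by
    rintro rfl
    rw [zero_mul] at hz2
    exact zero_ne_one hz2
  obtain ⟨y, hy⟩ : ∃ y : (Fin d ⊕ Fin d → F) →ₗ[F] (Fin d ⊕ Fin d → F), y = z • y₀ := ⟨_, rfl⟩
  have hyr : y ^ r = 1 := by
    rw [hy, _root_.smul_pow, hy₀r, smul_smul]
    obtain ⟨k, hk⟩ := hr.out.odd_of_ne_two hr2
    have : z ^ r * z = 1 := by
      rw [← pow_succ, hk, show 2 * k + 1 + 1 = 2 * (k + 1) by ring, pow_mul, pow_two, hz2,
        one_pow]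
    rw [this, one_smul]
  have hiso : ∀ u v, stdSymp d F (y u) (y v) = stdSymp d F u v := by
    intro u v
    rw [hy]
    simp only [LinearMap.smul_apply, map_smul, smul_eq_mul, hiso₀]
    linear_combination (stdSymp d F u v) * hz2
  have hmap : ∀ W : Submodule F (Fin d ⊕ Fin d → F), W.map y = W.map y₀ := by
    intro W
    rw [hy]
    exact Submodule.map_smul y₀ W z hz0
  have hinj : Function.Injective y :=
    injective_of_pow_eq_smul y r 1 one_ne_zero (by rw [hyr, one_smul]) hr.out.ne_zero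
  have htop : (⊤ : Submodule F (Fin d ⊕ Fin d → F)).map y = ⊤ := by
    rw [Submodule.map_top]
    exact LinearMap.range_eq_top.mpr (LinearMap.injective_iff_surjective.mp hinj)
  have hnd : NondegOn (stdSymp d F) ⊤ := by
    intro u _ hu
    exact stdSymp_nondeg u fun v => hu v mem_top
  have hfr : finrank F (⊤ : Submodule F (Fin d ⊕ Fin d → F)) = 2 * d := by
    rw [finrank_top, Module.finrank_pi, Fintype.card_sum, Fintype.card_fin, ← two_mul]
  have hr0 : (r : F) ≠ 0 := ne_zero_of_ne' p r hr.out hrp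
  obtain ⟨s, hs⟩ := movPart_profile (B := stdSymp d F) p r hrp stdSymp_alt y hiso hyr ⊤ htop hnd
  obtain ⟨-, -, -, h4, -, -⟩ := movPart_props (B := stdSymp d F) stdSymp_alt y hiso r
    hr.out.ne_zero hr0 hyr ⊤ htop hnd
  rw [hfr] at h4
  rw [← hi] at hs h2 h3 him hipos hidvd
  -- the arithmetic
  have harith : ∃ j w, i * j + w = m ∧
      (j = 0 ∨ thr r i + 2 * i * j < finrank F (movPart (stdSymp d F) y ⊤) + 2 * i) ∧
      2 * w ≤ finrank F ↥((⊤ : Submodule F (Fin d ⊕ Fin d → F)) ⊓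
        Module.End.eigenspace y 1) := by
    by_cases hie : Even i
    · have hc : cOf i = i := by unfold cOf; rw [if_pos hie]
      have ht : thr r i = r - 1 := by unfold thr; rw [if_pos hie]
      rw [hc] at hs h2
      rcases h3 with h3 | h3
      · exact absurd hie (Nat.not_even_iff_odd.mpr h3)
      · obtain ⟨j, w, h5, h6, h7⟩ := suff_arith_even i d m s ((r - 1) / i) r hipos hmd
          (by omega) (Nat.mul_div_cancel' hidvd) him h2 h3
        refine ⟨j, w, h5, ?_, by omega⟩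
        rw [ht, hs]
        exact h6
    · have hc : cOf i = 2 * i := by unfold cOf; rw [if_neg hie]
      have ht : thr r i = 0 := by unfold thr; rw [if_neg hie]
      rw [hc] at hs h2
      obtain ⟨j, w, h5, h6, h7⟩ := suff_arith_odd i d m s hipos hmd (by omega) h2
      refine ⟨j, w, h5, ?_, by omega⟩
      rw [ht, hs]
      exact h6
  obtain ⟨j, w, h5, h6, h7⟩ := harith
  rw [hi] at h6
  obtain ⟨W, hW1, hW2, hW3⟩ := exists_ti_invt (B := stdSymp d F) p r hrp stdSymp_alt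
    stdSymp_nondeg y hiso hyr j w h6 h7
  refine ⟨W, ?_, hW2, ?_⟩
  · rw [hW1, ← hi, h5]
  · rw [← hmap]
    exact hW3

end suff

end Cfsg.Agent.Lib.Helper15.PSpK
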