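import Mathlib
import Cfsg.Agent.Lib.Helper15.PSpK9
import Cfsg.Agent.Lib.Helper15.PSpK5
import Cfsg.Agent.Lib.Helper15.PSpK1

/-!
# Totally isotropic subspaces fixed by elements of odd prime order of `PSp`: necessity and
the criterion
-/

set_option autoImplicit false

namespace Cfsg.Agent.Lib.Helper15.PSpK

open Module Submodule Polynomial Cfsg.Agent.Lib.Helper15 Cfsg.Agent.Lib.Helper15.PSpI
  Cfsg.Agent.Lib.Helper15.PSub Cfsg.Agent.Lib.Helper15.PDec Cfsg.Agent.Lib.Helper15.PSpJ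
  Cfsg.Agent.Lib.Helper6

section arith

theorem uniq_div (i j m' w l : ℕ) (h : i * m' + l = w + i * j) (hw : w < i) (hl : l < i) :
    j = m' := by
  by_contra hne
  rcases Nat.lt_or_gt_of_ne hne with h1 | h1
  · have := Nat.mul_le_mul_left i (Nat.succ_le_of_lt h1)
    rw [Nat.mul_succ] at this
    omega
  · have := Nat.mul_le_mul_left i (Nat.succ_le_of_lt h1)
    rw [Nat.mul_succ] at this
    omega

theorem nec_arith_even (i d m t j₀ : ℕ) (hi : i = j₀ + j₀) (hj : 1 ≤ j₀) (him : i ≤ m)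
    (hmd : m ≤ d) (ht : 1 ≤ t) (hbad : (2 * d) / i < t + 2 * (m / i)) :
    ∃ a₁ u' m₀, 1 ≤ a₁ ∧ u' + 1 ≤ t ∧ (a₁ + u') * (2 * j₀) + 2 * m₀ = 2 * d ∧
      ∀ w j, m = w + 2 * j₀ * j → w ≤ m₀ → 2 * j ≤ a₁ → False := by
  have hi2 : i = 2 * j₀ := by omega
  have hn := Nat.div_add_mod (2 * d) i
  have hk : 2 * d % i < i := Nat.mod_lt _ (by omega)
  have hm := Nat.div_add_mod m i
  have hl : m % i < i := Nat.mod_lt _ (by omega)
  obtain ⟨n', hn'⟩ : ∃ n', n' = 2 * d / i := ⟨_, rfl⟩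
  obtain ⟨k, hk'⟩ : ∃ k, k = 2 * d % i := ⟨_, rfl⟩
  obtain ⟨m', hm'⟩ : ∃ m', m' = m / i := ⟨_, rfl⟩
  obtain ⟨l, hl'⟩ : ∃ l, l = m % i := ⟨_, rfl⟩
  rw [← hn', ← hk'] at hn
  rw [← hk'] at hk
  rw [← hm', ← hl'] at hm
  rw [← hl'] at hl
  rw [← hn', ← hm'] at hbad
  have hn1 : 1 ≤ n' := by
    rw [hn']
    exact Nat.div_pos (by omega) (by omega)
  have hin : i * n' = 2 * (j₀ * n') := by rw [hi2]; ring
  obtain ⟨k₀, hk₀⟩ : ∃ k₀, k = 2 * k₀ := ⟨k / 2, by omega⟩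
  have key : ∀ w j, m = w + 2 * j₀ * j → w < i → j = m' := by
    intro w j h1 h2
    apply uniq_div i j m' w l _ h2 hl
    rw [hm, h1, hi2]
  by_cases hcase : n' ≤ t
  · refine ⟨1, n' - 1, k₀, le_rfl, by omega, ?_, ?_⟩
    · rw [show 1 + (n' - 1) = n' by omega, mul_comm n' (2 * j₀), ← hi2]
      omega
    · intro w j h1 h2 h3
      have hj0 : j = 0 := by omega
      subst hj0
      omega
  · push Not at hcase
    by_cases hpar : Even (n' - t)
    · obtain ⟨e, he⟩ := hpar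
      refine ⟨n' - t + 1, t - 1, k₀, by omega, by omega, ?_, ?_⟩
      · rw [show n' - t + 1 + (t - 1) = n' by omega, mul_comm n' (2 * j₀), ← hi2]
        omega
      · intro w j h1 h2 h3
        have := key w j h1 (by omega)
        subst this
        omega
    · rw [Nat.not_even_iff_odd] at hpar
      obtain ⟨e, he⟩ := hpar
      refine ⟨n' - t, t - 1, k₀ + j₀, by omega, by omega, ?_, ?_⟩
      · obtain ⟨n'', hn''⟩ : ∃ n'', n' = n'' + 1 := ⟨n' - 1, by omega⟩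
        rw [show n' - t + (t - 1) = n'' by omega]
        have : i * n' = n'' * (2 * j₀) + 2 * j₀ := by rw [hn'', hi2]; ring
        omega
      · intro w j h1 h2 h3
        have := key w j h1 (by omega)
        subst this
        omega

theorem nec_arith_le (i d m j₁ : ℕ) (hi : 1 ≤ i) (hj₁ : j₁ < m) (hmd : m ≤ d)
    (h1 : i ∣ 2 * d - 2 * j₁) (h2 : 2 * (m % i) ≤ (2 * d) % cOf i) : i ≤ m := by
  by_contra hlt
  push Not at hlt
  rw [Nat.mod_eq_of_lt hlt] at h2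
  have hcpos : 0 < cOf i := cOf_pos hi
  have hn := Nat.div_add_mod (2 * d) (cOf i)
  have hk : 2 * d % cOf i < cOf i := Nat.mod_lt _ hcpos
  obtain ⟨n', hn'⟩ : ∃ n', n' = 2 * d / cOf i := ⟨_, rfl⟩
  obtain ⟨k, hk'⟩ : ∃ k, k = 2 * d % cOf i := ⟨_, rfl⟩
  rw [← hn', ← hk'] at hn
  rw [← hk'] at hk h2
  have hic : i ∣ cOf i * n' := by
    apply Dvd.dvd.mul_right
    unfold cOf
    split_ifs
    · exact dvd_rfl
    · exact dvd_mul_left i 2
  have h3 : 2 * d - 2 * j₁ = cOf i * n' + (k - 2 * j₁) := by omega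
  rw [h3] at h1
  have h4 : i ∣ k - 2 * j₁ := (Nat.dvd_add_right hic).mp h1
  obtain ⟨e, he⟩ := h4
  have he1 : 1 ≤ e := by
    rcases Nat.eq_zero_or_pos e with h0 | h0
    · rw [h0, mul_zero] at he
      omega
    · exact h0
  have he' := Nat.mul_le_mul_left i he1
  by_cases hie : Even i
  · have hc : cOf i = i := by unfold cOf; rw [if_pos hie]
    rw [hc] at hk
    omega
  · have hc : cOf i = 2 * i := by unfold cOf; rw [if_neg hie]
    rw [hc] at hk hn
    rw [Nat.not_even_iff_odd] at hie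
    obtain ⟨a, ha⟩ := hie
    have he2 : e < 2 := by
      by_contra h5
      push Not at h5
      have := Nat.mul_le_mul_left i h5
      omega
    have he3 : e = 1 := by omega
    rw [he3, mul_one] at he
    have : 2 * i * n' = 2 * (i * n') := by ring
    omega

end arith

section nec

variable {F : Type*} [Field F] [Fintype F]

/-- **Necessity** for odd `r ≠ p`. -/
theorem necessity_ti (p : ℕ) [Fact p.Prime] [CharP F p] (r : ℕ) [hr : Fact r.Prime]
    (hr2 : r ≠ 2) (hrp : r ≠ p) (d m : ℕ) (hd : 1 ≤ d) (hm1 : 1 ≤ m) (hmd : m ≤ d)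
    (hN : ∃ j < m, r ∣ Fintype.card F ^ (2 * d - 2 * j) - 1)
    (hgood : ∀ x : ↥(Matrix.symplecticGroup (Fin d) F),
      (Matrix.toLin' (x : Matrix (Fin d ⊕ Fin d) (Fin d ⊕ Fin d) F)) ^ r = 1 →
      (∀ z : F, (x : Matrix (Fin d ⊕ Fin d) (Fin d ⊕ Fin d) F) ≠
        z • (1 : Matrix (Fin d ⊕ Fin d) (Fin d ⊕ Fin d) F)) →
      ∃ W : Submodule F (Fin d ⊕ Fin d → F), finrank F W = m ∧
        (∀ u ∈ W, ∀ v ∈ W, Cfsg.sympForm d F u v = 0) ∧
        W.map (Matrix.toLin' (x : Matrix (Fin d ⊕ Fin d) (Fin d ⊕ Fin d) F)) ≤ W) :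
    orderOf ((Fintype.card F : ℕ) : ZMod r) ≤ m ∧
    2 * (m % orderOf ((Fintype.card F : ℕ) : ZMod r)) ≤
      (2 * d) % cOf (orderOf ((Fintype.card F : ℕ) : ZMod r)) ∧
    (Odd (orderOf ((Fintype.card F : ℕ) : ZMod r)) ∨
      (r - 1) / orderOf ((Fintype.card F : ℕ) : ZMod r) +
        2 * (m / orderOf ((Fintype.card F : ℕ) : ZMod r)) ≤
          (2 * d) / orderOf ((Fintype.card F : ℕ) : ZMod r)) := by
  classical
  have hipos : 0 < orderOf ((Fintype.card F : ℕ) : ZMod r) := orderOf_pos_of_ne p r hrp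
  have hidvd := ord_dvd_pred (F := F) p r hrp
  have hq1 : 1 ≤ Fintype.card F := Fintype.card_pos
  have hr0 : (r : F) ≠ 0 := ne_zero_of_ne' p r hr.out hrp
  have hr3 : 2 ≤ r := hr.out.two_le
  obtain ⟨j₁, hj₁, hdv⟩ := hN
  have h1 := (orderOf_zmod_dvd_iff (Fintype.card F) r (2 * d - 2 * j₁) hq1).mpr hdv
  have hcn : cOf (orderOf ((Fintype.card F : ℕ) : ZMod r)) ≤ 2 * d := by
    have h2 : orderOf ((Fintype.card F : ℕ) : ZMod r) ∣ 2 * (d - j₁) := by
      rw [show 2 * (d - j₁) = 2 * d - 2 * j₁ by omega]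
      exact h1
    have := cOf_le_of_dvd (show 0 < d - j₁ by omega) h2
    omega
  obtain ⟨i, hi⟩ : ∃ i, i = orderOf ((Fintype.card F : ℕ) : ZMod r) := ⟨_, rfl⟩
  rw [← hi] at hipos hidvd h1 hcn ⊢
  have hcpos : 0 < cOf i := cOf_pos hipos
  have hfrV : finrank F (Fin d ⊕ Fin d → F) = 2 * d := by
    rw [Module.finrank_pi, Fintype.card_sum, Fintype.card_fin, two_mul]
  have hnd : NondegOn (stdSymp d F) ⊤ := by
    intro u _ hu
    exact stdSymp_nondeg u fun v => hu v mem_top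
  -- (N1)
  have hN1 : 2 * (m % i) ≤ (2 * d) % cOf i := by
    obtain ⟨x, hx, hE, hns⟩ := exists_elt (F := F) p r hr2 hrp d (2 * d / cOf i)
      (by rw [hi] at hcn hcpos ⊢; exact Nat.div_pos hcn hcpos)
      (by rw [← hi]; exact Nat.mul_div_le (2 * d) (cOf i))
    rw [← hi] at hE
    have hmodE : 2 * d - cOf i * (2 * d / cOf i) = 2 * d % cOf i := by
      have := Nat.div_add_mod (2 * d) (cOf i)
      omega
    rw [hmodE] at hE
    obtain ⟨W, hWdim, hWti, hWx⟩ := hgood x hx hns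
    obtain ⟨y, hy⟩ : ∃ y : (Fin d ⊕ Fin d → F) →ₗ[F] (Fin d ⊕ Fin d → F),
      y = Matrix.toLin' (x : Matrix (Fin d ⊕ Fin d) (Fin d ⊕ Fin d) F) := ⟨_, rfl⟩
    rw [← hy] at hx hE hWx
    have hiso : ∀ u v, stdSymp d F (y u) (y v) = stdSymp d F u v := by
      intro u v
      rw [hy]
      exact sympLin_iso' x u v
    have hinj : Function.Injective y :=
      injective_of_pow_eq_smul y r 1 one_ne_zero (by rw [hx, one_smul]) hr.out.ne_zero
    have htop : (⊤ : Submodule F (Fin d ⊕ Fin d → F)).map y = ⊤ := by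
      rw [Submodule.map_top]
      exact LinearMap.range_eq_top.mpr (LinearMap.injective_iff_surjective.mp hinj)
    have hWinv : W ∈ Module.End.invtSubmodule y := by
      rw [Module.End.mem_invtSubmodule_iff_map_le]
      exact hWx
    obtain ⟨j, hj⟩ := invt_profile p r hrp y hx W hWinv
    rw [← hi, hWdim] at hj
    have hCn := nondegOn_fixed (B := stdSymp d F) y hiso r hr0 hx ⊤ htop hnd
    have h2 := ti_le_half (B := stdSymp d F) stdSymp_alt _ (W ⊓ Module.End.eigenspace y 1)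
      (inf_le_inf_right _ le_top) hCn
      (fun u hu v hv => hWti u hu.1 v hv.1)
    rw [top_inf_eq, hE] at h2
    have hk : 2 * d % cOf i < cOf i := Nat.mod_lt _ hcpos
    have hc2 : cOf i ≤ 2 * i := by
      unfold cOf
      split_ifs <;> omega
    have h3 : m % i = finrank F ↥(W ⊓ Module.End.eigenspace y 1) := by
      rw [hj, Nat.add_mul_mod_self_right]
      exact Nat.mod_eq_of_lt (by omega)
    rw [h3]
    exact h2
  have hN2 : i ≤ m := nec_arith_le i d m j₁ hipos hj₁ hmd h1 hN1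
  refine ⟨hN2, hN1, ?_⟩
  by_cases hie : Even i
  · right
    by_contra hbad
    push Not at hbad
    obtain ⟨j₀, hj₀⟩ := hie
    have hj1 : 1 ≤ j₀ := by omega
    have hr1 : 0 < r - 1 := by omega
    have hile : i ≤ r - 1 := Nat.le_of_dvd hr1 hidvd
    have ht1 : 1 ≤ (r - 1) / i := Nat.div_pos hile hipos
    obtain ⟨a₁, u', m₀, ha₁, hu', hdim, hfalse⟩ :=
      nec_arith_even i d m ((r - 1) / i) j₀ hj₀ hj1 hN2 hmd ht1 hbad
    have hu : (u' + 1) * (2 * j₀) ≤ r - 1 := by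
      have hi2 : 2 * j₀ = i := by omega
      rw [hi2]
      calc (u' + 1) * i ≤ (r - 1) / i * i := Nat.mul_le_mul_right i hu'
        _ = r - 1 := Nat.div_mul_cancel hidvd
    obtain ⟨x, hx, hns, hprof⟩ := exists_profile_elt (F := F) p r hr2 hrp j₀ hj1
      (by rw [← hi]; exact hj₀) d a₁ u' m₀ ha₁ hu hdim
    obtain ⟨W, hWdim, hWti, hWx⟩ := hgood x hx hns
    obtain ⟨w, j, h5, h6, h7⟩ := hprof W hWti hWx
    rw [hWdim] at h5
    exact hfalse w j h5 h6 h7
  · left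
    exact Nat.not_even_iff_odd.mp hie

/-- the criterion for odd `r ≠ p` -/
theorem odd_criterion (p : ℕ) [Fact p.Prime] [CharP F p] (r : ℕ) [hr : Fact r.Prime]
    (hr2 : r ≠ 2) (hrp : r ≠ p) (d m : ℕ) (hd : 1 ≤ d) (hm1 : 1 ≤ m) (hmd : m ≤ d)
    (hN : ∃ j < m, r ∣ Fintype.card F ^ (2 * d - 2 * j) - 1) :
    (∀ x : ↥(Matrix.symplecticGroup (Fin d) F),
      (∃ z : F, ((x ^ r : ↥(Matrix.symplecticGroup (Fin d) F)) :
        Matrix (Fin d ⊕ Fin d) (Fin d ⊕ Fin d) F) =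
          z • (1 : Matrix (Fin d ⊕ Fin d) (Fin d ⊕ Fin d) F)) →
      (∀ z : F, (x : Matrix (Fin d ⊕ Fin d) (Fin d ⊕ Fin d) F) ≠
        z • (1 : Matrix (Fin d ⊕ Fin d) (Fin d ⊕ Fin d) F)) →
      ∃ W : Submodule F (Fin d ⊕ Fin d → F), finrank F W = m ∧
        (∀ u ∈ W, ∀ v ∈ W, Cfsg.sympForm d F u v = 0) ∧
        W.map (Matrix.toLin' (x : Matrix (Fin d ⊕ Fin d) (Fin d ⊕ Fin d) F)) ≤ W) ↔
    (orderOf ((Fintype.card F : ℕ) : ZMod r) ≤ m ∧
    2 * (m % orderOf ((Fintype.card F : ℕ) : ZMod r)) ≤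
      (2 * d) % cOf (orderOf ((Fintype.card F : ℕ) : ZMod r)) ∧
    (Odd (orderOf ((Fintype.card F : ℕ) : ZMod r)) ∨
      (r - 1) / orderOf ((Fintype.card F : ℕ) : ZMod r) +
        2 * (m / orderOf ((Fintype.card F : ℕ) : ZMod r)) ≤
          (2 * d) / orderOf ((Fintype.card F : ℕ) : ZMod r))) := by
  constructor
  · intro hgood
    apply necessity_ti p r hr2 hrp d m hd hm1 hmd hN
    intro x hx hns
    apply hgood x ⟨1, ?_⟩ hns
    rw [SubmonoidClass.coe_pow, one_smul]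
    apply Matrix.toLin'.injective
    rw [Matrix.toLin'_pow, hx, Matrix.toLin'_one]
    rfl
  · rintro ⟨h1, h2, h3⟩ x hx -
    exact sufficiency_ti p r hr2 hrp d m hd hmd h1 h2 h3 x hx

end nec

end Cfsg.Agent.Lib.Helper15.PSpK
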