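import Mathlib
import Cfsg.Agent.Lib.Helper15.PSpI4

/-!
# Invariant nondegenerate subspaces of prescribed even dimension for elements with scalar square
-/

set_option autoImplicit false

namespace Cfsg.Agent.Lib.Helper15.PSpL

open Module Submodule Cfsg.Agent.Lib.Helper15 Cfsg.Agent.Lib.Helper15.PSpI

section sq

variable {F V : Type*} [Field F] [AddCommGroup V] [Module F V] [FiniteDimensional F V]
variable {B : V →ₗ[F] V →ₗ[F] F}

/-- in characteristic different from two there is always an invariant nondegenerate plane -/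
theorem exists_invt_plane (h2 : (2 : F) ≠ 0) (halt : ∀ x, B x x = 0) (x : V →ₗ[F] V) (z : F)
    (hz : z ≠ 0) (hx2 : ∀ v, x (x v) = z • v) (hiso : ∀ u v, B (x u) (x v) = B u v)
    (V' : Submodule F V) (hV'x : V'.map x = V') (hV'n : NondegOn B V') (hV'0 : V' ≠ ⊥) :
    ∃ P : Submodule F V, P ≤ V' ∧ finrank F P = 2 ∧ NondegOn B P ∧ P.map x = P := by
  have hxV' : ∀ v ∈ V', x v ∈ V' := fun v hv => by rw [← hV'x]; exact ⟨v, hv, rfl⟩
  by_cases hA : ∃ v ∈ V', B v (x v) ≠ 0
  · obtain ⟨v, hv, hvx⟩ := hA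
    obtain ⟨h1, h2'⟩ := plane_props halt v (x v) hvx
    refine ⟨span F {v, x v}, span_pair_le hv (hxV' v hv), h1, h2', ?_⟩
    apply map_eq_of_le x z hz hx2
    rw [Submodule.map_span_le]
    intro p hp
    rcases hp with rfl | rfl
    · exact subset_span (by simp)
    · rw [hx2]
      exact Submodule.smul_mem _ _ (subset_span (by simp))
  · push Not at hA
    -- polarisation
    have hpol : ∀ u ∈ V', ∀ w ∈ V', B u (x w) = - B w (x u) := by
      intro u hu w hw
      have h := hA (u + w) (V'.add_mem hu hw)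
      rw [map_add, map_add, LinearMap.add_apply, map_add, map_add, hA u hu, hA w hw, zero_add,
        add_zero] at h
      exact eq_neg_of_add_eq_zero_left h
    have hz1 : z = 1 := by
      by_contra hne
      obtain ⟨u, hu, hu0⟩ := (Submodule.ne_bot_iff V').mp hV'0
      apply hu0
      apply hV'n u hu
      intro w hw
      rw [← hV'x] at hw
      obtain ⟨w', hw', rfl⟩ := hw
      have h1 := hpol u hu w' hw'
      have h3 : B w' (x u) = z * B (x w') u := by
        rw [← hiso w' (x u), hx2, map_smul, smul_eq_mul]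
      rw [h3, alt_swap B halt (x w') u] at h1
      have h4 : (1 - z) * B u (x w') = 0 := by linear_combination h1
      rcases mul_eq_zero.mp h4 with h5 | h5
      · exact absurd (by linear_combination -h5 : z = 1) hne
      · exact h5
    subst hz1
    have hx2' : ∀ v, x (x v) = v := fun v => by rw [hx2, one_smul]
    obtain ⟨u, hu, hu0⟩ := (Submodule.ne_bot_iff V').mp hV'0
    -- an eigenvector
    obtain ⟨e, ε, he, he0, hε, hxe⟩ : ∃ e ε, e ∈ V' ∧ e ≠ 0 ∧ ε * ε = (1 : F) ∧ x e = ε • e := by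
      by_cases hp : u + x u = 0
      · refine ⟨u, -1, hu, hu0, by ring, ?_⟩
        rw [neg_smul, one_smul]
        exact (eq_neg_of_add_eq_zero_right hp)
      · refine ⟨u + x u, 1, V'.add_mem hu (hxV' u hu), hp, by ring, ?_⟩
        rw [map_add, hx2', one_smul, add_comm]
    obtain ⟨w, hw, hew⟩ : ∃ w ∈ V', B e w ≠ 0 := by
      by_contra h
      push Not at h
      exact he0 (hV'n e he h)
    have hw' : w + ε • x w ∈ V' := V'.add_mem hw (V'.smul_mem _ (hxV' w hw))
    have hxw' : x (w + ε • x w) = ε • (w + ε • x w) := by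
      rw [map_add, map_smul, hx2', smul_add, smul_smul, hε, one_smul, add_comm]
    have hB : B e (w + ε • x w) ≠ 0 := by
      have h1 : B e (x w) = ε * B e w := by
        rw [← hiso e (x w), hx2', hxe, map_smul, LinearMap.smul_apply, smul_eq_mul]
      rw [map_add, map_smul, h1, smul_eq_mul, ← mul_assoc, hε, one_mul]
      intro h
      have h3 : (2 : F) * B e w = 0 := by linear_combination h
      rcases mul_eq_zero.mp h3 with h4 | h4
      · exact h2 h4
      · exact hew h4
    obtain ⟨h1, h2'⟩ := plane_props halt e (w + ε • x w) hB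
    refine ⟨span F {e, w + ε • x w}, span_pair_le he hw', h1, h2', ?_⟩
    apply map_eq_of_le x 1 one_ne_zero hx2
    rw [Submodule.map_span_le]
    intro p hp
    rcases hp with rfl | rfl
    · rw [hxe]
      exact Submodule.smul_mem _ _ (subset_span (by simp))
    · rw [hxw']
      exact Submodule.smul_mem _ _ (subset_span (by simp))

/-- in characteristic different from two: invariant nondegenerate subspaces of every even
dimension -/
theorem exists_invt_even (h2 : (2 : F) ≠ 0) (halt : ∀ x, B x x = 0) (x : V →ₗ[F] V) (z : F)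
    (hz : z ≠ 0) (hx2 : ∀ v, x (x v) = z • v) (hiso : ∀ u v, B (x u) (x v) = B u v) :
    ∀ (s : ℕ) (V' : Submodule F V), V'.map x = V' → NondegOn B V' → 2 * s ≤ finrank F V' →
      ∃ W : Submodule F V, W ≤ V' ∧ finrank F W = 2 * s ∧ NondegOn B W ∧ W.map x = W := by
  intro s
  induction s with
  | zero =>
    intro V' _ _ _
    refine ⟨⊥, bot_le, by simp, ?_, by simp⟩
    intro u hu _
    exact (mem_bot F).mp hu
  | succ s ih =>
    intro V' hV'x hV'n hfr
    have hV'0 : V' ≠ ⊥ := by
      rintro rfl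
      rw [finrank_bot] at hfr
      omega
    obtain ⟨P, hPV', hP2, hPn, hPx⟩ := exists_invt_plane h2 halt x z hz hx2 hiso V' hV'x hV'n hV'0
    have hT := map_perpIn x z hz hx2 hiso hV'x hPx
    have hTn := nondegOn_perpIn halt hPV' hPn hV'n
    have hTf := finrank_perpIn halt hPV' hPn (V' := V')
    obtain ⟨W, hWT, hWf, hWn, hWx⟩ := ih (perpIn B V' P) hT hTn (by omega)
    have ho : Orth B P W := (orth_perpIn V' P).mono le_rfl hWT
    refine ⟨P ⊔ W, sup_le hPV' (hWT.trans (perpIn_le V' P)), ?_, nondegOn_sup halt ho hPn hWn, ?_⟩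
    · rw [finrank_sup_of_orth halt ho hPn, hP2, hWf]
      ring
    · rw [Submodule.map_sup, hPx, hWx]

/-- a four-dimensional invariant nondegenerate subspace (any characteristic) -/
theorem exists_invt_four (halt : ∀ x, B x x = 0) (x : V →ₗ[F] V) (z : F)
    (hz : z ≠ 0) (hx2 : ∀ v, x (x v) = z • v) (hiso : ∀ u v, B (x u) (x v) = B u v)
    (V' : Submodule F V) (hV'x : V'.map x = V') (hV'n : NondegOn B V') (hfr : 4 ≤ finrank F V') :
    ∃ Q : Submodule F V, Q ≤ V' ∧ finrank F Q = 4 ∧ NondegOn B Q ∧ Q.map x = Q := by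
  have hinj := injective_of_sq x z hz hx2
  have key : ∀ (T : Submodule F V) (P : Submodule F V), P ≤ T → finrank F P = 2 → NondegOn B P →
      Orth B P (P.map x) → T.map x = T →
      ∃ Q : Submodule F V, Q ≤ T ∧ finrank F Q = 4 ∧ NondegOn B Q ∧ Q.map x = Q := by
    intro T P hPT hP2 hPn hPo hTx
    have hxP : P.map x ≤ T := by
      rw [← hTx]
      exact Submodule.map_mono hPT
    have hxPn : NondegOn B (P.map x) := nondegOn_map x hiso hPn
    refine ⟨P ⊔ P.map x, sup_le hPT hxP, ?_, nondegOn_sup halt hPo hPn hxPn, ?_⟩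
    · rw [finrank_sup_of_orth halt hPo hPn, hP2,
        ← (Submodule.equivMapOfInjective x hinj P).finrank_eq, hP2]
    · rw [Submodule.map_sup, map_map_eq x z hz hx2, sup_comm]
  have hV'0 : V' ≠ ⊥ := by
    rintro rfl
    rw [finrank_bot] at hfr
    omega
  obtain ⟨P, hPV', hP2, hPn, hPx⟩ := exists_block halt x z hz hx2 hiso V' hV'x hV'n hV'0
  rcases hPx with hPx | hPx
  · have hT := map_perpIn x z hz hx2 hiso hV'x hPx
    have hTn := nondegOn_perpIn halt hPV' hPn hV'n
    have hTf := finrank_perpIn halt hPV' hPn (V' := V')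
    have hT0 : perpIn B V' P ≠ ⊥ := by
      intro h
      rw [h, finrank_bot] at hTf
      omega
    obtain ⟨P', hP'T, hP'2, hP'n, hP'x⟩ :=
      exists_block halt x z hz hx2 hiso (perpIn B V' P) hT hTn hT0
    rcases hP'x with hP'x | hP'x
    · have ho : Orth B P P' := (orth_perpIn V' P).mono le_rfl hP'T
      refine ⟨P ⊔ P', sup_le hPV' (hP'T.trans (perpIn_le V' P)), ?_,
        nondegOn_sup halt ho hPn hP'n, ?_⟩
      · rw [finrank_sup_of_orth halt ho hPn, hP2, hP'2]
      · rw [Submodule.map_sup, hPx, hP'x]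
    · obtain ⟨Q, hQ1, hQ2, hQ3, hQ4⟩ := key (perpIn B V' P) P' hP'T hP'2 hP'n hP'x hT
      exact ⟨Q, hQ1.trans (perpIn_le V' P), hQ2, hQ3, hQ4⟩
  · exact key V' P hPV' hP2 hPn hPx hV'x

/-- invariant nondegenerate subspaces of every dimension divisible by four -/
theorem exists_invt_four_mul (halt : ∀ x, B x x = 0) (x : V →ₗ[F] V) (z : F)
    (hz : z ≠ 0) (hx2 : ∀ v, x (x v) = z • v) (hiso : ∀ u v, B (x u) (x v) = B u v) :
    ∀ (s : ℕ) (V' : Submodule F V), V'.map x = V' → NondegOn B V' → 4 * s ≤ finrank F V' →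
      ∃ W : Submodule F V, W ≤ V' ∧ finrank F W = 4 * s ∧ NondegOn B W ∧ W.map x = W := by
  intro s
  induction s with
  | zero =>
    intro V' _ _ _
    refine ⟨⊥, bot_le, by simp, ?_, by simp⟩
    intro u hu _
    exact (mem_bot F).mp hu
  | succ s ih =>
    intro V' hV'x hV'n hfr
    obtain ⟨P, hPV', hP2, hPn, hPx⟩ :=
      exists_invt_four halt x z hz hx2 hiso V' hV'x hV'n (by omega)
    have hT := map_perpIn x z hz hx2 hiso hV'x hPx
    have hTn := nondegOn_perpIn halt hPV' hPn hV'n
    have hTf := finrank_perpIn halt hPV' hPn (V' := V')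
    obtain ⟨W, hWT, hWf, hWn, hWx⟩ := ih (perpIn B V' P) hT hTn (by omega)
    have ho : Orth B P W := (orth_perpIn V' P).mono le_rfl hWT
    refine ⟨P ⊔ W, sup_le hPV' (hWT.trans (perpIn_le V' P)), ?_, nondegOn_sup halt ho hPn hWn, ?_⟩
    · rw [finrank_sup_of_orth halt ho hPn, hP2, hWf]
      ring
    · rw [Submodule.map_sup, hPx, hWx]

/-- an invariant nondegenerate plane when half the dimension is odd -/
theorem exists_invt_plane_of_odd (halt : ∀ x, B x x = 0) (x : V →ₗ[F] V) (z : F)
    (hz : z ≠ 0) (hx2 : ∀ v, x (x v) = z • v) (hiso : ∀ u v, B (x u) (x v) = B u v) :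
    ∀ (n : ℕ) (V' : Submodule F V), V'.map x = V' → NondegOn B V' → finrank F V' = n →
      n % 4 = 2 →
      ∃ P : Submodule F V, P ≤ V' ∧ finrank F P = 2 ∧ NondegOn B P ∧ P.map x = P := by
  intro n
  induction n using Nat.strong_induction_on with
  | _ n ih =>
    intro V' hV'x hV'n hfr hn4
    have hinj := injective_of_sq x z hz hx2
    have hV'0 : V' ≠ ⊥ := by
      rintro rfl
      rw [finrank_bot] at hfr
      omega
    obtain ⟨P, hPV', hP2, hPn, hPx⟩ := exists_block halt x z hz hx2 hiso V' hV'x hV'n hV'0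
    rcases hPx with hPx | hPx
    · exact ⟨P, hPV', hP2, hPn, hPx⟩
    · have hxP : P.map x ≤ V' := by
        rw [← hV'x]
        exact Submodule.map_mono hPV'
      have hxPn : NondegOn B (P.map x) := nondegOn_map x hiso hPn
      have hS : (P ⊔ P.map x).map x = P ⊔ P.map x := by
        rw [Submodule.map_sup, map_map_eq x z hz hx2, sup_comm]
      have hSV' : P ⊔ P.map x ≤ V' := sup_le hPV' hxP
      have hSn : NondegOn B (P ⊔ P.map x) := nondegOn_sup halt hPx hPn hxPn
      have hSf : finrank F ↥(P ⊔ P.map x) = 4 := by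
        rw [finrank_sup_of_orth halt hPx hPn, hP2,
          ← (Submodule.equivMapOfInjective x hinj P).finrank_eq, hP2]
      have hT := map_perpIn x z hz hx2 hiso hV'x hS
      have hTn := nondegOn_perpIn halt hSV' hSn hV'n
      have hTf := finrank_perpIn halt hSV' hSn (V' := V')
      obtain ⟨P', hP'1, hP'2, hP'3, hP'4⟩ :=
        ih (finrank F (perpIn B V' (P ⊔ P.map x))) (by omega) _ hT hTn rfl (by omega)
      exact ⟨P', hP'1.trans (perpIn_le V' _), hP'2, hP'3, hP'4⟩

/-- char-free: dimension `2s` with `s` even, or `s` odd and half the dimension of `V'` odd -/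
theorem exists_invt_of_parity (halt : ∀ x, B x x = 0) (x : V →ₗ[F] V) (z : F)
    (hz : z ≠ 0) (hx2 : ∀ v, x (x v) = z • v) (hiso : ∀ u v, B (x u) (x v) = B u v)
    (V' : Submodule F V) (hV'x : V'.map x = V') (hV'n : NondegOn B V') (m : ℕ)
    (hm : m ≤ finrank F V') (hme : Even m)
    (hpar : m % 4 = 0 ∨ finrank F V' % 4 = 2) :
    ∃ W : Submodule F V, W ≤ V' ∧ finrank F W = m ∧ NondegOn B W ∧ W.map x = W := by
  by_cases hm4 : m % 4 = 0
  · obtain ⟨W, h1, h2, h3, h4⟩ :=
      exists_invt_four_mul halt x z hz hx2 hiso (m / 4) V' hV'x hV'n (by omega)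
    exact ⟨W, h1, by rw [h2]; omega, h3, h4⟩
  · have hV4 : finrank F V' % 4 = 2 := by
      rcases hpar with h | h
      · exact absurd h hm4
      · exact h
    obtain ⟨m', rfl⟩ := hme
    have hm2 : (m' + m') % 4 = 2 := by omega
    obtain ⟨P, hPV', hP2, hPn, hPx⟩ :=
      exists_invt_plane_of_odd halt x z hz hx2 hiso _ V' hV'x hV'n rfl hV4
    have hT := map_perpIn x z hz hx2 hiso hV'x hPx
    have hTn := nondegOn_perpIn halt hPV' hPn hV'n
    have hTf := finrank_perpIn halt hPV' hPn (V' := V')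
    obtain ⟨W, hWT, hWf, hWn, hWx⟩ :=
      exists_invt_four_mul halt x z hz hx2 hiso ((m' + m' - 2) / 4) (perpIn B V' P) hT hTn
        (by omega)
    have ho : Orth B P W := (orth_perpIn V' P).mono le_rfl hWT
    refine ⟨P ⊔ W, sup_le hPV' (hWT.trans (perpIn_le V' P)), ?_, nondegOn_sup halt ho hPn hWn, ?_⟩
    · rw [finrank_sup_of_orth halt ho hPn, hP2, hWf]
      omega
    · rw [Submodule.map_sup, hPx, hWx]

end sq

end Cfsg.Agent.Lib.Helper15.PSpL
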