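import Mathlib
import Cfsg.Agent.Lib.Helper15.PSpL1
import Cfsg.Agent.Lib.Helper15.PSpJ7

/-!
# Involutions (modulo scalars) of the symplectic group and nondegenerate subspaces
-/

set_option autoImplicit false

namespace Cfsg.Agent.Lib.Helper15.PSpL

open Module Submodule Cfsg.Agent.Lib.Helper15 Cfsg.Agent.Lib.Helper15.PSpI
  Cfsg.Agent.Lib.Helper15.PSpJ Cfsg.Agent.Lib.Helper6

section basic

variable {F : Type*} [Field F]

theorem nondegOn_iff {d : ℕ} (W : Submodule F (Fin d ⊕ Fin d → F)) :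
    (∀ u ∈ W, u ≠ 0 → ∃ v ∈ W, Cfsg.sympForm d F u v ≠ 0) ↔ NondegOn (stdSymp d F) W := by
  constructor
  · intro h u hu hu0
    by_contra hne
    obtain ⟨v, hv, hv0⟩ := h u hu hne
    exact hv0 (hu0 v hv)
  · intro h u hu hne
    by_contra hcon
    push Not at hcon
    exact hne (h u hu hcon)

theorem finrank_std (d : ℕ) : finrank F (Fin d ⊕ Fin d → F) = 2 * d := by
  rw [Module.finrank_pi, Fintype.card_sum, Fintype.card_fin, two_mul]

theorem nondegOn_top (d : ℕ) : NondegOn (stdSymp d F) ⊤ := by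
  intro u _ hu
  exact stdSymp_nondeg u fun v => hu v mem_top

/-- sufficiency for elements with scalar square -/
theorem sq_suff (d m : ℕ) (hme : Even m) (hmd : m ≤ 2 * d)
    (hpar : (2 : F) ≠ 0 ∨ m % 4 = 0 ∨ (2 * d) % 4 = 2)
    (x : ↥(Matrix.symplecticGroup (Fin d) F))
    (hx : ∃ z : F, ((x ^ 2 : ↥(Matrix.symplecticGroup (Fin d) F)) :
        Matrix (Fin d ⊕ Fin d) (Fin d ⊕ Fin d) F) =
          z • (1 : Matrix (Fin d ⊕ Fin d) (Fin d ⊕ Fin d) F)) :
    ∃ W : Submodule F (Fin d ⊕ Fin d → F), Module.finrank F ↥W = m ∧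
      (∀ u ∈ W, u ≠ 0 → ∃ v ∈ W, Cfsg.sympForm d F u v ≠ 0) ∧
      W.map (Matrix.toLin' (x : Matrix (Fin d ⊕ Fin d) (Fin d ⊕ Fin d) F)) ≤ W := by
  obtain ⟨z, hz⟩ := hx
  obtain ⟨y, hy⟩ : ∃ y : (Fin d ⊕ Fin d → F) →ₗ[F] (Fin d ⊕ Fin d → F),
      y = Matrix.toLin' (x : Matrix (Fin d ⊕ Fin d) (Fin d ⊕ Fin d) F) := ⟨_, rfl⟩
  rw [← hy]
  have hx2 : ∀ v, y (y v) = z • v := by
    intro v
    rw [hy, Matrix.toLin'_apply, Matrix.toLin'_apply, Matrix.mulVec_mulVec, ← pow_two,
      ← SubmonoidClass.coe_pow, hz, Matrix.smul_mulVec, Matrix.one_mulVec]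
  have hiso : ∀ u v, stdSymp d F (y u) (y v) = stdSymp d F u v := by
    intro u v
    rw [hy]
    exact sympLin_iso' x u v
  rcases Nat.eq_zero_or_pos m with hm0 | hmpos
  · refine ⟨⊥, by rw [finrank_bot, hm0], ?_, by simp⟩
    intro u hu hu0
    exact absurd ((mem_bot F).mp hu) hu0
  have hd : 1 ≤ d := by omega
  have hz0 : z ≠ 0 := by
    rintro rfl
    have h1 := hx2 (Pi.single (Sum.inl ⟨0, hd⟩) 1)
    rw [zero_smul] at h1
    have h2 := hiso (y (Pi.single (Sum.inl ⟨0, hd⟩) 1)) (y (Pi.single (Sum.inr ⟨0, hd⟩) 1))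
    rw [h1, map_zero, LinearMap.zero_apply, hiso, stdSymp_apply, sympForm_single_right_inr,
      Pi.single_eq_same] at h2
    exact one_ne_zero (neg_eq_zero.mp h2.symm)
  have htop : (⊤ : Submodule F (Fin d ⊕ Fin d → F)).map y = ⊤ := by
    rw [Submodule.map_top]
    exact LinearMap.range_eq_top.mpr
      (LinearMap.injective_iff_surjective.mp (injective_of_sq y z hz0 hx2))
  have hfr : finrank F (⊤ : Submodule F (Fin d ⊕ Fin d → F)) = 2 * d := by
    rw [finrank_top, finrank_std]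
  rcases hpar with h2 | hpar
  · obtain ⟨m', rfl⟩ := hme
    obtain ⟨W, -, hW2, hW3, hW4⟩ := exists_invt_even h2 stdSymp_alt y z hz0 hx2 hiso m' ⊤ htop
      (nondegOn_top d) (by rw [hfr]; omega)
    exact ⟨W, by rw [hW2]; ring, (nondegOn_iff W).mpr hW3, le_of_eq hW4⟩
  · obtain ⟨W, -, hW2, hW3, hW4⟩ := exists_invt_of_parity stdSymp_alt y z hz0 hx2 hiso ⊤ htop
      (nondegOn_top d) m (by rw [hfr]; exact hmd) hme (by rw [hfr]; exact hpar)
    exact ⟨W, hW2, (nondegOn_iff W).mpr hW3, le_of_eq hW4⟩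

end basic

section derangement

variable {F : Type*} [Field F]

/-- the fixed-point-free involution `2k ↔ 2k+1` of `Fin d` for even `d` -/
def swapFun (d : ℕ) (hd : d % 2 = 0) (i : Fin d) : Fin d :=
  ⟨if i.val % 2 = 0 then i.val + 1 else i.val - 1, by
    have := i.2
    split_ifs <;> omega⟩

theorem swapFun_swapFun (d : ℕ) (hd : d % 2 = 0) (i : Fin d) :
    swapFun d hd (swapFun d hd i) = i := by
  apply Fin.ext
  unfold swapFun
  have := i.2
  simp only
  split_ifs <;> omega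

theorem swapFun_ne (d : ℕ) (hd : d % 2 = 0) (i : Fin d) : swapFun d hd i ≠ i := by
  intro h
  have := congrArg Fin.val h
  unfold swapFun at this
  simp only at this
  split_ifs at this <;> omega

/-- the linear map `(a, b) ↦ (a + b ∘ σ, b)` -/
def shearMap (d : ℕ) (hd : d % 2 = 0) : (Fin d ⊕ Fin d → F) →ₗ[F] (Fin d ⊕ Fin d → F) where
  toFun v := Sum.elim (fun i => v (Sum.inl i) + v (Sum.inr (swapFun d hd i))) (fun i => v (Sum.inr i))
  map_add' u v := by
    funext c
    rcases c with i | i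
    · simp only [Sum.elim_inl, Pi.add_apply]; ring
    · simp only [Sum.elim_inr, Pi.add_apply]
  map_smul' a v := by
    funext c
    rcases c with i | i
    · simp only [Sum.elim_inl, Pi.smul_apply, smul_eq_mul, RingHom.id_apply]; ring
    · simp only [Sum.elim_inr, Pi.smul_apply, smul_eq_mul, RingHom.id_apply]

theorem shearMap_inl (d : ℕ) (hd : d % 2 = 0) (v : Fin d ⊕ Fin d → F) (i : Fin d) :
    shearMap d hd v (Sum.inl i) = v (Sum.inl i) + v (Sum.inr (swapFun d hd i)) := rfl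

theorem shearMap_inr (d : ℕ) (hd : d % 2 = 0) (v : Fin d ⊕ Fin d → F) (i : Fin d) :
    shearMap d hd v (Sum.inr i) = v (Sum.inr i) := rfl

theorem sum_swap (d : ℕ) (hd : d % 2 = 0) (f : Fin d → F) :
    ∑ i, f (swapFun d hd i) = ∑ i, f i := by
  let e : Equiv.Perm (Fin d) := ⟨swapFun d hd, swapFun d hd, swapFun_swapFun d hd,
    swapFun_swapFun d hd⟩
  exact Equiv.sum_comp e f

theorem shearMap_iso (d : ℕ) (hd : d % 2 = 0) (u v : Fin d ⊕ Fin d → F) :
    Cfsg.sympForm d F (shearMap d hd u) (shearMap d hd v) = Cfsg.sympForm d F u v := by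
  rw [sympForm_eq_sum, sympForm_eq_sum]
  simp only [shearMap_inl, shearMap_inr]
  have h1 := sum_swap d hd (fun i => u (Sum.inr i) * v (Sum.inr (swapFun d hd i)))
  simp only [swapFun_swapFun] at h1
  have h2 : ∀ i : Fin d, u (Sum.inr i) * (v (Sum.inl i) + v (Sum.inr (swapFun d hd i))) -
      (u (Sum.inl i) + u (Sum.inr (swapFun d hd i))) * v (Sum.inr i) =
      (u (Sum.inr i) * v (Sum.inl i) - u (Sum.inl i) * v (Sum.inr i)) +
      (u (Sum.inr i) * v (Sum.inr (swapFun d hd i)) -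
        u (Sum.inr (swapFun d hd i)) * v (Sum.inr i)) := fun i => by ring
  rw [Finset.sum_congr rfl (fun i _ => h2 i), Finset.sum_add_distrib,
    Finset.sum_sub_distrib (f := fun i => u (Sum.inr i) * v (Sum.inr (swapFun d hd i))), h1,
    sub_self, add_zero]

theorem shearMap_sq [CharP F 2] (d : ℕ) (hd : d % 2 = 0) (v : Fin d ⊕ Fin d → F) :
    shearMap d hd (shearMap d hd v) = v := by
  funext c
  rcases c with i | i
  · rw [shearMap_inl, shearMap_inl, shearMap_inr, add_assoc, CharTwo.add_self_eq_zero, add_zero]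
  · rfl

theorem shearMap_atype [CharP F 2] (d : ℕ) (hd : d % 2 = 0) (v : Fin d ⊕ Fin d → F) :
    Cfsg.sympForm d F v (shearMap d hd v) = 0 := by
  rw [sympForm_eq_sum]
  simp only [shearMap_inl, shearMap_inr]
  have h2 : ∀ i : Fin d, v (Sum.inr i) * (v (Sum.inl i) + v (Sum.inr (swapFun d hd i))) -
      v (Sum.inl i) * v (Sum.inr i) = v (Sum.inr i) * v (Sum.inr (swapFun d hd i)) :=
    fun i => by ring
  rw [Finset.sum_congr rfl (fun i _ => h2 i)]
  apply Finset.sum_involution (fun i _ => swapFun d hd i)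
  · intro i _
    rw [swapFun_swapFun, mul_comm (v (Sum.inr (swapFun d hd i)))]
    exact CharTwo.add_self_eq_zero _
  · intro i _ _
    exact swapFun_ne d hd i
  · intro i _
    exact Finset.mem_univ _
  · intro i _
    exact swapFun_swapFun d hd i

theorem shearMap_fixed (d : ℕ) (hd : d % 2 = 0) (v : Fin d ⊕ Fin d → F)
    (h : shearMap d hd v = v) (i : Fin d) : v (Sum.inr i) = 0 := by
  have h1 := congrFun h (Sum.inl (swapFun d hd i))
  rw [shearMap_inl, swapFun_swapFun] at h1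
  exact left_eq_add.mp h1.symm

/-- the derangement in characteristic two -/
theorem exists_derangement [CharP F 2] (d m : ℕ) (hd1 : 1 ≤ d) (hd : d % 2 = 0) (hm : m % 4 = 2) :
    ∃ x : ↥(Matrix.symplecticGroup (Fin d) F),
      ((x ^ 2 : ↥(Matrix.symplecticGroup (Fin d) F)) :
        Matrix (Fin d ⊕ Fin d) (Fin d ⊕ Fin d) F) =
          (1 : F) • (1 : Matrix (Fin d ⊕ Fin d) (Fin d ⊕ Fin d) F) ∧
      (∀ z : F, (x : Matrix (Fin d ⊕ Fin d) (Fin d ⊕ Fin d) F) ≠
        z • (1 : Matrix (Fin d ⊕ Fin d) (Fin d ⊕ Fin d) F)) ∧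
      ¬ ∃ W : Submodule F (Fin d ⊕ Fin d → F), Module.finrank F ↥W = m ∧
        (∀ u ∈ W, u ≠ 0 → ∃ v ∈ W, Cfsg.sympForm d F u v ≠ 0) ∧
        W.map (Matrix.toLin' (x : Matrix (Fin d ⊕ Fin d) (Fin d ⊕ Fin d) F)) ≤ W := by
  classical
  obtain ⟨L, hL⟩ : ∃ L : (Fin d ⊕ Fin d → F) →ₗ[F] (Fin d ⊕ Fin d → F), L = shearMap d hd :=
    ⟨_, rfl⟩
  have hmem : LinearMap.toMatrix' L ∈ Matrix.symplecticGroup (Fin d) F := by
    rw [mem_symplecticGroup_iff_preserves]
    intro u v
    rw [← Matrix.toLin'_apply, ← Matrix.toLin'_apply, Matrix.toLin'_toMatrix', hL]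
    exact shearMap_iso d hd u v
  have hsq : ∀ v, L (L v) = (1 : F) • v := by
    intro v
    rw [hL, shearMap_sq, one_smul]
  have hiso : ∀ u v, stdSymp d F (L u) (L v) = stdSymp d F u v := by
    intro u v
    rw [hL]
    exact shearMap_iso d hd u v
  refine ⟨⟨LinearMap.toMatrix' L, hmem⟩, ?_, ?_, ?_⟩
  · rw [SubmonoidClass.coe_pow, one_smul]
    show (LinearMap.toMatrix' L) ^ 2 = 1
    apply Matrix.toLin'.injective
    rw [Matrix.toLin'_pow, Matrix.toLin'_toMatrix', Matrix.toLin'_one]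
    apply LinearMap.ext
    intro v
    rw [pow_two, Module.End.mul_apply, hsq, one_smul]
    rfl
  · intro z hz
    have hz' : LinearMap.toMatrix' L = z • 1 := hz
    have h1 : L = z • LinearMap.id := by
      apply LinearMap.toMatrix'.injective
      rw [hz', map_smul, LinearMap.toMatrix'_id]
    have h2 := congrFun (LinearMap.congr_fun h1 (Pi.single (Sum.inr ⟨0, hd1⟩) 1))
      (Sum.inl (swapFun d hd ⟨0, hd1⟩))
    rw [hL, shearMap_inl, swapFun_swapFun] at h2
    simp at h2
  · rintro ⟨W, hWf, hWn, hWx⟩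
    have hWx0 : W.map (Matrix.toLin' (LinearMap.toMatrix' L)) ≤ W := hWx
    rw [Matrix.toLin'_toMatrix'] at hWx0
    have hWn' := (nondegOn_iff W).mp hWn
    have hWx' : W.map L = W := map_eq_of_le L 1 one_ne_zero hsq hWx0
    obtain ⟨P, hPW, hP2, hPn, hPx⟩ := exists_invt_plane_of_odd stdSymp_alt L 1 one_ne_zero hsq hiso
      m W hWx' hWn' hWf hm
    have hfix : ∀ v ∈ P, L v = v := by
      intro v hv
      by_cases hv0 : v = 0
      · rw [hv0, map_zero]
      obtain ⟨w, hw, hvw⟩ : ∃ w ∈ P, stdSymp d F v w ≠ 0 := by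
        by_contra h
        push Not at h
        exact hv0 (hPn v hv h)
      obtain ⟨h1, -⟩ := plane_props stdSymp_alt v w hvw
      have hsp : span F ({v, w} : Set (Fin d ⊕ Fin d → F)) = P :=
        Submodule.eq_of_le_of_finrank_eq (span_pair_le hv hw) (by rw [h1, hP2])
      have hLv : L v ∈ span F ({v, w} : Set (Fin d ⊕ Fin d → F)) := by
        rw [hsp, ← hPx]
        exact ⟨v, hv, rfl⟩
      obtain ⟨a, b, hab⟩ := mem_span_pair.mp hLv
      have h3 : stdSymp d F v (L v) = 0 := by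
        rw [hL]
        exact shearMap_atype d hd v
      rw [← hab, map_add, map_smul, map_smul, stdSymp_alt, smul_zero, zero_add, smul_eq_mul] at h3
      have hb : b = 0 := (mul_eq_zero.mp h3).resolve_right hvw
      rw [hb, zero_smul, add_zero] at hab
      have h4 := hsq v
      rw [← hab, map_smul, ← hab, smul_smul, one_smul] at h4
      have h5 : (a * a - 1) • v = 0 := by rw [sub_smul, h4, one_smul, sub_self]
      have h6 : a * a - 1 = 0 := (smul_eq_zero.mp h5).resolve_right hv0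
      have h7 : (a - 1) * (a - 1) = 0 := by
        have : (2 : F) = 0 := CharTwo.two_eq_zero
        linear_combination h6 - a * this + this
      have h8 : a = 1 := by
        have := mul_self_eq_zero.mp h7
        linear_combination this
      rw [← hab, h8, one_smul]
    have hP0 : P ≠ ⊥ := by
      intro h
      rw [h, finrank_bot] at hP2
      omega
    obtain ⟨u, hu, hu0⟩ := (Submodule.ne_bot_iff P).mp hP0
    obtain ⟨w, hw, huw⟩ : ∃ w ∈ P, stdSymp d F u w ≠ 0 := by
      by_contra h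
      push Not at h
      exact hu0 (hPn u hu h)
    apply huw
    rw [stdSymp_apply, sympForm_eq_sum]
    apply Finset.sum_eq_zero
    intro i _
    have h1 := hfix u hu
    have h2 := hfix w hw
    rw [hL] at h1 h2
    rw [shearMap_fixed d hd u h1 i, shearMap_fixed d hd w h2 i]
    ring

end derangement

end Cfsg.Agent.Lib.Helper15.PSpL
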