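import Mathlib
import Cfsg.Agent.Lib.Helper15.PSpL2
import Cfsg.Agent.Lib.Helper15.PSpK1

/-!
# Counting nondegenerate subspaces of a symplectic space
-/

set_option autoImplicit false

namespace Cfsg.Agent.Lib.Helper15.PSpL

open Module Submodule Cfsg.Agent.Lib.Helper15 Cfsg.Agent.Lib.Helper15.PSpI

section span

variable {F V : Type*} [Field F] [AddCommGroup V] [Module F V]
variable (B : V →ₗ[F] V →ₗ[F] F)

/-- the span of a symplectic family -/
def famSpan (F : Type*) {V : Type*} [Field F] [AddCommGroup V] [Module F V] {k : ℕ}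
    (e f : Fin k → V) : Submodule F V := span F (Set.range e) ⊔ span F (Set.range f)

theorem e_mem_famSpan {k : ℕ} (e f : Fin k → V) (i : Fin k) : e i ∈ famSpan F e f :=
  mem_sup_left (subset_span ⟨i, rfl⟩)

theorem f_mem_famSpan {k : ℕ} (e f : Fin k → V) (i : Fin k) : f i ∈ famSpan F e f :=
  mem_sup_right (subset_span ⟨i, rfl⟩)

theorem famSpan_le {k : ℕ} (e f : Fin k → V) (W : Submodule F V) (he : ∀ i, e i ∈ W)
    (hf : ∀ i, f i ∈ W) : famSpan F e f ≤ W := by
  apply sup_le
  · rw [span_le]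
    rintro _ ⟨i, rfl⟩
    exact he i
  · rw [span_le]
    rintro _ ⟨i, rfl⟩
    exact hf i

theorem sympComb_mem_famSpan {k : ℕ} (e f : Fin k → V) (a b : Fin k → F) :
    sympComb e f a b ∈ famSpan F e f := by
  unfold sympComb
  apply Submodule.sub_mem
  · exact Submodule.sum_mem _ fun i _ => Submodule.smul_mem _ _ (e_mem_famSpan e f i)
  · exact Submodule.sum_mem _ fun i _ => Submodule.smul_mem _ _ (f_mem_famSpan e f i)

variable [FiniteDimensional F V]

theorem finrank_famSpan_le {k : ℕ} (e f : Fin k → V) : finrank F (famSpan F e f) ≤ 2 * k := by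
  unfold famSpan
  have h1 := Submodule.finrank_add_le_finrank_add_finrank (span F (Set.range e))
    (span F (Set.range f))
  have h2 : finrank F (span F (Set.range e)) ≤ k := by
    have := finrank_range_le_card (R := F) e
    rwa [Fintype.card_fin] at this
  have h3 : finrank F (span F (Set.range f)) ≤ k := by
    have := finrank_range_le_card (R := F) f
    rwa [Fintype.card_fin] at this
  omega

variable (halt : ∀ x, B x x = 0)

include halt in
theorem famSpan_sup_perp {k : ℕ} {e f : Fin k → V} (h : IsSympFam B e f) :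
    famSpan F e f ⊔ sympPerp B e f = ⊤ := by
  rw [eq_top_iff]
  intro x _
  have h1 := sub_sympComb_mem B halt h x
  have h2 : x = sympComb e f (fun i => B x (f i)) (fun i => B x (e i)) +
      (x - sympComb e f (fun i => B x (f i)) (fun i => B x (e i))) := by abel
  rw [h2]
  exact add_mem (mem_sup_left (sympComb_mem_famSpan e f _ _)) (mem_sup_right h1)

include halt in
theorem finrank_famSpan {k : ℕ} {e f : Fin k → V} (h : IsSympFam B e f) :
    finrank F (famSpan F e f) = 2 * k := by
  have h1 := finrank_famSpan_le (F := F) e f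
  have h2 := finrank_sympPerp B halt h
  have h3 := Submodule.finrank_add_le_finrank_add_finrank (famSpan F e f) (sympPerp B e f)
  rw [famSpan_sup_perp B halt h, finrank_top] at h3
  omega

include halt in
theorem famSpan_inf_perp {k : ℕ} {e f : Fin k → V} (h : IsSympFam B e f) :
    famSpan F e f ⊓ sympPerp B e f = ⊥ := by
  have h1 := finrank_famSpan B halt h
  have h2 := finrank_sympPerp B halt h
  have h3 := Submodule.finrank_sup_add_finrank_inf_eq (famSpan F e f) (sympPerp B e f)
  rw [famSpan_sup_perp B halt h, finrank_top] at h3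
  apply Submodule.finrank_eq_zero.mp
  omega

include halt in
theorem nondegOn_famSpan {k : ℕ} {e f : Fin k → V} (h : IsSympFam B e f) :
    NondegOn B (famSpan F e f) := by
  intro u hu hu0
  have h1 : u ∈ famSpan F e f ⊓ sympPerp B e f := by
    refine ⟨hu, ?_⟩
    apply (mem_sympPerp B e f u).mpr
    intro i
    exact ⟨hu0 _ (e_mem_famSpan e f i), hu0 _ (f_mem_famSpan e f i)⟩
  rw [famSpan_inf_perp B halt h] at h1
  exact (mem_bot F).mp h1

end span

section count

variable {F V : Type*} [Field F] [Fintype F] [AddCommGroup V] [Module F V]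
  [FiniteDimensional F V]
variable (B : V →ₗ[F] V →ₗ[F] F)

/-- the fibres of the span map -/
noncomputable def spanFiberEquiv (halt : ∀ x, B x x = 0) (k : ℕ) (W : Submodule F V)
    (hW : finrank F W = 2 * k) :
    {x : SympFam B k // famSpan F x.1.1 x.1.2 = W} ≃ SympFam (B.domRestrict₁₂ W W) k where
  toFun x := ⟨(fun i => ⟨x.1.1.1 i, (le_of_eq x.2) (e_mem_famSpan _ _ i)⟩,
      fun i => ⟨x.1.1.2 i, (le_of_eq x.2) (f_mem_famSpan _ _ i)⟩),
    ⟨fun i j => x.1.2.ee i j, fun i j => x.1.2.ff i j, fun i j => x.1.2.ef i j⟩⟩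
  invFun x := ⟨⟨(fun i => (x.1.1 i : V), fun i => (x.1.2 i : V)),
      ⟨fun i j => x.2.ee i j, fun i j => x.2.ff i j, fun i j => x.2.ef i j⟩⟩, by
    apply Submodule.eq_of_le_of_finrank_eq
    · exact famSpan_le _ _ W (fun i => (x.1.1 i).2) (fun i => (x.1.2 i).2)
    · rw [hW]
      exact finrank_famSpan B halt
        ⟨fun i j => x.2.ee i j, fun i j => x.2.ff i j, fun i j => x.2.ef i j⟩⟩
  left_inv x := rfl
  right_inv x := rfl

/-- `N_nd(2k) * |SympFam(W, k)| = |SympFam(V, k)|` -/
theorem card_nondeg_mul (halt : ∀ x, B x x = 0) (hnd : ∀ x, (∀ y, B x y = 0) → x = 0) (d k : ℕ)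
    (hV : finrank F V = 2 * d) (hk : k ≤ d) :
    Nat.card {W : Submodule F V // finrank F W = 2 * k ∧ NondegOn B W} *
        ∏ j ∈ Finset.range k, ((Nat.card F ^ (2 * (k - j)) - 1) * Nat.card F ^ (2 * (k - j) - 1)) =
      ∏ j ∈ Finset.range k, ((Nat.card F ^ (2 * (d - j)) - 1) * Nat.card F ^ (2 * (d - j) - 1)) := by
  classical
  have : Finite V := Module.finite_of_finite F
  rw [← card_sympFam B halt hnd d hV k hk]
  let φ : SympFam B k → {W : Submodule F V // finrank F W = 2 * k ∧ NondegOn B W} :=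
    fun x => ⟨famSpan F x.1.1 x.1.2, finrank_famSpan B halt x.2, nondegOn_famSpan B halt x.2⟩
  have : Finite {W : Submodule F V // finrank F W = 2 * k ∧ NondegOn B W} := by
    have : Finite (Submodule F V) := Finite.of_injective (fun W => (W : Set V)) SetLike.coe_injective
    infer_instance
  have : Fintype {W : Submodule F V // finrank F W = 2 * k ∧ NondegOn B W} := Fintype.ofFinite _
  have := finite_sympFam B k
  have : Fintype (SympFam B (V := V) k) := Fintype.ofFinite _
  rw [Nat.card_congr (Equiv.sigmaFiberEquiv φ).symm, Nat.card_sigma]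
  have h2 : ∀ W : {W : Submodule F V // finrank F W = 2 * k ∧ NondegOn B W},
      Nat.card {x : SympFam B k // φ x = W} =
        ∏ j ∈ Finset.range k,
          ((Nat.card F ^ (2 * (k - j)) - 1) * Nat.card F ^ (2 * (k - j) - 1)) := by
    intro W
    have e1 : {x : SympFam B k // φ x = W} ≃ {x : SympFam B k // famSpan F x.1.1 x.1.2 = W.1} :=
      Equiv.subtypeEquivRight fun x => by
        constructor
        · intro h
          exact congrArg Subtype.val h
        · intro h
          exact Subtype.ext h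
    rw [Nat.card_congr e1, Nat.card_congr (spanFiberEquiv B halt k W.1 W.2.1)]
    apply card_sympFam (B.domRestrict₁₂ W.1 W.1) (fun x => halt _) ?_ k W.2.1 k le_rfl
    intro x hx
    apply Subtype.ext
    exact W.2.2 x.1 x.2 fun v hv => hx ⟨v, hv⟩
  rw [Finset.sum_congr rfl (fun W _ => h2 W), Finset.sum_const, smul_eq_mul, Finset.card_univ,
    Nat.card_eq_fintype_card]

theorem exists_dvd_of_dvd_card_nondeg (halt : ∀ x, B x x = 0)
    (hnd : ∀ x, (∀ y, B x y = 0) → x = 0) (p : ℕ) [hp : Fact p.Prime] [CharP F p]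
    (r : ℕ) (hr : r.Prime) (hrp : r ≠ p) (d k : ℕ)
    (hV : finrank F V = 2 * d) (hk : k ≤ d)
    (h : r ∣ Nat.card {W : Submodule F V // finrank F W = 2 * k ∧ NondegOn B W}) :
    ∃ j < k, r ∣ Fintype.card F ^ (2 * d - 2 * j) - 1 := by
  have h1 := card_nondeg_mul B halt hnd d k hV hk
  have h2 : r ∣ ∏ j ∈ Finset.range k,
      ((Nat.card F ^ (2 * (d - j)) - 1) * Nat.card F ^ (2 * (d - j) - 1)) := by
    rw [← h1]
    exact Dvd.dvd.mul_right h _
  rw [Prime.dvd_finsetProd_iff hr.prime] at h2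
  obtain ⟨j, hj, hj2⟩ := h2
  have hj' : j < k := Finset.mem_range.mp hj
  refine ⟨j, hj', ?_⟩
  rcases (Nat.Prime.dvd_mul hr).mp hj2 with h3 | h3
  · rw [Nat.card_eq_fintype_card, Nat.mul_sub] at h3
    exact h3
  · exfalso
    have h4 := hr.dvd_of_dvd_pow h3
    obtain ⟨⟨f, hf0⟩, -, hf⟩ := FiniteField.card F p
    rw [Nat.card_eq_fintype_card, hf] at h4
    have h5 := hr.dvd_of_dvd_pow h4
    exact hrp ((Nat.prime_dvd_prime_iff_eq hr hp.out).mp h5)

end count

section sp

variable {F : Type*} [Field F] [Fintype F]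

theorem exists_dvd_of_dvd_card_nondeg_sp (p : ℕ) [hp : Fact p.Prime] [CharP F p]
    (r : ℕ) (hr : r.Prime) (hrp : r ≠ p) (d m : ℕ) (hme : Even m) (hmd : m ≤ 2 * d)
    (h : r ∣ Nat.card {W : Submodule F (Fin d ⊕ Fin d → F) // Module.finrank F ↥W = m ∧
      (∀ u ∈ W, u ≠ 0 → ∃ v ∈ W, Cfsg.sympForm d F u v ≠ 0)}) :
    ∃ j, 2 * j < m ∧ r ∣ Fintype.card F ^ (2 * d - 2 * j) - 1 := by
  obtain ⟨k, rfl⟩ := hme
  have e1 : {W : Submodule F (Fin d ⊕ Fin d → F) // Module.finrank F ↥W = k + k ∧
      (∀ u ∈ W, u ≠ 0 → ∃ v ∈ W, Cfsg.sympForm d F u v ≠ 0)} ≃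
      {W : Submodule F (Fin d ⊕ Fin d → F) // finrank F W = 2 * k ∧ NondegOn (stdSymp d F) W} :=
    Equiv.subtypeEquivRight fun W => by
      rw [nondegOn_iff, two_mul]
  rw [Nat.card_congr e1] at h
  obtain ⟨j, hj, hj2⟩ := exists_dvd_of_dvd_card_nondeg (stdSymp d F) stdSymp_alt stdSymp_nondeg p r
    hr hrp d k (finrank_std d) (by omega) h
  exact ⟨j, by omega, hj2⟩

end sp

end Cfsg.Agent.Lib.Helper15.PSpL
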