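import Mathlib
import Cfsg.Agent.Lib.Helper15.PSpL3
import Cfsg.Agent.Lib.Helper15.PSpK10

/-!
# Semisimple elements of odd prime order and nondegenerate subspaces
-/

set_option autoImplicit false

namespace Cfsg.Agent.Lib.Helper15.PSpL

open Module Submodule Cfsg.Agent.Lib.Helper15 Cfsg.Agent.Lib.Helper15.PSpI
  Cfsg.Agent.Lib.Helper15.PSpJ Cfsg.Agent.Lib.Helper15.PSub Cfsg.Agent.Lib.Helper15.PDec

section arith

theorem suff_arith (c s m n : ℕ) (hc : 0 < c) (hs : c * s ≤ n) (hmn : m ≤ n)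
    (hmod : m % c ≤ n % c) : m - c * min s (m / c) ≤ n - c * s := by
  rcases le_total s (m / c) with h | h
  · rw [min_eq_left h]
    omega
  · rw [min_eq_right h]
    have h1 := Nat.div_add_mod m c
    have h2 := Nat.div_add_mod n c
    have h3 : s ≤ n / c := (Nat.le_div_iff_mul_le hc).mpr (by rw [mul_comm]; exact hs)
    have h4 : c * s ≤ c * (n / c) := Nat.mul_le_mul_left c h3
    omega

theorem cOf_dvd_of_dvd {i m : ℕ} (h : i ∣ 2 * m) : cOf i ∣ 2 * m := by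
  unfold cOf
  split_ifs with hi
  · exact h
  · have hcop : Nat.Coprime i 2 := by
      rw [Nat.coprime_two_right]
      exact Nat.not_even_iff_odd.mp hi
    have h2 : i ∣ m := hcop.dvd_of_dvd_mul_left h
    exact Nat.mul_dvd_mul_left 2 h2

end arith

section semi

variable {F : Type*} [Field F] [Fintype F]

/-- **Sufficiency** for odd `r ≠ p`. -/
theorem semi_suff (p : ℕ) [Fact p.Prime] [CharP F p] (r : ℕ) [hr : Fact r.Prime]
    (hr2 : r ≠ 2) (hrp : r ≠ p) (d m : ℕ) (hd : 1 ≤ d) (hme : Even m) (hmd : m ≤ 2 * d)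
    (hmod : m % cOf (orderOf ((Fintype.card F : ℕ) : ZMod r)) ≤
      (2 * d) % cOf (orderOf ((Fintype.card F : ℕ) : ZMod r)))
    (x : ↥(Matrix.symplecticGroup (Fin d) F))
    (hx : ∃ z : F, ((x ^ r : ↥(Matrix.symplecticGroup (Fin d) F)) :
      Matrix (Fin d ⊕ Fin d) (Fin d ⊕ Fin d) F) =
        z • (1 : Matrix (Fin d ⊕ Fin d) (Fin d ⊕ Fin d) F)) :
    ∃ W : Submodule F (Fin d ⊕ Fin d → F), finrank F W = m ∧
      (∀ u ∈ W, u ≠ 0 → ∃ v ∈ W, Cfsg.sympForm d F u v ≠ 0) ∧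
      W.map (Matrix.toLin' (x : Matrix (Fin d ⊕ Fin d) (Fin d ⊕ Fin d) F)) ≤ W := by
  classical
  obtain ⟨z, hz⟩ := hx
  have hipos : 0 < orderOf ((Fintype.card F : ℕ) : ZMod r) := orderOf_pos_of_ne p r hrp
  obtain ⟨c, hc⟩ : ∃ c, c = cOf (orderOf ((Fintype.card F : ℕ) : ZMod r)) := ⟨_, rfl⟩
  have hcpos : 0 < c := by rw [hc]; exact cOf_pos hipos
  have hce : Even c := by rw [hc]; exact cOf_even
  obtain ⟨y₀, hy₀⟩ : ∃ y₀ : (Fin d ⊕ Fin d → F) →ₗ[F] (Fin d ⊕ Fin d → F),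
      y₀ = Matrix.toLin' (x : Matrix (Fin d ⊕ Fin d) (Fin d ⊕ Fin d) F) := ⟨_, rfl⟩
  rw [← hy₀]
  have hy₀r : y₀ ^ r = z • (1 : (Fin d ⊕ Fin d → F) →ₗ[F] (Fin d ⊕ Fin d → F)) := by
    rw [hy₀, ← Matrix.toLin'_pow, ← SubmonoidClass.coe_pow, hz, map_smul, Matrix.toLin'_one]
    rfl
  have hiso₀ : ∀ u v, stdSymp d F (y₀ u) (y₀ v) = stdSymp d F u v := by
    intro u v
    rw [hy₀]
    exact sympLin_iso' x u v
  have hisoPow : ∀ k : ℕ, ∀ u v, stdSymp d F ((y₀ ^ k) u) ((y₀ ^ k) v) = stdSymp d F u v := by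
    intro k
    induction k with
    | zero => intro u v; simp
    | succ k ih =>
      intro u v
      rw [pow_succ, Module.End.mul_apply, Module.End.mul_apply, ih, hiso₀]
  have hz2 : z * z = 1 := by
    have h1 := hisoPow r (Pi.single (Sum.inl ⟨0, hd⟩) 1) (Pi.single (Sum.inr ⟨0, hd⟩) 1)
    have hval : stdSymp d F (Pi.single (Sum.inl ⟨0, hd⟩) 1) (Pi.single (Sum.inr ⟨0, hd⟩) 1) =
        -1 := by
      rw [stdSymp_apply, sympForm_single_right_inr, Pi.single_eq_same]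
    rw [hy₀r] at h1
    simp only [LinearMap.smul_apply, Module.End.one_apply, map_smul, smul_eq_mul, hval] at h1
    linear_combination (-1 : F) * h1
  have hz0 : z ≠ 0 := by
    rintro rfl
    rw [zero_mul] at hz2
    exact zero_ne_one hz2
  obtain ⟨y, hy⟩ : ∃ y : (Fin d ⊕ Fin d → F) →ₗ[F] (Fin d ⊕ Fin d → F), y = z • y₀ := ⟨_, rfl⟩
  have hyr : y ^ r = 1 := by
    rw [hy, _root_.smul_pow, hy₀r, smul_smul]
    obtain ⟨k, hk⟩ := hr.out.odd_of_ne_two hr2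
    have : z ^ r * z = 1 := by
      rw [← pow_succ, hk, show 2 * k + 1 + 1 = 2 * (k + 1) by ring, pow_mul, pow_two, hz2,
        one_pow]
    rw [this, one_smul]
  have hiso : ∀ u v, stdSymp d F (y u) (y v) = stdSymp d F u v := by
    intro u v
    rw [hy]
    simp only [LinearMap.smul_apply, map_smul, smul_eq_mul, hiso₀]
    linear_combination (stdSymp d F u v) * hz2
  have hmap : ∀ W : Submodule F (Fin d ⊕ Fin d → F), W.map y = W.map y₀ := by
    intro W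
    rw [hy]
    exact Submodule.map_smul y₀ W z hz0
  have hinj : Function.Injective y :=
    injective_of_pow_eq_smul y r 1 one_ne_zero (by rw [hyr, one_smul]) hr.out.ne_zero
  have htop : (⊤ : Submodule F (Fin d ⊕ Fin d → F)).map y = ⊤ := by
    rw [Submodule.map_top]
    exact LinearMap.range_eq_top.mpr (LinearMap.injective_iff_surjective.mp hinj)
  have hnd : NondegOn (stdSymp d F) ⊤ := nondegOn_top d
  have hfr : finrank F (⊤ : Submodule F (Fin d ⊕ Fin d → F)) = 2 * d := by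
    rw [finrank_top, finrank_std]
  have hr0 : (r : F) ≠ 0 := ne_zero_of_ne' p r hr.out hrp
  obtain ⟨s, hs⟩ := movPart_profile (B := stdSymp d F) p r hrp stdSymp_alt y hiso hyr ⊤ htop hnd
  obtain ⟨hMx, hMn, hME, hCM, -, hCMo⟩ := movPart_props (B := stdSymp d F) stdSymp_alt y hiso r
    hr.out.ne_zero hr0 hyr ⊤ htop hnd
  have hCn := nondegOn_fixed (B := stdSymp d F) y hiso r hr0 hyr ⊤ htop hnd
  rw [hfr] at hCM
  rw [← hc] at hs hmod
  have hcs : c * s ≤ 2 * d := by omega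
  have harith := suff_arith c s m (2 * d) hcpos hcs hmd hmod
  obtain ⟨a, ha⟩ : ∃ a, a = min s (m / c) := ⟨_, rfl⟩
  rw [← ha] at harith
  have has : a ≤ s := by rw [ha]; exact min_le_left _ _
  have hcam : c * a ≤ m := by
    have h1 : a ≤ m / c := by rw [ha]; exact min_le_right _ _
    have h2 : c * a ≤ c * (m / c) := Nat.mul_le_mul_left c h1
    have h3 := Nat.mul_div_le m c
    omega
  obtain ⟨DN, hDNM, hDNx, hDNn, hDNf⟩ := exists_moved_sub (B := stdSymp d F) p r hrp hr2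
    stdSymp_alt y hiso hyr (movPart (stdSymp d F) y ⊤) hMx hMn hME s (by rw [hs, hc]) a has
  rw [← hc] at hDNf
  have heven : Even (m - c * a) := by
    rcases hme with ⟨m', hm'⟩
    rcases hce with ⟨c', hc'⟩
    refine ⟨m' - c' * a, ?_⟩
    have h7 : (c' + c') * a = c' * a + c' * a := by ring
    rw [hm', hc', h7]
    rw [hm', hc', h7] at hcam
    omega
  obtain ⟨f, hf⟩ := heven
  obtain ⟨DC, hDCC, hDCn, hDCf⟩ := exists_nondeg_le (B := stdSymp d F) stdSymp_alt _ hCn f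
    (by omega)
  have hDCx : DC.map y = DC := by
    apply le_antisymm
    · rintro _ ⟨u, hu, rfl⟩
      rw [fix_of_mem_inf y (hDCC hu)]
      exact hu
    · intro u hu
      exact ⟨u, hu, fix_of_mem_inf y (hDCC hu)⟩
  have ho : Orth (stdSymp d F) DC DN := hCMo.mono hDCC hDNM
  refine ⟨DC ⊔ DN, ?_, (nondegOn_iff _).mpr (nondegOn_sup stdSymp_alt ho hDCn hDNn), ?_⟩
  · rw [finrank_sup_of_orth stdSymp_alt ho hDCn, hDCf, hDNf]
    omega
  · rw [← hmap, Submodule.map_sup, hDCx, hDNx]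

/-- **Necessity** for odd `r ≠ p`. -/
theorem semi_nec (p : ℕ) [Fact p.Prime] [CharP F p] (r : ℕ) [hr : Fact r.Prime]
    (hr2 : r ≠ 2) (hrp : r ≠ p) (d m : ℕ) (hd : 1 ≤ d) (hmd : m ≤ 2 * d)
    (hN : ∃ j, 2 * j < m ∧ r ∣ Fintype.card F ^ (2 * d - 2 * j) - 1)
    (hgood : ∀ x : ↥(Matrix.symplecticGroup (Fin d) F),
      (Matrix.toLin' (x : Matrix (Fin d ⊕ Fin d) (Fin d ⊕ Fin d) F)) ^ r = 1 →
      (∀ z : F, (x : Matrix (Fin d ⊕ Fin d) (Fin d ⊕ Fin d) F) ≠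
        z • (1 : Matrix (Fin d ⊕ Fin d) (Fin d ⊕ Fin d) F)) →
      ∃ W : Submodule F (Fin d ⊕ Fin d → F), finrank F W = m ∧
        (∀ u ∈ W, u ≠ 0 → ∃ v ∈ W, Cfsg.sympForm d F u v ≠ 0) ∧
        W.map (Matrix.toLin' (x : Matrix (Fin d ⊕ Fin d) (Fin d ⊕ Fin d) F)) ≤ W) :
    cOf (orderOf ((Fintype.card F : ℕ) : ZMod r)) ≤ m ∧
    m % cOf (orderOf ((Fintype.card F : ℕ) : ZMod r)) ≤
      (2 * d) % cOf (orderOf ((Fintype.card F : ℕ) : ZMod r)) := by
  classical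
  have hipos : 0 < orderOf ((Fintype.card F : ℕ) : ZMod r) := orderOf_pos_of_ne p r hrp
  have hq1 : 1 ≤ Fintype.card F := Fintype.card_pos
  have hr0 : (r : F) ≠ 0 := ne_zero_of_ne' p r hr.out hrp
  obtain ⟨j₁, hj₁, hdv⟩ := hN
  have h1 := (orderOf_zmod_dvd_iff (Fintype.card F) r (2 * d - 2 * j₁) hq1).mpr hdv
  have h2 : orderOf ((Fintype.card F : ℕ) : ZMod r) ∣ 2 * (d - j₁) := by
    rw [show 2 * (d - j₁) = 2 * d - 2 * j₁ by omega]
    exact h1
  have hcdvd := cOf_dvd_of_dvd h2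
  obtain ⟨c, hc⟩ : ∃ c, c = cOf (orderOf ((Fintype.card F : ℕ) : ZMod r)) := ⟨_, rfl⟩
  rw [← hc] at hcdvd ⊢
  have hcpos : 0 < c := by rw [hc]; exact cOf_pos hipos
  have hcn : c ≤ 2 * d := by
    have := Nat.le_of_dvd (by omega) hcdvd
    omega
  have hN1 : m % c ≤ (2 * d) % c := by
    obtain ⟨x, hx, hE, hns⟩ := exists_elt (F := F) p r hr2 hrp d (2 * d / c)
      (Nat.div_pos hcn hcpos)
      (by rw [← hc]; exact Nat.mul_div_le (2 * d) c)
    rw [← hc] at hE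
    have hmodE : 2 * d - c * (2 * d / c) = 2 * d % c := by
      have := Nat.div_add_mod (2 * d) c
      omega
    rw [hmodE] at hE
    obtain ⟨W, hWdim, hWn, hWx⟩ := hgood x hx hns
    obtain ⟨y, hy⟩ : ∃ y : (Fin d ⊕ Fin d → F) →ₗ[F] (Fin d ⊕ Fin d → F),
      y = Matrix.toLin' (x : Matrix (Fin d ⊕ Fin d) (Fin d ⊕ Fin d) F) := ⟨_, rfl⟩
    rw [← hy] at hx hE hWx
    have hiso : ∀ u v, stdSymp d F (y u) (y v) = stdSymp d F u v := by
      intro u v
      rw [hy]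
      exact sympLin_iso' x u v
    have hinj : Function.Injective y :=
      injective_of_pow_eq_smul y r 1 one_ne_zero (by rw [hx, one_smul]) hr.out.ne_zero
    have hWx' : W.map y = W := by
      apply map_eq_of_invt y hinj
      rw [Module.End.mem_invtSubmodule_iff_map_le]
      exact hWx
    have hWn' := (nondegOn_iff W).mp hWn
    obtain ⟨s, hs⟩ := movPart_profile (B := stdSymp d F) p r hrp stdSymp_alt y hiso hx W hWx' hWn'
    obtain ⟨-, -, -, h4, -, -⟩ := movPart_props (B := stdSymp d F) stdSymp_alt y hiso r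
      hr.out.ne_zero hr0 hx W hWx' hWn'
    rw [← hc] at hs
    have h5 : finrank F ↥(W ⊓ Module.End.eigenspace y 1) ≤ 2 * d % c := by
      rw [← hE]
      exact Submodule.finrank_mono inf_le_right
    have hk : 2 * d % c < c := Nat.mod_lt _ hcpos
    have h6 : m % c = finrank F ↥(W ⊓ Module.End.eigenspace y 1) := by
      rw [← hWdim, ← h4, hs, Nat.add_mul_mod_self_left]
      exact Nat.mod_eq_of_lt (by omega)
    rw [h6]
    exact h5
  refine ⟨?_, hN1⟩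
  by_contra hlt
  push Not at hlt
  obtain ⟨t, ht⟩ := hcdvd
  have h3 : 2 * d = 2 * j₁ + c * t := by omega
  have h4 : (2 * d) % c = 2 * j₁ := by
    rw [h3, Nat.add_mul_mod_self_left]
    exact Nat.mod_eq_of_lt (by omega)
  rw [Nat.mod_eq_of_lt hlt, h4] at hN1
  omega

/-- the criterion for odd `r ≠ p` -/
theorem semi_criterion (p : ℕ) [Fact p.Prime] [CharP F p] (r : ℕ) [hr : Fact r.Prime]
    (hr2 : r ≠ 2) (hrp : r ≠ p) (d m : ℕ) (hd : 1 ≤ d) (hme : Even m) (hmd : m ≤ 2 * d)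
    (hN : ∃ j, 2 * j < m ∧ r ∣ Fintype.card F ^ (2 * d - 2 * j) - 1) :
    (∀ x : ↥(Matrix.symplecticGroup (Fin d) F),
      (∃ z : F, ((x ^ r : ↥(Matrix.symplecticGroup (Fin d) F)) :
        Matrix (Fin d ⊕ Fin d) (Fin d ⊕ Fin d) F) =
          z • (1 : Matrix (Fin d ⊕ Fin d) (Fin d ⊕ Fin d) F)) →
      (∀ z : F, (x : Matrix (Fin d ⊕ Fin d) (Fin d ⊕ Fin d) F) ≠
        z • (1 : Matrix (Fin d ⊕ Fin d) (Fin d ⊕ Fin d) F)) →
      ∃ W : Submodule F (Fin d ⊕ Fin d → F), finrank F W = m ∧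
        (∀ u ∈ W, u ≠ 0 → ∃ v ∈ W, Cfsg.sympForm d F u v ≠ 0) ∧
        W.map (Matrix.toLin' (x : Matrix (Fin d ⊕ Fin d) (Fin d ⊕ Fin d) F)) ≤ W) ↔
    (cOf (orderOf ((Fintype.card F : ℕ) : ZMod r)) ≤ m ∧
    m % cOf (orderOf ((Fintype.card F : ℕ) : ZMod r)) ≤
      (2 * d) % cOf (orderOf ((Fintype.card F : ℕ) : ZMod r))) := by
  constructor
  · intro hgood
    apply semi_nec p r hr2 hrp d m hd hmd hN
    intro x hx hns
    apply hgood x ⟨1, ?_⟩ hns
    rw [SubmonoidClass.coe_pow, one_smul]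
    apply Matrix.toLin'.injective
    rw [Matrix.toLin'_pow, hx, Matrix.toLin'_one]
    rfl
  · rintro ⟨-, h2⟩ x hx -
    exact semi_suff p r hr2 hrp d m hd hme hmd h2 x hx

end semi

end Cfsg.Agent.Lib.Helper15.PSpL
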