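import Mathlib
import Cfsg.Agent.Lib.Helper15.PSpJ1
import Cfsg.Agent.Lib.Helper16.SympEmbed

/-!
# Alternating forms which are traces of forms over an extension field
-/

set_option autoImplicit false
set_option linter.unusedSectionVars false

namespace Cfsg.Agent.Lib.Helper15.PSpM

open Module Cfsg.Agent.Lib.Helper15.PSpI Cfsg.Agent.Lib.Helper15.PSpJ

section formL

variable {F L V : Type*} [Field F] [Field L] [Algebra F L]
  [AddCommGroup V] [Module F V] [Module L V] [IsScalarTower F L V]

/-- the map `b ↦ (a ↦ φ (b * a))` -/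
noncomputable def trDual (φ : L →ₗ[F] F) : L →ₗ[F] Module.Dual F L :=
  (LinearMap.mul F L).compr₂ φ

theorem trDual_apply (φ : L →ₗ[F] F) (b a : L) : trDual φ b a = φ (b * a) := rfl

theorem eq_zero_of_forall (φ : L →ₗ[F] F) (hφ : φ ≠ 0) (b : L) (h : ∀ a, φ (b * a) = 0) :
    b = 0 := by
  by_contra hb
  apply hφ
  ext c
  have := h (b⁻¹ * c)
  rw [← mul_assoc, mul_inv_cancel₀ hb, one_mul] at this
  rw [this, LinearMap.zero_apply]

theorem eq_of_forall (φ : L →ₗ[F] F) (hφ : φ ≠ 0) (b b' : L)
    (h : ∀ a, φ (b * a) = φ (b' * a)) : b = b' := by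
  rw [← sub_eq_zero]
  apply eq_zero_of_forall φ hφ
  intro a
  rw [sub_mul, map_sub, h a, sub_self]

theorem trDual_injective (φ : L →ₗ[F] F) (hφ : φ ≠ 0) : Function.Injective (trDual φ) := by
  intro b b' h
  apply eq_of_forall φ hφ
  intro a
  rw [← trDual_apply, ← trDual_apply, h]

theorem exists_rep [FiniteDimensional F L] (φ : L →ₗ[F] F) (hφ : φ ≠ 0) (ψ : Module.Dual F L) :
    ∃ b : L, ∀ a, φ (b * a) = ψ a := by
  have hfr : finrank F L = finrank F (Module.Dual F L) := (Subspace.dual_finrank_eq).symm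
  have hsurj := (LinearMap.injective_iff_surjective_of_finrank_eq_finrank hfr).1
    (trDual_injective φ hφ)
  obtain ⟨b, hb⟩ := hsurj ψ
  exact ⟨b, fun a => by rw [← trDual_apply, hb]⟩

theorem exists_functional [FiniteDimensional F L] : ∃ φ : L →ₗ[F] F, φ ≠ 0 := by
  by_contra h
  push Not at h
  have h1 : (1 : L) = 0 := by
    rw [← Module.forall_dual_apply_eq_zero_iff F]
    intro ψ
    rw [h ψ, LinearMap.zero_apply]
  exact one_ne_zero h1

/-- the functional `a ↦ B (a • u) v` -/
noncomputable def psiFun (B : V →ₗ[F] V →ₗ[F] F) (u v : V) : Module.Dual F L where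
  toFun a := B (a • u) v
  map_add' a b := by rw [add_smul, map_add, LinearMap.add_apply]
  map_smul' c a := by
    rw [smul_assoc, map_smul, LinearMap.smul_apply, RingHom.id_apply]

theorem psiFun_apply (B : V →ₗ[F] V →ₗ[F] F) (u v : V) (a : L) :
    psiFun B u v a = B (a • u) v := rfl

/-- the form over the extension field -/
theorem exists_formL [FiniteDimensional F L] (B : V →ₗ[F] V →ₗ[F] F)
    (hsa : ∀ (a : L) (u v : V), B (a • u) v = B u (a • v))
    (halt : ∀ (a : L) (v : V), B (a • v) v = 0)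
    (hnd : ∀ u, (∀ v, B u v = 0) → u = 0)
    (φ : L →ₗ[F] F) (hφ : φ ≠ 0) :
    ∃ BL : V →ₗ[L] V →ₗ[L] L, (∀ a u v, φ (BL u v * a) = B (a • u) v) ∧
      (∀ v, BL v v = 0) ∧ (∀ u, (∀ v, BL u v = 0) → u = 0) := by
  classical
  choose g hg using fun (uv : V × V) => exists_rep φ hφ (psiFun B uv.1 uv.2)
  have hspec : ∀ u v a, φ (g (u, v) * a) = B (a • u) v := fun u v a => by
    rw [hg (u, v) a, psiFun_apply]
  refine ⟨LinearMap.mk₂ L (fun u v => g (u, v)) ?_ ?_ ?_ ?_, ?_, ?_, ?_⟩
  · intro u u' v
    apply eq_of_forall φ hφ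
    intro a
    rw [add_mul, map_add, hspec, hspec, hspec, smul_add, map_add, LinearMap.add_apply]
  · intro c u v
    apply eq_of_forall φ hφ
    intro a
    rw [hspec, smul_eq_mul, mul_comm c, mul_assoc, hspec, mul_smul, smul_comm]
  · intro u v v'
    apply eq_of_forall φ hφ
    intro a
    rw [add_mul, map_add, hspec, hspec, hspec, map_add]
  · intro c u v
    apply eq_of_forall φ hφ
    intro a
    rw [hspec, smul_eq_mul, mul_comm c, mul_assoc, hspec, mul_smul, hsa c (a • u) v]
  · intro a u v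
    rw [LinearMap.mk₂_apply, hspec]
  · intro v
    rw [LinearMap.mk₂_apply]
    apply eq_zero_of_forall φ hφ
    intro a
    rw [hspec, halt]
  · intro u hu
    apply hnd
    intro v
    have := hspec u v 1
    rw [one_smul] at this
    rw [← this]
    have h2 := hu v
    rw [LinearMap.mk₂_apply] at h2
    rw [h2, zero_mul, map_zero]

end formL

section dims

variable {F L V : Type*} [Field F] [Field L] [Algebra F L] [FiniteDimensional F L]
  [AddCommGroup V] [Module F V] [Module L V] [IsScalarTower F L V] [FiniteDimensional F V]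

/-- a subspace stable under the extension field, as a submodule over it -/
def liftSub (W : Submodule F V) (hW : ∀ (a : L) (w : V), w ∈ W → a • w ∈ W) : Submodule L V where
  carrier := W
  add_mem' := W.add_mem
  zero_mem' := W.zero_mem
  smul_mem' := fun a _ hw => hW a _ hw

theorem mem_liftSub (W : Submodule F V) (hW : ∀ (a : L) (w : V), w ∈ W → a • w ∈ W) (v : V) :
    v ∈ liftSub W hW ↔ v ∈ W := Iff.rfl

theorem finrank_liftSub (W : Submodule F V) (hW : ∀ (a : L) (w : V), w ∈ W → a • w ∈ W) :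
    finrank F W = finrank F L * finrank L (liftSub W hW) := by
  rw [Module.finrank_mul_finrank F L ↥(liftSub W hW)]
  have e : (liftSub W hW).restrictScalars F = W := by
    ext v
    rfl
  have := (Submodule.restrictScalarsEquiv F L V (liftSub W hW)).restrictScalars F |>.finrank_eq
  rw [← this, e]

theorem dvd_finrank_of_stable (W : Submodule F V)
    (hW : ∀ (a : L) (w : V), w ∈ W → a • w ∈ W) : finrank F L ∣ finrank F W :=
  ⟨_, finrank_liftSub W hW⟩

theorem two_mul_dvd_finrank_of_nondeg (B : V →ₗ[F] V →ₗ[F] F)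
    (hsa : ∀ (a : L) (u v : V), B (a • u) v = B u (a • v))
    (halt : ∀ (a : L) (v : V), B (a • v) v = 0)
    (hnd : ∀ u, (∀ v, B u v = 0) → u = 0)
    (W : Submodule F V) (hW : ∀ (a : L) (w : V), w ∈ W → a • w ∈ W) (hWn : NondegOn B W) :
    2 * finrank F L ∣ finrank F W := by
  obtain ⟨φ, hφ⟩ := exists_functional (F := F) (L := L)
  obtain ⟨BL, hspec, haltL, -⟩ := exists_formL B hsa halt hnd φ hφ
  have hfd : FiniteDimensional L V := Module.Finite.of_restrictScalars_finite F L V
  have hn : NondegOn BL (liftSub W hW) := by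
    intro u hu h
    apply hWn u hu
    intro v hv
    have := hspec 1 u v
    rw [one_smul] at this
    rw [← this, h v hv, zero_mul, map_zero]
  obtain ⟨m, hm⟩ := even_finrank_of_nondegOn haltL _ hn
  rw [finrank_liftSub W hW, hm]
  exact ⟨m, by ring⟩

end dims

end Cfsg.Agent.Lib.Helper15.PSpM
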