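import Mathlib
import Cfsg.Agent.Lib.Helper15.PSpM1
import Cfsg.Agent.Lib.Helper29.SpOrth

/-!
# The symplectic group over the extension field inside the normaliser of the field
-/

set_option autoImplicit false
set_option linter.unusedSectionVars false

namespace Cfsg.Agent.Lib.Helper15.PSpM

open Module Matrix Cfsg.Agent.Lib.Helper15 Cfsg.Agent.Lib.Helper6 Cfsg.Agent.Lib.Helper15.PSpI
  Cfsg.Agent.Lib.Helper15.PSpJ Cfsg.Agent.Lib.Helper29.SPO

section modOf

variable {F L : Type*} [Field F] [Field L] [Algebra F L] {ι : Type*} [Fintype ι] [DecidableEq ι]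

/-- the module structure on column vectors given by a representation -/
@[reducible] noncomputable def modOf (ρ : L →ₐ[F] Matrix ι ι F) : Module L (ι → F) :=
  Module.compHom (ι → F)
    (((Matrix.toLinAlgEquiv' (R := F) (n := ι)).toAlgHom.comp ρ).toRingHom)

theorem modOf_smul (ρ : L →ₐ[F] Matrix ι ι F) (a : L) (v : ι → F) :
    (modOf ρ).toSMul.smul a v = ρ a *ᵥ v := rfl

theorem modOf_tower (ρ : L →ₐ[F] Matrix ι ι F) :
    @IsScalarTower F L (ι → F) _ (modOf ρ).toSMul _ := by
  let _ := modOf ρ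
  refine ⟨fun c a v => ?_⟩
  change ρ (c • a) *ᵥ v = c • (ρ a *ᵥ v)
  rw [map_smul, Matrix.smul_mulVec]

end modOf

section embed

variable {F L : Type*} [Field F] [Fintype F] [Field L] [Algebra F L] [FiniteDimensional F L] {d : ℕ}

local notation "VV" => (Fin d ⊕ Fin d → F)
local notation "MM" => Matrix (Fin d ⊕ Fin d) (Fin d ⊕ Fin d) F

theorem exists_embed (ρ : L →ₐ[F] MM)
    (hsa : ∀ (a : L) (u v : VV), Cfsg.sympForm d F (ρ a *ᵥ u) v = Cfsg.sympForm d F u (ρ a *ᵥ v))
    (halt : ∀ (a : L) (v : VV), Cfsg.sympForm d F (ρ a *ᵥ v) v = 0) :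
    ∃ (e : ℕ) (ψ : ↥(Matrix.symplecticGroup (Fin e) L) →* GL (Fin d ⊕ Fin d) F),
      d = finrank F L * e ∧ Function.Injective ψ ∧ (∀ g, ψ g ∈ Cfsg.spGL d F) ∧
      (∀ g a, ((ψ g : GL (Fin d ⊕ Fin d) F) : MM) * ρ a = ρ a * ((ψ g : GL (Fin d ⊕ Fin d) F) : MM)) := by
  classical
  let _ := modOf ρ
  have htower : IsScalarTower F L VV := modOf_tower ρ
  have hsm : ∀ (a : L) (v : VV), a • v = ρ a *ᵥ v := fun a v => rfl
  have hfdV : FiniteDimensional L VV := Module.Finite.of_restrictScalars_finite F L VV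
  have hfinL : Finite L := Module.finite_of_finite F
  obtain ⟨φ, hφ⟩ := exists_functional (F := F) (L := L)
  obtain ⟨BL, hspec, haltL, hndL⟩ := exists_formL (stdSymp d F) (fun a u v => by
      rw [hsm, hsm, stdSymp_apply, stdSymp_apply, hsa]) (fun a v => by
      rw [hsm, stdSymp_apply, halt]) stdSymp_nondeg φ hφ
  have hkpos : 0 < finrank F L := Module.finrank_pos
  have hV : finrank F VV = 2 * d := by
    rw [Module.finrank_pi, Fintype.card_sum, Fintype.card_fin]; ring
  have hmul := Module.finrank_mul_finrank F L VV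
  have hevenL : Even (finrank L VV) := by
    have h1 := even_finrank_of_nondegOn haltL (⊤ : Submodule L VV)
      (fun u _ h => hndL u fun v => h v Submodule.mem_top)
    rwa [finrank_top] at h1
  obtain ⟨e, he⟩ := hevenL
  have he2 : finrank L VV = 2 * e := by omega
  have hde : d = finrank F L * e := by
    rw [he2, hV] at hmul
    have : 2 * (finrank F L * e) = 2 * d := by rw [← hmul]; ring
    omega
  obtain ⟨Ψ, hΨ⟩ := Cfsg.Agent.Lib.Helper16.exists_symp_equiv BL haltL hndL e he2
  -- the maps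
  let T : Matrix (Fin e ⊕ Fin e) (Fin e ⊕ Fin e) L → (VV →ₗ[L] VV) := fun g =>
    Ψ.toLinearMap ∘ₗ Matrix.toLin' g ∘ₗ Ψ.symm.toLinearMap
  have hT : ∀ g v, T g v = Ψ (g *ᵥ Ψ.symm v) := fun g v => by
    change Ψ (Matrix.toLin' g (Ψ.symm v)) = _
    rw [Matrix.toLin'_apply]
  let f : ↥(Matrix.symplecticGroup (Fin e) L) →* MM :=
    { toFun := fun g => LinearMap.toMatrix' ((T g.1).restrictScalars F)
      map_one' := by
        have : (T (1 : ↥(Matrix.symplecticGroup (Fin e) L)).1).restrictScalars F = LinearMap.id := by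
          refine LinearMap.ext fun v => ?_
          change T _ v = v
          rw [hT]
          change Ψ ((1 : Matrix (Fin e ⊕ Fin e) (Fin e ⊕ Fin e) L) *ᵥ Ψ.symm v) = v
          rw [Matrix.one_mulVec, LinearEquiv.apply_symm_apply]
        rw [this, LinearMap.toMatrix'_id]
      map_mul' := by
        intro g h
        rw [← LinearMap.toMatrix'_comp]
        congr 1
        refine LinearMap.ext fun v => ?_
        change T _ v = T _ (T _ v)
        rw [hT, hT, hT, LinearEquiv.symm_apply_apply]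
        change Ψ ((g.1 * h.1) *ᵥ Ψ.symm v) = _
        rw [Matrix.mulVec_mulVec] }
  have hf : ∀ g v, (f g) *ᵥ v = Ψ (g.1 *ᵥ Ψ.symm v) := by
    intro g v
    change LinearMap.toMatrix' _ *ᵥ v = _
    rw [LinearMap.toMatrix'_mulVec]
    exact hT g.1 v
  have hBL : ∀ u v : VV, Cfsg.sympForm d F u v = φ (BL u v) := by
    intro u v
    have := hspec 1 u v
    rw [one_smul, mul_one] at this
    rw [this, stdSymp_apply]
  refine ⟨e, f.toHomUnits, hde, ?_, ?_, ?_⟩
  · intro g h hgh
    have h1 : f g = f h := congrArg (fun u : GL (Fin d ⊕ Fin d) F => (u : MM)) hgh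
    apply Subtype.ext
    apply Matrix.toLin'.injective
    refine LinearMap.ext fun w => ?_
    rw [Matrix.toLin'_apply, Matrix.toLin'_apply]
    have h2 := congrArg (fun A => Ψ.symm (A *ᵥ (Ψ w))) h1
    simp only [hf, LinearEquiv.symm_apply_apply] at h2
    exact h2
  · intro g
    rw [mem_spGL_iff]
    intro u v
    change Cfsg.sympForm d F (f g *ᵥ u) (f g *ᵥ v) = _
    rw [hf, hf, hBL, hBL, hΨ]
    have := (mem_symplecticGroup_iff_preserves g.1).mp g.2 (Ψ.symm u) (Ψ.symm v)
    rw [this, ← hΨ, LinearEquiv.apply_symm_apply, LinearEquiv.apply_symm_apply]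
  · intro g a
    change f g * ρ a = ρ a * f g
    apply Matrix.toLin'.injective
    refine LinearMap.ext fun v => ?_
    rw [Matrix.toLin'_apply, Matrix.toLin'_apply, ← Matrix.mulVec_mulVec, ← Matrix.mulVec_mulVec,
      hf, hf, ← hsm, ← hsm, map_smul, ← Matrix.toLin'_apply, map_smul, map_smul, Matrix.toLin'_apply]

end embed

end Cfsg.Agent.Lib.Helper15.PSpM
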