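import Mathlib
import Cfsg.Agent.Lib.Helper15.PSpM2

/-!
# Elements of the normaliser of a field subalgebra: fixed spaces and the Galois action
-/

set_option autoImplicit false
set_option linter.unusedSectionVars false

namespace Cfsg.Agent.Lib.Helper15.PSpM

open Module Matrix

section norm

variable {F L : Type*} [Field F] [Field L] [Algebra F L] {ι : Type} [Fintype ι] [DecidableEq ι]

local notation "VV" => (ι → F)
local notation "MM" => Matrix ι ι F

theorem rho_injective (ρ : L →ₐ[F] MM) [Nonempty ι] : Function.Injective ρ := by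
  have : Nontrivial MM := by
    refine ⟨⟨1, 0, fun h => ?_⟩⟩
    obtain ⟨i⟩ := ‹Nonempty ι›
    have := congrFun (congrFun h i) i
    simp at this
  exact ρ.toRingHom.injective

theorem rho_inv (ρ : L →ₐ[F] MM) (b : L) (hb : b ≠ 0) : ρ b⁻¹ * ρ b = 1 := by
  rw [← map_mul, inv_mul_cancel₀ hb, map_one]

/-- the conjugate of an element of the field by an element of the normaliser -/
theorem exists_conj (ρ : L →ₐ[F] MM) (K : Subalgebra F MM) (hK : ∀ m, m ∈ K ↔ ∃ a, ρ a = m)
    (g : GL ι F) (hg : g ∈ Cfsg.Geo.subalgebraNormalizer K) (a : L) :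
    ∃ a' : L, (g : MM) * ρ a = ρ a' * (g : MM) := by
  have h1 : ρ a ∈ K := (hK _).mpr ⟨a, rfl⟩
  have h2 := (hg (ρ a)).mp h1
  obtain ⟨a', ha'⟩ := (hK _).mp h2
  refine ⟨a', ?_⟩
  rw [ha', mul_assoc, ← Units.val_mul, inv_mul_cancel, Units.val_one, mul_one]

/-- an element of the normaliser either centralises the field or has a small fixed space -/
theorem centralises_or_small (ρ : L →ₐ[F] MM) [Nonempty ι] (K : Subalgebra F MM)
    (hK : ∀ m, m ∈ K ↔ ∃ a, ρ a = m)
    (g : GL ι F) (hg : g ∈ Cfsg.Geo.subalgebraNormalizer K) :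
    (∀ a, (g : MM) * ρ a = ρ a * (g : MM)) ∨
      2 * finrank F (Module.End.eigenspace (Matrix.toLin' (g : MM)) 1) ≤ Fintype.card ι := by
  classical
  by_cases hc : ∀ a, (g : MM) * ρ a = ρ a * (g : MM)
  · exact Or.inl hc
  right
  push Not at hc
  obtain ⟨a, ha⟩ := hc
  obtain ⟨a', ha'⟩ := exists_conj ρ K hK g hg a
  have hne : a' ≠ a := by
    rintro rfl
    exact ha ha'
  have hb : a' - a ≠ 0 := sub_ne_zero.mpr hne
  have ha0 : a ≠ 0 := by
    rintro rfl
    rw [map_zero, mul_zero] at ha'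
    have h1 : ρ a' = 0 := by
      have := congrArg (fun m => m * ((g⁻¹ : GL ι F) : MM)) ha'
      simp only [zero_mul, mul_assoc] at this
      rw [← Units.val_mul, mul_inv_cancel, Units.val_one, mul_one] at this
      exact this.symm
    apply hne
    apply rho_injective ρ
    rw [h1, map_zero]
  obtain ⟨W, hW⟩ : ∃ W, W = Module.End.eigenspace (Matrix.toLin' (g : MM)) 1 := ⟨_, rfl⟩
  rw [← hW]
  have hinj : Function.Injective (Matrix.toLin' (ρ a)) := by
    intro u v huv
    rw [Matrix.toLin'_apply, Matrix.toLin'_apply] at huv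
    have := congrArg (fun w => ρ a⁻¹ *ᵥ w) huv
    simp only [Matrix.mulVec_mulVec, rho_inv ρ a ha0, Matrix.one_mulVec] at this
    exact this
  have hdisj : Disjoint W (W.map (Matrix.toLin' (ρ a))) := by
    rw [Submodule.disjoint_def]
    intro v hv hv2
    obtain ⟨w, hw, rfl⟩ := (Submodule.mem_map).mp hv2
    rw [hW, Module.End.mem_eigenspace_iff, one_smul, Matrix.toLin'_apply] at hv hw
    rw [Matrix.toLin'_apply] at hv ⊢
    have h1 : ρ a' *ᵥ w = ρ a *ᵥ w := by
      rw [Matrix.mulVec_mulVec, ha', ← Matrix.mulVec_mulVec, hw] at hv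
      exact hv
    have h2 : ρ (a' - a) *ᵥ w = 0 := by
      rw [map_sub, Matrix.sub_mulVec, h1, sub_self]
    have h3 := congrArg (fun w => ρ (a' - a)⁻¹ *ᵥ w) h2
    simp only [Matrix.mulVec_mulVec, rho_inv ρ _ hb, Matrix.one_mulVec, Matrix.mulVec_zero] at h3
    rw [h3, Matrix.mulVec_zero]
  have h1 := Submodule.finrank_add_finrank_le_of_disjoint hdisj
  have h2 : finrank F (W.map (Matrix.toLin' (ρ a))) = finrank F W :=
    (Submodule.equivMapOfInjective _ hinj W).finrank_eq.symm
  rw [h2, Module.finrank_pi] at h1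
  omega

end norm

section galois

variable {F L : Type*} [Field F] [Finite F] [Field L] [Algebra F L] [FiniteDimensional F L]
  {ι : Type} [Fintype ι] [DecidableEq ι] [Nonempty ι]

local notation "VV" => (ι → F)
local notation "MM" => Matrix ι ι F

omit [Finite F] [FiniteDimensional F L] in
theorem conj_unique (ρ : L →ₐ[F] MM) (g : GL ι F) (m : MM) (a' a'' : L)
    (h1 : (g : MM) * m = ρ a' * (g : MM)) (h2 : (g : MM) * m = ρ a'' * (g : MM)) : a' = a'' := by
  apply rho_injective ρ
  have := h1.symm.trans h2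
  have h3 := congrArg (fun m => m * ((g⁻¹ : GL ι F) : MM)) this
  simp only [mul_assoc] at h3
  rw [← Units.val_mul, mul_inv_cancel, Units.val_one, mul_one, mul_one] at h3
  exact h3

/-- conjugation by an element of the normaliser, as a map of the field -/
noncomputable def conjFun (ρ : L →ₐ[F] MM) (K : Subalgebra F MM)
    (hK : ∀ m, m ∈ K ↔ ∃ a, ρ a = m)
    (g : GL ι F) (hg : g ∈ Cfsg.Geo.subalgebraNormalizer K) (a : L) : L :=
  Classical.choose (exists_conj ρ K hK g hg a)

omit [Finite F] [FiniteDimensional F L] [Nonempty ι] in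
theorem conjFun_spec (ρ : L →ₐ[F] MM) (K : Subalgebra F MM)
    (hK : ∀ m, m ∈ K ↔ ∃ a, ρ a = m)
    (g : GL ι F) (hg : g ∈ Cfsg.Geo.subalgebraNormalizer K) (a : L) :
    (g : MM) * ρ a = ρ (conjFun ρ K hK g hg a) * (g : MM) :=
  Classical.choose_spec (exists_conj ρ K hK g hg a)

/-- conjugation by an element of the normaliser, as an algebra endomorphism of the field -/
noncomputable def conjHom (ρ : L →ₐ[F] MM) (K : Subalgebra F MM)
    (hK : ∀ m, m ∈ K ↔ ∃ a, ρ a = m)
    (g : GL ι F) (hg : g ∈ Cfsg.Geo.subalgebraNormalizer K) : L →ₐ[F] L where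
  toFun a := conjFun ρ K hK g hg a
  map_one' := by
    apply conj_unique ρ g (ρ 1) _ _ (conjFun_spec ρ K hK g hg 1)
    rw [map_one, mul_one, one_mul]
  map_mul' a b := by
    apply conj_unique ρ g (ρ (a * b)) _ _ (conjFun_spec ρ K hK g hg (a * b))
    have e1 := conjFun_spec ρ K hK g hg a
    have e2 := conjFun_spec ρ K hK g hg b
    rw [map_mul, ← mul_assoc, e1, mul_assoc, e2, ← mul_assoc, ← map_mul]
  map_zero' := by
    apply conj_unique ρ g (ρ 0) _ _ (conjFun_spec ρ K hK g hg 0)
    rw [map_zero, mul_zero, zero_mul]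
  map_add' a b := by
    apply conj_unique ρ g (ρ (a + b)) _ _ (conjFun_spec ρ K hK g hg (a + b))
    have e1 := conjFun_spec ρ K hK g hg a
    have e2 := conjFun_spec ρ K hK g hg b
    rw [map_add, mul_add, e1, e2, ← add_mul, ← map_add]
  commutes' c := by
    apply conj_unique ρ g (ρ (algebraMap F L c)) _ _
      (conjFun_spec ρ K hK g hg (algebraMap F L c))
    rw [AlgHom.commutes, Algebra.algebraMap_eq_smul_one, mul_smul_comm,
      smul_mul_assoc, mul_one, one_mul]

omit [Finite F] [FiniteDimensional F L] in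
theorem conjHom_spec (ρ : L →ₐ[F] MM) (K : Subalgebra F MM)
    (hK : ∀ m, m ∈ K ↔ ∃ a, ρ a = m)
    (g : GL ι F) (hg : g ∈ Cfsg.Geo.subalgebraNormalizer K) (a : L) :
    (g : MM) * ρ a = ρ (conjHom ρ K hK g hg a) * (g : MM) :=
  conjFun_spec ρ K hK g hg a

/-- an element of the normaliser whose `r`-th power centralises the field, but which does not
centralise it: `r` divides the degree of the field -/
theorem dvd_finrank_of_not_centralises (ρ : L →ₐ[F] MM) (K : Subalgebra F MM)
    (hK : ∀ m, m ∈ K ↔ ∃ a, ρ a = m)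
    (g : GL ι F) (hg : g ∈ Cfsg.Geo.subalgebraNormalizer K) (r : ℕ) (hr : r.Prime)
    (hgr : ∀ a, ((g ^ r : GL ι F) : MM) * ρ a = ρ a * ((g ^ r : GL ι F) : MM))
    (hnc : ¬ ∀ a, (g : MM) * ρ a = ρ a * (g : MM)) : r ∣ finrank F L := by
  classical
  have hfinL : Finite L := Module.finite_of_finite F
  obtain ⟨τ, hτ⟩ : ∃ τ : L ≃ₐ[F] L, ∀ a, τ a = conjHom ρ K hK g hg a :=
    ⟨AlgEquiv.ofBijective (conjHom ρ K hK g hg) (AlgHom.bijective _), fun a => rfl⟩
  have hpow : ∀ (n : ℕ) (a : L),
      ((g ^ n : GL ι F) : MM) * ρ a = ρ ((τ ^ n) a) * ((g ^ n : GL ι F) : MM) := by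
    intro n
    induction n with
    | zero => intro a; simp
    | succ n ih =>
      intro a
      rw [pow_succ, pow_succ, Units.val_mul, mul_assoc, conjHom_spec ρ K hK g hg a, ← mul_assoc, ih,
        AlgEquiv.mul_apply, hτ, mul_assoc]
  have h1 : τ ^ r = 1 := by
    ext a
    rw [AlgEquiv.one_apply]
    exact (conj_unique ρ (g ^ r) (ρ a) _ _ (hgr a) (hpow r a)).symm
  have h2 : τ ≠ 1 := by
    intro h
    apply hnc
    intro a
    have := conjHom_spec ρ K hK g hg a
    rw [← hτ, h, AlgEquiv.one_apply] at this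
    exact this
  have h3 : orderOf τ = r := by
    have : Fact r.Prime := ⟨hr⟩
    exact orderOf_eq_prime h1 h2
  rw [← IsGalois.card_aut_eq_finrank F L, ← h3]
  exact orderOf_dvd_natCard τ

end galois

end Cfsg.Agent.Lib.Helper15.PSpM
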