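import Mathlib
import Cfsg.Agent.Lib.Helper15.PSpM3

/-!
# The index of the field extension subgroup of the symplectic group
-/

set_option autoImplicit false
set_option linter.unusedSectionVars false

namespace Cfsg.Agent.Lib.Helper15.PSpM

open Module Matrix Cfsg.Agent.Lib.Helper15 Cfsg.Agent.Lib.Helper6 Cfsg.Agent.Lib.Helper15.PSpI
  Cfsg.Agent.Lib.Helper15.PSpJ Cfsg.Agent.Lib.Helper29.SPO

section arith

theorem filter_eq_image (k e d : ℕ) (hk : 1 ≤ k) (hd : d = k * e) :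
    (Finset.range d).filter (fun i => k ∣ i + 1) =
      (Finset.range e).image (fun i => k * (i + 1) - 1) := by
  ext i
  simp only [Finset.mem_filter, Finset.mem_range, Finset.mem_image]
  constructor
  · rintro ⟨hi, c, hc⟩
    have hc1 : 1 ≤ c := by
      rcases Nat.eq_zero_or_pos c with h | h
      · rw [h, mul_zero] at hc; omega
      · exact h
    have hce : c ≤ e := by
      apply Nat.le_of_mul_le_mul_left _ hk
      rw [← hc, ← hd]; omega
    exact ⟨c - 1, by omega, by rw [Nat.sub_add_cancel hc1, ← hc]; omega⟩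
  · rintro ⟨m, hm, rfl⟩
    have h1 : k * (m + 1) ≤ k * e := Nat.mul_le_mul_left k (by omega)
    have h2 : 1 ≤ k * (m + 1) := Nat.mul_pos hk (by omega)
    refine ⟨by omega, ⟨m + 1, by omega⟩⟩

theorem prod_split (q k e d : ℕ) (hk : 1 ≤ k) (hd : d = k * e) :
    ∏ i ∈ Finset.range d, (q ^ (2 * (i + 1)) - 1) =
      (∏ i ∈ Finset.range e, ((q ^ k) ^ (2 * (i + 1)) - 1)) *
        ∏ i ∈ (Finset.range d).filter (fun i => ¬ k ∣ i + 1), (q ^ (2 * (i + 1)) - 1) := by
  rw [← Finset.prod_filter_mul_prod_filter_not (Finset.range d) (fun i => k ∣ i + 1)]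
  congr 1
  rw [filter_eq_image k e d hk hd, Finset.prod_image]
  · apply Finset.prod_congr rfl
    intro i _
    have h2 : 1 ≤ k * (i + 1) := Nat.mul_pos hk (by omega)
    rw [Nat.sub_add_cancel h2, ← pow_mul]
    congr 2
    ring
  · intro a _ b _ hab
    have h1 : 1 ≤ k * (a + 1) := Nat.mul_pos hk (by omega)
    have h2 : 1 ≤ k * (b + 1) := Nat.mul_pos hk (by omega)
    have h3 : k * (a + 1) = k * (b + 1) := by
      have : k * (a + 1) - 1 = k * (b + 1) - 1 := hab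
      omega
    have := Nat.eq_of_mul_eq_mul_left hk h3
    omega

/-- the primes dividing the index of `Sp_{2e}(q^k)` in `Sp_{2d}(q)` -/
theorem exists_of_dvd_index (q k e d r R : ℕ) (hq : 2 ≤ q) (hk : 1 ≤ k) (hd : d = k * e)
    (hr : r.Prime) (hrq : ¬ r ∣ q) (hrR : r ∣ R)
    (h : R * ((q ^ k) ^ (e ^ 2) * ∏ i ∈ Finset.range e, ((q ^ k) ^ (2 * (i + 1)) - 1)) ∣
      q ^ (d ^ 2) * ∏ i ∈ Finset.range d, (q ^ (2 * (i + 1)) - 1)) :
    ∃ j, 1 ≤ j ∧ j ≤ d ∧ ¬ k ∣ j ∧ r ∣ q ^ (2 * j) - 1 := by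
  rw [prod_split q k e d hk hd] at h
  have hA : 0 < ∏ i ∈ Finset.range e, ((q ^ k) ^ (2 * (i + 1)) - 1) := by
    apply prod_pos_aux
    calc 2 ≤ q := hq
      _ = q ^ 1 := (pow_one q).symm
      _ ≤ q ^ k := Nat.pow_le_pow_right (by omega) hk
  have h1 : R * (q ^ k) ^ (e ^ 2) * (∏ i ∈ Finset.range e, ((q ^ k) ^ (2 * (i + 1)) - 1)) ∣
      (q ^ (d ^ 2) * ∏ i ∈ (Finset.range d).filter (fun i => ¬ k ∣ i + 1), (q ^ (2 * (i + 1)) - 1)) *
        (∏ i ∈ Finset.range e, ((q ^ k) ^ (2 * (i + 1)) - 1)) := by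
    convert h using 1 <;> ring
  have h2 := Nat.dvd_of_mul_dvd_mul_right hA h1
  have h3 : r ∣ q ^ (d ^ 2) *
      ∏ i ∈ (Finset.range d).filter (fun i => ¬ k ∣ i + 1), (q ^ (2 * (i + 1)) - 1) :=
    (hrR.trans (Dvd.intro _ rfl)).trans h2
  rcases (Nat.Prime.dvd_mul hr).mp h3 with h4 | h4
  · exact absurd (hr.dvd_of_dvd_pow h4) hrq
  · obtain ⟨i, hi, hri⟩ := (Prime.dvd_finsetProd_iff hr.prime _).mp h4
    rw [Finset.mem_filter, Finset.mem_range] at hi
    exact ⟨i + 1, by omega, by omega, hi.2, hri⟩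

end arith

section index

variable {F L : Type*} [Field F] [Fintype F] [Field L] [Algebra F L] [FiniteDimensional F L] {d : ℕ}

local notation "VV" => (Fin d ⊕ Fin d → F)
local notation "MM" => Matrix (Fin d ⊕ Fin d) (Fin d ⊕ Fin d) F

theorem relIndex_mul_dvd (ρ : L →ₐ[F] MM) (K : Subalgebra F MM) (hK : ∀ m, m ∈ K ↔ ∃ a, ρ a = m)
    (hsa : ∀ (a : L) (u v : VV), Cfsg.sympForm d F (ρ a *ᵥ u) v = Cfsg.sympForm d F u (ρ a *ᵥ v))
    (halt : ∀ (a : L) (v : VV), Cfsg.sympForm d F (ρ a *ᵥ v) v = 0) :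
    ∃ e : ℕ, d = finrank F L * e ∧
      (Cfsg.Geo.subalgebraNormalizer K).relIndex (Cfsg.spGL d F) *
        ((Fintype.card F ^ finrank F L) ^ (e ^ 2) *
          ∏ i ∈ Finset.range e, ((Fintype.card F ^ finrank F L) ^ (2 * (i + 1)) - 1)) ∣
      Fintype.card F ^ (d ^ 2) * ∏ i ∈ Finset.range d, (Fintype.card F ^ (2 * (i + 1)) - 1) := by
  classical
  obtain ⟨e, ψ, hde, hinj, hsp, hcomm⟩ := exists_embed ρ hsa halt
  refine ⟨e, hde, ?_⟩
  have hfinL : Finite L := Module.finite_of_finite F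
  have hFtL : Fintype L := Fintype.ofFinite L
  have hcardL : Fintype.card L = Fintype.card F ^ finrank F L := by
    rw [Module.card_eq_pow_finrank (K := F) (V := L)]
  have hN : ∀ g, ψ g ∈ Cfsg.Geo.subalgebraNormalizer K ⊓ Cfsg.spGL d F := by
    intro g
    refine ⟨?_, hsp g⟩
    intro m
    have hinvm : ∀ a, (ψ g : MM) * ρ a * ((ψ g)⁻¹ : GL (Fin d ⊕ Fin d) F) = ρ a := by
      intro a
      rw [hcomm g a, mul_assoc, ← Units.val_mul, mul_inv_cancel, Units.val_one, mul_one]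
    constructor
    · intro hm
      obtain ⟨a, rfl⟩ := (hK m).mp hm
      rw [hinvm]
      exact hm
    · intro hm
      obtain ⟨a, ha⟩ := (hK _).mp hm
      have : m = ρ a := by
        calc m = ((ψ g)⁻¹ : GL (Fin d ⊕ Fin d) F).1 * ((ψ g : MM) * m *
              ((ψ g)⁻¹ : GL (Fin d ⊕ Fin d) F).1) * (ψ g : MM) := by
              rw [mul_assoc (ψ g : MM), Units.inv_mul_cancel_left, Units.inv_mul_cancel_right]
          _ = ((ψ g)⁻¹ : GL (Fin d ⊕ Fin d) F).1 * ρ a * (ψ g : MM) := by rw [ha]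
          _ = ρ a := by
              rw [mul_assoc, ← hcomm g a, Units.inv_mul_cancel_left]
      rw [this]
      exact (hK _).mpr ⟨a, rfl⟩
  have hdvd : Nat.card ↥(Matrix.symplecticGroup (Fin e) L) ∣
      Nat.card ↥(Cfsg.Geo.subalgebraNormalizer K ⊓ Cfsg.spGL d F) := by
    apply Subgroup.card_dvd_of_injective (ψ.codRestrict _ hN)
    intro a b hab
    apply hinj
    exact congrArg Subtype.val hab
  have hidx := Subgroup.relIndex_mul_relIndex ⊥
    (Cfsg.Geo.subalgebraNormalizer K ⊓ Cfsg.spGL d F) (Cfsg.spGL d F) bot_le inf_le_right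
  rw [Subgroup.relIndex_bot_left, Subgroup.relIndex_bot_left, Subgroup.inf_relIndex_right] at hidx
  rw [← card_spGL (F := F) (d := d), ← hidx, ← hcardL, ← card_symplecticGroup, mul_comm]
  exact Nat.mul_dvd_mul_right hdvd _

end index

end Cfsg.Agent.Lib.Helper15.PSpM
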