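import Mathlib
import Cfsg.Agent.Lib.Helper15.PSpM4
import Cfsg.Agent.Lib.Helper15.PSpJ7
import Cfsg.Agent.Lib.Helper15.PSpL4

/-!
# Derangements of prime order for the field extension subgroups of the symplectic group
-/

set_option autoImplicit false
set_option linter.unusedSectionVars false

namespace Cfsg.Agent.Lib.Helper15.PSpM

open Module Matrix Cfsg.Agent.Lib.Helper15 Cfsg.Agent.Lib.Helper6 Cfsg.Agent.Lib.Helper15.PSpI
  Cfsg.Agent.Lib.Helper15.PSpJ Cfsg.Agent.Lib.Helper29.SPO Cfsg.Agent.Lib.Helper15.PSpL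
  Cfsg.Agent.Lib.Helper15.PSub

section conj

variable {F : Type*} [Field F] {ι : Type} [Fintype ι] [DecidableEq ι]

local notation "MM" => Matrix ι ι F

/-- fixed spaces of conjugate elements have the same dimension -/
theorem finrank_fixed_conj (x g : GL ι F) :
    finrank F (Module.End.eigenspace (Matrix.toLin' ((g⁻¹ * x * g : GL ι F) : MM)) 1) =
      finrank F (Module.End.eigenspace (Matrix.toLin' (x : MM)) 1) := by
  have hinj : Function.Injective (Matrix.toLin' (g : MM)) := by
    intro u v huv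
    rw [Matrix.toLin'_apply, Matrix.toLin'_apply] at huv
    have := congrArg (fun w => ((g⁻¹ : GL ι F) : MM) *ᵥ w) huv
    simp only [Matrix.mulVec_mulVec, ← Units.val_mul, inv_mul_cancel, Units.val_one,
      Matrix.one_mulVec] at this
    exact this
  have hmap : (Module.End.eigenspace (Matrix.toLin' ((g⁻¹ * x * g : GL ι F) : MM)) 1).map
      (Matrix.toLin' (g : MM)) = Module.End.eigenspace (Matrix.toLin' (x : MM)) 1 := by
    ext v
    rw [Submodule.mem_map, Module.End.mem_eigenspace_iff, one_smul, Matrix.toLin'_apply]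
    constructor
    · rintro ⟨u, hu, rfl⟩
      rw [Module.End.mem_eigenspace_iff, one_smul, Matrix.toLin'_apply] at hu
      rw [Matrix.toLin'_apply]
      nth_rewrite 2 [← hu]
      rw [Matrix.mulVec_mulVec, Matrix.mulVec_mulVec, ← Units.val_mul, ← Units.val_mul]
      congr 2
      group
    · intro hv
      refine ⟨((g⁻¹ : GL ι F) : MM) *ᵥ v, ?_, ?_⟩
      · rw [Module.End.mem_eigenspace_iff, one_smul, Matrix.toLin'_apply, Matrix.mulVec_mulVec,
          ← Units.val_mul]
        have : g⁻¹ * x * g * g⁻¹ = g⁻¹ * x := by group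
        rw [this, Units.val_mul, ← Matrix.mulVec_mulVec, hv]
      · rw [Matrix.toLin'_apply, Matrix.mulVec_mulVec, ← Units.val_mul, mul_inv_cancel,
          Units.val_one, Matrix.one_mulVec]
  rw [← hmap]
  exact (Submodule.equivMapOfInjective _ hinj _).finrank_eq

end conj

section cases

variable {F L : Type*} [Field F] [Fintype F] [Field L] [Algebra F L] [FiniteDimensional F L] {d : ℕ}

local notation "VV" => (Fin d ⊕ Fin d → F)
local notation "MM" => Matrix (Fin d ⊕ Fin d) (Fin d ⊕ Fin d) F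

/-- the two possibilities for an element of prime order with a conjugate in the normaliser -/
theorem conj_mem_cases (hd : 1 ≤ d) (ρ : L →ₐ[F] MM) (K : Subalgebra F MM)
    (hK : ∀ m, m ∈ K ↔ ∃ a, ρ a = m)
    (hsa : ∀ (a : L) (u v : VV), Cfsg.sympForm d F (ρ a *ᵥ u) v = Cfsg.sympForm d F u (ρ a *ᵥ v))
    (halt : ∀ (a : L) (v : VV), Cfsg.sympForm d F (ρ a *ᵥ v) v = 0)
    (r : ℕ) (hr : r.Prime) (x : GL (Fin d ⊕ Fin d) F) (hx : x ∈ Cfsg.spGL d F) (hxr : x ^ r = 1)
    (g : GL (Fin d ⊕ Fin d) F) (hg : g ∈ Cfsg.spGL d F)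
    (hmem : g⁻¹ * x * g ∈ Cfsg.Geo.subalgebraNormalizer K) :
    (finrank F L ∣ finrank F (Module.End.eigenspace (Matrix.toLin' (x : MM)) 1) ∧
      ((r : F) ≠ 0 →
        2 * finrank F L ∣ finrank F (Module.End.eigenspace (Matrix.toLin' (x : MM)) 1))) ∨
    (finrank F (Module.End.eigenspace (Matrix.toLin' (x : MM)) 1) ≤ d ∧ r ∣ finrank F L) := by
  classical
  have hne : Nonempty (Fin d ⊕ Fin d) := ⟨Sum.inl ⟨0, by omega⟩⟩
  obtain ⟨y, hy⟩ : ∃ y : GL (Fin d ⊕ Fin d) F, y = g⁻¹ * x * g := ⟨_, rfl⟩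
  rw [← hy] at hmem
  have hfr := finrank_fixed_conj x g
  rw [← hy] at hfr
  rw [← hfr]
  have hyr : y ^ r = 1 := by
    have : y = g⁻¹ * x * (g⁻¹)⁻¹ := by rw [hy, inv_inv]
    rw [this, conj_pow, hxr, mul_one, mul_inv_cancel]
  have hysp : y ∈ Cfsg.spGL d F := by
    rw [hy]
    exact Subgroup.mul_mem _ (Subgroup.mul_mem _ (Subgroup.inv_mem _ hg) hx) hg
  by_cases hc : ∀ a, (y : MM) * ρ a = ρ a * (y : MM)
  · left
    let _ := modOf ρ
    have htower : IsScalarTower F L VV := modOf_tower ρ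
    have hsm : ∀ (a : L) (v : VV), a • v = ρ a *ᵥ v := fun a v => rfl
    have hstab : ∀ (a : L) (w : VV), w ∈ Module.End.eigenspace (Matrix.toLin' (y : MM)) 1 →
        a • w ∈ Module.End.eigenspace (Matrix.toLin' (y : MM)) 1 := by
      intro a w hw
      rw [Module.End.mem_eigenspace_iff, one_smul, Matrix.toLin'_apply] at hw ⊢
      rw [hsm, Matrix.mulVec_mulVec, hc a, ← Matrix.mulVec_mulVec, hw]
    refine ⟨dvd_finrank_of_stable _ hstab, fun hr0 => ?_⟩
    apply two_mul_dvd_finrank_of_nondeg (stdSymp d F) (fun a u v => by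
      rw [hsm, hsm, stdSymp_apply, stdSymp_apply, hsa]) (fun a v => by
      rw [hsm, stdSymp_apply, halt]) stdSymp_nondeg _ hstab
    have hiso : ∀ u v, stdSymp d F (Matrix.toLin' (y : MM) u) (Matrix.toLin' (y : MM) v) =
        stdSymp d F u v := by
      intro u v
      rw [stdSymp_apply, Matrix.toLin'_apply, Matrix.toLin'_apply]
      exact (mem_spGL_iff y).mp hysp u v
    have hpow : (Matrix.toLin' (y : MM)) ^ r = 1 := by
      rw [← Matrix.toLin'_pow, ← Units.val_pow_eq_pow_val, hyr, Units.val_one, Matrix.toLin'_one]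
      rfl
    have htop : (⊤ : Submodule F VV).map (Matrix.toLin' (y : MM)) = ⊤ := by
      rw [Submodule.map_top, LinearMap.range_eq_top]
      intro v
      refine ⟨((y⁻¹ : GL (Fin d ⊕ Fin d) F) : MM) *ᵥ v, ?_⟩
      rw [Matrix.toLin'_apply, Matrix.mulVec_mulVec, ← Units.val_mul, mul_inv_cancel, Units.val_one,
        Matrix.one_mulVec]
    have := nondegOn_fixed (B := stdSymp d F) (Matrix.toLin' (y : MM)) hiso r hr0 hpow ⊤ htop
      (nondegOn_top d)
    rwa [top_inf_eq] at this
  · right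
    constructor
    · have hs := (centralises_or_small ρ K hK y hmem).resolve_left hc
      rw [Fintype.card_sum, Fintype.card_fin] at hs
      omega
    · have hfinF : Finite F := inferInstance
      exact dvd_finrank_of_not_centralises ρ K hK y hmem r hr (fun a => by
          rw [hyr, Units.val_one, one_mul, mul_one]) hc

end cases

end Cfsg.Agent.Lib.Helper15.PSpM
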