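import Mathlib
import Cfsg.Agent.Lib.Helper15.PSpM5

/-!
# Transvections and reflections-like involutions of the symplectic group
-/

set_option autoImplicit false
set_option linter.unusedSectionVars false

namespace Cfsg.Agent.Lib.Helper15.PSpM

open Module Matrix Cfsg.Agent.Lib.Helper15 Cfsg.Agent.Lib.Helper6 Cfsg.Agent.Lib.Helper15.PSpI
  Cfsg.Agent.Lib.Helper15.PSpJ Cfsg.Agent.Lib.Helper29.SPO Cfsg.Agent.Lib.Helper15.PSpL
  Cfsg.Agent.Lib.Helper15.PSub

section elts

variable {F : Type*} [Field F] {d : ℕ}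

local notation "VV" => (Fin d ⊕ Fin d → F)
local notation "MM" => Matrix (Fin d ⊕ Fin d) (Fin d ⊕ Fin d) F

theorem finrank_VV : finrank F VV = 2 * d := by
  rw [Module.finrank_pi, Fintype.card_sum, Fintype.card_fin]; ring

/-- a transvection -/
theorem exists_transvection (p : ℕ) [CharP F p] (hd : 1 ≤ d) :
    ∃ t : GL (Fin d ⊕ Fin d) F, t ∈ Cfsg.spGL d F ∧ t ^ p = 1 ∧
      finrank F (Module.End.eigenspace (Matrix.toLin' (t : MM)) 1) = 2 * d - 1 ∧
      ∀ z : F, (t : MM) ≠ z • (1 : MM) := by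
  classical
  obtain ⟨i₀, hi₀⟩ : ∃ i₀ : Fin d, i₀ = ⟨0, by omega⟩ := ⟨_, rfl⟩
  obtain ⟨v, hv⟩ : ∃ v : VV, v = Pi.single (Sum.inl i₀) 1 := ⟨_, rfl⟩
  have hT0 : Cfsg.sympTransvection d v (0 : F) = 1 := by
    unfold Cfsg.sympTransvection
    rw [zero_smul, add_zero]
  obtain ⟨s, hs⟩ : ∃ s : ↥(Matrix.symplecticGroup (Fin d) F),
      s = ⟨Cfsg.sympTransvection d v 1, sympTransvection_mem v 1⟩ := ⟨_, rfl⟩
  have hspow : ∀ n : ℕ, ((s ^ n : ↥(Matrix.symplecticGroup (Fin d) F)) : MM) =
      Cfsg.sympTransvection d v (n : F) := by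
    intro n
    induction n with
    | zero => rw [pow_zero, Nat.cast_zero, hT0]; rfl
    | succ n ih =>
      rw [pow_succ, Submonoid.coe_mul, ih, hs, sympTransvection_mul, Nat.cast_succ]
  have hfix : ∀ x : VV, (s : MM) *ᵥ x = x + x (Sum.inr i₀) • v := by
    intro x
    rw [hs]
    change Cfsg.sympTransvection d v 1 *ᵥ x = _
    rw [sympTransvection_mulVec, one_mul, hv, sympForm_single_right_inl]
  refine ⟨ofSp s, ofSp_mem s, ?_, ?_, ?_⟩
  · rw [← map_pow]
    have : s ^ p = 1 := by
      apply Subtype.ext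
      rw [hspow, CharP.cast_eq_zero, hT0]
      rfl
    rw [this, map_one]
  · rw [ofSp_coe]
    have hker : Module.End.eigenspace (Matrix.toLin' (s : MM)) 1 =
        LinearMap.ker (LinearMap.proj (R := F) (φ := fun _ : Fin d ⊕ Fin d => F) (Sum.inr i₀)) := by
      ext x
      rw [Module.End.mem_eigenspace_iff, one_smul, Matrix.toLin'_apply, hfix, LinearMap.mem_ker,
        LinearMap.proj_apply]
      constructor
      · intro h
        have h1 : x (Sum.inr i₀) • v = 0 := by
          have := congrArg (fun w => w - x) h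
          simpa using this
        have h2 := congrFun h1 (Sum.inl i₀)
        rw [hv] at h2
        simpa using h2
      · intro h
        rw [h, zero_smul, add_zero]
    rw [hker]
    have hne : (LinearMap.proj (R := F) (φ := fun _ : Fin d ⊕ Fin d => F) (Sum.inr i₀)) ≠ 0 := by
      intro h
      have := congrArg (fun f => f (Pi.single (Sum.inr i₀) (1 : F))) h
      simp at this
    have := Module.Dual.finrank_ker_add_one_of_ne_zero hne
    rw [finrank_VV] at this
    omega
  · intro z hz
    rw [ofSp_coe] at hz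
    have h1 := hfix (Pi.single (Sum.inr i₀) 1)
    rw [hz, Matrix.smul_mulVec, Matrix.one_mulVec] at h1
    have h2 := congrFun h1 (Sum.inl i₀)
    rw [hv] at h2
    simp at h2

/-- an involution with a fixed space of codimension two -/
theorem exists_involution (h2 : (2 : F) ≠ 0) (hd : 2 ≤ d) :
    ∃ t : GL (Fin d ⊕ Fin d) F, t ∈ Cfsg.spGL d F ∧ t ^ 2 = 1 ∧
      finrank F (Module.End.eigenspace (Matrix.toLin' (t : MM)) 1) = 2 * d - 2 ∧
      ∀ z : F, (t : MM) ≠ z • (1 : MM) := by
  classical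
  obtain ⟨i₀, hi₀⟩ : ∃ i₀ : Fin d, i₀ = ⟨0, by omega⟩ := ⟨_, rfl⟩
  obtain ⟨i₁, hi₁⟩ : ∃ i₁ : Fin d, i₁ = ⟨1, by omega⟩ := ⟨_, rfl⟩
  have hi01 : i₀ ≠ i₁ := by
    rw [hi₀, hi₁]
    intro h
    have := congrArg Fin.val h
    simp at this
  obtain ⟨δ, hδ⟩ : ∃ δ : Fin d ⊕ Fin d → F,
      δ = fun c => if c = Sum.inl i₀ ∨ c = Sum.inr i₀ then -1 else 1 := ⟨_, rfl⟩
  have hδl : ∀ i, δ (Sum.inl i) = if i = i₀ then -1 else 1 := by
    intro i
    rw [hδ]
    simp
  have hδr : ∀ i, δ (Sum.inr i) = if i = i₀ then -1 else 1 := by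
    intro i
    rw [hδ]
    simp
  have hmul : ∀ u : VV, Matrix.diagonal δ *ᵥ u = fun c => δ c * u c := by
    intro u
    funext c
    exact Matrix.mulVec_diagonal δ u c
  have hmem : Matrix.diagonal δ ∈ Matrix.symplecticGroup (Fin d) F := by
    rw [mem_symplecticGroup_iff_preserves]
    intro u v
    rw [hmul, hmul, sympForm_eq_sum, sympForm_eq_sum]
    apply Finset.sum_congr rfl
    intro i _
    simp only [hδl, hδr]
    split_ifs <;> ring
  obtain ⟨s, hs⟩ : ∃ s : ↥(Matrix.symplecticGroup (Fin d) F), s = ⟨Matrix.diagonal δ, hmem⟩ :=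
    ⟨_, rfl⟩
  have hsc : (s : MM) = Matrix.diagonal δ := by rw [hs]
  refine ⟨ofSp s, ofSp_mem s, ?_, ?_, ?_⟩
  · rw [← map_pow]
    have : s ^ 2 = 1 := by
      apply Subtype.ext
      rw [pow_two, Submonoid.coe_mul, hsc, Matrix.diagonal_mul_diagonal]
      change _ = (1 : MM)
      rw [← Matrix.diagonal_one]
      congr 1
      funext c
      rw [hδ]
      simp only
      split_ifs <;> ring
    rw [this, map_one]
  · rw [ofSp_coe, hsc, Module.End.eigenspace_def, one_smul]
    have h1 : Matrix.toLin' (Matrix.diagonal δ) - 1 =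
        Matrix.toLin' (Matrix.diagonal (fun c => δ c - 1)) := by
      refine LinearMap.ext fun u => ?_
      funext c
      rw [LinearMap.sub_apply, Module.End.one_apply, Matrix.toLin'_apply, Matrix.toLin'_apply,
        Pi.sub_apply, Matrix.mulVec_diagonal, Matrix.mulVec_diagonal, sub_mul, one_mul]
    rw [h1]
    have h3 := LinearMap.finrank_range_add_finrank_ker
      (Matrix.toLin' (Matrix.diagonal (fun c => δ c - 1)))
    have h4 : finrank F (LinearMap.range (Matrix.toLin' (Matrix.diagonal (fun c => δ c - 1)))) =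
        (Matrix.diagonal (fun c => δ c - 1)).rank := by
      rw [Matrix.toLin'_apply']
      rfl
    have h5 : Fintype.card {c : Fin d ⊕ Fin d // δ c - 1 ≠ 0} = 2 := by
      have : ∀ c, δ c - 1 ≠ 0 ↔ c = Sum.inl i₀ ∨ c = Sum.inr i₀ := by
        intro c
        rw [hδ]
        simp only
        split_ifs with hc
        · simp only [hc, iff_true]
          intro h
          apply h2
          linear_combination -h
        · simp [hc]
      rw [Fintype.card_subtype]
      have : (Finset.univ.filter fun c : Fin d ⊕ Fin d => δ c - 1 ≠ 0) =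
          {Sum.inl i₀, Sum.inr i₀} := by
        ext c
        simp only [Finset.mem_filter, Finset.mem_univ, true_and, Finset.mem_insert,
          Finset.mem_singleton]
        exact this c
      rw [this, Finset.card_pair]
      simp
    rw [h4, Matrix.rank_diagonal, h5, finrank_VV] at h3
    omega
  · intro z hz
    rw [ofSp_coe, hsc] at hz
    have h3 := congrFun (congrFun hz (Sum.inl i₀)) (Sum.inl i₀)
    have h4 := congrFun (congrFun hz (Sum.inl i₁)) (Sum.inl i₁)
    rw [Matrix.diagonal_apply_eq, Matrix.smul_apply, Matrix.one_apply_eq, smul_eq_mul, mul_one]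
      at h3 h4
    rw [hδl, if_pos rfl] at h3
    rw [hδl, if_neg (Ne.symm hi01)] at h4
    apply h2
    rw [← h3] at h4
    linear_combination h4

end elts

end Cfsg.Agent.Lib.Helper15.PSpM
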