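import Mathlib
import Cfsg.Agent.Lib.Helper15.PSpM6

/-!
# Field extension subgroups of the symplectic group: necessity
-/

set_option autoImplicit false
set_option linter.unusedSectionVars false

namespace Cfsg.Agent.Lib.Helper15.PSpM

open Module Matrix Cfsg.Agent.Lib.Helper15 Cfsg.Agent.Lib.Helper6 Cfsg.Agent.Lib.Helper15.PSpI
  Cfsg.Agent.Lib.Helper15.PSpJ Cfsg.Agent.Lib.Helper29.SPO Cfsg.Agent.Lib.Helper15.PSpL
  Cfsg.Agent.Lib.Helper15.PSub

section nec

variable {F L : Type*} [Field F] [Fintype F] [Field L] [Algebra F L] [FiniteDimensional F L] {d : ℕ}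

local notation "VV" => (Fin d ⊕ Fin d → F)
local notation "MM" => Matrix (Fin d ⊕ Fin d) (Fin d ⊕ Fin d) F

theorem necessity (p : ℕ) [hp : Fact p.Prime] [CharP F p] (hd : 2 ≤ d) (ρ : L →ₐ[F] MM)
    (K : Subalgebra F MM) (hK : ∀ m, m ∈ K ↔ ∃ a, ρ a = m)
    (hsa : ∀ (a : L) (u v : VV), Cfsg.sympForm d F (ρ a *ᵥ u) v = Cfsg.sympForm d F u (ρ a *ᵥ v))
    (halt : ∀ (a : L) (v : VV), Cfsg.sympForm d F (ρ a *ᵥ v) v = 0)
    (k : ℕ) (hk : k.Prime) (hkL : finrank F L = k) (r : ℕ) [hr : Fact r.Prime]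
    (hΩ : r ∣ (Cfsg.Geo.subalgebraNormalizer K).relIndex (Cfsg.spGL d F))
    (hall : ∀ x ∈ Cfsg.spGL d F,
      (∃ z : F, ((x ^ r : GL (Fin d ⊕ Fin d) F) : MM) = z • (1 : MM)) →
      (∀ z : F, (x : MM) ≠ z • (1 : MM)) →
      ∃ g ∈ Cfsg.spGL d F, g⁻¹ * x * g ∈ Cfsg.Geo.subalgebraNormalizer K) :
    r = 2 ∧ d = 2 ∧ k = 2 ∧ Odd (Fintype.card F) := by
  classical
  obtain ⟨e, hde, hdvd⟩ := relIndex_mul_dvd ρ K hK hsa halt
  rw [hkL] at hde hdvd
  have hk2 := hk.two_le
  have he1 : 1 ≤ e := by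
    rcases Nat.eq_zero_or_pos e with h | h
    · rw [h, mul_zero] at hde; omega
    · exact h
  have hkd : k ≤ d := by
    rw [hde]
    exact Nat.le_mul_of_pos_right k he1
  have hscal : ∀ x : GL (Fin d ⊕ Fin d) F, x ^ r = 1 →
      ∃ z : F, ((x ^ r : GL (Fin d ⊕ Fin d) F) : MM) = z • (1 : MM) := by
    intro x hx
    exact ⟨1, by rw [hx, one_smul]; rfl⟩
  by_cases hrp : r = p
  · exfalso
    obtain ⟨t, ht1, ht2, ht3, ht4⟩ := exists_transvection (F := F) (d := d) p (by omega)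
    rw [← hrp] at ht2
    obtain ⟨g, hg, hmem⟩ := hall t ht1 (hscal t ht2) ht4
    rcases conj_mem_cases (by omega) ρ K hK hsa halt r hr.out t ht1 ht2 g hg hmem with h | h
    · rw [ht3, hkL] at h
      have h1 : k ∣ 2 * d := ⟨2 * e, by rw [hde]; ring⟩
      have h2 : k ∣ 1 := by
        have := (Nat.dvd_sub h1 h.1)
        have e1 : 2 * d - (2 * d - 1) = 1 := by omega
        rwa [e1] at this
      have := Nat.le_of_dvd one_pos h2
      omega
    · rw [ht3] at h
      omega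
  have hrq : ¬ r ∣ Fintype.card F := by
    intro h
    obtain ⟨n, hn⟩ := FiniteField.card F p
    rw [hn.2] at h
    have := (Nat.prime_dvd_prime_iff_eq hr.out hp.out).mp (hr.out.dvd_of_dvd_pow h)
    exact hrp this
  have hr0 : (r : F) ≠ 0 := by
    intro h
    rw [CharP.cast_eq_zero_iff F p] at h
    exact hrp ((Nat.prime_dvd_prime_iff_eq hp.out hr.out).mp h).symm
  by_cases hr2 : r = 2
  · have h2F : (2 : F) ≠ 0 := by
      rw [hr2] at hr0
      exact_mod_cast hr0
    obtain ⟨t, ht1, ht2, ht3, ht4⟩ := exists_involution (F := F) (d := d) h2F hd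
    rw [← hr2] at ht2
    obtain ⟨g, hg, hmem⟩ := hall t ht1 (hscal t ht2) ht4
    rcases conj_mem_cases (by omega) ρ K hK hsa halt r hr.out t ht1 ht2 g hg hmem with h | h
    · exfalso
      have h3 := h.2 hr0
      rw [ht3, hkL] at h3
      have h1 : 2 * k ∣ 2 * d := ⟨e, by rw [hde]; ring⟩
      have h2 : 2 * k ∣ 2 := by
        have := (Nat.dvd_sub h1 h3)
        have e1 : 2 * d - (2 * d - 2) = 2 := by omega
        rwa [e1] at this
      have := Nat.le_of_dvd two_pos h2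
      omega
    · rw [ht3, hkL] at h
      have hd2 : d = 2 := by omega
      have hk2' : k = 2 := by omega
      refine ⟨hr2, hd2, hk2', ?_⟩
      rw [Nat.odd_iff]
      apply FiniteField.odd_card_of_char_ne_two
      rw [ringChar.eq F p]
      intro hp2
      apply h2F
      have := CharP.cast_eq_zero F p
      rw [hp2] at this
      exact_mod_cast this
  · exfalso
    have hq2 : 2 ≤ Fintype.card F := Fintype.one_lt_card
    obtain ⟨j, hj1, hjd, hkj, hrj⟩ := exists_of_dvd_index (Fintype.card F) k e d r _ hq2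
      (by omega) hde hr.out hrq hΩ hdvd
    obtain ⟨c, hc⟩ : ∃ c, c = cOf (orderOf ((Fintype.card F : ℕ) : ZMod r)) := ⟨_, rfl⟩
    have hcj : c ∣ 2 * j := by
      rw [hc]
      apply cOf_dvd_of_dvd
      rw [orderOf_zmod_dvd_iff _ _ _ (by omega)]
      exact hrj
    have hc2d : c ≤ 2 * d := by
      have := Nat.le_of_dvd (by omega) hcj
      omega
    have hcr : c ≤ r - 1 := by
      rw [hc]
      exact cOf_le_pred p r hr2 hrp
    obtain ⟨x, hx1, hx2, hx3⟩ := exists_elt (F := F) p r hr2 hrp d 1 le_rfl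
      (by rw [← hc, mul_one]; exact hc2d)
    rw [← hc, mul_one] at hx2
    have hxr : (ofSp x) ^ r = 1 := by
      apply Units.ext
      rw [Units.val_pow_eq_pow_val, ofSp_coe, Units.val_one]
      apply Matrix.toLin'.injective
      rw [Matrix.toLin'_pow, hx1, Matrix.toLin'_one]
      rfl
    obtain ⟨g, hg, hmem⟩ := hall (ofSp x) (ofSp_mem x) (hscal _ hxr) (by rw [ofSp_coe]; exact hx3)
    rcases conj_mem_cases (by omega) ρ K hK hsa halt r hr.out (ofSp x) (ofSp_mem x) hxr g hg hmem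
      with h | h
    · have h3 := h.2 hr0
      rw [ofSp_coe, hx2, hkL] at h3
      have h1 : 2 * k ∣ 2 * d := ⟨e, by rw [hde]; ring⟩
      have h2 : 2 * k ∣ c := by
        have := (Nat.dvd_sub h1 h3)
        have e1 : 2 * d - (2 * d - c) = c := by omega
        rwa [e1] at this
      have h4 : 2 * k ∣ 2 * j := h2.trans hcj
      exact hkj (Nat.dvd_of_mul_dvd_mul_left two_pos h4)
    · rw [ofSp_coe, hx2, hkL] at h
      have hrk : r = k := (Nat.prime_dvd_prime_iff_eq hr.out hk).mp h.2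
      omega

end nec

end Cfsg.Agent.Lib.Helper15.PSpM
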