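import Mathlib
import Cfsg.Agent.Lib.Helper15.PSpM7

/-!
# Field subalgebras of degree two: generators and the normaliser (general index type)
-/

set_option autoImplicit false
set_option linter.unusedSectionVars false

namespace Cfsg.Agent.Lib.Helper15.PSpM

open Module Submodule Matrix

section kstruct

variable {F : Type*} [Field F] {ι : Type} [Fintype ι] [DecidableEq ι] [Nonempty ι]

/-- a generator of a field subalgebra of degree two -/
theorem exists_gen (K : Subalgebra F (Matrix ι ι F))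
    (hK : Cfsg.Geo.IsFieldSubalgebra 2 K) :
    ∃ J ∈ K, (∀ c : F, J ≠ c • (1 : Matrix ι ι F)) ∧
      ∀ k ∈ K, ∃ a b : F, k = a • (1 : Matrix ι ι F) + b • J := by
  classical
  have h1 : (1 : Matrix ι ι F) ≠ 0 := by
    intro h
    obtain ⟨i⟩ := ‹Nonempty ι›
    have := congrFun (congrFun h i) i
    simp at this
  -- some element of `K` is not scalar
  obtain ⟨J, hJK, hJ⟩ : ∃ J ∈ K, ∀ c : F, J ≠ c • (1 : Matrix ι ι F) := by
    by_contra hall
    have hall' : ∀ J ∈ K, ∃ c : F, J = c • (1 : Matrix ι ι F) := by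
      intro J hJ
      by_contra hc
      exact hall ⟨J, hJ, fun c hc' => hc ⟨c, hc'⟩⟩
    have hle : finrank F K ≤ 1 := by
      apply finrank_le_one (1 : K)
      intro k
      obtain ⟨c, hc⟩ := hall' k.1 k.2
      refine ⟨c, ?_⟩
      apply Subtype.ext
      rw [hc]
      rfl
    rw [hK.finrank_eq] at hle
    omega
  refine ⟨J, hJK, hJ, ?_⟩
  have hli : LinearIndependent F ![(1 : K), (⟨J, hJK⟩ : K)] := by
    rw [LinearIndependent.pair_iff]
    intro s t hst
    have hst' : s • (1 : Matrix ι ι F) + t • J = 0 := by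
      have := congrArg Subtype.val hst
      exact this
    by_cases ht : t = 0
    · rw [ht, zero_smul, add_zero] at hst'
      rcases smul_eq_zero.mp hst' with h | h
      · exact ⟨h, ht⟩
      · exact absurd h h1
    · exfalso
      apply hJ (-(t⁻¹ * s))
      have h3 : t • J = -(s • (1 : Matrix ι ι F)) := eq_neg_of_add_eq_zero_right hst'
      calc J = t⁻¹ • (t • J) := by rw [smul_smul, inv_mul_cancel₀ ht, one_smul]
        _ = -(t⁻¹ * s) • (1 : Matrix ι ι F) := by
            rw [h3, smul_neg, smul_smul, neg_smul]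
  have hspan : span F (Set.range ![(1 : K), (⟨J, hJK⟩ : K)]) = ⊤ := by
    apply hli.span_eq_top_of_card_eq_finrank
    rw [Fintype.card_fin, hK.finrank_eq]
  intro k hk
  have hmem : (⟨k, hk⟩ : K) ∈ span F (Set.range ![(1 : K), (⟨J, hJK⟩ : K)]) := by
    rw [hspan]
    trivial
  have hr : Set.range ![(1 : K), (⟨J, hJK⟩ : K)] = {(1 : K), (⟨J, hJK⟩ : K)} := by
    rw [Matrix.range_cons, Matrix.range_cons, Matrix.range_empty, Set.union_empty]
    rfl
  rw [hr, Submodule.mem_span_pair] at hmem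
  obtain ⟨a, b, hab⟩ := hmem
  refine ⟨a, b, ?_⟩
  have := congrArg Subtype.val hab
  exact this.symm

/-- two-sided inverses in a field subalgebra -/
theorem exists_inv (K : Subalgebra F (Matrix ι ι F)) {r : ℕ}
    (hK : Cfsg.Geo.IsFieldSubalgebra r K) (k : Matrix ι ι F) (hk : k ∈ K)
    (hk0 : k ≠ 0) : ∃ y ∈ K, k * y = 1 ∧ y * k = 1 := by
  obtain ⟨y, hy, hky⟩ := hK.inv k hk hk0
  exact ⟨y, hy, hky, by rw [hK.comm y hy k hk]; exact hky⟩

/-- in odd characteristic the generator can be chosen with scalar non-square square -/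
theorem exists_gen_odd (h2 : (2 : F) ≠ 0) (K : Subalgebra F (Matrix ι ι F))
    (hK : Cfsg.Geo.IsFieldSubalgebra 2 K) :
    ∃ J ∈ K, ∃ z : F, ¬ IsSquare z ∧ J * J = z • (1 : Matrix ι ι F) ∧
      (∀ c : F, J ≠ c • (1 : Matrix ι ι F)) ∧
      ∀ k ∈ K, ∃ a b : F, k = a • (1 : Matrix ι ι F) + b • J := by
  obtain ⟨J₀, hJ₀K, hJ₀ns, hgen⟩ := exists_gen K hK
  obtain ⟨α, β, hq⟩ := hgen (J₀ * J₀) (K.mul_mem hJ₀K hJ₀K)
  set J : Matrix ι ι F := J₀ - (β / 2) • 1 with hJ
  have hJK : J ∈ K := K.sub_mem hJ₀K (K.smul_mem K.one_mem _)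
  have hJns : ∀ c : F, J ≠ c • (1 : Matrix ι ι F) := by
    intro c hc
    apply hJ₀ns (c + β / 2)
    rw [add_smul, ← hc, hJ]
    abel
  obtain ⟨c, hc⟩ : ∃ c : F, c = β / 2 := ⟨_, rfl⟩
  have hβ : β = c + c := by
    rw [hc]
    field_simp
    ring
  have hJJ : J * J = (α + c * c) • (1 : Matrix ι ι F) := by
    rw [hJ, ← hc, Matrix.sub_mul, Matrix.mul_sub, Matrix.mul_sub, hq, hβ]
    simp only [Matrix.smul_mul, Matrix.mul_smul, Matrix.one_mul, Matrix.mul_one, smul_smul]
    module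
  refine ⟨J, hJK, α + c * c, ?_, hJJ, hJns, ?_⟩
  · rintro ⟨s, hs⟩
    have h3 : (J - s • 1) * (J + s • 1) = 0 := by
      rw [Matrix.sub_mul, Matrix.mul_add, Matrix.mul_add, hJJ, hs]
      simp only [Matrix.smul_mul, Matrix.mul_smul, Matrix.one_mul, Matrix.mul_one, smul_smul]
      abel
    have h4 : J - s • 1 ≠ 0 := fun h => hJns s (sub_eq_zero.mp h)
    obtain ⟨y, -, -, hy⟩ := exists_inv K hK _ (K.sub_mem hJK (K.smul_mem K.one_mem s)) h4
    have h5 := congrArg (fun M => y * M) h3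
    simp only [← Matrix.mul_assoc, hy, Matrix.one_mul, Matrix.mul_zero] at h5
    apply hJns (-s)
    rw [neg_smul]
    exact eq_neg_of_add_eq_zero_left h5
  · intro k hk
    obtain ⟨a, b, hab⟩ := hgen k hk
    refine ⟨a + b * (β / 2), b, ?_⟩
    rw [hab, hJ, smul_sub, add_smul, smul_smul]
    abel

/-- membership in the normaliser from the image of a generator -/
theorem mem_normalizer_of_gen (K : Subalgebra F (Matrix ι ι F))
    (J : Matrix ι ι F) (hJK : J ∈ K)
    (hgen : ∀ k ∈ K, ∃ a b : F, k = a • (1 : Matrix ι ι F) + b • J)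
    (g : GL ι F) (ε a : F) (hε : ε ≠ 0)
    (h : (g : Matrix ι ι F) * J =
      (ε • J + a • (1 : Matrix ι ι F)) * (g : Matrix ι ι F)) :
    g ∈ Cfsg.Geo.subalgebraNormalizer K := by
  set G : Matrix ι ι F := (g : Matrix ι ι F) with hG
  set Gi : Matrix ι ι F := ((g⁻¹ : GL ι F) : Matrix ι ι F) with hGi
  have hGGi : G * Gi = 1 := by
    rw [hG, hGi, ← Units.val_mul, mul_inv_cancel, Units.val_one]
  have hGiG : Gi * G = 1 := by
    rw [hG, hGi, ← Units.val_mul, inv_mul_cancel, Units.val_one]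
  have h1 : G * J * Gi = ε • J + a • (1 : Matrix ι ι F) := by
    rw [h, Matrix.mul_assoc, hGGi, Matrix.mul_one]
  have h2 : Gi * J * G = ε⁻¹ • J - (ε⁻¹ * a) • (1 : Matrix ι ι F) := by
    have h3 : Gi * (G * J) * Gi = Gi * ((ε • J + a • (1 : Matrix ι ι F)) * G) * Gi := by
      rw [h]
    rw [← Matrix.mul_assoc, hGiG, Matrix.one_mul, Matrix.mul_assoc, Matrix.mul_assoc, hGGi,
      Matrix.mul_one] at h3
    -- `h3 : J * Gi = Gi * (ε • J + a • 1)`
    have h4 : J = Gi * (ε • J + a • (1 : Matrix ι ι F)) * G := by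
      rw [← h3, Matrix.mul_assoc, hGiG, Matrix.mul_one]
    have h5 : J = ε • (Gi * J * G) + a • (1 : Matrix ι ι F) := by
      nth_rewrite 1 [h4]
      rw [Matrix.mul_add, Matrix.add_mul, Matrix.mul_smul, Matrix.smul_mul, Matrix.mul_smul,
        Matrix.smul_mul, Matrix.mul_one, hGiG]
    have h6 : ε • (Gi * J * G) = J - a • (1 : Matrix ι ι F) := by
      nth_rewrite 2 [h5]
      abel
    calc Gi * J * G = ε⁻¹ • (ε • (Gi * J * G)) := by
          rw [smul_smul, inv_mul_cancel₀ hε, one_smul]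
      _ = ε⁻¹ • J - (ε⁻¹ * a) • (1 : Matrix ι ι F) := by
          rw [h6, smul_sub, smul_smul]
  show ∀ k : Matrix ι ι F, k ∈ K ↔ G * k * Gi ∈ K
  intro k
  constructor
  · intro hk
    obtain ⟨α, β, hαβ⟩ := hgen k hk
    have h7 : G * k * Gi = α • (1 : Matrix ι ι F) + β • (G * J * Gi) := by
      rw [hαβ, Matrix.mul_add, Matrix.add_mul, Matrix.mul_smul, Matrix.smul_mul, Matrix.mul_one,
        hGGi, Matrix.mul_smul, Matrix.smul_mul]
    rw [h7, h1]
    exact K.add_mem (K.smul_mem K.one_mem _)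
      (K.smul_mem (K.add_mem (K.smul_mem hJK _) (K.smul_mem K.one_mem _)) _)
  · intro hk
    obtain ⟨α, β, hαβ⟩ := hgen _ hk
    have h8 : k = Gi * (G * k * Gi) * G := by
      rw [Matrix.mul_assoc, Matrix.mul_assoc, hGiG, Matrix.mul_one, ← Matrix.mul_assoc, hGiG,
        Matrix.one_mul]
    have h9 : k = α • (1 : Matrix ι ι F) + β • (Gi * J * G) := by
      rw [h8, hαβ, Matrix.mul_add, Matrix.add_mul, Matrix.mul_smul, Matrix.smul_mul,
        Matrix.mul_one, hGiG, Matrix.mul_smul, Matrix.smul_mul]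
    rw [h9, h2]
    exact K.add_mem (K.smul_mem K.one_mem _)
      (K.smul_mem (K.sub_mem (K.smul_mem hJK _) (K.smul_mem K.one_mem _)) _)


end kstruct

end Cfsg.Agent.Lib.Helper15.PSpM
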