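import Mathlib
import Cfsg.Agent.Lib.Helper15.PInv4
import Cfsg.Agent.Lib.Helper15.PSub6

/-!
# Involutions of `PSL_n(q)` and the symplectic subgroup: number theory and the main theorems
-/

set_option autoImplicit false

namespace Cfsg.Agent.Lib.Helper15.PInv

open Module Submodule Polynomial Cfsg.Agent.Lib.Helper15.PSub

section nt

variable {F : Type*} [Field F] [Fintype F]

/-- if `w^n = -1` in a finite field with `2 ≠ 0` then `v_2(n) < v_2(q - 1)` -/
theorem lt_of_pow_eq_neg_one (h2 : (2 : F) ≠ 0) (n : ℕ) (hn : n ≠ 0) (w : F)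
    (hw : w ^ n = -1) : padicValNat 2 n < padicValNat 2 (Fintype.card F - 1) := by
  set a := padicValNat 2 n with ha
  obtain ⟨n', hn'⟩ := pow_padicValNat_dvd (p := 2) (n := n)
  rw [← ha] at hn'
  have hodd : Odd n' := by
    rw [← Nat.not_even_iff_odd, even_iff_two_dvd]
    rintro ⟨t, ht⟩
    apply pow_succ_padicValNat_not_dvd (p := 2) hn
    rw [← ha, hn', ht, pow_succ]
    exact ⟨t, by ring⟩
  have h11 : (-1 : F) ≠ 1 := by
    intro h
    apply h2
    have : (1 : F) + 1 = 0 := by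
      nth_rewrite 1 [← h]
      exact neg_add_cancel 1
    rw [← one_add_one_eq_two]
    exact this
  have hw0 : w ≠ 0 := by
    rintro rfl
    rw [zero_pow hn] at hw
    have : (1 : F) = 0 := by
      have := congrArg Neg.neg hw
      simpa using this.symm
    exact one_ne_zero this
  let U : Fˣ := Units.mk0 (w ^ n') (pow_ne_zero _ hw0)
  have hU1 : (U ^ 2 ^ a : Fˣ) = -1 := by
    apply Units.ext
    show (w ^ n') ^ 2 ^ a = ((-1 : Fˣ) : F)
    rw [← pow_mul, mul_comm, ← hn', hw]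
    simp
  have hnot : ¬ U ^ 2 ^ a = 1 := by
    rw [hU1]
    intro h
    apply h11
    have := congrArg Units.val h
    simpa using this
  have hfin : U ^ 2 ^ (a + 1) = 1 := by
    rw [pow_succ, pow_mul, hU1]
    simp
  have hord : orderOf U = 2 ^ (a + 1) := orderOf_eq_prime_pow hnot hfin
  have hdvd : 2 ^ (a + 1) ∣ Fintype.card F - 1 := by
    rw [← hord]
    have := orderOf_dvd_natCard U
    rwa [Nat.card_units, Nat.card_eq_fintype_card] at this
  have hq1 : Fintype.card F - 1 ≠ 0 := by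
    have := Fintype.one_lt_card (α := F)
    omega
  have := (padicValNat_dvd_iff_le hq1).mp hdvd
  omega

/-- if `v_2(n) < v_2(q - 1)` there is `w` with `w^n = -1` -/
theorem exists_pow_eq_neg_one (n : ℕ) (hn : n ≠ 0)
    (h : padicValNat 2 n < padicValNat 2 (Fintype.card F - 1)) : ∃ w : F, w ^ n = -1 := by
  set a := padicValNat 2 n with ha
  obtain ⟨n', hn'⟩ := pow_padicValNat_dvd (p := 2) (n := n)
  rw [← ha] at hn'
  have hodd : Odd n' := by
    rw [← Nat.not_even_iff_odd, even_iff_two_dvd]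
    rintro ⟨t, ht⟩
    apply pow_succ_padicValNat_not_dvd (p := 2) hn
    rw [← ha, hn', ht, pow_succ]
    exact ⟨t, by ring⟩
  have hq1 : Fintype.card F - 1 ≠ 0 := by
    have := Fintype.one_lt_card (α := F)
    omega
  have hdvd : 2 ^ (a + 1) ∣ Fintype.card F - 1 := (padicValNat_dvd_iff_le hq1).mpr (by omega)
  obtain ⟨g, hg, -⟩ := exists_gen (F := F)
  obtain ⟨e, he⟩ := hdvd
  have he0 : e ≠ 0 := by
    rintro rfl
    rw [mul_zero] at he
    exact hq1 he
  have hordu : orderOf (g ^ e) = 2 ^ (a + 1) := by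
    rw [orderOf_pow_of_dvd he0 (by rw [hg, he]; exact Dvd.intro_left _ rfl), hg, he]
    exact Nat.mul_div_cancel _ (Nat.pos_of_ne_zero he0)
  set u : Fˣ := g ^ e with hu
  have hy2 : ((u : F) ^ 2 ^ a) * ((u : F) ^ 2 ^ a) = 1 := by
    rw [← pow_add, ← two_mul, ← pow_succ', ← Units.val_pow_eq_pow_val, ← hordu, pow_orderOf_eq_one]
    rfl
  have hy1 : (u : F) ^ 2 ^ a ≠ 1 := by
    intro h1
    have h3 : u ^ 2 ^ a = 1 := by
      apply Units.ext
      rw [Units.val_pow_eq_pow_val, h1]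
      rfl
    have h4 := orderOf_dvd_of_pow_eq_one h3
    rw [hordu] at h4
    have h5 := Nat.le_of_dvd (by positivity) h4
    have h6 : 2 ^ a < 2 ^ (a + 1) := Nat.pow_lt_pow_right (by norm_num) (by omega)
    omega
  have hy : (u : F) ^ 2 ^ a = -1 := by
    have h7 : ((u : F) ^ 2 ^ a - 1) * ((u : F) ^ 2 ^ a + 1) = 0 := by
      have : ((u : F) ^ 2 ^ a - 1) * ((u : F) ^ 2 ^ a + 1) =
          ((u : F) ^ 2 ^ a) * ((u : F) ^ 2 ^ a) - 1 := by ring
      rw [this, hy2, sub_self]
    rcases mul_eq_zero.mp h7 with h8 | h8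
    · exact absurd (sub_eq_zero.mp h8) hy1
    · exact eq_neg_of_add_eq_zero_left h8
  refine ⟨(u : F), ?_⟩
  rw [hn', pow_mul, hy, hodd.neg_one_pow]

end nt

end Cfsg.Agent.Lib.Helper15.PInv
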