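import Mathlib
import Cfsg.Agent.Lib.Helper15.PInv5

/-!
# Involutions of `PSL_n(q)` and the symplectic subgroup: the obstruction
-/

set_option autoImplicit false

namespace Cfsg.Agent.Lib.Helper15.PInv

open Module Submodule Polynomial Cfsg.Agent.Lib.Helper15.PSub

section bad

variable {F : Type*} [Field F]

/-- abstract obstruction: a similarity of a nondegenerate alternating form cannot be diagonal with
eigenvalues `-w, w, w, …` (at least three basis vectors). -/
theorem bad_abstract {V : Type*} [AddCommGroup V] [Module F V] (B : V →ₗ[F] V →ₗ[F] F)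
    (halt : ∀ v, B v v = 0)
    (hnd : ∀ x, (∀ y, B x y = 0) → x = 0) {ι : Type*} [Fintype ι] [DecidableEq ι]
    (b : Basis ι F V) (G : V →ₗ[F] V) (w : F) (hw : w ≠ 0) (h2 : (2 : F) ≠ 0) (i₀ i₁ i₂ : ι)
    (h01 : i₁ ≠ i₀) (h02 : i₂ ≠ i₀) (h12 : i₁ ≠ i₂)
    (hG0 : G (b i₀) = (-w) • b i₀) (hG : ∀ j, j ≠ i₀ → G (b j) = w • b j) (c : F)
    (hc : ∀ u v, B (G u) (G v) = c * B u v) : False := by
  have hrad : ∀ x, (∀ j, B x (b j) = 0) → x = 0 := by
    intro x hx
    apply hnd
    intro y
    have : B x = 0 := b.ext (fun j => by rw [hx j, LinearMap.zero_apply])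
    rw [this, LinearMap.zero_apply]
  by_cases hcw : c = w * w
  · apply b.ne_zero i₀
    apply hrad
    intro j
    by_cases hj : j = i₀
    · rw [hj]
      exact halt _
    · have h1 := hc (b i₀) (b j)
      rw [hG0, hG j hj, hcw] at h1
      simp only [map_smul, LinearMap.smul_apply, smul_eq_mul] at h1
      have h3 : (2 * (w * w)) * B (b i₀) (b j) = 0 := by linear_combination -h1
      rcases mul_eq_zero.mp h3 with h4 | h4
      · exact absurd h4 (mul_ne_zero h2 (mul_ne_zero hw hw))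
      · exact h4
  · have hz : ∀ i j, i ≠ i₀ → j ≠ i₀ → B (b i) (b j) = 0 := by
      intro i j hi hj
      have h1 := hc (b i) (b j)
      rw [hG i hi, hG j hj] at h1
      simp only [map_smul, LinearMap.smul_apply, smul_eq_mul] at h1
      have h3 : (w * w - c) * B (b i) (b j) = 0 := by linear_combination h1
      rcases mul_eq_zero.mp h3 with h4 | h4
      · exact absurd (sub_eq_zero.mp h4).symm hcw
      · exact h4
    set t₁ := B (b i₁) (b i₀) with ht₁
    set t₂ := B (b i₂) (b i₀) with ht₂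
    have hu : t₂ • b i₁ - t₁ • b i₂ = 0 := by
      apply hrad
      intro j
      rw [map_sub, LinearMap.sub_apply, map_smul, map_smul, LinearMap.smul_apply,
        LinearMap.smul_apply, smul_eq_mul, smul_eq_mul]
      by_cases hj : j = i₀
      · rw [hj, ← ht₁, ← ht₂]
        ring
      · rw [hz i₁ j h01 hj, hz i₂ j h02 hj]
        ring
    have ht₁0 : t₁ = 0 := by
      have h5 := congrArg (fun v => b.repr v i₂) hu
      simp only [map_sub, map_smul, Basis.repr_self, Finsupp.coe_sub, Finsupp.coe_smul,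
        Pi.sub_apply, Pi.smul_apply, smul_eq_mul, map_zero, Finsupp.coe_zero, Pi.zero_apply] at h5
      rw [Finsupp.single_eq_same, Finsupp.single_eq_of_ne h12.symm] at h5
      linear_combination -h5
    apply b.ne_zero i₁
    apply hrad
    intro j
    by_cases hj : j = i₀
    · rw [hj]
      exact ht₁0
    · exact hz i₁ j h01 hj

variable {n : ℕ}

/-- the element `diag(-w, w, …, w)` is not conjugate into the similarity group of a symplectic
form (`n ≥ 3`, odd characteristic). -/
theorem bad_not_conj (hn : 3 ≤ n) (f : (Fin n → F) → (Fin n → F) → F)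
    (hf : Cfsg.Geo.IsSymplecticForm f) (w : F) (hw : w ≠ 0) (h2 : (2 : F) ≠ 0) (i₀ : Fin n)
    (x : Matrix.SpecialLinearGroup (Fin n) F)
    (hx : (x : Matrix (Fin n) (Fin n) F) = Matrix.diagonal (fun i => if i = i₀ then -w else w))
    (P : Matrix.SpecialLinearGroup (Fin n) F) :
    P⁻¹ * x * P ∉ ((Cfsg.Geo.similarityGroup f).comap
        (Matrix.SpecialLinearGroup.toGL : Matrix.SpecialLinearGroup (Fin n) F →* GL (Fin n) F)) := by
  classical
  intro hmem
  rw [Subgroup.mem_comap] at hmem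
  obtain ⟨c, hc⟩ := hmem
  have hPP : ((P⁻¹ : Matrix.SpecialLinearGroup (Fin n) F) : Matrix (Fin n) (Fin n) F) *
      (P : Matrix (Fin n) (Fin n) F) = 1 := by
    rw [← Matrix.SpecialLinearGroup.coe_mul, inv_mul_cancel, Matrix.SpecialLinearGroup.coe_one]
  have hPP' : (P : Matrix (Fin n) (Fin n) F) *
      ((P⁻¹ : Matrix.SpecialLinearGroup (Fin n) F) : Matrix (Fin n) (Fin n) F) = 1 := by
    rw [← Matrix.SpecialLinearGroup.coe_mul, mul_inv_cancel, Matrix.SpecialLinearGroup.coe_one]
  let E : (Fin n → F) ≃ₗ[F] (Fin n → F) := Matrix.toLin'OfInv hPP' hPP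
  have hE : ∀ v, E v = ((P⁻¹ : Matrix.SpecialLinearGroup (Fin n) F) :
      Matrix (Fin n) (Fin n) F).mulVec v := by
    intro v
    show Matrix.toLin' _ v = _
    rw [Matrix.toLin'_apply]
  let b : Basis (Fin n) F (Fin n → F) := (Pi.basisFun F (Fin n)).map E
  have hb : ∀ i, b i = ((P⁻¹ : Matrix.SpecialLinearGroup (Fin n) F) :
      Matrix (Fin n) (Fin n) F).mulVec (Pi.single i 1) := by
    intro i
    show (Pi.basisFun F (Fin n)).map E i = _
    rw [Basis.map_apply, Pi.basisFun_apply, hE]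
  set Gm : Matrix (Fin n) (Fin n) F :=
    ((Matrix.SpecialLinearGroup.toGL (P⁻¹ * x * P) : GL (Fin n) F) : Matrix (Fin n) (Fin n) F)
    with hGm
  have hGm' : Gm = ((P⁻¹ : Matrix.SpecialLinearGroup (Fin n) F) : Matrix (Fin n) (Fin n) F) *
      (x : Matrix (Fin n) (Fin n) F) * (P : Matrix (Fin n) (Fin n) F) := by
    rw [hGm]
    show ((P⁻¹ * x * P : Matrix.SpecialLinearGroup (Fin n) F) : Matrix (Fin n) (Fin n) F) = _
    rw [Matrix.SpecialLinearGroup.coe_mul, Matrix.SpecialLinearGroup.coe_mul]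
  have hGb : ∀ i, Matrix.toLin' Gm (b i) = (if i = i₀ then -w else w) • b i := by
    intro i
    rw [Matrix.toLin'_apply, hb, hGm', Matrix.mulVec_mulVec, Matrix.mul_assoc, Matrix.mul_assoc,
      hPP', Matrix.mul_one, ← Matrix.mulVec_mulVec, hx, Matrix.diagonal_mulVec_single, mul_one,
      ← Matrix.mulVec_smul]
    congr 1
    rw [← Pi.single_smul, smul_eq_mul, mul_one]
  have h3 : ∃ i₁ i₂ : Fin n, i₁ ≠ i₀ ∧ i₂ ≠ i₀ ∧ i₁ ≠ i₂ := by
    have hcard : 3 ≤ Fintype.card (Fin n) := by rw [Fintype.card_fin]; exact hn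
    have h4 : 1 < (Finset.univ.erase i₀).card := by
      rw [Finset.card_erase_of_mem (Finset.mem_univ _), Finset.card_univ]
      omega
    obtain ⟨i₁, hi₁, i₂, hi₂, h12⟩ := Finset.one_lt_card.mp h4
    exact ⟨i₁, i₂, (Finset.mem_erase.mp hi₁).1, (Finset.mem_erase.mp hi₂).1, h12⟩
  obtain ⟨i₁, i₂, h01, h02, h12⟩ := h3
  apply bad_abstract (bilOf hf) (fun v => hf.alternating v) (fun v hv => symp_hnd hf v hv) b
    (Matrix.toLin' Gm) w hw h2 i₀ i₁ i₂ h01 h02 h12 ?_ ?_ (c : F) ?_
  · rw [hGb, if_pos rfl]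
  · intro j hj
    rw [hGb, if_neg hj]
  · intro u v
    rw [bilOf_apply, bilOf_apply, Matrix.toLin'_apply, Matrix.toLin'_apply]
    exact hc u v

/-- existence of the bad element -/
theorem exists_bad_SL [Fintype F] (hn : 3 ≤ n) (h2 : (2 : F) ≠ 0)
    (h : padicValNat 2 n < padicValNat 2 (Fintype.card F - 1))
    (f : (Fin n → F) → (Fin n → F) → F) (hf : Cfsg.Geo.IsSymplecticForm f) :
    ∃ x : Matrix.SpecialLinearGroup (Fin n) F,
      (∃ z : F, ((x ^ 2 : Matrix.SpecialLinearGroup (Fin n) F) : Matrix (Fin n) (Fin n) F) =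
        z • (1 : Matrix (Fin n) (Fin n) F)) ∧
      (∀ z : F, (x : Matrix (Fin n) (Fin n) F) ≠ z • (1 : Matrix (Fin n) (Fin n) F)) ∧
      ∀ P : Matrix.SpecialLinearGroup (Fin n) F, P⁻¹ * x * P ∉
        ((Cfsg.Geo.similarityGroup f).comap
          (Matrix.SpecialLinearGroup.toGL :
            Matrix.SpecialLinearGroup (Fin n) F →* GL (Fin n) F)) := by
  classical
  obtain ⟨w, hw⟩ := exists_pow_eq_neg_one (F := F) n (by omega) h
  have hw0 : w ≠ 0 := by
    rintro rfl
    rw [zero_pow (by omega)] at hw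
    have : (1 : F) = 0 := by
      have := congrArg Neg.neg hw
      simpa using this.symm
    exact one_ne_zero this
  let i₀ : Fin n := ⟨0, by omega⟩
  let i₁ : Fin n := ⟨1, by omega⟩
  have h01 : i₁ ≠ i₀ := by
    intro h
    have := congrArg Fin.val h
    simp [i₀, i₁] at this
  set d : Fin n → F := fun i => if i = i₀ then -w else w with hd
  have hdet : (Matrix.diagonal d).det = 1 := by
    rw [Matrix.det_diagonal]
    have h1 : ∀ i, d i = w * (if i = i₀ then -1 else 1) := by
      intro i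
      rw [hd]
      by_cases hi : i = i₀
      · simp [hi]
      · simp [hi]
    rw [Finset.prod_congr rfl (fun i _ => h1 i), Finset.prod_mul_distrib, Finset.prod_const,
      Finset.card_univ, Fintype.card_fin, hw, Finset.prod_ite_eq' Finset.univ i₀ (fun _ => (-1 : F))]
    simp
  obtain ⟨x, hx⟩ : ∃ x : Matrix.SpecialLinearGroup (Fin n) F,
      (x : Matrix (Fin n) (Fin n) F) = Matrix.diagonal d := ⟨⟨Matrix.diagonal d, hdet⟩, rfl⟩
  refine ⟨x, ⟨w * w, ?_⟩, ?_, ?_⟩
  · rw [Matrix.SpecialLinearGroup.coe_pow, hx]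
    rw [pow_two, Matrix.diagonal_mul_diagonal, Matrix.smul_one_eq_diagonal]
    congr 1
    funext i
    rw [hd]
    by_cases hi : i = i₀
    · simp [hi]
    · simp [hi]
  · intro z hz
    have hz' : Matrix.diagonal d = z • (1 : Matrix (Fin n) (Fin n) F) := by rw [← hx]; exact hz
    rw [Matrix.smul_one_eq_diagonal] at hz'
    have h3 := Matrix.diagonal_injective hz'
    have h4 := congrFun h3 i₀
    have h5 := congrFun h3 i₁
    rw [hd] at h4 h5
    simp only [if_true, if_neg h01] at h4 h5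
    have h6 : (2 : F) * w = 0 := by linear_combination h5 - h4
    rcases mul_eq_zero.mp h6 with h7 | h7
    · exact h2 h7
    · exact hw0 h7
  · intro P
    exact bad_not_conj hn f hf w hw0 h2 i₀ x hx P

end bad

end Cfsg.Agent.Lib.Helper15.PInv
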