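import Mathlib
import Cfsg.Agent.Lib.Helper15.PInv6

/-!
# Involutions of `PSL_n(q)` and the symplectic subgroup: the positive direction
-/

set_option autoImplicit false

namespace Cfsg.Agent.Lib.Helper15.PInv

open Module Submodule Polynomial Cfsg.Agent.Lib.Helper15.PSub

section good

variable {F : Type*} [Field F] [Fintype F] {n : ℕ}

theorem good_SL (m : ℕ) (hm : m ≠ 0) (hnm : n = 2 * m) (f : (Fin n → F) → (Fin n → F) → F)
    (hf : Cfsg.Geo.IsSymplecticForm f)
    (hv : padicValNat 2 (Fintype.card F - 1) ≤ padicValNat 2 n)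
    (x : Matrix.SpecialLinearGroup (Fin n) F) (z : F)
    (hx2 : ((x ^ 2 : Matrix.SpecialLinearGroup (Fin n) F) : Matrix (Fin n) (Fin n) F) =
      z • (1 : Matrix (Fin n) (Fin n) F))
    (hns : ∀ z : F, (x : Matrix (Fin n) (Fin n) F) ≠ z • (1 : Matrix (Fin n) (Fin n) F)) :
    ∃ P : Matrix.SpecialLinearGroup (Fin n) F, P⁻¹ * x * P ∈
      ((Cfsg.Geo.similarityGroup f).comap
        (Matrix.SpecialLinearGroup.toGL : Matrix.SpecialLinearGroup (Fin n) F →* GL (Fin n) F)) := by
  classical
  set X := Matrix.toLin' (x : Matrix (Fin n) (Fin n) F) with hXdef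
  have hX2 : X ^ 2 = z • (1 : (Fin n → F) →ₗ[F] (Fin n → F)) := (pow_SL_iff x 2 z).mp hx2
  have hXns : ∀ c : F, X ≠ c • (1 : (Fin n → F) →ₗ[F] (Fin n → F)) := fun c hc =>
    hns c ((scalar_SL_iff x c).mpr hc)
  have hdetX : LinearMap.det X = 1 := det_toLin'_SL x
  have hn0 : n ≠ 0 := by omega
  have hV : finrank F (Fin n → F) = 2 * m := by rw [Module.finrank_fin_fun, hnm]
  have hV0 : finrank F (Fin n → F) ≠ 0 := by rw [hV]; omega
  have hz : z ≠ 0 := by
    rintro rfl
    have h1 := congrArg LinearMap.det hX2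
    rw [map_pow, hdetX, LinearMap.det_smul, hV, zero_pow (by omega), zero_mul] at h1
    simp at h1
  -- the final step, given an adapted pair basis and the centraliser
  have fin : ∀ (μ : F) (hμ : μ ≠ 0) (κ : Type) (_ : Fintype κ), Fintype.card κ = m →
      SPB X μ ⊤ κ →
      (∀ δ : F, δ ≠ 0 → ∃ C : (Fin n → F) →ₗ[F] (Fin n → F), C ∘ₗ X = X ∘ₗ C ∧
        LinearMap.det C = δ) →
      ∃ P : Matrix.SpecialLinearGroup (Fin n) F, P⁻¹ * x * P ∈
        ((Cfsg.Geo.similarityGroup f).comap
          (Matrix.SpecialLinearGroup.toGL :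
            Matrix.SpecialLinearGroup (Fin n) F →* GL (Fin n) F)) := by
    intro μ hμ κ _ hκ hS hcent
    obtain ⟨Θ, hΘ⟩ := SPB.exists_theta m hκ X μ hS
    exact conj_mem m hnm f hf x μ hμ Θ hΘ hcent
  by_cases h2 : (2 : F) = 0
  · -- characteristic two
    have hchar : CharP F 2 := CharTwo.of_one_ne_zero_of_two_eq_zero one_ne_zero h2
    obtain ⟨w, hw⟩ := FiniteField.isSquare_of_char_two (CharP.ringChar_of_prime_eq_zero
      Nat.prime_two h2) z
    have hX2' : X ^ 2 = (w * w) • (1 : (Fin n → F) →ₗ[F] (Fin n → F)) := by rw [← hw]; exact hX2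
    obtain ⟨κ, hκf, hκ, hS⟩ := typeU_SPB X w h2 hX2' m hV
    refine fin (w * w) (by rw [← hw]; exact hz) κ hκf hκ hS ?_
    intro δ _
    obtain ⟨lam, hlam⟩ := FiniteField.isSquare_of_char_two (CharP.ringChar_of_prime_eq_zero
      Nat.prime_two h2) δ
    exact typeU_cent X w h2 hX2' (hXns w) δ ⟨lam, hlam.symm⟩
  · by_cases hsq : IsSquare z
    · obtain ⟨w, hw⟩ := hsq
      have hw0 : w ≠ 0 := by
        rintro rfl
        apply hz
        rw [hw, mul_zero]
      have hX2' : X ^ 2 = (w * w) • (1 : (Fin n → F) →ₗ[F] (Fin n → F)) := by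
        rw [← hw]; exact hX2
      have hc := typeD_isCompl X w hw0 h2 hX2'
      have hdim := Submodule.finrank_add_eq_of_isCompl hc
      rw [hV] at hdim
      have hdet := typeD_det X w hw0 h2 hX2'
      rw [hdetX] at hdet
      set d₁ := finrank F (Module.End.eigenspace X w) with hd₁
      set d₂ := finrank F (Module.End.eigenspace X (-w)) with hd₂
      have hev : Even d₂ := by
        rw [← Nat.not_odd_iff_even]
        intro hodd
        rw [neg_pow, hodd.neg_one_pow] at hdet
        have h5 : w ^ n = -1 := by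
          rw [hnm, ← hdim, pow_add]
          linear_combination hdet
        have := lt_of_pow_eq_neg_one h2 n hn0 w h5
        omega
      obtain ⟨k₂, hk₂⟩ := hev
      have hk₂' : d₂ = 2 * k₂ := by omega
      have hk₁' : d₁ = 2 * (m - k₂) := by omega
      have hS := typeD_SPB X w hw0 h2 hX2' (m - k₂) k₂ hk₁' hk₂'
      refine fin (w * w) (mul_ne_zero hw0 hw0) (Fin (m - k₂) ⊕ Fin k₂) inferInstance ?_ hS ?_
      · rw [Fintype.card_sum, Fintype.card_fin, Fintype.card_fin]
        omega
      · intro δ _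
        exact typeD_cent X w hw0 h2 hX2' hV0 δ
    · have hirr : Irreducible (Polynomial.X ^ 2 - C z : F[X]) := by
        apply X_pow_sub_C_irreducible_of_prime Nat.prime_two
        intro b hb
        apply hsq
        exact ⟨b, by rw [← hb, pow_two]⟩
      have hodd : Fintype.card F % 2 = 1 := by
        apply FiniteField.odd_card_of_char_ne_two
        intro hch
        apply h2
        have := ringChar.Nat.cast_ringChar (R := F)
        rw [hch] at this
        exact_mod_cast this
      obtain ⟨κ, hκf, hκ, hS⟩ := typeI_SPB X z hz h2 hX2 hirr m ⊤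
        (Module.End.invtSubmodule.top_mem X) (by rw [finrank_top, hV])
      refine fin (-z) (neg_ne_zero.mpr hz) κ hκf hκ hS ?_
      intro δ _
      exact typeI_cent X z hz h2 hodd hX2 hirr hV0 δ

end good

end Cfsg.Agent.Lib.Helper15.PInv
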