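import Mathlib
import Cfsg.Agent.Lib.Helper15.SympOrder
import Cfsg.Agent.Lib.Helper15.PInv7

/-!
# Alternating forms: parity of dimensions, pairing of eigenvalues of similarities
-/

set_option autoImplicit false

namespace Cfsg.Agent.Lib.Helper15.PSp

open Module Submodule Cfsg.Agent.Lib.Helper15

section even

variable {F V : Type*} [Field F] [AddCommGroup V] [Module F V] [FiniteDimensional F V]

/-- a nondegenerate alternating form lives on a space of even dimension -/
theorem even_finrank_of_alt_nondeg (B : V →ₗ[F] V →ₗ[F] F) (halt : ∀ x, B x x = 0)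
    (hnd : ∀ x, (∀ y, B x y = 0) → x = 0) : Even (finrank F V) := by
  have key : ∀ d : ℕ, ∀ (k : ℕ) (e f : Fin k → V), IsSympFam B e f →
      finrank F (sympPerp B e f) = d → Even (finrank F V) := by
    intro d
    induction d using Nat.strong_induction_on with
    | _ d ih =>
      intro k e f h hd
      have hfr := finrank_sympPerp B halt h
      by_cases hd0 : d = 0
      · rw [hd, hd0, zero_add] at hfr
        exact ⟨k, by omega⟩
      · have hne : sympPerp B e f ≠ ⊥ := by
          intro hbot
          rw [hbot, finrank_bot] at hd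
          exact hd0 hd.symm
        obtain ⟨u, hu, hu0⟩ := Submodule.exists_mem_ne_zero_of_ne_bot hne
        obtain ⟨y, hy, huy⟩ : ∃ y ∈ sympPerp B e f, B u y ≠ 0 := by
          by_contra hall
          apply hu0
          apply sympPerp_nondeg B halt h hnd u hu
          intro y hy
          by_contra hne'
          exact hall ⟨y, hy, hne'⟩
        have hv : (B u y)⁻¹ • y ∈ sympPerp B e f := Submodule.smul_mem _ _ hy
        have huv : B u ((B u y)⁻¹ • y) = 1 := by
          rw [map_smul, smul_eq_mul, inv_mul_cancel₀ huy]
        have h' := isSympFam_snoc B halt h u _ hu hv huv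
        have hfr' := finrank_sympPerp B halt h'
        exact ih (finrank F (sympPerp B (Fin.snoc e u : Fin (k + 1) → V)
          (Fin.snoc f ((B u y)⁻¹ • y) : Fin (k + 1) → V))) (by omega) (k + 1) _ _ h' rfl
  exact key _ 0 Fin.elim0 Fin.elim0 ⟨fun i => i.elim0, fun i => i.elim0, fun i => i.elim0⟩ rfl

/-- a subspace on which an alternating form is nondegenerate has even dimension -/
theorem even_of_nondeg_on (B : V →ₗ[F] V →ₗ[F] F) (halt : ∀ x, B x x = 0) (W : Submodule F V)
    (h : ∀ u ∈ W, (∀ v ∈ W, B u v = 0) → u = 0) : Even (finrank F W) := by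
  apply even_finrank_of_alt_nondeg (B.domRestrict₁₂ W W)
  · intro x
    rw [LinearMap.domRestrict₁₂_apply]
    exact halt _
  · intro x hx
    apply Subtype.ext
    apply h x.1 x.2
    intro v hv
    have := hx ⟨v, hv⟩
    rw [LinearMap.domRestrict₁₂_apply] at this
    exact this

/-- the fixed space of an isometry of order prime to the characteristic has even dimension -/
theorem fixed_even (B : V →ₗ[F] V →ₗ[F] F) (halt : ∀ x, B x x = 0)
    (hnd : ∀ x, (∀ y, B x y = 0) → x = 0) (G : V →ₗ[F] V)
    (hiso : ∀ u v, B (G u) (G v) = B u v) (r : ℕ) (hr : (r : F) ≠ 0) (hG : G ^ r = 1) :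
    Even (finrank F (Module.End.eigenspace G 1)) := by
  apply even_of_nondeg_on B halt
  intro u hu hu0
  have hGu : G u = u := by
    have := Module.End.mem_eigenspace_iff.mp hu
    rw [this, one_smul]
  have hpowu : ∀ i : ℕ, (G ^ i) u = u := by
    intro i
    induction i with
    | zero => rfl
    | succ i ih => rw [pow_succ, Module.End.mul_apply, hGu, ih]
  have hpowiso : ∀ (i : ℕ) (a b : V), B ((G ^ i) a) ((G ^ i) b) = B a b := by
    intro i
    induction i with
    | zero => intro a b; rfl
    | succ i ih =>
      intro a b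
      rw [pow_succ, Module.End.mul_apply, Module.End.mul_apply, ih, hiso]
  apply hnd
  intro v
  set π : V := ∑ i ∈ Finset.range r, (G ^ i) v with hπ
  have hGπ : G π = π := by
    rw [hπ, map_sum]
    have h1 : ∑ i ∈ Finset.range r, G ((G ^ i) v) = ∑ i ∈ Finset.range r, (G ^ (i + 1)) v := by
      apply Finset.sum_congr rfl
      intro i _
      rw [pow_succ', Module.End.mul_apply]
    rw [h1]
    have h2 := Finset.sum_range_succ' (fun i => (G ^ i) v) r
    have h3 := Finset.sum_range_succ (fun i => (G ^ i) v) r
    rw [h3] at h2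
    simp only [hG, pow_zero] at h2
    exact (add_right_cancel h2).symm
  have hπmem : π ∈ Module.End.eigenspace G 1 := by
    rw [Module.End.mem_eigenspace_iff, one_smul]
    exact hGπ
  have h4 := hu0 π hπmem
  rw [hπ, map_sum] at h4
  have h5 : ∑ i ∈ Finset.range r, B u ((G ^ i) v) = (r : F) * B u v := by
    have : ∀ i ∈ Finset.range r, B u ((G ^ i) v) = B u v := by
      intro i _
      have := hpowiso i u v
      rw [hpowu] at this
      exact this
    rw [Finset.sum_congr rfl this, Finset.sum_const, Finset.card_range, nsmul_eq_mul]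
  rw [h5] at h4
  rcases mul_eq_zero.mp h4 with h6 | h6
  · exact absurd h6 hr
  · exact h6

end even

section pairing

variable {F V : Type*} [Field F] [AddCommGroup V] [Module F V] [FiniteDimensional F V]
variable {ι : Type*} [Fintype ι] [DecidableEq ι]

/-- the subfamily combination map is injective -/
theorem lc_injective (b : Basis ι F V) (p : ι → Prop) [DecidablePred p] :
    Function.Injective (Fintype.linearCombination F (fun i : {i // p i} => b i)) := by
  rw [← linearIndependent_iff_injective_fintypeLinearCombination]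
  exact b.linearIndependent.comp _ Subtype.val_injective

/-- **Pairing**: for a similarity with multiplier `μ` diagonal in the basis `b`, the eigenvalue
`lam` occurs at most as often as its partner `lam'`. -/
theorem pair_count (B : V →ₗ[F] V →ₗ[F] F) (hnd : ∀ x, (∀ y, B x y = 0) → x = 0)
    (b : Basis ι F V) (d : ι → F) (μ : F)
    (hB : ∀ i j, d i * d j ≠ μ → B (b i) (b j) = 0) (lam lam' : F)
    (hpair : ∀ i j, d i = lam → d j ≠ lam' → d i * d j ≠ μ) :
    Nat.card {i // d i = lam} ≤ Nat.card {j // d j = lam'} := by
  classical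
  rw [Nat.card_eq_fintype_card, Nat.card_eq_fintype_card]
  let ψ := Fintype.linearCombination F (fun i : {i // d i = lam} => b i)
  let φ : ({i // d i = lam} → F) →ₗ[F] ({j // d j = lam'} → F) :=
    LinearMap.pi (fun j => (B.flip (b j)) ∘ₗ ψ)
  have hφ : ∀ a j, φ a j = B (ψ a) (b j) := fun a j => rfl
  have hinj : Function.Injective φ := by
    rw [← LinearMap.ker_eq_bot, eq_bot_iff]
    intro a ha
    rw [LinearMap.mem_ker] at ha
    rw [Submodule.mem_bot]
    apply lc_injective b (fun i => d i = lam)
    rw [map_zero]
    apply hnd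
    intro y
    have hBz : B (ψ a) = 0 := by
      apply b.ext
      intro j
      rw [LinearMap.zero_apply]
      by_cases hj : d j = lam'
      · have := congrFun ha ⟨j, hj⟩
        rw [hφ] at this
        exact this
      · show B (Fintype.linearCombination F (fun i : {i // d i = lam} => b i) a) (b j) = 0
        rw [Fintype.linearCombination_apply, map_sum, LinearMap.sum_apply]
        apply Finset.sum_eq_zero
        intro i _
        rw [map_smul, LinearMap.smul_apply, hB i.1 j (hpair i.1 j i.2 hj), smul_zero]
    show B (ψ a) y = 0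
    rw [hBz, LinearMap.zero_apply]
  have h1 := LinearMap.finrank_le_finrank_of_injective hinj
  rw [Module.finrank_fintype_fun_eq_card, Module.finrank_fintype_fun_eq_card] at h1
  exact h1

/-- a self-paired eigenvalue occurs an even number of times -/
theorem self_pair_even (B : V →ₗ[F] V →ₗ[F] F) (halt : ∀ x, B x x = 0)
    (hnd : ∀ x, (∀ y, B x y = 0) → x = 0)
    (b : Basis ι F V) (d : ι → F) (μ : F)
    (hB : ∀ i j, d i * d j ≠ μ → B (b i) (b j) = 0) (lam : F)
    (hpair : ∀ i j, d i = lam → d j ≠ lam → d i * d j ≠ μ) :
    Even (Nat.card {i // d i = lam}) := by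
  classical
  rw [Nat.card_eq_fintype_card]
  let ψ := Fintype.linearCombination F (fun i : {i // d i = lam} => b i)
  have hψinj : Function.Injective ψ := lc_injective b (fun i => d i = lam)
  have hdim : finrank F (LinearMap.range ψ) = Fintype.card {i // d i = lam} := by
    rw [LinearMap.finrank_range_of_inj hψinj, Module.finrank_fintype_fun_eq_card]
  rw [← hdim]
  apply even_of_nondeg_on B halt
  rintro _ ⟨a, rfl⟩ hu0
  apply hnd
  intro y
  have hBz : B (ψ a) = 0 := by
    apply b.ext
    intro j
    rw [LinearMap.zero_apply]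
    by_cases hj : d j = lam
    · apply hu0
      refine ⟨Pi.single ⟨j, hj⟩ 1, ?_⟩
      show Fintype.linearCombination F (fun i : {i // d i = lam} => b i) _ = _
      rw [Fintype.linearCombination_apply_single, one_smul]
    · show B (Fintype.linearCombination F (fun i : {i // d i = lam} => b i) a) (b j) = 0
      rw [Fintype.linearCombination_apply, map_sum, LinearMap.sum_apply]
      apply Finset.sum_eq_zero
      intro i _
      rw [map_smul, LinearMap.smul_apply, hB i.1 j (hpair i.1 j i.2 hj), smul_zero]
  rw [hBz, LinearMap.zero_apply]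

end pairing

section jordan

variable {F V : Type*} [Field F] [AddCommGroup V] [Module F V]

/-- an isometry of a nondegenerate alternating form is not unipotent with `G - 1` of rank two and
non-zero square -/
theorem jordan3_not_isometry (B : V →ₗ[F] V →ₗ[F] F) (halt : ∀ x, B x x = 0)
    (hnd : ∀ x, (∀ y, B x y = 0) → x = 0) (G : V →ₗ[F] V) (hsurj : Function.Surjective G)
    (hiso : ∀ u v, B (G u) (G v) = B u v) (v₁ : V)
    (ha : (G - 1) ((G - 1) v₁) ≠ 0) (ha3 : (G - 1) ((G - 1) ((G - 1) v₁)) = 0)
    (him : ∀ s, ∃ α β : F, (G - 1) s = α • (G - 1) v₁ + β • (G - 1) ((G - 1) v₁)) : False := by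
  set N : V →ₗ[F] V := G - 1 with hN
  have hskew : ∀ x y, B x y = - B y x := alt_swap B halt
  have hNapp : ∀ u, N u = G u - u := fun u => by
    rw [hN, LinearMap.sub_apply, Module.End.one_apply]
  have star : ∀ u v, B (N u) v = - B (G u) (N v) := by
    intro u v
    rw [hNapp, hNapp, map_sub, LinearMap.sub_apply, map_sub, hiso]
    ring
  set v₂ := N v₁ with hv₂
  set a := N (N v₁) with ha'
  have hNa : N a = 0 := ha3
  have h1 : ∀ s, B (N s) a = 0 := by
    intro s
    rw [star, hNa, map_zero, neg_zero]
  have hv₂a : B v₂ a = 0 := h1 v₁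
  have hav₂ : B a v₂ = 0 := by rw [hskew, hv₂a, neg_zero]
  have h2 : ∀ s t, B (N s) (N t) = 0 := by
    intro s t
    obtain ⟨α, β, hs⟩ := him s
    obtain ⟨α', β', ht⟩ := him t
    rw [hs, ht]
    simp only [map_add, map_smul, LinearMap.add_apply, LinearMap.smul_apply, smul_eq_mul, halt,
      hv₂a, hav₂, mul_zero, add_zero]
  apply ha
  apply hnd
  intro y
  obtain ⟨s, rfl⟩ := hsurj y
  have h3 := star s (N v₁)
  rw [h2] at h3
  rw [hskew]
  have h4 : B (G s) (N (N v₁)) = 0 := by
    have := neg_eq_zero.mp h3.symm
    exact this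
  rw [h4, neg_zero]

end jordan

end Cfsg.Agent.Lib.Helper15.PSp
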