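import Mathlib
import Cfsg.Agent.Lib.Helper3.CardSL
import Cfsg.Agent.Lib.Helper15.PSp1

/-!
# The isometry group of a symplectic form inside `GL_n`, and the index of the symplectic-type
subgroup of `SL_n`
-/

set_option autoImplicit false

namespace Cfsg.Agent.Lib.Helper15.PSp

open Module Submodule Cfsg.Agent.Lib.Helper15 Cfsg.Agent.Lib.Helper15.PInv
  Cfsg.Agent.Lib.Helper6

section iso

variable {F : Type*} [Field F] {n : ℕ}

/-- the isometries of `f` in `GL_n` -/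
def isoGL (f : (Fin n → F) → (Fin n → F) → F) : Subgroup (GL (Fin n) F) :=
  Cfsg.preserving (Units.coeHom (Matrix (Fin n) (Fin n) F)) f

theorem mem_isoGL (f : (Fin n → F) → (Fin n → F) → F) (g : GL (Fin n) F) :
    g ∈ isoGL f ↔ ∀ u v, f ((g : Matrix (Fin n) (Fin n) F).mulVec u)
      ((g : Matrix (Fin n) (Fin n) F).mulVec v) = f u v := Iff.rfl

theorem isoGL_le (f : (Fin n → F) → (Fin n → F) → F) : isoGL f ≤ Cfsg.Geo.similarityGroup f := by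
  intro g hg
  refine ⟨1, fun u v => ?_⟩
  rw [Units.val_one, one_mul]
  exact hg u v

/-- the isometry group is in bijection with the symplectic group -/
noncomputable def isoEquiv (m : ℕ) (f : (Fin n → F) → (Fin n → F) → F)
    (Ψ : (Fin m ⊕ Fin m → F) ≃ₗ[F] (Fin n → F))
    (hΨ : ∀ x y, f (Ψ x) (Ψ y) = Cfsg.sympForm m F x y) :
    isoGL f ≃ Matrix.symplecticGroup (Fin m) F where
  toFun g := ⟨LinearMap.toMatrix' ((Ψ.symm : (Fin n → F) →ₗ[F] (Fin m ⊕ Fin m → F)) ∘ₗ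
      Matrix.toLin' (g.1 : Matrix (Fin n) (Fin n) F) ∘ₗ
      (Ψ : (Fin m ⊕ Fin m → F) →ₗ[F] (Fin n → F))), by
    rw [mem_symplecticGroup_iff_preserves]
    intro u v
    rw [← Matrix.toLin'_apply, ← Matrix.toLin'_apply, Matrix.toLin'_toMatrix']
    show Cfsg.sympForm m F (Ψ.symm (Matrix.toLin' (g.1 : Matrix (Fin n) (Fin n) F) (Ψ u)))
      (Ψ.symm (Matrix.toLin' (g.1 : Matrix (Fin n) (Fin n) F) (Ψ v))) = _
    rw [← hΨ, LinearEquiv.apply_symm_apply, LinearEquiv.apply_symm_apply, Matrix.toLin'_apply,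
      Matrix.toLin'_apply, (mem_isoGL f g.1).mp g.2 (Ψ u) (Ψ v), hΨ]⟩
  invFun A := ⟨Matrix.GeneralLinearGroup.mkOfDetNeZero
      (LinearMap.toMatrix' ((Ψ : (Fin m ⊕ Fin m → F) →ₗ[F] (Fin n → F)) ∘ₗ
        Matrix.toLin' (A.1 : Matrix (Fin m ⊕ Fin m) (Fin m ⊕ Fin m) F) ∘ₗ
        (Ψ.symm : (Fin n → F) →ₗ[F] (Fin m ⊕ Fin m → F))))
      (by
        rw [LinearMap.det_toMatrix', LinearMap.det_conj, LinearMap.det_toLin']
        exact (SymplecticGroup.symplectic_det A.2).ne_zero), by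
    rw [mem_isoGL]
    intro u v
    have hA := (mem_symplecticGroup_iff_preserves A.1).mp A.2
    show f ((LinearMap.toMatrix' ((Ψ : (Fin m ⊕ Fin m → F) →ₗ[F] (Fin n → F)) ∘ₗ
        Matrix.toLin' (A.1 : Matrix (Fin m ⊕ Fin m) (Fin m ⊕ Fin m) F) ∘ₗ
        (Ψ.symm : (Fin n → F) →ₗ[F] (Fin m ⊕ Fin m → F)))).mulVec u)
      ((LinearMap.toMatrix' ((Ψ : (Fin m ⊕ Fin m → F) →ₗ[F] (Fin n → F)) ∘ₗ
        Matrix.toLin' (A.1 : Matrix (Fin m ⊕ Fin m) (Fin m ⊕ Fin m) F) ∘ₗ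
        (Ψ.symm : (Fin n → F) →ₗ[F] (Fin m ⊕ Fin m → F)))).mulVec v) = f u v
    rw [← Matrix.toLin'_apply, ← Matrix.toLin'_apply, Matrix.toLin'_toMatrix']
    show f (Ψ (Matrix.toLin' (A.1 : Matrix (Fin m ⊕ Fin m) (Fin m ⊕ Fin m) F) (Ψ.symm u)))
      (Ψ (Matrix.toLin' (A.1 : Matrix (Fin m ⊕ Fin m) (Fin m ⊕ Fin m) F) (Ψ.symm v))) = _
    rw [hΨ, Matrix.toLin'_apply, Matrix.toLin'_apply, hA, ← hΨ, LinearEquiv.apply_symm_apply,
      LinearEquiv.apply_symm_apply]⟩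
  left_inv g := by
    apply Subtype.ext
    apply Units.ext
    show LinearMap.toMatrix' ((Ψ : (Fin m ⊕ Fin m → F) →ₗ[F] (Fin n → F)) ∘ₗ
        Matrix.toLin' (LinearMap.toMatrix' ((Ψ.symm : (Fin n → F) →ₗ[F] (Fin m ⊕ Fin m → F)) ∘ₗ
      Matrix.toLin' (g.1 : Matrix (Fin n) (Fin n) F) ∘ₗ
      (Ψ : (Fin m ⊕ Fin m → F) →ₗ[F] (Fin n → F)))) ∘ₗ
        (Ψ.symm : (Fin n → F) →ₗ[F] (Fin m ⊕ Fin m → F))) = (g.1 : Matrix (Fin n) (Fin n) F)
    rw [Matrix.toLin'_toMatrix']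
    apply Matrix.toLin'.injective
    rw [Matrix.toLin'_toMatrix']
    apply LinearMap.ext
    intro v
    simp only [LinearMap.comp_apply, LinearEquiv.coe_coe, LinearEquiv.apply_symm_apply]
  right_inv A := by
    apply Subtype.ext
    show LinearMap.toMatrix' ((Ψ.symm : (Fin n → F) →ₗ[F] (Fin m ⊕ Fin m → F)) ∘ₗ
      Matrix.toLin' (LinearMap.toMatrix' ((Ψ : (Fin m ⊕ Fin m → F) →ₗ[F] (Fin n → F)) ∘ₗ
        Matrix.toLin' (A.1 : Matrix (Fin m ⊕ Fin m) (Fin m ⊕ Fin m) F) ∘ₗ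
        (Ψ.symm : (Fin n → F) →ₗ[F] (Fin m ⊕ Fin m → F)))) ∘ₗ
      (Ψ : (Fin m ⊕ Fin m → F) →ₗ[F] (Fin n → F))) = A.1
    rw [Matrix.toLin'_toMatrix']
    apply Matrix.toLin'.injective
    rw [Matrix.toLin'_toMatrix']
    apply LinearMap.ext
    intro v
    simp only [LinearMap.comp_apply, LinearEquiv.coe_coe, LinearEquiv.symm_apply_apply]

/-- determinants of isometries are `±1` -/
theorem det_sq_of_mem_isoGL (m : ℕ) (f : (Fin n → F) → (Fin n → F) → F)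
    (Ψ : (Fin m ⊕ Fin m → F) ≃ₗ[F] (Fin n → F))
    (hΨ : ∀ x y, f (Ψ x) (Ψ y) = Cfsg.sympForm m F x y) (g : GL (Fin n) F) (hg : g ∈ isoGL f) :
    Matrix.GeneralLinearGroup.det g * Matrix.GeneralLinearGroup.det g = 1 := by
  set A := isoEquiv m f Ψ hΨ ⟨g, hg⟩ with hA
  have hAmem := A.2
  rw [SymplecticGroup.mem_iff] at hAmem
  have h1 := congrArg Matrix.det hAmem
  rw [Matrix.det_mul, Matrix.det_mul, Matrix.det_transpose] at h1
  have hJ : (Matrix.J (Fin m) F).det ≠ 0 := (Matrix.isUnit_det_J (Fin m) F).ne_zero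
  have h2 : (A.1 : Matrix (Fin m ⊕ Fin m) (Fin m ⊕ Fin m) F).det *
      (A.1 : Matrix (Fin m ⊕ Fin m) (Fin m ⊕ Fin m) F).det = 1 := by
    apply mul_left_cancel₀ hJ
    rw [mul_one]
    linear_combination h1
  have h3 : (A.1 : Matrix (Fin m ⊕ Fin m) (Fin m ⊕ Fin m) F).det =
      (g : Matrix (Fin n) (Fin n) F).det := by
    show (LinearMap.toMatrix' ((Ψ.symm : (Fin n → F) →ₗ[F] (Fin m ⊕ Fin m → F)) ∘ₗ
      Matrix.toLin' (g : Matrix (Fin n) (Fin n) F) ∘ₗ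
      (Ψ : (Fin m ⊕ Fin m → F) →ₗ[F] (Fin n → F)))).det = _
    rw [LinearMap.det_toMatrix']
    have := LinearMap.det_conj (Matrix.toLin' (g : Matrix (Fin n) (Fin n) F)) Ψ.symm
    rw [LinearEquiv.symm_symm] at this
    rw [this, LinearMap.det_toLin']
  rw [h3] at h2
  apply Units.ext
  rw [Units.val_mul, Matrix.GeneralLinearGroup.val_det_apply, Units.val_one]
  exact h2

end iso

end Cfsg.Agent.Lib.Helper15.PSp
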