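import Mathlib
import Cfsg.Agent.Lib.Helper15.PSp2

/-!
# Primes dividing the index of the symplectic-type subgroup of `SL_n(q)`
-/

set_option autoImplicit false

namespace Cfsg.Agent.Lib.Helper15.PSp

open Module Submodule Cfsg.Agent.Lib.Helper15 Cfsg.Agent.Lib.Helper15.PInv

section arith

theorem prod_pow_sub (q n : ℕ) (hq : 1 ≤ q) :
    ∏ i : Fin n, (q ^ n - q ^ (i : ℕ)) =
      (∏ i ∈ Finset.range n, q ^ i) * ∏ j ∈ Finset.range n, (q ^ (j + 1) - 1) := by
  rw [Fin.prod_univ_eq_prod_range (fun i => q ^ n - q ^ i) n]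
  have h1 : ∀ i ∈ Finset.range n, q ^ n - q ^ i = q ^ i * (q ^ (n - 1 - i + 1) - 1) := by
    intro i hi
    rw [Finset.mem_range] at hi
    have h2 : n - 1 - i + 1 = n - i := by omega
    rw [h2, Nat.mul_sub, mul_one, ← pow_add]
    congr 2
    omega
  rw [Finset.prod_congr rfl h1, Finset.prod_mul_distrib,
    Finset.prod_range_reflect (fun j => q ^ (j + 1) - 1) n]

theorem prod_split (q m : ℕ) :
    ∏ j ∈ Finset.range (2 * m), (q ^ (j + 1) - 1) =
      (∏ i ∈ Finset.range m, (q ^ (2 * (i + 1)) - 1)) *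
        ∏ i ∈ Finset.range m, (q ^ (2 * i + 1) - 1) := by
  induction m with
  | zero => simp
  | succ m ih =>
    have h1 : 2 * (m + 1) = 2 * m + 1 + 1 := by ring
    rw [h1, Finset.prod_range_succ, Finset.prod_range_succ, ih, Finset.prod_range_succ,
      Finset.prod_range_succ]
    have h2 : 2 * m + 1 + 1 = 2 * (m + 1) := by ring
    rw [h2]
    ring

theorem exists_odd_exponent (q m I r SL : ℕ) (hq : 1 < q) (hm : m ≠ 0) (hr : r.Prime)
    (hr2 : r ≠ 2) (hrq : ¬ r ∣ q) (hrI : r ∣ I)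
    (hSL : SL * (q - 1) = ∏ i : Fin (2 * m), (q ^ (2 * m) - q ^ (i : ℕ)))
    (hdvd : I * (q ^ (m ^ 2) * ∏ i ∈ Finset.range m, (q ^ (2 * (i + 1)) - 1)) ∣ 2 * SL) :
    ∃ j, j % 2 = 1 ∧ 3 ≤ j ∧ j ≤ 2 * m - 1 ∧ r ∣ q ^ j - 1 := by
  obtain ⟨m', rfl⟩ : ∃ m', m = m' + 1 := ⟨m - 1, by omega⟩
  set QN := ∏ i ∈ Finset.range (2 * (m' + 1)), q ^ i with hQN
  set Bp := ∏ i ∈ Finset.range (m' + 1), (q ^ (2 * (i + 1)) - 1) with hBp
  set C' := ∏ i ∈ Finset.range m', (q ^ (2 * (i + 1) + 1) - 1) with hC'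
  have hC : ∏ i ∈ Finset.range (m' + 1), (q ^ (2 * i + 1) - 1) = C' * (q - 1) := by
    rw [Finset.prod_range_succ', hC']
    simp
  rw [prod_pow_sub q _ (by omega), prod_split, hC] at hSL
  have hq1 : 0 < q - 1 := by omega
  have hSL' : SL = QN * (Bp * C') := by
    apply Nat.eq_of_mul_eq_mul_right hq1
    rw [hSL]
    ring
  have hBpos : 0 < Bp := by
    apply Finset.prod_pos
    intro i _
    have : 1 < q ^ (2 * (i + 1)) := Nat.one_lt_pow (by omega) hq
    omega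
  have hdvd' : I * q ^ ((m' + 1) ^ 2) ∣ 2 * (QN * C') := by
    rw [hSL'] at hdvd
    have h3 : I * (q ^ ((m' + 1) ^ 2) * Bp) = (I * q ^ ((m' + 1) ^ 2)) * Bp := by ring
    have h4 : 2 * (QN * (Bp * C')) = (2 * (QN * C')) * Bp := by ring
    rw [h3, h4] at hdvd
    exact Nat.dvd_of_mul_dvd_mul_right hBpos hdvd
  have hr' : r ∣ 2 * (QN * C') := dvd_trans (dvd_trans hrI (Dvd.intro _ rfl)) hdvd'
  rcases (Nat.Prime.dvd_mul hr).mp hr' with h | h
  · exact absurd ((Nat.prime_dvd_prime_iff_eq hr Nat.prime_two).mp h) hr2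
  · rcases (Nat.Prime.dvd_mul hr).mp h with h | h
    · exfalso
      rw [hQN, Prime.dvd_finsetProd_iff hr.prime] at h
      obtain ⟨i, -, hi⟩ := h
      exact hrq (hr.dvd_of_dvd_pow hi)
    · rw [hC', Prime.dvd_finsetProd_iff hr.prime] at h
      obtain ⟨i, hi, hri⟩ := h
      rw [Finset.mem_range] at hi
      exact ⟨2 * (i + 1) + 1, by omega, by omega, by omega, hri⟩

end arith

section index

variable {F : Type*} [Field F] [Fintype F] {n : ℕ}

theorem card_map_det_dvd_two (m : ℕ) (f : (Fin n → F) → (Fin n → F) → F)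
    (Ψ : (Fin m ⊕ Fin m → F) ≃ₗ[F] (Fin n → F))
    (hΨ : ∀ x y, f (Ψ x) (Ψ y) = Cfsg.sympForm m F x y) :
    Nat.card ((isoGL f).map (Matrix.GeneralLinearGroup.det : GL (Fin n) F →* Fˣ)) ∣ 2 := by
  classical
  set T := (isoGL f).map (Matrix.GeneralLinearGroup.det : GL (Fin n) F →* Fˣ) with hT
  have hsq : ∀ t : T, t * t = 1 := by
    rintro ⟨t, ht⟩
    obtain ⟨g, hg, rfl⟩ := Subgroup.mem_map.mp ht
    apply Subtype.ext
    exact det_sq_of_mem_isoGL m f Ψ hΨ g hg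
  obtain ⟨g, hg⟩ := IsCyclic.exists_generator (α := T)
  rw [← orderOf_eq_card_of_forall_mem_zpowers hg]
  apply orderOf_dvd_of_pow_eq_one
  rw [pow_two]
  exact hsq g

/-- `[SL_n : H] · |Sp_n(q)|` divides `2 |SL_n(q)|` -/
theorem index_mul_card_symp_dvd (m : ℕ) (hnm : n = 2 * m)
    (f : (Fin n → F) → (Fin n → F) → F) (hf : Cfsg.Geo.IsSymplecticForm f) :
    ((Cfsg.Geo.similarityGroup f).comap
      (Matrix.SpecialLinearGroup.toGL :
        Matrix.SpecialLinearGroup (Fin n) F →* GL (Fin n) F)).index *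
      Nat.card (Matrix.symplecticGroup (Fin m) F) ∣
    2 * Nat.card (Matrix.SpecialLinearGroup (Fin n) F) := by
  classical
  obtain ⟨Ψ, hΨ'⟩ := Cfsg.Agent.Lib.Helper16.exists_symp_equiv (bilOf hf)
    (fun v => hf.alternating v) (fun v hv => symp_hnd hf v hv) m
    (by rw [Module.finrank_fin_fun, hnm])
  have hΨ : ∀ x y, f (Ψ x) (Ψ y) = Cfsg.sympForm m F x y := fun x y => by
    rw [← hΨ' x y, bilOf_apply]
  set I := isoGL f with hI
  set S := Cfsg.Geo.similarityGroup f with hS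
  set D := (Matrix.GeneralLinearGroup.det : GL (Fin n) F →* Fˣ).ker with hD
  set H := S.comap (Matrix.SpecialLinearGroup.toGL :
        Matrix.SpecialLinearGroup (Fin n) F →* GL (Fin n) F) with hH
  have hcardI : Nat.card I = Nat.card (Matrix.symplecticGroup (Fin m) F) :=
    Nat.card_congr (isoEquiv m f Ψ hΨ)
  have hcardH : Nat.card H = Nat.card (D ⊓ S : Subgroup (GL (Fin n) F)) := by
    rw [← Subgroup.card_map_of_injective Matrix.SpecialLinearGroup.toGL_injective (K := H), hH,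
      Subgroup.map_comap_eq, Cfsg.Agent.Lib.Helper3.CardSL.range_toGL]
  have hle : D ⊓ I ≤ D ⊓ S := inf_le_inf_left _ (isoGL_le f)
  have h1 : Nat.card (D ⊓ I : Subgroup (GL (Fin n) F)) ∣ Nat.card H := by
    rw [hcardH]
    exact Subgroup.card_dvd_of_le hle
  have h2 : Nat.card (D ⊓ I : Subgroup (GL (Fin n) F)) * D.relIndex I = Nat.card I := by
    have h3 := Subgroup.relIndex_mul_relIndex (H := (⊥ : Subgroup (GL (Fin n) F)))
      (K := D ⊓ I) (L := I) bot_le inf_le_right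
    rw [Subgroup.relIndex_bot_left, Subgroup.relIndex_bot_left, Subgroup.inf_relIndex_right] at h3
    exact h3
  have h4 : D.relIndex I ∣ 2 := by
    rw [hD, Subgroup.relIndex_ker]
    exact card_map_det_dvd_two m f Ψ hΨ
  obtain ⟨t, ht⟩ := h1
  obtain ⟨s, hs⟩ := h4
  have h5 := Subgroup.index_mul_card H
  rw [← hcardI, ← h2, ← h5, ht]
  refine ⟨t * s, ?_⟩
  rw [hs]
  ring

/-- an odd prime `r ≠ p` dividing the index of the symplectic-type subgroup divides `q^j - 1` for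
some odd `j` with `3 ≤ j ≤ n - 1` -/
theorem exists_odd_of_dvd_index (m : ℕ) (hm : m ≠ 0) (hnm : n = 2 * m)
    (f : (Fin n → F) → (Fin n → F) → F) (hf : Cfsg.Geo.IsSymplecticForm f) (r : ℕ)
    (hr : r.Prime) (hr2 : r ≠ 2) (hrq : ¬ r ∣ Fintype.card F)
    (hΩ : r ∣ ((Cfsg.Geo.similarityGroup f).comap
      (Matrix.SpecialLinearGroup.toGL :
        Matrix.SpecialLinearGroup (Fin n) F →* GL (Fin n) F)).index) :
    ∃ j, j % 2 = 1 ∧ 3 ≤ j ∧ j ≤ n - 1 ∧ r ∣ Fintype.card F ^ j - 1 := by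
  subst hnm
  have hdvd := index_mul_card_symp_dvd m rfl f hf
  rw [card_symplecticGroup] at hdvd
  have hSL := Cfsg.Agent.Lib.Helper3.CardSL.card_GL_eq_card_SL_mul (F := F) (2 * m) (by omega)
  rw [Matrix.card_GL_field, Nat.card_units, Nat.card_eq_fintype_card (α := F)] at hSL
  exact exists_odd_exponent (Fintype.card F) m _ r _ Fintype.one_lt_card hm hr hr2 hrq hΩ
    hSL.symm hdvd

end index

end Cfsg.Agent.Lib.Helper15.PSp
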