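import Mathlib
import Cfsg.Agent.Lib.Helper15.PSp3
import Cfsg.Agent.Lib.Helper15.PDec8

/-!
# Elements of odd prime order of `SL_n` not conjugate into the symplectic-type subgroup:
generic tools and the semisimple case with no eigenvalue in the field
-/

set_option autoImplicit false

namespace Cfsg.Agent.Lib.Helper15.PSp

open Module Submodule Cfsg.Agent.Lib.Helper15 Cfsg.Agent.Lib.Helper15.PInv
  Cfsg.Agent.Lib.Helper15.PSub

section conj

variable {F : Type*} [Field F] {n : ℕ}

/-- conjugation in `SL_n` in terms of linear maps -/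
theorem conj_data (x P : Matrix.SpecialLinearGroup (Fin n) F) :
    ∃ E : (Fin n → F) ≃ₗ[F] (Fin n → F), ∀ v,
      Matrix.toLin' ((P⁻¹ * x * P : Matrix.SpecialLinearGroup (Fin n) F) :
        Matrix (Fin n) (Fin n) F) v =
      E.symm (Matrix.toLin' (x : Matrix (Fin n) (Fin n) F) (E v)) := by
  classical
  have hPP : ((P⁻¹ : Matrix.SpecialLinearGroup (Fin n) F) : Matrix (Fin n) (Fin n) F) *
      (P : Matrix (Fin n) (Fin n) F) = 1 := by
    rw [← Matrix.SpecialLinearGroup.coe_mul, inv_mul_cancel, Matrix.SpecialLinearGroup.coe_one]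
  have hPP' : (P : Matrix (Fin n) (Fin n) F) *
      ((P⁻¹ : Matrix.SpecialLinearGroup (Fin n) F) : Matrix (Fin n) (Fin n) F) = 1 := by
    rw [← Matrix.SpecialLinearGroup.coe_mul, mul_inv_cancel, Matrix.SpecialLinearGroup.coe_one]
  refine ⟨Matrix.toLin'OfInv hPP hPP', fun v => ?_⟩
  rw [LinearEquiv.eq_symm_apply]
  show Matrix.toLin' (P : Matrix (Fin n) (Fin n) F) (Matrix.toLin' _ v) =
    Matrix.toLin' (x : Matrix (Fin n) (Fin n) F) (Matrix.toLin' (P : Matrix (Fin n) (Fin n) F) v)
  rw [Matrix.toLin'_apply, Matrix.toLin'_apply, Matrix.toLin'_apply, Matrix.toLin'_apply,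
    Matrix.mulVec_mulVec, Matrix.mulVec_mulVec, Matrix.SpecialLinearGroup.coe_mul,
    Matrix.SpecialLinearGroup.coe_mul, ← Matrix.mul_assoc, ← Matrix.mul_assoc, hPP',
    Matrix.one_mul]

/-- membership in the symplectic-type subgroup in terms of linear maps -/
theorem sim_data (f : (Fin n → F) → (Fin n → F) → F)
    (y : Matrix.SpecialLinearGroup (Fin n) F)
    (hy : y ∈ ((Cfsg.Geo.similarityGroup f).comap
      (Matrix.SpecialLinearGroup.toGL :
        Matrix.SpecialLinearGroup (Fin n) F →* GL (Fin n) F))) :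
    ∃ c : F, c ≠ 0 ∧ ∀ u v, f (Matrix.toLin' (y : Matrix (Fin n) (Fin n) F) u)
      (Matrix.toLin' (y : Matrix (Fin n) (Fin n) F) v) = c * f u v := by
  rw [Subgroup.mem_comap] at hy
  obtain ⟨c, hc⟩ := hy
  refine ⟨c, c.ne_zero, fun u v => ?_⟩
  rw [Matrix.toLin'_apply, Matrix.toLin'_apply]
  exact hc u v

/-- both together -/
theorem conj_sim_data (f : (Fin n → F) → (Fin n → F) → F) (hf : Cfsg.Geo.IsSymplecticForm f)
    (x P : Matrix.SpecialLinearGroup (Fin n) F)
    (h : P⁻¹ * x * P ∈ ((Cfsg.Geo.similarityGroup f).comap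
      (Matrix.SpecialLinearGroup.toGL :
        Matrix.SpecialLinearGroup (Fin n) F →* GL (Fin n) F))) :
    ∃ (E : (Fin n → F) ≃ₗ[F] (Fin n → F)) (c : F), c ≠ 0 ∧ ∀ u v,
      bilOf hf (E.symm (Matrix.toLin' (x : Matrix (Fin n) (Fin n) F) (E u)))
        (E.symm (Matrix.toLin' (x : Matrix (Fin n) (Fin n) F) (E v))) = c * bilOf hf u v := by
  obtain ⟨E, hE⟩ := conj_data x P
  obtain ⟨c, hc0, hc⟩ := sim_data f _ h
  refine ⟨E, c, hc0, fun u v => ?_⟩
  rw [bilOf_apply, bilOf_apply, ← hE, ← hE]
  exact hc u v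

end conj

section general

variable {F V : Type*} [Field F] [AddCommGroup V] [Module F V]

/-- the multiplier of a similarity of finite order -/
theorem multiplier_pow (B : V →ₗ[F] V →ₗ[F] F) (hB : ∃ u v, B u v ≠ 0) (G : V →ₗ[F] V) (c : F)
    (hc : ∀ u v, B (G u) (G v) = c * B u v) (r : ℕ) (hG : G ^ r = 1) : c ^ r = 1 := by
  have hpow : ∀ (i : ℕ) (u v : V), B ((G ^ i) u) ((G ^ i) v) = c ^ i * B u v := by
    intro i
    induction i with
    | zero => intro u v; simp
    | succ i ih =>
      intro u v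
      rw [pow_succ, Module.End.mul_apply, Module.End.mul_apply, ih, hc, pow_succ]
      ring
  obtain ⟨u, v, huv⟩ := hB
  have h1 := hpow r u v
  rw [hG, Module.End.one_apply, Module.End.one_apply] at h1
  have h2 : (c ^ r - 1) * B u v = 0 := by linear_combination -h1
  rcases mul_eq_zero.mp h2 with h3 | h3
  · exact sub_eq_zero.mp h3
  · exact absurd h3 huv

end general

section caseC

variable {F : Type*} [Field F] [Fintype F] {n : ℕ}

omit [Fintype F] in
theorem symp_exists_ne_zero (hn : 0 < n) {f : (Fin n → F) → (Fin n → F) → F}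
    (hf : Cfsg.Geo.IsSymplecticForm f) : ∃ u v, bilOf hf u v ≠ 0 := by
  classical
  have hu : (Pi.single (⟨0, hn⟩ : Fin n) (1 : F) : Fin n → F) ≠ 0 := by
    intro h
    have := congrFun h ⟨0, hn⟩
    simp at this
  by_contra hall
  apply hu
  apply symp_hnd hf
  intro y
  by_contra hne
  exact hall ⟨_, y, hne⟩

/-- an element of order `r` with no `r`-th roots of unity in `F` and fixed space of odd dimension
is not conjugate into the symplectic-type subgroup -/
theorem not_conj_C (hn : 0 < n) (f : (Fin n → F) → (Fin n → F) → F)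
    (hf : Cfsg.Geo.IsSymplecticForm f) (r : ℕ) (hr : r.Prime) (hr0 : (r : F) ≠ 0)
    (hrq : ¬ r ∣ Fintype.card F - 1)
    (x : Matrix.SpecialLinearGroup (Fin n) F)
    (hxr : Matrix.toLin' (x : Matrix (Fin n) (Fin n) F) ^ r = 1)
    (hodd : Odd (finrank F (Module.End.eigenspace
      (Matrix.toLin' (x : Matrix (Fin n) (Fin n) F)) 1)))
    (P : Matrix.SpecialLinearGroup (Fin n) F) :
    P⁻¹ * x * P ∉ ((Cfsg.Geo.similarityGroup f).comap
      (Matrix.SpecialLinearGroup.toGL :
        Matrix.SpecialLinearGroup (Fin n) F →* GL (Fin n) F)) := by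
  classical
  intro hmem
  obtain ⟨E, c, hc0, hc⟩ := conj_sim_data f hf x P hmem
  set X := Matrix.toLin' (x : Matrix (Fin n) (Fin n) F) with hX
  obtain ⟨G, hGdef⟩ : ∃ G : (Fin n → F) →ₗ[F] (Fin n → F),
      G = (E.symm : (Fin n → F) →ₗ[F] (Fin n → F)) ∘ₗ X ∘ₗ (E : (Fin n → F) →ₗ[F] (Fin n → F)) :=
    ⟨_, rfl⟩
  have hGapp : ∀ v, G v = E.symm (X (E v)) := fun v => by rw [hGdef]; rfl
  have hGpow : ∀ i : ℕ, ∀ v, (G ^ i) v = E.symm ((X ^ i) (E v)) := by
    intro i
    induction i with
    | zero => intro v; simp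
    | succ i ih =>
      intro v
      rw [pow_succ, Module.End.mul_apply, ih, hGapp, LinearEquiv.apply_symm_apply, pow_succ,
        Module.End.mul_apply]
  have hGr : G ^ r = 1 := by
    apply LinearMap.ext
    intro v
    rw [hGpow, hxr, Module.End.one_apply, LinearEquiv.symm_apply_apply, Module.End.one_apply]
  have hcG : ∀ u v, bilOf hf (G u) (G v) = c * bilOf hf u v := by
    intro u v
    rw [hGapp, hGapp]
    exact hc u v
  have hcr : c ^ r = 1 := multiplier_pow (bilOf hf) (symp_exists_ne_zero hn hf) G c hcG r hGr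
  -- `c = 1`
  have hc1 : c = 1 := by
    have hcq : c ^ (Fintype.card F - 1) = 1 := FiniteField.pow_card_sub_one_eq_one c hc0
    have hcop : Nat.Coprime r (Fintype.card F - 1) := (Nat.Prime.coprime_iff_not_dvd hr).mpr hrq
    have hg : c ^ (Nat.gcd r (Fintype.card F - 1)) = 1 := pow_gcd_eq_one.mpr ⟨hcr, hcq⟩
    rw [hcop.gcd_eq_one, pow_one] at hg
    exact hg
  have hiso : ∀ u v, bilOf hf (G u) (G v) = bilOf hf u v := by
    intro u v
    rw [hcG, hc1, one_mul]
  have heven := fixed_even (bilOf hf) (fun v => hf.alternating v) (fun v hv => symp_hnd hf v hv)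
    G hiso r hr0 hGr
  -- the fixed spaces have the same dimension
  have hmap : (Module.End.eigenspace X 1).map (E.symm : (Fin n → F) →ₗ[F] (Fin n → F)) =
      Module.End.eigenspace G 1 := by
    ext v
    rw [Submodule.mem_map, Module.End.mem_eigenspace_iff, one_smul, hGapp]
    constructor
    · rintro ⟨y, hy, rfl⟩
      rw [Module.End.mem_eigenspace_iff, one_smul] at hy
      show E.symm (X (E (E.symm y))) = E.symm y
      rw [LinearEquiv.apply_symm_apply, hy]
    · intro hv
      refine ⟨E v, ?_, E.symm_apply_apply v⟩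
      rw [Module.End.mem_eigenspace_iff, one_smul]
      have := congrArg E hv
      rw [LinearEquiv.apply_symm_apply] at this
      exact this
  have hdim : finrank F (Module.End.eigenspace G 1) = finrank F (Module.End.eigenspace X 1) := by
    rw [← hmap]
    exact LinearEquiv.finrank_map_eq E.symm _
  rw [hdim] at heven
  exact (Nat.not_even_iff_odd.mpr hodd) heven

end caseC

end Cfsg.Agent.Lib.Helper15.PSp
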