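import Mathlib
import Cfsg.Agent.Lib.Helper15.PSp4

/-!
# Case C: `r ≠ p` and `r ∤ q - 1`
-/

set_option autoImplicit false

namespace Cfsg.Agent.Lib.Helper15.PSp

open Module Submodule Cfsg.Agent.Lib.Helper15 Cfsg.Agent.Lib.Helper15.PInv
  Cfsg.Agent.Lib.Helper15.PSub Cfsg.Agent.Lib.Helper15.PDec

variable {F : Type*} [Field F] [Fintype F] {n : ℕ}

theorem exists_caseC (p : ℕ) [hp : Fact p.Prime] [CharP F p] (m : ℕ) (hm : 2 ≤ m) (hnm : n = 2 * m)
    (f : (Fin n → F) → (Fin n → F) → F) (hf : Cfsg.Geo.IsSymplecticForm f)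
    (r : ℕ) [hr : Fact r.Prime] (hr2 : r ≠ 2) (hrp : r ≠ p)
    (hrq : ¬ r ∣ Fintype.card F - 1)
    (hΩ : r ∣ ((Cfsg.Geo.similarityGroup f).comap
      (Matrix.SpecialLinearGroup.toGL :
        Matrix.SpecialLinearGroup (Fin n) F →* GL (Fin n) F)).index) :
    ∃ x : Matrix.SpecialLinearGroup (Fin n) F,
      (∃ z : F, ((x ^ r : Matrix.SpecialLinearGroup (Fin n) F) : Matrix (Fin n) (Fin n) F) =
        z • (1 : Matrix (Fin n) (Fin n) F)) ∧
      (∀ z : F, (x : Matrix (Fin n) (Fin n) F) ≠ z • (1 : Matrix (Fin n) (Fin n) F)) ∧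
      ∀ P : Matrix.SpecialLinearGroup (Fin n) F, P⁻¹ * x * P ∉
        ((Cfsg.Geo.similarityGroup f).comap
          (Matrix.SpecialLinearGroup.toGL :
            Matrix.SpecialLinearGroup (Fin n) F →* GL (Fin n) F)) := by
  classical
  have hr0 : (r : F) ≠ 0 := ne_zero_of_ne p r hr.out hrp
  have hrcard : ¬ r ∣ Fintype.card F := by
    obtain ⟨⟨k, _⟩, -, hk⟩ := FiniteField.card F p
    rw [hk]
    intro h
    have h1 := hr.out.dvd_of_dvd_pow h
    exact hrp ((Nat.prime_dvd_prime_iff_eq hr.out hp.out).mp h1)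
  obtain ⟨j, hj2, hj3, hjn, hjr⟩ :=
    exists_odd_of_dvd_index m (by omega) hnm f hf r hr.out hr2 hrcard hΩ
  set c := orderOf ((Fintype.card F : ℕ) : ZMod r) with hc
  have hcj : c ∣ j := by
    apply orderOf_dvd_of_pow_eq_one
    have h1 : ((Fintype.card F ^ j - 1 : ℕ) : ZMod r) = 0 :=
      (ZMod.natCast_eq_zero_iff _ _).mpr hjr
    have h2 : 1 ≤ Fintype.card F ^ j := Nat.one_le_pow _ _ Fintype.card_pos
    rw [Nat.cast_sub h2, Nat.cast_pow, Nat.cast_one, sub_eq_zero] at h1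
    exact h1
  have hcodd : c % 2 = 1 := by
    obtain ⟨d, hd⟩ := hcj
    rcases Nat.even_or_odd c with he | ho
    · exfalso
      obtain ⟨e, he⟩ := he
      rw [hd, he] at hj2
      have : (e + e) * d = 2 * (e * d) := by ring
      rw [this] at hj2
      omega
    · exact Nat.odd_iff.mp ho
  have hcle : c ≤ j := Nat.le_of_dvd (by omega) hcj
  obtain ⟨y, hdet, hyr, hns, hfix⟩ := exists_bad p r hrp hrq n 1 le_rfl (by rw [one_mul]; omega)
  rw [one_mul] at hfix
  refine ⟨toSL y hdet, ⟨1, ?_⟩, ?_, ?_⟩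
  · rw [pow_SL_iff, toLin'_toSL, hyr, one_smul]
  · intro z hz
    rw [scalar_SL_iff, toLin'_toSL] at hz
    exact hns z hz
  · intro P
    apply not_conj_C (by omega) f hf r hr.out hr0 hrq
    · rw [toLin'_toSL]
      exact hyr
    · rw [toLin'_toSL, hfix, Nat.odd_iff]
      omega

end Cfsg.Agent.Lib.Helper15.PSp
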