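import Mathlib
import Cfsg.Agent.Lib.Helper15.PSp5

/-!
# Case A: `r = p`, a unipotent element with a Jordan block of size three
-/

set_option autoImplicit false

namespace Cfsg.Agent.Lib.Helper15.PSp

open Module Submodule Cfsg.Agent.Lib.Helper15 Cfsg.Agent.Lib.Helper15.PInv
  Cfsg.Agent.Lib.Helper15.PSub

section caseA

variable {F : Type*} [Field F] {n : ℕ}

/-- an element of order `p` whose `X - 1` has rank two and non-zero square is not conjugate into
the symplectic-type subgroup -/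
theorem not_conj_A (hn : 0 < n) (f : (Fin n → F) → (Fin n → F) → F)
    (hf : Cfsg.Geo.IsSymplecticForm f) (p : ℕ) [hp : Fact p.Prime] [CharP F p]
    (x : Matrix.SpecialLinearGroup (Fin n) F)
    (hxp : Matrix.toLin' (x : Matrix (Fin n) (Fin n) F) ^ p = 1)
    (w : Fin n → F)
    (h2 : (Matrix.toLin' (x : Matrix (Fin n) (Fin n) F) - 1)
      ((Matrix.toLin' (x : Matrix (Fin n) (Fin n) F) - 1) w) ≠ 0)
    (h3 : (Matrix.toLin' (x : Matrix (Fin n) (Fin n) F) - 1)
      ((Matrix.toLin' (x : Matrix (Fin n) (Fin n) F) - 1)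
        ((Matrix.toLin' (x : Matrix (Fin n) (Fin n) F) - 1) w)) = 0)
    (him : ∀ s, ∃ α β : F, (Matrix.toLin' (x : Matrix (Fin n) (Fin n) F) - 1) s =
      α • (Matrix.toLin' (x : Matrix (Fin n) (Fin n) F) - 1) w +
      β • (Matrix.toLin' (x : Matrix (Fin n) (Fin n) F) - 1)
        ((Matrix.toLin' (x : Matrix (Fin n) (Fin n) F) - 1) w))
    (P : Matrix.SpecialLinearGroup (Fin n) F) :
    P⁻¹ * x * P ∉ ((Cfsg.Geo.similarityGroup f).comap
      (Matrix.SpecialLinearGroup.toGL :
        Matrix.SpecialLinearGroup (Fin n) F →* GL (Fin n) F)) := by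
  classical
  intro hmem
  obtain ⟨E, c, hc0, hc⟩ := conj_sim_data f hf x P hmem
  obtain ⟨X, hX⟩ : ∃ X : (Fin n → F) →ₗ[F] (Fin n → F),
      X = Matrix.toLin' (x : Matrix (Fin n) (Fin n) F) := ⟨_, rfl⟩
  rw [← hX] at hxp h2 h3 him hc
  obtain ⟨G, hGdef⟩ : ∃ G : (Fin n → F) →ₗ[F] (Fin n → F),
      G = (E.symm : (Fin n → F) →ₗ[F] (Fin n → F)) ∘ₗ X ∘ₗ (E : (Fin n → F) →ₗ[F] (Fin n → F)) :=
    ⟨_, rfl⟩
  have hGapp : ∀ v, G v = E.symm (X (E v)) := fun v => by rw [hGdef]; rfl
  have hGpow : ∀ i : ℕ, ∀ v, (G ^ i) v = E.symm ((X ^ i) (E v)) := by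
    intro i
    induction i with
    | zero => intro v; simp
    | succ i ih =>
      intro v
      rw [pow_succ, Module.End.mul_apply, ih, hGapp, LinearEquiv.apply_symm_apply, pow_succ,
        Module.End.mul_apply]
  have hGr : G ^ p = 1 := by
    apply LinearMap.ext
    intro v
    rw [hGpow, hxp, Module.End.one_apply, LinearEquiv.symm_apply_apply, Module.End.one_apply]
  have hcG : ∀ u v, bilOf hf (G u) (G v) = c * bilOf hf u v := by
    intro u v
    rw [hGapp, hGapp]
    exact hc u v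
  have hcr : c ^ p = 1 := multiplier_pow (bilOf hf) (symp_exists_ne_zero hn hf) G c hcG p hGr
  have hc1 : c = 1 := by
    apply frobenius_inj F p
    rw [frobenius_def, frobenius_def, hcr, one_pow]
  have hiso : ∀ u v, bilOf hf (G u) (G v) = bilOf hf u v := by
    intro u v
    rw [hcG, hc1, one_mul]
  have hsurj : Function.Surjective G := by
    intro y
    refine ⟨(G ^ (p - 1)) y, ?_⟩
    have h1 : G * G ^ (p - 1) = G ^ p := by
      rw [← pow_succ']
      congr 1
      have := hp.out.two_le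
      omega
    have h2 : G ((G ^ (p - 1)) y) = (G * G ^ (p - 1)) y := rfl
    rw [h2, h1, hGr, Module.End.one_apply]
  have hGN : ∀ u, (G - 1) u = E.symm ((X - 1) (E u)) := by
    intro u
    rw [LinearMap.sub_apply, Module.End.one_apply, hGapp, LinearMap.sub_apply,
      Module.End.one_apply, map_sub, LinearEquiv.symm_apply_apply]
  have e1 : (G - 1) (E.symm w) = E.symm ((X - 1) w) := by
    rw [hGN, LinearEquiv.apply_symm_apply]
  have e2 : (G - 1) ((G - 1) (E.symm w)) = E.symm ((X - 1) ((X - 1) w)) := by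
    rw [e1, hGN, LinearEquiv.apply_symm_apply]
  have e3 : (G - 1) ((G - 1) ((G - 1) (E.symm w))) = E.symm ((X - 1) ((X - 1) ((X - 1) w))) := by
    rw [e2, hGN, LinearEquiv.apply_symm_apply]
  apply jordan3_not_isometry (bilOf hf) (fun v => hf.alternating v)
    (fun v hv => symp_hnd hf v hv) G hsurj hiso (E.symm w)
  · rw [e2]
    intro h0
    exact h2 ((LinearEquiv.map_eq_zero_iff E.symm).mp h0)
  · rw [e3, h3, map_zero]
  · intro s
    obtain ⟨α, β, hαβ⟩ := him (E s)
    refine ⟨α, β, ?_⟩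
    rw [e2, e1, hGN, hαβ, map_add, map_smul, map_smul]

/-- existence in the case `r = p` -/
theorem exists_caseA (hn : 3 ≤ n) (f : (Fin n → F) → (Fin n → F) → F)
    (hf : Cfsg.Geo.IsSymplecticForm f) (p : ℕ) [hp : Fact p.Prime] [CharP F p] (hp2 : p ≠ 2) :
    ∃ x : Matrix.SpecialLinearGroup (Fin n) F,
      (∃ z : F, ((x ^ p : Matrix.SpecialLinearGroup (Fin n) F) : Matrix (Fin n) (Fin n) F) =
        z • (1 : Matrix (Fin n) (Fin n) F)) ∧
      (∀ z : F, (x : Matrix (Fin n) (Fin n) F) ≠ z • (1 : Matrix (Fin n) (Fin n) F)) ∧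
      ∀ P : Matrix.SpecialLinearGroup (Fin n) F, P⁻¹ * x * P ∉
        ((Cfsg.Geo.similarityGroup f).comap
          (Matrix.SpecialLinearGroup.toGL :
            Matrix.SpecialLinearGroup (Fin n) F →* GL (Fin n) F)) := by
  classical
  obtain ⟨i0, hi0⟩ : ∃ i : Fin n, i = ⟨0, by omega⟩ := ⟨_, rfl⟩
  obtain ⟨i1, hi1⟩ : ∃ i : Fin n, i = ⟨1, by omega⟩ := ⟨_, rfl⟩
  obtain ⟨i2, hi2⟩ : ∃ i : Fin n, i = ⟨2, by omega⟩ := ⟨_, rfl⟩
  have h01 : i0 ≠ i1 := by rw [hi0, hi1]; intro h; exact absurd (Fin.mk.inj_iff.mp h) (by omega)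
  have h02 : i0 ≠ i2 := by rw [hi0, hi2]; intro h; exact absurd (Fin.mk.inj_iff.mp h) (by omega)
  have h12 : i1 ≠ i2 := by rw [hi1, hi2]; intro h; exact absurd (Fin.mk.inj_iff.mp h) (by omega)
  have hne : Nonempty (Fin n) := ⟨i0⟩
  obtain ⟨M, hM⟩ : ∃ M : Matrix (Fin n) (Fin n) F,
      M = Matrix.transvection i0 i1 1 * Matrix.transvection i1 i2 1 := ⟨_, rfl⟩
  have hdet : M.det = 1 := by
    rw [hM, Matrix.det_mul, Matrix.det_transvection_of_ne i0 i1 h01,
      Matrix.det_transvection_of_ne i1 i2 h12, one_mul]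
  obtain ⟨X, hX⟩ : ∃ X : (Fin n → F) →ₗ[F] (Fin n → F), X = Matrix.toLin' M := ⟨_, rfl⟩
  have hXv : ∀ v : Fin n → F, X v = v + ((v i1 + v i2) • Pi.single i0 (1 : F) +
      (v i2) • Pi.single i1 (1 : F)) := by
    intro v
    rw [hX, hM, Matrix.toLin'_apply, ← Matrix.mulVec_mulVec]
    have ht : ∀ (i j : Fin n) (u : Fin n → F),
        (Matrix.transvection i j (1 : F)).mulVec u = u + (u j) • Pi.single i (1 : F) := by
      intro i j u
      rw [Matrix.transvection, Matrix.add_mulVec, Matrix.one_mulVec, Matrix.single_mulVec_eq,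
        one_mul]
    rw [ht, ht]
    simp only [Pi.add_apply, Pi.smul_apply, Pi.single_eq_same, smul_eq_mul, mul_one]
    module
  obtain ⟨N, hN⟩ : ∃ N : (Fin n → F) →ₗ[F] (Fin n → F), N = X - 1 := ⟨_, rfl⟩
  have hNv : ∀ v : Fin n → F, N v = (v i1 + v i2) • Pi.single i0 (1 : F) +
      (v i2) • Pi.single i1 (1 : F) := by
    intro v
    rw [hN, LinearMap.sub_apply, hXv, Module.End.one_apply, add_sub_cancel_left]
  have hNv1 : ∀ v : Fin n → F, (N v) i1 = v i2 := by
    intro v
    rw [hNv]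
    simp [Pi.single_eq_of_ne h01.symm]
  have hNv2 : ∀ v : Fin n → F, (N v) i2 = 0 := by
    intro v
    rw [hNv]
    simp [Pi.single_eq_of_ne h02.symm, Pi.single_eq_of_ne h12.symm]
  have hNN : ∀ v : Fin n → F, N (N v) = (v i2) • Pi.single i0 (1 : F) := by
    intro v
    rw [hNv (N v), hNv1, hNv2, add_zero, zero_smul, add_zero]
  have hNNN : ∀ v : Fin n → F, N (N (N v)) = 0 := by
    intro v
    rw [hNN (N v), hNv2, zero_smul]
  have hN3 : N ^ 3 = 0 := by
    apply LinearMap.ext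
    intro v
    rw [pow_succ, pow_succ, pow_one, Module.End.mul_apply, Module.End.mul_apply, hNNN,
      LinearMap.zero_apply]
  -- `M ^ p = 1`
  have hMp : M ^ p = 1 := by
    have h1 : M = 1 + (M - 1) := by abel
    have h3 : (M - 1) ^ 3 = 0 := by
      apply Matrix.toLin'.injective
      rw [Matrix.toLin'_pow, map_sub, Matrix.toLin'_one, ← hX, map_zero]
      have hid : (LinearMap.id : (Fin n → F) →ₗ[F] (Fin n → F)) = 1 := rfl
      rw [hid, ← hN]
      exact hN3
    have hp3 : 3 ≤ p := by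
      have := hp.out.two_le
      omega
    have h4 : (M - 1) ^ p = 0 := by
      have : p = 3 + (p - 3) := by omega
      rw [this, pow_add, h3, zero_mul]
    rw [h1, add_pow_char_of_commute p (Commute.one_left _), one_pow, h4, add_zero]
  refine ⟨⟨M, hdet⟩, ⟨1, ?_⟩, ?_, ?_⟩
  · rw [one_smul]
    exact hMp
  · intro z hz
    have h1 : M i0 i1 = 1 := by
      have := congrFun (hXv (Pi.single i1 1)) i0
      rw [hX, Matrix.toLin'_apply, Matrix.mulVec_single_one] at this
      rw [Matrix.col_apply] at this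
      rw [this]
      simp [Pi.single_eq_of_ne h01, Pi.single_eq_of_ne h12.symm]
    have h2 : (z • (1 : Matrix (Fin n) (Fin n) F)) i0 i1 = 0 := by
      rw [Matrix.smul_apply, Matrix.one_apply_ne h01, smul_zero]
    change M = z • 1 at hz
    rw [hz, h2] at h1
    exact zero_ne_one h1
  · intro P
    have hXp : X ^ p = 1 := by
      rw [hX, ← Matrix.toLin'_pow, hMp, Matrix.toLin'_one]
      rfl
    refine not_conj_A (by omega) f hf p ⟨M, hdet⟩ ?_ (Pi.single i2 1) ?_ ?_ ?_ P
    · show Matrix.toLin' M ^ p = 1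
      rw [← hX]
      exact hXp
    · show (Matrix.toLin' M - 1) ((Matrix.toLin' M - 1) (Pi.single i2 1)) ≠ 0
      rw [← hX, ← hN, hNN, Pi.single_eq_same, one_smul]
      intro h0
      have := congrFun h0 i0
      rw [Pi.single_eq_same, Pi.zero_apply] at this
      exact one_ne_zero this
    · show (Matrix.toLin' M - 1) ((Matrix.toLin' M - 1) ((Matrix.toLin' M - 1) (Pi.single i2 1)))
        = 0
      rw [← hX, ← hN, hNNN]
    · intro s
      show ∃ α β : F, (Matrix.toLin' M - 1) s = α • (Matrix.toLin' M - 1) (Pi.single i2 1) +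
        β • (Matrix.toLin' M - 1) ((Matrix.toLin' M - 1) (Pi.single i2 1))
      rw [← hX, ← hN]
      refine ⟨s i2, s i1, ?_⟩
      rw [hNN, hNv s, hNv (Pi.single i2 1), Pi.single_eq_same, Pi.single_eq_of_ne h12, zero_add,
        one_smul, one_smul]
      module

end caseA

end Cfsg.Agent.Lib.Helper15.PSp
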