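import Mathlib
import Cfsg.Agent.Lib.Helper15.PSp6

/-!
# Case B: `r ∣ q - 1`, the element `diag(ζ, ζ, ζ⁻², 1, …, 1)`
-/

set_option autoImplicit false

namespace Cfsg.Agent.Lib.Helper15.PSp

open Module Submodule Cfsg.Agent.Lib.Helper15 Cfsg.Agent.Lib.Helper15.PInv
  Cfsg.Agent.Lib.Helper15.PSub

section caseB

variable {F : Type*} [Field F]

/-- the eigenvalues of the model element -/
def dB (ζ : F) (k : ℕ) : Fin 3 ⊕ Fin k → F := Sum.elim ![ζ, ζ, (ζ⁻¹) ^ 2] (fun _ => 1)

theorem count_dB [DecidableEq F] (ζ lam : F) (k : ℕ) :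
    Nat.card {i : Fin 3 ⊕ Fin k // dB ζ k i = lam} =
      (if ζ = lam then 2 else 0) + (if (ζ⁻¹) ^ 2 = lam then 1 else 0) +
        (if (1 : F) = lam then k else 0) := by
  rw [Nat.card_eq_fintype_card, Fintype.card_subtype, Finset.card_filter, Fintype.sum_sum_type,
    Fin.sum_univ_three]
  have hr : ∀ a : Fin k, dB ζ k (Sum.inr a) = 1 := fun _ => rfl
  have hs : (∑ a : Fin k, if dB ζ k (Sum.inr a) = lam then 1 else 0) =
      ∑ _a : Fin k, if (1 : F) = lam then 1 else 0 := by
    apply Finset.sum_congr rfl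
    intro a _
    rw [hr a]
  rw [hs, show dB ζ k (Sum.inl 0) = ζ from rfl, show dB ζ k (Sum.inl 1) = ζ from rfl,
    show dB ζ k (Sum.inl 2) = (ζ⁻¹) ^ 2 from rfl, Finset.sum_const, Finset.card_univ,
    Fintype.card_fin, smul_eq_mul]
  split_ifs <;> simp

variable {V : Type*} [AddCommGroup V] [Module F V] [FiniteDimensional F V]

/-- the model element is not a similarity of a nondegenerate alternating form -/
theorem not_sim_B (B : V →ₗ[F] V →ₗ[F] F) (halt : ∀ x, B x x = 0)
    (hnd : ∀ x, (∀ y, B x y = 0) → x = 0) (k : ℕ) (hk : Odd k) (ζ : F) (r : ℕ) (hr : r.Prime)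
    (hr2 : r ≠ 2) (hζ : ζ ^ r = 1) (hζ1 : ζ ≠ 1) (hgap : ¬ (k = 3 ∧ r = 3))
    (b : Basis (Fin 3 ⊕ Fin k) F V) (G : V →ₗ[F] V)
    (hG : ∀ i, G (b i) = dB ζ k i • b i) (c : F) (hc0 : c ≠ 0)
    (hc : ∀ u v, B (G u) (G v) = c * B u v) : False := by
  classical
  have hζ0 : ζ ≠ 0 := by
    rintro rfl
    rw [zero_pow hr.ne_zero] at hζ
    exact zero_ne_one hζ
  have hodd : r % 2 = 1 := by
    rcases hr.eq_two_or_odd with h | h
    · exact absurd h hr2
    · exact h
  -- powers of `ζ`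
  have hpow1 : ∀ m : ℕ, ζ ^ m = 1 → r ∣ m := by
    intro m hm
    by_contra hnd'
    have hcop : Nat.Coprime r m := (Nat.Prime.coprime_iff_not_dvd hr).mpr hnd'
    have hg : ζ ^ (Nat.gcd r m) = 1 := pow_gcd_eq_one.mpr ⟨hζ, hm⟩
    rw [hcop.gcd_eq_one, pow_one] at hg
    exact hζ1 hg
  have hz2 : (ζ⁻¹) ^ 2 ≠ 1 := by
    intro h
    rw [inv_pow, inv_eq_one] at h
    have := hpow1 2 h
    have h2 := Nat.le_of_dvd (by norm_num) this
    have := hr.two_le
    omega
  have hz3 : (ζ⁻¹) ^ 2 = ζ → r = 3 := by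
    intro h
    have h3 : ζ ^ 3 = 1 := by
      calc ζ ^ 3 = ζ ^ 2 * ζ := by ring
        _ = ζ ^ 2 * (ζ⁻¹) ^ 2 := by rw [h]
        _ = 1 := by rw [inv_pow, mul_inv_cancel₀ (pow_ne_zero 2 hζ0)]
    have := hpow1 3 h3
    exact ((Nat.prime_dvd_prime_iff_eq hr (by norm_num)).mp this)
  have hB : ∀ i j, dB ζ k i * dB ζ k j ≠ c → B (b i) (b j) = 0 := by
    intro i j hne
    have h1 := hc (b i) (b j)
    simp only [hG, map_smul, LinearMap.smul_apply, smul_eq_mul] at h1
    have h2 : (dB ζ k i * dB ζ k j - c) * B (b i) (b j) = 0 := by linear_combination h1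
    rcases mul_eq_zero.mp h2 with h3 | h3
    · exact absurd (sub_eq_zero.mp h3) hne
    · exact h3
  have hN1 : Nat.card {i : Fin 3 ⊕ Fin k // dB ζ k i = 1} = k := by
    rw [count_dB, if_neg hζ1, if_neg hz2, if_pos rfl, zero_add, zero_add]
  obtain ⟨k', hk'⟩ := hk
  by_cases hc1 : c = 1
  · have h1 := self_pair_even B halt hnd b (dB ζ k) c hB 1 (by
      intro i j hi hj
      rw [hi, one_mul, hc1]
      exact hj)
    rw [hN1] at h1
    obtain ⟨e, he⟩ := h1
    omega
  · have h1 := pair_count B hnd b (dB ζ k) c hB 1 c (by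
      intro i j hi hj
      rw [hi, one_mul]
      exact hj)
    have h2 := pair_count B hnd b (dB ζ k) c hB c 1 (by
      intro i j hi hj
      rw [hi]
      intro h
      apply hj
      have : c * dB ζ k j = c * 1 := by rw [h, mul_one]
      exact mul_left_cancel₀ hc0 this)
    rw [hN1] at h1 h2
    rw [count_dB, if_neg (Ne.symm hc1), add_zero] at h1 h2
    by_cases hcζ : ζ = c
    · by_cases hr3 : r = 3
      · have hz : (ζ⁻¹) ^ 2 = c := by
          rw [← hcζ, inv_pow]
          have h3 : ζ ^ 3 = 1 := by rw [← hr3]; exact hζ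
          have : ζ ^ 3 = ζ ^ 2 * ζ := by ring
          rw [this] at h3
          exact inv_eq_of_mul_eq_one_right h3
        rw [if_pos hcζ, if_pos hz] at h1 h2
        exact hgap ⟨by omega, hr3⟩
      · have hz : (ζ⁻¹) ^ 2 ≠ c := by
          rw [← hcζ]
          intro h
          exact hr3 (hz3 h)
        rw [if_pos hcζ, if_neg hz] at h1 h2
        omega
    · by_cases hz : (ζ⁻¹) ^ 2 = c
      · have h3 := pair_count B hnd b (dB ζ k) c hB ζ (c * ζ⁻¹) (by
          intro i j hi hj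
          rw [hi]
          intro h
          apply hj
          rw [← h, mul_comm ζ, mul_assoc, mul_inv_cancel₀ hζ0, mul_one])
        rw [count_dB, count_dB, if_pos rfl, if_neg hζ1.symm] at h3
        have e1 : ζ ≠ c * ζ⁻¹ := by
          intro h
          have h5 : ζ ^ 2 = c := by
            rw [pow_two]
            nth_rewrite 1 [h]
            rw [mul_assoc, inv_mul_cancel₀ hζ0, mul_one]
          have h4 : ζ ^ 4 = 1 := by
            have h6 : ζ ^ 4 = ζ ^ 2 * ζ ^ 2 := by ring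
            rw [h6]
            nth_rewrite 1 [h5]
            rw [← hz, inv_pow, inv_mul_cancel₀ (pow_ne_zero 2 hζ0)]
          have h7 : r ∣ 2 ^ 2 := hpow1 4 h4
          exact hr2 ((Nat.prime_dvd_prime_iff_eq hr Nat.prime_two).mp (hr.dvd_of_dvd_pow h7))
        have e2 : (ζ⁻¹) ^ 2 ≠ c * ζ⁻¹ := by
          rw [hz]
          intro h
          have : c * 1 = c * ζ⁻¹ := by rw [mul_one]; exact h
          have := mul_left_cancel₀ hc0 this
          exact hζ1 (inv_eq_one.mp this.symm)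
        have e3 : (1 : F) ≠ c * ζ⁻¹ := by
          intro h
          apply hcζ
          have : ζ = c * ζ⁻¹ * ζ := by rw [← h, one_mul]
          rw [this, mul_assoc, inv_mul_cancel₀ hζ0, mul_one]
        rw [if_neg e1, if_neg e2, if_neg e3] at h3
        omega
      · rw [if_neg hcζ, if_neg hz] at h1
        omega

end caseB

end Cfsg.Agent.Lib.Helper15.PSp
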