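import Mathlib
import Cfsg.Agent.Lib.Helper15.QuadF2a
import Cfsg.Agent.Lib.Helper15.QuadF2b
import Cfsg.Agent.S2617

set_option autoImplicit false

namespace Cfsg.Agent.Lib.Helper15

open Module QuadraticMap

variable (F : Type*) [Field F]

/-- the standard maximal totally singular subspace of the plus form -/
def plusEmb (m : ℕ) : (Fin m → F) →ₗ[F] (Fin m ⊕ Fin m → F) where
  toFun w := Sum.elim w 0
  map_add' a b := by
    funext j
    rcases j with j | j <;> simp
  map_smul' c a := by
    funext j
    rcases j with j | j <;> simp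

theorem plusEmb_injective (m : ℕ) : Function.Injective (plusEmb F m) := by
  intro a b h
  funext i
  have := congrFun h (Sum.inl i)
  simpa [plusEmb] using this

theorem plus_singular (m : ℕ) (u : Fin m ⊕ Fin m → F) (hu : u ∈ LinearMap.range (plusEmb F m)) :
    Cfsg.quadFormPlus m F u = 0 := by
  obtain ⟨w, rfl⟩ := hu
  simp [Cfsg.quadFormPlus, plusEmb]

theorem finrank_range_plusEmb (m : ℕ) : finrank F (LinearMap.range (plusEmb F m)) = m := by
  rw [LinearMap.finrank_range_of_inj (plusEmb_injective F m), Module.finrank_fin_fun]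

/-- the standard totally singular subspace of the minus form -/
def minusEmb (k : ℕ) : (Fin k → F) →ₗ[F] ((Fin k ⊕ Fin k) ⊕ Fin 2 → F) where
  toFun w := Sum.elim (Sum.elim w 0) 0
  map_add' a b := by
    funext j
    rcases j with (j | j) | j <;> simp
  map_smul' c a := by
    funext j
    rcases j with (j | j) | j <;> simp

theorem minusEmb_injective (k : ℕ) : Function.Injective (minusEmb F k) := by
  intro a b h
  funext i
  have := congrFun h (Sum.inl (Sum.inl i))
  simpa [minusEmb] using this

theorem minus_singular (k : ℕ) (a b : F) (u : (Fin k ⊕ Fin k) ⊕ Fin 2 → F)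
    (hu : u ∈ LinearMap.range (minusEmb F k)) :
    Cfsg.quadFormMinus k F a b u = 0 := by
  obtain ⟨w, rfl⟩ := hu
  simp [Cfsg.quadFormMinus, minusEmb]

theorem finrank_range_minusEmb (k : ℕ) : finrank F (LinearMap.range (minusEmb F k)) = k := by
  rw [LinearMap.finrank_range_of_inj (minusEmb_injective F k), Module.finrank_fin_fun]

theorem finrank_plus_space (m : ℕ) : finrank F (Fin m ⊕ Fin m → F) = 2 * m := by
  rw [Module.finrank_fintype_fun_eq_card]; simp; ring

theorem finrank_minus_space (k : ℕ) : finrank F ((Fin k ⊕ Fin k) ⊕ Fin 2 → F) = 2 * (k + 1) := by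
  rw [Module.finrank_fintype_fun_eq_card]; simp; ring

/-- the number of zeros of the plus form -/
theorem card_zeros_plus [Finite F] (m : ℕ) :
    Nat.card {v : Fin m ⊕ Fin m → F // Cfsg.quadFormPlus m F v = 0} * Nat.card F ^ m =
      Nat.card F ^ m * Nat.card F ^ m + (Nat.card F ^ (2 * m) - Nat.card F ^ m) * Nat.card F ^ (m - 1) := by
  have := card_zeros_of_maximal_singular (QPlus F m) (nondegenerate_QPlus F m) (LinearMap.range (plusEmb F m))
    (fun u hu => by rw [QPlus_apply]; exact plus_singular F m u hu) m (finrank_range_plusEmb F m)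
    (finrank_plus_space F m)
  simpa only [QPlus_apply] using this

/-- over `𝔽₂` a totally singular subspace of the minus form on `2(k+1)` dimensions has dimension at most `k` -/
theorem finrank_le_of_singular_minus_two (k : ℕ) (U : Submodule (ZMod 2) ((Fin k ⊕ Fin k) ⊕ Fin 2 → ZMod 2))
    (hU : ∀ u ∈ U, Cfsg.quadFormMinus k (ZMod 2) 1 1 u = 0) : finrank (ZMod 2) U ≤ k := by
  classical
  have hU' : ∀ u ∈ U, QMinus (ZMod 2) k 1 1 u = 0 := fun u hu => by rw [QMinus_apply]; exact hU u hu
  have hle := two_mul_finrank_le_of_singular (QMinus (ZMod 2) k 1 1) (nondegenerate_QMinus_two k) U hU'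
  rw [finrank_minus_space] at hle
  by_contra hlt
  push Not at hlt
  have heq : finrank (ZMod 2) U = k + 1 := by omega
  have h1 := card_zeros_of_maximal_singular (QMinus (ZMod 2) k 1 1) (nondegenerate_QMinus_two k) U hU' (k + 1) heq
    (finrank_minus_space (ZMod 2) k)
  simp only [QMinus_apply] at h1
  have h2 := card_zeros_plus (ZMod 2) (k + 1)
  rw [← h2] at h1
  have hpos : 0 < Nat.card (ZMod 2) ^ (k + 1) := pow_pos Nat.card_pos _
  have h3 := Nat.eq_of_mul_eq_mul_right hpos h1
  have h4 := Cfsg.Agent.S2617.main_count (F := ZMod 2) k 1 (by decide)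
  apply h4
  rw [Nat.card_eq_fintype_card, Nat.card_eq_fintype_card, Fintype.card_subtype, Fintype.card_subtype] at h3
  exact h3.symm

end Cfsg.Agent.Lib.Helper15
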