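import Mathlib
import Cfsg.Agent.Lib.Helper15.PSpM8

/-!
# Symplectic frames adapted to a quadratic field element and to elements with scalar square
-/

set_option autoImplicit false
set_option linter.unusedSectionVars false

namespace Cfsg.Agent.Lib.Helper15.PSpM

open Module Cfsg.Agent.Lib.Helper15

section frames

variable {F V : Type*} [Field F] [AddCommGroup V] [Module F V] (B : V →ₗ[F] V →ₗ[F] F)

/-- a symplectic family of size two from its eight relevant values -/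
theorem isSympFam_two (halt : ∀ x, B x x = 0) (e₀ e₁ f₀ f₁ : V)
    (h01 : B e₀ e₁ = 0) (g01 : B f₀ f₁ = 0) (a00 : B e₀ f₀ = 1) (a01 : B e₀ f₁ = 0)
    (a10 : B e₁ f₀ = 0) (a11 : B e₁ f₁ = 1) : IsSympFam B ![e₀, e₁] ![f₀, f₁] := by
  have h10 : B e₁ e₀ = 0 := by rw [alt_swap B halt, h01, neg_zero]
  have g10 : B f₁ f₀ = 0 := by rw [alt_swap B halt, g01, neg_zero]
  refine ⟨?_, ?_, ?_⟩
  · rw [Fin.forall_fin_two]
    constructor <;> rw [Fin.forall_fin_two] <;> simp [halt, h01, h10]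
  · rw [Fin.forall_fin_two]
    constructor <;> rw [Fin.forall_fin_two] <;> simp [halt, g01, g10]
  · rw [Fin.forall_fin_two]
    constructor <;> rw [Fin.forall_fin_two] <;> simp [a00, a01, a10, a11]

/-- a frame adapted to a self-adjoint map with non-square scalar square -/
theorem jframe (halt : ∀ x, B x x = 0) (hnd : ∀ x, (∀ y, B x y = 0) → x = 0) (h2 : (2 : F) ≠ 0)
    (hV : ∃ v : V, v ≠ 0) (J : V →ₗ[F] V) (δ : F) (hδ : ¬ IsSquare δ)
    (hJsa : ∀ u v, B (J u) v = B u (J v)) (hJ2 : ∀ v, J (J v) = δ • v) :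
    ∃ e₀ e₁ f₀ f₁ : V, IsSympFam B ![e₀, e₁] ![f₀, f₁] ∧ J e₀ = e₁ ∧ J e₁ = δ • e₀ ∧
      J f₀ = δ • f₁ ∧ J f₁ = f₀ := by
  have hδ0 : δ ≠ 0 := by
    rintro rfl
    exact hδ ⟨0, by ring⟩
  have hJalt : ∀ v, B (J v) v = 0 := by
    intro v
    have h1 := hJsa v v
    rw [alt_swap B halt v (J v)] at h1
    have h3 : (2 : F) * B (J v) v = 0 := by linear_combination h1
    exact (mul_eq_zero.mp h3).resolve_left h2
  have hJalt' : ∀ v, B v (J v) = 0 := by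
    intro v
    rw [← hJsa, hJalt]
  obtain ⟨v, hv⟩ := hV
  obtain ⟨w₁, hw₁⟩ : ∃ w₁, B v w₁ ≠ 0 := by
    by_contra h
    push Not at h
    exact hv (hnd v h)
  obtain ⟨w₀, hw₀⟩ : ∃ w₀, B v w₀ = 1 := by
    refine ⟨(B v w₁)⁻¹ • w₁, ?_⟩
    rw [map_smul, smul_eq_mul, inv_mul_cancel₀ hw₁]
  obtain ⟨β, hβ⟩ : ∃ β, β = B (J v) w₀ := ⟨_, rfl⟩
  obtain ⟨D, hDdef⟩ : ∃ D, D = δ - β * β := ⟨_, rfl⟩
  have hD : D ≠ 0 := by
    intro h
    rw [hDdef] at h
    exact hδ ⟨β, by linear_combination h⟩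
  obtain ⟨w, hw⟩ : ∃ w, w = (δ / D) • w₀ + (-β / D) • J w₀ := ⟨_, rfl⟩
  have hvJw₀ : B v (J w₀) = β := by rw [← hJsa, hβ]
  have hJvJw₀ : B (J v) (J w₀) = δ := by
    rw [← hJsa, hJ2, map_smul, LinearMap.smul_apply, hw₀, smul_eq_mul, mul_one]
  have hvw : B v w = 1 := by
    rw [hw, map_add, map_smul, map_smul, hw₀, hvJw₀, smul_eq_mul, smul_eq_mul]
    field_simp
    rw [hDdef]
    ring
  have hJvw : B (J v) w = 0 := by
    rw [hw, map_add, map_smul, map_smul, ← hβ, hJvJw₀, smul_eq_mul, smul_eq_mul]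
    field_simp
    ring
  refine ⟨v, J v, w, δ⁻¹ • J w, ?_, rfl, hJ2 v, ?_, ?_⟩
  · apply isSympFam_two B halt
    · exact hJalt' v
    · rw [map_smul, hJalt', smul_zero]
    · exact hvw
    · rw [map_smul, ← hJsa, hJvw, smul_zero]
    · exact hJvw
    · rw [map_smul, ← hJsa, hJ2, map_smul, LinearMap.smul_apply, hvw, smul_eq_mul, smul_eq_mul,
        mul_one, inv_mul_cancel₀ hδ0]
  · rw [smul_smul, mul_inv_cancel₀ hδ0, one_smul]
  · rw [map_smul, hJ2, smul_smul, inv_mul_cancel₀ hδ0, one_smul]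

/-- a frame adapted to a non-scalar involution -/
theorem plusframe (halt : ∀ x, B x x = 0) (hnd : ∀ x, (∀ y, B x y = 0) → x = 0) (h2 : (2 : F) ≠ 0)
    (X : V →ₗ[F] V) (hiso : ∀ u v, B (X u) (X v) = B u v) (hX2 : ∀ v, X (X v) = v)
    (hne1 : ∃ v, X v ≠ v) (hne2 : ∃ v, X v ≠ -v) :
    ∃ e₀ e₁ f₀ f₁ : V, IsSympFam B ![e₀, e₁] ![f₀, f₁] ∧ X e₀ = e₀ ∧ X e₁ = -e₁ ∧
      X f₀ = f₀ ∧ X f₁ = -f₁ := by
  have horth : ∀ a b, X a = a → X b = -b → B a b = 0 := by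
    intro a b ha hb
    have h1 := hiso a b
    rw [ha, hb, map_neg] at h1
    have h3 : (2 : F) * B a b = 0 := by linear_combination -h1
    exact (mul_eq_zero.mp h3).resolve_left h2
  obtain ⟨u, hu⟩ := hne2
  obtain ⟨u', hu'⟩ := hne1
  obtain ⟨e₀, he₀⟩ : ∃ e₀, e₀ = u + X u := ⟨_, rfl⟩
  obtain ⟨e₁, he₁⟩ : ∃ e₁, e₁ = u' - X u' := ⟨_, rfl⟩
  have hXe₀ : X e₀ = e₀ := by rw [he₀, map_add, hX2, add_comm]
  have hXe₁ : X e₁ = -e₁ := by rw [he₁, map_sub, hX2, neg_sub]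
  have he₀0 : e₀ ≠ 0 := by
    intro h
    apply hu
    rw [he₀] at h
    exact eq_neg_of_add_eq_zero_right h
  have he₁0 : e₁ ≠ 0 := by
    intro h
    apply hu'
    rw [he₁] at h
    exact (sub_eq_zero.mp h).symm
  obtain ⟨w₀, hw₀⟩ : ∃ w₀, B e₀ w₀ ≠ 0 := by
    by_contra h
    push Not at h
    exact he₀0 (hnd e₀ h)
  obtain ⟨w₁, hw₁⟩ : ∃ w₁, B e₁ w₁ ≠ 0 := by
    by_contra h
    push Not at h
    exact he₁0 (hnd e₁ h)
  obtain ⟨f₀, hf₀⟩ : ∃ f₀, f₀ = (2 * B e₀ w₀)⁻¹ • (w₀ + X w₀) := ⟨_, rfl⟩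
  obtain ⟨f₁, hf₁⟩ : ∃ f₁, f₁ = (2 * B e₁ w₁)⁻¹ • (w₁ - X w₁) := ⟨_, rfl⟩
  have hXf₀ : X f₀ = f₀ := by rw [hf₀, map_smul, map_add, hX2, add_comm]
  have hXf₁ : X f₁ = -f₁ := by rw [hf₁, map_smul, map_sub, hX2, ← smul_neg, neg_sub]
  have h20 : 2 * B e₀ w₀ ≠ 0 := mul_ne_zero h2 hw₀
  have h21 : 2 * B e₁ w₁ ≠ 0 := mul_ne_zero h2 hw₁
  have ha00 : B e₀ f₀ = 1 := by
    have h1 : B e₀ (X w₀) = B e₀ w₀ := by
      have := hiso e₀ w₀
      rwa [hXe₀] at this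
    rw [hf₀, map_smul, map_add, h1, smul_eq_mul]
    field_simp
    ring
  have ha11 : B e₁ f₁ = 1 := by
    have h1 : B e₁ (X w₁) = -B e₁ w₁ := by
      have := hiso e₁ w₁
      rw [hXe₁, map_neg, LinearMap.neg_apply] at this
      linear_combination -this
    rw [hf₁, map_smul, map_sub, h1, smul_eq_mul]
    field_simp
    ring
  refine ⟨e₀, e₁, f₀, f₁, ?_, hXe₀, hXe₁, hXf₀, hXf₁⟩
  apply isSympFam_two B halt
  · exact horth _ _ hXe₀ hXe₁
  · exact horth _ _ hXf₀ hXf₁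
  · exact ha00
  · exact horth _ _ hXe₀ hXf₁
  · rw [alt_swap B halt, horth _ _ hXf₀ hXe₁, neg_zero]
  · exact ha11

end frames

section minus

variable {F V : Type*} [Field F] [Fintype F] [AddCommGroup V] [Module F V]
  (B : V →ₗ[F] V →ₗ[F] F)

theorem exists_sq_add_sq (hodd : Fintype.card F % 2 = 1) (c : F) : ∃ a b : F, a * a + b * b = c := by
  have hf2 : (Polynomial.X ^ 2 - Polynomial.C c : Polynomial F).degree = 2 :=
    Polynomial.degree_X_pow_sub_C (by norm_num) c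
  have hg2 : (Polynomial.X ^ 2 : Polynomial F).degree = 2 := Polynomial.degree_X_pow 2
  obtain ⟨a, b, h⟩ := FiniteField.exists_root_sum_quadratic hf2 hg2 hodd
  refine ⟨a, b, ?_⟩
  simp only [Polynomial.eval_sub, Polynomial.eval_pow, Polynomial.eval_X, Polynomial.eval_C] at h
  linear_combination h

/-- a frame adapted to an isometry with square `-1` -/
theorem minusframe (halt : ∀ x, B x x = 0) (hnd : ∀ x, (∀ y, B x y = 0) → x = 0) (h2 : (2 : F) ≠ 0)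
    (hodd : Fintype.card F % 2 = 1)
    (X : V →ₗ[F] V) (hiso : ∀ u v, B (X u) (X v) = B u v) (hX2 : ∀ v, X (X v) = -v)
    (hbig : ∀ a b : V, ∃ w : V, ∀ s t : F, w ≠ s • a + t • b) (δ : F) (hδ0 : δ ≠ 0) :
    ∃ e₀ e₁ f₀ f₁ : V, IsSympFam B ![e₀, e₁] ![f₀, f₁] ∧ X e₀ = f₀ ∧ X f₀ = -e₀ ∧
      X e₁ = δ • f₁ ∧ X f₁ = -(δ⁻¹ • e₁) := by
  have hsymm : ∀ u v, B u (X v) = B v (X u) := by
    intro u v
    have h1 := hiso u (X v)
    rw [hX2, map_neg] at h1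
    rw [alt_swap B halt v (X u), ← h1]
  have hXu : ∀ u, B (X u) u = -B u (X u) := fun u => alt_swap B halt _ _
  -- non-isotropic vectors in invariant nondegenerate subspaces
  have hNI : ∀ S : Submodule F V, (∀ u ∈ S, X u ∈ S) → (∀ u ∈ S, (∀ s ∈ S, B u s = 0) → u = 0) →
      (∃ u ∈ S, u ≠ 0) → ∃ u ∈ S, B u (X u) ≠ 0 := by
    intro S hSX hSn ⟨u, huS, hu0⟩
    by_contra hall
    push Not at hall
    have hpol : ∀ a ∈ S, ∀ b ∈ S, B a (X b) = 0 := by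
      intro a ha b hb
      have h1 := hall (a + b) (S.add_mem ha hb)
      simp only [map_add, LinearMap.add_apply, hall a ha, hall b hb, hsymm b a] at h1
      have h3 : (2 : F) * B a (X b) = 0 := by linear_combination h1
      exact (mul_eq_zero.mp h3).resolve_left h2
    apply hu0
    apply hSn u huS
    intro s hs
    have h1 := hpol u huS (-(X s)) (S.neg_mem (hSX s hs))
    rw [map_neg, hX2, neg_neg] at h1
    exact h1
  -- rescaling
  have hH : ∀ u : V, B u (X u) ≠ 0 → ∀ c : F, ∃ a b : F,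
      B (a • u + b • X u) (X (a • u + b • X u)) = c := by
    intro u hu c
    obtain ⟨a, b, hab⟩ := exists_sq_add_sq hodd (c / B u (X u))
    refine ⟨a, b, ?_⟩
    simp only [map_add, map_smul, map_neg, hX2, LinearMap.add_apply, LinearMap.smul_apply,
      LinearMap.neg_apply, smul_eq_mul, halt, hXu]
    have : (a * a + b * b) * B u (X u) = c := by
      rw [hab]
      field_simp
    linear_combination this
  -- the first plane
  obtain ⟨w₀, hw₀⟩ := hbig 0 0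
  have hw₀0 : w₀ ≠ 0 := by
    have := hw₀ 0 0
    rwa [smul_zero, add_zero] at this
  obtain ⟨u₁, -, hu₁⟩ := hNI ⊤ (fun _ _ => Submodule.mem_top)
    (fun u _ h => hnd u fun y => h y Submodule.mem_top) ⟨w₀, Submodule.mem_top, hw₀0⟩
  obtain ⟨a₁, b₁, hv₁⟩ := hH u₁ hu₁ 1
  obtain ⟨v₁, hv₁def⟩ : ∃ v₁, v₁ = a₁ • u₁ + b₁ • X u₁ := ⟨_, rfl⟩
  rw [← hv₁def] at hv₁
  -- the orthogonal complement
  obtain ⟨S, hS⟩ : ∃ S : Submodule F V,
      S = LinearMap.ker (B.flip v₁) ⊓ LinearMap.ker (B.flip (X v₁)) := ⟨_, rfl⟩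
  have hmemS : ∀ u, u ∈ S ↔ B u v₁ = 0 ∧ B u (X v₁) = 0 := by
    intro u
    rw [hS, Submodule.mem_inf, LinearMap.mem_ker, LinearMap.mem_ker, LinearMap.flip_apply,
      LinearMap.flip_apply]
  have hSX : ∀ u ∈ S, X u ∈ S := by
    intro u hu
    rw [hmemS] at hu ⊢
    constructor
    · have h3 := hiso u (X v₁)
      rw [hX2, map_neg, hu.2] at h3
      exact neg_eq_zero.mp h3
    · rw [hiso, hu.1]
  have hproj : ∀ w : V, w - B w (X v₁) • v₁ + B w v₁ • X v₁ ∈ S := by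
    intro w
    rw [hmemS]
    constructor
    · simp only [map_add, map_sub, map_smul, LinearMap.add_apply, LinearMap.sub_apply,
        LinearMap.smul_apply, smul_eq_mul, halt, hXu, hv₁]
      ring
    · simp only [map_add, map_sub, map_smul, LinearMap.add_apply, LinearMap.sub_apply,
        LinearMap.smul_apply, smul_eq_mul, halt, hv₁]
      ring
  have hSn : ∀ u ∈ S, (∀ s ∈ S, B u s = 0) → u = 0 := by
    intro u hu h
    apply hnd
    intro w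
    have h1 := h _ (hproj w)
    rw [hmemS] at hu
    rw [map_add, map_sub, map_smul, map_smul, hu.1, hu.2, smul_zero, smul_zero, sub_zero,
      add_zero] at h1
    exact h1
  obtain ⟨w₁, hw₁⟩ := hbig v₁ (X v₁)
  have hSne : ∃ u ∈ S, u ≠ 0 := by
    refine ⟨_, hproj w₁, ?_⟩
    intro h
    apply hw₁ (B w₁ (X v₁)) (-B w₁ v₁)
    rw [neg_smul]
    rw [sub_add_eq_add_sub, sub_eq_zero] at h
    rw [← h]
    abel
  obtain ⟨u₂, hu₂S, hu₂⟩ := hNI S hSX hSn hSne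
  obtain ⟨a₂, b₂, hv₂⟩ := hH u₂ hu₂ δ
  obtain ⟨v₂, hv₂def⟩ : ∃ v₂, v₂ = a₂ • u₂ + b₂ • X u₂ := ⟨_, rfl⟩
  rw [← hv₂def] at hv₂
  have hv₂S : v₂ ∈ S := by
    rw [hv₂def]
    exact S.add_mem (S.smul_mem _ hu₂S) (S.smul_mem _ (hSX _ hu₂S))
  have hXv₂S := hSX _ hv₂S
  rw [hmemS] at hv₂S hXv₂S
  refine ⟨v₁, v₂, X v₁, δ⁻¹ • X v₂, ?_, rfl, hX2 v₁, ?_, ?_⟩
  · apply isSympFam_two B halt
    · rw [alt_swap B halt, hv₂S.1, neg_zero]
    · rw [map_smul, hiso, alt_swap B halt, hv₂S.1, neg_zero, smul_zero]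
    · exact hv₁
    · rw [map_smul, alt_swap B halt, hXv₂S.1, neg_zero, smul_zero]
    · exact hv₂S.2
    · rw [map_smul, hv₂, smul_eq_mul, inv_mul_cancel₀ hδ0]
  · rw [smul_smul, mul_inv_cancel₀ hδ0, one_smul]
  · rw [map_smul, hX2, smul_neg]

end minus

end Cfsg.Agent.Lib.Helper15.PSpM
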