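import Mathlib
import Cfsg.Agent.Lib.Helper15.PSpM9

/-!
# Field extension subgroups `Sp_2(q^2).2` of `Sp_4(q)`, `q` odd: involutions fix points
-/

set_option autoImplicit false
set_option linter.unusedSectionVars false

namespace Cfsg.Agent.Lib.Helper15.PSpM

open Module Matrix Cfsg.Agent.Lib.Helper15 Cfsg.Agent.Lib.Helper6 Cfsg.Agent.Lib.Helper16
  Cfsg.Agent.Lib.Helper29.SPO

section framemat

variable {F : Type*} [Field F] {d : ℕ}

local notation "VV" => (Fin d ⊕ Fin d → F)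
local notation "MM" => Matrix (Fin d ⊕ Fin d) (Fin d ⊕ Fin d) F

/-- the symplectic matrix with prescribed columns forming a symplectic family -/
theorem frame_matrix (e f : Fin d → VV) (h : IsSympFam (stdSymp d F) e f) :
    ∃ P : GL (Fin d ⊕ Fin d) F, P ∈ Cfsg.spGL d F ∧
      (∀ i, (P : MM) *ᵥ Pi.single (Sum.inr i) 1 = e i) ∧
      (∀ i, (P : MM) *ᵥ Pi.single (Sum.inl i) 1 = f i) := by
  classical
  have hform := famMap_form (stdSymp d F) stdSymp_alt h
  obtain ⟨M, hM⟩ : ∃ M : MM, M = LinearMap.toMatrix' (famMap (F := F) e f) := ⟨_, rfl⟩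
  have hMv : ∀ x, M *ᵥ x = famMap e f x := by
    intro x
    rw [hM, LinearMap.toMatrix'_mulVec]
  have hmem : M ∈ Matrix.symplecticGroup (Fin d) F := by
    rw [mem_symplecticGroup_iff_preserves]
    intro u v
    rw [hMv, hMv, ← stdSymp_apply, hform]
  refine ⟨ofSp ⟨M, hmem⟩, ofSp_mem _, ?_, ?_⟩
  · intro i
    rw [ofSp_coe]
    change M *ᵥ _ = _
    rw [hMv, famMap_apply]
    simp [Pi.single_apply]
  · intro i
    rw [ofSp_coe]
    change M *ᵥ _ = _
    rw [hMv, famMap_apply]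
    simp [Pi.single_apply]

/-- two matrices agreeing on the columns of an invertible matrix are equal -/
theorem ext_on_frame {ι : Type*} [Fintype ι] [DecidableEq ι] (A A' : Matrix ι ι F) (P : GL ι F)
    (h : ∀ c, A *ᵥ ((P : Matrix ι ι F) *ᵥ Pi.single c 1) =
      A' *ᵥ ((P : Matrix ι ι F) *ᵥ Pi.single c 1)) : A = A' := by
  have h1 : A * (P : Matrix ι ι F) = A' * (P : Matrix ι ι F) := by
    ext i j
    have := congrFun (h j) i
    rw [Matrix.mulVec_mulVec, Matrix.mulVec_mulVec, Matrix.mulVec_single_one,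
      Matrix.mulVec_single_one] at this
    exact this
  have h2 := congrArg (fun X => X * ((P⁻¹ : GL ι F) : Matrix ι ι F)) h1
  simp only [mul_assoc] at h2
  rw [← Units.val_mul, mul_inv_cancel, Units.val_one, mul_one, mul_one] at h2
  exact h2

/-- the action of a conjugate on a frame -/
theorem conj_act {ι : Type*} [Fintype ι] [DecidableEq ι] (PJ Px x : GL ι F) (v m : ι → F)
    (h : (x : Matrix ι ι F) *ᵥ ((Px : Matrix ι ι F) *ᵥ v) = (Px : Matrix ι ι F) *ᵥ m) :
    (((Px * PJ⁻¹)⁻¹ * x * (Px * PJ⁻¹) : GL ι F) : Matrix ι ι F) *ᵥ ((PJ : Matrix ι ι F) *ᵥ v) =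
      (PJ : Matrix ι ι F) *ᵥ m := by
  have e1 : (Px * PJ⁻¹)⁻¹ * x * (Px * PJ⁻¹) = PJ * Px⁻¹ * x * Px * PJ⁻¹ := by group
  have hcancel : ∀ (Q : GL ι F) (w : ι → F),
      ((Q⁻¹ : GL ι F) : Matrix ι ι F) *ᵥ ((Q : Matrix ι ι F) *ᵥ w) = w := by
    intro Q w
    rw [Matrix.mulVec_mulVec, ← Units.val_mul, inv_mul_cancel, Units.val_one, Matrix.one_mulVec]
  rw [e1]
  simp only [Units.val_mul, ← Matrix.mulVec_mulVec]
  rw [hcancel PJ, h, hcancel Px]

end framemat

end Cfsg.Agent.Lib.Helper15.PSpM
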