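import Mathlib
import Cfsg.Agent.Lib.Helper15.PSpM10

/-!
# Field extension subgroups `Sp_2(q^2).2` of `Sp_4(q)`, `q` odd: sufficiency
-/

set_option autoImplicit false
set_option linter.unusedSectionVars false

namespace Cfsg.Agent.Lib.Helper15.PSpM

open Module Matrix Cfsg.Agent.Lib.Helper15 Cfsg.Agent.Lib.Helper6 Cfsg.Agent.Lib.Helper16
  Cfsg.Agent.Lib.Helper29.SPO

section suff

variable {F : Type*} [Field F]

local notation "V4" => (Fin 2 ⊕ Fin 2 → F)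
local notation "M4" => Matrix (Fin 2 ⊕ Fin 2) (Fin 2 ⊕ Fin 2) F
local notation "G4" => GL (Fin 2 ⊕ Fin 2) F

theorem hbig4 (a b : V4) : ∃ w : V4, ∀ s t : F, w ≠ s • a + t • b := by
  classical
  have h1 : finrank F (Submodule.span F ({a, b} : Set V4)) ≤ 2 := by
    have := finrank_span_finset_le_card (R := F) ({a, b} : Finset V4)
    rw [Finset.coe_pair] at this
    exact this.trans Finset.card_le_two
  have h2 : Submodule.span F ({a, b} : Set V4) ≠ ⊤ := by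
    intro h
    rw [h, finrank_top, Module.finrank_pi, Fintype.card_sum, Fintype.card_fin] at h1
    omega
  obtain ⟨w, -, hw⟩ := SetLike.exists_of_lt (lt_top_iff_ne_top.mpr h2)
  refine ⟨w, fun s t h => hw ?_⟩
  rw [Submodule.mem_span_pair]
  exact ⟨s, t, h.symm⟩

/-- membership in the normaliser from the action on a frame -/
theorem normalises_of_frame (K : Subalgebra F M4) (J : M4) (hJK : J ∈ K)
    (hgen : ∀ k ∈ K, ∃ a b : F, k = a • (1 : M4) + b • J) (PJ y : G4) (ε : F) (hε : ε ≠ 0)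
    (e₀ e₁ f₀ f₁ : V4)
    (he₀ : (PJ : M4) *ᵥ Pi.single (Sum.inr 0) 1 = e₀) (he₁ : (PJ : M4) *ᵥ Pi.single (Sum.inr 1) 1 = e₁)
    (hf₀ : (PJ : M4) *ᵥ Pi.single (Sum.inl 0) 1 = f₀) (hf₁ : (PJ : M4) *ᵥ Pi.single (Sum.inl 1) 1 = f₁)
    (h1 : (y : M4) *ᵥ (J *ᵥ e₀) = ε • (J *ᵥ ((y : M4) *ᵥ e₀)))
    (h2 : (y : M4) *ᵥ (J *ᵥ e₁) = ε • (J *ᵥ ((y : M4) *ᵥ e₁)))
    (h3 : (y : M4) *ᵥ (J *ᵥ f₀) = ε • (J *ᵥ ((y : M4) *ᵥ f₀)))
    (h4 : (y : M4) *ᵥ (J *ᵥ f₁) = ε • (J *ᵥ ((y : M4) *ᵥ f₁))) :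
    y ∈ Cfsg.Geo.subalgebraNormalizer K := by
  apply mem_normalizer_of_gen K J hJK hgen y ε 0 hε
  apply ext_on_frame _ _ PJ
  have key : ∀ w : V4, (y : M4) *ᵥ (J *ᵥ w) = ε • (J *ᵥ ((y : M4) *ᵥ w)) →
      ((y : M4) * J) *ᵥ w = ((ε • J + (0 : F) • (1 : M4)) * (y : M4)) *ᵥ w := by
    intro w hw
    rw [← Matrix.mulVec_mulVec, hw, ← Matrix.mulVec_mulVec, zero_smul, add_zero,
      Matrix.smul_mulVec]
  rw [Sum.forall, Fin.forall_fin_two, Fin.forall_fin_two]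
  refine ⟨⟨?_, ?_⟩, ⟨?_, ?_⟩⟩
  · rw [hf₀]; exact key _ h3
  · rw [hf₁]; exact key _ h4
  · rw [he₀]; exact key _ h1
  · rw [he₁]; exact key _ h2

variable [Fintype F]

/-- every element with scalar square of `Sp_4(q)`, `q` odd, normalises a conjugate of a
self-adjoint quadratic field subalgebra -/
theorem sufficiency (hodd : Odd (Fintype.card F)) (K : Subalgebra F M4)
    (hK : Cfsg.Geo.IsFieldSubalgebra 2 K)
    (hKf : Cfsg.Geo.IsSelfAdjointFor (Cfsg.sympForm 2 F) K)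
    (x : G4) (hx : x ∈ Cfsg.spGL 2 F)
    (hx2 : ∃ z : F, ((x ^ 2 : G4) : M4) = z • (1 : M4))
    (hxns : ∀ z : F, (x : M4) ≠ z • (1 : M4)) :
    ∃ g ∈ Cfsg.spGL 2 F, g⁻¹ * x * g ∈ Cfsg.Geo.subalgebraNormalizer K := by
  classical
  have hodd' : Fintype.card F % 2 = 1 := Nat.odd_iff.mp hodd
  have h2 : (2 : F) ≠ 0 := by
    intro h
    have h1 : ringChar F = 2 :=
      CharP.ringChar_of_prime_eq_zero Nat.prime_two (by exact_mod_cast h)
    have := FiniteField.even_card_of_char_two h1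
    omega
  obtain ⟨J, hJK, δ, hδ, hJJ, hJns, hgen⟩ := exists_gen_odd h2 K hK
  have hδ0 : δ ≠ 0 := by
    rintro rfl
    exact hδ ⟨0, by ring⟩
  have hJsa := hKf J hJK
  have hJ2 : ∀ v : V4, J *ᵥ (J *ᵥ v) = δ • v := by
    intro v
    rw [Matrix.mulVec_mulVec, hJJ, Matrix.smul_mulVec, Matrix.one_mulVec]
  -- the frame of `J`
  obtain ⟨e₀, e₁, f₀, f₁, hfam, hJ1, hJ2', hJ3, hJ4⟩ :=
    jframe (stdSymp 2 F) stdSymp_alt stdSymp_nondeg h2
      ⟨Pi.single (Sum.inl 0) 1, fun h => by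
        have := congrFun h (Sum.inl 0)
        simp at this⟩ (Matrix.toLin' J) δ hδ
      (fun u v => by
        rw [stdSymp_apply, stdSymp_apply, Matrix.toLin'_apply, Matrix.toLin'_apply]
        exact hJsa u v)
      (fun v => by rw [Matrix.toLin'_apply, Matrix.toLin'_apply]; exact hJ2 v)
  rw [Matrix.toLin'_apply] at hJ1 hJ2' hJ3 hJ4
  obtain ⟨PJ, hPJ, hPJe, hPJf⟩ := frame_matrix _ _ hfam
  have hPe₀ := hPJe 0
  have hPe₁ := hPJe 1
  have hPf₀ := hPJf 0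
  have hPf₁ := hPJf 1
  simp only [Matrix.cons_val_zero, Matrix.cons_val_one] at hPe₀ hPe₁ hPf₀ hPf₁
  -- the element `x`
  have hiso : ∀ u v : V4, stdSymp 2 F (Matrix.toLin' (x : M4) u) (Matrix.toLin' (x : M4) v) =
      stdSymp 2 F u v := by
    intro u v
    rw [stdSymp_apply, Matrix.toLin'_apply, Matrix.toLin'_apply]
    exact (mem_spGL_iff x).mp hx u v
  obtain ⟨z, hz⟩ := hx2
  have hxx : ∀ v : V4, (x : M4) *ᵥ ((x : M4) *ᵥ v) = z • v := by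
    intro v
    rw [Matrix.mulVec_mulVec, ← pow_two, ← Units.val_pow_eq_pow_val, hz, Matrix.smul_mulVec,
      Matrix.one_mulVec]
  have hzz : z * z = 1 := by
    obtain ⟨u, v, huv⟩ := exists_sympForm_eq_one (F := F) (d := 2) (by norm_num)
    have h1 : stdSymp 2 F (Matrix.toLin' (x : M4) (Matrix.toLin' (x : M4) u))
        (Matrix.toLin' (x : M4) (Matrix.toLin' (x : M4) v)) = stdSymp 2 F u v := by
      rw [hiso, hiso]
    rw [Matrix.toLin'_apply, Matrix.toLin'_apply, Matrix.toLin'_apply, Matrix.toLin'_apply,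
      hxx, hxx, map_smul, map_smul, LinearMap.smul_apply, stdSymp_apply, huv, smul_eq_mul,
      smul_eq_mul, mul_one] at h1
    exact h1
  rcases mul_self_eq_one_iff.mp hzz with hz1 | hz1
  · -- type plus
    have hne1 : ∃ v : V4, Matrix.toLin' (x : M4) v ≠ v := by
      by_contra h
      push Not at h
      apply hxns 1
      rw [one_smul]
      apply matrix_ext_mulVec
      intro v
      rw [Matrix.one_mulVec, ← Matrix.toLin'_apply, h v]
    have hne2 : ∃ v : V4, Matrix.toLin' (x : M4) v ≠ -v := by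
      by_contra h
      push Not at h
      apply hxns (-1)
      apply matrix_ext_mulVec
      intro v
      rw [Matrix.smul_mulVec, Matrix.one_mulVec, ← Matrix.toLin'_apply, h v, neg_smul, one_smul]
    obtain ⟨e₀', e₁', f₀', f₁', hfam', hx1, hx2, hx3, hx4⟩ :=
      plusframe (stdSymp 2 F) stdSymp_alt stdSymp_nondeg h2 (Matrix.toLin' (x : M4)) hiso
        (fun v => by rw [Matrix.toLin'_apply, Matrix.toLin'_apply, hxx, hz1, one_smul]) hne1 hne2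
    rw [Matrix.toLin'_apply] at hx1 hx2 hx3 hx4
    obtain ⟨Px, hPx, hPxe, hPxf⟩ := frame_matrix _ _ hfam'
    have hQe₀ := hPxe 0
    have hQe₁ := hPxe 1
    have hQf₀ := hPxf 0
    have hQf₁ := hPxf 1
    simp only [Matrix.cons_val_zero, Matrix.cons_val_one] at hQe₀ hQe₁ hQf₀ hQf₁
    refine ⟨Px * PJ⁻¹, Subgroup.mul_mem _ hPx (Subgroup.inv_mem _ hPJ), ?_⟩
    obtain ⟨y, hy⟩ : ∃ y : G4, y = (Px * PJ⁻¹)⁻¹ * x * (Px * PJ⁻¹) := ⟨_, rfl⟩
    rw [← hy]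
    have hy1 : (y : M4) *ᵥ e₀ = e₀ := by
      rw [hy, ← hPe₀]
      apply conj_act
      rw [hQe₀, hx1]
    have hy2 : (y : M4) *ᵥ e₁ = -e₁ := by
      rw [hy, ← hPe₁, ← Matrix.mulVec_neg]
      apply conj_act
      rw [hQe₁, hx2, Matrix.mulVec_neg, hQe₁]
    have hy3 : (y : M4) *ᵥ f₀ = f₀ := by
      rw [hy, ← hPf₀]
      apply conj_act
      rw [hQf₀, hx3]
    have hy4 : (y : M4) *ᵥ f₁ = -f₁ := by
      rw [hy, ← hPf₁, ← Matrix.mulVec_neg]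
      apply conj_act
      rw [hQf₁, hx4, Matrix.mulVec_neg, hQf₁]
    apply normalises_of_frame K J hJK hgen PJ y (-1) (by norm_num) e₀ e₁ f₀ f₁ hPe₀ hPe₁ hPf₀ hPf₁
    · rw [hJ1, hy2, hy1, hJ1, neg_smul, one_smul]
    · rw [hJ2', Matrix.mulVec_smul, hy1, hy2, Matrix.mulVec_neg, hJ2', neg_smul, one_smul, neg_neg]
    · rw [hJ3, Matrix.mulVec_smul, hy4, hy3, hJ3, neg_smul, one_smul, smul_neg]
    · rw [hJ4, hy3, hy4, Matrix.mulVec_neg, hJ4, neg_smul, one_smul, neg_neg]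
  · -- type minus
    obtain ⟨e₀', e₁', f₀', f₁', hfam', hx1, hx2, hx3, hx4⟩ :=
      minusframe (stdSymp 2 F) stdSymp_alt stdSymp_nondeg h2 hodd' (Matrix.toLin' (x : M4)) hiso
        (fun v => by rw [Matrix.toLin'_apply, Matrix.toLin'_apply, hxx, hz1, neg_smul, one_smul])
        hbig4 δ hδ0
    rw [Matrix.toLin'_apply] at hx1 hx2 hx3 hx4
    obtain ⟨Px, hPx, hPxe, hPxf⟩ := frame_matrix _ _ hfam'
    have hQe₀ := hPxe 0
    have hQe₁ := hPxe 1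
    have hQf₀ := hPxf 0
    have hQf₁ := hPxf 1
    simp only [Matrix.cons_val_zero, Matrix.cons_val_one] at hQe₀ hQe₁ hQf₀ hQf₁
    refine ⟨Px * PJ⁻¹, Subgroup.mul_mem _ hPx (Subgroup.inv_mem _ hPJ), ?_⟩
    obtain ⟨y, hy⟩ : ∃ y : G4, y = (Px * PJ⁻¹)⁻¹ * x * (Px * PJ⁻¹) := ⟨_, rfl⟩
    rw [← hy]
    have hy1 : (y : M4) *ᵥ e₀ = f₀ := by
      rw [hy, ← hPe₀, ← hPf₀]
      apply conj_act
      rw [hQe₀, hx1, hQf₀]
    have hy2 : (y : M4) *ᵥ f₀ = -e₀ := by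
      rw [hy, ← hPf₀, ← hPe₀, ← Matrix.mulVec_neg]
      apply conj_act
      rw [hQf₀, hx2, Matrix.mulVec_neg, hQe₀]
    have hy3 : (y : M4) *ᵥ e₁ = δ • f₁ := by
      rw [hy, ← hPe₁, ← hPf₁, ← Matrix.mulVec_smul]
      apply conj_act
      rw [hQe₁, hx3, Matrix.mulVec_smul, hQf₁]
    have hy4 : (y : M4) *ᵥ f₁ = -(δ⁻¹ • e₁) := by
      rw [hy, ← hPf₁, ← hPe₁, ← Matrix.mulVec_smul, ← Matrix.mulVec_neg]
      apply conj_act
      rw [hQf₁, hx4, Matrix.mulVec_neg, Matrix.mulVec_smul, hQe₁]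
    apply normalises_of_frame K J hJK hgen PJ y 1 one_ne_zero e₀ e₁ f₀ f₁ hPe₀ hPe₁ hPf₀ hPf₁
    · rw [hJ1, hy3, hy1, hJ3, one_smul]
    · rw [hJ2', Matrix.mulVec_smul, hy1, hy3, Matrix.mulVec_smul, hJ4, one_smul]
    · rw [hJ3, Matrix.mulVec_smul, hy4, hy2, Matrix.mulVec_neg, hJ1, one_smul, smul_neg, smul_smul,
        mul_inv_cancel₀ hδ0, one_smul]
    · rw [hJ4, hy2, hy4, Matrix.mulVec_neg, Matrix.mulVec_smul, hJ2', one_smul, smul_smul,
        inv_mul_cancel₀ hδ0, one_smul]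

end suff

end Cfsg.Agent.Lib.Helper15.PSpM
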