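import Mathlib
import Cfsg.Agent.Lib.Helper15.PSpM11

/-!
# Field extension subgroups of the symplectic group: the statement for subalgebras
-/

set_option autoImplicit false
set_option linter.unusedSectionVars false

namespace Cfsg.Agent.Lib.Helper15.PSpM

open Module Matrix

section sub

variable {F : Type*} [Field F] {ι : Type} [Fintype ι] [DecidableEq ι] [Nonempty ι]

theorem isField_sub (K : Subalgebra F (Matrix ι ι F)) {r : ℕ}
    (hK : Cfsg.Geo.IsFieldSubalgebra r K) : IsField ↥K := by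
  classical
  have h1 : (1 : Matrix ι ι F) ≠ 0 := by
    intro h
    obtain ⟨i⟩ := ‹Nonempty ι›
    have := congrFun (congrFun h i) i
    simp at this
  refine ⟨⟨0, 1, fun h => h1 (congrArg Subtype.val h).symm⟩, fun a b => ?_, fun {a} ha => ?_⟩
  · exact Subtype.ext (hK.comm a.1 a.2 b.1 b.2)
  · have ha' : (a : Matrix ι ι F) ≠ 0 := fun h => ha (Subtype.ext h)
    obtain ⟨y, hy, hay⟩ := hK.inv a.1 a.2 ha'
    exact ⟨⟨y, hy⟩, Subtype.ext hay⟩

end sub

section main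

variable {F : Type*} [Field F] [Fintype F] {d : ℕ}

local notation "VV" => (Fin d ⊕ Fin d → F)
local notation "MM" => Matrix (Fin d ⊕ Fin d) (Fin d ⊕ Fin d) F

theorem necessity_sub (p : ℕ) [hp : Fact p.Prime] [CharP F p] (hd : 2 ≤ d)
    (k : ℕ) (hk : k.Prime) (K : Subalgebra F MM) (hK : Cfsg.Geo.IsFieldSubalgebra k K)
    (hKf : Cfsg.Geo.IsSelfAdjointFor (Cfsg.sympForm d F) K)
    (hKalt : ∀ a ∈ K, ∀ v : VV, Cfsg.sympForm d F (a *ᵥ v) v = 0)
    (r : ℕ) [hr : Fact r.Prime]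
    (hΩ : r ∣ (Cfsg.Geo.subalgebraNormalizer K).relIndex (Cfsg.spGL d F))
    (hall : ∀ x ∈ Cfsg.spGL d F,
      (∃ z : F, ((x ^ r : GL (Fin d ⊕ Fin d) F) : MM) = z • (1 : MM)) →
      (∀ z : F, (x : MM) ≠ z • (1 : MM)) →
      ∃ g ∈ Cfsg.spGL d F, g⁻¹ * x * g ∈ Cfsg.Geo.subalgebraNormalizer K) :
    r = 2 ∧ d = 2 ∧ k = 2 ∧ Odd (Fintype.card F) := by
  classical
  have hne : Nonempty (Fin d ⊕ Fin d) := ⟨Sum.inl ⟨0, by omega⟩⟩
  let fK : Field ↥K := (isField_sub K hK).toField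
  have hfd : FiniteDimensional F ↥K := by
    apply Module.finite_of_finrank_pos
    rw [hK.finrank_eq]
    exact hk.pos
  exact necessity (L := ↥K) p hd K.val K
    (fun m => ⟨fun hm => ⟨⟨m, hm⟩, rfl⟩, fun ⟨a, ha⟩ => ha ▸ a.2⟩)
    (fun a u v => hKf a.1 a.2 u v) (fun a v => hKalt a.1 a.2 v) k hk hK.finrank_eq r hΩ hall

end main

end Cfsg.Agent.Lib.Helper15.PSpM
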