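import Mathlib
import Cfsg.Agent.Lib.Helper15.Klein1
set_option autoImplicit false
namespace Cfsg.Agent.Lib.Helper15.A5C

/-- every `2`-subgroup of `C` lies in the normal subgroup `S₀` of odd index -/
theorem le_of_isPGroup {G : Type*} [Group G] (C S₀ : Subgroup G)
    (hS₀ : IsPGroup 2 S₀) (hodd : ¬ 2 ∣ S₀.relIndex C) (hn : (S₀.subgroupOf C).Normal)
    (Q : Subgroup G) (hQ : IsPGroup 2 Q) (hQC : Q ≤ C) : Q ≤ S₀ := by
  have : Fact (Nat.Prime 2) := ⟨Nat.prime_two⟩
  have h1 : IsPGroup 2 (S₀.subgroupOf C) := hS₀.comap_subtype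
  have h2 : IsPGroup 2 (Q.subgroupOf C) := hQ.comap_subtype
  set T : Sylow 2 C := h1.toSylow hodd with hT
  have h3 : IsPGroup 2 (Q.subgroupOf C ⊔ S₀.subgroupOf C : Subgroup C) := h2.to_sup_of_normal_right h1
  have h4 := T.is_maximal' h3 (le_sup_right : (T : Subgroup C) ≤ _)
  intro q hq
  have hq' : (⟨q, hQC hq⟩ : C) ∈ Q.subgroupOf C ⊔ S₀.subgroupOf C :=
    Subgroup.mem_sup_left (Subgroup.mem_subgroupOf.2 hq)
  rw [h4] at hq'
  exact Subgroup.mem_subgroupOf.1 hq'

/-- the basic structure: `x ∈ S₀ = {1, x, y, xy}` and `C(x)` centralizes `S₀` -/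
theorem setup {G : Type*} [Group G] [Finite G] (x : G) (hx : orderOf x = 2)
    (S₀ : Subgroup G) (hle : S₀ ≤ Subgroup.centralizer ({x} : Set G)) (hK : IsKleinFour ↥S₀)
    (hodd : ¬ 2 ∣ S₀.relIndex (Subgroup.centralizer ({x} : Set G)))
    (hn : (S₀.subgroupOf (Subgroup.centralizer ({x} : Set G))).Normal) :
    IsPGroup 2 S₀ ∧ x ∈ S₀ ∧ (∀ c ∈ Subgroup.centralizer ({x} : Set G), ∀ s ∈ S₀, c * s = s * c) ∧
      ∃ y ∈ S₀, y ≠ 1 ∧ y ≠ x ∧ x * x = 1 ∧ y * y = 1 ∧ x * y = y * x ∧
        ∀ s, s ∈ S₀ ↔ s = 1 ∨ s = x ∨ s = y ∨ s = x * y := by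
  classical
  have hS₀ : IsPGroup 2 S₀ := by
    apply IsPGroup.of_card (n := 2)
    rw [hK.card_four]
    norm_num
  have hx1 : x ≠ 1 := by
    rintro rfl
    rw [orderOf_one] at hx
    omega
  have hxx : x * x = 1 := by rw [← pow_two, ← hx, pow_orderOf_eq_one]
  have hxS : x ∈ S₀ := by
    have hzp : IsPGroup 2 (Subgroup.zpowers x) := by
      apply IsPGroup.of_card (n := 1)
      rw [Nat.card_zpowers, hx, pow_one]
    have hzC : Subgroup.zpowers x ≤ Subgroup.centralizer ({x} : Set G) := by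
      rw [Subgroup.zpowers_le, Subgroup.mem_centralizer_singleton_iff]
    exact le_of_isPGroup _ S₀ hS₀ hodd hn _ hzp hzC (Subgroup.mem_zpowers x)
  -- a third element
  obtain ⟨y, hyS, hy1, hyx⟩ : ∃ y ∈ S₀, y ≠ 1 ∧ y ≠ x := by
    by_contra hcon
    push Not at hcon
    have hsub : (S₀ : Set G) ⊆ {1, x} := by
      intro s hs
      by_cases h : s = 1
      · left; exact h
      · right; exact hcon s hs h
    have h1 : Nat.card S₀ ≤ 2 := by
      have := Set.ncard_le_ncard hsub (Set.toFinite _)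
      rw [Set.ncard_pair hx1.symm] at this
      exact this
    rw [hK.card_four] at h1
    omega
  obtain ⟨_, hyy, hxy, hSeq⟩ := eq_kleinSub_of_isKleinFour S₀ hK x y hxS hyS hx1 hy1 (Ne.symm hyx)
  have hmem : ∀ s, s ∈ S₀ ↔ s = 1 ∨ s = x ∨ s = y ∨ s = x * y := by
    intro s
    rw [hSeq]
    exact Iff.rfl
  refine ⟨hS₀, hxS, ?_, y, hyS, hy1, hyx, hxx, hyy, hxy, hmem⟩
  -- `C(x)` centralizes `y`
  have hcy : ∀ c ∈ Subgroup.centralizer ({x} : Set G), c * y = y * c := by
    intro c hc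
    have hcx : c * x = x * c := Subgroup.mem_centralizer_singleton_iff.1 hc
    -- conjugation preserves `S₀`
    have hconj : ∀ c' ∈ Subgroup.centralizer ({x} : Set G), c' * y * c'⁻¹ = y ∨ c' * y * c'⁻¹ = x * y := by
      intro c' hc'
      have hc'x : c' * x = x * c' := Subgroup.mem_centralizer_singleton_iff.1 hc'
      have h1 := hn.conj_mem ⟨y, hle hyS⟩ (Subgroup.mem_subgroupOf.2 hyS) ⟨c', hc'⟩
      have h2 : c' * y * c'⁻¹ ∈ S₀ := Subgroup.mem_subgroupOf.1 h1
      rcases (hmem _).1 h2 with h | h | h | h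
      · exfalso
        apply hy1
        calc y = c'⁻¹ * (c' * y * c'⁻¹) * c' := by group
          _ = 1 := by rw [h, mul_one, inv_mul_cancel]
      · exfalso
        apply hyx
        calc y = c'⁻¹ * (c' * y * c'⁻¹) * c' := by group
          _ = c'⁻¹ * (x * c') := by rw [h, mul_assoc]
          _ = c'⁻¹ * (c' * x) := by rw [hc'x]
          _ = x := by group
      · exact Or.inl h
      · exact Or.inr h
    -- `c²` centralizes `y`
    have hc2 : (c * c) * y = y * (c * c) := by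
      have e : (c * c) * y * (c * c)⁻¹ = y := by
        rcases hconj c hc with h | h
        · calc (c * c) * y * (c * c)⁻¹ = c * (c * y * c⁻¹) * c⁻¹ := by group
            _ = y := by rw [h, h]
        · calc (c * c) * y * (c * c)⁻¹ = c * (c * y * c⁻¹) * c⁻¹ := by group
            _ = c * (x * y) * c⁻¹ := by rw [h]
            _ = (c * x) * y * c⁻¹ := by group
            _ = (x * c) * y * c⁻¹ := by rw [hcx]
            _ = x * (c * y * c⁻¹) := by group
            _ = x * (x * y) := by rw [h]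
            _ = y := by rw [← mul_assoc, hxx, one_mul]
      calc (c * c) * y = ((c * c) * y * (c * c)⁻¹) * (c * c) := by group
        _ = y * (c * c) := by rw [e]
    -- an odd power of `c` lies in `S₀`
    have hpow : ((⟨c, hc⟩ : Subgroup.centralizer ({x} : Set G)) ^
        (S₀.subgroupOf (Subgroup.centralizer ({x} : Set G))).index) ∈
        S₀.subgroupOf (Subgroup.centralizer ({x} : Set G)) := Subgroup.pow_index_mem _ _
    rw [Subgroup.mem_subgroupOf] at hpow
    have hpow' : c ^ S₀.relIndex (Subgroup.centralizer ({x} : Set G)) ∈ S₀ := hpow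
    obtain ⟨l, hl⟩ : ∃ l, S₀.relIndex (Subgroup.centralizer ({x} : Set G)) = 2 * l + 1 :=
      ⟨S₀.relIndex (Subgroup.centralizer ({x} : Set G)) / 2, by omega⟩
    rw [hl] at hpow'
    have hck : c ^ (2 * l + 1) * y = y * c ^ (2 * l + 1) := by
      rcases (hmem _).1 hpow' with h | h | h | h
      · rw [h, one_mul, mul_one]
      · rw [h, hxy]
      · rw [h]
      · rw [h, mul_assoc, hyy, mul_one, ← mul_assoc, ← hxy, mul_assoc, hyy, mul_one]
    have hcl : (c * c) ^ l * y = y * (c * c) ^ l := by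
      have : Commute (c * c) y := hc2
      exact (this.pow_left l).eq
    have e : c = ((c * c) ^ l)⁻¹ * c ^ (2 * l + 1) := by
      rw [pow_succ, pow_mul, pow_two, inv_mul_cancel_left]
    have hinv : ((c * c) ^ l)⁻¹ * y = y * ((c * c) ^ l)⁻¹ := by
      have : Commute ((c * c) ^ l) y := hcl
      exact this.inv_left.eq
    rw [e, mul_assoc, hck, ← mul_assoc, hinv, mul_assoc]
  intro c hc s hs
  have hcx : c * x = x * c := Subgroup.mem_centralizer_singleton_iff.1 hc
  rcases (hmem s).1 hs with h | h | h | h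
  · rw [h, mul_one, one_mul]
  · rw [h, hcx]
  · rw [h, hcy c hc]
  · rw [h, ← mul_assoc, hcx, mul_assoc, hcy c hc, mul_assoc]

end Cfsg.Agent.Lib.Helper15.A5C
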