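import Mathlib
import Cfsg.Prelude.Def_CaseTheorems
set_option autoImplicit false
namespace Cfsg.Agent.Lib.Helper15.A5C

/-- a group of order `4h` with a cyclic subgroup `⟨a⟩` of order `2h` and `b ∉ ⟨a⟩` acting on it by an odd
power: `⟨a⟩` has index two and its involution is central -/
theorem cyclic_max_of_gens {S : Type*} [Group S] [Finite S] (a b : S) (h : ℕ) (hh : 0 < h)
    (ha : orderOf a = 2 * h) (hcard : Nat.card S = 4 * h) (hb : b ∉ Subgroup.zpowers a)
    (m : ℕ) (hm : Odd m) (hba : b * a * b⁻¹ = a ^ m) :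
    (Subgroup.zpowers a).index = 2 ∧
      ∀ w ∈ Subgroup.zpowers a, orderOf w = 2 → w ∈ Subgroup.center S := by
  have hidx : (Subgroup.zpowers a).index = 2 := by
    have h1 := (Subgroup.zpowers a).card_mul_index
    rw [Nat.card_zpowers, ha, hcard] at h1
    have : 2 * h * (Subgroup.zpowers a).index = 2 * h * 2 := by rw [h1]; ring
    exact Nat.eq_of_mul_eq_mul_left (by positivity) this
  refine ⟨hidx, ?_⟩
  intro w hw hw2
  obtain ⟨j, rfl⟩ := Subgroup.mem_zpowers_iff.1 hw
  have hww : (a ^ j) * (a ^ j) = 1 := by rw [← pow_two, ← hw2, pow_orderOf_eq_one]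
  -- `b` centralizes `w`
  have hbw : b * a ^ j = a ^ j * b := by
    have e : b * a ^ j * b⁻¹ = a ^ j := by
      have h1 : b * a ^ j * b⁻¹ = (b * a * b⁻¹) ^ j := by
        rw [← MulAut.conj_apply, ← MulAut.conj_apply, map_zpow]
      obtain ⟨k, hk⟩ := hm
      rw [h1, hba, ← zpow_natCast, ← zpow_mul, mul_comm, zpow_mul, zpow_natCast, hk, pow_succ, pow_mul,
        pow_two, hww, one_pow, one_mul]
    calc b * a ^ j = (b * a ^ j * b⁻¹) * b := by group
      _ = a ^ j * b := by rw [e]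
  have haw : ∀ i : ℤ, a ^ i * a ^ j = a ^ j * a ^ i := fun i => by
    rw [← zpow_add, ← zpow_add, add_comm]
  rw [Subgroup.mem_center_iff]
  intro g
  by_cases hg : g ∈ Subgroup.zpowers a
  · obtain ⟨i, rfl⟩ := Subgroup.mem_zpowers_iff.1 hg
    exact haw i
  · have hbinv : b⁻¹ ∉ Subgroup.zpowers a := fun hc => hb (by
      have := Subgroup.inv_mem _ hc
      rwa [inv_inv] at this)
    have hmem : b⁻¹ * g ∈ Subgroup.zpowers a := by
      rw [Subgroup.mul_mem_iff_of_index_two hidx]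
      exact ⟨fun hc => absurd hc hbinv, fun hc => absurd hc hg⟩
    obtain ⟨i, hi⟩ := Subgroup.mem_zpowers_iff.1 hmem
    have hg' : g = b * a ^ i := by rw [hi]; group
    rw [hg', mul_assoc, haw i, ← mul_assoc, hbw, mul_assoc]

/-- a dihedral or quasidihedral `2`-group of order at least `8` has a maximal subgroup whose involutions
are central -/
theorem exists_cyclic_max {S : Type*} [Group S] [Finite S] (h8 : 8 ≤ Nat.card S) (h2 : IsPGroup 2 S)
    (hS : (∃ n : ℕ, Nonempty (S ≃* DihedralGroup n)) ∨ Cfsg.IsQuasiDihedral S) :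
    ∃ M : Subgroup S, M.index = 2 ∧ ∀ w ∈ M, orderOf w = 2 → w ∈ Subgroup.center S := by
  have : Fact (Nat.Prime 2) := ⟨Nat.prime_two⟩
  rcases hS with ⟨n, ⟨e⟩⟩ | ⟨n, hn3, hcard, x₀, y₀, hx₀, hy₀, hyx⟩
  · -- dihedral
    have hcard : Nat.card S = 2 * n := by
      rw [Nat.card_congr e.toEquiv, DihedralGroup.nat_card]
    obtain ⟨k, hk⟩ := IsPGroup.exists_card_eq h2
    have hk3 : 3 ≤ k := by
      by_contra hcon
      push Not at hcon
      have : 2 ^ k ≤ 2 ^ 2 := Nat.pow_le_pow_right (by norm_num) (by omega)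
      omega
    obtain ⟨h, hh, hnh⟩ : ∃ h, 0 < h ∧ n = 2 * h := by
      refine ⟨2 ^ (k - 2), by positivity, ?_⟩
      have : 2 ^ k = 2 * (2 * 2 ^ (k - 2)) := by
        rw [← pow_succ', ← pow_succ']
        congr 1
        omega
      omega
    have hn0 : NeZero n := ⟨by omega⟩
    refine ⟨Subgroup.zpowers (e.symm (DihedralGroup.r 1)), ?_⟩
    apply cyclic_max_of_gens (e.symm (DihedralGroup.r 1)) (e.symm (DihedralGroup.sr 0)) h hh
      (m := n - 1)
    · rw [MulEquiv.orderOf_eq, DihedralGroup.orderOf_r_one, hnh]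
    · rw [hcard, hnh]; ring
    · intro hc
      obtain ⟨i, hi⟩ := Subgroup.mem_zpowers_iff.1 hc
      rw [← map_zpow, DihedralGroup.r_one_zpow] at hi
      have := e.symm.injective hi
      exact absurd this (by simp)
    · rw [hnh]
      exact ⟨h - 1, by omega⟩
    · rw [← map_inv, ← map_mul, ← map_mul, ← map_pow, DihedralGroup.r_one_pow]
      congr 1
      rw [DihedralGroup.inv_sr, DihedralGroup.sr_mul_r, DihedralGroup.sr_mul_sr]
      congr 1
      have h1 : ((n - 1 : ℕ) : ZMod n) = ((n : ℕ) : ZMod n) - 1 := by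
        rw [Nat.cast_sub (by omega)]
        simp
      rw [h1, ZMod.natCast_self]
      ring
  · -- quasidihedral
    refine ⟨Subgroup.zpowers x₀, ?_⟩
    have hpow : 2 ^ n = 2 * 2 ^ (n - 1) := by
      rw [← pow_succ']
      congr 1
      omega
    have hpow2 : 2 ^ (n - 1) = 2 * 2 ^ (n - 2) := by
      rw [← pow_succ']
      congr 1
      omega
    have hpos : 0 < 2 ^ (n - 2) := by positivity
    have h4 : 2 ≤ 2 ^ (n - 2) := by
      calc 2 = 2 ^ 1 := by norm_num
        _ ≤ 2 ^ (n - 2) := Nat.pow_le_pow_right (by norm_num) (by omega)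
    apply cyclic_max_of_gens x₀ y₀ (2 ^ (n - 1)) (by positivity) (m := 2 ^ (n - 1) - 1)
    · rw [hx₀, hpow]
    · rw [hcard, pow_succ, hpow]; ring
    · intro hc
      obtain ⟨i, hi⟩ := Subgroup.mem_zpowers_iff.1 hc
      have hcomm : y₀ * x₀ = x₀ * y₀ := by
        rw [← hi, ← zpow_one_add, ← zpow_add_one, add_comm]
      have h1 : y₀ * x₀ * y₀⁻¹ = x₀ := by rw [hcomm, mul_inv_cancel_right]
      rw [h1] at hyx
      have h3 : x₀ ^ 1 = x₀ ^ (2 ^ (n - 1) - 1) := by rw [pow_one]; exact hyx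
      rw [pow_eq_pow_iff_modEq, hx₀] at h3
      have h5 := Nat.ModEq.eq_of_lt_of_lt h3 (by omega) (by omega)
      omega
    · rw [hpow2]
      exact ⟨2 ^ (n - 2) - 1, by omega⟩
    · exact hyx

end Cfsg.Agent.Lib.Helper15.A5C
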