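import Mathlib
import Cfsg.Agent.S3224
import Cfsg.Agent.S0111
import Cfsg.Agent.Lib.Helper15.A5C1
import Cfsg.Agent.Lib.Helper15.A5C2
set_option autoImplicit false
namespace Cfsg.Agent.Lib.Helper15.A5C

/-- in a simple group the normal four-group `S₀` of `C(x)` is a Sylow `2`-subgroup -/
theorem exists_sylow_eq {G : Type*} [Group G] [Finite G] [IsSimpleGroup G] (x : G) (hx : orderOf x = 2)
    (S₀ : Subgroup G) (hle : S₀ ≤ Subgroup.centralizer ({x} : Set G)) (hK : IsKleinFour ↥S₀)
    (hodd : ¬ 2 ∣ S₀.relIndex (Subgroup.centralizer ({x} : Set G)))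
    (hn : (S₀.subgroupOf (Subgroup.centralizer ({x} : Set G))).Normal) :
    ∃ P : Sylow 2 G, (P : Subgroup G) = S₀ := by
  classical
  have : Fact (Nat.Prime 2) := ⟨Nat.prime_two⟩
  obtain ⟨hS₀p, hxS, hcent, y, hyS, hy1, hyx, hxx, hyy, hxy, hmem⟩ := setup x hx S₀ hle hK hodd hn
  obtain ⟨P, hP⟩ := hS₀p.exists_le_sylow
  refine ⟨P, ?_⟩
  by_contra hne
  have hcardP : 8 ≤ Nat.card (P : Subgroup G) := by
    obtain ⟨k, hk⟩ := IsPGroup.exists_card_eq P.isPGroup'
    have h4 : Nat.card S₀ = 4 := hK.card_four
    have hgt : 4 < Nat.card (P : Subgroup G) := by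
      by_contra hcon
      push Not at hcon
      rw [← h4] at hcon
      exact hne (Subgroup.eq_of_le_of_card_ge hP hcon).symm
    rw [hk] at hgt ⊢
    have hk3 : 3 ≤ k := by
      by_contra hcon
      push Not at hcon
      have : 2 ^ k ≤ 2 ^ 2 := Nat.pow_le_pow_right (by norm_num) (by omega)
      omega
    calc 8 = 2 ^ 3 := by norm_num
      _ ≤ 2 ^ k := Nat.pow_le_pow_right (by norm_num) hk3
  set x' : (P : Subgroup G) := ⟨x, hP hxS⟩ with hx'
  have hox' : orderOf x' = 2 := (Subgroup.orderOf_mk x (hP hxS)).trans hx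
  have hCeq : Subgroup.centralizer ({x'} : Set (P : Subgroup G)) = S₀.subgroupOf (P : Subgroup G) := by
    ext w
    rw [Subgroup.mem_centralizer_singleton_iff, Subgroup.mem_subgroupOf]
    constructor
    · intro h
      have hwC : (w : G) ∈ Subgroup.centralizer ({x} : Set G) := by
        rw [Subgroup.mem_centralizer_singleton_iff]
        exact congrArg Subtype.val h
      exact le_of_isPGroup _ S₀ hS₀p hodd hn ((P : Subgroup G) ⊓ Subgroup.centralizer ({x} : Set G))
        (P.isPGroup'.to_le inf_le_left) inf_le_right ⟨w.2, hwC⟩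
    · intro h
      apply Subtype.ext
      exact Subgroup.mem_centralizer_singleton_iff.1 (hle h)
  have hC4 : Nat.card (Subgroup.centralizer ({x'} : Set (P : Subgroup G))) = 4 := by
    rw [hCeq, ← hK.card_four]
    exact Nat.card_congr (Subgroup.subgroupOfEquivOfLe hP).toEquiv
  have hfin : ∀ M : Subgroup (P : Subgroup G), M.index = 2 →
      (∀ w ∈ M, orderOf w = 2 → w ∈ Subgroup.center (P : Subgroup G)) → False := by
    intro M hMidx hMcen
    have hx'M : x' ∉ M := by
      intro h
      have hc := hMcen x' h hox'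
      have htop : Subgroup.centralizer ({x'} : Set (P : Subgroup G)) = ⊤ := by
        rw [eq_top_iff]
        intro w _
        rw [Subgroup.mem_centralizer_singleton_iff]
        exact Subgroup.mem_center_iff.1 hc w
      rw [htop, Subgroup.card_top] at hC4
      omega
    set MG : Subgroup G := M.map (P : Subgroup G).subtype with hMG
    have hMGP : MG ≤ (P : Subgroup G) := by
      rintro _ ⟨w, _, rfl⟩
      exact w.2
    have hMGsub : MG.subgroupOf (P : Subgroup G) = M := by
      ext w
      rw [Subgroup.mem_subgroupOf]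
      constructor
      · rintro ⟨w', hw', h⟩
        have : w' = w := Subtype.ext h
        rwa [← this]
      · intro hw
        exact ⟨w, hw, rfl⟩
    have hMGidx : MG.relIndex (P : Subgroup G) = 2 := by
      rw [Subgroup.relIndex, hMGsub, hMidx]
    have hxMG : x ∉ MG := by
      rintro ⟨w, hw, h⟩
      apply hx'M
      have : w = x' := Subtype.ext h
      rwa [← this]
    rcases Cfsg.Agent.S0111.result P MG hMGP hMGidx x hx (hP hxS) hxMG with
      ⟨M', hM'n, hM'i, _⟩ | ⟨g, hg⟩
    · rcases hM'n.eq_bot_or_eq_top with h | h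
      · rw [h, Subgroup.index_bot] at hM'i
        have := Subgroup.card_le_card_group (P : Subgroup G)
        omega
      · rw [h, Subgroup.index_top] at hM'i
        omega
    · obtain ⟨w, hwM, hw⟩ := hg
      have hw' : (w : G) = g * x * g⁻¹ := hw
      have how : orderOf w = 2 := by
        rw [← Subgroup.orderOf_coe, hw']
        exact ((MulAut.conj g).orderOf_eq x).trans hx
      have hwc := hMcen w hwM how
      set Q : Subgroup G := (P : Subgroup G).map (MulAut.conj g⁻¹).toMonoidHom with hQ
      have hQp : IsPGroup 2 Q := P.isPGroup'.map _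
      have hQC : Q ≤ Subgroup.centralizer ({x} : Set G) := by
        rintro _ ⟨p, hp, rfl⟩
        rw [Subgroup.mem_centralizer_singleton_iff]
        show g⁻¹ * p * g⁻¹⁻¹ * x = x * (g⁻¹ * p * g⁻¹⁻¹)
        have h1 : p * (g * x * g⁻¹) = (g * x * g⁻¹) * p := by
          have h2 := Subgroup.mem_center_iff.1 hwc ⟨p, hp⟩
          have h3 := congrArg Subtype.val h2
          rw [Subgroup.coe_mul, Subgroup.coe_mul, hw'] at h3
          exact h3
        rw [inv_inv]
        calc g⁻¹ * p * g * x = g⁻¹ * (p * (g * x * g⁻¹)) * g := by group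
          _ = g⁻¹ * ((g * x * g⁻¹) * p) * g := by rw [h1]
          _ = x * (g⁻¹ * p * g) := by group
      have hQS := le_of_isPGroup _ S₀ hS₀p hodd hn Q hQp hQC
      have h1 := Subgroup.card_le_of_le hQS
      rw [hQ, Subgroup.card_map_of_injective (MulAut.conj g⁻¹).injective, hK.card_four] at h1
      omega
  rcases Cfsg.Agent.S3224.result P.isPGroup' x' hox' hC4 with hD | hQ | h4
  · obtain ⟨M, hMidx, hMcen⟩ := exists_cyclic_max hcardP P.isPGroup' (Or.inl hD)
    exact hfin M hMidx hMcen
  · obtain ⟨M, hMidx, hMcen⟩ := exists_cyclic_max hcardP P.isPGroup' (Or.inr hQ)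
    exact hfin M hMidx hMcen
  · omega

end Cfsg.Agent.Lib.Helper15.A5C
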