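import Mathlib
import Cfsg.Agent.S0215
import Cfsg.Agent.Lib.Helper15.Klein1
import Cfsg.Agent.Lib.Helper15.Dk1
set_option autoImplicit false
namespace Cfsg.Agent.Lib.Helper15.A5C

/-- in a non-abelian simple group no involution of a Sylow `2`-subgroup is isolated -/
theorem exists_conj_ne {G : Type*} [Group G] [Finite G] [IsSimpleGroup G]
    (hG : ¬ ∀ a b : G, a * b = b * a) (P : Sylow 2 G) (u : G) (hu : orderOf u = 2)
    (huP : u ∈ (P : Subgroup G)) :
    ∃ g : G, g * u * g⁻¹ ∈ (P : Subgroup G) ∧ g * u * g⁻¹ ≠ u := by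
  by_contra hcon
  push Not at hcon
  have hu1 : u ≠ 1 := by
    rintro rfl
    rw [orderOf_one] at hu
    omega
  obtain ⟨K, hKn, hKo, hK⟩ := Cfsg.Agent.S0215.result P u hu huP hcon
  rcases hKn.eq_bot_or_eq_top with h | h
  · have hc : ∀ g : G, g * u = u * g := by
      intro g
      have := hK g
      rw [h, Subgroup.mem_bot] at this
      calc g * u = (u * g * u⁻¹ * g⁻¹)⁻¹ * (u * g) := by group
        _ = u * g := by rw [this, inv_one, one_mul]
    have hcen : u ∈ Subgroup.center G := Subgroup.mem_center_iff.2 hc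
    rcases (Subgroup.instNormalCenter (G := G)).eq_bot_or_eq_top with h' | h'
    · rw [h', Subgroup.mem_bot] at hcen
      exact hu1 hcen
    · apply hG
      intro a b
      have ha : a ∈ Subgroup.center G := by rw [h']; exact Subgroup.mem_top a
      exact (Subgroup.mem_center_iff.1 ha b).symm
  · rw [h, Subgroup.card_top] at hKo
    have h2 : 2 ∣ Nat.card G := by
      rw [← hu]; exact orderOf_dvd_natCard u
    rw [Nat.odd_iff] at hKo
    omega

/-- a non-abelian simple group with Klein four Sylow `2`-subgroups has one class of involutions -/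
theorem all_invol_conj {G : Type*} [Group G] [Finite G] [IsSimpleGroup G]
    (hG : ¬ ∀ a b : G, a * b = b * a) (P : Sylow 2 G) (hP : IsKleinFour (P : Subgroup G)) :
    ∀ s t : G, orderOf s = 2 → orderOf t = 2 → IsConj s t := by
  classical
  have hp2 : Fact (Nat.Prime 2) := ⟨Nat.prime_two⟩
  have hord : ∀ w ∈ (P : Subgroup G), w ≠ 1 → orderOf w = 2 := by
    intro w hw hw1
    have := IsKleinFour.mul_self (⟨w, hw⟩ : (P : Subgroup G))
    have hww : w * w = 1 := congrArg Subtype.val this
    exact orderOf_eq_prime (by rw [pow_two]; exact hww) hw1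
  -- conjugate elements of `P`
  have hpartner : ∀ w ∈ (P : Subgroup G), w ≠ 1 → ∃ w' ∈ (P : Subgroup G), w' ≠ 1 ∧ w' ≠ w ∧ IsConj w w' := by
    intro w hw hw1
    obtain ⟨g, hgP, hgne⟩ := exists_conj_ne hG P w (hord w hw hw1) hw
    refine ⟨g * w * g⁻¹, hgP, ?_, hgne, isConj_iff.2 ⟨g, rfl⟩⟩
    intro h
    apply hw1
    calc w = g⁻¹ * (g * w * g⁻¹) * g := by group
      _ = 1 := by rw [h, mul_one, inv_mul_cancel]
  -- two distinct involutions of `P`
  obtain ⟨a, haP, ha1⟩ : ∃ a ∈ (P : Subgroup G), a ≠ 1 := by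
    by_contra hcon
    push Not at hcon
    have : (P : Subgroup G) = ⊥ := by
      rw [eq_bot_iff]
      intro w hw
      rw [Subgroup.mem_bot]
      exact hcon w hw
    have h4 := hP.card_four
    rw [this, Subgroup.card_bot] at h4
    omega
  obtain ⟨b, hbP, hb1, hba, hab⟩ := hpartner a haP ha1
  obtain ⟨_, _, _, hPeq⟩ := eq_kleinSub_of_isKleinFour (P : Subgroup G) hP a b haP hbP ha1 hb1 (Ne.symm hba)
  have hmem : ∀ w, w ∈ (P : Subgroup G) ↔ w = 1 ∨ w = a ∨ w = b ∨ w = a * b := by
    intro w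
    rw [hPeq]
    exact Iff.rfl
  have hcP : a * b ∈ (P : Subgroup G) := Subgroup.mul_mem _ haP hbP
  have hc1 : a * b ≠ 1 := by
    intro h
    have h4 := hP.card_four
    have hsub : ((P : Subgroup G) : Set G) ⊆ {1, a, b} := by
      intro w hw
      rcases (hmem w).1 hw with h' | h' | h' | h'
      · left; exact h'
      · right; left; exact h'
      · right; right; exact h'
      · left; rw [h', h]
    have h3 : Nat.card (P : Subgroup G) ≤ 3 := by
      have := Set.ncard_le_ncard hsub (Set.toFinite _)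
      have h5 : ({1, a, b} : Set G).ncard ≤ 3 := by
        have := Set.ncard_insert_le (1 : G) ({a, b} : Set G)
        have h6 := Set.ncard_insert_le a ({b} : Set G)
        rw [Set.ncard_singleton] at h6
        omega
      exact le_trans this h5
    omega
  have hca : IsConj (a * b) a := by
    obtain ⟨c', hc'P, hc'1, hc'ne, hcc'⟩ := hpartner (a * b) hcP hc1
    rcases (hmem c').1 hc'P with h | h | h | h
    · exact absurd h hc'1
    · rw [h] at hcc'; exact hcc'
    · rw [h] at hcc'; exact hcc'.trans hab.symm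
    · exact absurd h hc'ne
  have hall : ∀ w ∈ (P : Subgroup G), w ≠ 1 → IsConj w a := by
    intro w hw hw1
    rcases (hmem w).1 hw with h | h | h | h
    · exact absurd h hw1
    · rw [h]
    · rw [h]; exact hab.symm
    · rw [h]; exact hca
  -- every involution is conjugate into `P`
  have hinto : ∀ s : G, orderOf s = 2 → IsConj s a := by
    intro s hs
    have hs1 : s ≠ 1 := by
      rintro rfl
      rw [orderOf_one] at hs
      omega
    have hzp : IsPGroup 2 (Subgroup.zpowers s) := by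
      apply IsPGroup.of_card (n := 1)
      rw [Nat.card_zpowers, hs, pow_one]
    obtain ⟨Q, hQ⟩ := hzp.exists_le_sylow
    obtain ⟨g, hg⟩ := MulAction.exists_smul_eq G P Q
    have hsQ : s ∈ (Q : Subgroup G) := hQ (Subgroup.mem_zpowers s)
    rw [← hg, Sylow.coe_subgroup_smul, Dk.mem_conj_smul] at hsQ
    have h1 : g⁻¹ * s * g ≠ 1 := by
      intro h
      apply hs1
      calc s = g * (g⁻¹ * s * g) * g⁻¹ := by group
        _ = 1 := by rw [h, mul_one, mul_inv_cancel]
    have h2 : IsConj s (g⁻¹ * s * g) := isConj_iff.2 ⟨g⁻¹, by rw [inv_inv]⟩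
    exact h2.trans (hall _ hsQ h1)
  intro s t hs ht
  exact (hinto s hs).trans (hinto t ht).symm

theorem arith_plus (a b d i r : ℕ) (ha : 0 < a) (hb : 0 < b) (hd : (d : ℚ) = 1 + a + b) (hr : 3 ≤ r)
    (h : ((i : ℚ) * r) * (1 + 1 / a + 1 / b - 1 / d) = 8) : i ≤ 2 := by
  have ha' : (0 : ℚ) < a := by exact_mod_cast ha
  have hb' : (0 : ℚ) < b := by exact_mod_cast hb
  have hd' : (0 : ℚ) < d := by rw [hd]; positivity
  have h1 : (1 : ℚ) / d < 1 / a := by
    apply one_div_lt_one_div_of_lt ha'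
    rw [hd]; linarith
  have h2 : (0 : ℚ) < 1 / b := by positivity
  have hA : (1 : ℚ) < 1 + 1 / a + 1 / b - 1 / d := by linarith
  by_contra hcon
  push Not at hcon
  have hi : (3 : ℚ) ≤ i := by exact_mod_cast hcon
  have hr' : (3 : ℚ) ≤ r := by exact_mod_cast hr
  have h3 : (9 : ℚ) ≤ (i : ℚ) * r := by nlinarith
  nlinarith

theorem arith_minus (s a b i r : ℕ) (ha4 : a % 4 = 3) (hb4 : b % 4 = 3) (hs : (s : ℚ) + 1 = a + b)
    (h : ((i : ℚ) * r) * (1 + 1 / s - 1 / a - 1 / b) = 8) : i * r < 21 := by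
  have ha3 : 3 ≤ a := by omega
  have hb3 : 3 ≤ b := by omega
  have ha' : (3 : ℚ) ≤ a := by exact_mod_cast ha3
  have hb' : (3 : ℚ) ≤ b := by exact_mod_cast hb3
  have hs' : (0 : ℚ) < s := by linarith
  have hA : (8 : ℚ) / 21 < 1 + 1 / s - 1 / a - 1 / b := by
    by_cases hab : a = 3 ∧ b = 3
    · obtain ⟨rfl, rfl⟩ := hab
      have : (s : ℚ) = 5 := by push_cast at hs; linarith
      rw [this]
      norm_num
    · have h7 : 7 ≤ a ∨ 7 ≤ b := by omega
      have hspos : (0 : ℚ) < 1 / s := by positivity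
      have h1a : (1 : ℚ) / a ≤ 1 / 3 := one_div_le_one_div_of_le (by norm_num) ha'
      have h1b : (1 : ℚ) / b ≤ 1 / 3 := one_div_le_one_div_of_le (by norm_num) hb'
      rcases h7 with h7 | h7
      · have : (1 : ℚ) / a ≤ 1 / 7 := one_div_le_one_div_of_le (by norm_num) (by exact_mod_cast h7)
        linarith
      · have : (1 : ℚ) / b ≤ 1 / 7 := one_div_le_one_div_of_le (by norm_num) (by exact_mod_cast h7)
        linarith
  by_contra hcon
  push Not at hcon
  have h21 : (21 : ℚ) ≤ (i : ℚ) * r := by exact_mod_cast hcon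
  nlinarith

end Cfsg.Agent.Lib.Helper15.A5C
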