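import Mathlib
import Cfsg.Agent.S0948
import Cfsg.Agent.S0494
import Cfsg.Agent.Lib.Helper7.OrderFormulaFour
import Cfsg.Agent.Lib.Helper25.EvenDegree
import Cfsg.Agent.Lib.Helper15.A5C3
import Cfsg.Agent.Lib.Helper15.A5C4
set_option autoImplicit false
namespace Cfsg.Agent.Lib.Helper15.A5C

set_option maxHeartbeats 1600000 in
/-- a simple group with an involution whose centralizer has a normal four-group as Sylow `2`-subgroup
is `A₅` -/
theorem main {G : Type*} [Group G] [Finite G] [IsSimpleGroup G] (x : G) (hx : orderOf x = 2)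
    (S₀ : Subgroup G) (hle : S₀ ≤ Subgroup.centralizer ({x} : Set G)) (hK : IsKleinFour ↥S₀)
    (hodd : ¬ 2 ∣ S₀.relIndex (Subgroup.centralizer ({x} : Set G)))
    (hn : (S₀.subgroupOf (Subgroup.centralizer ({x} : Set G))).Normal) :
    Nonempty (G ≃* ↥(alternatingGroup (Fin 5))) := by
  classical
  have hp2 : Fact (Nat.Prime 2) := ⟨Nat.prime_two⟩
  obtain ⟨hS₀p, hxS, hcent, y, hyS, hy1, hyx, hxx, hyy, hxy, hmem⟩ := setup x hx S₀ hle hK hodd hn
  have hx1 : x ≠ 1 := by
    rintro rfl
    rw [orderOf_one] at hx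
    omega
  obtain ⟨P, hPeq⟩ := exists_sylow_eq x hx S₀ hle hK hodd hn
  have hP : IsKleinFour (P : Subgroup G) := by rw [hPeq]; exact hK
  have hcardP : Nat.card (P : Subgroup G) = 4 := hP.card_four
  have hxP : x ∈ (P : Subgroup G) := by rw [hPeq]; exact hxS
  have hyP : y ∈ (P : Subgroup G) := by rw [hPeq]; exact hyS
  have hPcomm : ∀ a ∈ (P : Subgroup G), ∀ b ∈ (P : Subgroup G), a * b = b * a := by
    intro a ha b hb
    have := mul_comm_of_exponent_two (IsKleinFour.exponent_two (G := (P : Subgroup G))) ⟨a, ha⟩ ⟨b, hb⟩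
    exact congrArg Subtype.val this
  -- `G` is not commutative
  have hG : ¬ ∀ a b : G, a * b = b * a := by
    intro hc
    have hnorm : (Subgroup.zpowers x).Normal := by
      constructor
      intro n hn' g
      rw [hc g n, mul_inv_cancel_right]
      exact hn'
    rcases hnorm.eq_bot_or_eq_top with h | h
    · have := Subgroup.mem_zpowers x
      rw [h, Subgroup.mem_bot] at this
      exact hx1 this
    · have h1 : Nat.card (Subgroup.zpowers x) = 2 := by rw [Nat.card_zpowers, hx]
      rw [h, Subgroup.card_top] at h1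
      have := Subgroup.card_le_card_group (P : Subgroup G)
      omega
  have hone := all_invol_conj hG P hP
  obtain ⟨M, hM⟩ := Cfsg.Agent.Lib.Helper25.exists_isPModular 2 Nat.prime_two
  obtain ⟨ζ₂, ζ₃, ζ₄, ε, hε, h21, h31, h23, h24, h34, hB, hval, hd2, hd3, hd4, -⟩ :=
    Cfsg.Agent.S0948.result M hM P hP hone
  obtain ⟨hv2, hv3, hv4⟩ := hval x hx
  -- order of `G`
  set g₀ := (P : Subgroup G).index with hg₀def
  have hGc : Nat.card G = 4 * g₀ := by
    rw [← hcardP, hg₀def, Subgroup.card_mul_index]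
  have hg₀odd : Odd g₀ := by
    have := P.not_dvd_index
    rw [Nat.odd_iff]
    omega
  have hg₀pos : 0 < g₀ := hg₀odd.pos
  have hnc : ¬ ∃ N : Subgroup G, N.Normal ∧ Nat.card N = g₀ := by
    rintro ⟨N, hNn, hNc⟩
    rcases hNn.eq_bot_or_eq_top with h | h
    · rw [h, Subgroup.card_bot] at hNc
      apply hG
      have hcm : IsMulCommutative G := IsPGroup.isMulCommutative_of_card_eq_prime_sq (p := 2) (by
        rw [hGc, ← hNc]; norm_num)
      exact hcm.is_comm.comm
    · rw [h, Subgroup.card_top, hGc] at hNc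
      omega
  have h41 : (ζ₄ : G → ℂ) ≠ (fun _ => 1) := by
    intro h
    rw [h] at hv4
    norm_num at hv4
  have hform := Cfsg.Agent.Lib.Helper7.order_formula_four M hM g₀ hg₀odd hGc hnc P x hxP hx ζ₂ ζ₃ ζ₄
    1 ε (-1) hB ⟨h21, h31, h41, h23, h24, h34⟩ ⟨Or.inl rfl, hε, Or.inr rfl⟩
    ⟨by rw [hv2]; norm_num, hv3, by rw [hv4]; norm_num⟩
  obtain ⟨hE1, hE2⟩ := hform
  -- centralizers
  have hCeq : Subgroup.centralizer ({x} : Set G) = Subgroup.centralizer ((P : Subgroup G) : Set G) := by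
    apply le_antisymm
    · intro c hc
      rw [Subgroup.mem_centralizer_iff]
      intro s hs
      rw [SetLike.mem_coe, hPeq] at hs
      exact (hcent c hc s hs).symm
    · exact Subgroup.centralizer_le (by
        intro s hs
        rw [Set.mem_singleton_iff] at hs
        rw [hs]
        exact hxP)
  rw [hCeq] at hE1
  set CP := Subgroup.centralizer ((P : Subgroup G) : Set G) with hCP
  set NP := Subgroup.normalizer ((P : Subgroup G) : Set G) with hNP
  have hPC : (P : Subgroup G) ≤ CP := by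
    intro a ha
    rw [hCP, Subgroup.mem_centralizer_iff]
    intro b hb
    exact hPcomm b hb a ha
  have hCN : CP ≤ NP := Subgroup.centralizer_le_normalizer _
  obtain ⟨k, hk⟩ : ∃ k, Nat.card CP = 4 * k := by
    have := Subgroup.card_dvd_of_le hPC
    rw [hcardP] at this
    exact this
  obtain ⟨r, hr⟩ : ∃ r, Nat.card NP = Nat.card CP * r := Subgroup.card_dvd_of_le hCN
  have hi : Nat.card NP * NP.index = Nat.card G := NP.card_mul_index
  set i := NP.index with hidef
  have hcpos : 0 < Nat.card CP := Nat.card_pos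
  have hkpos : 0 < k := by
    rcases Nat.eq_zero_or_pos k with h | h
    · rw [h] at hk; omega
    · exact h
  have hg₀eq : g₀ = k * r * i := by
    have : 4 * g₀ = 4 * (k * r * i) := by
      rw [← hGc, ← hi, hr, hk]; ring
    omega
  have hrodd : Odd r := by
    rw [hg₀eq] at hg₀odd
    exact (Nat.odd_mul.1 (Nat.odd_mul.1 hg₀odd).1).2
  have hiodd : Odd i := by
    rw [hg₀eq] at hg₀odd
    exact (Nat.odd_mul.1 hg₀odd).2
  -- `r ≠ 1`
  have hr3 : 3 ≤ r := by
    have hr1 : r ≠ 1 := by
      intro h1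
      rw [h1, mul_one] at hr
      have hEq : CP = NP := Subgroup.eq_of_le_of_card_ge hCN (le_of_eq hr)
      have hoy : orderOf y = 2 := orderOf_eq_prime (by rw [pow_two]; exact hyy) hy1
      obtain ⟨g, hg⟩ := isConj_iff.1 (hone x y hx hoy)
      have hPI : IsMulCommutative P := ⟨⟨fun a b => Subtype.ext (hPcomm a a.2 b b.2)⟩⟩
      have hy' : (g⁻¹)⁻¹ * x * g⁻¹ ∈ P := by rw [inv_inv, hg]; exact hyP
      obtain ⟨n, hnN, hgn⟩ := Sylow.conj_eq_normalizer_conj_of_mem P x g⁻¹ hxP hy'
      rw [inv_inv, hg] at hgn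
      have hnC : n ∈ CP := by rw [hEq]; exact hnN
      rw [hCP, Subgroup.mem_centralizer_iff] at hnC
      have := hnC x hxP
      apply hyx
      rw [hgn, mul_assoc, this, inv_mul_cancel_left]
    obtain ⟨l, hl⟩ := hrodd
    omega
  -- the equation `i r A = 8`
  have hcQ : (Nat.card CP : ℚ) ≠ 0 := by exact_mod_cast hcpos.ne'
  have hNQ : (Nat.card G : ℚ) = (i : ℚ) * r * Nat.card CP := by
    rw [← hi, hr]; push_cast; ring
  have hkey : ((i : ℚ) * r) * (1 + ((1 : ℤ) : ℚ) / Cfsg.charDegree (ζ₂ : G → ℂ)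
      + (ε : ℚ) / Cfsg.charDegree (ζ₃ : G → ℂ) + ((-1 : ℤ) : ℚ) / Cfsg.charDegree (ζ₄ : G → ℂ)) = 8 := by
    rw [hNQ] at hE1
    have h3 : (Nat.card CP : ℚ) ^ 3 ≠ 0 := pow_ne_zero 3 hcQ
    apply mul_right_cancel₀ h3
    linear_combination hE1
  let _ : Fintype G := Fintype.ofFinite G
  have hx2pos := Cfsg.Agent.Lib.Helper7.irr_charDegree_pos ζ₂
  have hx3pos := Cfsg.Agent.Lib.Helper7.irr_charDegree_pos ζ₃
  have hx4pos := Cfsg.Agent.Lib.Helper7.irr_charDegree_pos ζ₄
  set x₂ := Cfsg.charDegree (ζ₂ : G → ℂ) with hx₂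
  set x₃ := Cfsg.charDegree (ζ₃ : G → ℂ) with hx₃
  set x₄ := Cfsg.charDegree (ζ₄ : G → ℂ) with hx₄
  -- bound on `i`
  have hNPtop : NP ≠ ⊤ := by
    intro h
    have hPn : (P : Subgroup G).Normal := Subgroup.normalizer_eq_top_iff.1 h
    rcases hPn.eq_bot_or_eq_top with h' | h'
    · rw [h', Subgroup.card_bot] at hcardP
      omega
    · apply hG
      intro a b
      exact hPcomm a (by rw [h']; exact Subgroup.mem_top a) b (by rw [h']; exact Subgroup.mem_top b)
  have hi1 : i ≠ 1 := fun h => hNPtop (Subgroup.index_eq_one.1 h)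
  have hfact := Cfsg.Agent.S0494.card_dvd_factorial_index NP hNPtop
  rw [← hidef] at hfact
  have hi5 : i = 5 ∧ r = 3 := by
    rcases hε with hε1 | hε1
    · exfalso
      rw [hε1] at hkey hE2
      have hd : (x₄ : ℚ) = 1 + x₂ + x₃ := by
        push_cast at hE2
        linarith
      have h2 := arith_plus x₂ x₃ x₄ i r hx2pos hx3pos hd hr3 (by
        rw [← hkey]
        push_cast
        ring)
      obtain ⟨l, hl⟩ := hiodd
      omega
    · rw [hε1] at hkey hE2 hd3
      have hs : (x₂ : ℚ) + 1 = x₃ + x₄ := by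
        push_cast at hE2
        linarith
      have h3mod : x₃ % 4 = 3 := by
        have : (4 : ℤ) ∣ (x₃ : ℤ) + 1 := by
          have := hd3
          rwa [sub_neg_eq_add] at this
        omega
      have h4mod : x₄ % 4 = 3 := by omega
      have h2 := arith_minus x₂ x₃ x₄ i r h3mod h4mod hs (by
        rw [← hkey]
        push_cast
        ring)
      obtain ⟨l, hl⟩ := hiodd
      obtain ⟨l', hl'⟩ := hrodd
      have hi6 : i ≤ 6 := by nlinarith
      have hi35 : i = 3 ∨ i = 5 := by omega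
      rcases hi35 with h3 | h5
      · exfalso
        rw [h3, hGc] at hfact
        have : Nat.factorial 3 = 6 := by decide
        rw [this] at hfact
        have h46 : 4 ∣ 6 := Dvd.dvd.trans (Dvd.intro _ rfl) hfact
        omega
      · refine ⟨h5, ?_⟩
        rw [h5] at h2
        omega
  obtain ⟨hi5', hr3'⟩ := hi5
  have h60 : Nat.card G = 60 := by
    have h1 : Nat.card G = 60 * k := by
      rw [← hi, hr, hk, hi5', hr3']; ring
    rw [hi5', h1] at hfact
    have : Nat.factorial 5 = 120 := by decide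
    rw [this] at hfact
    have hk2 : k ∣ 2 := by
      have : 60 * k ∣ 60 * 2 := hfact
      exact Nat.dvd_of_mul_dvd_mul_left (by norm_num) this
    have hkodd : Odd k := by
      rw [hg₀eq] at hg₀odd
      exact (Nat.odd_mul.1 (Nat.odd_mul.1 hg₀odd).1).1
    have hk1 : k = 1 := by
      have := Nat.le_of_dvd (by norm_num) hk2
      obtain ⟨l, hl⟩ := hkodd
      omega
    rw [h1, hk1]
  exact Cfsg.Agent.S0494.result h60

end Cfsg.Agent.Lib.Helper15.A5C
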