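import Mathlib
import Cfsg.Agent.Lib.Helper15.OddSp1

/-!
# S2474, part 1: forms, isometries and the duality trick

For an isometry `g` of an `ε`-symmetric form `B`, the form `B(gx, y) - B(x, gy)` is
`(-ε)`-symmetric and invariant under the centraliser of `g`; it is nondegenerate on the
image of `g - 1` when `g` has odd order prime to the characteristic.
-/

set_option autoImplicit false

namespace Cfsg.Agent.Lib.Helper15.BC

open Module

section basic

variable {F V : Type*} [Field F] [AddCommGroup V] [Module F V]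

/-- `g` preserves the bilinear form `B` -/
def IsIso (B : V →ₗ[F] V →ₗ[F] F) (g : Module.End F V) : Prop :=
  ∀ x y, B (g x) (g y) = B x y

/-- nondegenerate -/
def Nondeg (B : V →ₗ[F] V →ₗ[F] F) : Prop := ∀ x, (∀ y, B x y = 0) → x = 0

/-- `ε`-symmetric -/
def EpsSym (B : V →ₗ[F] V →ₗ[F] F) (ε : F) : Prop := ∀ x y, B y x = ε * B x y

variable {B : V →ₗ[F] V →ₗ[F] F}

theorem IsIso.one : IsIso B 1 := fun _ _ => rfl

theorem IsIso.mul {g h : Module.End F V} (hg : IsIso B g) (hh : IsIso B h) :
    IsIso B (g * h) := by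
  intro x y
  rw [Module.End.mul_apply, Module.End.mul_apply, hg, hh]

theorem IsIso.pow {g : Module.End F V} (hg : IsIso B g) (k : ℕ) : IsIso B (g ^ k) := by
  induction k with
  | zero => rw [pow_zero]; exact IsIso.one
  | succ k ih => rw [pow_succ]; exact ih.mul hg

theorem IsIso.neg {g : Module.End F V} (hg : IsIso B g) : IsIso B (-g) := by
  intro x y
  simp only [LinearMap.neg_apply, map_neg, neg_neg]
  exact hg x y

theorem isIso_neg_one : IsIso B (-1) := IsIso.one.neg

/-- moving an isometry of finite order to the other side -/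
theorem IsIso.apply_right {g : Module.End F V} (hg : IsIso B g) (m : ℕ) (hm : g ^ (m + 1) = 1)
    (x y : V) : B x (g y) = B ((g ^ m) x) y := by
  have h1 := hg.pow m x (g y)
  rw [← Module.End.mul_apply (g ^ m) g y, ← pow_succ, hm, Module.End.one_apply] at h1
  exact h1.symm

theorem EpsSym.orth_symm {ε : F} (h : EpsSym B ε) {x y : V} (hxy : B x y = 0) : B y x = 0 := by
  rw [h x y, hxy, mul_zero]

/-- the dual form `B(gx, y) - B(x, gy)` -/
noncomputable def dualForm (B : V →ₗ[F] V →ₗ[F] F) (g : Module.End F V) : V →ₗ[F] V →ₗ[F] F :=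
  B.comp g - B.compl₂ g

theorem dualForm_apply (g : Module.End F V) (x y : V) :
    dualForm B g x y = B (g x) y - B x (g y) := by
  unfold dualForm
  rw [LinearMap.sub_apply, LinearMap.sub_apply, LinearMap.comp_apply, LinearMap.compl₂_apply]

theorem dualForm_epsSym {ε : F} (h : EpsSym B ε) (g : Module.End F V) :
    EpsSym (dualForm B g) (-ε) := by
  intro x y
  rw [dualForm_apply, dualForm_apply, h x (g y), h (g x) y]
  ring

theorem dualForm_isIso {g c : Module.End F V} (hc : IsIso B c)
    (hcomm : c * g = g * c) : IsIso (dualForm B g) c := by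
  intro x y
  rw [dualForm_apply, dualForm_apply, ← Module.End.mul_apply g c x, ← Module.End.mul_apply g c y,
    ← hcomm, Module.End.mul_apply, Module.End.mul_apply, hc, hc]

/-- the fixed space of an isometry is orthogonal to the image of `g - 1` -/
theorem orth_ker_range {g : Module.End F V} (hg : IsIso B g) {x y : V}
    (hx : x ∈ LinearMap.ker (g - 1)) (hy : y ∈ LinearMap.range (g - 1)) : B x y = 0 := by
  rw [LinearMap.mem_ker, LinearMap.sub_apply, Module.End.one_apply, sub_eq_zero] at hx
  obtain ⟨w, rfl⟩ := hy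
  rw [LinearMap.sub_apply, Module.End.one_apply, map_sub]
  nth_rewrite 1 [← hx]
  rw [hg, sub_self]

end basic

section range

variable {F : Type*} [Field F] {V : Type*} [AddCommGroup V] [Module F V]
  [FiniteDimensional F V]
variable {B : V →ₗ[F] V →ₗ[F] F}

/-- the image of `g - 1` is nondegenerate -/
theorem nondeg_range {ε : F} (hε : EpsSym B ε) (hnd : Nondeg B) {g : Module.End F V}
    (hg : IsIso B g) (m : ℕ) (hm : g ^ m = 1) (hmF : (m : F) ≠ 0) (x : V)
    (hx : x ∈ LinearMap.range (g - 1))
    (h0 : ∀ y ∈ LinearMap.range (g - 1), B x y = 0) : x = 0 := by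
  apply hnd
  intro v
  have hc := OddSp.isCompl_ker_range g m hm hmF
  obtain ⟨v₀, hv₀, v₁, hv₁, rfl⟩ := Submodule.mem_sup.mp
    (show v ∈ LinearMap.ker (g - 1) ⊔ LinearMap.range (g - 1) by
      rw [hc.sup_eq_top]; exact Submodule.mem_top)
  rw [map_add, h0 v₁ hv₁, add_zero]
  exact hε.orth_symm (orth_ker_range hg hv₀ hx)

/-- a vector orthogonal to the image of `g - 1` is fixed -/
theorem mem_ker_of_orth {ε : F} (hε : EpsSym B ε) (hnd : Nondeg B) {g : Module.End F V}
    (hg : IsIso B g) (m : ℕ) (hm : g ^ m = 1) (hmF : (m : F) ≠ 0) (v : V)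
    (hv : ∀ y ∈ LinearMap.range (g - 1), B v y = 0) : v ∈ LinearMap.ker (g - 1) := by
  have hc := OddSp.isCompl_ker_range g m hm hmF
  obtain ⟨v₀, hv₀, v₁, hv₁, rfl⟩ := Submodule.mem_sup.mp
    (show v ∈ LinearMap.ker (g - 1) ⊔ LinearMap.range (g - 1) by
      rw [hc.sup_eq_top]; exact Submodule.mem_top)
  have h1 : v₁ = 0 := by
    apply nondeg_range hε hnd hg m hm hmF v₁ hv₁
    intro y hy
    have h2 := hv y hy
    rw [map_add, LinearMap.add_apply, orth_ker_range hg hv₀ hy, zero_add] at h2
    exact h2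
  rw [h1, add_zero]
  exact hv₀

omit [FiniteDimensional F V] in
/-- for `g` of odd order, a vector fixed by `g ^ 2` is fixed by `g` -/
theorem fixed_of_sq_fixed {g : Module.End F V} (m : ℕ) (hm : g ^ m = 1) (hodd : Odd m) (x : V)
    (hx : g (g x) = x) : g x = x := by
  obtain ⟨k, hk⟩ := hodd
  have h1 : ∀ j : ℕ, (g ^ (2 * j)) x = x := by
    intro j
    induction j with
    | zero => rfl
    | succ j ih =>
      have : 2 * (j + 1) = 2 * j + 1 + 1 := by ring
      rw [this, pow_succ, pow_succ, Module.End.mul_apply, Module.End.mul_apply, hx, ih]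
  have h2 : (g ^ (m + 1)) x = g x := by
    rw [pow_succ, Module.End.mul_apply, hm, Module.End.one_apply]
  have h3 : m + 1 = 2 * (k + 1) := by omega
  rw [h3, h1] at h2
  exact h2.symm

/-- the restriction of the dual form to the image of `g - 1` -/
noncomputable def rangeForm (B : V →ₗ[F] V →ₗ[F] F) (g : Module.End F V) :
    LinearMap.range (g - 1) →ₗ[F] LinearMap.range (g - 1) →ₗ[F] F :=
  (dualForm B g).domRestrict₁₂ (LinearMap.range (g - 1)) (LinearMap.range (g - 1))

omit [FiniteDimensional F V] in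
theorem rangeForm_apply (g : Module.End F V) (x y : LinearMap.range (g - 1)) :
    rangeForm B g x y = B (g (x : V)) (y : V) - B (x : V) (g (y : V)) := by
  unfold rangeForm
  rw [LinearMap.domRestrict₁₂_apply, dualForm_apply]

omit [FiniteDimensional F V] in
theorem rangeForm_epsSym {ε : F} (h : EpsSym B ε) (g : Module.End F V) :
    EpsSym (rangeForm B g) (-ε) := by
  intro x y
  exact dualForm_epsSym h g (x : V) (y : V)

/-- the dual form is nondegenerate on the image of `g - 1` -/
theorem rangeForm_nondeg {ε : F} (hε : EpsSym B ε) (hnd : Nondeg B) {g : Module.End F V}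
    (hg : IsIso B g) (m : ℕ) (hm : g ^ m = 1) (hodd : Odd m) (hmF : (m : F) ≠ 0) :
    Nondeg (rangeForm B g) := by
  intro x h0
  obtain ⟨m', rfl⟩ : ∃ m', m = m' + 1 := by
    obtain ⟨k, hk⟩ := hodd
    exact ⟨2 * k, hk⟩
  -- the vector `z = g x - g^{m'} x`
  have hinv : ∀ w ∈ LinearMap.range (g - 1), ∀ j : ℕ, (g ^ j) w ∈ LinearMap.range (g - 1) := by
    intro w hw j
    exact OddSp.map_range_of_commute g (g ^ j) (by rw [← pow_succ, ← pow_succ']) w hw
  have hz : g (x : V) - (g ^ m') (x : V) = 0 := by
    apply nondeg_range hε hnd hg (m' + 1) hm hmF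
    · have h1 := hinv (x : V) x.2 1
      rw [pow_one] at h1
      exact Submodule.sub_mem _ h1 (hinv (x : V) x.2 m')
    · intro y hy
      have h1 := h0 ⟨y, hy⟩
      rw [rangeForm_apply, hg.apply_right m' hm] at h1
      rw [map_sub, LinearMap.sub_apply]
      exact h1
  have h2 : g (g (x : V)) = (x : V) := by
    rw [sub_eq_zero] at hz
    rw [hz, ← Module.End.mul_apply, ← pow_succ', hm, Module.End.one_apply]
  have h3 := fixed_of_sq_fixed (m' + 1) hm hodd (x : V) h2
  have h4 := OddSp.free_range g (m' + 1) hm hmF (x : V) x.2 h3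
  exact Subtype.ext h4

end range

end Cfsg.Agent.Lib.Helper15.BC
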