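import Mathlib
import Cfsg.Agent.Lib.Helper15.BC1

/-!
# S2474, part 2: restriction to the image of `g - 1`, orthogonal sums
-/

set_option autoImplicit false

namespace Cfsg.Agent.Lib.Helper15.BC

open Module

section res

variable {F V : Type*} [Field F] [AddCommGroup V] [Module F V]

/-- restriction to the image of `g - 1` of an endomorphism commuting with `g` -/
noncomputable def resR (g c : Module.End F V) (hc : c * g = g * c) :
    Module.End F (LinearMap.range (g - 1)) :=
  c.restrict (fun x hx => OddSp.map_range_of_commute g c hc x hx)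

theorem resR_coe (g c : Module.End F V) (hc : c * g = g * c) (w : LinearMap.range (g - 1)) :
    ((resR g c hc w : LinearMap.range (g - 1)) : V) = c (w : V) := rfl

theorem resR_mul (g c d : Module.End F V) (hc : c * g = g * c) (hd : d * g = g * d)
    (hcd : (c * d) * g = g * (c * d)) :
    resR g (c * d) hcd = resR g c hc * resR g d hd := by
  apply LinearMap.ext
  intro w
  apply Subtype.ext
  rfl

theorem resR_one (g : Module.End F V) (h1 : (1 : Module.End F V) * g = g * 1) :
    resR g 1 h1 = 1 := by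
  apply LinearMap.ext
  intro w
  apply Subtype.ext
  rfl

theorem commute_pow (g c : Module.End F V) (hc : c * g = g * c) (k : ℕ) :
    c ^ k * g = g * c ^ k := by
  have : Commute c g := hc
  exact (this.pow_left k)

theorem resR_pow (g c : Module.End F V) (hc : c * g = g * c) (k : ℕ) :
    resR g (c ^ k) (commute_pow g c hc k) = resR g c hc ^ k := by
  induction k with
  | zero =>
    simp only [pow_zero]
    exact resR_one g _
  | succ k ih =>
    rw [pow_succ (resR g c hc), ← ih]
    have h1 : c ^ (k + 1) = c ^ k * c := pow_succ c k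
    apply LinearMap.ext
    intro w
    apply Subtype.ext
    rw [resR_coe, Module.End.mul_apply, resR_coe, resR_coe, h1, Module.End.mul_apply]

theorem resR_eq_one_iff (g c : Module.End F V) (hc : c * g = g * c) :
    resR g c hc = 1 ↔ ∀ x ∈ LinearMap.range (g - 1), c x = x := by
  constructor
  · intro h x hx
    have := congrArg (fun f : Module.End F (LinearMap.range (g - 1)) => ((f ⟨x, hx⟩ :
      LinearMap.range (g - 1)) : V)) h
    exact this
  · intro h
    apply LinearMap.ext
    intro w
    apply Subtype.ext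
    exact h _ w.2

theorem resR_comm (g c d : Module.End F V) (hc : c * g = g * c) (hd : d * g = g * d)
    (hcd : c * d = d * c) : resR g c hc * resR g d hd = resR g d hd * resR g c hc := by
  apply LinearMap.ext
  intro w
  apply Subtype.ext
  show c (d (w : V)) = d (c (w : V))
  rw [← Module.End.mul_apply, ← Module.End.mul_apply, hcd]

theorem resR_isIso {B : V →ₗ[F] V →ₗ[F] F} {g c : Module.End F V} (hB : IsIso B c)
    (hc : c * g = g * c) : IsIso (rangeForm B g) (resR g c hc) := by
  intro x y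
  rw [rangeForm_apply, rangeForm_apply, resR_coe, resR_coe]
  have := dualForm_isIso hB hc (x : V) (y : V)
  rw [dualForm_apply, dualForm_apply] at this
  exact this

/-- `g` acts without fixed points on the image of `g - 1` -/
theorem resR_free (g : Module.End F V) (m : ℕ) (hm : g ^ m = 1) (hmF : (m : F) ≠ 0)
    (w : LinearMap.range (g - 1)) (hw : resR g g rfl w = w) : w = 0 := by
  apply Subtype.ext
  apply OddSp.free_range g m hm hmF (w : V) w.2
  have := congrArg (fun z : LinearMap.range (g - 1) => (z : V)) hw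
  exact this

end res

section sum

variable {F V₁ V₂ : Type*} [Field F] [AddCommGroup V₁] [Module F V₁] [AddCommGroup V₂]
  [Module F V₂]

/-- the orthogonal sum of two forms -/
noncomputable def sumForm (B₁ : V₁ →ₗ[F] V₁ →ₗ[F] F) (B₂ : V₂ →ₗ[F] V₂ →ₗ[F] F) :
    (V₁ × V₂) →ₗ[F] (V₁ × V₂) →ₗ[F] F :=
  B₁.compl₁₂ (LinearMap.fst F V₁ V₂) (LinearMap.fst F V₁ V₂) +
    B₂.compl₁₂ (LinearMap.snd F V₁ V₂) (LinearMap.snd F V₁ V₂)

variable {B₁ : V₁ →ₗ[F] V₁ →ₗ[F] F} {B₂ : V₂ →ₗ[F] V₂ →ₗ[F] F}

theorem sumForm_apply (a b : V₁ × V₂) : sumForm B₁ B₂ a b = B₁ a.1 b.1 + B₂ a.2 b.2 := by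
  unfold sumForm
  rw [LinearMap.add_apply, LinearMap.add_apply, LinearMap.compl₁₂_apply, LinearMap.compl₁₂_apply]
  rfl

theorem sumForm_epsSym {ε : F} (h₁ : EpsSym B₁ ε) (h₂ : EpsSym B₂ ε) :
    EpsSym (sumForm B₁ B₂) ε := by
  intro x y
  rw [sumForm_apply, sumForm_apply, h₁ x.1 y.1, h₂ x.2 y.2]
  ring

theorem sumForm_nondeg (h₁ : Nondeg B₁) (h₂ : Nondeg B₂) : Nondeg (sumForm B₁ B₂) := by
  intro x h0
  apply Prod.ext
  · apply h₁
    intro y
    have := h0 (y, 0)
    rw [sumForm_apply] at this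
    simpa using this
  · apply h₂
    intro y
    have := h0 (0, y)
    rw [sumForm_apply] at this
    simpa using this

theorem sumForm_isIso {g₁ : Module.End F V₁} {g₂ : Module.End F V₂} (h₁ : IsIso B₁ g₁)
    (h₂ : IsIso B₂ g₂) : IsIso (sumForm B₁ B₂) (g₁.prodMap g₂) := by
  intro x y
  rw [sumForm_apply, sumForm_apply]
  show B₁ (g₁ x.1) (g₁ y.1) + B₂ (g₂ x.2) (g₂ y.2) = _
  rw [h₁, h₂]

theorem prodMap_pow' (g₁ : Module.End F V₁) (g₂ : Module.End F V₂) (k : ℕ) :
    (g₁.prodMap g₂) ^ k = (g₁ ^ k).prodMap (g₂ ^ k) := by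
  induction k with
  | zero =>
    simp only [pow_zero]
    exact LinearMap.prodMap_one.symm
  | succ k ih =>
    rw [pow_succ, ih, LinearMap.prodMap_mul, pow_succ, pow_succ]

theorem prodMap_comm {g₁ h₁ : Module.End F V₁} {g₂ h₂ : Module.End F V₂}
    (c₁ : g₁ * h₁ = h₁ * g₁) (c₂ : g₂ * h₂ = h₂ * g₂) :
    g₁.prodMap g₂ * h₁.prodMap h₂ = h₁.prodMap h₂ * g₁.prodMap g₂ := by
  rw [LinearMap.prodMap_mul, LinearMap.prodMap_mul, c₁, c₂]

theorem prodMap_eq_smul_one {g₁ : Module.End F V₁} {g₂ : Module.End F V₂} {c : F}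
    (h : g₁.prodMap g₂ = c • (1 : Module.End F (V₁ × V₂))) :
    g₁ = c • (1 : Module.End F V₁) ∧ g₂ = c • (1 : Module.End F V₂) := by
  constructor
  · apply LinearMap.ext
    intro x
    have := congrArg (fun f : Module.End F (V₁ × V₂) => (f (x, 0)).1) h
    simpa using this
  · apply LinearMap.ext
    intro x
    have := congrArg (fun f : Module.End F (V₁ × V₂) => (f (0, x)).2) h
    simpa using this

theorem prodMap_eq_one_iff {g₁ : Module.End F V₁} {g₂ : Module.End F V₂} :
    g₁.prodMap g₂ = 1 ↔ g₁ = 1 ∧ g₂ = 1 := by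
  constructor
  · intro h
    have h1 : g₁.prodMap g₂ = (1 : F) • (1 : Module.End F (V₁ × V₂)) := by rw [h, one_smul]
    have := prodMap_eq_smul_one h1
    rw [one_smul, one_smul] at this
    exact this
  · rintro ⟨rfl, rfl⟩
    exact LinearMap.prodMap_one

end sum

section scalar

variable {F V : Type*} [Field F] [AddCommGroup V] [Module F V]

/-- a scalar isometry of a nondegenerate form has square one -/
theorem sq_eq_one_of_scalar_iso {B : V →ₗ[F] V →ₗ[F] F} (hnd : Nondeg B) {c : F}
    (h : IsIso B (c • (1 : Module.End F V))) (hV : ∃ x : V, x ≠ 0) : c * c = 1 := by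
  obtain ⟨x, hx⟩ := hV
  by_contra hne
  apply hx
  apply hnd
  intro y
  have h1 := h x y
  simp only [LinearMap.smul_apply, Module.End.one_apply, map_smul, smul_eq_mul] at h1
  have h2 : (c * c - 1) * B x y = 0 := by
    rw [sub_mul, one_mul, mul_assoc, h1, sub_self]
  rcases mul_eq_zero.mp h2 with h3 | h3
  · exact absurd (sub_eq_zero.mp h3) hne
  · exact h3

/-- a scalar isometry of odd order is trivial -/
theorem eq_one_of_scalar_of_odd {B : V →ₗ[F] V →ₗ[F] F} (hnd : Nondeg B) {g : Module.End F V}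
    (hg : IsIso B g) (m : ℕ) (hm : g ^ m = 1) (hodd : Odd m) (c : F)
    (hc : g = c • (1 : Module.End F V)) : g = 1 := by
  by_cases hV : ∃ x : V, x ≠ 0
  · have h1 : c * c = 1 := sq_eq_one_of_scalar_iso hnd (hc ▸ hg) hV
    obtain ⟨k, hk⟩ := hodd
    have h2 : g ^ m = (c ^ m) • (1 : Module.End F V) := by
      rw [hc, smul_pow, one_pow]
    have h3 : c ^ m = c := by
      rw [hk, pow_succ, pow_mul, pow_two, h1, one_pow, one_mul]
    rw [hm, h3] at h2
    rw [hc, ← h2]
  · push Not at hV
    apply LinearMap.ext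
    intro x
    rw [hV x, map_zero, map_zero]

end scalar

end Cfsg.Agent.Lib.Helper15.BC
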