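import Mathlib

/-!
# Prime graph tools I: orders in central quotients, free actions of prime order on subspaces
-/

set_option autoImplicit false

namespace Cfsg.Agent.Lib.Helper15.PGraph

open Module

section Quot

variable {G : Type*} [Group G]

/-- If `g` has order `m` coprime to an exponent `e` of the normal subgroup `Z`, its image in
`G ⧸ Z` still has order `m`. -/
theorem orderOf_mk_of_coprime (Z : Subgroup G) [Z.Normal] (e m : ℕ)
    (hZ : ∀ z ∈ Z, z ^ e = 1) (hme : m.Coprime e) (g : G) (hg : orderOf g = m) :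
    orderOf (QuotientGroup.mk g : G ⧸ Z) = m := by
  apply Nat.dvd_antisymm
  · apply orderOf_dvd_of_pow_eq_one
    rw [← QuotientGroup.mk_pow, ← hg, pow_orderOf_eq_one]
    rfl
  · have h1 : (QuotientGroup.mk g : G ⧸ Z) ^ orderOf (QuotientGroup.mk g : G ⧸ Z) = 1 :=
      pow_orderOf_eq_one _
    rw [← QuotientGroup.mk_pow, QuotientGroup.eq_one_iff] at h1
    have h2 := hZ _ h1
    rw [← pow_mul] at h2
    have h3 : m ∣ orderOf (QuotientGroup.mk g : G ⧸ Z) * e := by
      rw [← hg]; exact orderOf_dvd_of_pow_eq_one h2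
    exact hme.dvd_of_dvd_mul_right h3

/-- An element of order `m` of `G ⧸ Z` lifts to an element of order `m` of `G`, when `m` is
coprime to an exponent `e` of `Z`. -/
theorem exists_orderOf_eq_of_quotient (Z : Subgroup G) [Z.Normal] (e m : ℕ)
    (hZ : ∀ z ∈ Z, z ^ e = 1) (hme : m.Coprime e) (x : G ⧸ Z) (hx : orderOf x = m) :
    ∃ h : G, orderOf h = m := by
  obtain ⟨g, rfl⟩ := QuotientGroup.mk_surjective x
  refine ⟨g ^ e, ?_⟩
  apply Nat.dvd_antisymm
  · apply orderOf_dvd_of_pow_eq_one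
    have h1 : (QuotientGroup.mk g : G ⧸ Z) ^ m = 1 := by rw [← hx, pow_orderOf_eq_one]
    rw [← QuotientGroup.mk_pow, QuotientGroup.eq_one_iff] at h1
    have h2 := hZ _ h1
    rw [← pow_mul, mul_comm, pow_mul] at h2
    exact h2
  · have h1 : (g ^ e) ^ orderOf (g ^ e) = 1 := pow_orderOf_eq_one _
    have h2 : (QuotientGroup.mk g : G ⧸ Z) ^ (e * orderOf (g ^ e)) = 1 := by
      rw [← QuotientGroup.mk_pow, pow_mul, h1]; rfl
    have h3 : m ∣ e * orderOf (g ^ e) := by
      rw [← hx]; exact orderOf_dvd_of_pow_eq_one h2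
    exact hme.dvd_of_dvd_mul_left h3

end Quot

section Free

variable {F V : Type*} [Field F] [Fintype F] [AddCommGroup V] [Module F V]
  [FiniteDimensional F V]

/-- A linear map `A` with `A ^ r = 1` (`r` prime), preserving a subspace `W` on which it has no
nonzero fixed vector: then `r ∣ q ^ dim W - 1`. -/
theorem prime_dvd_card_pow_sub_one (W : Submodule F V) (A : Module.End F V) (r : ℕ)
    (hr : r.Prime) (hAW : ∀ w ∈ W, A w ∈ W) (hAr : A ^ r = 1)
    (hfree : ∀ w ∈ W, A w = w → w = 0) :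
    r ∣ Fintype.card F ^ finrank F W - 1 := by
  classical
  have : Fact r.Prime := ⟨hr⟩
  have : Finite V := Module.finite_of_finite F
  have : Fintype W := Fintype.ofFinite _
  let X := {w : W // w ≠ 0}
  let f : Function.End X := fun x => ⟨⟨A x.1.1, hAW _ x.1.2⟩, by
    intro h
    apply x.2
    have h0 : A (x.1 : V) = 0 := congrArg Subtype.val h
    have h1 : (A ^ r) (x.1 : V) = 0 := by
      obtain ⟨k, hk⟩ : ∃ k, r = k + 1 := ⟨r - 1, (Nat.succ_pred_eq_of_pos hr.pos).symm⟩
      rw [hk, pow_succ, Module.End.mul_apply, h0, map_zero]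
    rw [hAr, Module.End.one_apply] at h1
    exact Subtype.ext h1⟩
  have hfpow : ∀ (j : ℕ) (x : X), (((f ^ j) x).1 : V) = (A ^ j) (x.1 : V) := by
    intro j
    induction j with
    | zero => intro x; rfl
    | succ j ih =>
      intro x
      rw [pow_succ', pow_succ']
      show ((f ((f ^ j) x)).1 : V) = _
      rw [Module.End.mul_apply, ← ih]
  have hf : f ^ r ^ 1 = 1 := by
    rw [pow_one]
    funext x
    apply Subtype.ext
    apply Subtype.ext
    rw [hfpow, hAr]
    rfl
  have h1 := Equiv.Perm.card_fixedPoints_modEq (p := r) (n := 1) hf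
  have h2 : Fintype.card (Function.fixedPoints f) = 0 := by
    rw [Fintype.card_eq_zero_iff]
    constructor
    rintro ⟨x, hx⟩
    apply x.2
    apply Subtype.ext
    apply hfree _ x.1.2
    have := congrArg (fun y : X => (y.1 : V)) hx
    exact this
  rw [h2] at h1
  have h3 : Fintype.card X = Fintype.card F ^ finrank F W - 1 := by
    rw [Fintype.card_subtype_compl, Fintype.card_subtype_eq, Module.card_eq_pow_finrank (K := F)]
  rw [← h3]
  exact (Nat.modEq_zero_iff_dvd).mp h1

/-- if `r ∣ q ^ d - 1` then the multiplicative order of `q` mod `r` divides `d`. -/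
theorem orderOf_dvd_of_dvd_pow_sub_one (q r d : ℕ) (hq : 0 < q) (h : r ∣ q ^ d - 1) :
    orderOf ((q : ℕ) : ZMod r) ∣ d := by
  apply orderOf_dvd_of_pow_eq_one
  have h1 : ((q ^ d - 1 : ℕ) : ZMod r) = 0 := (ZMod.natCast_eq_zero_iff _ _).mpr h
  rw [Nat.cast_sub (Nat.one_le_pow _ _ hq), Nat.cast_pow, Nat.cast_one, sub_eq_zero] at h1
  exact h1

/-- conversely `r ∣ q ^ k - 1` for `k` the order of `q` mod `r`. -/
theorem dvd_pow_orderOf_sub_one (q r : ℕ) (hq : 0 < q) :
    r ∣ q ^ orderOf ((q : ℕ) : ZMod r) - 1 := by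
  rw [← ZMod.natCast_eq_zero_iff, Nat.cast_sub (Nat.one_le_pow _ _ hq), Nat.cast_pow,
    Nat.cast_one, pow_orderOf_eq_one, sub_self]

end Free

end Cfsg.Agent.Lib.Helper15.PGraph
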