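import Mathlib
import Cfsg.Agent.Lib.Helper15.PGraph1

/-!
# Prime graph tools II: dimensions forced by semisimple elements of order `r` and `r s`
-/

set_option autoImplicit false
set_option linter.unusedSectionVars false

namespace Cfsg.Agent.Lib.Helper15.PGraph

open Module Finset

variable {F V : Type*} [Field F] [Fintype F] [AddCommGroup V] [Module F V]
  [FiniteDimensional F V]

/-- the "norm" element `1 + A + ... + A^(r-1)` -/
noncomputable def nrm (A : Module.End F V) (r : ℕ) : Module.End F V := ∑ i ∈ range r, A ^ i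

theorem nrm_comm (A B : Module.End F V) (r : ℕ) (h : Commute B A) : Commute B (nrm A r) := by
  unfold nrm
  exact Commute.sum_right _ _ _ (fun i _ => h.pow_right i)

/-- the kernel of the norm is invariant under everything commuting with `A` -/
theorem ker_nrm_invariant (A B : Module.End F V) (r : ℕ) (h : Commute B A) :
    ∀ w ∈ LinearMap.ker (nrm A r), B w ∈ LinearMap.ker (nrm A r) := by
  intro w hw
  rw [LinearMap.mem_ker] at hw ⊢
  have h1 := nrm_comm A B r h
  have h2 : (nrm A r * B) w = (B * nrm A r) w := by rw [h1.eq]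
  rw [Module.End.mul_apply, Module.End.mul_apply, hw, map_zero] at h2
  exact h2

theorem ker_nrm_free (A : Module.End F V) (r : ℕ) (hr : (r : F) ≠ 0) :
    ∀ w ∈ LinearMap.ker (nrm A r), A w = w → w = 0 := by
  intro w hw hAw
  rw [LinearMap.mem_ker] at hw
  have h1 : ∀ i : ℕ, (A ^ i) w = w := by
    intro i
    induction i with
    | zero => rfl
    | succ i ih => rw [pow_succ, Module.End.mul_apply, hAw, ih]
  have h2 : nrm A r w = (r : F) • w := by
    unfold nrm
    rw [LinearMap.sum_apply, Finset.sum_congr rfl (fun i _ => h1 i), Finset.sum_const,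
      Finset.card_range, Nat.cast_smul_eq_nsmul]
  rw [h2] at hw
  exact (smul_eq_zero.mp hw).resolve_left hr

theorem ker_nrm_ne_bot (A : Module.End F V) (r : ℕ) (hA : A ^ r = 1) (hA1 : A ≠ 1) :
    LinearMap.ker (nrm A r) ≠ ⊥ := by
  intro hbot
  apply hA1
  have h1 : nrm A r * (A - 1) = 0 := by
    unfold nrm
    rw [geom_sum_mul, hA, sub_self]
  ext v
  have h2 : (nrm A r * (A - 1)) v = 0 := by rw [h1]; rfl
  rw [Module.End.mul_apply] at h2
  have h3 : (A - 1) v ∈ LinearMap.ker (nrm A r) := LinearMap.mem_ker.mpr h2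
  rw [hbot, Submodule.mem_bot] at h3
  rw [LinearMap.sub_apply, Module.End.one_apply, sub_eq_zero] at h3
  rw [h3]; rfl

theorem finrank_pos_of_ne_bot (W : Submodule F V) (hW : W ≠ ⊥) : 0 < finrank F W := by
  rw [Module.finrank_pos_iff_exists_ne_zero]
  obtain ⟨w, hw, hw0⟩ := Submodule.exists_mem_ne_zero_of_ne_bot hW
  exact ⟨⟨w, hw⟩, fun h => hw0 (congrArg Subtype.val h)⟩

/-- An element of prime order `r ≠ p` in `GL(V)` forces `ord_r(q) ≤ dim V`. -/
theorem orderOf_le_finrank_of_prime (A : Module.End F V) (r : ℕ) (hr : r.Prime)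
    (hrF : (r : F) ≠ 0) (hA : A ^ r = 1) (hA1 : A ≠ 1) :
    orderOf ((Fintype.card F : ℕ) : ZMod r) ≤ finrank F V := by
  have hq : 0 < Fintype.card F := Fintype.card_pos
  set W := LinearMap.ker (nrm A r) with hW
  have hW0 : W ≠ ⊥ := ker_nrm_ne_bot A r hA hA1
  have h1 := prime_dvd_card_pow_sub_one W A r hr (ker_nrm_invariant A A r (Commute.refl A)) hA
    (ker_nrm_free A r hrF)
  have h2 := orderOf_dvd_of_dvd_pow_sub_one _ _ _ hq h1
  exact (Nat.le_of_dvd (finrank_pos_of_ne_bot W hW0) h2).trans (Submodule.finrank_le W)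

/-- An element `T` of order `r s` (distinct primes `≠ p`) in `GL(V)`: with `k, l` the orders of `q`
mod `r, s`, either `k + l ≤ dim V`, or some `0 < d ≤ dim V` is divisible by both `k` and `l`. -/
theorem dims_of_order_mul (T : Module.End F V) (r s : ℕ) (hr : r.Prime) (hs : s.Prime)
    (hrF : (r : F) ≠ 0) (hsF : (s : F) ≠ 0) (hT : T ^ (r * s) = 1)
    (hTr : T ^ r ≠ 1) (hTs : T ^ s ≠ 1) :
    orderOf ((Fintype.card F : ℕ) : ZMod r) + orderOf ((Fintype.card F : ℕ) : ZMod s)
        ≤ finrank F V ∨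
      ∃ d, 0 < d ∧ d ≤ finrank F V ∧ orderOf ((Fintype.card F : ℕ) : ZMod r) ∣ d ∧
        orderOf ((Fintype.card F : ℕ) : ZMod s) ∣ d := by
  have hq : 0 < Fintype.card F := Fintype.card_pos
  set A := T ^ s with hAdef
  set B := T ^ r with hBdef
  have hA : A ^ r = 1 := by rw [hAdef, ← pow_mul, mul_comm, hT]
  have hB : B ^ s = 1 := by rw [hBdef, ← pow_mul, hT]
  have hAB : Commute A B := Commute.pow_pow (Commute.refl T) _ _
  set WA := LinearMap.ker (nrm A r) with hWA
  set WB := LinearMap.ker (nrm B s) with hWB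
  have hWA0 : WA ≠ ⊥ := ker_nrm_ne_bot A r hA hTs
  have hWB0 : WB ≠ ⊥ := ker_nrm_ne_bot B s hB hTr
  by_cases hdisj : WA ⊓ WB = ⊥
  · left
    have h1 := prime_dvd_card_pow_sub_one WA A r hr (ker_nrm_invariant A A r (Commute.refl A)) hA
      (ker_nrm_free A r hrF)
    have h2 := prime_dvd_card_pow_sub_one WB B s hs (ker_nrm_invariant B B s (Commute.refl B)) hB
      (ker_nrm_free B s hsF)
    have h3 := Nat.le_of_dvd (finrank_pos_of_ne_bot WA hWA0)
      (orderOf_dvd_of_dvd_pow_sub_one _ _ _ hq h1)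
    have h4 := Nat.le_of_dvd (finrank_pos_of_ne_bot WB hWB0)
      (orderOf_dvd_of_dvd_pow_sub_one _ _ _ hq h2)
    have h5 := Submodule.finrank_sup_add_finrank_inf_eq WA WB
    rw [hdisj, finrank_bot, add_zero] at h5
    have h6 := Submodule.finrank_le (WA ⊔ WB)
    omega
  · right
    set W := WA ⊓ WB with hW
    refine ⟨finrank F W, finrank_pos_of_ne_bot W hdisj, Submodule.finrank_le W, ?_, ?_⟩
    · apply orderOf_dvd_of_dvd_pow_sub_one _ _ _ hq
      apply prime_dvd_card_pow_sub_one W A r hr _ hA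
      · intro w hw hAw
        exact ker_nrm_free A r hrF w hw.1 hAw
      · intro w hw
        exact ⟨ker_nrm_invariant A A r (Commute.refl A) w hw.1,
          ker_nrm_invariant B A s hAB w hw.2⟩
    · apply orderOf_dvd_of_dvd_pow_sub_one _ _ _ hq
      apply prime_dvd_card_pow_sub_one W B s hs _ hB
      · intro w hw hBw
        exact ker_nrm_free B s hsF w hw.2 hBw
      · intro w hw
        exact ⟨ker_nrm_invariant A B r hAB.symm w hw.1,
          ker_nrm_invariant B B s (Commute.refl B) w hw.2⟩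

end Cfsg.Agent.Lib.Helper15.PGraph
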