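import Mathlib
import Cfsg.Agent.Lib.Helper15.PGraph2
import Cfsg.Agent.Lib.Helper3.Singer

/-!
# Prime graph tools III: constructing semisimple elements of given order in `SL_n(q)`, `PSL_n(q)`
-/

set_option autoImplicit false
set_option linter.unusedSectionVars false

namespace Cfsg.Agent.Lib.Helper15.PGraph

open Module Matrix

variable {F : Type*} [Field F] [Fintype F]

/-- `GL_d(q)` has an element of every order dividing `q ^ d - 1`. -/
theorem exists_GL_orderOf (d : ℕ) (hd : d ≠ 0) (m : ℕ) (hm : m ∣ Fintype.card F ^ d - 1) :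
    ∃ A : GL (Fin d) F, orderOf A = m := by
  obtain ⟨C, hC, hcard⟩ := Cfsg.Agent.Lib.Helper3.Singer.exists_singer (F := F) d hd
  obtain ⟨g, hg⟩ := IsCyclic.exists_generator (α := C)
  have h1 : orderOf g = Fintype.card F ^ d - 1 := by
    rw [orderOf_eq_card_of_forall_mem_zpowers hg, hcard]
  have hq : 1 < Fintype.card F := Fintype.one_lt_card
  have hN : 0 < Fintype.card F ^ d - 1 := by
    have : 2 ≤ Fintype.card F ^ d := by
      calc 2 ≤ Fintype.card F := hq
        _ = Fintype.card F ^ 1 := (pow_one _).symm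
        _ ≤ Fintype.card F ^ d := Nat.pow_le_pow_right (by omega) (Nat.one_le_iff_ne_zero.mpr hd)
    omega
  obtain ⟨c, hc⟩ := hm
  have hc0 : c ≠ 0 := by
    rintro rfl
    rw [mul_zero] at hc; omega
  have hm0 : m ≠ 0 := by
    rintro rfl
    rw [zero_mul] at hc; omega
  refine ⟨((g ^ c : C) : GL (Fin d) F), ?_⟩
  rw [Subgroup.orderOf_coe, orderOf_pow_of_dvd hc0 (by rw [h1, hc]; exact dvd_mul_left _ _), h1, hc]
  exact Nat.mul_div_cancel _ (Nat.pos_of_ne_zero hc0)

/-- An element of `GL_d(q)` of order coprime to `q - 1` has determinant one. -/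
theorem det_eq_one_of_coprime {d : ℕ} (A : GL (Fin d) F) (m : ℕ) (hA : orderOf A = m)
    (hm : m.Coprime (Fintype.card F - 1)) : (A : Matrix (Fin d) (Fin d) F).det = 1 := by
  set c : F := (A : Matrix (Fin d) (Fin d) F).det with hc
  have hc0 : c ≠ 0 := by
    have := (Matrix.GeneralLinearGroup.det A).ne_zero
    simpa using this
  have h1 : c ^ m = 1 := by
    rw [hc, ← Matrix.det_pow, ← Units.val_pow_eq_pow_val, ← hA, pow_orderOf_eq_one]
    simp
  have h2 : c ^ (Fintype.card F - 1) = 1 := FiniteField.pow_card_sub_one_eq_one c hc0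
  have h3 : orderOf c ∣ Nat.gcd m (Fintype.card F - 1) :=
    Nat.dvd_gcd (orderOf_dvd_of_pow_eq_one h1) (orderOf_dvd_of_pow_eq_one h2)
  rw [hm.gcd_eq_one, Nat.dvd_one, orderOf_eq_one_iff] at h3
  exact h3

section Block

variable {a b : ℕ}

/-- block diagonal embedding `M_a × M_b → M_{a+b}` as a monoid homomorphism -/
noncomputable def blk (F : Type*) [Field F] (a b : ℕ) :
    Matrix (Fin a) (Fin a) F × Matrix (Fin b) (Fin b) F →* Matrix (Fin (a + b)) (Fin (a + b)) F where
  toFun X := Matrix.reindexAlgEquiv F F finSumFinEquiv (Matrix.fromBlocks X.1 0 0 X.2)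
  map_one' := by
    simp only [Prod.fst_one, Prod.snd_one, Matrix.fromBlocks_one, map_one]
  map_mul' X Y := by
    rw [← map_mul]
    congr 1
    simp [Matrix.fromBlocks_multiply]

theorem blk_injective : Function.Injective (blk F a b) := by
  intro X Y h
  have h1 := (Matrix.reindexAlgEquiv F F (finSumFinEquiv (m := a) (n := b))).injective h
  have h2 := Matrix.ext_iff_blocks.mp h1
  exact Prod.ext h2.1 h2.2.2.2

theorem det_blk (X : Matrix (Fin a) (Fin a) F × Matrix (Fin b) (Fin b) F) :
    (blk F a b X).det = X.1.det * X.2.det := by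
  show (Matrix.reindexAlgEquiv F F finSumFinEquiv (Matrix.fromBlocks X.1 0 0 X.2)).det = _
  rw [Matrix.det_reindexAlgEquiv, Matrix.det_fromBlocks_zero₂₁]

theorem orderOf_blk (X : Matrix (Fin a) (Fin a) F × Matrix (Fin b) (Fin b) F) :
    orderOf (blk F a b X) = (orderOf X.1).lcm (orderOf X.2) := by
  rw [orderOf_injective (blk F a b) blk_injective, Prod.orderOf]

end Block

/-- every central element of `SL_n(q)` has `(q-1)`-th power one -/
theorem center_pow_card_sub_one {n : ℕ} (z : Matrix.SpecialLinearGroup (Fin n) F)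
    (hz : z ∈ Subgroup.center (Matrix.SpecialLinearGroup (Fin n) F)) :
    z ^ (Fintype.card F - 1) = 1 := by
  obtain ⟨c, hc, hcz⟩ := Matrix.SpecialLinearGroup.mem_center_iff.mp hz
  apply Subtype.ext
  rw [Matrix.SpecialLinearGroup.coe_pow, ← hcz, ← map_pow]
  by_cases hc0 : c = 0
  · -- then `n = 0`
    subst hc0
    rcases Nat.eq_zero_or_pos n with hn | hn
    · subst hn
      exact Subsingleton.elim _ _
    · simp [zero_pow (by omega : n ≠ 0)] at hc
  · rw [FiniteField.pow_card_sub_one_eq_one c hc0, map_one]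
    rfl

/-- orders of elements of `SL_n` can be read off the underlying matrix -/
theorem orderOf_SL_eq {n : ℕ} (g : Matrix.SpecialLinearGroup (Fin n) F) :
    orderOf g = orderOf (g : Matrix (Fin n) (Fin n) F) := by
  have hinj : Function.Injective (fun g : Matrix.SpecialLinearGroup (Fin n) F =>
      (g : Matrix (Fin n) (Fin n) F)) := Subtype.val_injective
  apply Nat.dvd_antisymm
  · apply orderOf_dvd_of_pow_eq_one
    apply Subtype.ext
    rw [Matrix.SpecialLinearGroup.coe_pow, pow_orderOf_eq_one]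
    rfl
  · apply orderOf_dvd_of_pow_eq_one
    rw [← Matrix.SpecialLinearGroup.coe_pow, pow_orderOf_eq_one]
    rfl

/-- a matrix of determinant one whose order `m` is coprime to `q - 1` gives an element of order
`m` in `PSL_n(q)` -/
theorem exists_PSL_orderOf {n : ℕ} (M : Matrix (Fin n) (Fin n) F) (hdet : M.det = 1) (m : ℕ)
    (hM : orderOf M = m) (hm : m.Coprime (Fintype.card F - 1)) :
    ∃ x : Matrix.ProjectiveSpecialLinearGroup (Fin n) F, orderOf x = m := by
  let g : Matrix.SpecialLinearGroup (Fin n) F := ⟨M, hdet⟩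
  have hg : orderOf g = m := by rw [orderOf_SL_eq]; exact hM
  exact ⟨QuotientGroup.mk g, orderOf_mk_of_coprime _ (Fintype.card F - 1) m
    (fun z hz => center_pow_card_sub_one z hz) hm g hg⟩

/-- an element of `PSL_n(q)` of order `m` coprime to `q - 1` comes from a matrix of order `m` -/
theorem exists_matrix_of_PSL_orderOf {n : ℕ} (x : Matrix.ProjectiveSpecialLinearGroup (Fin n) F)
    (m : ℕ) (hx : orderOf x = m) (hm : m.Coprime (Fintype.card F - 1)) :
    ∃ M : Matrix (Fin n) (Fin n) F, orderOf M = m := by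
  obtain ⟨h, hh⟩ := exists_orderOf_eq_of_quotient
    (Subgroup.center (Matrix.SpecialLinearGroup (Fin n) F)) (Fintype.card F - 1) m
    (fun z hz => center_pow_card_sub_one z hz) hm x hx
  exact ⟨h, by rw [← orderOf_SL_eq]; exact hh⟩

end Cfsg.Agent.Lib.Helper15.PGraph
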