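import Mathlib
import Cfsg.Agent.Lib.Helper15.PGraph2

/-!
# Prime graph tools IV: unipotent elements commuting with semisimple elements of large order
-/

set_option autoImplicit false
set_option linter.unusedSectionVars false

namespace Cfsg.Agent.Lib.Helper15.PGraph

open Module Finset

variable {F V : Type*} [Field F] [Fintype F] [AddCommGroup V] [Module F V]
  [FiniteDimensional F V]

/-- A `p`-element of `GL(V)` (characteristic `p`) has a nonzero fixed vector on every nonzero
invariant subspace. -/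
theorem exists_fixed_ne_zero (p : ℕ) [Fact p.Prime] [CharP F p] (U : Module.End F V)
    (hUp : U ^ p = 1) (W : Submodule F V) (hUW : ∀ w ∈ W, U w ∈ W) (hW : W ≠ ⊥) :
    ∃ w ∈ W, w ≠ 0 ∧ U w = w := by
  classical
  have : Finite V := Module.finite_of_finite F
  have : Fintype W := Fintype.ofFinite _
  let f : Function.End W := fun x => ⟨U x.1, hUW _ x.2⟩
  have hfpow : ∀ (j : ℕ) (x : W), (((f ^ j) x) : V) = (U ^ j) (x : V) := by
    intro j
    induction j with
    | zero => intro x; rfl
    | succ j ih =>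
      intro x
      rw [pow_succ', pow_succ']
      show ((f ((f ^ j) x)) : V) = _
      rw [Module.End.mul_apply, ← ih]
  have hf : f ^ p ^ 1 = 1 := by
    rw [pow_one]
    funext x
    apply Subtype.ext
    rw [hfpow, hUp]
    rfl
  have h1 := Equiv.Perm.card_fixedPoints_modEq (p := p) (n := 1) hf
  have hd : 0 < finrank F W := finrank_pos_of_ne_bot W hW
  have h2 : p ∣ Fintype.card W := by
    rw [Module.card_eq_pow_finrank (K := F)]
    obtain ⟨m, _, hm⟩ := FiniteField.card F p
    rw [hm]
    exact dvd_pow (dvd_pow_self p m.ne_zero) hd.ne'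
  have h3 : p ∣ Fintype.card (Function.fixedPoints f) := by
    rw [← Nat.modEq_zero_iff_dvd]
    exact h1.symm.trans ((Nat.modEq_zero_iff_dvd).mpr h2)
  have h0 : (0 : W) ∈ Function.fixedPoints f := by
    show f 0 = 0
    apply Subtype.ext
    show U ((0 : W) : V) = ((0 : W) : V)
    simp
  have h4 : 1 < Fintype.card (Function.fixedPoints f) := by
    have hpos : 0 < Fintype.card (Function.fixedPoints f) := Fintype.card_pos_iff.mpr ⟨⟨0, h0⟩⟩
    have := Nat.le_of_dvd hpos h3
    have := (Fact.out : p.Prime).two_le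
    omega
  obtain ⟨y, hy⟩ := Fintype.exists_ne_of_one_lt_card h4 ⟨0, h0⟩
  refine ⟨y.1.1, y.1.2, ?_, ?_⟩
  · intro h
    apply hy
    apply Subtype.ext
    apply Subtype.ext
    exact h
  · have := y.2
    exact congrArg Subtype.val this

/-- A `p`-element acts trivially on an invariant subspace of dimension at most one. -/
theorem eq_self_of_finrank_le_one (p : ℕ) [Fact p.Prime] [CharP F p] (U : Module.End F V)
    (hUp : U ^ p = 1) (W : Submodule F V) (hUW : ∀ w ∈ W, U w ∈ W) (hW : finrank F W ≤ 1) :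
    ∀ w ∈ W, U w = w := by
  intro w hw
  by_cases hbot : W = ⊥
  · rw [hbot, Submodule.mem_bot] at hw
    rw [hw, map_zero]
  · obtain ⟨w0, hw0, hne, hfix⟩ := exists_fixed_ne_zero p U hUp W hUW hbot
    have h1 : finrank F W = 1 := by
      have := finrank_pos_of_ne_bot W hbot
      omega
    have hne' : (⟨w0, hw0⟩ : W) ≠ 0 := fun h => hne (congrArg Subtype.val h)
    obtain ⟨c, hc⟩ := (finrank_eq_one_iff_of_nonzero' (⟨w0, hw0⟩ : W) hne').mp h1 ⟨w, hw⟩
    have hc' : c • w0 = w := congrArg Subtype.val hc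
    rw [← hc', map_smul, hfix]

/-- The decomposition `V = Fix(A) ⊕ ker(1 + A + ... + A^(r-1))` for `A ^ r = 1`, `r ≠ 0` in `F`. -/
theorem exists_decomp (A : Module.End F V) (r : ℕ) (hr : (r : F) ≠ 0) (hA : A ^ r = 1) (v : V) :
    ∃ f w : V, A f = f ∧ w ∈ LinearMap.ker (nrm A r) ∧ v = f + w := by
  have hAn : A * nrm A r = nrm A r := by
    have h1 : (A - 1) * nrm A r = 0 := by
      unfold nrm
      rw [mul_geom_sum, hA, sub_self]
    rw [sub_mul, one_mul, sub_eq_zero] at h1
    exact h1
  have hfix : ∀ u : V, A (nrm A r u) = nrm A r u := by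
    intro u
    have := congrArg (fun g : Module.End F V => g u) hAn
    exact this
  have hnn : ∀ u : V, nrm A r (nrm A r u) = (r : F) • nrm A r u := by
    intro u
    have h1 : ∀ i : ℕ, (A ^ i) (nrm A r u) = nrm A r u := by
      intro i
      induction i with
      | zero => rfl
      | succ i ih => rw [pow_succ, Module.End.mul_apply, hfix, ih]
    have h2 : nrm A r (nrm A r u) = (∑ i ∈ range r, A ^ i) (nrm A r u) := rfl
    rw [h2, LinearMap.sum_apply, Finset.sum_congr rfl (fun i _ => h1 i), Finset.sum_const,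
      Finset.card_range, Nat.cast_smul_eq_nsmul]
  refine ⟨(r : F)⁻¹ • nrm A r v, v - (r : F)⁻¹ • nrm A r v, ?_, ?_, ?_⟩
  · rw [map_smul, hfix]
  · rw [LinearMap.mem_ker, map_sub, map_smul, hnn, smul_smul, inv_mul_cancel₀ hr, one_smul,
      sub_self]
  · abel

/-- **Key lemma.** If `A` has prime order `r` with `k = ord_r(q) ≥ 2` and `dim V ≤ k + 1`, every
`p`-element commuting with `A` is trivial. -/
theorem unipotent_eq_one_of_large_order (p : ℕ) [Fact p.Prime] [CharP F p]
    (A U : Module.End F V) (r : ℕ) (hr : r.Prime) (hrF : (r : F) ≠ 0) (hA : A ^ r = 1)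
    (hA1 : A ≠ 1) (hUp : U ^ p = 1) (hAU : Commute A U)
    (hk : 2 ≤ orderOf ((Fintype.card F : ℕ) : ZMod r))
    (hdim : finrank F V ≤ orderOf ((Fintype.card F : ℕ) : ZMod r) + 1) : U = 1 := by
  have hq : 0 < Fintype.card F := Fintype.card_pos
  set k := orderOf ((Fintype.card F : ℕ) : ZMod r) with hkdef
  set W := LinearMap.ker (nrm A r) with hW
  have hW0 : W ≠ ⊥ := ker_nrm_ne_bot A r hA hA1
  have hAW : ∀ w ∈ W, A w ∈ W := ker_nrm_invariant A A r (Commute.refl A)
  have hUW : ∀ w ∈ W, U w ∈ W := ker_nrm_invariant A U r hAU.symm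
  have hfree : ∀ w ∈ W, A w = w → w = 0 := ker_nrm_free A r hrF
  have hkW : k ∣ finrank F W :=
    orderOf_dvd_of_dvd_pow_sub_one _ _ _ hq (prime_dvd_card_pow_sub_one W A r hr hAW hA hfree)
  have hWpos : 0 < finrank F W := finrank_pos_of_ne_bot W hW0
  have hWle : finrank F W ≤ finrank F V := Submodule.finrank_le W
  have hWk : finrank F W = k := by
    obtain ⟨t, ht⟩ := hkW
    have : t = 1 := by
      rcases Nat.lt_or_ge t 2 with h | h
      · have : t ≠ 0 := by rintro rfl; omega
        omega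
      · have : 2 * k ≤ k * t := by nlinarith
        omega
    rw [ht, this, mul_one]
  -- the fixed space of `A`
  set Fx : Submodule F V := LinearMap.ker (A - 1) with hFx
  have hFxmem : ∀ v, v ∈ Fx ↔ A v = v := by
    intro v
    rw [hFx, LinearMap.mem_ker, LinearMap.sub_apply, Module.End.one_apply, sub_eq_zero]
  have hdisj : Fx ⊓ W = ⊥ := by
    rw [eq_bot_iff]
    intro v hv
    rw [Submodule.mem_bot]
    exact hfree v hv.2 ((hFxmem v).mp hv.1)
  have hFxle : finrank F Fx ≤ 1 := by
    have h5 := Submodule.finrank_sup_add_finrank_inf_eq Fx W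
    rw [hdisj, finrank_bot, add_zero] at h5
    have h6 := Submodule.finrank_le (Fx ⊔ W)
    omega
  have hUFx : ∀ v ∈ Fx, U v ∈ Fx := by
    intro v hv
    rw [hFxmem] at hv ⊢
    have : (A * U) v = (U * A) v := by rw [hAU.eq]
    rw [Module.End.mul_apply, Module.End.mul_apply, hv] at this
    exact this
  have hU1 : ∀ v ∈ Fx, U v = v := eq_self_of_finrank_le_one p U hUp Fx hUFx hFxle
  -- `U` is trivial on `W`
  set E : Submodule F V := LinearMap.ker (U - 1) ⊓ W with hE
  have hEmem : ∀ v, v ∈ E ↔ U v = v ∧ v ∈ W := by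
    intro v
    rw [hE, Submodule.mem_inf, LinearMap.mem_ker, LinearMap.sub_apply, Module.End.one_apply,
      sub_eq_zero]
  have hE0 : E ≠ ⊥ := by
    obtain ⟨w, hw, hne, hfix⟩ := exists_fixed_ne_zero p U hUp W hUW hW0
    intro h
    have : w ∈ E := (hEmem w).mpr ⟨hfix, hw⟩
    rw [h, Submodule.mem_bot] at this
    exact hne this
  have hAE : ∀ w ∈ E, A w ∈ E := by
    intro w hw
    rw [hEmem] at hw ⊢
    refine ⟨?_, hAW w hw.2⟩
    have : (U * A) w = (A * U) w := by rw [hAU.eq]
    rw [Module.End.mul_apply, Module.End.mul_apply, hw.1] at this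
    exact this
  have hkE : k ∣ finrank F E :=
    orderOf_dvd_of_dvd_pow_sub_one _ _ _ hq (prime_dvd_card_pow_sub_one E A r hr hAE hA
      (fun w hw => hfree w ((hEmem w).mp hw).2))
  have hEW : E ≤ W := inf_le_right
  have hEeq : E = W := by
    apply Submodule.eq_of_le_of_finrank_eq hEW
    have h1 := Nat.le_of_dvd (finrank_pos_of_ne_bot E hE0) hkE
    have h2 := Submodule.finrank_mono hEW
    omega
  have hU2 : ∀ w ∈ W, U w = w := by
    intro w hw
    rw [← hEeq] at hw
    exact ((hEmem w).mp hw).1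
  ext v
  obtain ⟨f, w, hf, hw, rfl⟩ := exists_decomp A r hrF hA v
  rw [map_add, hU1 f ((hFxmem f).mpr hf), hU2 w hw]
  rfl

end Cfsg.Agent.Lib.Helper15.PGraph
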