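import Mathlib
import Cfsg.Agent.Lib.Helper15.PGraph4
import Cfsg.Agent.Lib.Helper15.PGraph3

/-!
# Prime graph tools V: elements of order `r p` in `PSL_n(q)` (characteristic `p`)
-/

set_option autoImplicit false
set_option linter.unusedSectionVars false

namespace Cfsg.Agent.Lib.Helper15.PGraph

open Module Matrix

variable {F : Type*} [Field F] [Fintype F]

/-- `p` does not divide `q - 1`. -/
theorem not_dvd_card_sub_one (p : ℕ) [Fact p.Prime] [CharP F p] :
    ¬ p ∣ Fintype.card F - 1 := by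
  intro h
  obtain ⟨m, _, hm⟩ := FiniteField.card F p
  have hp := (Fact.out : p.Prime)
  have h1 : p ∣ Fintype.card F := by
    rw [hm]; exact dvd_pow_self p m.ne_zero
  have hq : 0 < Fintype.card F := Fintype.card_pos
  have h2 : p ∣ Fintype.card F - (Fintype.card F - 1) := Nat.dvd_sub h1 h
  have h3 : Fintype.card F - (Fintype.card F - 1) = 1 := by omega
  rw [h3, Nat.dvd_one] at h2
  exact hp.one_lt.ne' h2

/-- An element of order `r p` of `PSL_n(q)` yields commuting `S, U ∈ SL_n(q)` with `U` of order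
`p` and `S` of order `r` modulo the centre. -/
theorem exists_lift_of_PSL_orderOf_mul (p : ℕ) [Fact p.Prime] [CharP F p] {n : ℕ}
    (x : Matrix.ProjectiveSpecialLinearGroup (Fin n) F) (r : ℕ) (hr : r.Prime)
    (hx : orderOf x = r * p) :
    ∃ S U : Matrix.SpecialLinearGroup (Fin n) F, Commute S U ∧ U ^ p = 1 ∧ U ≠ 1 ∧
      S ^ r ∈ Subgroup.center (Matrix.SpecialLinearGroup (Fin n) F) ∧
      S ∉ Subgroup.center (Matrix.SpecialLinearGroup (Fin n) F) := by
  have hp := (Fact.out : p.Prime)
  obtain ⟨g, rfl⟩ := QuotientGroup.mk_surjective x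
  set e := Fintype.card F - 1 with he
  have hgZ : g ^ (r * p) ∈ Subgroup.center (Matrix.SpecialLinearGroup (Fin n) F) := by
    rw [← QuotientGroup.eq_one_iff, QuotientGroup.mk_pow, ← hx, pow_orderOf_eq_one]
  refine ⟨g ^ p, g ^ (r * e), Commute.pow_pow (Commute.refl g) _ _, ?_, ?_, ?_, ?_⟩
  · rw [← pow_mul]
    have : r * e * p = r * p * e := by ring
    rw [this, pow_mul]
    exact center_pow_card_sub_one _ hgZ
  · intro h
    have h1 : (QuotientGroup.mk g : Matrix.ProjectiveSpecialLinearGroup (Fin n) F) ^ (r * e) = 1 := by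
      rw [← QuotientGroup.mk_pow, h]; rfl
    have h2 := orderOf_dvd_of_pow_eq_one h1
    rw [hx] at h2
    exact not_dvd_card_sub_one (F := F) p (Nat.dvd_of_mul_dvd_mul_left hr.pos h2)
  · rw [← pow_mul, mul_comm]
    exact hgZ
  · intro h
    have h1 : (QuotientGroup.mk g : Matrix.ProjectiveSpecialLinearGroup (Fin n) F) ^ p = 1 := by
      rw [← QuotientGroup.mk_pow]
      exact (QuotientGroup.eq_one_iff _).mpr h
    have h2 := orderOf_dvd_of_pow_eq_one h1
    rw [hx] at h2
    have h3 : r * p ∣ 1 * p := by rwa [one_mul]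
    have h4 := Nat.dvd_of_mul_dvd_mul_right hp.pos h3
    exact hr.one_lt.ne' (Nat.dvd_one.mp h4)

/-- Commuting `S, U ∈ SL_n(q)` of orders `r`, `p` modulo the centre give an element of order
`r p` in `PSL_n(q)`. -/
theorem exists_PSL_orderOf_mul {n : ℕ} (S U : Matrix.SpecialLinearGroup (Fin n) F) (r p : ℕ)
    (hr : r.Prime) (hp : p.Prime) (hrp : r ≠ p) (hSU : Commute S U)
    (hS : S ∉ Subgroup.center (Matrix.SpecialLinearGroup (Fin n) F))
    (hSr : S ^ r ∈ Subgroup.center (Matrix.SpecialLinearGroup (Fin n) F))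
    (hU : U ∉ Subgroup.center (Matrix.SpecialLinearGroup (Fin n) F))
    (hUp : U ^ p ∈ Subgroup.center (Matrix.SpecialLinearGroup (Fin n) F)) :
    ∃ x : Matrix.ProjectiveSpecialLinearGroup (Fin n) F, orderOf x = r * p := by
  have : Fact r.Prime := ⟨hr⟩
  have : Fact p.Prime := ⟨hp⟩
  set s : Matrix.ProjectiveSpecialLinearGroup (Fin n) F := QuotientGroup.mk S with hs
  set u : Matrix.ProjectiveSpecialLinearGroup (Fin n) F := QuotientGroup.mk U with hu
  have h1 : orderOf s = r := by
    apply orderOf_eq_prime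
    · rw [hs, ← QuotientGroup.mk_pow]
      exact (QuotientGroup.eq_one_iff _).mpr hSr
    · intro h
      exact hS ((QuotientGroup.eq_one_iff _).mp h)
  have h2 : orderOf u = p := by
    apply orderOf_eq_prime
    · rw [hu, ← QuotientGroup.mk_pow]
      exact (QuotientGroup.eq_one_iff _).mpr hUp
    · intro h
      exact hU ((QuotientGroup.eq_one_iff _).mp h)
  have h3 : Commute s u := by
    show s * u = u * s
    rw [hs, hu, ← QuotientGroup.mk_mul, ← QuotientGroup.mk_mul, hSU.eq]
  refine ⟨s * u, ?_⟩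
  rw [h3.orderOf_mul_eq_mul_orderOf_of_coprime, h1, h2]
  rw [h1, h2]
  exact (Nat.coprime_primes hr hp).mpr hrp

end Cfsg.Agent.Lib.Helper15.PGraph
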