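import Mathlib
import Cfsg.Agent.Lib.Helper15.PGraph4
import Cfsg.Agent.Lib.Helper13.AltRank

/-!
# Prime graph tools IX: unipotent elements commuting with semisimple elements of symplectic groups
-/

set_option autoImplicit false
set_option linter.unusedSectionVars false

namespace Cfsg.Agent.Lib.Helper15.PGraph

open Module Finset

variable {F V : Type*} [Field F] [Fintype F] [AddCommGroup V] [Module F V]
  [FiniteDimensional F V]

theorem alt_skew (B : V →ₗ[F] V →ₗ[F] F) (halt : ∀ x, B x x = 0) (x y : V) :
    B x y = - B y x := by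
  have h := halt (x + y)
  simp only [map_add, LinearMap.add_apply, halt, zero_add, add_zero] at h
  linear_combination h

theorem pow_apply_of_fixed (A : Module.End F V) (v : V) (h : A v = v) (i : ℕ) :
    (A ^ i) v = v := by
  induction i with
  | zero => rfl
  | succ i ih => rw [pow_succ, Module.End.mul_apply, h, ih]

theorem form_pow_invariant (B : V →ₗ[F] V →ₗ[F] F) (A : Module.End F V)
    (hAB : ∀ x y, B (A x) (A y) = B x y) (i : ℕ) (x y : V) :
    B ((A ^ i) x) ((A ^ i) y) = B x y := by
  induction i with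
  | zero => rfl
  | succ i ih => rw [pow_succ', Module.End.mul_apply, Module.End.mul_apply, hAB, ih]

/-- the fixed space of an isometry `A` with `A ^ r = 1` is orthogonal to `ker (1 + A + ...)` -/
theorem fixed_orth_ker_nrm (B : V →ₗ[F] V →ₗ[F] F) (A : Module.End F V)
    (hAB : ∀ x y, B (A x) (A y) = B x y) (r : ℕ) (hrF : (r : F) ≠ 0)
    (f w : V) (hf : A f = f) (hw : w ∈ LinearMap.ker (nrm A r)) : B f w = 0 := by
  have h1 : ∀ i, B f ((A ^ i) w) = B f w := by
    intro i
    calc B f ((A ^ i) w) = B ((A ^ i) f) ((A ^ i) w) := by rw [pow_apply_of_fixed A f hf i]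
      _ = B f w := form_pow_invariant B A hAB i f w
  have h3 : B f (nrm A r w) = (r : F) * B f w := by
    unfold nrm
    rw [LinearMap.sum_apply, map_sum, Finset.sum_congr rfl (fun i _ => h1 i), Finset.sum_const,
      Finset.card_range, nsmul_eq_mul]
  rw [LinearMap.mem_ker.mp hw, map_zero] at h3
  exact (mul_eq_zero.mp h3.symm).resolve_left hrF

/-- `ker (1 + A + ... + A^(r-1))` has even dimension for an isometry `A` of a nondegenerate
alternating form -/
theorem even_finrank_ker_nrm (B : V →ₗ[F] V →ₗ[F] F) (halt : ∀ x, B x x = 0)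
    (hnd : ∀ x, (∀ y, B x y = 0) → x = 0) (A : Module.End F V)
    (hAB : ∀ x y, B (A x) (A y) = B x y) (r : ℕ) (hrF : (r : F) ≠ 0) (hA : A ^ r = 1) :
    Even (finrank F (LinearMap.ker (nrm A r))) := by
  set W := LinearMap.ker (nrm A r) with hW
  have h := Cfsg.Agent.Lib.Helper13.even_finrank_sub_radical (B.domRestrict₁₂ W W)
    (fun x => by rw [LinearMap.domRestrict₁₂_apply]; exact halt _) ⊥ (by
      intro x
      rw [Submodule.mem_bot]
      constructor
      · rintro rfl y
        rw [LinearMap.domRestrict₁₂_apply]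
        simp
      · intro h
        apply Subtype.ext
        apply hnd
        intro v
        obtain ⟨f, w, hf, hw, rfl⟩ := exists_decomp A r hrF hA v
        have h1 := h ⟨w, hw⟩
        rw [LinearMap.domRestrict₁₂_apply] at h1
        rw [map_add, alt_skew B halt x.1 f, fixed_orth_ker_nrm B A hAB r hrF f x.1 hf x.2,
          alt_skew B halt x.1 w, h1]
        simp)
  rw [finrank_bot, Nat.sub_zero] at h
  exact h

/-- **Key lemma, symplectic case.** If `A ∈ Sp(V)` has odd prime order `r` with `k = ord_r(q)`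
odd and `dim V ≤ 2k`, every `p`-element of `Sp(V)` commuting with `A` is trivial. -/
theorem symp_unipotent_eq_one (p : ℕ) [Fact p.Prime] [CharP F p]
    (B : V →ₗ[F] V →ₗ[F] F) (halt : ∀ x, B x x = 0) (hnd : ∀ x, (∀ y, B x y = 0) → x = 0)
    (A U : Module.End F V) (hAB : ∀ x y, B (A x) (A y) = B x y)
    (hUB : ∀ x y, B (U x) (U y) = B x y)
    (r : ℕ) (hr : r.Prime) (hr2 : r ≠ 2) (hrF : (r : F) ≠ 0) (hA : A ^ r = 1)
    (hA1 : A ≠ 1) (hUp : U ^ p = 1) (hAU : Commute A U)
    (hk : Odd (orderOf ((Fintype.card F : ℕ) : ZMod r)))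
    (hdim : finrank F V ≤ 2 * orderOf ((Fintype.card F : ℕ) : ZMod r)) : U = 1 := by
  have hq : 0 < Fintype.card F := Fintype.card_pos
  set k := orderOf ((Fintype.card F : ℕ) : ZMod r) with hkdef
  have hk0 : 0 < k := hk.pos
  have hskew := alt_skew B halt
  set W := LinearMap.ker (nrm A r) with hW
  have hW0 : W ≠ ⊥ := ker_nrm_ne_bot A r hA hA1
  have hAW : ∀ w ∈ W, A w ∈ W := ker_nrm_invariant A A r (Commute.refl A)
  have hfree : ∀ w ∈ W, A w = w → w = 0 := ker_nrm_free A r hrF
  have hkW : k ∣ finrank F W :=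
    orderOf_dvd_of_dvd_pow_sub_one _ _ _ hq (prime_dvd_card_pow_sub_one W A r hr hAW hA hfree)
  have hWeven : Even (finrank F W) := even_finrank_ker_nrm B halt hnd A hAB r hrF hA
  have hWpos : 0 < finrank F W := finrank_pos_of_ne_bot W hW0
  have hWle : finrank F W ≤ finrank F V := Submodule.finrank_le W
  have h2kW : 2 * k ∣ finrank F W :=
    Nat.Coprime.mul_dvd_of_dvd_of_dvd (Nat.coprime_two_left.mpr hk) hWeven.two_dvd hkW
  have hWdim : finrank F W = 2 * k := by
    have := Nat.le_of_dvd hWpos h2kW
    omega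
  have hVdim : finrank F V = 2 * k := by omega
  have hWtop : W = ⊤ := Submodule.eq_top_of_finrank_eq (by rw [hWdim, hVdim])
  have hfreeV : ∀ v, A v = v → v = 0 := fun v hv => hfree v (by rw [hWtop]; exact Submodule.mem_top) hv
  -- the fixed space of `U`
  set N : Module.End F V := U - 1 with hN
  have hNapp : ∀ w, N w = U w - w := fun w => by
    rw [hN, LinearMap.sub_apply, Module.End.one_apply]
  have hUN : ∀ w, U w = w + N w := fun w => by rw [hNapp]; abel
  set E := LinearMap.ker N with hE
  have hEmem : ∀ w, w ∈ E ↔ U w = w := by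
    intro w
    rw [hE, LinearMap.mem_ker, hNapp, sub_eq_zero]
  have hAN : Commute A N := by
    rw [hN]
    exact hAU.sub_right (Commute.one_right A)
  have hUN' : Commute U N := by
    rw [hN]
    exact (Commute.refl U).sub_right (Commute.one_right U)
  have hANapp : ∀ x, N (A x) = A (N x) := by
    intro x
    have : (N * A) x = (A * N) x := by rw [hAN.eq]
    exact this
  have hAE : ∀ w ∈ E, A w ∈ E := by
    intro w hw
    rw [hE, LinearMap.mem_ker] at hw ⊢
    rw [hANapp, hw, map_zero]
  obtain ⟨v0, -, hv00, hv0⟩ := exists_fixed_ne_zero p U hUp ⊤ (fun _ _ => Submodule.mem_top)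
    (by
      intro h
      have h1 : finrank F (⊤ : Submodule F V) = 2 * k := by rw [finrank_top, hVdim]
      rw [h, finrank_bot] at h1
      omega)
  have hE0 : E ≠ ⊥ := by
    intro h
    have : v0 ∈ E := (hEmem v0).mpr hv0
    rw [h, Submodule.mem_bot] at this
    exact hv00 this
  have hkE : k ∣ finrank F E :=
    orderOf_dvd_of_dvd_pow_sub_one _ _ _ hq (prime_dvd_card_pow_sub_one E A r hr hAE hA
      (fun w _ => hfreeV w))
  have hEpos : 0 < finrank F E := finrank_pos_of_ne_bot E hE0
  by_cases hEtop : E = ⊤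
  · ext w
    have : w ∈ E := by rw [hEtop]; exact Submodule.mem_top
    rw [(hEmem w).mp this]
    rfl
  exfalso
  have hElt : finrank F E < 2 * k := by
    rw [← hVdim]
    exact Submodule.finrank_lt hEtop
  have hEk : finrank F E = k := by
    obtain ⟨t, ht⟩ := hkE
    have ht1 : t = 1 := by
      rcases Nat.lt_or_ge t 2 with h | h
      · have : t ≠ 0 := by rintro rfl; omega
        omega
      · have : 2 * k ≤ k * t := by nlinarith
        omega
    rw [ht, ht1, mul_one]
  set R := LinearMap.range N with hR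
  have hRE : finrank F R + finrank F E = 2 * k := by
    rw [← hVdim]
    exact LinearMap.finrank_range_add_finrank_ker N
  have hRk : finrank F R = k := by omega
  have huR : ∀ y ∈ R, U y ∈ R := by
    rintro y ⟨w, rfl⟩
    refine ⟨U w, ?_⟩
    have : (N * U) w = (U * N) w := by rw [hUN'.eq]
    exact this
  have hAR : ∀ y ∈ R, A y ∈ R := by
    rintro y ⟨w, rfl⟩
    exact ⟨A w, hANapp w⟩
  have hR0 : R ≠ ⊥ := by
    intro h
    rw [h, finrank_bot] at hRk
    omega
  set X := E ⊓ R with hX
  have hX0 : X ≠ ⊥ := by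
    obtain ⟨w, hwR, hw0, hw⟩ := exists_fixed_ne_zero p U hUp R huR hR0
    intro h
    have : w ∈ X := ⟨(hEmem w).mpr hw, hwR⟩
    rw [h, Submodule.mem_bot] at this
    exact hw0 this
  have hAX : ∀ w ∈ X, A w ∈ X := fun w hw => ⟨hAE w hw.1, hAR w hw.2⟩
  have hkX : k ∣ finrank F X :=
    orderOf_dvd_of_dvd_pow_sub_one _ _ _ hq (prime_dvd_card_pow_sub_one X A r hr hAX hA
      (fun w _ => hfreeV w))
  have hXk : k ≤ finrank F X := Nat.le_of_dvd (finrank_pos_of_ne_bot X hX0) hkX
  have hXE : X = E := Submodule.eq_of_le_of_finrank_eq inf_le_left (by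
    have h : finrank F X ≤ finrank F E := Submodule.finrank_mono inf_le_left
    omega)
  have hXR : X = R := Submodule.eq_of_le_of_finrank_eq inf_le_right (by
    have h : finrank F X ≤ finrank F R := Submodule.finrank_mono inf_le_right
    omega)
  have hER : R = E := by rw [← hXR, hXE]
  have hNE : ∀ x, N x ∈ E := fun x => by rw [← hER]; exact ⟨x, rfl⟩
  -- `E` is orthogonal to the range of `N`
  have hNorth : ∀ x e, e ∈ E → B (N x) e = 0 := by
    intro x e he
    have h1 := hUB x e
    rw [(hEmem e).mp he, hUN x, map_add, LinearMap.add_apply] at h1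
    linear_combination h1
  have hCsymm : ∀ x y, B (N x) y = B (N y) x := by
    intro x y
    have h1 := hUB x y
    rw [hUN x, hUN y] at h1
    simp only [map_add, LinearMap.add_apply] at h1
    rw [hNorth x (N y) (hNE y)] at h1
    rw [hskew (N y) x]
    linear_combination h1
  have hCinv : ∀ x y, B (N (A x)) (A y) = B (N x) y := by
    intro x y
    rw [hANapp, hAB]
  -- the inverse of `A`
  obtain ⟨j, hj⟩ : ∃ j, r = 2 * j + 1 := by
    rcases hr.eq_two_or_odd' with h | h
    · exact absurd h hr2
    · exact h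
  set A' : Module.End F V := A ^ (r - 1) with hA'
  have hAA' : A * A' = 1 := by
    rw [hA', ← pow_succ', show r - 1 + 1 = r by omega, hA]
  have hAA'app : ∀ x, A (A' x) = x := by
    intro x
    have : (A * A') x = x := by rw [hAA']; rfl
    exact this
  set G : Module.End F V := A - A' with hG
  have hGinj : Function.Injective G := by
    rw [← LinearMap.ker_eq_bot, eq_bot_iff]
    intro x hx
    rw [LinearMap.mem_ker, hG, LinearMap.sub_apply, sub_eq_zero] at hx
    rw [Submodule.mem_bot]
    apply hfreeV
    have h1 : (A ^ 2) x = x := by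
      rw [pow_two, Module.End.mul_apply, hx, hAA'app]
    have h2 : (A ^ (r + 1)) x = x := by
      rw [show r + 1 = 2 * (j + 1) by omega, pow_mul]
      exact pow_apply_of_fixed (A ^ 2) x h1 (j + 1)
    rw [pow_succ, hA, one_mul] at h2
    exact h2
  have hGsurj : Function.Surjective G := LinearMap.injective_iff_surjective.mp hGinj
  -- the alternating form `D`
  set D : V →ₗ[F] V →ₗ[F] F := (B ∘ₗ (N * G)).flip with hD
  have hDapp : ∀ y x, D y x = B (N (G x)) y := fun y x => rfl
  have hGapp : ∀ x, G x = A x - A' x := fun x => by rw [hG, LinearMap.sub_apply]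
  have hDalt : ∀ x, D x x = 0 := by
    intro x
    rw [hDapp, hGapp, map_sub, map_sub, LinearMap.sub_apply]
    have h1 : B (N (A' x)) x = B (N (A x)) x := by
      calc B (N (A' x)) x = B (N (A (A' x))) (A x) := (hCinv (A' x) x).symm
        _ = B (N x) (A x) := by rw [hAA'app]
        _ = B (N (A x)) x := hCsymm x (A x)
    rw [h1, sub_self]
  clear_value D
  have hrad : ∀ x, x ∈ LinearMap.ker (N * G) ↔ ∀ y, D y x = 0 := by
    intro x
    rw [LinearMap.mem_ker, Module.End.mul_apply]
    constructor
    · intro h y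
      rw [hDapp, h]
      simp
    · intro h
      exact hnd _ (fun y => by rw [← hDapp]; exact h y)
  have heven := Cfsg.Agent.Lib.Helper13.even_finrank_sub_radical D hDalt _ hrad
  have hker : finrank F (LinearMap.ker (N * G)) = k := by
    have h1 := LinearMap.finrank_range_add_finrank_ker (N * G)
    have h2 : LinearMap.range (N * G) = R := by
      rw [Module.End.mul_eq_comp]
      exact LinearMap.range_comp_of_range_eq_top N (LinearMap.range_eq_top.mpr hGsurj)
    rw [h2, hVdim] at h1
    omega
  rw [hker, hVdim] at heven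
  have : 2 * k - k = k := by omega
  rw [this] at heven
  exact (Nat.not_even_iff_odd.mpr hk) heven

end Cfsg.Agent.Lib.Helper15.PGraph
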