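import Mathlib
import Cfsg.Agent.Lib.Helper15.PGraph9
import Cfsg.Agent.Lib.Helper15.PGraph5
import Cfsg.Agent.Lib.Helper14.SpBlocks
import Cfsg.Agent.Lib.Helper2.SympCenter
import Cfsg.Agent.Lib.Helper15.SympOrder

/-!
# Prime graph tools X: symplectic groups — direct sums, orders in `PSp`, Cauchy elements
-/

set_option autoImplicit false
set_option linter.unusedSectionVars false

namespace Cfsg.Agent.Lib.Helper15.PGraph

open Module Matrix

section sum
variable {F : Type*} [CommRing F]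
variable {l₁ : Type*} [Fintype l₁] [DecidableEq l₁]
variable {l₂ : Type*} [Fintype l₂] [DecidableEq l₂]

theorem sumBoth_mem (M : symplecticGroup l₁ F) (N : symplecticGroup l₂ F) :
    reindex (Equiv.sumSumSumComm l₁ l₁ l₂ l₂) (Equiv.sumSumSumComm l₁ l₁ l₂ l₂)
      (fromBlocks M.1 0 0 N.1) ∈ symplecticGroup (l₁ ⊕ l₂) F := by
  rw [SymplecticGroup.mem_iff, ← Cfsg.Agent.Lib.Helper14.J_sum, transpose_reindex]
  simp only [reindex_apply, submatrix_mul_equiv, fromBlocks_transpose, fromBlocks_multiply]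
  congr 1
  have h1 := SymplecticGroup.mem_iff.mp M.2
  have h2 := SymplecticGroup.mem_iff.mp N.2
  simp [h1, h2]

/-- Direct sum: `Sp_{2l₁}(F) × Sp_{2l₂}(F) →* Sp_{2(l₁ ⊕ l₂)}(F)`. -/
def spSum : symplecticGroup l₁ F × symplecticGroup l₂ F →* symplecticGroup (l₁ ⊕ l₂) F where
  toFun X := ⟨reindex (Equiv.sumSumSumComm l₁ l₁ l₂ l₂) (Equiv.sumSumSumComm l₁ l₁ l₂ l₂)
      (fromBlocks X.1.1 0 0 X.2.1), sumBoth_mem X.1 X.2⟩
  map_one' := by
    apply Subtype.ext
    show reindex (Equiv.sumSumSumComm l₁ l₁ l₂ l₂) (Equiv.sumSumSumComm l₁ l₁ l₂ l₂)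
      (fromBlocks (1 : Matrix (l₁ ⊕ l₁) (l₁ ⊕ l₁) F) 0 0
        (1 : Matrix (l₂ ⊕ l₂) (l₂ ⊕ l₂) F)) = 1
    rw [fromBlocks_one]
    simp
  map_mul' M N := by
    apply Subtype.ext
    show reindex (Equiv.sumSumSumComm l₁ l₁ l₂ l₂) (Equiv.sumSumSumComm l₁ l₁ l₂ l₂)
      (fromBlocks (M.1.1 * N.1.1) 0 0 (M.2.1 * N.2.1)) =
      reindex (Equiv.sumSumSumComm l₁ l₁ l₂ l₂) (Equiv.sumSumSumComm l₁ l₁ l₂ l₂)
        (fromBlocks M.1.1 0 0 M.2.1) *
      reindex (Equiv.sumSumSumComm l₁ l₁ l₂ l₂) (Equiv.sumSumSumComm l₁ l₁ l₂ l₂)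
        (fromBlocks N.1.1 0 0 N.2.1)
    have : fromBlocks (M.1.1 * N.1.1) 0 0 (M.2.1 * N.2.1) =
        fromBlocks M.1.1 0 0 M.2.1 * fromBlocks N.1.1 0 0 N.2.1 := by
      rw [fromBlocks_multiply]
      simp
    rw [this]
    simp only [reindex_apply, submatrix_mul_equiv]

theorem spSum_injective : Function.Injective (spSum (F := F) (l₁ := l₁) (l₂ := l₂)) := by
  intro M N h
  have h1 := congrArg Subtype.val h
  have h2 : reindex (Equiv.sumSumSumComm l₁ l₁ l₂ l₂) (Equiv.sumSumSumComm l₁ l₁ l₂ l₂)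
      (fromBlocks M.1.1 0 0 M.2.1) =
    reindex (Equiv.sumSumSumComm l₁ l₁ l₂ l₂) (Equiv.sumSumSumComm l₁ l₁ l₂ l₂)
      (fromBlocks N.1.1 0 0 N.2.1) := h1
  have h3 := (reindex _ _).injective h2
  rw [fromBlocks_inj] at h3
  exact Prod.ext (Subtype.ext h3.1) (Subtype.ext h3.2.2.2)

/-- `Sp_{2a}(F) × Sp_{2b}(F) →* Sp_{2(a+b)}(F)` -/
def spFinSum (a b : ℕ) :
    symplecticGroup (Fin a) F × symplecticGroup (Fin b) F →* symplecticGroup (Fin (a + b)) F :=
  (Cfsg.Agent.Lib.Helper14.spReindex (F := F) (finSumFinEquiv (m := a) (n := b))).toMonoidHom.comp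
    spSum

theorem spFinSum_injective (a b : ℕ) : Function.Injective (spFinSum (F := F) a b) := by
  unfold spFinSum
  exact (Cfsg.Agent.Lib.Helper14.spReindex (F := F)
    (finSumFinEquiv (m := a) (n := b))).injective.comp spSum_injective

end sum

variable {F : Type*} [Field F] [Fintype F]

/-- central elements of `Sp_{2n}(q)` have `gcd(2, q-1)`-th power one -/
theorem symp_center_pow {n : ℕ} (hn : 1 ≤ n) (z : symplecticGroup (Fin n) F)
    (hz : z ∈ Subgroup.center (symplecticGroup (Fin n) F)) :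
    z ^ Nat.gcd 2 (Fintype.card F - 1) = 1 := by
  have h1 := Cfsg.Agent.Lib.Helper2.card_center_symplecticGroup (F := F) (m := n) hn
  have h2 : (⟨z, hz⟩ : Subgroup.center (symplecticGroup (Fin n) F)) ^
      Nat.card (Subgroup.center (symplecticGroup (Fin n) F)) = 1 := pow_card_eq_one'
  rw [h1] at h2
  exact congrArg Subtype.val h2

theorem coprime_gcd_two (p : ℕ) [Fact p.Prime] [CharP F p] (r : ℕ) (hr : r.Prime) (hr2 : r ≠ 2) :
    (r * p).Coprime (Nat.gcd 2 (Fintype.card F - 1)) := by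
  have hp := (Fact.out : p.Prime)
  apply Nat.Coprime.mul_left
  · apply Nat.Coprime.coprime_dvd_right (Nat.gcd_dvd_left 2 _)
    exact (Nat.coprime_primes hr Nat.prime_two).mpr hr2
  · apply Nat.Coprime.coprime_dvd_right (Nat.gcd_dvd_right 2 _)
    rw [Nat.Prime.coprime_iff_not_dvd hp]
    exact not_dvd_card_sub_one (F := F) p

/-- `r` divides `|Sp_{2η}(q)|` when `ord_r(q) ∣ 2η`, `η ≥ 1` -/
theorem dvd_card_symp_of_orderOf_dvd (r η : ℕ) (hη : 1 ≤ η)
    (h : orderOf ((Fintype.card F : ℕ) : ZMod r) ∣ 2 * η) :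
    r ∣ Nat.card (symplecticGroup (Fin η) F) := by
  have hq : 0 < Fintype.card F := Fintype.card_pos
  rw [Cfsg.Agent.Lib.Helper15.card_symplecticGroup]
  apply Dvd.dvd.mul_left
  have h1 : r ∣ Fintype.card F ^ (2 * (η - 1 + 1)) - 1 := by
    rw [show η - 1 + 1 = η by omega]
    obtain ⟨t, ht⟩ := h
    rw [ht, pow_mul]
    have h2 := dvd_pow_orderOf_sub_one (Fintype.card F) r hq
    have h3 : Fintype.card F ^ orderOf ((Fintype.card F : ℕ) : ZMod r) - 1 ∣
        (Fintype.card F ^ orderOf ((Fintype.card F : ℕ) : ZMod r)) ^ t - 1 ^ t :=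
      Nat.sub_dvd_pow_sub_pow _ _ _
    rw [one_pow] at h3
    exact h2.trans h3
  exact h1.trans (Finset.dvd_prod_of_mem (fun i => Fintype.card F ^ (2 * (i + 1)) - 1)
    (Finset.mem_range.mpr (by omega : η - 1 < η)))

/-- `p` divides `|Sp_{2m}(q)|` for `m ≥ 1` -/
theorem char_dvd_card_symp (p : ℕ) [Fact p.Prime] [CharP F p] (m : ℕ) (hm : 1 ≤ m) :
    p ∣ Nat.card (symplecticGroup (Fin m) F) := by
  rw [Cfsg.Agent.Lib.Helper15.card_symplecticGroup]
  apply Dvd.dvd.mul_right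
  obtain ⟨t, _, ht⟩ := FiniteField.card F p
  rw [ht]
  apply dvd_pow (dvd_pow_self p t.ne_zero)
  positivity

/-- **Construction.** `PSp_{2(η+m)}(q)`, `m ≥ 1`, has an element of order `r p` when
`ord_r(q) ∣ 2η`. -/
theorem exists_PSp_orderOf_mul (p : ℕ) [Fact p.Prime] [CharP F p] (r : ℕ) (hr : r.Prime)
    (hr2 : r ≠ 2) (hrp : r ≠ p) (η m : ℕ) (hη : 1 ≤ η) (hm : 1 ≤ m)
    (h : orderOf ((Fintype.card F : ℕ) : ZMod r) ∣ 2 * η) :
    ∃ x : symplecticGroup (Fin (η + m)) F ⧸ Subgroup.center (symplecticGroup (Fin (η + m)) F),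
      orderOf x = r * p := by
  have hp := (Fact.out : p.Prime)
  have : Fact r.Prime := ⟨hr⟩
  obtain ⟨a, ha⟩ := exists_prime_orderOf_dvd_card' r (dvd_card_symp_of_orderOf_dvd (F := F) r η hη h)
  obtain ⟨u, hu⟩ := exists_prime_orderOf_dvd_card' p (char_dvd_card_symp (F := F) p m hm)
  set g := spFinSum (F := F) η m (a, u) with hg
  have hgo : orderOf g = r * p := by
    rw [hg, orderOf_injective (spFinSum (F := F) η m) (spFinSum_injective η m), Prod.orderOf, ha, hu]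
    exact ((Nat.coprime_primes hr hp).mpr hrp).lcm_eq_mul
  exact ⟨QuotientGroup.mk g, orderOf_mk_of_coprime _ (Nat.gcd 2 (Fintype.card F - 1)) (r * p)
    (fun z hz => symp_center_pow (by omega) z hz) (coprime_gcd_two p r hr hr2) g hgo⟩

end Cfsg.Agent.Lib.Helper15.PGraph
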