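import Cfsg.Agent.Lib.Helper15.RegUnip

set_option autoImplicit false

namespace Cfsg.Agent.Lib.Helper15

open Module

variable {K : Type*} [Field K] {ι : Type*} [Fintype ι] [DecidableEq ι]

theorem finrank_ker_mulVecLin_le_one' (N : Matrix ι ι K) (hreg : N.rank = Fintype.card ι - 1) :
    finrank K (LinearMap.ker N.mulVecLin) ≤ 1 := by
  have h1 := LinearMap.finrank_range_add_finrank_ker N.mulVecLin
  have h2 : finrank K (LinearMap.range N.mulVecLin) = Fintype.card ι - 1 := hreg
  rw [h2, Module.finrank_fintype_fun_eq_card] at h1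
  omega

theorem mulVecLin_pow'' (N : Matrix ι ι K) (k : ℕ) :
    (N ^ k).mulVecLin = (N.mulVecLin : Module.End K (ι → K)) ^ k := by
  rw [← Matrix.toLin'_apply', ← Matrix.toLin'_apply', Matrix.toLin'_pow]

/-- The invariant subspaces of a regular unipotent matrix form a chain (general index type). -/
theorem regUnip_invariant' (u : Matrix ι ι K) (n : ℕ) (hnil : (u - 1) ^ n = 0)
    (hreg : (u - 1).rank = Fintype.card ι - 1) (W : Submodule K (ι → K)) (hW : ∀ v ∈ W, u.mulVec v ∈ W) :
    W = LinearMap.ker (((u - 1).mulVecLin : Module.End K (ι → K)) ^ Module.finrank K W) := by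
  apply invariant_eq_ker_pow _ n
  · rw [← mulVecLin_pow'', hnil]
    ext x
    simp
  · exact finrank_ker_mulVecLin_le_one' _ hreg
  · intro w hw
    rw [Matrix.mulVecLin_apply, Matrix.sub_mulVec, Matrix.one_mulVec]
    exact W.sub_mem (hW w hw) hw

theorem ker_pow_mono {V : Type*} [AddCommGroup V] [Module K V] (f : Module.End K V) {a b : ℕ} (hab : a ≤ b) :
    LinearMap.ker (f ^ a) ≤ LinearMap.ker (f ^ b) := by
  obtain ⟨c, rfl⟩ := Nat.exists_eq_add_of_le hab
  rw [add_comm, pow_add, Module.End.mul_eq_comp]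
  exact LinearMap.ker_le_ker_comp _ _

end Cfsg.Agent.Lib.Helper15
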