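import Mathlib

set_option autoImplicit false

namespace Cfsg.Agent.Lib.Helper15

open Module

variable {K V : Type*} [Field K] [AddCommGroup V] [Module K V] [FiniteDimensional K V]

theorem finrank_comap_le (f : V →ₗ[K] V) (p : Submodule K V) :
    finrank K (p.comap f) ≤ finrank K p + finrank K (LinearMap.ker f) := by
  let f' : p.comap f →ₗ[K] p := f.restrict (fun x hx => hx)
  have hrn := LinearMap.finrank_range_add_finrank_ker f'
  have hr : finrank K (LinearMap.range f') ≤ finrank K p := Submodule.finrank_le _
  have hk : finrank K (LinearMap.ker f') ≤ finrank K (LinearMap.ker f) := by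
    let ι : LinearMap.ker f' →ₗ[K] LinearMap.ker f :=
      { toFun := fun x => ⟨x.1.1, by
          have h1 : f' x.1 = 0 := x.2
          have h2 : (f' x.1 : V) = f x.1.1 := rfl
          rw [LinearMap.mem_ker, ← h2, h1]; rfl⟩
        map_add' := fun x y => rfl
        map_smul' := fun c x => rfl }
    apply LinearMap.finrank_le_finrank_of_injective (f := ι)
    intro x y hxy
    apply Subtype.ext
    apply Subtype.ext
    exact congrArg (fun z : LinearMap.ker f => (z : V)) hxy
  omega

theorem finrank_ker_pow_le (f : Module.End K V) (k : ℕ) :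
    finrank K (LinearMap.ker (f ^ k)) ≤ k * finrank K (LinearMap.ker f) := by
  induction k with
  | zero =>
    rw [pow_zero, Module.End.one_eq_id, LinearMap.ker_id, finrank_bot]
    exact Nat.zero_le _
  | succ k ih =>
    rw [pow_succ, Module.End.mul_eq_comp, LinearMap.ker_comp]
    have := finrank_comap_le f (LinearMap.ker (f ^ k))
    rw [Nat.succ_mul]
    omega

/-- An invariant subspace of a nilpotent endomorphism with one-dimensional kernel is a kernel of a power. -/
theorem invariant_eq_ker_pow (f : Module.End K V) (n : ℕ) (hnil : f ^ n = 0)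
    (hker : finrank K (LinearMap.ker f) ≤ 1) (W : Submodule K V) (hW : ∀ w ∈ W, f w ∈ W) :
    W = LinearMap.ker (f ^ finrank K W) := by
  have hle : W ≤ LinearMap.ker (f ^ finrank K W) := by
    intro w hw
    have h1 : (f.restrict hW) ^ n = 0 := by
      rw [Module.End.pow_restrict n hW]
      ext x
      simp [hnil]
    have h2 : LinearMap.ker ((f.restrict hW) ^ n) ≤ LinearMap.ker ((f.restrict hW) ^ finrank K W) :=
      Module.End.ker_pow_le_ker_pow_finrank _ n
    have h3 : (⟨w, hw⟩ : W) ∈ LinearMap.ker ((f.restrict hW) ^ n) := by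
      rw [h1]; simp
    have h4 := h2 h3
    rw [LinearMap.mem_ker, Module.End.pow_restrict (finrank K W) hW] at h4
    rw [LinearMap.mem_ker]
    have := congrArg Subtype.val h4
    simpa using this
  apply Submodule.eq_of_le_of_finrank_le hle
  have := finrank_ker_pow_le f (finrank K W)
  nlinarith

/-- Matrix version: kernel of `mulVecLin N` has dimension at most one if `rank N = n - 1`. -/
theorem finrank_ker_mulVecLin_le_one {n : ℕ} (N : Matrix (Fin n) (Fin n) K) (hreg : N.rank = n - 1) :
    finrank K (LinearMap.ker N.mulVecLin) ≤ 1 := by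
  have h1 := LinearMap.finrank_range_add_finrank_ker N.mulVecLin
  have h2 : finrank K (LinearMap.range N.mulVecLin) = n - 1 := hreg
  rw [h2, Module.finrank_fin_fun] at h1
  omega

theorem mulVecLin_pow' {n : ℕ} (N : Matrix (Fin n) (Fin n) K) (k : ℕ) :
    (N ^ k).mulVecLin = (N.mulVecLin : Module.End K (Fin n → K)) ^ k := by
  rw [← Matrix.toLin'_apply', ← Matrix.toLin'_apply', Matrix.toLin'_pow]

/-- The invariant subspaces of a regular unipotent matrix form a chain. -/
theorem regUnip_invariant {n : ℕ} (u : Matrix (Fin n) (Fin n) K) (hnil : (u - 1) ^ n = 0)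
    (hreg : (u - 1).rank = n - 1) (W : Submodule K (Fin n → K)) (hW : ∀ v ∈ W, u.mulVec v ∈ W) :
    W = LinearMap.ker (Matrix.mulVecLin ((u - 1) ^ Module.finrank K W)) := by
  rw [mulVecLin_pow']
  apply invariant_eq_ker_pow _ n
  · rw [← mulVecLin_pow', hnil]
    ext x
    simp
  · exact finrank_ker_mulVecLin_le_one _ hreg
  · intro w hw
    rw [Matrix.mulVecLin_apply, Matrix.sub_mulVec, Matrix.one_mulVec]
    exact W.sub_mem (hW w hw) hw

end Cfsg.Agent.Lib.Helper15
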