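import Mathlib
import Cfsg.Agent.Lib.Helper15.RegUnip

set_option autoImplicit false

namespace Cfsg.Agent.Lib.Helper15

open Module

variable {K V : Type*} [Field K] [AddCommGroup V] [Module K V] [FiniteDimensional K V]

theorem finrank_ker_pow_succ_le (f : Module.End K V) (k : ℕ) :
    finrank K (LinearMap.ker (f ^ (k + 1))) ≤ finrank K (LinearMap.ker (f ^ k)) + finrank K (LinearMap.ker f) := by
  rw [pow_succ, Module.End.mul_eq_comp, LinearMap.ker_comp]
  exact finrank_comap_le f (LinearMap.ker (f ^ k))

/-- for a nilpotent endomorphism with kernel of dimension ≤ 1 on an `n`-dimensional space,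
`ker f^(n-1)` has dimension `n-1`. -/
theorem finrank_ker_pow_pred (f : Module.End K V) (n : ℕ) (hn : 1 ≤ n) (hV : finrank K V = n)
    (hnil : f ^ n = 0) (hker : finrank K (LinearMap.ker f) ≤ 1) :
    finrank K (LinearMap.ker (f ^ (n - 1))) = n - 1 := by
  have h1 := finrank_ker_pow_le f (n - 1)
  have h2 := finrank_ker_pow_succ_le f (n - 1)
  have h3 : n - 1 + 1 = n := by omega
  rw [h3, hnil, LinearMap.ker_zero, finrank_top, hV] at h2
  nlinarith

theorem exists_pow_pred_ne_zero (f : Module.End K V) (n : ℕ) (hn : 1 ≤ n) (hV : finrank K V = n)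
    (hnil : f ^ n = 0) (hker : finrank K (LinearMap.ker f) ≤ 1) :
    ∃ v : V, (f ^ (n - 1)) v ≠ 0 := by
  by_contra hcon
  push Not at hcon
  have h0 : f ^ (n - 1) = 0 := LinearMap.ext hcon
  have h1 := finrank_ker_pow_pred f n hn hV hnil hker
  rw [h0, LinearMap.ker_zero, finrank_top, hV] at h1
  omega

/-- every vector is of the form `z v` with `z` in the double centraliser of `f`. -/
theorem exists_bicommutant_apply_eq (f : Module.End K V) (n : ℕ) (hn : 1 ≤ n) (hV : finrank K V = n)
    (hnil : f ^ n = 0) (hker : finrank K (LinearMap.ker f) ≤ 1) (v : V) (hv : (f ^ (n - 1)) v ≠ 0) (w : V) :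
    ∃ z : Module.End K V, (∀ c : Module.End K V, Commute c f → Commute c z) ∧ z v = w := by
  let W : Submodule K V :=
    { carrier := {w | ∃ z : Module.End K V, (∀ c : Module.End K V, Commute c f → Commute c z) ∧ z v = w}
      add_mem' := by
        rintro a b ⟨z1, h1, rfl⟩ ⟨z2, h2, rfl⟩
        exact ⟨z1 + z2, fun c hc => (h1 c hc).add_right (h2 c hc), rfl⟩
      zero_mem' := ⟨0, fun c _ => Commute.zero_right c, rfl⟩
      smul_mem' := by
        rintro a b ⟨z1, h1, rfl⟩
        exact ⟨a • z1, fun c hc => (h1 c hc).smul_right a, rfl⟩ }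
  have hWinv : ∀ w ∈ W, f w ∈ W := by
    rintro w ⟨z, hz, rfl⟩
    exact ⟨f * z, fun c hc => hc.mul_right (hz c hc), rfl⟩
  have hvW : v ∈ W := ⟨1, fun c _ => Commute.one_right c, rfl⟩
  have hW := invariant_eq_ker_pow f n hnil hker W hWinv
  have hdim : n ≤ finrank K W := by
    by_contra hlt
    push Not at hlt
    apply hv
    rw [hW, LinearMap.mem_ker] at hvW
    have : n - 1 = (n - 1 - finrank K W) + finrank K W := by omega
    rw [this, pow_add, Module.End.mul_apply, hvW, map_zero]
  have htop : W = ⊤ := by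
    apply Submodule.eq_top_of_finrank_eq
    have := Submodule.finrank_le W
    omega
  have : w ∈ W := by rw [htop]; trivial
  exact this

theorem eq_zero_of_commute_of_apply_eq_zero (f : Module.End K V) (n : ℕ) (hn : 1 ≤ n) (hV : finrank K V = n)
    (hnil : f ^ n = 0) (hker : finrank K (LinearMap.ker f) ≤ 1) (v : V) (hv : (f ^ (n - 1)) v ≠ 0)
    (c : Module.End K V) (hc : Commute c f) (hcv : c v = 0) : c = 0 := by
  ext w
  obtain ⟨z, hz, rfl⟩ := exists_bicommutant_apply_eq f n hn hV hnil hker v hv w
  have := hz c hc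
  have h2 : c (z v) = z (c v) := by
    have := congrArg (fun g : Module.End K V => g v) this.eq
    simpa using this
  rw [h2, hcv, map_zero, LinearMap.zero_apply]

theorem exists_commute_apply_eq (f : Module.End K V) (n : ℕ) (hn : 1 ≤ n) (hV : finrank K V = n)
    (hnil : f ^ n = 0) (hker : finrank K (LinearMap.ker f) ≤ 1) (v : V) (hv : (f ^ (n - 1)) v ≠ 0) (w : V) :
    ∃ c : Module.End K V, Commute c f ∧ c v = w := by
  obtain ⟨z, hz, rfl⟩ := exists_bicommutant_apply_eq f n hn hV hnil hker v hv w
  exact ⟨z, (hz f (Commute.refl f)).symm, rfl⟩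

/-- an element commuting with `f` which does not kill `f^(n-1) v` is injective. -/
theorem injective_of_commute (f : Module.End K V) (n : ℕ) (hn : 1 ≤ n)
    (hnil : f ^ n = 0) (hker : finrank K (LinearMap.ker f) ≤ 1) (v : V)
    (c : Module.End K V) (hc : Commute c f) (hcv : (f ^ (n - 1)) (c v) ≠ 0) : Function.Injective c := by
  rw [← LinearMap.ker_eq_bot, Submodule.eq_bot_iff]
  intro x hx
  by_contra hx0
  -- largest `k` with `f^k x ≠ 0`
  have hex : ∃ k, (f ^ k) x = 0 := ⟨n, by rw [hnil]; rfl⟩
  classical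
  set k := Nat.find hex with hk
  have hk0 : (f ^ k) x = 0 := Nat.find_spec hex
  have hkpos : k ≠ 0 := by
    intro h0
    rw [h0, pow_zero] at hk0
    exact hx0 hk0
  obtain ⟨j, hj⟩ : ∃ j, k = j + 1 := ⟨k - 1, by omega⟩
  have hjne : (f ^ j) x ≠ 0 := Nat.find_min hex (by omega : j < k)
  set y := (f ^ j) x with hy
  have hfy : f y = 0 := by
    rw [hy, ← Module.End.mul_apply, ← pow_succ', ← hj]
    exact hk0
  have hcy : c y = 0 := by
    have h1 : Commute c (f ^ j) := hc.pow_right j
    have h2 : c ((f ^ j) x) = (f ^ j) (c x) := by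
      have := congrArg (fun g : Module.End K V => g x) h1.eq
      simpa using this
    rw [hy, h2, LinearMap.mem_ker.mp hx, map_zero]
  -- `f^(n-1) v` is in `ker f`, which is spanned by `y`
  have hfv : f ((f ^ (n - 1)) v) = 0 := by
    rw [← Module.End.mul_apply, ← pow_succ']
    have : n - 1 + 1 = n := by omega
    rw [this, hnil]; rfl
  have hker1 : finrank K (LinearMap.ker f) = 1 := by
    have : 0 < finrank K (LinearMap.ker f) := by
      rw [Module.finrank_pos_iff_exists_ne_zero]
      exact ⟨⟨y, hfy⟩, fun h => hjne (congrArg Subtype.val h)⟩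
    omega
  obtain ⟨a, ha⟩ := exists_smul_eq_of_finrank_eq_one hker1 (x := (⟨y, hfy⟩ : LinearMap.ker f))
    (fun h => hjne (congrArg Subtype.val h)) ⟨(f ^ (n - 1)) v, hfv⟩
  have ha' : a • y = (f ^ (n - 1)) v := congrArg Subtype.val ha
  apply hcv
  have h1 : Commute c (f ^ (n - 1)) := hc.pow_right (n - 1)
  have h2 : (f ^ (n - 1)) (c v) = c ((f ^ (n - 1)) v) := by
    have := congrArg (fun g : Module.End K V => g v) h1.eq
    simpa using this.symm
  rw [h2, ← ha', map_smul, hcy, smul_zero]


theorem card_not_mem_ker [Finite K] (g : Module.End K V) (d : ℕ) (n : ℕ) (hV : finrank K V = n)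
    (hd : finrank K (LinearMap.ker g) = d) :
    Nat.card {w : V // g w ≠ 0} = Nat.card K ^ n - Nat.card K ^ d := by
  classical
  have : Finite V := Module.finite_of_finite K
  have := Fintype.ofFinite V
  have h1 : Nat.card V = Nat.card K ^ n := by rw [← hV]; exact Module.natCard_eq_pow_finrank
  have h2 : Nat.card (LinearMap.ker g) = Nat.card K ^ d := by rw [← hd]; exact Module.natCard_eq_pow_finrank
  have h3 : Nat.card {w : V // g w ≠ 0} = Nat.card V - Nat.card {w : V // g w = 0} := by
    rw [Nat.card_eq_fintype_card, Nat.card_eq_fintype_card, Nat.card_eq_fintype_card]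
    exact Fintype.card_subtype_compl _
  rw [h3, h1, ← h2]
  rfl

theorem card_units_commute [Finite K] (f : Module.End K V) (n : ℕ) (hn : 1 ≤ n) (hV : finrank K V = n)
    (hnil : f ^ n = 0) (hker : finrank K (LinearMap.ker f) ≤ 1) :
    Nat.card {g : (Module.End K V)ˣ // Commute (g : Module.End K V) f} = (Nat.card K - 1) * Nat.card K ^ (n - 1) := by
  obtain ⟨v, hv⟩ := exists_pow_pred_ne_zero f n hn hV hnil hker
  have hcount := card_not_mem_ker (f ^ (n - 1)) (n - 1) n hV (finrank_ker_pow_pred f n hn hV hnil hker)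
  have hq : (Nat.card K - 1) * Nat.card K ^ (n - 1) = Nat.card K ^ n - Nat.card K ^ (n - 1) := by
    have : n = (n - 1) + 1 := by omega
    conv_rhs => rw [this, pow_succ]
    rw [Nat.sub_mul, one_mul, mul_comm]
    congr 2
  rw [hq, ← hcount]
  let Ψ : {g : (Module.End K V)ˣ // Commute (g : Module.End K V) f} → {w : V // (f ^ (n - 1)) w ≠ 0} :=
    fun g => ⟨(g.1 : Module.End K V) v, by
      have h1 : Commute (g.1 : Module.End K V) (f ^ (n - 1)) := g.2.pow_right (n - 1)
      have h2 : (f ^ (n - 1)) ((g.1 : Module.End K V) v) = (g.1 : Module.End K V) ((f ^ (n - 1)) v) := by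
        have := congrArg (fun g : Module.End K V => g v) h1.eq
        simpa using this.symm
      rw [h2]
      intro h0
      apply hv
      have := congrArg (fun w => ((g.1⁻¹ : (Module.End K V)ˣ) : Module.End K V) w) h0
      simpa [← Module.End.mul_apply] using this⟩
  apply Nat.card_congr
  apply Equiv.ofBijective Ψ
  constructor
  · intro g g' h
    have h1 : (g.1 : Module.End K V) v = (g'.1 : Module.End K V) v := congrArg Subtype.val h
    have h2 : ((g.1 : Module.End K V) - (g'.1 : Module.End K V)) = 0 := by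
      apply eq_zero_of_commute_of_apply_eq_zero f n hn hV hnil hker v hv
      · exact g.2.sub_left g'.2
      · rw [LinearMap.sub_apply, h1, sub_self]
    apply Subtype.ext
    apply Units.ext
    exact sub_eq_zero.mp h2
  · rintro ⟨w, hw⟩
    obtain ⟨c, hc, rfl⟩ := exists_commute_apply_eq f n hn hV hnil hker v hv w
    have hinj := injective_of_commute f n hn hnil hker v c hc hw
    let e : V ≃ₗ[K] V := LinearEquiv.ofInjectiveEndo c hinj
    refine ⟨⟨(LinearMap.GeneralLinearGroup.generalLinearEquiv K V).symm e, ?_⟩, ?_⟩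
    · show Commute c f
      exact hc
    · rfl

end Cfsg.Agent.Lib.Helper15
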