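import Mathlib
import Cfsg.Agent.Lib.Helper15.RegUnip3

set_option autoImplicit false

namespace Cfsg.Agent.Lib.Helper15

open Module Matrix

section abstract

variable {K V : Type*} [Field K] [AddCommGroup V] [Module K V]

theorem linearIndependent_pow_apply (f : Module.End K V) (n : ℕ) (hnil : f ^ n = 0) (v : V)
    (hv : (f ^ (n - 1)) v ≠ 0) : LinearIndependent K (fun i : Fin n => (f ^ (i : ℕ)) v) := by
  classical
  rw [Fintype.linearIndependent_iff]
  intro g hg
  have key : ∀ k : ℕ, ∀ i : Fin n, (i : ℕ) ≤ k → g i = 0 := by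
    intro k
    induction k with
    | zero =>
      intro i hi
      have hi0 : (i : ℕ) = 0 := by omega
      have h1 := congrArg (f ^ (n - 1)) hg
      rw [map_sum, map_zero, Finset.sum_eq_single i] at h1
      · rw [map_smul, ← Module.End.mul_apply, ← pow_add, hi0, add_zero] at h1
        exact (smul_eq_zero.mp h1).resolve_right hv
      · intro j _ hji
        have hj0 : (j : ℕ) ≠ 0 := fun h => hji (Fin.ext (by omega))
        rw [map_smul, ← Module.End.mul_apply, ← pow_add]
        have : n - 1 + (j : ℕ) = n + ((j : ℕ) - 1) := by have := j.2; omega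
        rw [this, pow_add, hnil, zero_mul]
        simp
      · intro h; exact absurd (Finset.mem_univ i) h
    | succ k ih =>
      intro i hi
      by_cases hik : (i : ℕ) ≤ k
      · exact ih i hik
      · have hi1 : (i : ℕ) = k + 1 := by omega
        have h1 := congrArg (f ^ (n - 1 - (k + 1))) hg
        rw [map_sum, map_zero, Finset.sum_eq_single i] at h1
        · rw [map_smul, ← Module.End.mul_apply, ← pow_add, hi1] at h1
          have : n - 1 - (k + 1) + (k + 1) = n - 1 := by have := i.2; omega
          rw [this] at h1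
          exact (smul_eq_zero.mp h1).resolve_right hv
        · intro j _ hji
          by_cases hjk : (j : ℕ) ≤ k
          · rw [ih j hjk, zero_smul, map_zero]
          · have hj1 : k + 1 < (j : ℕ) := by
              have : (j : ℕ) ≠ k + 1 := fun h => hji (Fin.ext (by omega))
              omega
            rw [map_smul, ← Module.End.mul_apply, ← pow_add]
            have : n - 1 - (k + 1) + (j : ℕ) = n + ((j : ℕ) - (k + 1) - 1) := by have := j.2; have := i.2; omega
            rw [this, pow_add, hnil, zero_mul]
            simp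
        · intro h; exact absurd (Finset.mem_univ i) h
  intro i
  exact key i i le_rfl

end abstract


variable {F : Type*} [Field F]

/-- the standard nilpotent shift matrix `e_j ↦ e_{j+1}` -/
def shiftMat (F : Type*) [Field F] (n : ℕ) : Matrix (Fin n) (Fin n) F :=
  Matrix.of fun i j => if (i : ℕ) = (j : ℕ) + 1 then 1 else 0

theorem shiftMat_apply (n : ℕ) (i j : Fin n) : shiftMat F n i j = if (i : ℕ) = (j : ℕ) + 1 then 1 else 0 := rfl

theorem shiftMat_pow_apply (n k : ℕ) (i j : Fin n) :
    (shiftMat F n ^ k) i j = if (i : ℕ) = (j : ℕ) + k then 1 else 0 := by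
  induction k generalizing i j with
  | zero =>
    rw [pow_zero, Matrix.one_apply, add_zero]
    simp only [Fin.ext_iff]
  | succ k ih =>
    rw [pow_succ, Matrix.mul_apply]
    by_cases h : (i : ℕ) = (j : ℕ) + (k + 1)
    · rw [if_pos h]
      have hl : (j : ℕ) + 1 < n := by have := i.2; omega
      rw [Finset.sum_eq_single (⟨(j : ℕ) + 1, hl⟩ : Fin n)]
      · rw [ih, shiftMat_apply]
        simp only
        rw [if_pos (by omega)]
        simp
      · intro l _ hl'
        rw [shiftMat_apply, if_neg, mul_zero]
        intro hcon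
        exact hl' (Fin.ext hcon)
      · intro hcon; exact absurd (Finset.mem_univ _) hcon
    · rw [if_neg h]
      apply Finset.sum_eq_zero
      intro l _
      rw [ih, shiftMat_apply]
      by_cases h1 : (l : ℕ) = (j : ℕ) + 1
      · rw [if_neg (by omega), zero_mul]
      · rw [if_neg h1, mul_zero]

theorem shiftMat_pow_self (n : ℕ) : shiftMat F n ^ n = 0 := by
  ext i j
  rw [shiftMat_pow_apply, if_neg (by have := i.2; omega)]
  rfl

theorem shiftMat_mulVec (n : ℕ) (x : Fin n → F) (j : Fin n) (hj : (j : ℕ) + 1 < n) :
    (shiftMat F n *ᵥ x) ⟨(j : ℕ) + 1, hj⟩ = x j := by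
  rw [Matrix.mulVec, dotProduct, Finset.sum_eq_single j]
  · rw [shiftMat_apply, if_pos rfl, one_mul]
  · intro l _ hl
    rw [shiftMat_apply, if_neg, zero_mul]
    intro hcon
    apply hl
    apply Fin.ext
    simp only at hcon
    omega
  · intro hcon; exact absurd (Finset.mem_univ _) hcon

theorem finrank_ker_shiftMat_le (n : ℕ) : finrank F (LinearMap.ker (shiftMat F n).mulVecLin) ≤ 1 := by
  classical
  rcases Nat.eq_zero_or_pos n with rfl | hn
  · have : finrank F (LinearMap.ker (shiftMat F 0).mulVecLin) ≤ finrank F (Fin 0 → F) := Submodule.finrank_le _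
    rw [Module.finrank_fin_fun] at this
    omega
  · let last : Fin n := ⟨n - 1, by omega⟩
    have hle : LinearMap.ker (shiftMat F n).mulVecLin ≤ Submodule.span F {(Pi.single last 1 : Fin n → F)} := by
      intro x hx
      rw [LinearMap.mem_ker, Matrix.mulVecLin_apply] at hx
      rw [Submodule.mem_span_singleton]
      refine ⟨x last, ?_⟩
      funext j
      by_cases hj : j = last
      · subst hj
        simp
      · have hj' : (j : ℕ) + 1 < n := by
          have : (j : ℕ) ≠ n - 1 := fun h => hj (Fin.ext h)
          have := j.2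
          omega
        have := congrFun hx ⟨(j : ℕ) + 1, hj'⟩
        rw [shiftMat_mulVec] at this
        rw [this]
        simp [hj]
    calc finrank F (LinearMap.ker (shiftMat F n).mulVecLin)
        ≤ finrank F (Submodule.span F {(Pi.single last 1 : Fin n → F)}) := Submodule.finrank_mono hle
      _ ≤ 1 := by
          have := finrank_span_le_card (R := F) ({(Pi.single last 1 : Fin n → F)} : Set (Fin n → F))
          simpa using this

theorem rank_shiftMat (n : ℕ) (hn : 1 ≤ n) : (shiftMat F n).rank = n - 1 := by
  have h1 := LinearMap.finrank_range_add_finrank_ker (shiftMat F n).mulVecLin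
  rw [Module.finrank_fin_fun] at h1
  have h2 := finrank_ker_shiftMat_le (F := F) n
  have h3 : (shiftMat F n).rank = finrank F (LinearMap.range (shiftMat F n).mulVecLin) := rfl
  -- the kernel is nonzero since the matrix is nilpotent
  have h4 : 0 < finrank F (LinearMap.ker (shiftMat F n).mulVecLin) := by
    by_contra hcon
    have h0 : finrank F (LinearMap.ker (shiftMat F n).mulVecLin) = 0 := by omega
    have hk := finrank_ker_pow_le (shiftMat F n).mulVecLin n
    rw [h0, mul_zero, ← mulVecLin_pow', shiftMat_pow_self] at hk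
    have : LinearMap.ker (0 : Matrix (Fin n) (Fin n) F).mulVecLin = ⊤ := by
      rw [Matrix.mulVecLin_zero, LinearMap.ker_zero]
    rw [this, finrank_top, Module.finrank_fin_fun] at hk
    omega
  omega


/-- conjugating a regular nilpotent matrix to the standard shift -/
theorem exists_conj_shift {n : ℕ} (hn : 1 ≤ n) (N : Matrix (Fin n) (Fin n) F) (hnil : N ^ n = 0)
    (hrank : N.rank = n - 1) : ∃ P : Matrix (Fin n) (Fin n) F, IsUnit P.det ∧ N * P = P * shiftMat F n := by
  classical
  set f : Module.End F (Fin n → F) := N.mulVecLin with hf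
  have hV : finrank F (Fin n → F) = n := Module.finrank_fin_fun F
  have hnil' : f ^ n = 0 := by
    rw [hf, ← mulVecLin_pow', hnil]
    ext x
    simp
  have hker : finrank F (LinearMap.ker f) ≤ 1 := finrank_ker_mulVecLin_le_one _ hrank
  obtain ⟨v, hv⟩ := exists_pow_pred_ne_zero f n hn hV hnil' hker
  have hli := linearIndependent_pow_apply f n hnil' v hv
  have : Nonempty (Fin n) := ⟨⟨0, hn⟩⟩
  let b : Module.Basis (Fin n) F (Fin n → F) :=
    basisOfLinearIndependentOfCardEqFinrank hli (by rw [Fintype.card_fin, hV])
  have hb : ∀ j : Fin n, b j = (f ^ (j : ℕ)) v := by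
    intro j
    simp only [b, coe_basisOfLinearIndependentOfCardEqFinrank]
  refine ⟨(Pi.basisFun F (Fin n)).toMatrix b, ?_, ?_⟩
  · have := Module.Basis.invertibleToMatrix (Pi.basisFun F (Fin n)) b
    exact Matrix.isUnit_det_of_invertible _
  · ext i j
    have h1 : (N * (Pi.basisFun F (Fin n)).toMatrix b) i j = (N *ᵥ b j) i := by
      simp only [Matrix.mul_apply, Matrix.mulVec, dotProduct, Module.Basis.toMatrix_apply, Pi.basisFun_repr]
    have h2 : N *ᵥ b j = (f ^ ((j : ℕ) + 1)) v := by
      rw [hb, pow_succ', Module.End.mul_apply]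
      rfl
    rw [h1, h2, Matrix.mul_apply]
    by_cases hj : (j : ℕ) + 1 < n
    · rw [Finset.sum_eq_single (⟨(j : ℕ) + 1, hj⟩ : Fin n)]
      · rw [shiftMat_apply, if_pos rfl, mul_one, Module.Basis.toMatrix_apply, Pi.basisFun_repr, hb]
      · intro l _ hl
        rw [shiftMat_apply, if_neg, mul_zero]
        intro hcon
        exact hl (Fin.ext hcon)
      · intro hcon; exact absurd (Finset.mem_univ _) hcon
    · have hjn : (j : ℕ) + 1 = n := by have := j.2; omega
      rw [hjn, hnil']
      symm
      apply Finset.sum_eq_zero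
      intro l _
      rw [shiftMat_apply, if_neg, mul_zero]
      have := l.2
      omega

section abstract2

variable {K V : Type*} [Field K] [AddCommGroup V] [Module K V] [FiniteDimensional K V]

/-- an endomorphism commuting with a regular nilpotent one is a scalar plus a nilpotent -/
theorem exists_sub_smul_pow_eq_zero (f c : Module.End K V) (n : ℕ) (hnil : f ^ n = 0)
    (hker : finrank K (LinearMap.ker f) ≤ 1) (hc : Commute c f) : ∃ a : K, (c - a • 1) ^ n = 0 := by
  by_cases hbot : LinearMap.ker f = ⊥
  · -- then `V` is trivial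
    have h1 := finrank_ker_pow_le f n
    rw [hbot, finrank_bot, mul_zero, hnil, LinearMap.ker_zero, finrank_top] at h1
    have h2 : finrank K V = 0 := by omega
    have : Subsingleton V := Module.finrank_zero_iff.mp h2
    refine ⟨0, ?_⟩
    ext x
    exact Subsingleton.elim _ _
  · obtain ⟨y, hy, hy0⟩ := (Submodule.ne_bot_iff _).mp hbot
    have hfy : f y = 0 := hy
    have hker1 : finrank K (LinearMap.ker f) = 1 := by
      have : 0 < finrank K (LinearMap.ker f) := by
        rw [Module.finrank_pos_iff_exists_ne_zero]
        exact ⟨⟨y, hy⟩, fun h => hy0 (congrArg Subtype.val h)⟩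
      omega
    have hspan : ∀ z, f z = 0 → ∃ t : K, z = t • y := by
      intro z hz
      obtain ⟨t, ht⟩ := exists_smul_eq_of_finrank_eq_one hker1 (x := (⟨y, hy⟩ : LinearMap.ker f))
        (fun h => hy0 (congrArg Subtype.val h)) ⟨z, hz⟩
      exact ⟨t, (congrArg Subtype.val ht).symm⟩
    have hcy : f (c y) = 0 := by
      have := congrArg (fun g : Module.End K V => g y) hc.eq
      simp only [Module.End.mul_apply] at this
      rw [← this, hfy, map_zero]
    obtain ⟨a, ha⟩ := hspan (c y) hcy
    refine ⟨a, ?_⟩
    set M : Module.End K V := c - a • 1 with hM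
    have hMy : M y = 0 := by
      simp [hM, ha]
    have hMf : Commute M f := by
      rw [hM]
      exact (hc.sub_left ((Commute.one_left f).smul_left a))
    have key : ∀ k : ℕ, ∀ x, (f ^ k) x = 0 → (M ^ k) x = 0 := by
      intro k
      induction k with
      | zero =>
        intro x hx
        simpa using hx
      | succ k ih =>
        intro x hx
        have h1 : f ((f ^ k) x) = 0 := by
          rw [← Module.End.mul_apply, ← pow_succ']; exact hx
        obtain ⟨t, ht⟩ := hspan _ h1
        have h2 : (f ^ k) (M x) = 0 := by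
          have hcomm : Commute M (f ^ k) := hMf.pow_right k
          have := congrArg (fun g : Module.End K V => g x) hcomm.eq
          simp only [Module.End.mul_apply] at this
          rw [← this, ht, map_smul, hMy, smul_zero]
        rw [pow_succ, Module.End.mul_apply]
        exact ih _ h2
    ext x
    rw [LinearMap.zero_apply]
    apply key
    rw [hnil, LinearMap.zero_apply]

end abstract2


theorem det_smul_one_add_of_pow_eq_zero {n : ℕ} (M : Matrix (Fin n) (Fin n) F) (k : ℕ) (hM : M ^ k = 0) (a : F) :
    (a • (1 : Matrix (Fin n) (Fin n) F) + M).det = a ^ n := by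
  have hnil : IsNilpotent (-M) := ⟨k, by rw [neg_pow, hM, mul_zero]⟩
  have h1 := (Matrix.isNilpotent_charpoly_sub_pow_of_isNilpotent hnil).eq_zero
  rw [Fintype.card_fin, sub_eq_zero] at h1
  have h2 := Matrix.eval_charpoly (-M) a
  rw [h1, Polynomial.eval_pow, Polynomial.eval_X, sub_neg_eq_add] at h2
  rw [h2]
  congr 2
  ext i j
  simp [Matrix.scalar_apply, Matrix.diagonal_apply, Matrix.one_apply]

/-- a matrix commuting with a regular nilpotent matrix has determinant an `n`-th power -/
theorem exists_det_eq_pow_of_comm {n : ℕ} (N c : Matrix (Fin n) (Fin n) F) (hnil : N ^ n = 0)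
    (hrank : N.rank = n - 1) (hcomm : c * N = N * c) : ∃ a : F, c.det = a ^ n := by
  classical
  have hnil' : (Matrix.toLin' N) ^ n = 0 := by
    rw [← Matrix.toLin'_pow, hnil, map_zero]
  have hker : finrank F (LinearMap.ker (Matrix.toLin' N)) ≤ 1 := by
    rw [Matrix.toLin'_apply']
    exact finrank_ker_mulVecLin_le_one _ hrank
  have hc : Commute (Matrix.toLin' c) (Matrix.toLin' N) := by
    show _ * _ = _ * _
    rw [Module.End.mul_eq_comp, Module.End.mul_eq_comp, ← Matrix.toLin'_mul, ← Matrix.toLin'_mul, hcomm]
  obtain ⟨a, ha⟩ := exists_sub_smul_pow_eq_zero (Matrix.toLin' N) (Matrix.toLin' c) n hnil' hker hc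
  refine ⟨a, ?_⟩
  have hM : (c - a • (1 : Matrix (Fin n) (Fin n) F)) ^ n = 0 := by
    apply Matrix.toLin'.injective
    rw [Matrix.toLin'_pow, map_sub, map_smul, Matrix.toLin'_one, map_zero]
    exact ha
  have := det_smul_one_add_of_pow_eq_zero (c - a • (1 : Matrix (Fin n) (Fin n) F)) n hM a
  rwa [add_sub_cancel] at this

end Cfsg.Agent.Lib.Helper15
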