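import Mathlib
import Cfsg.Agent.Lib.Helper15.RegUnip4
import Cfsg.Agent.Lib.Helper15.RegUnip2

/-!
# Regular unipotent elements of `Sp_2m(q)`, `q` odd: centralisers
-/

set_option autoImplicit false

namespace Cfsg.Agent.Lib.Helper15.SpReg


open Module Matrix

section abstract

variable {K V : Type*} [Field K] [AddCommGroup V] [Module K V] [FiniteDimensional K V]

/-- an endomorphism commuting with a regular nilpotent `f` is a polynomial in `f` -/
theorem exists_eq_sum_pow (f : Module.End K V) (n : ℕ) (hn : 1 ≤ n) (hV : finrank K V = n)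
    (hnil : f ^ n = 0) (hker : finrank K (LinearMap.ker f) ≤ 1) (X : Module.End K V)
    (hX : Commute X f) : ∃ a : Fin n → K, X = ∑ k : Fin n, a k • f ^ (k : ℕ) := by
  obtain ⟨v, hv⟩ := exists_pow_pred_ne_zero f n hn hV hnil hker
  have hli := linearIndependent_pow_apply f n hnil v hv
  have hcard : Fintype.card (Fin n) = finrank K V := by rw [Fintype.card_fin, hV]
  have : Nonempty (Fin n) := ⟨⟨0, by omega⟩⟩
  let b := basisOfLinearIndependentOfCardEqFinrank hli hcard
  have hb : ∀ k : Fin n, b k = (f ^ (k : ℕ)) v := fun k => by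
    simp [b]
  refine ⟨fun k => b.repr (X v) k, ?_⟩
  have h1 : (X - ∑ k : Fin n, b.repr (X v) k • f ^ (k : ℕ)) = 0 := by
    apply eq_zero_of_commute_of_apply_eq_zero f n hn hV hnil hker v hv
    · apply Commute.sub_left hX
      apply Commute.sum_left
      intro k _
      exact ((Commute.refl f).pow_left _).smul_left _
    · rw [LinearMap.sub_apply, LinearMap.sum_apply, sub_eq_zero]
      conv_lhs => rw [← b.sum_repr (X v)]
      apply Finset.sum_congr rfl
      intro k _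
      rw [LinearMap.smul_apply, hb]
  exact sub_eq_zero.mp h1

theorem sum_pow_injective (f : Module.End K V) (n : ℕ) (hn : 1 ≤ n) (hV : finrank K V = n)
    (hnil : f ^ n = 0) (hker : finrank K (LinearMap.ker f) ≤ 1) (a b : Fin n → K)
    (hab : ∑ k : Fin n, a k • f ^ (k : ℕ) = ∑ k : Fin n, b k • f ^ (k : ℕ)) : a = b := by
  obtain ⟨v, hv⟩ := exists_pow_pred_ne_zero f n hn hV hnil hker
  have hli := linearIndependent_pow_apply f n hnil v hv
  rw [Fintype.linearIndependent_iff] at hli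
  have h1 := congrArg (fun g : Module.End K V => g v) hab
  simp only [LinearMap.sum_apply, LinearMap.smul_apply] at h1
  have h2 : ∑ k : Fin n, (a k - b k) • (f ^ (k : ℕ)) v = 0 := by
    simp only [sub_smul, Finset.sum_sub_distrib]
    rw [h1, sub_self]
  funext k
  exact sub_eq_zero.mp (hli _ h2 k)

end abstract

section matrix

variable {F : Type*} [Field F] {ι : Type*} [Fintype ι] [DecidableEq ι]

/-- polynomials of degree `< n` in the matrix `c` -/
def Phi (c : Matrix ι ι F) (n : ℕ) (a : Fin n → F) : Matrix ι ι F := ∑ k : Fin n, a k • c ^ (k : ℕ)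

theorem Phi_comm (c : Matrix ι ι F) (n : ℕ) (a : Fin n → F) : Phi c n a * c = c * Phi c n a := by
  unfold Phi
  rw [Finset.sum_mul, Finset.mul_sum]
  apply Finset.sum_congr rfl
  intro k _
  rw [smul_mul_assoc, mul_smul_comm, ← pow_succ, ← pow_succ']

theorem toLin'_Phi (c : Matrix ι ι F) (n : ℕ) (a : Fin n → F) :
    Matrix.toLin' (Phi c n a) = ∑ k : Fin n, a k • (Matrix.toLin' c) ^ (k : ℕ) := by
  unfold Phi
  rw [map_sum]
  apply Finset.sum_congr rfl
  intro k _
  rw [map_smul, Matrix.toLin'_pow]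

theorem exists_Phi (c : Matrix ι ι F) (hcard : 1 ≤ Fintype.card ι)
    (hnil : c ^ Fintype.card ι = 0) (hrank : c.rank = Fintype.card ι - 1) (X : Matrix ι ι F)
    (hX : X * c = c * X) : ∃ a : Fin (Fintype.card ι) → F, X = Phi c (Fintype.card ι) a := by
  have hnil' : (Matrix.toLin' c) ^ Fintype.card ι = 0 := by
    rw [← Matrix.toLin'_pow, hnil, map_zero]
  have hker : finrank F (LinearMap.ker (Matrix.toLin' c)) ≤ 1 := by
    rw [Matrix.toLin'_apply']
    exact finrank_ker_mulVecLin_le_one' _ hrank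
  have hc : Commute (Matrix.toLin' X) (Matrix.toLin' c) := by
    change Matrix.toLin' X * Matrix.toLin' c = Matrix.toLin' c * Matrix.toLin' X
    rw [Module.End.mul_eq_comp, Module.End.mul_eq_comp, ← Matrix.toLin'_mul, ← Matrix.toLin'_mul, hX]
  obtain ⟨a, ha⟩ := exists_eq_sum_pow (Matrix.toLin' c) (Fintype.card ι) hcard
    (Module.finrank_fintype_fun_eq_card F) hnil' hker (Matrix.toLin' X) hc
  refine ⟨a, ?_⟩
  apply Matrix.toLin'.injective
  rw [ha, toLin'_Phi]

theorem Phi_injective (c : Matrix ι ι F) (hcard : 1 ≤ Fintype.card ι)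
    (hnil : c ^ Fintype.card ι = 0) (hrank : c.rank = Fintype.card ι - 1) :
    Function.Injective (Phi c (Fintype.card ι)) := by
  intro a b hab
  have hnil' : (Matrix.toLin' c) ^ Fintype.card ι = 0 := by
    rw [← Matrix.toLin'_pow, hnil, map_zero]
  have hker : finrank F (LinearMap.ker (Matrix.toLin' c)) ≤ 1 := by
    rw [Matrix.toLin'_apply']
    exact finrank_ker_mulVecLin_le_one' _ hrank
  apply sum_pow_injective (Matrix.toLin' c) (Fintype.card ι) hcard
    (Module.finrank_fintype_fun_eq_card F) hnil' hker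
  rw [← toLin'_Phi, ← toLin'_Phi, hab]

end matrix




section symp

variable {F : Type*} [Field F] {m : ℕ}

/-- the adjoint involution of the standard symplectic form -/
def sig (X : Matrix (Fin m ⊕ Fin m) (Fin m ⊕ Fin m) F) : Matrix (Fin m ⊕ Fin m) (Fin m ⊕ Fin m) F :=
  -(J (Fin m) F) * Xᵀ * J (Fin m) F

theorem sig_one : sig (1 : Matrix (Fin m ⊕ Fin m) (Fin m ⊕ Fin m) F) = 1 := by
  unfold sig
  rw [transpose_one, mul_one, neg_mul, J_squared, neg_neg]

theorem sig_mul (X Y : Matrix (Fin m ⊕ Fin m) (Fin m ⊕ Fin m) F) : sig (X * Y) = sig Y * sig X := by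
  unfold sig
  rw [transpose_mul]
  have h : (-J (Fin m) F * Yᵀ * J (Fin m) F) * (-J (Fin m) F * Xᵀ * J (Fin m) F) =
      -J (Fin m) F * Yᵀ * (-(J (Fin m) F * J (Fin m) F)) * Xᵀ * J (Fin m) F := by
    simp only [neg_mul, mul_neg, neg_neg, Matrix.mul_assoc]
  rw [h, J_squared, neg_neg, Matrix.mul_one]
  simp only [Matrix.mul_assoc]

theorem sig_add (X Y : Matrix (Fin m ⊕ Fin m) (Fin m ⊕ Fin m) F) : sig (X + Y) = sig X + sig Y := by
  unfold sig
  rw [transpose_add, Matrix.mul_add, Matrix.add_mul]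

theorem sig_neg (X : Matrix (Fin m ⊕ Fin m) (Fin m ⊕ Fin m) F) : sig (-X) = -sig X := by
  unfold sig
  rw [transpose_neg, Matrix.mul_neg, Matrix.neg_mul]

theorem sig_sub (X Y : Matrix (Fin m ⊕ Fin m) (Fin m ⊕ Fin m) F) : sig (X - Y) = sig X - sig Y := by
  rw [sub_eq_add_neg, sig_add, sig_neg, ← sub_eq_add_neg]

theorem sig_smul (a : F) (X : Matrix (Fin m ⊕ Fin m) (Fin m ⊕ Fin m) F) : sig (a • X) = a • sig X := by
  unfold sig
  rw [transpose_smul, Matrix.mul_smul, Matrix.smul_mul]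

theorem sig_zero : sig (0 : Matrix (Fin m ⊕ Fin m) (Fin m ⊕ Fin m) F) = 0 := by
  unfold sig
  rw [transpose_zero, Matrix.mul_zero, Matrix.zero_mul]

theorem sig_sum {α : Type*} (s : Finset α) (f : α → Matrix (Fin m ⊕ Fin m) (Fin m ⊕ Fin m) F) :
    sig (∑ i ∈ s, f i) = ∑ i ∈ s, sig (f i) := by
  classical
  induction s using Finset.induction_on with
  | empty => simp [sig_zero]
  | insert a s ha ih => rw [Finset.sum_insert ha, Finset.sum_insert ha, sig_add, ih]

theorem sig_sig (X : Matrix (Fin m ⊕ Fin m) (Fin m ⊕ Fin m) F) : sig (sig X) = X := by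
  unfold sig
  rw [transpose_mul, transpose_mul, transpose_transpose, transpose_neg, J_transpose, neg_neg]
  have h : -J (Fin m) F * (-J (Fin m) F * (X * J (Fin m) F)) * J (Fin m) F =
      (J (Fin m) F * J (Fin m) F) * X * (J (Fin m) F * J (Fin m) F) := by
    simp only [neg_mul, mul_neg, neg_neg, Matrix.mul_assoc]
  rw [h, J_squared]
  simp

theorem sig_pow (X : Matrix (Fin m ⊕ Fin m) (Fin m ⊕ Fin m) F) (k : ℕ) : sig (X ^ k) = sig X ^ k := by
  induction k with
  | zero => rw [pow_zero, pow_zero, sig_one]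
  | succ k ih => rw [pow_succ, sig_mul, ih, pow_succ']

theorem mem_symp_iff (g : Matrix (Fin m ⊕ Fin m) (Fin m ⊕ Fin m) F) :
    g ∈ symplecticGroup (Fin m) F ↔ g * sig g = 1 := by
  rw [SymplecticGroup.mem_iff]
  unfold sig
  constructor
  · intro h
    have : g * (-J (Fin m) F * gᵀ * J (Fin m) F) = -((g * J (Fin m) F * gᵀ) * J (Fin m) F) := by
      simp only [neg_mul, mul_neg, Matrix.mul_assoc]
    rw [this, h, J_squared, neg_neg]
  · intro h
    have h1 : g * (-J (Fin m) F * gᵀ * J (Fin m) F) = -((g * J (Fin m) F * gᵀ) * J (Fin m) F) := by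
      simp only [neg_mul, mul_neg, Matrix.mul_assoc]
    rw [h1] at h
    have h2 : (g * J (Fin m) F * gᵀ) * J (Fin m) F * J (Fin m) F = -1 * J (Fin m) F := by
      rw [← neg_eq_iff_eq_neg.mpr h.symm]
    rw [Matrix.mul_assoc, J_squared] at h2
    have h3 : g * J (Fin m) F * gᵀ = J (Fin m) F := by
      have := congrArg (fun M => -M) h2
      simpa using this
    exact h3

theorem sig_coe (u : symplecticGroup (Fin m) F) :
    sig (u : Matrix (Fin m ⊕ Fin m) (Fin m ⊕ Fin m) F) =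
      ((u⁻¹ : symplecticGroup (Fin m) F) : Matrix (Fin m ⊕ Fin m) (Fin m ⊕ Fin m) F) :=
  (SymplecticGroup.coe_inv u).symm



theorem coe_mul_inv (u : symplecticGroup (Fin m) F) :
    (u : Matrix (Fin m ⊕ Fin m) (Fin m ⊕ Fin m) F) *
      ((u⁻¹ : symplecticGroup (Fin m) F) : Matrix (Fin m ⊕ Fin m) (Fin m ⊕ Fin m) F) = 1 := by
  have := congrArg (fun g : symplecticGroup (Fin m) F => (g : Matrix (Fin m ⊕ Fin m) (Fin m ⊕ Fin m) F))
    (mul_inv_cancel u)
  exact this

theorem coe_inv_mul (u : symplecticGroup (Fin m) F) :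
    ((u⁻¹ : symplecticGroup (Fin m) F) : Matrix (Fin m ⊕ Fin m) (Fin m ⊕ Fin m) F) *
      (u : Matrix (Fin m ⊕ Fin m) (Fin m ⊕ Fin m) F) = 1 := by
  have := congrArg (fun g : symplecticGroup (Fin m) F => (g : Matrix (Fin m ⊕ Fin m) (Fin m ⊕ Fin m) F))
    (inv_mul_cancel u)
  exact this

/-- the skew element `u - u⁻¹` -/
def cc (u : symplecticGroup (Fin m) F) : Matrix (Fin m ⊕ Fin m) (Fin m ⊕ Fin m) F :=
  (u : Matrix (Fin m ⊕ Fin m) (Fin m ⊕ Fin m) F) -
    ((u⁻¹ : symplecticGroup (Fin m) F) : Matrix (Fin m ⊕ Fin m) (Fin m ⊕ Fin m) F)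

theorem sig_cc (u : symplecticGroup (Fin m) F) : sig (cc u) = -cc u := by
  unfold cc
  rw [sig_sub, sig_coe, sig_coe, inv_inv, neg_sub]

theorem cc_comm (u : symplecticGroup (Fin m) F) :
    cc u * (u : Matrix (Fin m ⊕ Fin m) (Fin m ⊕ Fin m) F) =
      (u : Matrix (Fin m ⊕ Fin m) (Fin m ⊕ Fin m) F) * cc u := by
  unfold cc
  rw [Matrix.sub_mul, Matrix.mul_sub, coe_mul_inv, coe_inv_mul]

theorem comm_inv (u : symplecticGroup (Fin m) F) (X : Matrix (Fin m ⊕ Fin m) (Fin m ⊕ Fin m) F)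
    (hX : X * (u : Matrix (Fin m ⊕ Fin m) (Fin m ⊕ Fin m) F) = (u : Matrix _ _ F) * X) :
    X * ((u⁻¹ : symplecticGroup (Fin m) F) : Matrix (Fin m ⊕ Fin m) (Fin m ⊕ Fin m) F) =
      ((u⁻¹ : symplecticGroup (Fin m) F) : Matrix (Fin m ⊕ Fin m) (Fin m ⊕ Fin m) F) * X := by
  calc X * ((u⁻¹ : symplecticGroup (Fin m) F) : Matrix (Fin m ⊕ Fin m) (Fin m ⊕ Fin m) F)
      = (((u⁻¹ : symplecticGroup (Fin m) F) : Matrix (Fin m ⊕ Fin m) (Fin m ⊕ Fin m) F) *
          (u : Matrix _ _ F)) * X * ((u⁻¹ : symplecticGroup (Fin m) F) : Matrix _ _ F) := by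
        rw [coe_inv_mul, Matrix.one_mul]
    _ = ((u⁻¹ : symplecticGroup (Fin m) F) : Matrix (Fin m ⊕ Fin m) (Fin m ⊕ Fin m) F) *
          ((u : Matrix _ _ F) * X) * ((u⁻¹ : symplecticGroup (Fin m) F) : Matrix _ _ F) := by
        simp only [Matrix.mul_assoc]
    _ = ((u⁻¹ : symplecticGroup (Fin m) F) : Matrix (Fin m ⊕ Fin m) (Fin m ⊕ Fin m) F) *
          (X * (u : Matrix _ _ F)) * ((u⁻¹ : symplecticGroup (Fin m) F) : Matrix _ _ F) := by
        rw [hX]
    _ = ((u⁻¹ : symplecticGroup (Fin m) F) : Matrix (Fin m ⊕ Fin m) (Fin m ⊕ Fin m) F) * X *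
          ((u : Matrix _ _ F) * ((u⁻¹ : symplecticGroup (Fin m) F) : Matrix _ _ F)) := by
        simp only [Matrix.mul_assoc]
    _ = _ := by rw [coe_mul_inv, Matrix.mul_one]

theorem comm_cc (u : symplecticGroup (Fin m) F) (X : Matrix (Fin m ⊕ Fin m) (Fin m ⊕ Fin m) F)
    (hX : X * (u : Matrix (Fin m ⊕ Fin m) (Fin m ⊕ Fin m) F) = (u : Matrix _ _ F) * X) :
    X * cc u = cc u * X := by
  unfold cc
  rw [Matrix.mul_sub, Matrix.sub_mul, hX, comm_inv u X hX]

theorem cc_eq (u : symplecticGroup (Fin m) F) :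
    cc u = ((u : Matrix (Fin m ⊕ Fin m) (Fin m ⊕ Fin m) F) - 1) *
      (((u : Matrix (Fin m ⊕ Fin m) (Fin m ⊕ Fin m) F) + 1) *
        ((u⁻¹ : symplecticGroup (Fin m) F) : Matrix (Fin m ⊕ Fin m) (Fin m ⊕ Fin m) F)) := by
  unfold cc
  rw [Matrix.add_mul, coe_mul_inv, Matrix.one_mul, Matrix.sub_mul, Matrix.mul_add, Matrix.mul_add,
    Matrix.one_mul, Matrix.mul_one, coe_mul_inv, Matrix.one_mul]
  abel

theorem isUnit_add_one (h2 : (2 : F) ≠ 0) (u : symplecticGroup (Fin m) F) (k : ℕ)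
    (hnil : ((u : Matrix (Fin m ⊕ Fin m) (Fin m ⊕ Fin m) F) - 1) ^ k = 0) :
    IsUnit ((u : Matrix (Fin m ⊕ Fin m) (Fin m ⊕ Fin m) F) + 1) := by
  have h : (u : Matrix (Fin m ⊕ Fin m) (Fin m ⊕ Fin m) F) + 1 =
      (2 : F) • (1 : Matrix (Fin m ⊕ Fin m) (Fin m ⊕ Fin m) F) + ((u : Matrix _ _ F) - 1) := by
    rw [two_smul]
    abel
  rw [h]
  apply IsNilpotent.isUnit_add_left_of_commute ⟨k, hnil⟩
  · refine ⟨⟨(2 : F) • 1, (2 : F)⁻¹ • 1, ?_, ?_⟩, rfl⟩
    · rw [smul_mul_smul_comm, mul_inv_cancel₀ h2, one_smul, Matrix.one_mul]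
    · rw [smul_mul_smul_comm, inv_mul_cancel₀ h2, one_smul, Matrix.one_mul]
  · exact (Commute.one_right _).smul_right _

theorem isUnit_w (h2 : (2 : F) ≠ 0) (u : symplecticGroup (Fin m) F) (k : ℕ)
    (hnil : ((u : Matrix (Fin m ⊕ Fin m) (Fin m ⊕ Fin m) F) - 1) ^ k = 0) :
    IsUnit (((u : Matrix (Fin m ⊕ Fin m) (Fin m ⊕ Fin m) F) + 1) *
        ((u⁻¹ : symplecticGroup (Fin m) F) : Matrix (Fin m ⊕ Fin m) (Fin m ⊕ Fin m) F)) := by
  apply IsUnit.mul (isUnit_add_one h2 u k hnil)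
  exact ⟨⟨_, _, coe_inv_mul u, coe_mul_inv u⟩, rfl⟩

theorem cc_pow_eq_zero (u : symplecticGroup (Fin m) F) (k : ℕ)
    (hnil : ((u : Matrix (Fin m ⊕ Fin m) (Fin m ⊕ Fin m) F) - 1) ^ k = 0) : cc u ^ k = 0 := by
  rw [cc_eq]
  have hcomm : Commute ((u : Matrix (Fin m ⊕ Fin m) (Fin m ⊕ Fin m) F) - 1)
      (((u : Matrix (Fin m ⊕ Fin m) (Fin m ⊕ Fin m) F) + 1) *
        ((u⁻¹ : symplecticGroup (Fin m) F) : Matrix (Fin m ⊕ Fin m) (Fin m ⊕ Fin m) F)) := by
    have h1 : Commute ((u : Matrix (Fin m ⊕ Fin m) (Fin m ⊕ Fin m) F) - 1) (u : Matrix _ _ F) :=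
      (Commute.refl _).sub_left (Commute.one_left _)
    have h2 : Commute ((u : Matrix (Fin m ⊕ Fin m) (Fin m ⊕ Fin m) F) - 1)
        ((u⁻¹ : symplecticGroup (Fin m) F) : Matrix (Fin m ⊕ Fin m) (Fin m ⊕ Fin m) F) :=
      comm_inv u _ h1.eq
    exact (h1.add_right (Commute.one_right _)).mul_right h2
  rw [hcomm.mul_pow, hnil, Matrix.zero_mul]

theorem rank_cc (h2 : (2 : F) ≠ 0) (u : symplecticGroup (Fin m) F) (k : ℕ)
    (hnil : ((u : Matrix (Fin m ⊕ Fin m) (Fin m ⊕ Fin m) F) - 1) ^ k = 0) :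
    (cc u).rank = ((u : Matrix (Fin m ⊕ Fin m) (Fin m ⊕ Fin m) F) - 1).rank := by
  rw [cc_eq]
  apply Matrix.rank_mul_eq_left_of_isUnit_det
  exact (Matrix.isUnit_iff_isUnit_det _).mp (isUnit_w h2 u k hnil)

end symp



section cayley

variable {R : Type*} [CommRing R]

theorem val_inv_eq {z y : R} (hU : IsUnit z) (h : z * y = 1) : ↑(hU.unit⁻¹) = y := by
  calc (↑(hU.unit⁻¹) : R) = ↑(hU.unit⁻¹) * (z * y) := by rw [h, mul_one]
    _ = (↑(hU.unit⁻¹) * z) * y := by ring
    _ = y := by rw [hU.val_inv_mul, one_mul]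

/-- In a commutative ring with an involutive automorphism `σ`, `2` invertible, in which
`1 + x` is a unit for all skew `x` and exactly one of `1 ± g` is a unit for `g` of norm one,
the norm-one elements are twice as many as the skew elements (Cayley transform). -/
theorem card_norm_one [Finite R] (σ : R → R) (hmul : ∀ a b, σ (a * b) = σ a * σ b)
    (hadd : ∀ a b, σ (a + b) = σ a + σ b) (hone : σ 1 = 1) (hneg : ∀ a, σ (-a) = -σ a)
    (t : R) (ht : 2 * t = 1)
    (H2 : ∀ g, g * σ g = 1 → (IsUnit (1 + g) ↔ ¬ IsUnit (1 - g)))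
    (H3 : ∀ x, σ x = -x → IsUnit (1 + x)) :
    Nat.card {g : R // g * σ g = 1} = 2 * Nat.card {x : R // σ x = -x} := by
  classical
  have hsub : ∀ a b, σ (a - b) = σ a - σ b := by
    intro a b
    rw [sub_eq_add_neg, hadd, hneg, ← sub_eq_add_neg]
  have hσ2 : σ 2 = 2 := by
    rw [← one_add_one_eq_two, hadd, hone]
  -- split according to whether `1 + g` is a unit
  have hsplit : Nat.card {g : R // g * σ g = 1} =
      Nat.card {g : R // g * σ g = 1 ∧ IsUnit (1 + g)} +
        Nat.card {g : R // g * σ g = 1 ∧ ¬ IsUnit (1 + g)} := by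
    rw [← Nat.card_sum]
    apply Nat.card_congr
    refine ⟨fun g => if h : IsUnit (1 + g.1) then Sum.inl ⟨g.1, g.2, h⟩ else Sum.inr ⟨g.1, g.2, h⟩,
      fun s => Sum.elim (fun g => ⟨g.1, g.2.1⟩) (fun g => ⟨g.1, g.2.1⟩) s, ?_, ?_⟩
    · intro g
      by_cases h : IsUnit (1 + g.1)
      · simp [h]
      · simp [h]
    · rintro (g | g)
      · have := g.2.2
        simp [this]
      · have := g.2.2
        simp [this]
  -- negation swaps the two parts
  have hneg' : Nat.card {g : R // g * σ g = 1 ∧ ¬ IsUnit (1 + g)} =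
      Nat.card {g : R // g * σ g = 1 ∧ IsUnit (1 + g)} := by
    apply Nat.card_congr
    refine ⟨fun g => ⟨-g.1, ?_, ?_⟩, fun g => ⟨-g.1, ?_, ?_⟩, ?_, ?_⟩
    · rw [hneg, neg_mul_neg]
      exact g.2.1
    · have := (H2 g.1 g.2.1).not.mp g.2.2
      rw [not_not] at this
      rw [← sub_eq_add_neg]
      exact this
    · rw [hneg, neg_mul_neg]
      exact g.2.1
    · have h1 := (H2 g.1 g.2.1).mp g.2.2
      rw [← sub_eq_add_neg]
      exact h1
    · intro g
      apply Subtype.ext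
      simp
    · intro g
      apply Subtype.ext
      simp
  -- the Cayley transform
  have hcay : Nat.card {g : R // g * σ g = 1 ∧ IsUnit (1 + g)} = Nat.card {x : R // σ x = -x} := by
    apply Nat.card_congr
    refine ⟨fun g => ⟨2 * ↑(g.2.2.unit⁻¹) - 1, ?_⟩,
      fun x => ⟨2 * ↑((H3 x.1 x.2).unit⁻¹) - 1, ?_, ?_⟩, ?_, ?_⟩
    · obtain ⟨g, hg, hu⟩ := g
      set w : R := ↑(hu.unit⁻¹) with hw
      have h1 : (1 + g) * w = 1 := hu.mul_val_inv
      have h2 : (1 + σ g) * σ w = 1 := by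
        rw [← hone, ← hadd, ← hmul, h1]
      change σ (2 * w - 1) = -(2 * w - 1)
      rw [hsub, hmul, hσ2, hone]
      -- `σ w = g * w`
      have h3 : σ w = g * w := by
        calc σ w = ((1 + g) * w) * σ w := by rw [h1, one_mul]
          _ = w * ((g * σ g + g) * σ w) := by rw [hg]; ring
          _ = w * g * ((1 + σ g) * σ w) := by ring
          _ = g * w := by rw [h2]; ring
      rw [h3]
      linear_combination 2 * h1
    · obtain ⟨x, hx⟩ := x
      set w : R := ↑((H3 x hx).unit⁻¹) with hw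
      have h1 : (1 + x) * w = 1 := (H3 x hx).mul_val_inv
      have h2 : (1 - x) * σ w = 1 := by
        have : (1 + σ x) * σ w = 1 := by rw [← hone, ← hadd, ← hmul, h1]
        rw [hx] at this
        rw [sub_eq_add_neg]
        exact this
      change (2 * w - 1) * σ (2 * w - 1) = 1
      rw [hsub, hmul, hσ2, hone]
      have e1 : 2 * w - 1 = (1 - x) * w := by linear_combination h1
      have e2 : 2 * σ w - 1 = (1 + x) * σ w := by linear_combination h2
      rw [e1, e2]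
      calc (1 - x) * w * ((1 + x) * σ w) = ((1 + x) * w) * ((1 - x) * σ w) := by ring
        _ = 1 := by rw [h1, h2, one_mul]
    · obtain ⟨x, hx⟩ := x
      set w : R := ↑((H3 x hx).unit⁻¹) with hw
      have h1 : (1 + x) * w = 1 := (H3 x hx).mul_val_inv
      change IsUnit (1 + (2 * w - 1))
      have : 1 + (2 * w - 1) = 2 * w := by ring
      rw [this]
      refine ⟨⟨2 * w, t * (1 + x), ?_, ?_⟩, rfl⟩
      · linear_combination (1 + x) * w * ht + h1
      · linear_combination (1 + x) * w * ht + h1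
    · rintro ⟨g, hg, hu⟩
      apply Subtype.ext
      simp only
      set w : R := ↑(hu.unit⁻¹) with hw
      have h1 : (1 + g) * w = 1 := hu.mul_val_inv
      have h2 : (1 + (2 * w - 1)) * (t * (1 + g)) = 1 := by
        linear_combination (1 + g) * w * ht + h1
      rw [val_inv_eq _ h2]
      linear_combination (1 + g) * ht
    · rintro ⟨x, hx⟩
      apply Subtype.ext
      simp only
      set w : R := ↑((H3 x hx).unit⁻¹) with hw
      have h1 : (1 + x) * w = 1 := (H3 x hx).mul_val_inv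
      have h2 : (1 + (2 * w - 1)) * (t * (1 + x)) = 1 := by
        linear_combination (1 + x) * w * ht + h1
      rw [val_inv_eq _ h2]
      linear_combination (1 + x) * ht
  rw [hsplit, hneg', hcay, two_mul]

end cayley


end Cfsg.Agent.Lib.Helper15.SpReg
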