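import Mathlib
import Cfsg.Agent.Lib.Helper15.SpReg1

set_option autoImplicit false

namespace Cfsg.Agent.Lib.Helper15.SpReg

open Module Matrix

section more

variable {F : Type*} [Field F] {ι : Type*} [Fintype ι] [DecidableEq ι]

theorem Phi_commute (c : Matrix ι ι F) (n : ℕ) (a b : Fin n → F) :
    Commute (Phi c n a) (Phi c n b) := by
  unfold Phi
  apply Commute.sum_left
  intro k _
  apply Commute.sum_right
  intro l _
  exact (((Commute.refl c).pow_pow _ _).smul_left _).smul_right _

theorem Phi_add (c : Matrix ι ι F) (n : ℕ) (a b : Fin n → F) :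
    Phi c n (a + b) = Phi c n a + Phi c n b := by
  unfold Phi
  rw [← Finset.sum_add_distrib]
  apply Finset.sum_congr rfl
  intro k _
  rw [Pi.add_apply, add_smul]

theorem Phi_zero (c : Matrix ι ι F) (n : ℕ) : Phi c n 0 = 0 := by
  unfold Phi
  simp

/-- a matrix commuting with a regular nilpotent one is a scalar plus a nilpotent -/
theorem exists_scalar_nilp (c : Matrix ι ι F)
    (hnil : c ^ Fintype.card ι = 0) (hrank : c.rank = Fintype.card ι - 1) (X : Matrix ι ι F)
    (hX : X * c = c * X) : ∃ a : F, (X - a • 1) ^ Fintype.card ι = 0 := by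
  have hnil' : (Matrix.toLin' c) ^ Fintype.card ι = 0 := by
    rw [← Matrix.toLin'_pow, hnil, map_zero]
  have hker : finrank F (LinearMap.ker (Matrix.toLin' c)) ≤ 1 := by
    rw [Matrix.toLin'_apply']
    exact finrank_ker_mulVecLin_le_one' _ hrank
  have hc : Commute (Matrix.toLin' X) (Matrix.toLin' c) := by
    change Matrix.toLin' X * Matrix.toLin' c = Matrix.toLin' c * Matrix.toLin' X
    rw [Module.End.mul_eq_comp, Module.End.mul_eq_comp, ← Matrix.toLin'_mul, ← Matrix.toLin'_mul, hX]
  obtain ⟨a, ha⟩ := exists_sub_smul_pow_eq_zero (Matrix.toLin' c) (Matrix.toLin' X) (Fintype.card ι)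
    hnil' hker hc
  refine ⟨a, ?_⟩
  apply Matrix.toLin'.injective
  rw [Matrix.toLin'_pow, map_zero, map_sub, map_smul, Matrix.toLin'_one]
  exact ha

/-- number of functions vanishing at the even indices -/
theorem card_odd_supported [Fintype F] (m : ℕ) :
    Nat.card {a : Fin (2 * m) → F // ∀ k : Fin (2 * m), Even k.val → a k = 0} = Fintype.card F ^ m := by
  classical
  have e : {a : Fin (2 * m) → F // ∀ k : Fin (2 * m), Even k.val → a k = 0} ≃ (Fin m → F) :=
    { toFun := fun a j => a.1 ⟨2 * j.val + 1, by have := j.2; omega⟩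
      invFun := fun f => ⟨fun k => if h : Even k.val then 0 else f ⟨k.val / 2, by have := k.2; omega⟩, by
        intro k hk
        exact dif_pos hk⟩
      left_inv := by
        rintro ⟨a, ha⟩
        apply Subtype.ext
        funext k
        simp only
        split_ifs with h
        · exact (ha k h).symm
        · congr 1
          apply Fin.ext
          simp only
          rw [Nat.not_even_iff_odd] at h
          obtain ⟨r, hr⟩ := h
          omega
      right_inv := by
        intro f
        funext j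
        simp only
        have h : ¬ Even (2 * j.val + 1) := by
          rw [Nat.not_even_iff_odd]
          exact ⟨j.val, rfl⟩
        rw [dif_neg h]
        congr 1
        apply Fin.ext
        simp only
        omega }
  rw [Nat.card_congr e, Nat.card_eq_fintype_card, Fintype.card_fun, Fintype.card_fin]



theorem exists_Phi' (c : Matrix ι ι F) (n : ℕ) (hn : Fintype.card ι = n) (h1 : 1 ≤ n)
    (hnil : c ^ n = 0) (hrank : c.rank = n - 1) (X : Matrix ι ι F)
    (hX : X * c = c * X) : ∃ a : Fin n → F, X = Phi c n a := by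
  subst hn
  exact exists_Phi c h1 hnil hrank X hX

theorem Phi_injective' (c : Matrix ι ι F) (n : ℕ) (hn : Fintype.card ι = n) (h1 : 1 ≤ n)
    (hnil : c ^ n = 0) (hrank : c.rank = n - 1) : Function.Injective (Phi c n) := by
  subst hn
  exact Phi_injective c h1 hnil hrank

theorem exists_scalar_nilp' (c : Matrix ι ι F) (n : ℕ) (hn : Fintype.card ι = n)
    (hnil : c ^ n = 0) (hrank : c.rank = n - 1) (X : Matrix ι ι F)
    (hX : X * c = c * X) : ∃ a : F, (X - a • 1) ^ n = 0 := by
  subst hn
  exact exists_scalar_nilp c hnil hrank X hX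

end more

section main

variable {F : Type*} [Field F] {m : ℕ}

theorem sig_Phi (c : Matrix (Fin m ⊕ Fin m) (Fin m ⊕ Fin m) F) (hc : sig c = -c) (n : ℕ) (a : Fin n → F) :
    sig (Phi c n a) = Phi c n (fun k => if Even k.val then a k else -a k) := by
  unfold Phi
  rw [sig_sum]
  apply Finset.sum_congr rfl
  intro k _
  rw [sig_smul, sig_pow, hc]
  change a k • (-c) ^ (k : ℕ) = (if Even k.val then a k else -a k) • c ^ (k : ℕ)
  split_ifs with h
  · rw [h.neg_pow]
  · rw [Nat.not_even_iff_odd] at h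
    rw [h.neg_pow, smul_neg, neg_smul]

/-- skew elements of the commutant correspond to odd polynomials -/
theorem sig_Phi_eq_neg_iff (h2 : (2 : F) ≠ 0) (c : Matrix (Fin m ⊕ Fin m) (Fin m ⊕ Fin m) F)
    (hc : sig c = -c) (n : ℕ) (hinj : Function.Injective (Phi c n)) (a : Fin n → F) :
    sig (Phi c n a) = -Phi c n a ↔ ∀ k : Fin n, Even k.val → a k = 0 := by
  rw [sig_Phi c hc]
  have hneg : -Phi c n a = Phi c n (fun k => -a k) := by
    unfold Phi
    rw [← Finset.sum_neg_distrib]
    apply Finset.sum_congr rfl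
    intro k _
    rw [neg_smul]
  rw [hneg]
  constructor
  · intro h k hk
    have h3 : (if Even k.val then a k else -a k) = -a k := congrFun (hinj h) k
    rw [if_pos hk] at h3
    have h4 : (2 : F) * a k = 0 := by linear_combination h3
    exact (mul_eq_zero.mp h4).resolve_left h2
  · intro h
    congr 1
    funext k
    split_ifs with hk
    · rw [h k hk, neg_zero]
    · rfl



theorem card_centralizer_regUnip [Fintype F] (h2 : (2 : F) ≠ 0) (hm : 1 ≤ m)
    (u : symplecticGroup (Fin m) F)
    (hnil : ((u : Matrix (Fin m ⊕ Fin m) (Fin m ⊕ Fin m) F) - 1) ^ (2 * m) = 0)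
    (hreg : ((u : Matrix (Fin m ⊕ Fin m) (Fin m ⊕ Fin m) F) - 1).rank = 2 * m - 1) :
    Nat.card ↥(Subgroup.centralizer ({u} : Set ↥(symplecticGroup (Fin m) F))) =
      2 * Fintype.card F ^ m := by
  classical
  have hcard : Fintype.card (Fin m ⊕ Fin m) = 2 * m := by simp [two_mul]
  have hn1 : 1 ≤ 2 * m := by omega
  have hcnil : cc u ^ (2 * m) = 0 := cc_pow_eq_zero u _ hnil
  have hcrank : (cc u).rank = 2 * m - 1 := by rw [rank_cc h2 u _ hnil, hreg]
  have hcsig : sig (cc u) = -cc u := sig_cc u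
  have hinj := Phi_injective' (cc u) (2 * m) hcard hn1 hcnil hcrank
  have : Nonempty (Fin m ⊕ Fin m) := ⟨Sum.inl ⟨0, hm⟩⟩
  -- the commutant
  let S : Subalgebra F (Matrix (Fin m ⊕ Fin m) (Fin m ⊕ Fin m) F) :=
    Subalgebra.centralizer F {(u : Matrix (Fin m ⊕ Fin m) (Fin m ⊕ Fin m) F)}
  have hmemS : ∀ X : Matrix (Fin m ⊕ Fin m) (Fin m ⊕ Fin m) F,
      X ∈ S ↔ X * (u : Matrix (Fin m ⊕ Fin m) (Fin m ⊕ Fin m) F) = (u : Matrix _ _ F) * X := by
    intro X
    rw [Subalgebra.mem_centralizer_iff]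
    constructor
    · intro h
      exact (h _ rfl).symm
    · intro h g hg
      rw [Set.mem_singleton_iff] at hg
      rw [hg]
      exact h.symm
  have hparam : ∀ X ∈ S, ∃ a, X = Phi (cc u) (2 * m) a := fun X hX =>
    exists_Phi' (cc u) (2 * m) hcard hn1 hcnil hcrank X (comm_cc u X ((hmemS X).mp hX))
  have hPhiS : ∀ a, Phi (cc u) (2 * m) a ∈ S := by
    intro a
    rw [hmemS]
    have hc : Commute (cc u) (u : Matrix (Fin m ⊕ Fin m) (Fin m ⊕ Fin m) F) := cc_comm u
    have : Commute (Phi (cc u) (2 * m) a) (u : Matrix (Fin m ⊕ Fin m) (Fin m ⊕ Fin m) F) := by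
      unfold Phi
      apply Commute.sum_left
      intro k _
      exact (hc.pow_left _).smul_left _
    exact this.eq
  have hScomm : ∀ X ∈ S, ∀ Y ∈ S, X * Y = Y * X := by
    intro X hX Y hY
    obtain ⟨a, rfl⟩ := hparam X hX
    obtain ⟨b, rfl⟩ := hparam Y hY
    exact (Phi_commute (cc u) _ a b).eq
  have hsigS : ∀ X ∈ S, sig X ∈ S := by
    intro X hX
    obtain ⟨a, rfl⟩ := hparam X hX
    rw [sig_Phi (cc u) hcsig]
    exact hPhiS _
  let instCR : CommRing ↥S :=
    { (inferInstance : Ring ↥S) with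
      mul_comm := fun a b => Subtype.ext (hScomm a.1 a.2 b.1 b.2) }
  let σ : ↥S → ↥S := fun x => ⟨sig x.1, hsigS x.1 x.2⟩
  have hσval : ∀ x : ↥S, (σ x).1 = sig x.1 := fun x => rfl
  have : Nontrivial ↥S := ⟨⟨0, 1, fun h => by
    have := congrArg Subtype.val h
    exact zero_ne_one this⟩⟩
  have : Finite ↥S := Subtype.finite
  -- scalar parts
  have hnilS : ∀ x : ↥S, ∃ a₀ : F, IsNilpotent (x - a₀ • (1 : ↥S)) := by
    intro x
    obtain ⟨a₀, ha₀⟩ := exists_scalar_nilp' (cc u) (2 * m) hcard hcnil hcrank x.1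
      (comm_cc u x.1 ((hmemS x.1).mp x.2))
    refine ⟨a₀, 2 * m, ?_⟩
    apply Subtype.ext
    exact ha₀
  have hσnil : ∀ y : ↥S, IsNilpotent y → IsNilpotent (σ y) := by
    rintro y ⟨k, hk⟩
    refine ⟨k, ?_⟩
    apply Subtype.ext
    have h1 : (y.1) ^ k = 0 := congrArg Subtype.val hk
    change (sig y.1) ^ k = 0
    rw [← sig_pow, h1, sig_zero]
  have hσsub : ∀ (x : ↥S) (a₀ : F), σ (x - a₀ • (1 : ↥S)) = σ x - a₀ • (1 : ↥S) := by
    intro x a₀
    apply Subtype.ext
    change sig (x.1 - a₀ • 1) = sig x.1 - a₀ • 1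
    rw [sig_sub, sig_smul, sig_one]
  have hscal : ∀ b : F, IsNilpotent (b • (1 : ↥S)) → b = 0 := by
    rintro b ⟨k, hk⟩
    rw [smul_pow, one_pow] at hk
    rcases smul_eq_zero.mp hk with h | h
    · exact pow_eq_zero_iff (n := k) (by
        rintro rfl
        rw [pow_zero] at h
        exact one_ne_zero h) |>.mp h
    · exact absurd h one_ne_zero
  have hunit2 : IsUnit ((2 : F) • (1 : ↥S)) := by
    refine ⟨⟨(2 : F) • 1, (2 : F)⁻¹ • 1, ?_, ?_⟩, rfl⟩
    · rw [smul_mul_smul_comm, mul_inv_cancel₀ h2, one_smul, one_mul]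
    · rw [smul_mul_smul_comm, inv_mul_cancel₀ h2, one_smul, one_mul]
  -- hypotheses of the Cayley count
  have H3 : ∀ x : ↥S, σ x = -x → IsUnit (1 + x) := by
    intro x hx
    obtain ⟨a₀, ha₀⟩ := hnilS x
    have h1 := hσnil _ ha₀
    rw [hσsub, hx] at h1
    have h3 : IsNilpotent ((x - a₀ • (1 : ↥S)) + (-x - a₀ • (1 : ↥S))) :=
      Commute.isNilpotent_add (Commute.all _ _) ha₀ h1
    have h4 : (x - a₀ • (1 : ↥S)) + (-x - a₀ • (1 : ↥S)) = (-(2 * a₀)) • (1 : ↥S) := by
      rw [neg_smul, mul_smul, two_smul]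
      abel
    rw [h4] at h3
    have h5 : a₀ = 0 := by
      have := hscal _ h3
      have h6 : 2 * a₀ = 0 := neg_eq_zero.mp this
      exact (mul_eq_zero.mp h6).resolve_left h2
    rw [h5, zero_smul, sub_zero] at ha₀
    exact IsNilpotent.isUnit_one_add ha₀
  have H2 : ∀ g : ↥S, g * σ g = 1 → (IsUnit (1 + g) ↔ ¬ IsUnit (1 - g)) := by
    intro g hg
    obtain ⟨a₀, ha₀⟩ := hnilS g
    have h1 := hσnil _ ha₀
    rw [hσsub] at h1
    -- `a₀² = 1`
    set z : ↥S := a₀ • (1 : ↥S) with hz
    have h3 : IsNilpotent (1 - z * z) := by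
      have e : 1 - z * z = z * (σ g - z) + z * (g - z) + (g - z) * (σ g - z) := by
        linear_combination (-1 : ↥S) * hg
      rw [e]
      apply Commute.isNilpotent_add (Commute.all _ _)
      · apply Commute.isNilpotent_add (Commute.all _ _)
        · exact Commute.isNilpotent_mul_left (Commute.all _ _) h1
        · exact Commute.isNilpotent_mul_left (Commute.all _ _) ha₀
      · exact Commute.isNilpotent_mul_left (Commute.all _ _) h1
    have h4 : a₀ ^ 2 = 1 := by
      have e : 1 - z * z = (1 - a₀ ^ 2) • (1 : ↥S) := by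
        rw [hz, smul_mul_smul_comm, one_mul, sub_smul, one_smul, pow_two]
      rw [e] at h3
      have := hscal _ h3
      exact (sub_eq_zero.mp this).symm
    have h5 : a₀ = 1 ∨ a₀ = -1 := by
      have : (a₀ - 1) * (a₀ + 1) = 0 := by linear_combination h4
      rcases mul_eq_zero.mp this with h | h
      · left; exact sub_eq_zero.mp h
      · right; exact eq_neg_of_add_eq_zero_left h
    rcases h5 with h5 | h5
    · -- `g` unipotent
      rw [hz, h5, one_smul] at ha₀
      have hu : IsUnit (1 + g) := by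
        have e : 1 + g = (2 : F) • (1 : ↥S) + (g - 1) := by
          rw [two_smul]; abel
        rw [e]
        exact IsNilpotent.isUnit_add_left_of_commute ha₀ hunit2 (Commute.all _ _)
      have hnu : ¬ IsUnit (1 - g) := by
        have e : 1 - g = -(g - 1) := by abel
        rw [e]
        exact IsNilpotent.not_isUnit ha₀.neg
      exact ⟨fun _ => hnu, fun _ => hu⟩
    · rw [hz, h5, neg_smul, one_smul, sub_neg_eq_add] at ha₀
      have hnu : ¬ IsUnit (1 + g) := by
        rw [add_comm]
        exact IsNilpotent.not_isUnit ha₀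
      have hu : IsUnit (1 - g) := by
        have e : 1 - g = (2 : F) • (1 : ↥S) + (-(g + 1)) := by
          rw [two_smul]; abel
        rw [e]
        exact IsNilpotent.isUnit_add_left_of_commute ha₀.neg hunit2 (Commute.all _ _)
      exact ⟨fun h => absurd h hnu, fun h => absurd hu h⟩
  have hmul : ∀ a b : ↥S, σ (a * b) = σ a * σ b := by
    intro a b
    apply Subtype.ext
    change sig (a.1 * b.1) = sig a.1 * sig b.1
    rw [sig_mul]
    exact hScomm _ (hsigS _ b.2) _ (hsigS _ a.2)
  have hadd : ∀ a b : ↥S, σ (a + b) = σ a + σ b := by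
    intro a b
    apply Subtype.ext
    exact sig_add a.1 b.1
  have hone : σ 1 = 1 := by
    apply Subtype.ext
    exact sig_one
  have hneg : ∀ a : ↥S, σ (-a) = -σ a := by
    intro a
    apply Subtype.ext
    exact sig_neg a.1
  have ht : (2 : ↥S) * ((2 : F)⁻¹ • (1 : ↥S)) = 1 := by
    have e : (2 : ↥S) = (2 : F) • (1 : ↥S) := by
      rw [two_smul, one_add_one_eq_two]
    rw [e, smul_mul_smul_comm, mul_inv_cancel₀ h2, one_smul, one_mul]
  have hcount := card_norm_one σ hmul hadd hone hneg _ ht H2 H3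
  -- the centraliser is the norm one group
  have E1 : ↥(Subgroup.centralizer ({u} : Set ↥(symplecticGroup (Fin m) F))) ≃
      {g : ↥S // g * σ g = 1} :=
    { toFun := fun g => ⟨⟨(g.1 : Matrix (Fin m ⊕ Fin m) (Fin m ⊕ Fin m) F), (hmemS _).mpr (by
          have h := Subgroup.mem_centralizer_iff.mp g.2 u rfl
          have h' := congrArg (fun x : ↥(symplecticGroup (Fin m) F) =>
            (x : Matrix (Fin m ⊕ Fin m) (Fin m ⊕ Fin m) F)) h
          exact h'.symm)⟩,
        Subtype.ext ((mem_symp_iff _).mp g.1.2)⟩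
      invFun := fun x => ⟨⟨x.1.1, (mem_symp_iff _).mpr (congrArg Subtype.val x.2)⟩, by
        rw [Subgroup.mem_centralizer_iff]
        intro h hh
        rw [Set.mem_singleton_iff] at hh
        rw [hh]
        apply Subtype.ext
        exact ((hmemS _).mp x.1.2).symm⟩
      left_inv := fun g => rfl
      right_inv := fun x => rfl }
  have E2 : {a : Fin (2 * m) → F // ∀ k : Fin (2 * m), Even k.val → a k = 0} ≃ {x : ↥S // σ x = -x} := by
    refine Equiv.ofBijective (fun a => ⟨⟨Phi (cc u) (2 * m) a.1, hPhiS a.1⟩, ?_⟩) ⟨?_, ?_⟩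
    · apply Subtype.ext
      exact (sig_Phi_eq_neg_iff h2 (cc u) hcsig (2 * m) hinj a.1).mpr a.2
    · intro a b hab
      apply Subtype.ext
      apply hinj
      exact congrArg (fun x : {x : ↥S // σ x = -x} => x.1.1) hab
    · rintro ⟨⟨X, hX⟩, hx⟩
      obtain ⟨a, rfl⟩ := hparam X hX
      refine ⟨⟨a, ?_⟩, rfl⟩
      exact (sig_Phi_eq_neg_iff h2 (cc u) hcsig (2 * m) hinj a).mp (congrArg Subtype.val hx)
  rw [Nat.card_congr E1, hcount, ← Nat.card_congr E2, card_odd_supported]

theorem two_ne_zero_of_odd_card [Fintype F] (hodd : Odd (Fintype.card F)) : (2 : F) ≠ 0 := by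
  apply Ring.two_ne_zero
  intro h
  have := FiniteField.even_card_of_char_two h
  rw [← Nat.not_even_iff_odd] at hodd
  exact hodd (Nat.even_iff.mpr this)

end main

end Cfsg.Agent.Lib.Helper15.SpReg
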