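import Mathlib
import Cfsg.Agent.Lib.Helper15.SpReg2

/-!
# Norms in a finite local commutative algebra with involution (abstract part)
-/

set_option autoImplicit false

namespace Cfsg.Agent.Lib.Helper15.SpReg

section abstractNorm

variable {F R : Type*} [Field F] [CommRing R]

/-- `a` is the scalar part of `x`: `x - a` is nilpotent -/
def HasSc (ι : F →+* R) (x : R) (a : F) : Prop := IsNilpotent (x - ι a)

theorem HasSc.mul {ι : F →+* R} {x y : R} {a b : F} (hx : HasSc ι x a) (hy : HasSc ι y b) :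
    HasSc ι (x * y) (a * b) := by
  unfold HasSc at *
  have e : x * y - ι (a * b) = (x - ι a) * y + ι a * (y - ι b) := by
    rw [map_mul]; ring
  rw [e]
  exact Commute.isNilpotent_add (Commute.all _ _)
    (Commute.isNilpotent_mul_right (Commute.all _ _) hx)
    (Commute.isNilpotent_mul_left (Commute.all _ _) hy)

theorem HasSc.unique [Nontrivial R] {ι : F →+* R} {x : R} {a b : F} (hx : HasSc ι x a)
    (hx' : HasSc ι x b) : a = b := by
  unfold HasSc at *
  have h1 : IsNilpotent ((x - ι b) - (x - ι a)) :=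
    Commute.isNilpotent_sub (Commute.all _ _) hx' hx
  have e : (x - ι b) - (x - ι a) = ι (a - b) := by
    rw [map_sub]; ring
  rw [e] at h1
  obtain ⟨k, hk⟩ := h1
  rw [← map_pow] at hk
  have h2 : (a - b) ^ k = 0 := by
    apply ι.injective
    rw [hk, map_zero]
  exact sub_eq_zero.mp (pow_eq_zero_iff (n := k) (by
    rintro rfl
    rw [pow_zero] at h2
    exact one_ne_zero h2) |>.mp h2)

theorem HasSc.map {ι : F →+* R} (σ : R →+* R) (hσ : ∀ a, σ (ι a) = ι a) {x : R} {a : F}
    (hx : HasSc ι x a) : HasSc ι (σ x) a := by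
  unfold HasSc at *
  have := hx.map σ
  rwa [map_sub, hσ] at this

theorem HasSc.ne_zero [Nontrivial R] {ι : F →+* R} {x : R} {a : F} (hx : HasSc ι x a)
    (hu : IsUnit x) : a ≠ 0 := by
  rintro rfl
  unfold HasSc at hx
  rw [map_zero, sub_zero] at hx
  exact hx.not_isUnit hu

theorem HasSc.scalar (ι : F →+* R) (a : F) : HasSc ι (ι a) a := by
  unfold HasSc
  rw [sub_self]
  exact IsNilpotent.zero

theorem isNilpotent_mul_sub_one {x y : R} (hx : IsNilpotent (x - 1)) (hy : IsNilpotent (y - 1)) :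
    IsNilpotent (x * y - 1) := by
  have e : x * y - 1 = (x - 1) * y + (y - 1) := by ring
  rw [e]
  exact Commute.isNilpotent_add (Commute.all _ _)
    (Commute.isNilpotent_mul_right (Commute.all _ _) hx) hy

/-- In a finite commutative ring with `2` invertible and a ring endomorphism `σ`, for `σ`-fixed
unipotent `x'`, `x''` there is a `σ`-fixed `r` with `r² x'' = x'`. -/
theorem exists_sq_mul_eq [Finite R] (σ : R →+* R) (hu2 : IsUnit (2 : R)) (x' x'' : R)
    (hx' : σ x' = x') (hx'' : σ x'' = x'') (n' : IsNilpotent (x' - 1))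
    (n'' : IsNilpotent (x'' - 1)) : ∃ r : R, σ r = r ∧ r * r * x'' = x' := by
  let U := {x : R // σ x = x ∧ IsNilpotent (x - 1)}
  let f : U → U := fun r => ⟨r.1 * r.1 * x'', by
    rw [map_mul, map_mul, r.2.1, hx''], isNilpotent_mul_sub_one
      (isNilpotent_mul_sub_one r.2.2 r.2.2) n''⟩
  have hux'' : IsUnit x'' := by
    have e : x'' = 1 + (x'' - 1) := by ring
    rw [e]
    exact IsNilpotent.isUnit_one_add n''
  have hinj : Function.Injective f := by
    intro r s hrs
    have h1 : r.1 * r.1 * x'' = s.1 * s.1 * x'' := congrArg Subtype.val hrs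
    have h2 : r.1 * r.1 = s.1 * s.1 := hux''.mul_right_cancel h1
    have h3 : (r.1 - s.1) * (r.1 + s.1) = 0 := by linear_combination h2
    have h4 : IsUnit (r.1 + s.1) := by
      have e : r.1 + s.1 = 2 + ((r.1 - 1) + (s.1 - 1)) := by ring
      rw [e]
      exact IsNilpotent.isUnit_add_left_of_commute
        (Commute.isNilpotent_add (Commute.all _ _) r.2.2 s.2.2) hu2 (Commute.all _ _)
    have h5 : r.1 - s.1 = 0 := by
      have := congrArg (fun z => z * (↑(h4.unit⁻¹) : R)) h3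
      simpa [mul_assoc] using this
    exact Subtype.ext (sub_eq_zero.mp h5)
  have : Finite U := Subtype.finite
  obtain ⟨r, hr⟩ := (Finite.injective_iff_surjective.mp hinj) ⟨x', hx', n'⟩
  exact ⟨r.1, r.2.1, congrArg Subtype.val hr⟩

theorem exists_norm_eq [Finite R] [Nontrivial R] (ι : F →+* R) (σ : R →+* R)
    (hσι : ∀ a, σ (ι a) = ι a) (h2 : (2 : F) ≠ 0) (k' k'' : R) (hk' : σ k' = k')
    (hk'' : σ k'' = k'') (a' a'' b : F) (ha' : HasSc ι k' a') (ha'' : HasSc ι k'' a'')
    (hne : a'' ≠ 0) (hb0 : b ≠ 0) (hb : a' = b ^ 2 * a'') : ∃ h : R, h * σ h * k'' = k' := by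
  have hne' : a' ≠ 0 := by
    rw [hb]
    exact mul_ne_zero (pow_ne_zero _ hb0) hne
  have hu2 : IsUnit (2 : R) := by
    have e : (2 : R) = ι 2 := by rw [map_ofNat]
    rw [e]
    exact (IsUnit.mk0 _ h2).map ι
  have key : ∀ (k : R) (a : F), a ≠ 0 → HasSc ι k a → IsNilpotent (ι a⁻¹ * k - 1) := by
    intro k a ha hk
    unfold HasSc at hk
    have e : ι a⁻¹ * k - 1 = ι a⁻¹ * (k - ι a) := by
      rw [mul_sub, ← map_mul, inv_mul_cancel₀ ha, map_one]
    rw [e]
    exact Commute.isNilpotent_mul_left (Commute.all _ _) hk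
  obtain ⟨r, hr, hrr⟩ := exists_sq_mul_eq σ hu2 (ι a'⁻¹ * k') (ι a''⁻¹ * k'')
    (by rw [map_mul, hσι, hk']) (by rw [map_mul, hσι, hk'']) (key k' a' hne' ha')
    (key k'' a'' hne ha'')
  refine ⟨ι b * r, ?_⟩
  rw [map_mul, hσι, hr]
  have e1 : ι a' * ι a'⁻¹ = 1 := by rw [← map_mul, mul_inv_cancel₀ hne', map_one]
  have e2 : ι a'' * ι a''⁻¹ = 1 := by rw [← map_mul, mul_inv_cancel₀ hne, map_one]
  have e3 : ι a' = ι b * ι b * ι a'' := by rw [hb, map_mul, map_pow, pow_two]
  calc ι b * r * (ι b * r) * k'' = ι b * ι b * r * r * ((ι a'' * ι a''⁻¹) * k'') := by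
        rw [e2]; ring
    _ = ι b * ι b * ι a'' * (r * r * (ι a''⁻¹ * k'')) := by ring
    _ = ι a' * (ι a'⁻¹ * k') := by rw [hrr, e3]
    _ = (ι a' * ι a'⁻¹) * k' := by ring
    _ = k' := by rw [e1, one_mul]

theorem sq_of_norm_eq [Nontrivial R] (ι : F →+* R) (σ : R →+* R)
    (hσι : ∀ a, σ (ι a) = ι a) (h k' k'' : R) (a' a'' b : F) (hh : HasSc ι h b)
    (ha' : HasSc ι k' a') (ha'' : HasSc ι k'' a'') (heq : h * σ h * k'' = k') :
    a' = b ^ 2 * a'' := by
  have h1 : HasSc ι (h * σ h * k'') (b * b * a'') := (hh.mul (hh.map σ hσι)).mul ha''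
  rw [heq] at h1
  rw [pow_two]
  exact ha'.unique h1

end abstractNorm

end Cfsg.Agent.Lib.Helper15.SpReg
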