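import Mathlib
import Cfsg.Agent.Lib.Helper15.SpReg3

/-!
# The commutant of a regular unipotent element of `Sp_2m(F)` as a commutative ring with involution
-/

set_option autoImplicit false

namespace Cfsg.Agent.Lib.Helper15.SpReg

open Module Matrix

/-- a regular unipotent element of `Sp_2m(F)`, characteristic not two -/
structure RegData (F : Type*) [Field F] (m : ℕ) where
  u : symplecticGroup (Fin m) F
  h2 : (2 : F) ≠ 0
  hm : 1 ≤ m
  hnil : ((u : Matrix (Fin m ⊕ Fin m) (Fin m ⊕ Fin m) F) - 1) ^ (2 * m) = 0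
  hreg : ((u : Matrix (Fin m ⊕ Fin m) (Fin m ⊕ Fin m) F) - 1).rank = 2 * m - 1

namespace RegData

variable {F : Type*} [Field F] {m : ℕ} (D : RegData F m)

/-- the commutant of `u` -/
def S : Subalgebra F (Matrix (Fin m ⊕ Fin m) (Fin m ⊕ Fin m) F) :=
  Subalgebra.centralizer F {(D.u : Matrix (Fin m ⊕ Fin m) (Fin m ⊕ Fin m) F)}

theorem mem_S (X : Matrix (Fin m ⊕ Fin m) (Fin m ⊕ Fin m) F) :
    X ∈ D.S ↔ X * (D.u : Matrix (Fin m ⊕ Fin m) (Fin m ⊕ Fin m) F) = (D.u : Matrix _ _ F) * X := by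
  unfold S
  rw [Subalgebra.mem_centralizer_iff]
  constructor
  · intro h
    exact (h _ rfl).symm
  · intro h g hg
    rw [Set.mem_singleton_iff] at hg
    rw [hg]
    exact h.symm

theorem hcard : Fintype.card (Fin m ⊕ Fin m) = 2 * m := by simp [two_mul]

include D in
theorem hn1 : 1 ≤ 2 * m := by have := D.hm; omega

theorem cnil : cc D.u ^ (2 * m) = 0 := cc_pow_eq_zero D.u _ D.hnil

theorem crank : (cc D.u).rank = 2 * m - 1 := by rw [rank_cc D.h2 D.u _ D.hnil, D.hreg]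

theorem csig : sig (cc D.u) = -cc D.u := sig_cc D.u

theorem hinj : Function.Injective (Phi (cc D.u) (2 * m)) :=
  Phi_injective' (cc D.u) (2 * m) hcard D.hn1 D.cnil D.crank

theorem param (X : Matrix (Fin m ⊕ Fin m) (Fin m ⊕ Fin m) F) (hX : X ∈ D.S) :
    ∃ a, X = Phi (cc D.u) (2 * m) a :=
  exists_Phi' (cc D.u) (2 * m) hcard D.hn1 D.cnil D.crank X (comm_cc D.u X ((D.mem_S X).mp hX))

theorem Phi_mem (a : Fin (2 * m) → F) : Phi (cc D.u) (2 * m) a ∈ D.S := by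
  rw [mem_S]
  have hc : Commute (cc D.u) (D.u : Matrix (Fin m ⊕ Fin m) (Fin m ⊕ Fin m) F) := cc_comm D.u
  have : Commute (Phi (cc D.u) (2 * m) a) (D.u : Matrix (Fin m ⊕ Fin m) (Fin m ⊕ Fin m) F) := by
    unfold Phi
    apply Commute.sum_left
    intro k _
    exact (hc.pow_left _).smul_left _
  exact this.eq

theorem comm (X : Matrix (Fin m ⊕ Fin m) (Fin m ⊕ Fin m) F) (hX : X ∈ D.S)
    (Y : Matrix (Fin m ⊕ Fin m) (Fin m ⊕ Fin m) F) (hY : Y ∈ D.S) : X * Y = Y * X := by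
  obtain ⟨a, rfl⟩ := D.param X hX
  obtain ⟨b, rfl⟩ := D.param Y hY
  exact (Phi_commute (cc D.u) _ a b).eq

theorem sig_mem (X : Matrix (Fin m ⊕ Fin m) (Fin m ⊕ Fin m) F) (hX : X ∈ D.S) : sig X ∈ D.S := by
  obtain ⟨a, rfl⟩ := D.param X hX
  rw [sig_Phi (cc D.u) D.csig]
  exact D.Phi_mem _

instance instCommRingS : CommRing ↥D.S :=
  { (inferInstance : Ring ↥D.S) with
    mul_comm := fun a b => Subtype.ext (D.comm a.1 a.2 b.1 b.2) }

/-- the involution on the commutant -/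
def σ : ↥D.S →+* ↥D.S where
  toFun x := ⟨sig x.1, D.sig_mem x.1 x.2⟩
  map_one' := Subtype.ext sig_one
  map_mul' a b := Subtype.ext (by
    change sig (a.1 * b.1) = sig a.1 * sig b.1
    rw [sig_mul]
    exact D.comm _ (D.sig_mem _ b.2) _ (D.sig_mem _ a.2))
  map_zero' := Subtype.ext sig_zero
  map_add' a b := Subtype.ext (sig_add a.1 b.1)

theorem σ_val (x : ↥D.S) : (D.σ x).1 = sig x.1 := rfl

/-- scalars -/
def ι : F →+* ↥D.S := algebraMap F ↥D.S

theorem ι_val (a : F) : (D.ι a).1 = a • (1 : Matrix (Fin m ⊕ Fin m) (Fin m ⊕ Fin m) F) := by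
  unfold ι
  rw [Subalgebra.coe_algebraMap, Algebra.algebraMap_eq_smul_one]

theorem σ_ι (a : F) : D.σ (D.ι a) = D.ι a := by
  apply Subtype.ext
  rw [σ_val, ι_val, sig_smul, sig_one]

instance instNontrivialS : Nontrivial ↥D.S := ⟨⟨0, 1, fun h => by
  have : Nonempty (Fin m ⊕ Fin m) := ⟨Sum.inl ⟨0, D.hm⟩⟩
  have := congrArg Subtype.val h
  exact zero_ne_one this⟩⟩

instance instFiniteS [Finite F] : Finite ↥D.S := Subtype.finite

theorem isNilpotent_iff (x : ↥D.S) : IsNilpotent x ↔ IsNilpotent x.1 := by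
  constructor
  · rintro ⟨k, hk⟩
    refine ⟨k, ?_⟩
    have := congrArg Subtype.val hk
    exact this
  · rintro ⟨k, hk⟩
    refine ⟨k, ?_⟩
    apply Subtype.ext
    exact hk

theorem hasSc_iff (x : ↥D.S) (a : F) :
    HasSc D.ι x a ↔ IsNilpotent (x.1 - a • (1 : Matrix (Fin m ⊕ Fin m) (Fin m ⊕ Fin m) F)) := by
  unfold HasSc
  rw [isNilpotent_iff]
  have : (x - D.ι a).1 = x.1 - a • (1 : Matrix (Fin m ⊕ Fin m) (Fin m ⊕ Fin m) F) := by
    rw [← ι_val]
    rfl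
  rw [this]

theorem exists_hasSc (x : ↥D.S) : ∃ a : F, HasSc D.ι x a := by
  obtain ⟨a₀, ha₀⟩ := exists_scalar_nilp' (cc D.u) (2 * m) hcard D.cnil D.crank x.1
    (comm_cc D.u x.1 ((D.mem_S x.1).mp x.2))
  exact ⟨a₀, (D.hasSc_iff x a₀).mpr ⟨2 * m, ha₀⟩⟩

end RegData

end Cfsg.Agent.Lib.Helper15.SpReg
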