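import Mathlib
import Cfsg.Agent.Lib.Helper15.SpReg4

/-!
# Conjugacy of regular unipotent elements of `Sp_2m(F)` in terms of a square class
-/

set_option autoImplicit false

namespace Cfsg.Agent.Lib.Helper15.SpReg

open Module Matrix

section rel

variable {F : Type*} [Field F] {m : ℕ}

theorem sig_conj_rel (u v : symplecticGroup (Fin m) F)
    (P : Matrix (Fin m ⊕ Fin m) (Fin m ⊕ Fin m) F)
    (hP : P * (u : Matrix (Fin m ⊕ Fin m) (Fin m ⊕ Fin m) F) = (v : Matrix _ _ F) * P) :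
    sig P * (v : Matrix (Fin m ⊕ Fin m) (Fin m ⊕ Fin m) F) = (u : Matrix _ _ F) * sig P := by
  have h1 := congrArg sig hP
  rw [sig_mul, sig_mul, sig_coe, sig_coe] at h1
  -- h1 : ↑u⁻¹ * sig P = sig P * ↑v⁻¹
  calc sig P * (v : Matrix (Fin m ⊕ Fin m) (Fin m ⊕ Fin m) F)
      = ((u : Matrix (Fin m ⊕ Fin m) (Fin m ⊕ Fin m) F) *
          ((u⁻¹ : symplecticGroup (Fin m) F) : Matrix (Fin m ⊕ Fin m) (Fin m ⊕ Fin m) F)) *
          sig P * (v : Matrix _ _ F) := by rw [coe_mul_inv, Matrix.one_mul]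
    _ = (u : Matrix (Fin m ⊕ Fin m) (Fin m ⊕ Fin m) F) *
          (((u⁻¹ : symplecticGroup (Fin m) F) : Matrix (Fin m ⊕ Fin m) (Fin m ⊕ Fin m) F) * sig P) *
          (v : Matrix _ _ F) := by simp only [Matrix.mul_assoc]
    _ = (u : Matrix (Fin m ⊕ Fin m) (Fin m ⊕ Fin m) F) *
          (sig P * ((v⁻¹ : symplecticGroup (Fin m) F) : Matrix (Fin m ⊕ Fin m) (Fin m ⊕ Fin m) F)) *
          (v : Matrix _ _ F) := by rw [h1]
    _ = (u : Matrix (Fin m ⊕ Fin m) (Fin m ⊕ Fin m) F) * sig P *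
          (((v⁻¹ : symplecticGroup (Fin m) F) : Matrix (Fin m ⊕ Fin m) (Fin m ⊕ Fin m) F) *
          (v : Matrix _ _ F)) := by simp only [Matrix.mul_assoc]
    _ = _ := by rw [coe_inv_mul, Matrix.mul_one]

theorem inv_conj_rel (X Y P Pi : Matrix (Fin m ⊕ Fin m) (Fin m ⊕ Fin m) F) (h1 : P * Pi = 1)
    (hP : P * X = Y * P) : X * Pi = Pi * Y := by
  have h2 : Pi * P = 1 := mul_eq_one_comm.mp h1
  calc X * Pi = (Pi * P) * X * Pi := by rw [h2, Matrix.one_mul]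
    _ = Pi * (P * X) * Pi := by simp only [Matrix.mul_assoc]
    _ = Pi * (Y * P) * Pi := by rw [hP]
    _ = Pi * Y * (P * Pi) := by simp only [Matrix.mul_assoc]
    _ = Pi * Y := by rw [h1, Matrix.mul_one]

theorem sig_inv_mul (P Pi : Matrix (Fin m ⊕ Fin m) (Fin m ⊕ Fin m) F) (h1 : P * Pi = 1) :
    sig Pi * sig P = 1 := by
  rw [← sig_mul, h1, sig_one]

theorem sig_sigmul (P : Matrix (Fin m ⊕ Fin m) (Fin m ⊕ Fin m) F) :
    sig (sig P * P) = sig P * P := by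
  rw [sig_mul, sig_sig]

end rel

namespace RegData

variable {F : Type*} [Field F] {m : ℕ} (D : RegData F m)

theorem sigmul_mem (u' : symplecticGroup (Fin m) F)
    (P : Matrix (Fin m ⊕ Fin m) (Fin m ⊕ Fin m) F)
    (hP : P * (D.u : Matrix (Fin m ⊕ Fin m) (Fin m ⊕ Fin m) F) = (u' : Matrix _ _ F) * P) :
    sig P * P ∈ D.S := by
  rw [mem_S]
  have h1 := sig_conj_rel D.u u' P hP
  calc sig P * P * (D.u : Matrix (Fin m ⊕ Fin m) (Fin m ⊕ Fin m) F)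
      = sig P * (P * (D.u : Matrix (Fin m ⊕ Fin m) (Fin m ⊕ Fin m) F)) := by
        simp only [Matrix.mul_assoc]
    _ = (sig P * (u' : Matrix (Fin m ⊕ Fin m) (Fin m ⊕ Fin m) F)) * P := by
        rw [hP]; simp only [Matrix.mul_assoc]
    _ = _ := by rw [h1]; simp only [Matrix.mul_assoc]

/-- the scalar part of `σ(P) P` exists and is nonzero -/
theorem exists_sc (u' : symplecticGroup (Fin m) F)
    (P Pi : Matrix (Fin m ⊕ Fin m) (Fin m ⊕ Fin m) F) (h1 : P * Pi = 1)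
    (hP : P * (D.u : Matrix (Fin m ⊕ Fin m) (Fin m ⊕ Fin m) F) = (u' : Matrix _ _ F) * P) :
    ∃ a : F, a ≠ 0 ∧
      IsNilpotent (sig P * P - a • (1 : Matrix (Fin m ⊕ Fin m) (Fin m ⊕ Fin m) F)) := by
  have : Nonempty (Fin m ⊕ Fin m) := ⟨Sum.inl ⟨0, D.hm⟩⟩
  obtain ⟨a, ha⟩ := D.exists_hasSc ⟨sig P * P, D.sigmul_mem u' P hP⟩
  have ha' := (D.hasSc_iff _ a).mp ha
  refine ⟨a, ?_, ha'⟩
  rintro rfl
  rw [zero_smul, sub_zero] at ha'
  apply ha'.not_isUnit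
  have h2 : Pi * P = 1 := mul_eq_one_comm.mp h1
  have h3 : (sig P * P) * (Pi * sig Pi) = 1 := by
    calc (sig P * P) * (Pi * sig Pi) = sig P * (P * Pi) * sig Pi := by
          simp only [Matrix.mul_assoc]
      _ = 1 := by rw [h1, Matrix.mul_one, ← sig_mul, h2, sig_one]
  exact ⟨⟨_, _, h3, mul_eq_one_comm.mp h3⟩, rfl⟩

/-- if the scalar parts of `σ(P') P'` and `σ(P'') P''` differ by a square, the conjugates of `u`
by `P'` and `P''` are conjugate in the symplectic group -/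
theorem isConj_of_sq [Finite F] (u' u'' : symplecticGroup (Fin m) F)
    (P' P'i P'' : Matrix (Fin m ⊕ Fin m) (Fin m ⊕ Fin m) F) (h'1 : P' * P'i = 1)
    (hP' : P' * (D.u : Matrix (Fin m ⊕ Fin m) (Fin m ⊕ Fin m) F) = (u' : Matrix _ _ F) * P')
    (hP'' : P'' * (D.u : Matrix (Fin m ⊕ Fin m) (Fin m ⊕ Fin m) F) = (u'' : Matrix _ _ F) * P'')
    (a' a'' b : F)
    (ha' : IsNilpotent (sig P' * P' - a' • (1 : Matrix (Fin m ⊕ Fin m) (Fin m ⊕ Fin m) F)))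
    (ha'' : IsNilpotent (sig P'' * P'' - a'' • (1 : Matrix (Fin m ⊕ Fin m) (Fin m ⊕ Fin m) F)))
    (hne : a'' ≠ 0) (hb0 : b ≠ 0) (hb : a' = b ^ 2 * a'') : IsConj u' u'' := by
  set k' : ↥D.S := ⟨sig P' * P', D.sigmul_mem u' P' hP'⟩ with hk'def
  set k'' : ↥D.S := ⟨sig P'' * P'', D.sigmul_mem u'' P'' hP''⟩ with hk''def
  have hk' : D.σ k' = k' := Subtype.ext (sig_sigmul P')
  have hk'' : D.σ k'' = k'' := Subtype.ext (sig_sigmul P'')
  obtain ⟨h, hh⟩ := exists_norm_eq D.ι D.σ D.σ_ι D.h2 k' k'' hk' hk'' a' a'' b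
    ((D.hasSc_iff k' a').mpr ha') ((D.hasSc_iff k'' a'').mpr ha'') hne hb0 hb
  have hh2 : D.σ h * k'' * h = k' := by rw [← hh]; ring
  have hhm : sig h.1 * (sig P'' * P'') * h.1 = sig P' * P' := congrArg Subtype.val hh2
  have hhS : h.1 * (D.u : Matrix (Fin m ⊕ Fin m) (Fin m ⊕ Fin m) F) = (D.u : Matrix _ _ F) * h.1 :=
    (D.mem_S h.1).mp h.2
  set Qm : Matrix (Fin m ⊕ Fin m) (Fin m ⊕ Fin m) F := P'' * h.1 * P'i with hQm
  have hQ1 : sig Qm * Qm = 1 := by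
    have e1 : sig Qm = sig P'i * (sig h.1 * sig P'') := by
      rw [hQm, sig_mul, sig_mul]
    rw [e1, hQm]
    calc sig P'i * (sig h.1 * sig P'') * (P'' * h.1 * P'i)
        = sig P'i * (sig h.1 * (sig P'' * P'') * h.1) * P'i := by simp only [Matrix.mul_assoc]
      _ = (sig P'i * sig P') * (P' * P'i) := by rw [hhm]; simp only [Matrix.mul_assoc]
      _ = 1 := by rw [sig_inv_mul P' P'i h'1, h'1, Matrix.one_mul]
  have hQ2 : Qm * sig Qm = 1 := mul_eq_one_comm.mp hQ1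
  have hrel : Qm * (u' : Matrix (Fin m ⊕ Fin m) (Fin m ⊕ Fin m) F) = (u'' : Matrix _ _ F) * Qm := by
    have e1 := inv_conj_rel _ _ P' P'i h'1 hP'
    rw [hQm]
    calc P'' * h.1 * P'i * (u' : Matrix (Fin m ⊕ Fin m) (Fin m ⊕ Fin m) F)
        = P'' * h.1 * (P'i * (u' : Matrix (Fin m ⊕ Fin m) (Fin m ⊕ Fin m) F)) := by
          simp only [Matrix.mul_assoc]
      _ = P'' * (h.1 * (D.u : Matrix (Fin m ⊕ Fin m) (Fin m ⊕ Fin m) F)) * P'i := by
          rw [← e1]; simp only [Matrix.mul_assoc]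
      _ = (P'' * (D.u : Matrix (Fin m ⊕ Fin m) (Fin m ⊕ Fin m) F)) * h.1 * P'i := by
          rw [hhS]; simp only [Matrix.mul_assoc]
      _ = _ := by rw [hP'']; simp only [Matrix.mul_assoc]
  rw [isConj_iff]
  refine ⟨⟨Qm, (mem_symp_iff _).mpr hQ2⟩, ?_⟩
  rw [mul_inv_eq_iff_eq_mul]
  apply Subtype.ext
  exact hrel

/-- conversely, conjugacy in the symplectic group forces the scalar parts to differ by a square -/
theorem sq_of_isConj (u' u'' : symplecticGroup (Fin m) F)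
    (P' P'' P''i : Matrix (Fin m ⊕ Fin m) (Fin m ⊕ Fin m) F) (h''1 : P'' * P''i = 1)
    (hP' : P' * (D.u : Matrix (Fin m ⊕ Fin m) (Fin m ⊕ Fin m) F) = (u' : Matrix _ _ F) * P')
    (hP'' : P'' * (D.u : Matrix (Fin m ⊕ Fin m) (Fin m ⊕ Fin m) F) = (u'' : Matrix _ _ F) * P'')
    (a' a'' : F)
    (ha' : IsNilpotent (sig P' * P' - a' • (1 : Matrix (Fin m ⊕ Fin m) (Fin m ⊕ Fin m) F)))
    (ha'' : IsNilpotent (sig P'' * P'' - a'' • (1 : Matrix (Fin m ⊕ Fin m) (Fin m ⊕ Fin m) F)))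
    (hconj : IsConj u' u'') : ∃ b : F, a' = b ^ 2 * a'' := by
  obtain ⟨Q, hQ⟩ := isConj_iff.mp hconj
  rw [mul_inv_eq_iff_eq_mul] at hQ
  have hQm : (Q : Matrix (Fin m ⊕ Fin m) (Fin m ⊕ Fin m) F) * (u' : Matrix _ _ F) =
      (u'' : Matrix _ _ F) * (Q : Matrix _ _ F) := congrArg Subtype.val hQ
  set k' : ↥D.S := ⟨sig P' * P', D.sigmul_mem u' P' hP'⟩ with hk'def
  set k'' : ↥D.S := ⟨sig P'' * P'', D.sigmul_mem u'' P'' hP''⟩ with hk''def
  set hmat : Matrix (Fin m ⊕ Fin m) (Fin m ⊕ Fin m) F := P''i * (Q : Matrix _ _ F) * P' with hhmat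
  have e1 := inv_conj_rel _ _ P'' P''i h''1 hP''
  have hmem : hmat ∈ D.S := by
    rw [mem_S, hhmat]
    calc P''i * (Q : Matrix (Fin m ⊕ Fin m) (Fin m ⊕ Fin m) F) * P' * (D.u : Matrix _ _ F)
        = P''i * (Q : Matrix (Fin m ⊕ Fin m) (Fin m ⊕ Fin m) F) * (P' * (D.u : Matrix _ _ F)) := by
          simp only [Matrix.mul_assoc]
      _ = P''i * ((Q : Matrix (Fin m ⊕ Fin m) (Fin m ⊕ Fin m) F) * (u' : Matrix _ _ F)) * P' := by
          rw [hP']; simp only [Matrix.mul_assoc]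
      _ = (P''i * (u'' : Matrix (Fin m ⊕ Fin m) (Fin m ⊕ Fin m) F)) * (Q : Matrix _ _ F) * P' := by
          rw [hQm]; simp only [Matrix.mul_assoc]
      _ = _ := by rw [← e1]; simp only [Matrix.mul_assoc]
  set h : ↥D.S := ⟨hmat, hmem⟩ with hh
  obtain ⟨b, hb⟩ := D.exists_hasSc h
  refine ⟨b, ?_⟩
  apply sq_of_norm_eq D.ι D.σ D.σ_ι h k' k'' a' a'' b hb ((D.hasSc_iff k' a').mpr ha')
    ((D.hasSc_iff k'' a'').mpr ha'')
  have e2 : h * D.σ h * k'' = D.σ h * k'' * h := by ring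
  rw [e2]
  apply Subtype.ext
  change sig hmat * (sig P'' * P'') * hmat = sig P' * P'
  have e3 : sig hmat = sig P' * (sig (Q : Matrix (Fin m ⊕ Fin m) (Fin m ⊕ Fin m) F) * sig P''i) := by
    rw [hhmat, sig_mul, sig_mul]
  have e4 : sig (Q : Matrix (Fin m ⊕ Fin m) (Fin m ⊕ Fin m) F) * (Q : Matrix _ _ F) = 1 := by
    rw [sig_coe, coe_inv_mul]
  rw [e3, hhmat]
  calc sig P' * (sig (Q : Matrix (Fin m ⊕ Fin m) (Fin m ⊕ Fin m) F) * sig P''i) * (sig P'' * P'') *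
        (P''i * (Q : Matrix _ _ F) * P')
      = sig P' * (sig (Q : Matrix (Fin m ⊕ Fin m) (Fin m ⊕ Fin m) F) *
          ((sig P''i * sig P'') * (P'' * P''i)) * (Q : Matrix _ _ F)) * P' := by
        simp only [Matrix.mul_assoc]
    _ = sig P' * (sig (Q : Matrix (Fin m ⊕ Fin m) (Fin m ⊕ Fin m) F) * (Q : Matrix _ _ F)) * P' := by
        rw [sig_inv_mul P'' P''i h''1, h''1, Matrix.one_mul, Matrix.mul_one]
    _ = sig P' * P' := by rw [e4, Matrix.mul_one]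

end RegData

end Cfsg.Agent.Lib.Helper15.SpReg
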