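import Mathlib
import Cfsg.Agent.Lib.Helper15.SpReg5

/-!
# Existence of regular unipotent elements of `Sp_2m(F)`; conjugacy in `GL`
-/

set_option autoImplicit false

namespace Cfsg.Agent.Lib.Helper15.SpReg

open Module Matrix

section existence

variable {F : Type*} [Field F] {m : ℕ}

theorem sig_fromBlocks (A B C D : Matrix (Fin m) (Fin m) F) :
    sig (fromBlocks A B C D) = fromBlocks Dᵀ (-Bᵀ) (-Cᵀ) Aᵀ := by
  unfold sig J
  rw [fromBlocks_transpose, fromBlocks_neg, fromBlocks_multiply, fromBlocks_multiply]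
  simp

/-- the elementary matrix `E₀₀` -/
def Bm (F : Type*) [Field F] (m : ℕ) : Matrix (Fin m) (Fin m) F :=
  Matrix.of fun i j => if (i : ℕ) = 0 ∧ (j : ℕ) = 0 then 1 else 0

theorem Bm_apply (i j : Fin m) : Bm F m i j = if (i : ℕ) = 0 ∧ (j : ℕ) = 0 then 1 else 0 := rfl

theorem Bm_transpose : (Bm F m)ᵀ = Bm F m := by
  ext i j
  rw [transpose_apply, Bm_apply, Bm_apply]
  simp only [and_comm]

/-- a regular nilpotent element of the symplectic Lie algebra -/
def Nm (F : Type*) [Field F] (m : ℕ) : Matrix (Fin m ⊕ Fin m) (Fin m ⊕ Fin m) F :=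
  fromBlocks (shiftMat F m) (Bm F m) 0 (-(shiftMat F m)ᵀ)

theorem sig_Nm : sig (Nm F m) = -Nm F m := by
  unfold Nm
  rw [sig_fromBlocks, fromBlocks_neg, Bm_transpose]
  simp

theorem Nm_pow (k : ℕ) : ∃ X : Matrix (Fin m) (Fin m) F,
    Nm F m ^ k = fromBlocks (shiftMat F m ^ k) X 0 ((-(shiftMat F m)ᵀ) ^ k) := by
  induction k with
  | zero => exact ⟨0, by simp [fromBlocks_one]⟩
  | succ k ih =>
    obtain ⟨X, hX⟩ := ih
    refine ⟨shiftMat F m ^ k * Bm F m + X * (-(shiftMat F m)ᵀ), ?_⟩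
    rw [pow_succ, hX]
    unfold Nm
    rw [fromBlocks_multiply]
    simp [pow_succ]

theorem Nm_nil : Nm F m ^ (2 * m) = 0 := by
  obtain ⟨X, hX⟩ := Nm_pow (F := F) (m := m) m
  have h1 : (-(shiftMat F m)ᵀ) ^ m = 0 := by
    rw [neg_pow, ← transpose_pow, shiftMat_pow_self, transpose_zero, mul_zero]
  rw [shiftMat_pow_self, h1] at hX
  rw [two_mul, pow_add, hX, fromBlocks_multiply]
  simp

theorem Nm_rank_le (hm : 1 ≤ m) : (Nm F m).rank ≤ 2 * m - 1 := by
  classical
  have h := rank_le_card_of_support_subset (Nm F m)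
    (Finset.univ.erase (Sum.inr (⟨m - 1, by omega⟩ : Fin m))) (by
      intro i hi
      rw [Function.mem_support] at hi
      rw [Finset.coe_erase, Set.mem_sdiff, Set.mem_singleton_iff]
      refine ⟨Finset.mem_coe.mpr (Finset.mem_univ _), ?_⟩
      rintro rfl
      apply hi
      funext j
      rcases j with j | j
      · simp [Nm, Matrix.row]
      · change (-(shiftMat F m)ᵀ) (⟨m - 1, by omega⟩ : Fin m) j = (0 : F)
        rw [Matrix.neg_apply, transpose_apply, shiftMat_apply, if_neg, neg_zero]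
        have := j.2
        simp only
        omega)
  rw [Finset.card_erase_of_mem (Finset.mem_univ _), Finset.card_univ, RegData.hcard] at h
  exact h

theorem shift_transpose_mul_self :
    (shiftMat F m)ᵀ * shiftMat F m = diagonal (fun j : Fin m => if (j : ℕ) + 1 < m then 1 else 0) := by
  ext j k
  rw [Matrix.mul_apply, diagonal_apply]
  simp only [transpose_apply, shiftMat_apply]
  by_cases hj : (j : ℕ) + 1 < m
  · rw [Finset.sum_eq_single (⟨(j : ℕ) + 1, hj⟩ : Fin m)]
    · simp only [if_true]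
      by_cases hjk : j = k
      · subst hjk
        simp [hj]
      · rw [if_neg hjk, one_mul, if_neg]
        intro h
        apply hjk
        apply Fin.ext
        omega
    · intro i _ hi
      rw [if_neg, zero_mul]
      intro h
      apply hi
      apply Fin.ext
      exact h
    · intro h
      exact absurd (Finset.mem_univ _) h
  · rw [Finset.sum_eq_zero]
    · split_ifs <;> rfl
    · intro i _
      rw [if_neg, zero_mul]
      have := i.2
      omega

theorem shift_transpose_mul_Bm : (shiftMat F m)ᵀ * Bm F m = 0 := by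
  ext j k
  rw [Matrix.mul_apply, Matrix.zero_apply]
  apply Finset.sum_eq_zero
  intro i _
  rw [transpose_apply, shiftMat_apply, Bm_apply]
  by_cases h : (i : ℕ) = (j : ℕ) + 1
  · rw [if_pos h, if_neg, mul_zero]
    omega
  · rw [if_neg h, zero_mul]

theorem Bm_mul_shift : Bm F m * shiftMat F m = 0 := by
  ext i k
  rw [Matrix.mul_apply, Matrix.zero_apply]
  apply Finset.sum_eq_zero
  intro j _
  rw [shiftMat_apply, Bm_apply]
  by_cases h : (j : ℕ) = (k : ℕ) + 1
  · rw [if_pos h, if_neg, zero_mul]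
    omega
  · rw [if_neg h, mul_zero]

theorem Bm_sq_add : Bm F m * Bm F m + shiftMat F m * (shiftMat F m)ᵀ = 1 := by
  ext i k
  rw [Matrix.add_apply, Matrix.mul_apply, Matrix.mul_apply, Matrix.one_apply]
  simp only [transpose_apply, shiftMat_apply, Bm_apply]
  by_cases hi : (i : ℕ) = 0
  · have h2 : ∑ j : Fin m, (if (i : ℕ) = (j : ℕ) + 1 then (1 : F) else 0) *
        (if (k : ℕ) = (j : ℕ) + 1 then (1 : F) else 0) = 0 := by
      apply Finset.sum_eq_zero
      intro j _
      rw [if_neg, zero_mul]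
      omega
    rw [h2, add_zero, Finset.sum_eq_single i]
    · by_cases hik : i = k
      · subst hik
        simp [hi]
      · rw [if_neg hik]
        have : ¬ ((i : ℕ) = 0 ∧ (k : ℕ) = 0) := by
          rintro ⟨_, h⟩
          apply hik
          apply Fin.ext
          omega
        rw [if_neg this, mul_zero]
    · intro j _ hj
      have : ¬ ((i : ℕ) = 0 ∧ (j : ℕ) = 0) := by
        rintro ⟨_, h⟩
        apply hj
        apply Fin.ext
        omega
      rw [if_neg this, zero_mul]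
    · intro h
      exact absurd (Finset.mem_univ _) h
  · have h1 : ∑ j : Fin m, (if (i : ℕ) = 0 ∧ (j : ℕ) = 0 then (1 : F) else 0) *
        (if (j : ℕ) = 0 ∧ (k : ℕ) = 0 then (1 : F) else 0) = 0 := by
      apply Finset.sum_eq_zero
      intro j _
      rw [if_neg, zero_mul]
      rintro ⟨h, _⟩
      exact hi h
    rw [h1, zero_add]
    have hlt : (i : ℕ) - 1 < m := by have := i.2; omega
    rw [Finset.sum_eq_single (⟨(i : ℕ) - 1, hlt⟩ : Fin m)]
    · have e : (i : ℕ) = (i : ℕ) - 1 + 1 := by omega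
      simp only
      rw [if_pos e, one_mul]
      by_cases hik : i = k
      · subst hik
        rw [if_pos e, if_pos rfl]
      · rw [if_neg hik, if_neg]
        intro h
        apply hik
        apply Fin.ext
        omega
    · intro j _ hj
      rw [if_neg, zero_mul]
      intro h
      apply hj
      apply Fin.ext
      simp only
      omega
    · intro h
      exact absurd (Finset.mem_univ _) h

theorem Nm_transpose_mul_self : (Nm F m)ᵀ * Nm F m =
    diagonal (Sum.elim (fun j : Fin m => if (j : ℕ) + 1 < m then (1 : F) else 0) (fun _ => 1)) := by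
  unfold Nm
  rw [fromBlocks_transpose, fromBlocks_multiply, ← fromBlocks_diagonal]
  congr 1
  · simp [shift_transpose_mul_self]
  · simp [shift_transpose_mul_Bm]
  · simp [Bm_transpose, Bm_mul_shift]
  · simp [Bm_transpose, Bm_sq_add]

theorem Nm_rank (hm : 1 ≤ m) : (Nm F m).rank = 2 * m - 1 := by
  classical
  apply le_antisymm (Nm_rank_le hm)
  have h1 : ((Nm F m)ᵀ * Nm F m).rank = 2 * m - 1 := by
    rw [Nm_transpose_mul_self, rank_diagonal]
    have h2 := Fintype.card_subtype_compl (fun i : Fin m ⊕ Fin m =>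
      Sum.elim (fun j : Fin m => if (j : ℕ) + 1 < m then (1 : F) else 0) (fun _ => 1) i = 0)
    have h3 : Fintype.card {i : Fin m ⊕ Fin m //
        Sum.elim (fun j : Fin m => if (j : ℕ) + 1 < m then (1 : F) else 0) (fun _ => 1) i = 0} = 1 := by
      rw [Fintype.card_eq_one_iff]
      refine ⟨⟨Sum.inl ⟨m - 1, by omega⟩, by
        simp only [Sum.elim_inl]
        rw [if_neg]
        omega⟩, ?_⟩
      rintro ⟨j | j, hj⟩
      · apply Subtype.ext
        simp only [Sum.elim_inl] at hj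
        have : ¬ ((j : ℕ) + 1 < m) := by
          intro h
          rw [if_pos h] at hj
          exact one_ne_zero hj
        simp only [Sum.inl.injEq]
        apply Fin.ext
        have := j.2
        simp only
        omega
      · simp only [Sum.elim_inr] at hj
        exact absurd hj one_ne_zero
    rw [h3, RegData.hcard] at h2
    convert h2 using 2
  rw [← h1]
  exact rank_mul_le_right _ _


/-- Cayley transform of a nilpotent skew element -/
theorem exists_cayley (h2 : (2 : F) ≠ 0) (N : Matrix (Fin m ⊕ Fin m) (Fin m ⊕ Fin m) F) (k : ℕ)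
    (hN : N ^ k = 0) (hsig : sig N = -N) :
    ∃ g : symplecticGroup (Fin m) F,
      ((g : Matrix (Fin m ⊕ Fin m) (Fin m ⊕ Fin m) F) - 1) ^ k = 0 ∧
      ((g : Matrix (Fin m ⊕ Fin m) (Fin m ⊕ Fin m) F) - 1).rank = N.rank := by
  classical
  set W : Matrix (Fin m ⊕ Fin m) (Fin m ⊕ Fin m) F := ∑ i ∈ Finset.range k, N ^ i with hW
  set W' : Matrix (Fin m ⊕ Fin m) (Fin m ⊕ Fin m) F := ∑ i ∈ Finset.range k, (-N) ^ i with hW'
  have h1 : (1 - N) * W = 1 := by rw [hW, mul_neg_geom_sum, hN, sub_zero]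
  have h1' : W * (1 - N) = 1 := by rw [hW, geom_sum_mul_neg, hN, sub_zero]
  have hNk : (-N) ^ k = 0 := by rw [neg_pow, hN, mul_zero]
  have h2' : (1 + N) * W' = 1 := by
    have : (1 + N) = 1 - (-N) := by rw [sub_neg_eq_add]
    rw [this, hW', mul_neg_geom_sum, hNk, sub_zero]
  have hsW : sig W = W' := by
    rw [hW, sig_sum]
    apply Finset.sum_congr rfl
    intro i _
    rw [sig_pow, hsig]
  have hcNW : Commute N W := by
    rw [hW]
    apply Commute.sum_right
    intro i _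
    exact (Commute.refl N).pow_right i
  have hcWW' : Commute W W' := by
    rw [hW, hW']
    apply Commute.sum_left
    intro i _
    apply Commute.sum_right
    intro j _
    exact (Commute.refl N).neg_right.pow_pow i j
  set gm : Matrix (Fin m ⊕ Fin m) (Fin m ⊕ Fin m) F := (1 + N) * W with hgm
  have hsg : sig gm = W' * (1 - N) := by
    rw [hgm, sig_mul, hsW, sig_add, sig_one, hsig, ← sub_eq_add_neg]
  have hg : gm * sig gm = 1 := by
    rw [hsg, hgm]
    calc (1 + N) * W * (W' * (1 - N)) = (1 + N) * (W * W') * (1 - N) := by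
          simp only [Matrix.mul_assoc]
      _ = (1 + N) * (W' * W) * (1 - N) := by rw [hcWW'.eq]
      _ = ((1 + N) * W') * (W * (1 - N)) := by simp only [Matrix.mul_assoc]
      _ = 1 := by rw [h2', h1', Matrix.one_mul]
  have hgm1 : gm - 1 = N * ((2 : F) • W) := by
    calc gm - 1 = (1 + N) * W - (1 - N) * W := by rw [h1]
      _ = N * ((2 : F) • W) := by
        rw [Matrix.add_mul, Matrix.sub_mul, Matrix.mul_smul, two_smul]
        abel
  refine ⟨⟨gm, (mem_symp_iff _).mpr hg⟩, ?_, ?_⟩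
  · change (gm - 1) ^ k = 0
    rw [hgm1, (hcNW.smul_right _).mul_pow, hN, Matrix.zero_mul]
  · change (gm - 1).rank = N.rank
    rw [hgm1]
    apply rank_mul_eq_left_of_isUnit_det
    rw [← Matrix.isUnit_iff_isUnit_det]
    refine ⟨⟨(2 : F) • W, (2 : F)⁻¹ • (1 - N), ?_, ?_⟩, rfl⟩
    · rw [smul_mul_smul_comm, mul_inv_cancel₀ h2, one_smul, h1']
    · rw [smul_mul_smul_comm, inv_mul_cancel₀ h2, one_smul, h1]

/-- a regular unipotent element of the symplectic group -/
theorem exists_regUnip (h2 : (2 : F) ≠ 0) (hm : 1 ≤ m) :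
    ∃ g : symplecticGroup (Fin m) F,
      ((g : Matrix (Fin m ⊕ Fin m) (Fin m ⊕ Fin m) F) - 1) ^ (2 * m) = 0 ∧
      ((g : Matrix (Fin m ⊕ Fin m) (Fin m ⊕ Fin m) F) - 1).rank = 2 * m - 1 := by
  obtain ⟨g, h1, h3⟩ := exists_cayley h2 (Nm F m) (2 * m) Nm_nil sig_Nm
  exact ⟨g, h1, by rw [h3, Nm_rank hm]⟩

end existence

section conj

variable {F : Type*} [Field F] {ι : Type*} [Fintype ι] [DecidableEq ι]

theorem conj_pow (P Pi X : Matrix ι ι F) (h : Pi * P = 1) (k : ℕ) :
    (P * X * Pi) ^ k = P * X ^ k * Pi := by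
  induction k with
  | zero =>
    rw [pow_zero, pow_zero, Matrix.mul_one]
    exact (mul_eq_one_comm.mp h).symm
  | succ k ih =>
    rw [pow_succ, ih, pow_succ]
    calc P * X ^ k * Pi * (P * X * Pi) = P * X ^ k * (Pi * P) * X * Pi := by
          simp only [Matrix.mul_assoc]
      _ = P * (X ^ k * X) * Pi := by rw [h, Matrix.mul_one]; simp only [Matrix.mul_assoc]

theorem conj_rank (P Pi X : Matrix ι ι F) (h : P * Pi = 1) : (P * X * Pi).rank = X.rank := by
  have h' : Pi * P = 1 := mul_eq_one_comm.mp h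
  have hP : IsUnit P.det := (Matrix.isUnit_iff_isUnit_det _).mp ⟨⟨P, Pi, h, h'⟩, rfl⟩
  have hPi : IsUnit Pi.det := (Matrix.isUnit_iff_isUnit_det _).mp ⟨⟨Pi, P, h', h⟩, rfl⟩
  rw [rank_mul_eq_left_of_isUnit_det _ _ hPi, rank_mul_eq_right_of_isUnit_det _ _ hP]

/-- two regular nilpotent matrices are conjugate -/
theorem exists_conj_of_regular (n : ℕ) (hn : Fintype.card ι = n) (h1 : 1 ≤ n)
    (N₁ N₂ : Matrix ι ι F) (hnil₁ : N₁ ^ n = 0) (hrank₁ : N₁.rank = n - 1)
    (hnil₂ : N₂ ^ n = 0) (hrank₂ : N₂.rank = n - 1) :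
    ∃ P Pi : Matrix ι ι F, P * Pi = 1 ∧ P * N₁ = N₂ * P := by
  let e : ι ≃ Fin n := Fintype.equivFinOfCardEq hn
  let r := Matrix.reindexAlgEquiv F F e
  have hr : ∀ X : Matrix ι ι F, (r X).rank = X.rank := by
    intro X
    change (Matrix.reindex e e X).rank = X.rank
    rw [rank_reindex]
  obtain ⟨Q₁, hd₁, hQ₁⟩ := exists_conj_shift h1 (r N₁) (by rw [← map_pow, hnil₁, map_zero])
    (by rw [hr, hrank₁])
  obtain ⟨Q₂, hd₂, hQ₂⟩ := exists_conj_shift h1 (r N₂) (by rw [← map_pow, hnil₂, map_zero])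
    (by rw [hr, hrank₂])
  have e1 : Q₁⁻¹ * r N₁ = shiftMat F n * Q₁⁻¹ := by
    calc Q₁⁻¹ * r N₁ = Q₁⁻¹ * (r N₁ * Q₁) * Q₁⁻¹ := by
          rw [Matrix.mul_assoc, Matrix.mul_assoc, Matrix.mul_nonsing_inv _ hd₁, Matrix.mul_one]
      _ = (Q₁⁻¹ * Q₁) * shiftMat F n * Q₁⁻¹ := by rw [hQ₁]; simp only [Matrix.mul_assoc]
      _ = _ := by rw [Matrix.nonsing_inv_mul _ hd₁, Matrix.one_mul]
  have e2 : (Q₂ * Q₁⁻¹) * r N₁ = r N₂ * (Q₂ * Q₁⁻¹) := by
    rw [Matrix.mul_assoc, e1, ← Matrix.mul_assoc, ← hQ₂, Matrix.mul_assoc]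
  refine ⟨r.symm (Q₂ * Q₁⁻¹), r.symm (Q₁ * Q₂⁻¹), ?_, ?_⟩
  · rw [← map_mul]
    have : Q₂ * Q₁⁻¹ * (Q₁ * Q₂⁻¹) = 1 := by
      calc Q₂ * Q₁⁻¹ * (Q₁ * Q₂⁻¹) = Q₂ * (Q₁⁻¹ * Q₁) * Q₂⁻¹ := by simp only [Matrix.mul_assoc]
        _ = 1 := by rw [Matrix.nonsing_inv_mul _ hd₁, Matrix.mul_one, Matrix.mul_nonsing_inv _ hd₂]
    rw [this, map_one]
  · apply r.injective
    have e3 : r (r.symm (Q₂ * Q₁⁻¹)) = Q₂ * Q₁⁻¹ := r.apply_symm_apply _
    rw [map_mul r, map_mul r, e3, e2]

end conj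

section simil

variable {F : Type*} [Field F] {m : ℕ}

/-- a similitude with multiplier `δ` -/
def simil (m : ℕ) (δ : F) : Matrix (Fin m ⊕ Fin m) (Fin m ⊕ Fin m) F := fromBlocks (δ • 1) 0 0 1

theorem sig_simil_mul (δ : F) : sig (simil m δ) * simil m δ = δ • 1 := by
  unfold simil
  rw [sig_fromBlocks, fromBlocks_multiply, ← fromBlocks_one, fromBlocks_smul]
  simp

theorem simil_mul_inv (δ : F) (hδ : δ ≠ 0) : simil m δ * simil m δ⁻¹ = 1 := by
  unfold simil
  rw [fromBlocks_multiply]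
  simp [smul_smul, inv_mul_cancel₀ hδ, fromBlocks_one]

/-- conjugating a symplectic matrix by a similitude gives a symplectic matrix -/
theorem conj_simil_mem (u : symplecticGroup (Fin m) F)
    (P Pi : Matrix (Fin m ⊕ Fin m) (Fin m ⊕ Fin m) F) (h1 : P * Pi = 1) (δ : F) (hδ : δ ≠ 0)
    (hP : sig P * P = δ • 1) :
    P * (u : Matrix (Fin m ⊕ Fin m) (Fin m ⊕ Fin m) F) * Pi ∈ symplecticGroup (Fin m) F := by
  have h1' : Pi * P = 1 := mul_eq_one_comm.mp h1
  have e1 : sig P = δ • Pi := by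
    calc sig P = sig P * (P * Pi) := by rw [h1, Matrix.mul_one]
      _ = (sig P * P) * Pi := by rw [Matrix.mul_assoc]
      _ = δ • Pi := by rw [hP, Matrix.smul_mul, Matrix.one_mul]
  have e2 : sig Pi = δ⁻¹ • P := by
    have := congrArg sig e1
    rw [sig_sig, sig_smul] at this
    rw [this, smul_smul, inv_mul_cancel₀ hδ, one_smul]
  rw [mem_symp_iff, sig_mul, sig_mul, e1, e2, sig_coe]
  calc P * (u : Matrix (Fin m ⊕ Fin m) (Fin m ⊕ Fin m) F) * Pi *
        (δ⁻¹ • P * (((u⁻¹ : symplecticGroup (Fin m) F) : Matrix (Fin m ⊕ Fin m) (Fin m ⊕ Fin m) F) *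
          δ • Pi))
      = (δ * δ⁻¹) • (P * (u : Matrix (Fin m ⊕ Fin m) (Fin m ⊕ Fin m) F) * (Pi * P) *
          ((u⁻¹ : symplecticGroup (Fin m) F) : Matrix (Fin m ⊕ Fin m) (Fin m ⊕ Fin m) F) * Pi) := by
        simp only [Matrix.mul_smul, Matrix.smul_mul, smul_smul, Matrix.mul_assoc]
    _ = 1 := by
        rw [mul_inv_cancel₀ hδ, one_smul, h1', Matrix.mul_one, Matrix.mul_assoc P, coe_mul_inv,
          Matrix.mul_one, h1]

end simil

end Cfsg.Agent.Lib.Helper15.SpReg
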