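import Cfsg.Agent.Lib.Helper15.Spu12
import Cfsg.Agent.Lib.Helper15.SpReg6
import Cfsg.Agent.Lib.Helper15.PGraph10
import Cfsg.Agent.Lib.Helper15.PSpJ4
import Cfsg.Agent.Lib.Helper2.SympCenter

/-!
# Orders of elements of `PSp_2n(q)`: basic tools (for S2512)
-/

set_option autoImplicit false
set_option linter.unusedSectionVars false

namespace Cfsg.Agent.Lib.Helper15.Sps

open Matrix Polynomial Cfsg Cfsg.Agent.Lib.Helper15.Spr Cfsg.Agent.Lib.Helper15.SpReg

section general

variable {F : Type*} [Field F] {ι : Type*} [Fintype ι] [DecidableEq ι]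

theorem scalar_eq_smul_one' (ν : F) : Matrix.scalar ι ν = ν • (1 : Matrix ι ι F) := by
  rw [Matrix.scalar_apply, Matrix.smul_one_eq_diagonal]

theorem scalar_eq_algebraMap' (ν : F) :
    Matrix.scalar ι ν = algebraMap F (Matrix ι ι F) ν := by
  rw [Matrix.scalar_apply, Matrix.algebraMap_eq_diagonal]
  rfl

theorem scalar_injective' [Nonempty ι] {a b : F}
    (h : Matrix.scalar ι a = Matrix.scalar ι b) : a = b := by
  obtain ⟨i⟩ := (inferInstance : Nonempty ι)
  have := congrFun (congrFun h i) i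
  simpa using this

/-- Facts about the minimal polynomial of an invertible matrix (general index type). -/
theorem minpoly_facts' [Nonempty ι] (M : Matrix ι ι F) (hMu : IsUnit M) :
    (minpoly F M).Monic ∧ 0 < (minpoly F M).natDegree ∧
    (minpoly F M).natDegree ≤ Fintype.card ι ∧
    (minpoly F M).coeff 0 ≠ 0 ∧
    (∀ (j : ℕ) (ν : F), M ^ j = Matrix.scalar ι ν ↔ minpoly F M ∣ X ^ j - C ν) := by
  have hint : IsIntegral F M := Matrix.isIntegral M
  have hmonic := minpoly.monic hint
  have hdvd : ∀ h : F[X], minpoly F M ∣ h ↔ Polynomial.aeval M h = 0 := fun h =>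
    minpoly.dvd_iff
  refine ⟨hmonic, minpoly.natDegree_pos hint, ?_, ?_, ?_⟩
  · have h1 := Polynomial.natDegree_le_of_dvd (Matrix.minpoly_dvd_charpoly M)
      (Matrix.charpoly_monic M).ne_zero
    rwa [Matrix.charpoly_natDegree_eq_dim] at h1
  · intro h0
    have hX : (X : F[X]) ∣ minpoly F M := Polynomial.X_dvd_iff.mpr h0
    obtain ⟨h, hh⟩ := hX
    have h1 : Polynomial.aeval M (X * h) = 0 := by rw [← hh]; exact minpoly.aeval F M
    rw [map_mul, Polynomial.aeval_X] at h1
    have h2 : Polynomial.aeval M h = 0 := by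
      generalize Polynomial.aeval M h = Y at h1
      obtain ⟨u, hu⟩ := hMu
      have := congrArg (fun Z => (↑u⁻¹ : Matrix ι ι F) * Z) h1
      simp only [mul_zero] at this
      rw [← mul_assoc, ← hu, Units.inv_mul, one_mul] at this
      exact this
    have h3 := (hdvd h).mpr h2
    have hh0 : h ≠ 0 := by
      rintro rfl
      rw [mul_zero] at hh
      exact hmonic.ne_zero hh
    have h4 := Polynomial.natDegree_le_of_dvd h3 hh0
    have h5 : (minpoly F M).natDegree = 1 + h.natDegree := by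
      rw [hh, Polynomial.natDegree_mul Polynomial.X_ne_zero hh0, Polynomial.natDegree_X]
    omega
  · intro j ν
    rw [hdvd, map_sub, map_pow, Polynomial.aeval_X, Polynomial.aeval_C, sub_eq_zero,
      scalar_eq_algebraMap']

theorem aeval_eq_zero_of_dvd' (A : Matrix ι ι F) {P : F[X]}
    (h : minpoly F A ∣ P) : Polynomial.aeval A P = 0 := by
  obtain ⟨K, rfl⟩ := h
  rw [map_mul, minpoly.aeval, zero_mul]

theorem aeval_commute' (A : Matrix ι ι F) (P Q : F[X]) :
    Polynomial.aeval A P * Polynomial.aeval A Q = Polynomial.aeval A Q * Polynomial.aeval A P := by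
  rw [← map_mul, ← map_mul, mul_comm]

end general

section symp

variable {F : Type*} [Field F] {n : ℕ}

local notation "MM" => Matrix (Fin n ⊕ Fin n) (Fin n ⊕ Fin n) F

theorem sig_scalar (ν : F) : sig (Matrix.scalar (Fin n ⊕ Fin n) ν) = Matrix.scalar (Fin n ⊕ Fin n) ν := by
  rw [scalar_eq_smul_one', sig_smul, sig_one]

theorem sig_injective : Function.Injective (sig : MM → MM) := by
  intro X Y h
  rw [← sig_sig X, h, sig_sig]

theorem sig_aeval (A : MM) (g : F[X]) :
    sig (Polynomial.aeval A g) = Polynomial.aeval (sig A) g := by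
  induction g using Polynomial.induction_on' with
  | add p q hp hq => rw [map_add, map_add, sig_add, hp, hq]
  | monomial k a =>
    rw [Polynomial.aeval_monomial, Polynomial.aeval_monomial, Algebra.algebraMap_eq_smul_one,
      smul_mul_assoc, smul_mul_assoc, one_mul, one_mul, sig_smul, sig_pow]

/-- The matrix of an element of `Sp`. -/
def matS (s : Matrix.symplecticGroup (Fin n) F) : MM := (s : MM)

theorem matS_symp (s : Matrix.symplecticGroup (Fin n) F) : matS s * sig (matS s) = 1 :=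
  (mem_symp_iff _).mp s.2

theorem matS_symp' (s : Matrix.symplecticGroup (Fin n) F) : sig (matS s) * matS s = 1 :=
  mul_eq_one_comm.mp (matS_symp s)

theorem matS_mul (s t : Matrix.symplecticGroup (Fin n) F) : matS (s * t) = matS s * matS t := rfl

theorem matS_one : matS (1 : Matrix.symplecticGroup (Fin n) F) = 1 := rfl

theorem matS_pow (s : Matrix.symplecticGroup (Fin n) F) (j : ℕ) : matS (s ^ j) = matS s ^ j := by
  induction j with
  | zero => rw [pow_zero, pow_zero, matS_one]
  | succ j ih => rw [pow_succ, pow_succ, matS_mul, ih]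

theorem matS_injective : Function.Injective (matS (F := F) (n := n)) := by
  intro s t h
  exact Subtype.ext h

theorem exists_sp (M : MM) (hM : M * sig M = 1) :
    ∃ s : Matrix.symplecticGroup (Fin n) F, matS s = M :=
  ⟨⟨M, (mem_symp_iff M).mpr hM⟩, rfl⟩

/-- A scalar symplectic matrix is `± 1`. -/
theorem scalar_symp (hn : 1 ≤ n) (ν : F)
    (h : Matrix.scalar (Fin n ⊕ Fin n) ν * sig (Matrix.scalar (Fin n ⊕ Fin n) ν) = 1) :
    ν * ν = 1 := by
  rw [sig_scalar, ← map_mul, ← map_one (Matrix.scalar (Fin n ⊕ Fin n))] at h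
  have : Nonempty (Fin n ⊕ Fin n) := ⟨Sum.inl ⟨0, hn⟩⟩
  exact scalar_injective' h

theorem mem_center_iff_sp (hn : 1 ≤ n) (s : Matrix.symplecticGroup (Fin n) F) :
    s ∈ Subgroup.center (Matrix.symplecticGroup (Fin n) F) ↔
      ∃ ν : F, matS s = Matrix.scalar (Fin n ⊕ Fin n) ν := by
  constructor
  · intro h
    rcases Cfsg.Agent.Lib.Helper2.symp_center_coe hn s h with h1 | h1
    · exact ⟨1, by rw [map_one]; exact h1⟩
    · refine ⟨-1, ?_⟩
      rw [scalar_eq_smul_one', neg_one_smul]
      exact h1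
  · rintro ⟨ν, hν⟩
    rw [Subgroup.mem_center_iff]
    intro g
    apply matS_injective
    rw [matS_mul, matS_mul, hν, scalar_eq_smul_one', Matrix.mul_smul, Matrix.smul_mul,
      Matrix.mul_one, Matrix.one_mul]

theorem orderOf_mk_dvd_iff_sp (hn : 1 ≤ n) (s : Matrix.symplecticGroup (Fin n) F) (j : ℕ) :
    orderOf (QuotientGroup.mk s : Cfsg.PSp n F) ∣ j ↔
      ∃ ν : F, matS s ^ j = Matrix.scalar (Fin n ⊕ Fin n) ν := by
  rw [orderOf_dvd_iff_pow_eq_one, ← QuotientGroup.mk_pow, QuotientGroup.eq_one_iff,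
    mem_center_iff_sp hn, matS_pow]

/-- Twisting by a commuting non-scalar involution. -/
theorem exists_of_commuting_twist_sp (hn : 1 ≤ n) (r : ℕ) (hr : r.Prime)
    (A Z : MM) (hA : A * sig A = 1) (hZ : Z * sig Z = 1) (hcomm : A * Z = Z * A) (hZr : Z ^ r = 1)
    (hZns : ¬ ∃ ν : F, Z = Matrix.scalar (Fin n ⊕ Fin n) ν) (m : ℕ)
    (hm : ∀ (j : ℕ) (ν : F), A ^ j = Matrix.scalar (Fin n ⊕ Fin n) ν → m ∣ j) :
    ∃ g' : Cfsg.PSp n F, Nat.lcm m r ∣ orderOf g' := by
  obtain ⟨a, ha⟩ := exists_sp A hA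
  obtain ⟨z, hz⟩ := exists_sp Z hZ
  have hc : Commute a z := by
    apply matS_injective
    rw [matS_mul, matS_mul, ha, hz, hcomm]
  have hc' : Commute (QuotientGroup.mk a : Cfsg.PSp n F) (QuotientGroup.mk z) := by
    change (QuotientGroup.mk a : Cfsg.PSp n F) * QuotientGroup.mk z =
      QuotientGroup.mk z * QuotientGroup.mk a
    rw [← QuotientGroup.mk_mul, ← QuotientGroup.mk_mul, hc.eq]
  have hzr : (QuotientGroup.mk z : Cfsg.PSp n F) ^ r = 1 := by
    rw [← orderOf_dvd_iff_pow_eq_one, orderOf_mk_dvd_iff_sp hn, hz, hZr]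
    exact ⟨1, (map_one _).symm⟩
  have hz1 : (QuotientGroup.mk z : Cfsg.PSp n F) ≠ 1 := by
    intro h
    rw [QuotientGroup.eq_one_iff, mem_center_iff_sp hn, hz] at h
    exact hZns h
  have hzo : orderOf (QuotientGroup.mk z : Cfsg.PSp n F) = r := by
    have : Fact r.Prime := ⟨hr⟩
    exact orderOf_eq_prime hzr hz1
  have hma : m ∣ orderOf (QuotientGroup.mk a : Cfsg.PSp n F) := by
    have h3 : orderOf (QuotientGroup.mk a : Cfsg.PSp n F) ∣
        orderOf (QuotientGroup.mk a : Cfsg.PSp n F) := dvd_rfl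
    rw [orderOf_mk_dvd_iff_sp hn, ha] at h3
    obtain ⟨ν, hν⟩ := h3
    exact hm _ ν hν
  exact Cfsg.Agent.Lib.Helper15.Spu.exists_lcm_of_commute _ _ hc' r hr hzo m hma

end symp

end Cfsg.Agent.Lib.Helper15.Sps
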