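import Mathlib
import Cfsg.Agent.Lib.Helper15.BC2
import Cfsg.Agent.Lib.Helper15.Sps1

/-!
# S2474, part 3: realisation in the symplectic group
-/

set_option autoImplicit false

namespace Cfsg.Agent.Lib.Helper15.BC

open Module Matrix Cfsg.Agent.Lib.Helper15.Sps Cfsg.Agent.Lib.Helper6

section symp

variable {F : Type*} [Field F] [Finite F] {V : Type*} [AddCommGroup V] [Module F V]
  [FiniteDimensional F V]

/-- an algebra isomorphism from the endomorphisms of a symplectic space to matrices taking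
isometries to symplectic matrices -/
theorem exists_algEquiv_symp (B : V →ₗ[F] V →ₗ[F] F) (halt : ∀ x, B x x = 0) (hnd : Nondeg B)
    (n : ℕ) (hn : 1 ≤ n) (hV : finrank F V = 2 * n) :
    ∃ φ : Module.End F V ≃ₐ[F] Matrix (Fin n ⊕ Fin n) (Fin n ⊕ Fin n) F,
      ∀ g, IsIso B g → φ g ∈ Matrix.symplecticGroup (Fin n) F := by
  classical
  obtain ⟨Ψ, hΨ⟩ := Cfsg.Agent.Lib.Helper15.PSpD.exists_symp_iso B halt hnd n hn hV
  refine ⟨(Ψ.symm.conjAlgEquiv F).trans LinearMap.toMatrixAlgEquiv', ?_⟩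
  intro g hg
  rw [mem_symplecticGroup_iff_preserves]
  have key : ∀ u : Fin n ⊕ Fin n → F,
      (((Ψ.symm.conjAlgEquiv F).trans LinearMap.toMatrixAlgEquiv') g) *ᵥ u =
        Ψ.symm (g (Ψ u)) := by
    intro u
    rw [AlgEquiv.trans_apply, ← Matrix.toLin'_apply]
    have h1 : Matrix.toLin' (LinearMap.toMatrixAlgEquiv' ((LinearEquiv.conjAlgEquiv F Ψ.symm) g)) =
        (LinearEquiv.conjAlgEquiv F Ψ.symm) g :=
      Matrix.toLinAlgEquiv'_toMatrixAlgEquiv' _
    rw [h1, LinearEquiv.conjAlgEquiv_apply]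
    simp
  intro u v
  rw [key, key, ← hΨ, LinearEquiv.apply_symm_apply, LinearEquiv.apply_symm_apply, hg, hΨ]

end symp

section construct

variable {F : Type*} [Field F] [Fintype F] {V : Type*} [AddCommGroup V] [Module F V]
  [FiniteDimensional F V]

/-- **realisation in `PSp`**: commuting non-scalar isometries of prime orders `r ≠ s` of a
symplectic space of dimension `2n` give an element of order `r s` of `PSp_{2n}(F)` -/
theorem psp_of_abstract (n : ℕ) (hn : 1 ≤ n) (B : V →ₗ[F] V →ₗ[F] F) (halt : ∀ x, B x x = 0)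
    (hnd : Nondeg B) (hV : finrank F V = 2 * n) (a b : Module.End F V) (ha : IsIso B a)
    (hb : IsIso B b) (hab : a * b = b * a) (r s : ℕ) (hr : r.Prime) (hs : s.Prime)
    (hrs : r ≠ s) (har : a ^ r = 1) (ha1 : ¬ ∃ c : F, a = c • (1 : Module.End F V))
    (hbs : b ^ s = 1) (hb1 : ¬ ∃ c : F, b = c • (1 : Module.End F V)) :
    r * s ∈ Set.range (orderOf : Cfsg.PSp n F → ℕ) := by
  classical
  obtain ⟨φ, hφ⟩ := exists_algEquiv_symp B halt hnd n hn hV
  obtain ⟨A, hA⟩ : ∃ A : Matrix.symplecticGroup (Fin n) F, matS A = φ a := ⟨⟨φ a, hφ a ha⟩, rfl⟩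
  obtain ⟨A', hA'⟩ : ∃ A' : Matrix.symplecticGroup (Fin n) F, matS A' = φ b :=
    ⟨⟨φ b, hφ b hb⟩, rfl⟩
  have hc : Commute A A' := by
    apply matS_injective
    rw [matS_mul, matS_mul, hA, hA', ← map_mul, ← map_mul, hab]
  have hc' : Commute (QuotientGroup.mk A : Cfsg.PSp n F) (QuotientGroup.mk A') := by
    change (QuotientGroup.mk A : Cfsg.PSp n F) * QuotientGroup.mk A' =
      QuotientGroup.mk A' * QuotientGroup.mk A
    rw [← QuotientGroup.mk_mul, ← QuotientGroup.mk_mul, hc.eq]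
  have key : ∀ (X : Matrix.symplecticGroup (Fin n) F) (x : Module.End F V) (t : ℕ),
      t.Prime → matS X = φ x → x ^ t = 1 → (¬ ∃ c : F, x = c • (1 : Module.End F V)) →
      orderOf (QuotientGroup.mk X : Cfsg.PSp n F) = t := by
    intro X x t ht hX hxt hx1
    have : Fact t.Prime := ⟨ht⟩
    apply orderOf_eq_prime
    · rw [← QuotientGroup.mk_pow]
      have : X ^ t = 1 := by
        apply matS_injective
        rw [matS_pow, hX, ← map_pow, hxt, map_one, matS_one]
      rw [this]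
      rfl
    · intro h
      rw [QuotientGroup.eq_one_iff, mem_center_iff_sp hn] at h
      obtain ⟨ν, hν⟩ := h
      apply hx1
      refine ⟨ν, ?_⟩
      apply φ.injective
      rw [← hX, hν, scalar_eq_smul_one', map_smul, map_one]
  have h1 := key A a r hr hA har ha1
  have h2 := key A' b s hs hA' hbs hb1
  refine ⟨QuotientGroup.mk A * QuotientGroup.mk A', ?_⟩
  rw [hc'.orderOf_mul_eq_mul_orderOf_of_coprime (by
    rw [h1, h2]
    exact (Nat.coprime_primes hr hs).mpr hrs), h1, h2]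

end construct

end Cfsg.Agent.Lib.Helper15.BC
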