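import Mathlib
import Cfsg.Agent.Lib.Helper9.OExtDefs
import Cfsg.Agent.Lib.Helper13.OrthParab

/-!
# S5701 FO-F0 (helper15, for helper9): the `SiegIn` calculus and `orX_of_SiegIn`
-/

set_option autoImplicit false

namespace Cfsg.Agent.Lib.Helper15.S5701F0

open Matrix Module QuadraticMap Cfsg.Agent.Lib.Helper7.SpExt Cfsg.Agent.Lib.Helper9.OExt
  Cfsg.Agent.Lib.Helper6 Cfsg.Agent.Lib.Helper13

variable {F : Type*} [Field F] {ι : Type} [Fintype ι] [DecidableEq ι] {Q : QuadraticForm F (ι → F)}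

theorem act_siegIso (u w : ι → F) (hu : Q u = 0) (huw : polar (⇑Q) u w = 0) (x : ι → F) :
    act ((siegIso Q u w hu huw : ↥(Cfsg.isometryGroup F ⇑Q)) : GL ι F) x = sieg Q u w *ᵥ x := rfl

/-- `SiegIn` in terms of the canonical `GL` element -/
theorem siegIn_iff {H : Subgroup (GL ι F)} {u w : ι → F} (hu : Q u = 0)
    (huw : polar (⇑Q) u w = 0) :
    SiegIn Q H u w ↔ ((siegIso Q u w hu huw : ↥(Cfsg.isometryGroup F ⇑Q)) : GL ι F) ∈ H := by
  constructor
  · intro h
    exact h _ (act_siegIso u w hu huw)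
  · intro h g hg
    have : g = ((siegIso Q u w hu huw : ↥(Cfsg.isometryGroup F ⇑Q)) : GL ι F) := by
      apply gl_ext
      intro x
      rw [hg, act_siegIso]
    rw [this]
    exact h

theorem SiegIn.add {H : Subgroup (GL ι F)} {u w w' : ι → F} (hu : Q u = 0)
    (huw : polar (⇑Q) u w = 0) (huw' : polar (⇑Q) u w' = 0) (h : SiegIn Q H u w)
    (h' : SiegIn Q H u w') : SiegIn Q H u (w + w') := by
  have huww' : polar (⇑Q) u (w + w') = 0 := by rw [polar_add_right, huw, huw', add_zero]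
  rw [siegIn_iff hu huww']
  rw [siegIn_iff hu huw] at h
  rw [siegIn_iff hu huw'] at h'
  rw [← siegIso_mul Q u w w' hu huw huw']
  exact H.mul_mem h h'

theorem SiegIn.neg {H : Subgroup (GL ι F)} {u w : ι → F} (hu : Q u = 0)
    (huw : polar (⇑Q) u w = 0) (h : SiegIn Q H u w) : SiegIn Q H u (-w) := by
  have huw' : polar (⇑Q) u (-w) = 0 := by rw [polar_neg_right, huw, neg_zero]
  rw [siegIn_iff hu huw']
  rw [siegIn_iff hu huw] at h
  rw [← siegIso_inv Q u w hu huw]
  exact H.inv_mem h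

theorem SiegIn.conj {H : Subgroup (GL ι F)} {k : GL ι F} (hk : k ∈ H)
    (hkQ : k ∈ Cfsg.isometryGroup F ⇑Q) {u w : ι → F} (hu : Q u = 0)
    (huw : polar (⇑Q) u w = 0) (h : SiegIn Q H u w) : SiegIn Q H (act k u) (act k w) := by
  set k' : ↥(Cfsg.isometryGroup F ⇑Q) := ⟨k, hkQ⟩ with hk'
  have e1 : act k u = gact Q k' u := rfl
  have e2 : act k w = gact Q k' w := rfl
  rw [e1, e2]
  have hu' : Q (gact Q k' u) = 0 := by rw [Q_gact, hu]
  have huw' : polar (⇑Q) (gact Q k' u) (gact Q k' w) = 0 := by rw [polar_gact, huw]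
  rw [siegIn_iff hu' huw']
  rw [siegIn_iff hu huw] at h
  rw [← conj_siegIso Q k' u w hu huw]
  exact H.mul_mem (H.mul_mem hk h) (H.inv_mem hk)

theorem SiegIn.zero (H : Subgroup (GL ι F)) (u : ι → F) : SiegIn Q H u 0 := by
  intro g hg
  have : g = 1 := by
    apply gl_ext
    intro x
    rw [hg, sieg_zero, one_mulVec, act_one]
  rw [this]
  exact H.one_mem

theorem orX_of_SiegIn {H : Subgroup (GL ι F)} {u : ι → F} (hu : Q u = 0)
    (h : ∀ w, polar (⇑Q) u w = 0 → SiegIn Q H u w) : OrX Q H u := by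
  refine ⟨hu, fun w hu' huw => ?_⟩
  exact (siegIn_iff hu' huw).mp (h w huw)

/-- scaling the centre: `ρ_{t u, w} = ρ_{u, t w}` -/
theorem SiegIn.smul_left {H : Subgroup (GL ι F)} {u w : ι → F} (t : F) (hu : Q u = 0)
    (huw : polar (⇑Q) u w = 0) (h : SiegIn Q H u (t • w)) : SiegIn Q H (t • u) w := by
  have hu' : Q (t • u) = 0 := by rw [Cfsg.Agent.Lib.Helper6.Q_smul, hu, mul_zero]
  have huw' : polar (⇑Q) (t • u) w = 0 := by rw [polar_smul_left, huw, smul_zero]
  have huw'' : polar (⇑Q) u (t • w) = 0 := by rw [polar_smul_right, huw, smul_zero]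
  rw [siegIn_iff hu' huw', siegIso_smul_left Q t u w hu huw]
  exact (siegIn_iff hu huw'').mp h

/-- `ρ_{u, w + t u} = ρ_{u, w}` -/
theorem SiegIn.add_smul {H : Subgroup (GL ι F)} {u w : ι → F} (t : F) (hu : Q u = 0)
    (huw : polar (⇑Q) u w = 0) (h : SiegIn Q H u w) : SiegIn Q H u (w + t • u) := by
  have huw' : polar (⇑Q) u (w + t • u) = 0 := by
    rw [polar_add_right, huw, polar_smul_right, polar_self, hu]; simp
  rw [siegIn_iff hu huw', siegIso_add_smul Q t u w hu huw]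
  exact (siegIn_iff hu huw).mp h

end Cfsg.Agent.Lib.Helper15.S5701F0
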