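import Mathlib
import Cfsg.Prelude.Def_GeometricClasses
import Cfsg.Prelude.Def_LieClassical
import Cfsg.Agent.Lib.Helper9.SUCorMain

/-!
# S5778 (SU_3(q), q ≥ 3): the row from helper9's `reduceU` and six exceptional facts  (helper15)

`final3 hF hq pc hub e1 e2 e3 e4 e5 e6 H hH` has the conclusion of the template S5778 verbatim.  The six exceptional facts:

* `E1 F` (`q = 5`): a frame stabiliser is not maximal (it lies in `3.A_7`);
* `E2 F` (`q = 3`): an index-2 subfield group lies in a frame stabiliser;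
* `E3 F` (`q = 5`): an index-2 subfield group is not maximal (`SO_3(5) < 3.A_7`);
* `E4 F` (`q = 5`): the normaliser of `3^(1+2)` is not maximal (it lies in `3.M_10`);
* `E5 F` (`q = 3`): the normaliser of an adjoint-closed cubic field is not maximal (`7:3 < L_2(7)`);
* `E6 F` (`q = 5`): the same for `q = 5` (`21:3 < 3.A_7`).
-/

set_option autoImplicit false

namespace Cfsg.Agent.Lib.Helper15.S5778Final

open Cfsg Cfsg.Geo Cfsg.Agent.Lib.Helper9.UCor
open scoped MatrixGroups Matrix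

variable {F : Type*} [Field F] [Fintype F] {q : ℕ}

/-- `q = 5`: a frame stabiliser is not maximal in `SU_3(5)` -/
def E1 (F : Type*) [Field F] [Fintype F] : Prop :=
  ∀ D : Fin 3 → Submodule F (Fin 3 → F), IsNondegenerateMDecomposition (hermForm 3 F 5) 1 D →
    ¬ IsMaximalIn (GU 3 F 5 ⊓ specialLinear (Fin 3) F)
      (decompositionStabilizer D ⊓ (GU 3 F 5 ⊓ specialLinear (Fin 3) F))

/-- `q = 3`: an index-2 subfield group of `GU_3(3)` lies in a frame stabiliser -/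
def E2 (F : Type*) [Field F] [Fintype F] : Prop :=
  ∀ (F₀ : Subfield F) (P : GL (Fin 3) F), Fintype.card F = Nat.card F₀ ^ 2 →
    IsFormRationalStructure (hermForm 3 F 3) F₀ 1 P →
    ∃ D : Fin 3 → Submodule F (Fin 3 → F), IsNondegenerateMDecomposition (hermForm 3 F 3) 1 D ∧
      subfieldSubgroup F₀ P ⊓ GU 3 F 3 ≤ decompositionStabilizer D

/-- `q = 5`: an index-2 subfield group is not maximal in `SU_3(5)` -/
def E3 (F : Type*) [Field F] [Fintype F] : Prop :=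
  ∀ (F₀ : Subfield F) (P : GL (Fin 3) F), Fintype.card F = Nat.card F₀ ^ 2 →
    IsFormRationalStructure (hermForm 3 F 5) F₀ 1 P →
    ¬ IsMaximalIn (GU 3 F 5 ⊓ specialLinear (Fin 3) F)
      (subfieldSubgroup F₀ P ⊓ (GU 3 F 5 ⊓ specialLinear (Fin 3) F))

/-- `q = 5`: the normaliser of an absolutely irreducible `3^(1+2)` is not maximal in `SU_3(5)` -/
def E4 (F : Type*) [Field F] [Fintype F] : Prop :=
  ∀ R : Subgroup (GL (Fin 3) F), IsSymplecticTypeGroup 3 R → ActsAbsolutelyIrreducibly (matrixSet R) →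
    R ≤ similarityGroup (hermForm 3 F 5) → Nat.card R = 27 → Nat.card (Subgroup.center R) = 3 →
    ¬ IsMaximalIn (GU 3 F 5 ⊓ specialLinear (Fin 3) F)
      (subgroupNormalizer R ⊓ (GU 3 F 5 ⊓ specialLinear (Fin 3) F))

/-- `q = 3`: the normaliser of an adjoint-closed cubic field is not maximal in `SU_3(3)` -/
def E5 (F : Type*) [Field F] [Fintype F] : Prop :=
  ∀ K : Subalgebra F (Matrix (Fin 3) (Fin 3) F), IsFieldSubalgebra 3 K →
    IsAdjointClosedFor (hermForm 3 F 3) K →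
    ¬ IsMaximalIn (GU 3 F 3 ⊓ specialLinear (Fin 3) F)
      (subalgebraNormalizer K ⊓ (GU 3 F 3 ⊓ specialLinear (Fin 3) F))

/-- `q = 5`: the normaliser of an adjoint-closed cubic field is not maximal in `SU_3(5)` -/
def E6 (F : Type*) [Field F] [Fintype F] : Prop :=
  ∀ K : Subalgebra F (Matrix (Fin 3) (Fin 3) F), IsFieldSubalgebra 3 K →
    IsAdjointClosedFor (hermForm 3 F 5) K →
    ¬ IsMaximalIn (GU 3 F 5 ⊓ specialLinear (Fin 3) F)
      (subalgebraNormalizer K ⊓ (GU 3 F 5 ⊓ specialLinear (Fin 3) F))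

theorem final3 (hF : Fintype.card F = q ^ 2) (hq : 3 ≤ q) (pc : SUPieces 3 q F) (hub : HubU 3 q F)
    (e1 : q = 5 → E1 F) (e2 : q = 3 → E2 F) (e3 : q = 5 → E3 F) (e4 : q = 5 → E4 F) (e5 : q = 3 → E5 F)
    (e6 : q = 5 → E6 F)
    (H : Subgroup (Matrix.GeneralLinearGroup (Fin 3) F))
    (hH : Cfsg.Geo.IsMaximalIn (Cfsg.GU 3 F q ⊓ Cfsg.Geo.specialLinear (Fin 3) F) H) :
    (∃ W : Submodule F (Fin 3 → F), W ≠ ⊥ ∧ Cfsg.Geo.IsTotallySingularFor (Cfsg.hermForm 3 F q) W ∧ H = Cfsg.Geo.subspaceStabilizer W ⊓ (Cfsg.GU 3 F q ⊓ Cfsg.Geo.specialLinear (Fin 3) F)) ∨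
    (∃ W : Submodule F (Fin 3 → F), W ≠ ⊥ ∧ Cfsg.Geo.IsNondegenerateOn (Cfsg.hermForm 3 F q) W ∧ 2 * Module.finrank F W < 3 ∧ H = Cfsg.Geo.subspaceStabilizer W ⊓ (Cfsg.GU 3 F q ⊓ Cfsg.Geo.specialLinear (Fin 3) F)) ∨
    (q ≠ 5 ∧ ∃ D : Fin 3 → Submodule F (Fin 3 → F), Cfsg.Geo.IsNondegenerateMDecomposition (Cfsg.hermForm 3 F q) 1 D ∧ H = Cfsg.Geo.decompositionStabilizer D ⊓ (Cfsg.GU 3 F q ⊓ Cfsg.Geo.specialLinear (Fin 3) F)) ∨
    (q ≠ 3 ∧ q ≠ 5 ∧ ∃ K : Subalgebra F (Matrix (Fin 3) (Fin 3) F), Cfsg.Geo.IsFieldSubalgebra 3 K ∧ Cfsg.Geo.IsAdjointClosedFor (Cfsg.hermForm 3 F q) K ∧ H = Cfsg.Geo.subalgebraNormalizer K ⊓ (Cfsg.GU 3 F q ⊓ Cfsg.Geo.specialLinear (Fin 3) F)) ∨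
    (∃ (F₀ : Subfield F) (r : ℕ) (P : Matrix.GeneralLinearGroup (Fin 3) F), r.Prime ∧ Odd r ∧ Fintype.card F = Nat.card F₀ ^ r ∧ Cfsg.Geo.IsFormRationalStructure (Cfsg.hermForm 3 F q) F₀ 1 P ∧ H = Cfsg.Geo.subfieldSubgroup F₀ P ⊓ (Cfsg.GU 3 F q ⊓ Cfsg.Geo.specialLinear (Fin 3) F)) ∨
    (Odd q ∧ 7 ≤ q ∧ ∃ (F₀ : Subfield F) (P : Matrix.GeneralLinearGroup (Fin 3) F), Fintype.card F = Nat.card F₀ ^ 2 ∧ Cfsg.Geo.IsFormRationalStructure (Cfsg.hermForm 3 F q) F₀ 1 P ∧ H = Cfsg.Geo.subfieldSubgroup F₀ P ⊓ (Cfsg.GU 3 F q ⊓ Cfsg.Geo.specialLinear (Fin 3) F)) ∨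
    (∃ (p : ℕ) (R : Subgroup (Matrix.GeneralLinearGroup (Fin 3) F)), p.Prime ∧ q = p ∧ p % 3 = 2 ∧ 11 ≤ p ∧ Cfsg.Geo.IsSymplecticTypeGroup 3 R ∧ Cfsg.Geo.ActsAbsolutelyIrreducibly (Cfsg.Geo.matrixSet R) ∧ R ≤ Cfsg.Geo.similarityGroup (Cfsg.hermForm 3 F q) ∧ Nat.card R = 27 ∧ Nat.card (Subgroup.center R) = 3 ∧ H = Cfsg.Geo.subgroupNormalizer R ⊓ (Cfsg.GU 3 F q ⊓ Cfsg.Geo.specialLinear (Fin 3) F)) ∨
    Cfsg.Geo.InUnitaryResidualClass H := by
  have hprime : Nat.Prime 3 := Nat.prime_three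
  rcases reduceU hF (le_refl 3) pc hub H hH with h | h | ⟨t, k, D, hD, hk2, hE⟩ |
      ⟨k, D, hk, hD, hts, hE⟩ | h | ⟨hodd, F₀, P, hc, hrat, hE⟩ | ⟨heven, h⟩ |
      ⟨r, R, p, e, k, hR, habs, hsim, hrp, hmin, hcase, hE⟩ |
      ⟨r, K, hr, hodd, hK, hadj, hE⟩ | ⟨n₁, n₂, e, P, f₁, f₂, h1, h12, h2q, hf₁, hf₂, hT, hE⟩ |
      ⟨k, t, e, P, f₁, hk, ht, hkq, hf₁, hT, hE⟩ | h
  · exact Or.inl h
  · exact Or.inr (Or.inl h)
  · -- decompositions: `k * t = 3`
    have htk := Cfsg.Agent.Lib.Helper9.HubCor.mul_eq_of_isMDecomposition D hD.decomp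
    have ht := hD.decomp.two_le
    have hk := hD.decomp.pos
    have hkd : k ∣ 3 := ⟨t, by rw [← htk]; ring⟩
    rcases (Nat.dvd_prime hprime).mp hkd with rfl | rfl
    · obtain rfl : t = 3 := by omega
      by_cases hq5 : q = 5
      · exfalso
        subst hq5
        exact e1 rfl D hD (hE ▸ hH)
      · exact Or.inr (Or.inr (Or.inl ⟨hq5, D, hD, hE⟩))
    · exfalso
      have : t = 1 := by nlinarith
      omega
  · omega
  · exact Or.inr (Or.inr (Or.inr (Or.inr (Or.inl h))))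
  · -- index-2 subfield groups
    by_cases hq7 : 7 ≤ q
    · exact Or.inr (Or.inr (Or.inr (Or.inr (Or.inr (Or.inl ⟨hodd, hq7, F₀, P, hc, hrat, hE⟩)))))
    · have hq35 : q = 3 ∨ q = 5 := by
        obtain ⟨m, hm⟩ := hodd
        omega
      rcases hq35 with rfl | rfl
      · -- `q = 3`: inside a frame stabiliser
        obtain ⟨D, hD, hle⟩ := e2 rfl F₀ P hc hrat
        have hHle : H ≤ decompositionStabilizer D := by
          rw [hE]
          exact (inf_le_inf_left _ inf_le_left).trans hle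
        have hE' := eq_of_le_memberU H (decompositionStabilizer D) hH hHle (pc.pu2a D hD)
        exact Or.inr (Or.inr (Or.inl ⟨by norm_num, D, hD, hE'⟩))
      · exfalso
        exact e3 rfl F₀ P hc hrat (hE ▸ hH)
  · exact absurd heven (by decide)
  · -- class 6: `3 = 3 ^ 1`
    have hnk := pc.c6exact r R p e k hR habs hrp hmin hcase
    have hk0 : k ≠ 0 := by
      rintro rfl
      norm_num at hnk
    have hr3 : r = 3 := by
      have h3 : r ∣ 3 := by
        rw [hnk]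
        exact dvd_pow_self _ hk0
      exact (Nat.prime_dvd_prime_iff_eq hR.prime hprime).mp h3
    subst hr3
    have hk1 : k = 1 := by
      have h9 : (3 : ℕ) ^ 1 = 3 ^ k := by rw [← hnk, pow_one]
      exact (Nat.pow_right_injective (by norm_num) h9).symm
    subst hk1
    rcases hcase with ⟨-, hZ, -, hcard⟩ | ⟨h32, -⟩
    · rw [hZ] at hmin
      obtain ⟨hp, hqp, hmod⟩ := c6_arith_three hF p e hrp hmin
      have hcard27 : Nat.card R = 27 := by rw [hcard]; norm_num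
      by_cases hp11 : 11 ≤ p
      · exact Or.inr (Or.inr (Or.inr (Or.inr (Or.inr (Or.inr (Or.inl
          ⟨p, R, hp, hqp, hmod, hp11, hR, habs, hsim, hcard27, hZ, hE⟩))))))
      · exfalso
        subst hqp
        -- `q = p` prime, `3 ≤ q < 11`, `q ≡ 2 mod 3` ⇒ `q = 5`
        have hq5 : q = 5 := by
          have hlt : q < 11 := by omega
          interval_cases q <;> first | omega | (exfalso; revert hp; decide)
        subst hq5
        exact e4 rfl R hR habs hsim hcard27 hZ (hE ▸ hH)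
    · omega
  · -- class 3: `r = 3`
    have hd := Cfsg.Agent.Lib.Helper24.HubCor.dvd_of_isFieldSubalgebra K hK (by norm_num)
    have := (Nat.prime_dvd_prime_iff_eq hr hprime).mp hd
    subst this
    by_cases hq3 : q = 3
    · exfalso
      subst hq3
      exact e5 rfl K hK hadj (hE ▸ hH)
    · by_cases hq5 : q = 5
      · exfalso
        subst hq5
        exact e6 rfl K hK hadj (hE ▸ hH)
      · exact Or.inr (Or.inr (Or.inr (Or.inl ⟨hq3, hq5, K, hK, hadj, hE⟩)))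
  · exfalso
    have hc := card_tensorU e
    have hkd : n₁ ∣ 3 := ⟨n₂, hc⟩
    rcases (Nat.dvd_prime hprime).mp hkd with rfl | rfl
    · omega
    · have : n₂ = 1 := by nlinarith
      omega
  · exfalso
    have hc := card_wreathU e
    have h1 : k ^ 2 ≤ k ^ t := Nat.pow_le_pow_right (by omega) ht
    have hkd : k ∣ 3 := by
      rw [hc]
      exact dvd_pow_self _ (by omega)
    rcases (Nat.dvd_prime hprime).mp hkd with rfl | rfl
    · omega
    · have : 3 ^ 2 ≤ 3 := by omega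
      norm_num at this
  · exact Or.inr (Or.inr (Or.inr (Or.inr (Or.inr (Or.inr (Or.inr h))))))

end Cfsg.Agent.Lib.Helper15.S5778Final
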