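import Mathlib
import Cfsg.Prelude.Def_Characters
import Cfsg.Agent.Lib.Helper11.S3282Defs
import Cfsg.Agent.Lib.Helper9.BSW2

/-!
# S3282 piece A3 (helper15, for helper11): case A, `|G| = k(2k+1)(2k+2)`

`A3_caseA_aux` : the statement of `A3_caseA` with the other pieces it uses (`G1_even`,
`G1_invol_of_not_mem`, `G2_cent`, `A1_normalizer`) as explicit hypotheses.
-/

set_option autoImplicit false

namespace Cfsg.Agent.Lib.Helper15.S3282A3

open Cfsg Cfsg.Agent.Lib.Helper11 Cfsg.Agent.Lib.Helper11.S3282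

universe u

variable {G : Type u} [Group G] {t s : G} {K : Subgroup G}

/-- the arithmetic of case A: `e ∣ 2k`, `k(2k+1)(2k+2) = (2k+1) e (1 + j(2k+1))` ⇒ `e = k` -/
theorem arith_A {k e j : ℕ} (he : e ∣ 2 * k) (hk : 1 ≤ k)
    (h : k * (2 * k + 1) * (2 * k + 2) = (2 * k + 1) * e * (1 + j * (2 * k + 1))) : e = k := by
  have hpos : 0 < 2 * k + 1 := by omega
  have h1 : k * (2 * k + 2) = e * (1 + j * (2 * k + 1)) := by
    apply Nat.eq_of_mul_eq_mul_left hpos
    rw [← mul_assoc (2 * k + 1) e, ← h]; ring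
  have hele : e ≤ 2 * k := Nat.le_of_dvd (by omega) he
  have h2 : k + k * (2 * k + 1) = e + (e * j) * (2 * k + 1) := by
    have : k * (2 * k + 2) = k + k * (2 * k + 1) := by ring
    rw [← this, h1]; ring
  have h3 := congrArg (· % (2 * k + 1)) h2
  simp only [Nat.add_mul_mod_self_right] at h3
  rw [Nat.mod_eq_of_lt (by omega), Nat.mod_eq_of_lt (by omega)] at h3
  exact h3.symm

theorem centralizer_conj (g y : G) :
    Subgroup.centralizer ({g * y * g⁻¹} : Set G) =
      (Subgroup.centralizer ({y} : Set G)).map (MulAut.conj g).toMonoidHom := by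
  ext w
  simp only [Subgroup.mem_centralizer_iff, Set.mem_singleton_iff, forall_eq, Subgroup.mem_map,
    MulEquiv.coe_toMonoidHom, MulAut.conj_apply]
  constructor
  · intro hw
    refine ⟨g⁻¹ * w * g, ?_, by group⟩
    have : g⁻¹ * (g * y * g⁻¹ * w) * g = g⁻¹ * (w * (g * y * g⁻¹)) * g := by rw [hw]
    calc y * (g⁻¹ * w * g) = g⁻¹ * (g * y * g⁻¹ * w) * g := by group
      _ = g⁻¹ * (w * (g * y * g⁻¹)) * g := this
      _ = g⁻¹ * w * g * y := by group
  · rintro ⟨v, hv, rfl⟩
    calc g * y * g⁻¹ * (g * v * g⁻¹) = g * (y * v) * g⁻¹ := by group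
      _ = g * (v * y) * g⁻¹ := by rw [hv]
      _ = g * v * g⁻¹ * (g * y * g⁻¹) := by group


theorem orderOf_conj' (g y : G) : orderOf (g * y * g⁻¹) = orderOf y := by
  have : g * y * g⁻¹ = MulAut.conj g y := by simp [MulAut.conj_apply]
  rw [this, MulEquiv.orderOf_eq]

/-- `A3_caseA` with the other pieces as explicit hypotheses -/
theorem A3_caseA_aux [Finite G] (h : Hyp t s K) (hk : 4 ≤ Nat.card K)
    (hG : Nat.card G = Nat.card K * (2 * Nat.card K + 1) * (2 * Nat.card K + 2))
    {x : G}
    (hcx : Nat.card (Subgroup.centralizer ({x} : Set G)) = 2 * Nat.card K + 1)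
    (heven : 2 ∣ Nat.card K)
    (hinvol : ∀ w ∈ Subgroup.centralizer ({t} : Set G), w ∉ K → orderOf w = 2)
    (hcent : ∀ y ∈ Subgroup.centralizer ({x} : Set G), y ≠ 1 →
      Subgroup.centralizer ({y} : Set G) = Subgroup.centralizer ({x} : Set G))
    (hA1 : ∃ e j : ℕ,
      Nat.card (Subgroup.normalizer ((Subgroup.centralizer ({x} : Set G) : Subgroup G) : Set G)) =
        Nat.card (Subgroup.centralizer ({x} : Set G)) * e ∧
      e ∣ Nat.card (Subgroup.centralizer ({x} : Set G)) - 1 ∧
      Nat.card G =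
        Nat.card (Subgroup.normalizer ((Subgroup.centralizer ({x} : Set G) : Subgroup G) : Set G)) *
          (1 + j * Nat.card (Subgroup.centralizer ({x} : Set G)))) :
    ∃ Q : Subgroup G, Nat.card Q = 2 * Nat.card K + 1 ∧
      (∀ y ∈ Q, y ≠ 1 → Subgroup.centralizer ({y} : Set G) = Q) ∧ Q ⊓ K = ⊥ ∧
      Subgroup.normalizer (Q : Set G) = Q ⊔ K := by
  set Q : Subgroup G := Subgroup.centralizer ({x} : Set G) with hQdef
  set k : ℕ := Nat.card K with hkdef
  set N : Subgroup G := Subgroup.normalizer (Q : Set G) with hNdef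
  obtain ⟨e, j, hN, he, hGN⟩ := hA1
  have hek : e = k := by
    apply arith_A (j := j) _ (by omega)
    · rw [← hG, hGN, hN, hcx]
    · rw [hcx, Nat.add_sub_cancel] at he
      exact he
  have hNcard : Nat.card N = (2 * k + 1) * k := by rw [hN, hcx, hek]
  have hQN : Q ≤ N := Subgroup.le_normalizer
  -- Schur–Zassenhaus inside `N`
  have hQ'card : Nat.card (Q.subgroupOf N) = 2 * k + 1 := by
    rw [Nat.card_congr (Subgroup.subgroupOfEquivOfLe hQN).toEquiv, hcx]
  have hQ'idx : (Q.subgroupOf N).index = k := by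
    have h1 := Subgroup.card_mul_index (Q.subgroupOf N)
    rw [hQ'card, hNcard] at h1
    exact Nat.eq_of_mul_eq_mul_left (by omega) h1
  have hcop : (2 * k + 1).Coprime k := by
    rw [Nat.coprime_comm]
    have : (2 * k + 1) = 1 + k * 2 := by ring
    rw [this, Nat.coprime_add_mul_left_right]
    exact Nat.coprime_one_right k
  obtain ⟨D', hD'⟩ := Subgroup.exists_right_complement'_of_coprime (N := Q.subgroupOf N)
    (by rw [hQ'card, hQ'idx]; exact hcop)
  have hD'card : Nat.card D' = k := by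
    rw [← hD'.symm.index_eq_card, hQ'idx]
  set D : Subgroup G := D'.map N.subtype with hDdef
  have hDcard : Nat.card D = k := by
    rw [← hD'card]
    exact Nat.card_congr (Subgroup.equivMapOfInjective D' N.subtype N.subtype_injective).symm.toEquiv
  have hDN : D ≤ N := Subgroup.map_subtype_le D'
  have hQD : Q ⊓ D = ⊥ :=
    (Subgroup.disjoint_of_coprime_natCard (by rw [hcx, hDcard]; exact hcop)).eq_bot
  have hsup : Q ⊔ D = N := by
    have h1 : (Q.subgroupOf N ⊔ D').map N.subtype = N := by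
      rw [hD'.sup_eq_top, ← MonoidHom.range_eq_map, Subgroup.range_subtype]
    rw [Subgroup.map_sup, Subgroup.subgroupOf_map_subtype, inf_of_le_left hQN] at h1
    exact h1
  -- an involution `z` of `D`
  have : Fact (Nat.Prime 2) := ⟨Nat.prime_two⟩
  obtain ⟨z', hz'⟩ := exists_prime_orderOf_dvd_card' (G := D) 2 (by rw [hDcard]; exact heven)
  set z : G := (z' : G) with hzdef
  have hzD : z ∈ D := z'.2
  have hz2 : orderOf z = 2 := by rw [hzdef, Subgroup.orderOf_coe]; exact hz'
  -- every involution of `D` inverts `Q`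
  have hinvQ : ∀ w ∈ D, orderOf w = 2 → ∀ d ∈ Q, w * d * w⁻¹ = d⁻¹ := by
    intro w hwD hw2
    have hww : w * w = 1 := by rw [← pow_two, ← hw2, pow_orderOf_eq_one]
    have hwN : w ∈ N := hDN hwD
    apply Cfsg.Agent.Lib.Helper9.inverts_of_fixedPointFree hww
    · intro d hd
      exact (Subgroup.mem_normalizer_iff.mp hwN d).mp hd
    · intro d hd hfix
      by_contra hd1
      have hwC : w ∈ Subgroup.centralizer ({d} : Set G) := by
        rw [Subgroup.mem_centralizer_iff]
        intro y hy
        rw [Set.mem_singleton_iff] at hy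
        subst hy
        calc y * w = (w * y * w⁻¹)⁻¹⁻¹ * w := by rw [inv_inv, hfix]
          _ = w * y := by rw [inv_inv]; group
      rw [hcent d hd hd1] at hwC
      have : w ∈ Q ⊓ D := ⟨hwC, hwD⟩
      rw [hQD, Subgroup.mem_bot] at this
      rw [this, orderOf_one] at hw2
      omega
  have hxQ : x ∈ Q := by
    rw [hQdef, Subgroup.mem_centralizer_iff]
    intro y hy
    rw [Set.mem_singleton_iff] at hy
    rw [hy]
  -- `z` is the unique involution of `D`
  have huniq : ∀ w ∈ D, orderOf w = 2 → w = z := by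
    intro w hwD hw2
    have h1 := hinvQ w hwD hw2 x hxQ
    have h2 := hinvQ z hzD hz2 x hxQ
    have hzw : z * w ∈ Q := by
      rw [hQdef, Subgroup.mem_centralizer_iff]
      intro y hy
      rw [Set.mem_singleton_iff] at hy
      subst hy
      have e1 : z * w * y * (z * w)⁻¹ = z * (w * y * w⁻¹) * z⁻¹ := by group
      have e2 : z * w * y * (z * w)⁻¹ = y := by
        rw [e1, h1]
        have : z * y⁻¹ * z⁻¹ = (z * y * z⁻¹)⁻¹ := by group
        rw [this, h2, inv_inv]
      calc y * (z * w) = (z * w * y * (z * w)⁻¹) * (z * w) := by rw [e2]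
        _ = z * w * y := by group
    have : z * w ∈ Q ⊓ D := ⟨hzw, D.mul_mem hzD hwD⟩
    rw [hQD, Subgroup.mem_bot] at this
    have hzz : z * z = 1 := by rw [← pow_two, ← hz2, pow_orderOf_eq_one]
    calc w = (z * z) * w := by rw [hzz, one_mul]
      _ = z * (z * w) := by group
      _ = z := by rw [this, mul_one]
  -- `z` is central in `D`
  have hcentral : ∀ d ∈ D, d * z * d⁻¹ = z := by
    intro d hd
    apply huniq _ (D.mul_mem (D.mul_mem hd hzD) (D.inv_mem hd))
    rw [orderOf_conj', hz2]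
  -- conjugate `t` to `z`
  obtain ⟨g, hg⟩ := isConj_iff.mp (h.hconj t z h.ht hz2)
  -- `D = K^g`
  have hDK : D = K.map (MulAut.conj g).toMonoidHom := by
    have hle : D ≤ K.map (MulAut.conj g).toMonoidHom := by
      intro d hd
      have hdC : g⁻¹ * d * g ∈ Subgroup.centralizer ({t} : Set G) := by
        rw [Subgroup.mem_centralizer_iff]
        intro y hy
        rw [Set.mem_singleton_iff] at hy
        subst hy
        have h1 := hcentral d hd
        rw [← hg] at h1
        have h2 : g⁻¹ * (d * (g * y * g⁻¹) * d⁻¹) * g = g⁻¹ * (g * y * g⁻¹) * g := by rw [h1]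
        have h3 : (g⁻¹ * d * g) * y * (g⁻¹ * d * g)⁻¹ = y := by
          calc (g⁻¹ * d * g) * y * (g⁻¹ * d * g)⁻¹ = g⁻¹ * (d * (g * y * g⁻¹) * d⁻¹) * g := by group
            _ = g⁻¹ * (g * y * g⁻¹) * g := h2
            _ = y := by group
        calc y * (g⁻¹ * d * g) = ((g⁻¹ * d * g) * y * (g⁻¹ * d * g)⁻¹) * (g⁻¹ * d * g) := by rw [h3]
          _ = g⁻¹ * d * g * y := by group
      have hdK : g⁻¹ * d * g ∈ K := by
        by_contra hnot
        have h2 := hinvol _ hdC hnot
        have h3 : orderOf d = 2 := by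
          have : g⁻¹ * d * g = g⁻¹ * d * g⁻¹⁻¹ := by rw [inv_inv]
          rw [this, orderOf_conj'] at h2
          exact h2
        have h4 := huniq d hd h3
        apply hnot
        rw [h4, ← hg]
        have : g⁻¹ * (g * t * g⁻¹) * g = t := by group
        rw [this]
        exact h.htK
      refine ⟨g⁻¹ * d * g, hdK, ?_⟩
      simp only [MulEquiv.coe_toMonoidHom, MulAut.conj_apply]
      group
    have hcardK : Nat.card (K.map (MulAut.conj g).toMonoidHom) = k := by
      rw [hkdef]
      exact Nat.card_congr (Subgroup.equivMapOfInjective K (MulAut.conj g).toMonoidHom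
        (MulAut.conj g).injective).symm.toEquiv
    exact Subgroup.eq_of_le_of_card_ge hle (by rw [hcardK, hDcard])
  -- the conjugate `Q₀ = g⁻¹ Q g`
  refine ⟨Q.map (MulAut.conj g⁻¹).toMonoidHom, ?_, ?_, ?_, ?_⟩
  · rw [← hcx]
    exact Nat.card_congr (Subgroup.equivMapOfInjective Q (MulAut.conj g⁻¹).toMonoidHom
      (MulAut.conj g⁻¹).injective).symm.toEquiv
  · rintro y ⟨y', hy', rfl⟩ hy1
    simp only [MulEquiv.coe_toMonoidHom, MulAut.conj_apply] at hy1 ⊢
    have hy'1 : y' ≠ 1 := by
      rintro rfl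
      apply hy1
      group
    rw [centralizer_conj, hcent y' hy' hy'1]
  · apply Disjoint.eq_bot
    apply Subgroup.disjoint_of_coprime_natCard
    have : Nat.card (Q.map (MulAut.conj g⁻¹).toMonoidHom) = 2 * k + 1 := by
      rw [← hcx]
      exact Nat.card_congr (Subgroup.equivMapOfInjective Q (MulAut.conj g⁻¹).toMonoidHom
        (MulAut.conj g⁻¹).injective).symm.toEquiv
    rw [this]
    exact hcop
  · have h1 : (Subgroup.normalizer ((Q.map (MulAut.conj g⁻¹).toMonoidHom : Subgroup G) : Set G)) =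
        N.map (MulAut.conj g⁻¹).toMonoidHom := by
      rw [hNdef]
      exact (Subgroup.map_equiv_normalizer_eq Q (MulAut.conj g⁻¹)).symm
    rw [h1, ← hsup, Subgroup.map_sup, hDK, Subgroup.map_map]
    congr 1
    have : (MulAut.conj g⁻¹).toMonoidHom.comp (MulAut.conj g).toMonoidHom = MonoidHom.id G := by
      ext y
      simp only [MonoidHom.comp_apply, MulEquiv.coe_toMonoidHom, MulAut.conj_apply, MonoidHom.id_apply]
      group
    rw [this, Subgroup.map_id]

end Cfsg.Agent.Lib.Helper15.S3282A3
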