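import Mathlib
import Cfsg.Prelude.Def_LinearParabolics

/-!
# Bruhat decomposition of `GL_n(F)` over a finite field: `G = B W B`

Proof by maximising the total number of leading zeros of the rows over the coset `B g`.
-/

set_option autoImplicit false
open scoped MatrixGroups

namespace Cfsg.Agent.Lib.Helper15.Bru

open Matrix

variable {F : Type*} [Field F] {n : ℕ}

/-! ### leading zeros -/

theorem exists_lz (r : Fin n → F) : ∃ j : ℕ, ∀ h : j < n, r ⟨j, h⟩ ≠ 0 :=
  ⟨n, fun h => absurd h (lt_irrefl n)⟩

open Classical in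
/-- the number of leading zeros of a row -/
noncomputable def lz (r : Fin n → F) : ℕ := Nat.find (exists_lz r)

theorem lz_le (r : Fin n → F) : lz r ≤ n := by
  classical
  exact Nat.find_min' _ (fun h => absurd h (lt_irrefl n))

theorem lz_spec (r : Fin n → F) (h : lz r < n) : r ⟨lz r, h⟩ ≠ 0 := by
  classical
  exact Nat.find_spec (exists_lz r) h

theorem lz_zero (r : Fin n → F) (j : Fin n) (hj : j.val < lz r) : r j = 0 := by
  classical
  have := Nat.find_min (exists_lz r) hj
  simp only [not_forall, not_not] at this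
  obtain ⟨h, h0⟩ := this
  exact h0

theorem le_lz (r : Fin n → F) (m : ℕ) (hmn : m ≤ n) (hm : ∀ j : Fin n, j.val < m → r j = 0) :
    m ≤ lz r := by
  by_contra hlt
  have h1 : lz r < n := by omega
  exact lz_spec r h1 (hm ⟨lz r, h1⟩ (by simpa using hlt))

theorem lz_lt_of_ne_zero (r : Fin n → F) (hr : r ≠ 0) : lz r < n := by
  by_contra h
  have h1 : lz r = n := le_antisymm (lz_le r) (not_lt.1 h)
  apply hr
  ext j
  exact lz_zero r j (by rw [h1]; exact j.2)

/-- the measure: total number of leading zeros -/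
noncomputable def meas (M : Matrix (Fin n) (Fin n) F) : ℕ := ∑ i, lz (M i)

theorem row_ne_zero (g : GL (Fin n) F) (i : Fin n) : (g : Matrix (Fin n) (Fin n) F) i ≠ 0 := by
  intro h
  apply g.det_ne_zero
  exact Matrix.det_eq_zero_of_row_eq_zero i (fun j => by
    have := congrFun h j
    simpa using this)

/-! ### elementary upper triangular matrices -/

/-- the transvection `1 + c E_{i i'}` as an element of `GL` -/
noncomputable def tGL (i i' : Fin n) (h : i ≠ i') (c : F) : GL (Fin n) F :=
  GeneralLinearGroup.mkOfDetNeZero (Matrix.transvection i i' c) (by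
    rw [Matrix.det_transvection_of_ne i i' h]; exact one_ne_zero)

theorem coe_tGL (i i' : Fin n) (h : i ≠ i') (c : F) :
    ((tGL i i' h c : GL (Fin n) F) : Matrix (Fin n) (Fin n) F) = Matrix.transvection i i' c := rfl

theorem tGL_mem (i i' : Fin n) (h : i < i') (c : F) :
    tGL i i' h.ne c ∈ Cfsg.upperTriangularGL n F := by
  change (Matrix.transvection i i' c).BlockTriangular id
  intro a b hab
  simp only [id] at hab
  rw [Matrix.transvection, Matrix.add_apply, Matrix.one_apply_ne hab.ne', zero_add, Matrix.single_apply]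
  rw [if_neg]
  rintro ⟨rfl, rfl⟩
  exact absurd h (not_lt.2 hab.le)

/-! ### permutation matrices in `GL` -/

/-- the permutation matrix of `σ` as an element of `GL` -/
noncomputable def permGL (σ : Equiv.Perm (Fin n)) : GL (Fin n) F :=
  GeneralLinearGroup.mkOfDetNeZero (σ.permMatrix F) (by
    rw [Matrix.det_permutation]
    rcases Int.units_eq_one_or (Equiv.Perm.sign σ) with h | h <;> rw [h] <;> simp)

theorem coe_permGL (σ : Equiv.Perm (Fin n)) :
    ((permGL σ : GL (Fin n) F) : Matrix (Fin n) (Fin n) F) = σ.permMatrix F := rfl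

theorem permGL_apply (σ : Equiv.Perm (Fin n)) (i j : Fin n) :
    ((permGL σ : GL (Fin n) F) : Matrix (Fin n) (Fin n) F) i j = if σ i = j then 1 else 0 := by
  rw [coe_permGL, Equiv.Perm.permMatrix, PEquiv.toMatrix_apply]
  simp [Equiv.toPEquiv_apply]

theorem permGL_mul (σ τ : Equiv.Perm (Fin n)) :
    (permGL (σ * τ) : GL (Fin n) F) = permGL τ * permGL σ := by
  apply Units.ext
  change (σ * τ).permMatrix F = τ.permMatrix F * σ.permMatrix F
  exact Matrix.permMatrix_mul σ τ

/-! ### the Bruhat decomposition -/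

theorem bruhat [Finite F] (g : GL (Fin n) F) :
    ∃ b₁ ∈ Cfsg.upperTriangularGL n F, ∃ b₂ ∈ Cfsg.upperTriangularGL n F,
      ∃ σ : Equiv.Perm (Fin n), g = b₁ * permGL σ * b₂ := by
  classical
  have : Fintype F := Fintype.ofFinite F
  have : Fintype ↥(Cfsg.upperTriangularGL n F) := Fintype.ofFinite _
  obtain ⟨b, -, hb⟩ := Finset.exists_max_image (Finset.univ : Finset ↥(Cfsg.upperTriangularGL n F))
    (fun b => meas (((b : GL (Fin n) F) * g : GL (Fin n) F) : Matrix (Fin n) (Fin n) F))
    ⟨1, Finset.mem_univ _⟩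
  set h : GL (Fin n) F := (b : GL (Fin n) F) * g with hh
  have hlt : ∀ a : Fin n, lz ((h : Matrix (Fin n) (Fin n) F) a) < n := fun a =>
    lz_lt_of_ne_zero _ (row_ne_zero h a)
  -- the pivots are distinct
  have hinj : ∀ a a' : Fin n, a < a' →
      lz ((h : Matrix (Fin n) (Fin n) F) a) ≠ lz ((h : Matrix (Fin n) (Fin n) F) a') := by
    intro a a' haa' heq
    set c₀ : Fin n := ⟨lz ((h : Matrix (Fin n) (Fin n) F) a), hlt a⟩ with hc₀
    have hpiv' : (h : Matrix (Fin n) (Fin n) F) a' c₀ ≠ 0 := by
      have := lz_spec _ (hlt a')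
      have e : (⟨lz ((h : Matrix (Fin n) (Fin n) F) a'), hlt a'⟩ : Fin n) = c₀ := by
        apply Fin.ext
        simp [hc₀, heq]
      rwa [e] at this
    set c : F := -((h : Matrix (Fin n) (Fin n) F) a c₀ / (h : Matrix (Fin n) (Fin n) F) a' c₀) with hc
    set t : GL (Fin n) F := tGL a a' haa'.ne c with ht
    have htB : t ∈ Cfsg.upperTriangularGL n F := tGL_mem a a' haa' c
    have hmax := hb ⟨t * (b : GL (Fin n) F), (Cfsg.upperTriangularGL n F).mul_mem htB b.2⟩
      (Finset.mem_univ _)
    simp only [] at hmax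
    rw [mul_assoc, ← hh] at hmax
    -- the measure has strictly increased
    have hrows : ∀ i : Fin n, i ≠ a →
        ((t * h : GL (Fin n) F) : Matrix (Fin n) (Fin n) F) i = (h : Matrix (Fin n) (Fin n) F) i := by
      intro i hi
      ext j
      rw [GeneralLinearGroup.coe_mul, ht, coe_tGL, Matrix.transvection_mul_apply_of_ne a a' i j hi]
    have hrowa : lz ((h : Matrix (Fin n) (Fin n) F) a) + 1 ≤
        lz (((t * h : GL (Fin n) F) : Matrix (Fin n) (Fin n) F) a) := by
      apply le_lz _ _ (hlt a)
      intro j hj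
      rw [GeneralLinearGroup.coe_mul, ht, coe_tGL, Matrix.transvection_mul_apply_same a a' j]
      rcases Nat.lt_succ_iff_lt_or_eq.1 hj with hj' | hj'
      · rw [lz_zero ((h : Matrix (Fin n) (Fin n) F) a) j hj',
          lz_zero ((h : Matrix (Fin n) (Fin n) F) a') j (by rw [← heq]; exact hj'), mul_zero, add_zero]
      · have e : j = c₀ := Fin.ext hj'
        rw [e, hc]
        field_simp
        ring
    have : meas ((h : GL (Fin n) F) : Matrix (Fin n) (Fin n) F) <
        meas ((t * h : GL (Fin n) F) : Matrix (Fin n) (Fin n) F) := by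
      unfold meas
      apply Finset.sum_lt_sum
      · intro i _
        by_cases hi : i = a
        · rw [hi]; omega
        · rw [hrows i hi]
      · exact ⟨a, Finset.mem_univ _, by omega⟩
    omega
  -- the pivot permutation
  let π : Fin n → Fin n := fun a => ⟨lz ((h : Matrix (Fin n) (Fin n) F) a), hlt a⟩
  have hπinj : Function.Injective π := by
    intro a a' haa'
    by_contra hne
    have hval : lz ((h : Matrix (Fin n) (Fin n) F) a) = lz ((h : Matrix (Fin n) (Fin n) F) a') :=
      congrArg Fin.val haa'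
    rcases lt_or_gt_of_ne hne with hl | hl
    · exact hinj a a' hl hval
    · exact hinj a' a hl hval.symm
  let σ : Equiv.Perm (Fin n) := Equiv.ofBijective π (Finite.injective_iff_bijective.1 hπinj)
  have hσ : ∀ a, σ a = π a := fun a => rfl
  -- `u = w⁻¹ h` is upper triangular
  set u : GL (Fin n) F := (permGL σ)⁻¹ * h with hu
  have hu_apply : ∀ i j, (u : Matrix (Fin n) (Fin n) F) i j =
      (h : Matrix (Fin n) (Fin n) F) (σ.symm i) j := by
    intro i j
    have e1 : (permGL σ : GL (Fin n) F)⁻¹ = permGL σ⁻¹ := by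
      rw [inv_eq_iff_eq_inv, ← mul_eq_one_iff_eq_inv, ← permGL_mul]
      rw [inv_mul_cancel]
      apply Units.ext
      change (1 : Equiv.Perm (Fin n)).permMatrix F = 1
      exact Matrix.permMatrix_one
    rw [hu, e1, GeneralLinearGroup.coe_mul, coe_permGL, Equiv.Perm.permMatrix,
      PEquiv.toMatrix_toPEquiv_mul]
    rfl
  have huB : u ∈ Cfsg.upperTriangularGL n F := by
    change (u : Matrix (Fin n) (Fin n) F).BlockTriangular id
    intro i j hji
    simp only [id] at hji
    rw [hu_apply]
    apply lz_zero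
    have : (σ (σ.symm i)).val = lz ((h : Matrix (Fin n) (Fin n) F) (σ.symm i)) := by
      rw [hσ]
    rw [← this, Equiv.apply_symm_apply]
    exact hji
  refine ⟨(b : GL (Fin n) F)⁻¹, (Cfsg.upperTriangularGL n F).inv_mem b.2, u, huB, σ, ?_⟩
  rw [hu, hh]
  group

end Cfsg.Agent.Lib.Helper15.Bru
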