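import Mathlib
import Cfsg.Agent.Lib.Helper28.TensUDefs
import Cfsg.Agent.Lib.Helper13.SUNondeg
import Cfsg.Agent.Lib.Helper13.TensorNM

/-!
# S5670 FO-T4: vocabulary (helper15)

The spreading argument `ug_sl_le_of_transvection` is done on `Fin n → F` (`n = a * b`) with helper13's
engine `SuX q M x` (`x` isotropic and every unitary transvection with centre `x` lies in `M`).

* `TP q tp`       : `tp : F^a → F^b → F^n` is bilinear, multiplicative for the standard hermitian forms and its values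
                    `tp e_i w` span;
* `KronIn q M tp` : every `A ∈ SU_a`, `B ∈ SU_b` is induced (`A ⊗ 1`, `1 ⊗ B`) by an element of `SU_n` lying in `M`;
* `InI q M tp u`  : `tp u k ∈ X` for every isotropic `k`;   `InJ q M tp u` : `tp u w ∈ X` for every `w`;
* `eAB`, `tpc`, `Mp` : the concrete data for `V = Fin a × Fin b → F`.
-/

set_option autoImplicit false

namespace Cfsg.Agent.Lib.Helper15.S5670T4

open Matrix Module
open Cfsg.Agent.Lib.Helper6 Cfsg.Agent.Lib.Helper6.SUG Cfsg.Agent.Lib.Helper13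

variable {F : Type*} [Field F] [Fintype F] {a b n : ℕ}

/-- an abstract tensor product `F^a ⊗ F^b ≃ F^n`, compatible with the standard hermitian forms -/
structure TP (q : ℕ) (tp : (Fin a → F) → (Fin b → F) → (Fin n → F)) : Prop where
  add_left : ∀ u u' w, tp (u + u') w = tp u w + tp u' w
  smul_left : ∀ (c : F) u w, tp (c • u) w = c • tp u w
  add_right : ∀ u w w', tp u (w + w') = tp u w + tp u w'
  smul_right : ∀ (c : F) u w, tp u (c • w) = c • tp u w
  herm : ∀ u u' w w', Cfsg.hermForm n F q (tp u w) (tp u' w') =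
    Cfsg.hermForm a F q u u' * Cfsg.hermForm b F q w w'
  span : ∀ x : Fin n → F, ∃ w : Fin a → (Fin b → F), x = ∑ i, tp (Pi.single i 1) (w i)

/-- `SU_a ⊗ 1` and `1 ⊗ SU_b` are induced by elements of `SU_n` lying in `M` -/
structure KronIn (q : ℕ) (M : Subgroup (GL (Fin n) F))
    (tp : (Fin a → F) → (Fin b → F) → (Fin n → F)) : Prop where
  left : ∀ A : ↥(Cfsg.SU a F q), ∃ g : ↥(Cfsg.SU n F q), suGL n F q g ∈ M ∧
    ∀ u w, av g (tp u w) = tp (av A u) w
  right : ∀ B : ↥(Cfsg.SU b F q), ∃ g : ↥(Cfsg.SU n F q), suGL n F q g ∈ M ∧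
    ∀ u w, av g (tp u w) = tp u (av B w)

/-- `u ⊗ k ∈ X` for every isotropic `k` -/
def InI (q : ℕ) (M : Subgroup (GL (Fin n) F)) (tp : (Fin a → F) → (Fin b → F) → (Fin n → F))
    (u : Fin a → F) : Prop :=
  ∀ k : Fin b → F, Cfsg.hermForm b F q k k = 0 → SuX q M (tp u k)

/-- `u ⊗ w ∈ X` for every `w` -/
def InJ (q : ℕ) (M : Subgroup (GL (Fin n) F)) (tp : (Fin a → F) → (Fin b → F) → (Fin n → F))
    (u : Fin a → F) : Prop :=
  ∀ w : Fin b → F, SuX q M (tp u w)

/-- the index bijection -/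
def eAB (a b : ℕ) : Fin (a * b) ≃ Fin a × Fin b := finProdFinEquiv.symm

/-- the concrete tensor map: `tpc u w i = u i₁ * w i₂` -/
def tpc (u : Fin a → F) (w : Fin b → F) : Fin (a * b) → F :=
  fun i => u (eAB a b i).1 * w (eAB a b i).2

/-- the group `M` transported to `GL (Fin (a * b)) F` -/
def Mp (M : Subgroup (GL (Fin a × Fin b) F)) : Subgroup (GL (Fin (a * b)) F) :=
  M.map (Cfsg.Agent.Lib.Helper13.TNM.psi (eAB a b) 1)

end Cfsg.Agent.Lib.Helper15.S5670T4
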