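import Mathlib
import Cfsg.Agent.Lib.Helper15.RegUnip4

set_option autoImplicit false

namespace Cfsg.Agent.Lib.Helper15

open Module Matrix

variable {F : Type*} [Field F]

theorem det_one_add_shiftMat (n : ℕ) : (1 + shiftMat F n).det = 1 := by
  have := det_smul_one_add_of_pow_eq_zero (shiftMat F n) n (shiftMat_pow_self n) (1 : F)
  rwa [one_smul, one_pow] at this

/-- the standard regular unipotent element of `GL_n` -/
noncomputable def stdRegUnip (F : Type*) [Field F] (n : ℕ) : GL (Fin n) F :=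
  Matrix.GeneralLinearGroup.mkOfDetNeZero (1 + shiftMat F n) (by rw [det_one_add_shiftMat]; exact one_ne_zero)

theorem coe_stdRegUnip (n : ℕ) : (stdRegUnip F n : Matrix (Fin n) (Fin n) F) = 1 + shiftMat F n := rfl

theorem det_stdRegUnip (n : ℕ) : Matrix.GeneralLinearGroup.det (stdRegUnip F n) = 1 := by
  apply Units.ext
  show (1 + shiftMat F n).det = 1
  exact det_one_add_shiftMat n

/-- `L0`: every regular unipotent is conjugate in `GL_n` to the standard one -/
theorem exists_conj_stdRegUnip {n : ℕ} (hn : 1 ≤ n) (u : GL (Fin n) F)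
    (hnil : ((u : Matrix (Fin n) (Fin n) F) - 1) ^ n = 0) (hrank : ((u : Matrix (Fin n) (Fin n) F) - 1).rank = n - 1) :
    ∃ P : GL (Fin n) F, u = P * stdRegUnip F n * P⁻¹ := by
  obtain ⟨P, hP, hcomm⟩ := exists_conj_shift hn _ hnil hrank
  refine ⟨Matrix.GeneralLinearGroup.mkOfDetNeZero P hP.ne_zero, ?_⟩
  rw [eq_mul_inv_iff_mul_eq]
  apply Units.ext
  show (u : Matrix (Fin n) (Fin n) F) * P = P * (1 + shiftMat F n)
  rw [mul_add, mul_one, ← hcomm, sub_mul, one_mul]
  abel

/-- `L1`: the determinant of the conjugating element is determined up to `n`-th powers -/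
theorem det_conj_unique {n : ℕ} (hn : 1 ≤ n) (P P' : GL (Fin n) F)
    (h : P * stdRegUnip F n * P⁻¹ = P' * stdRegUnip F n * P'⁻¹) :
    ∃ a : Fˣ, Matrix.GeneralLinearGroup.det P' = Matrix.GeneralLinearGroup.det P * a ^ n := by
  set c : GL (Fin n) F := P⁻¹ * P' with hc
  have hcomm : c * stdRegUnip F n = stdRegUnip F n * c := by
    rw [hc]
    have h1 : stdRegUnip F n = P⁻¹ * (P' * stdRegUnip F n * P'⁻¹) * P := by
      rw [← h]; group
    calc P⁻¹ * P' * stdRegUnip F n = P⁻¹ * (P' * stdRegUnip F n * P'⁻¹) * P' := by group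
      _ = (P⁻¹ * (P' * stdRegUnip F n * P'⁻¹) * P) * (P⁻¹ * P') := by group
      _ = stdRegUnip F n * (P⁻¹ * P') := by rw [← h1]
  have hcomm' : (c : Matrix (Fin n) (Fin n) F) * shiftMat F n = shiftMat F n * (c : Matrix (Fin n) (Fin n) F) := by
    have := congrArg (fun g : GL (Fin n) F => (g : Matrix (Fin n) (Fin n) F)) hcomm
    simp only [Matrix.GeneralLinearGroup.coe_mul, coe_stdRegUnip, mul_add, add_mul, mul_one, one_mul] at this
    exact add_left_cancel this
  obtain ⟨a, ha⟩ := exists_det_eq_pow_of_comm (shiftMat F n) (c : Matrix (Fin n) (Fin n) F) (shiftMat_pow_self n)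
    (rank_shiftMat n hn) hcomm'
  have ha0 : a ≠ 0 := by
    intro h0
    rw [h0, zero_pow (by omega)] at ha
    exact Matrix.GeneralLinearGroup.det_ne_zero c ha
  refine ⟨Units.mk0 a ha0, ?_⟩
  have hdet : Matrix.GeneralLinearGroup.det c = Units.mk0 a ha0 ^ n := by
    apply Units.ext
    rw [Units.val_pow_eq_pow_val]
    exact ha
  rw [← hdet, hc, map_mul, map_inv]
  group


/-- `L3` -/
theorem isConj_of_det_eq {n : ℕ} (u u' : Matrix.SpecialLinearGroup (Fin n) F) (P P' : GL (Fin n) F)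
    (hu : Matrix.SpecialLinearGroup.toGL u = P * stdRegUnip F n * P⁻¹)
    (hu' : Matrix.SpecialLinearGroup.toGL u' = P' * stdRegUnip F n * P'⁻¹) (a : Fˣ)
    (hdet : Matrix.GeneralLinearGroup.det P' = Matrix.GeneralLinearGroup.det P * a ^ n) : IsConj u u' := by
  set s : GL (Fin n) F := Matrix.GeneralLinearGroup.scalar (Fin n) a⁻¹ with hs
  have hsc : ∀ A : GL (Fin n) F, s * A = A * s := fun A => Matrix.GeneralLinearGroup.scalar_commute _ A
  set g : GL (Fin n) F := P' * s * P⁻¹ with hg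
  have hgdet : Matrix.GeneralLinearGroup.det g = 1 := by
    rw [hg, map_mul, map_mul, map_inv, hdet, hs, Matrix.GeneralLinearGroup.det_scalar, Fintype.card_fin]
    rw [inv_pow]
    group
  have hgu : g * Matrix.SpecialLinearGroup.toGL u * g⁻¹ = Matrix.SpecialLinearGroup.toGL u' := by
    rw [hu, hu', hg]
    have h1 : s * stdRegUnip F n = stdRegUnip F n * s := hsc _
    calc P' * s * P⁻¹ * (P * stdRegUnip F n * P⁻¹) * (P' * s * P⁻¹)⁻¹
        = P' * (s * stdRegUnip F n) * s⁻¹ * P'⁻¹ := by group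
      _ = P' * (stdRegUnip F n * s) * s⁻¹ * P'⁻¹ := by rw [h1]
      _ = P' * stdRegUnip F n * P'⁻¹ := by group
  have hgdet' : (g : Matrix (Fin n) (Fin n) F).det = 1 := by
    have := congrArg Units.val hgdet
    exact this
  obtain ⟨h, hh⟩ : ∃ h : Matrix.SpecialLinearGroup (Fin n) F, Matrix.SpecialLinearGroup.toGL h = g :=
    ⟨⟨(g : Matrix (Fin n) (Fin n) F), hgdet'⟩, by apply Units.ext; rfl⟩
  rw [isConj_iff]
  refine ⟨h, ?_⟩
  apply Matrix.SpecialLinearGroup.toGL_injective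
  rw [map_mul, map_mul, map_inv, hh]
  exact hgu

/-- `L4` -/
theorem exists_regUnip_with_det {n : ℕ} (hn : 1 ≤ n) (d : Fˣ) :
    ∃ (u : Matrix.SpecialLinearGroup (Fin n) F) (P : GL (Fin n) F),
      ((u : Matrix (Fin n) (Fin n) F) - 1) ^ n = 0 ∧ ((u : Matrix (Fin n) (Fin n) F) - 1).rank = n - 1 ∧
      Matrix.SpecialLinearGroup.toGL u = P * stdRegUnip F n * P⁻¹ ∧ Matrix.GeneralLinearGroup.det P = d := by
  have : Nonempty (Fin n) := ⟨⟨0, hn⟩⟩
  obtain ⟨P, hP⟩ := Matrix.GeneralLinearGroup.det_surjective (n := Fin n) (R := F) d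
  set g : GL (Fin n) F := P * stdRegUnip F n * P⁻¹ with hg
  have hgdet : Matrix.GeneralLinearGroup.det g = 1 := by
    rw [hg, map_mul, map_mul, map_inv, det_stdRegUnip]
    group
  have hgdet' : (g : Matrix (Fin n) (Fin n) F).det = 1 := congrArg Units.val hgdet
  have hval : (g : Matrix (Fin n) (Fin n) F) - 1 =
      (P : Matrix (Fin n) (Fin n) F) * shiftMat F n * ((P⁻¹ : GL (Fin n) F) : Matrix (Fin n) (Fin n) F) := by
    rw [hg]
    show (P : Matrix (Fin n) (Fin n) F) * (1 + shiftMat F n) * ((P⁻¹ : GL (Fin n) F) : Matrix (Fin n) (Fin n) F) - 1 = _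
    rw [mul_add, add_mul, mul_one]
    have : (P : Matrix (Fin n) (Fin n) F) * ((P⁻¹ : GL (Fin n) F) : Matrix (Fin n) (Fin n) F) = 1 := by
      rw [← Matrix.GeneralLinearGroup.coe_mul, mul_inv_cancel]; rfl
    rw [this]
    abel
  refine ⟨⟨(g : Matrix (Fin n) (Fin n) F), hgdet'⟩, P, ?_, ?_, ?_, hP⟩
  · show ((g : Matrix (Fin n) (Fin n) F) - 1) ^ n = 0
    rw [hval, Units.conj_pow, shiftMat_pow_self, mul_zero, zero_mul]
  · show ((g : Matrix (Fin n) (Fin n) F) - 1).rank = n - 1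
    rw [hval, Matrix.rank_mul_eq_left_of_isUnit_det _ _ (by
        have := Matrix.GeneralLinearGroup.det_ne_zero (P⁻¹ : GL (Fin n) F)
        exact isUnit_iff_ne_zero.mpr this),
      Matrix.rank_mul_eq_right_of_isUnit_det _ _ (by
        have := Matrix.GeneralLinearGroup.det_ne_zero P
        exact isUnit_iff_ne_zero.mpr this), rank_shiftMat n hn]
  · apply Units.ext
    rfl

end Cfsg.Agent.Lib.Helper15
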