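import Mathlib
import Cfsg.Agent.Lib.Helper14.StGLDefs

set_option autoImplicit false

namespace Cfsg.Agent.Lib.Helper15.S2425Q5

open Cfsg Cfsg.Agent.Lib.Helper14.StGL
open scoped MatrixGroups

variable {F : Type*} [Field F] {n : ℕ}

theorem psum_mono (μ : Fin n → ℕ) : Monotone (psum μ) := by
  intro j j' h
  unfold psum
  apply Finset.sum_le_sum_of_subset
  intro k hk
  rw [Finset.mem_filter] at hk ⊢
  exact ⟨hk.1, hk.2.trans h⟩

/-- FLAG-1c -/
theorem stdFlag_mono (μ : Fin n → ℕ) : Monotone (stdFlag F μ) := by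
  intro j j' h v hv
  rw [mem_stdFlag] at hv ⊢
  intro i hi
  exact hv i ((psum_mono μ h).trans hi)

/-- label comparison: `compLabel c < compLabel i` iff some partial sum separates `c` from `i` -/
theorem compLabel_lt_iff (μ : Fin n → ℕ) (c i : Fin n) :
    compLabel μ c < compLabel μ i ↔ ∃ j : Fin n, c.val < psum μ j ∧ psum μ j ≤ i.val := by
  classical
  unfold compLabel
  change (Finset.univ.filter fun j : Fin n => psum μ j ≤ c.val).card <
    (Finset.univ.filter fun j : Fin n => psum μ j ≤ i.val).card ↔ _
  constructor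
  · intro h
    by_contra hcon
    push Not at hcon
    have hsub : (Finset.univ.filter fun j : Fin n => psum μ j ≤ i.val) ⊆
        (Finset.univ.filter fun j : Fin n => psum μ j ≤ c.val) := by
      intro j hj
      rw [Finset.mem_filter] at hj ⊢
      refine ⟨hj.1, ?_⟩
      by_contra h2
      exact absurd hj.2 (not_le.mpr (hcon j (not_le.mp h2)))
    exact absurd (Finset.card_le_card hsub) (not_le.mpr h)
  · rintro ⟨j, hj1, hj2⟩
    apply Finset.card_lt_card
    rw [Finset.ssubset_iff_of_subset]
    · refine ⟨j, ?_, ?_⟩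
      · rw [Finset.mem_filter]; exact ⟨Finset.mem_univ _, hj2⟩
      · rw [Finset.mem_filter]; intro h; omega
    · intro k hk
      rw [Finset.mem_filter] at hk ⊢
      exact ⟨hk.1, by omega⟩

theorem single_mem_stdFlag (μ : Fin n → ℕ) (j c : Fin n) (hc : c.val < psum μ j) :
    (Pi.single c 1 : Fin n → F) ∈ stdFlag F μ j := by
  rw [mem_stdFlag]
  intro i hi
  rw [Pi.single_apply, if_neg]
  rintro rfl
  omega

theorem blockTriangular_iff_map_le (μ : Fin n → ℕ) (A : Matrix (Fin n) (Fin n) F) :
    A.BlockTriangular (compLabel μ) ↔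
      ∀ j : Fin n, (stdFlag F μ j).map (Matrix.toLin' A) ≤ stdFlag F μ j := by
  constructor
  · intro h j
    rintro _ ⟨v, hv, rfl⟩
    rw [mem_stdFlag]
    intro i hi
    rw [Matrix.toLin'_apply]
    simp only [Matrix.mulVec, dotProduct]
    apply Finset.sum_eq_zero
    intro c _
    by_cases hc : psum μ j ≤ c.val
    · rw [(mem_stdFlag F μ j v).mp hv c hc, mul_zero]
    · rw [h ((compLabel_lt_iff μ c i).mpr ⟨j, not_le.mp hc, hi⟩), zero_mul]
  · intro h i c hci
    obtain ⟨j, hj1, hj2⟩ := (compLabel_lt_iff μ c i).mp hci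
    have hmem : Matrix.toLin' A (Pi.single c 1) ∈ stdFlag F μ j :=
      h j (Submodule.mem_map_of_mem (single_mem_stdFlag μ j c hj1))
    have := (mem_stdFlag F μ j _).mp hmem i hj2
    rwa [Matrix.toLin'_apply, Matrix.mulVec_single_one] at this

/-- FLAG-1: the parabolic subgroup is the stabiliser of the standard flag. -/
theorem mem_parabolicGL_iff_map_stdFlag (μ : Fin n → ℕ) (x : GL (Fin n) F) :
    x ∈ Cfsg.parabolicGL n F μ ↔
      ∀ j : Fin n, (stdFlag F μ j).map (Matrix.toLin' (x : Matrix (Fin n) (Fin n) F)) =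
        stdFlag F μ j := by
  constructor
  · intro hx j
    have h1 : (x : Matrix (Fin n) (Fin n) F).BlockTriangular (compLabel μ) := hx
    have h2 : ((x⁻¹ : GL (Fin n) F) : Matrix (Fin n) (Fin n) F).BlockTriangular (compLabel μ) :=
      (Cfsg.parabolicGL n F μ).inv_mem hx
    apply le_antisymm ((blockTriangular_iff_map_le μ _).mp h1 j)
    intro v hv
    refine ⟨Matrix.toLin' ((x⁻¹ : GL (Fin n) F) : Matrix (Fin n) (Fin n) F) v,
      (blockTriangular_iff_map_le μ _).mp h2 j (Submodule.mem_map_of_mem hv), ?_⟩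
    rw [Matrix.toLin'_apply, Matrix.toLin'_apply, Matrix.mulVec_mulVec, ← Units.val_mul,
      mul_inv_cancel, Units.val_one, Matrix.one_mulVec]
  · intro h
    change (x : Matrix (Fin n) (Fin n) F).BlockTriangular (compLabel μ)
    rw [blockTriangular_iff_map_le]
    intro j
    rw [h j]

/-- FLAG-1b: the dimensions of the standard flag. -/
theorem finrank_stdFlag (μ : Fin n → ℕ) (hμ : ∑ i, μ i = n) (j : Fin n) :
    Module.finrank F (stdFlag F μ j) = psum μ j := by
  classical
  have hle : psum μ j ≤ n := by
    have h1 : psum μ j ≤ ∑ i, μ i := by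
      unfold psum
      exact Finset.sum_le_sum_of_subset (Finset.filter_subset _ _)
    omega
  let e : stdFlag F μ j ≃ₗ[F] ({i : Fin n // i.val < psum μ j} → F) :=
    { toFun := fun v i => (v : Fin n → F) i
      map_add' := fun _ _ => rfl
      map_smul' := fun _ _ => rfl
      invFun := fun w => ⟨fun i => if h : i.val < psum μ j then w ⟨i, h⟩ else 0, by
        rw [mem_stdFlag]
        intro i hi
        rw [dif_neg (by omega)]⟩
      left_inv := by
        intro v
        apply Subtype.ext
        funext i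
        by_cases h : i.val < psum μ j
        · simp [h]
        · simp only [h, dite_false]
          exact ((mem_stdFlag F μ j _).mp v.2 i (by omega)).symm
      right_inv := by
        intro w
        funext i
        simp [i.2] }
  rw [LinearEquiv.finrank_eq e, Module.finrank_fintype_fun_eq_card, Fintype.card_subtype]
  rw [Fin.card_filter_val_lt]
  exact min_eq_right hle

end Cfsg.Agent.Lib.Helper15.S2425Q5
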