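import Mathlib

set_option autoImplicit false

namespace Cfsg.Agent.Lib.Helper15.S2425Q6

variable {F : Type*} [Field F]

/-- two chains with the same dimensions in two spaces of the same dimension are mapped to each
other by a linear isomorphism -/
theorem exists_linearEquiv_map_flag' : ∀ (k : ℕ) {V V' : Type*} [AddCommGroup V] [Module F V]
    [FiniteDimensional F V] [AddCommGroup V'] [Module F V'] [FiniteDimensional F V']
    (hVV' : Module.finrank F V = Module.finrank F V')
    (W : Fin k → Submodule F V) (W' : Fin k → Submodule F V') (hW : Monotone W)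
    (hW' : Monotone W') (h : ∀ j, Module.finrank F (W j) = Module.finrank F (W' j)),
    ∃ e : V ≃ₗ[F] V', ∀ j, (W j).map (e : V →ₗ[F] V') = W' j := by
  intro k
  induction k with
  | zero =>
    intro V V' _ _ _ _ _ _ hVV' W W' _ _ _
    exact ⟨LinearEquiv.ofFinrankEq V V' hVV', fun j => j.elim0⟩
  | succ k ih =>
    intro V V' _ _ _ _ _ _ hVV' W W' hW hW' h
    -- the top members
    obtain ⟨T, hT⟩ : ∃ T : Submodule F V, T = W (Fin.last k) := ⟨_, rfl⟩
    obtain ⟨T', hT'⟩ : ∃ T' : Submodule F V', T' = W' (Fin.last k) := ⟨_, rfl⟩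
    have hle : ∀ j, W j ≤ T := fun j => hT ▸ hW (Fin.le_last j)
    have hle' : ∀ j, W' j ≤ T' := fun j => hT' ▸ hW' (Fin.le_last j)
    have hTT' : Module.finrank F T = Module.finrank F T' := by rw [hT, hT', h]
    -- induction hypothesis inside the top members
    have hfr : ∀ j : Fin k, Module.finrank F ((W j.castSucc).comap T.subtype) =
        Module.finrank F ((W' j.castSucc).comap T'.subtype) := by
      intro j
      rw [LinearEquiv.finrank_eq (Submodule.comapSubtypeEquivOfLe (hle j.castSucc)),
        LinearEquiv.finrank_eq (Submodule.comapSubtypeEquivOfLe (hle' j.castSucc)), h]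
    obtain ⟨eT, heT⟩ := ih hTT' (fun j : Fin k => (W j.castSucc).comap T.subtype)
      (fun j : Fin k => (W' j.castSucc).comap T'.subtype)
      (fun a b hab => Submodule.comap_mono (hW (Fin.castSucc_le_castSucc_iff.mpr hab)))
      (fun a b hab => Submodule.comap_mono (hW' (Fin.castSucc_le_castSucc_iff.mpr hab))) hfr
    -- complements
    obtain ⟨C, hC⟩ := Submodule.exists_isCompl T
    obtain ⟨C', hC'⟩ := Submodule.exists_isCompl T'
    have hCC' : Module.finrank F C = Module.finrank F C' := by
      have h1 := Submodule.finrank_add_eq_of_isCompl hC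
      have h2 := Submodule.finrank_add_eq_of_isCompl hC'
      omega
    obtain ⟨eC⟩ : Nonempty (C ≃ₗ[F] C') := ⟨LinearEquiv.ofFinrankEq C C' hCC'⟩
    let e : V ≃ₗ[F] V' := (Submodule.prodEquivOfIsCompl T C hC).symm.trans
      ((LinearEquiv.prodCongr eT eC).trans (Submodule.prodEquivOfIsCompl T' C' hC'))
    have he : ∀ t : T, e (t : V) = ((eT t : T') : V') := by
      intro t
      show (Submodule.prodEquivOfIsCompl T' C' hC')
        ((LinearEquiv.prodCongr eT eC) ((Submodule.prodEquivOfIsCompl T C hC).symm (t : V))) = _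
      rw [Submodule.prodEquivOfIsCompl_symm_apply_left]
      simp
    have key : ∀ (X : Submodule F V) (X' : Submodule F V'), X ≤ T → X' ≤ T' →
        (X.comap T.subtype).map (eT : T →ₗ[F] T') = X'.comap T'.subtype →
        X.map (e : V →ₗ[F] V') = X' := by
      intro X X' hX hX' hmap
      apply le_antisymm
      · rintro _ ⟨x, hx, rfl⟩
        have h1 : eT ⟨x, hX hx⟩ ∈ X'.comap T'.subtype := by
          rw [← hmap]
          exact Submodule.mem_map_of_mem (show (⟨x, hX hx⟩ : T) ∈ X.comap T.subtype from hx)
        have h2 := he ⟨x, hX hx⟩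
        show e x ∈ X'
        rw [show e x = ((eT ⟨x, hX hx⟩ : T') : V') from h2]
        exact h1
      · intro y hy
        have h1 : (⟨y, hX' hy⟩ : T') ∈ X'.comap T'.subtype := hy
        rw [← hmap] at h1
        obtain ⟨t, ht, hty⟩ := h1
        refine ⟨(t : V), ht, ?_⟩
        show e (t : V) = y
        rw [he t]
        have : ((eT t : T') : V') = ((⟨y, hX' hy⟩ : T') : V') := congrArg Subtype.val hty
        exact this
    refine ⟨e, fun j => ?_⟩
    refine Fin.lastCases ?_ (fun j => ?_) j
    · -- the top member
      rw [← hT, ← hT']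
      apply key T T' le_rfl le_rfl
      rw [Submodule.comap_subtype_self, Submodule.comap_subtype_self, Submodule.map_top,
        LinearMap.range_eq_top.mpr eT.surjective]
    · exact key _ _ (hle j.castSucc) (hle' j.castSucc) (heT j)

/-- FLAG-2: two chains of subspaces with the same dimensions are conjugate. -/
theorem exists_linearEquiv_map_flag {V : Type*} [AddCommGroup V] [Module F V]
    [FiniteDimensional F V] {k : ℕ} (W W' : Fin k → Submodule F V) (hW : Monotone W)
    (hW' : Monotone W') (h : ∀ j, Module.finrank F (W j) = Module.finrank F (W' j)) :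
    ∃ e : V ≃ₗ[F] V, ∀ j, (W j).map (e : V →ₗ[F] V) = W' j :=
  exists_linearEquiv_map_flag' k rfl W W' hW hW' h

end Cfsg.Agent.Lib.Helper15.S2425Q6
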