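import Mathlib
import Cfsg.Agent.Lib.Helper14.StGLDefs
import Cfsg.Agent.Lib.Helper15.S2425Q5
import Cfsg.Agent.Lib.Helper15.S2425Q6

set_option autoImplicit false

namespace Cfsg.Agent.Lib.Helper15.S2425Q7

open Cfsg Cfsg.Agent.Lib.Helper14.StGL Cfsg.Agent.Lib.Helper15.S2425Q5
  Cfsg.Agent.Lib.Helper15.S2425Q6
open scoped MatrixGroups

variable {F : Type*} [Field F] {n : ℕ}

/-- the linear automorphism attached to an invertible matrix -/
noncomputable def glLin (x : GL (Fin n) F) : (Fin n → F) ≃ₗ[F] (Fin n → F) :=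
  LinearEquiv.ofLinearMap (Matrix.toLin' (x : Matrix (Fin n) (Fin n) F))
    (Matrix.toLin' ((x⁻¹ : GL (Fin n) F) : Matrix (Fin n) (Fin n) F))
    (by rw [← Matrix.toLin'_mul, ← Units.val_mul, mul_inv_cancel, Units.val_one, Matrix.toLin'_one])
    (by rw [← Matrix.toLin'_mul, ← Units.val_mul, inv_mul_cancel, Units.val_one, Matrix.toLin'_one])

theorem glLin_coe (x : GL (Fin n) F) :
    ((glLin x : (Fin n → F) ≃ₗ[F] (Fin n → F)) : (Fin n → F) →ₗ[F] (Fin n → F)) =
      Matrix.toLin' (x : Matrix (Fin n) (Fin n) F) := rfl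

/-- every linear automorphism comes from an invertible matrix -/
theorem exists_gl_of_linearEquiv (e : (Fin n → F) ≃ₗ[F] (Fin n → F)) :
    ∃ x : GL (Fin n) F, Matrix.toLin' (x : Matrix (Fin n) (Fin n) F) =
      (e : (Fin n → F) →ₗ[F] (Fin n → F)) := by
  refine ⟨⟨LinearMap.toMatrix' (e : (Fin n → F) →ₗ[F] (Fin n → F)),
    LinearMap.toMatrix' (e.symm : (Fin n → F) →ₗ[F] (Fin n → F)), ?_, ?_⟩, ?_⟩
  · rw [← LinearMap.toMatrix'_comp, LinearEquiv.comp_coe, LinearEquiv.symm_trans_self,
      LinearEquiv.refl_toLinearMap, LinearMap.toMatrix'_id]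
  · rw [← LinearMap.toMatrix'_comp, LinearEquiv.comp_coe, LinearEquiv.self_trans_symm,
      LinearEquiv.refl_toLinearMap, LinearMap.toMatrix'_id]
  · exact Matrix.toLin'_toMatrix' _

/-- FLAG: the permutation character on the cosets of a parabolic subgroup counts the invariant
flags. -/
theorem fpc_parabolicGL (μ : Fin n → ℕ) (hμ : ∑ i, μ i = n) (g : GL (Fin n) F) :
    Cfsg.fixedPointCharacter (Cfsg.parabolicGL n F μ) g =
      (flagCount (invRank (Matrix.toLin' (g : Matrix (Fin n) (Fin n) F))) (psum μ) : ℂ) := by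
  classical
  obtain ⟨A, hA⟩ : ∃ A : Module.End F (Fin n → F),
      A = Matrix.toLin' (g : Matrix (Fin n) (Fin n) F) := ⟨_, rfl⟩
  rw [← hA]
  obtain ⟨P, hP⟩ : ∃ P : Subgroup (GL (Fin n) F), P = Cfsg.parabolicGL n F μ := ⟨_, rfl⟩
  rw [← hP]
  -- the action on families of subspaces
  obtain ⟨act, hact⟩ : ∃ act : GL (Fin n) F → (Fin n → Submodule F (Fin n → F)) →
      (Fin n → Submodule F (Fin n → F)),
      act = fun x W j => (W j).map (Matrix.toLin' (x : Matrix (Fin n) (Fin n) F)) := ⟨_, rfl⟩
  have act_apply : ∀ x W j, act x W j =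
      (W j).map (Matrix.toLin' (x : Matrix (Fin n) (Fin n) F)) := by
    intro x W j; rw [hact]
  have act_mul : ∀ x y W, act (x * y) W = act x (act y W) := by
    intro x y W
    funext j
    rw [act_apply, act_apply, act_apply, Units.val_mul, Matrix.toLin'_mul, Submodule.map_comp]
  have act_one : ∀ W, act 1 W = W := by
    intro W
    funext j
    rw [act_apply, Units.val_one, Matrix.toLin'_one]
    exact Submodule.map_id _
  have act_inj : ∀ x W W', act x W = act x W' → W = W' := by
    intro x W W' h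
    have := congrArg (act x⁻¹) h
    rwa [← act_mul, ← act_mul, inv_mul_cancel, act_one, act_one] at this
  have hstab : ∀ x, x ∈ P ↔ act x (stdFlag F μ) = stdFlag F μ := by
    intro x
    rw [hP, mem_parabolicGL_iff_map_stdFlag]
    constructor
    · intro h; funext j; rw [act_apply]; exact h j
    · intro h j; rw [← act_apply]; exact congrFun h j
  -- the map from cosets to flags
  have hwd : ∀ x y : GL (Fin n) F, (QuotientGroup.leftRel P) x y →
      act x (stdFlag F μ) = act y (stdFlag F μ) := by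
    intro x y hxy
    rw [QuotientGroup.leftRel_apply] at hxy
    have h1 := (hstab _).mp hxy
    have h2 : y = x * (x⁻¹ * y) := by group
    rw [h2, act_mul, h1]
  obtain ⟨φ, hφ⟩ : ∃ φ : GL (Fin n) F ⧸ P → (Fin n → Submodule F (Fin n → F)),
      ∀ x : GL (Fin n) F, φ (x : GL (Fin n) F ⧸ P) = act x (stdFlag F μ) :=
    ⟨fun c => Quotient.liftOn' c (fun x => act x (stdFlag F μ)) hwd, fun x => rfl⟩
  have hφ_smul : ∀ (y : GL (Fin n) F) (c : GL (Fin n) F ⧸ P), φ (y • c) = act y (φ c) := by
    intro y c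
    obtain ⟨x, rfl⟩ := QuotientGroup.mk_surjective c
    rw [MulAction.Quotient.smul_mk, hφ, hφ, smul_eq_mul, act_mul]
  have hφ_inj : Function.Injective φ := by
    intro c c' h
    obtain ⟨x, rfl⟩ := QuotientGroup.mk_surjective c
    obtain ⟨y, rfl⟩ := QuotientGroup.mk_surjective c'
    rw [hφ, hφ] at h
    rw [QuotientGroup.eq, hstab, act_mul, ← h, ← act_mul, inv_mul_cancel, act_one]
  -- properties of the image
  have hmono : ∀ c, Monotone (φ c) := by
    intro c
    obtain ⟨x, rfl⟩ := QuotientGroup.mk_surjective c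
    intro j j' hjj'
    rw [hφ, act_apply, act_apply]
    exact Submodule.map_mono (stdFlag_mono μ hjj')
  have hrank : ∀ c j, Module.finrank F (φ c j) = psum μ j := by
    intro c j
    obtain ⟨x, rfl⟩ := QuotientGroup.mk_surjective c
    rw [hφ, act_apply, ← glLin_coe, LinearEquiv.finrank_map_eq, finrank_stdFlag μ hμ]
  have hActA : ∀ W : Fin n → Submodule F (Fin n → F), act g W = fun j => (W j).map A := by
    intro W; funext j; rw [act_apply, hA]
  have hinv : ∀ c, g • c = c → ∀ j, φ c j ∈ A.invtSubmodule := by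
    intro c hc j
    rw [Module.End.mem_invtSubmodule_iff_map_le]
    have h1 := hφ_smul g c
    rw [hc, hActA] at h1
    exact (congrFun h1 j).symm.le
  -- injectivity of `A`
  have hAinj : Function.Injective A := by
    rw [hA]
    exact (glLin g).injective
  have hfix : ∀ W : Fin n → Submodule F (Fin n → F), (∀ j, W j ∈ A.invtSubmodule) →
      act g W = W := by
    intro W hW
    rw [hActA]
    funext j
    have hle : (W j).map A ≤ W j := (Module.End.mem_invtSubmodule_iff_map_le A).mp (hW j)
    apply Submodule.eq_of_le_of_finrank_eq hle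
    have : (W j).map A = (W j).map ((glLin g : (Fin n → F) ≃ₗ[F] (Fin n → F)) :
        (Fin n → F) →ₗ[F] (Fin n → F)) := by rw [glLin_coe, hA]
    rw [this, LinearEquiv.finrank_map_eq]
  -- the bijection
  unfold Cfsg.fixedPointCharacter flagCount
  congr 1
  apply Nat.card_congr
  refine Equiv.ofBijective
    (fun c : MulAction.fixedBy (GL (Fin n) F ⧸ P) g =>
      (⟨fun j => ⟨φ c.1 j, hinv c.1 (MulAction.mem_fixedBy.mp c.2) j⟩,
        fun j j' hjj' => hmono c.1 hjj', fun j => hrank c.1 j⟩ :
        {W : Fin n → A.invtSubmodule // Monotone W ∧ ∀ j, invRank A (W j) = psum μ j}))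
    ⟨?_, ?_⟩
  · intro c c' h
    apply Subtype.ext
    apply hφ_inj
    funext j
    have := congrArg (fun W : {W : Fin n → A.invtSubmodule //
      Monotone W ∧ ∀ j, invRank A (W j) = psum μ j} => ((W.1 j : A.invtSubmodule) :
        Submodule F (Fin n → F))) h
    exact this
  · rintro ⟨W, hWm, hWr⟩
    obtain ⟨e, he⟩ := exists_linearEquiv_map_flag (stdFlag F μ)
      (fun j => ((W j : A.invtSubmodule) : Submodule F (Fin n → F))) (stdFlag_mono μ)
      (fun j j' hjj' => hWm hjj') (fun j => by rw [finrank_stdFlag μ hμ]; exact (hWr j).symm)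
    obtain ⟨x, hx⟩ := exists_gl_of_linearEquiv e
    have hxW : φ (x : GL (Fin n) F ⧸ P) = fun j => ((W j : A.invtSubmodule) :
        Submodule F (Fin n → F)) := by
      rw [hφ]
      funext j
      rw [act_apply, hx]
      exact he j
    have hfixed : g • (x : GL (Fin n) F ⧸ P) = (x : GL (Fin n) F ⧸ P) := by
      apply hφ_inj
      rw [hφ_smul, hxW]
      exact hfix _ (fun j => (W j).2)
    refine ⟨⟨(x : GL (Fin n) F ⧸ P), MulAction.mem_fixedBy.mpr hfixed⟩, ?_⟩
    apply Subtype.ext
    funext j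
    apply Subtype.ext
    exact congrFun hxW j

end Cfsg.Agent.Lib.Helper15.S2425Q7
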