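import Mathlib
import Cfsg.Agent.Lib.Helper15.Bruhat

/-!
# Rank invariants of parabolic double cosets in `GL_n(F)`
-/

set_option autoImplicit false
open scoped MatrixGroups

namespace Cfsg.Agent.Lib.Helper15.Bru

open Matrix

variable {F : Type*} [Field F] {n : ℕ}

/-- the corner rank: rows of label `≥ t`, columns of label `≤ s` -/
noncomputable def cornerRank (la lb : Fin n → ℕ) (t s : ℕ) (M : Matrix (Fin n) (Fin n) F) : ℕ :=
  (M.submatrix (fun i : {i : Fin n // t ≤ la i} => i.1) (fun j : {j : Fin n // lb j ≤ s} => j.1)).rank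

/-- block decomposition of a product on the left, for an up-set of rows -/
theorem submatrix_mul_of_upset (P : Fin n → Prop) [DecidablePred P] {m : Type*}
    (p M : Matrix (Fin n) (Fin n) F) (c : m → Fin n)
    (hp : ∀ i k, P i → ¬ P k → p i k = 0) :
    (p * M).submatrix (fun i : {i : Fin n // P i} => i.1) c =
      p.submatrix (fun i : {i : Fin n // P i} => i.1) (fun i : {i : Fin n // P i} => i.1) *
        M.submatrix (fun i : {i : Fin n // P i} => i.1) c := by
  ext i j
  simp only [Matrix.submatrix_apply, Matrix.mul_apply]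
  rw [← Finset.sum_subtype (Finset.univ.filter P) (by simp) (fun k => p i.1 k * M k (c j))]
  symm
  apply Finset.sum_filter_of_ne
  intro k _ hk
  by_contra hPk
  exact hk (by rw [hp i.1 k i.2 hPk, zero_mul])

/-- block decomposition of a product on the right, for a down-set of columns -/
theorem submatrix_mul_of_downset (P : Fin n → Prop) [DecidablePred P] {m : Type*}
    (M p : Matrix (Fin n) (Fin n) F) (r : m → Fin n)
    (hp : ∀ k j, P j → ¬ P k → p k j = 0) :
    (M * p).submatrix r (fun j : {j : Fin n // P j} => j.1) =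
      M.submatrix r (fun j : {j : Fin n // P j} => j.1) *
        p.submatrix (fun j : {j : Fin n // P j} => j.1) (fun j : {j : Fin n // P j} => j.1) := by
  ext i j
  simp only [Matrix.submatrix_apply, Matrix.mul_apply]
  rw [← Finset.sum_subtype (Finset.univ.filter P) (by simp) (fun k => M (r i) k * p k j.1)]
  symm
  apply Finset.sum_filter_of_ne
  intro k _ hk
  by_contra hPk
  exact hk (by rw [hp k j.1 j.2 hPk, mul_zero])

theorem cornerRank_mul_left (la lb : Fin n → ℕ) (t s : ℕ) (p : GL (Fin n) F)
    (hp : (p : Matrix (Fin n) (Fin n) F).BlockTriangular la)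
    (hp' : ((p⁻¹ : GL (Fin n) F) : Matrix (Fin n) (Fin n) F).BlockTriangular la)
    (M : Matrix (Fin n) (Fin n) F) :
    cornerRank la lb t s ((p : Matrix (Fin n) (Fin n) F) * M) = cornerRank la lb t s M := by
  unfold cornerRank
  have hz : ∀ q : Matrix (Fin n) (Fin n) F, q.BlockTriangular la →
      ∀ i k, t ≤ la i → ¬ t ≤ la k → q i k = 0 := by
    intro q hq i k hi hk
    exact hq (by omega)
  rw [submatrix_mul_of_upset (fun i => t ≤ la i) _ M _ (hz _ hp)]
  apply Matrix.rank_mul_eq_right_of_isUnit_det
  apply Matrix.isUnit_det_of_right_inverse (B := ((p⁻¹ : GL (Fin n) F) : Matrix (Fin n) (Fin n) F).submatrix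
    (fun i : {i : Fin n // t ≤ la i} => i.1) (fun i : {i : Fin n // t ≤ la i} => i.1))
  rw [← submatrix_mul_of_upset (fun i => t ≤ la i) _ _ _ (hz _ hp), ← GeneralLinearGroup.coe_mul,
    mul_inv_cancel, GeneralLinearGroup.coe_one]
  exact Matrix.submatrix_one _ Subtype.val_injective

theorem cornerRank_mul_right (la lb : Fin n → ℕ) (t s : ℕ) (p : GL (Fin n) F)
    (hp : (p : Matrix (Fin n) (Fin n) F).BlockTriangular lb)
    (hp' : ((p⁻¹ : GL (Fin n) F) : Matrix (Fin n) (Fin n) F).BlockTriangular lb)
    (M : Matrix (Fin n) (Fin n) F) :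
    cornerRank la lb t s (M * (p : Matrix (Fin n) (Fin n) F)) = cornerRank la lb t s M := by
  unfold cornerRank
  have hz : ∀ q : Matrix (Fin n) (Fin n) F, q.BlockTriangular lb →
      ∀ k j, lb j ≤ s → ¬ lb k ≤ s → q k j = 0 := by
    intro q hq k j hj hk
    exact hq (by omega)
  rw [submatrix_mul_of_downset (fun j => lb j ≤ s) M _ _ (hz _ hp)]
  apply Matrix.rank_mul_eq_left_of_isUnit_det
  apply Matrix.isUnit_det_of_right_inverse (B := ((p⁻¹ : GL (Fin n) F) : Matrix (Fin n) (Fin n) F).submatrix
    (fun j : {j : Fin n // lb j ≤ s} => j.1) (fun j : {j : Fin n // lb j ≤ s} => j.1))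
  rw [← submatrix_mul_of_downset (fun j => lb j ≤ s) _ _ _ (hz _ hp'), ← GeneralLinearGroup.coe_mul,
    mul_inv_cancel, GeneralLinearGroup.coe_one]
  exact Matrix.submatrix_one _ Subtype.val_injective

/-- the corner rank of a permutation matrix is a count -/
theorem cornerRank_perm (la lb : Fin n → ℕ) (t s : ℕ) (σ : Equiv.Perm (Fin n)) :
    cornerRank la lb t s (σ.permMatrix F) =
      (Finset.univ.filter (fun i : Fin n => t ≤ la i ∧ lb (σ i) ≤ s)).card := by
  classical
  unfold cornerRank
  set A := (σ.permMatrix F).submatrix (fun i : {i : Fin n // t ≤ la i} => i.1)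
    (fun j : {j : Fin n // lb j ≤ s} => j.1) with hA
  have hAij : ∀ i j, A i j = if σ i.1 = j.1 then 1 else 0 := by
    intro i j
    rw [hA, Matrix.submatrix_apply, Equiv.Perm.permMatrix, PEquiv.toMatrix_apply]
    simp [Equiv.toPEquiv_apply]
  rw [Matrix.rank_eq_finrank_span_row]
  -- the nonzero rows
  let T := {i : {i : Fin n // t ≤ la i} // lb (σ i.1) ≤ s}
  let f : T → {j : Fin n // lb j ≤ s} := fun i => ⟨σ i.1.1, i.2⟩
  have hf : Function.Injective f := by
    intro i i' h
    have h1 : σ i.1.1 = σ i'.1.1 := congrArg Subtype.val h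
    exact Subtype.ext (Subtype.ext (σ.injective h1))
  let v : T → ({j : Fin n // lb j ≤ s} → F) := fun i => Pi.basisFun F _ (f i)
  have hv : LinearIndependent F v := (Pi.basisFun F _).linearIndependent.comp f hf
  have hrow : ∀ i : T, A.row i.1 = v i := by
    intro i
    ext j
    change A i.1 j = _
    rw [hAij]
    simp only [v, Pi.basisFun_apply, Pi.single_apply]
    by_cases h : σ i.1.1 = j.1
    · rw [if_pos h, if_pos]
      exact Subtype.ext h.symm
    · rw [if_neg h, if_neg]
      intro h'
      apply h
      rw [h']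
  have hspan : Submodule.span F (Set.range A.row) = Submodule.span F (Set.range v) := by
    apply le_antisymm
    · rw [Submodule.span_le]
      rintro _ ⟨i, rfl⟩
      by_cases hi : lb (σ i.1) ≤ s
      · rw [hrow ⟨i, hi⟩]
        exact Submodule.subset_span ⟨_, rfl⟩
      · have : A.row i = 0 := by
          ext j
          change A i j = 0
          rw [hAij, if_neg]
          intro h
          apply hi
          rw [h]
          exact j.2
        rw [this]
        exact Submodule.zero_mem _
    · rw [Submodule.span_le]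
      rintro _ ⟨i, rfl⟩
      rw [← hrow i]
      exact Submodule.subset_span ⟨_, rfl⟩
  rw [hspan, finrank_span_eq_card hv]
  rw [← Fintype.card_subtype]
  exact Fintype.card_congr (Equiv.subtypeSubtypeEquivSubtypeInter (fun i : Fin n => t ≤ la i)
    (fun i : Fin n => lb (σ i) ≤ s))

/-- the cell counts of a permutation -/
def cellCount (la lb : Fin n → ℕ) (σ : Equiv.Perm (Fin n)) (t s : ℕ) : ℕ :=
  (Finset.univ.filter (fun i : Fin n => la i = t ∧ lb (σ i) = s)).card

/-- corner counts determine cell counts -/
theorem cellCount_eq_of_corner (la lb : Fin n → ℕ) (σ σ' : Equiv.Perm (Fin n))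
    (h : ∀ t s, (Finset.univ.filter (fun i : Fin n => t ≤ la i ∧ lb (σ i) ≤ s)).card =
      (Finset.univ.filter (fun i : Fin n => t ≤ la i ∧ lb (σ' i) ≤ s)).card) (t s : ℕ) :
    cellCount la lb σ t s = cellCount la lb σ' t s := by
  -- intermediate counts
  have key : ∀ τ : Equiv.Perm (Fin n), ∀ t s,
      (Finset.univ.filter (fun i : Fin n => t ≤ la i ∧ lb (τ i) ≤ s)).card =
        (Finset.univ.filter (fun i : Fin n => la i = t ∧ lb (τ i) ≤ s)).card +
        (Finset.univ.filter (fun i : Fin n => t + 1 ≤ la i ∧ lb (τ i) ≤ s)).card := by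
    intro τ t s
    simp only [Finset.card_filter]
    rw [← Finset.sum_add_distrib]
    apply Finset.sum_congr rfl
    intro i _
    split_ifs <;> omega
  have key2 : ∀ τ : Equiv.Perm (Fin n), ∀ t s,
      (Finset.univ.filter (fun i : Fin n => la i = t ∧ lb (τ i) ≤ s + 1)).card =
        (Finset.univ.filter (fun i : Fin n => la i = t ∧ lb (τ i) = s + 1)).card +
        (Finset.univ.filter (fun i : Fin n => la i = t ∧ lb (τ i) ≤ s)).card := by
    intro τ t s
    simp only [Finset.card_filter]
    rw [← Finset.sum_add_distrib]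
    apply Finset.sum_congr rfl
    intro i _
    split_ifs <;> omega
  have key3 : ∀ τ : Equiv.Perm (Fin n), ∀ t,
      (Finset.univ.filter (fun i : Fin n => la i = t ∧ lb (τ i) ≤ 0)).card =
        (Finset.univ.filter (fun i : Fin n => la i = t ∧ lb (τ i) = 0)).card := by
    intro τ t
    congr 1
    ext i
    simp only [Finset.mem_filter, Finset.mem_univ, true_and, Nat.le_zero]
  have hS : ∀ t s, (Finset.univ.filter (fun i : Fin n => la i = t ∧ lb (σ i) ≤ s)).card =
      (Finset.univ.filter (fun i : Fin n => la i = t ∧ lb (σ' i) ≤ s)).card := by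
    intro t s
    have h1 := key σ t s
    have h2 := key σ' t s
    have h3 := h t s
    have h4 := h (t + 1) s
    omega
  unfold cellCount
  rcases s with _ | s
  · rw [← key3 σ t, ← key3 σ' t]
    exact hS t 0
  · have h1 := key2 σ t s
    have h2 := key2 σ' t s
    have h3 := hS t (s + 1)
    have h4 := hS t s
    omega

end Cfsg.Agent.Lib.Helper15.Bru
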