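import Mathlib
import Cfsg.Agent.Lib.Helper15.BruRank

/-!
# Double cosets of Young subgroups and contingency tables
-/

set_option autoImplicit false

namespace Cfsg.Agent.Lib.Helper15.Bru

/-- two maps with equinumerous fibres differ by a bijection -/
theorem exists_equiv_of_fiber_card_eq {X Y β : Type*} [Fintype X] [Fintype Y] [DecidableEq β]
    (f : X → β) (g : Y → β)
    (h : ∀ b, (Finset.univ.filter (fun x => f x = b)).card = (Finset.univ.filter (fun y => g y = b)).card) :
    ∃ e : X ≃ Y, ∀ x, g (e x) = f x := by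
  classical
  have hc : ∀ b, Fintype.card {x // f x = b} = Fintype.card {y // g y = b} := by
    intro b
    rw [Fintype.card_subtype, Fintype.card_subtype]
    exact h b
  let eb : ∀ b, {x // f x = b} ≃ {y // g y = b} := fun b => Fintype.equivOfCardEq (hc b)
  refine ⟨(Equiv.sigmaFiberEquiv f).symm.trans ((Equiv.sigmaCongrRight eb).trans (Equiv.sigmaFiberEquiv g)), ?_⟩
  intro x
  simp only [Equiv.trans_apply]
  have : (Equiv.sigmaFiberEquiv f).symm x = ⟨f x, x, rfl⟩ := rfl
  rw [this]
  simp only [Equiv.sigmaCongrRight_apply, Equiv.sigmaFiberEquiv_apply]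
  exact (eb (f x) ⟨x, rfl⟩).2

variable {n : ℕ}

/-- permutations with the same cell counts lie in the same double coset of the label stabilisers -/
theorem exists_young_factorization (la lb : Fin n → ℕ) (σ σ' : Equiv.Perm (Fin n))
    (h : ∀ t s, cellCount la lb σ t s = cellCount la lb σ' t s) :
    ∃ α β : Equiv.Perm (Fin n), (∀ i, la (α i) = la i) ∧ (∀ j, lb (β j) = lb j) ∧ σ' = β * σ * α := by
  classical
  obtain ⟨α, hα⟩ := exists_equiv_of_fiber_card_eq (fun i : Fin n => (la i, lb (σ' i)))
    (fun i : Fin n => (la i, lb (σ i))) (by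
      rintro ⟨t, s⟩
      have := h t s
      unfold cellCount at this
      simp only [Prod.mk.injEq]
      exact this.symm)
  have h1 : ∀ i, la (α i) = la i := fun i => (Prod.ext_iff.1 (hα i)).1
  have h2 : ∀ i, lb (σ (α i)) = lb (σ' i) := fun i => (Prod.ext_iff.1 (hα i)).2
  refine ⟨α, σ' * α⁻¹ * σ⁻¹, h1, ?_, ?_⟩
  · intro j
    have := h2 (α⁻¹ (σ⁻¹ j))
    simp only [Equiv.Perm.mul_apply]
    rw [← this]
    simp
  · ext i
    simp

/-- cell counts are invariant under the label stabilisers -/
theorem cellCount_mul (la lb : Fin n → ℕ) (σ α β : Equiv.Perm (Fin n))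
    (hα : ∀ i, la (α i) = la i) (hβ : ∀ j, lb (β j) = lb j) (t s : ℕ) :
    cellCount la lb (β * σ * α) t s = cellCount la lb σ t s := by
  unfold cellCount
  apply Finset.card_equiv α
  intro i
  rw [Finset.mem_filter, Finset.mem_filter]
  have e : (β * σ * α) i = β (σ (α i)) := rfl
  rw [e, hβ, hα]
  simp only [Finset.mem_univ, true_and]

/-- every contingency table with the right margins is realised by a permutation -/
theorem exists_perm_cellCount (la lb : Fin n → Fin n) (m : Fin n → Fin n → ℕ)
    (hrow : ∀ t, ∑ s, m t s = (Finset.univ.filter (fun i : Fin n => la i = t)).card)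
    (hcol : ∀ s, ∑ t, m t s = (Finset.univ.filter (fun j : Fin n => lb j = s)).card) :
    ∃ σ : Equiv.Perm (Fin n), ∀ t s,
      (Finset.univ.filter (fun i : Fin n => la i = t ∧ lb (σ i) = s)).card = m t s := by
  classical
  let Y := Σ p : Fin n × Fin n, Fin (m p.1 p.2)
  have hY1 : ∀ t, (Finset.univ.filter (fun y : Y => y.1.1 = t)).card = ∑ s, m t s := by
    intro t
    rw [Finset.card_filter, Fintype.sum_sigma, Fintype.sum_prod_type]
    rw [Finset.sum_eq_single t]
    · apply Finset.sum_congr rfl
      intro s _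
      simp
    · intro t' _ ht'
      apply Finset.sum_eq_zero
      intro s _
      simp [ht']
    · intro h; exact absurd (Finset.mem_univ t) h
  have hY2 : ∀ s, (Finset.univ.filter (fun y : Y => y.1.2 = s)).card = ∑ t, m t s := by
    intro s
    rw [Finset.card_filter, Fintype.sum_sigma, Fintype.sum_prod_type]
    apply Finset.sum_congr rfl
    intro t _
    rw [Finset.sum_eq_single s]
    · simp
    · intro s' _ hs'
      simp [hs']
    · intro h; exact absurd (Finset.mem_univ s) h
  obtain ⟨φ, hφ⟩ := exists_equiv_of_fiber_card_eq la (fun y : Y => y.1.1) (by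
    intro t; rw [hY1, hrow])
  obtain ⟨ψ, hψ⟩ := exists_equiv_of_fiber_card_eq lb (fun y : Y => y.1.2) (by
    intro s; rw [hY2, hcol])
  refine ⟨φ.trans ψ.symm, ?_⟩
  intro t s
  have hcount : (Finset.univ.filter (fun y : Y => y.1 = (t, s))).card = m t s := by
    rw [Finset.card_filter, Fintype.sum_sigma]
    rw [Finset.sum_eq_single (t, s)]
    · simp
    · intro p _ hp
      simp [hp]
    · intro h; exact absurd (Finset.mem_univ _) h
  rw [← hcount]
  apply Finset.card_equiv φ
  intro i
  rw [Finset.mem_filter, Finset.mem_filter]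
  have e : (φ.trans ψ.symm) i = ψ.symm (φ i) := rfl
  have h2 := hψ (ψ.symm (φ i))
  rw [Equiv.apply_symm_apply] at h2
  rw [e, ← h2, ← hφ i, Prod.ext_iff]
  simp only [Finset.mem_univ, true_and]

end Cfsg.Agent.Lib.Helper15.Bru
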