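import Mathlib
import Cfsg.Agent.Lib.Helper15.YoungCosets
import Cfsg.Agent.Lib.Helper15.PairOrbits
import Cfsg.Agent.Lib.Helper15.Parabolic

/-!
# Orbits of `GL_n(q)` on pairs of flags, and of `S_n` on pairs of set compositions,
are counted by contingency tables
-/

set_option autoImplicit false
open scoped MatrixGroups

namespace Cfsg.Agent.Lib.Helper15.Bru

open Matrix MulAction
open Cfsg.Agent.Lib.Helper15

variable {F : Type*} [Field F] {n : ℕ}

/-- contingency tables with given margins -/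
def tables (a b : Fin n → ℕ) : Set (Fin n → Fin n → ℕ) :=
  {m | (∀ t, ∑ s, m t s = a t) ∧ (∀ s, ∑ t, m t s = b s)}

theorem compLabel_mono (μ : Fin n → ℕ) : Monotone (Cfsg.compLabel μ) := by
  intro i j hij
  unfold Cfsg.compLabel
  apply Finset.card_le_card
  intro k hk
  rw [Finset.mem_filter] at hk ⊢
  exact ⟨hk.1, hk.2.trans hij⟩

theorem upper_le_parabolic (μ : Fin n → ℕ) :
    Cfsg.upperTriangularGL n F ≤ Cfsg.parabolicGL n F μ := by
  intro g hg
  change (g : Matrix (Fin n) (Fin n) F).BlockTriangular (Cfsg.compLabel μ)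
  intro i j hij
  apply hg
  simp only [id]
  by_contra hcon
  exact absurd (compLabel_mono μ (not_lt.1 hcon)) (not_le.2 hij)

theorem permGL_mem_parabolic (μ : Fin n → ℕ) (α : Equiv.Perm (Fin n))
    (hα : ∀ i, Cfsg.compLabel μ (α i) = Cfsg.compLabel μ i) :
    (permGL α : GL (Fin n) F) ∈ Cfsg.parabolicGL n F μ := by
  change ((permGL α : GL (Fin n) F) : Matrix (Fin n) (Fin n) F).BlockTriangular (Cfsg.compLabel μ)
  intro i j hij
  rw [permGL_apply, if_neg]
  rintro rfl
  rw [hα] at hij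
  exact lt_irrefl _ hij

/-- `g` lies in the Bruhat cell of `σ` -/
def IsBru (g : GL (Fin n) F) (σ : Equiv.Perm (Fin n)) : Prop :=
  ∃ b₁ ∈ Cfsg.upperTriangularGL n F, ∃ b₂ ∈ Cfsg.upperTriangularGL n F, g = b₁ * permGL σ * b₂

theorem mem_parabolic_iff (μ : Fin n → ℕ) (g : GL (Fin n) F) :
    g ∈ Cfsg.parabolicGL n F μ ↔ (g : Matrix (Fin n) (Fin n) F).BlockTriangular (Cfsg.compLabel μ) :=
  Iff.rfl

theorem cornerRank_of_mem (a b : Fin n → ℕ) (t s : ℕ) (p p' g : GL (Fin n) F)
    (hp : p ∈ Cfsg.parabolicGL n F a) (hp' : p' ∈ Cfsg.parabolicGL n F b) :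
    cornerRank (Cfsg.compLabel a) (Cfsg.compLabel b) t s
      ((p * g * p' : GL (Fin n) F) : Matrix (Fin n) (Fin n) F) =
    cornerRank (Cfsg.compLabel a) (Cfsg.compLabel b) t s (g : Matrix (Fin n) (Fin n) F) := by
  rw [GeneralLinearGroup.coe_mul, GeneralLinearGroup.coe_mul,
    cornerRank_mul_right _ _ t s p' hp' ((Cfsg.parabolicGL n F b).inv_mem hp'),
    cornerRank_mul_left _ _ t s p hp ((Cfsg.parabolicGL n F a).inv_mem hp)]

theorem cornerRank_of_isBru (a b : Fin n → ℕ) (t s : ℕ) (g : GL (Fin n) F) (σ : Equiv.Perm (Fin n))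
    (h : IsBru g σ) :
    cornerRank (Cfsg.compLabel a) (Cfsg.compLabel b) t s (g : Matrix (Fin n) (Fin n) F) =
      (Finset.univ.filter (fun i : Fin n => t ≤ Cfsg.compLabel a i ∧ Cfsg.compLabel b (σ i) ≤ s)).card := by
  obtain ⟨b₁, hb₁, b₂, hb₂, rfl⟩ := h
  rw [cornerRank_of_mem a b t s b₁ b₂ (permGL σ) (upper_le_parabolic a hb₁) (upper_le_parabolic b hb₂),
    coe_permGL, cornerRank_perm]

/-- the Bruhat permutation determines the cell counts, even up to parabolic double cosets -/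
theorem cellCount_eq_of_isBru (a b : Fin n → ℕ) (g g' p p' : GL (Fin n) F) (σ σ' : Equiv.Perm (Fin n))
    (h : IsBru g σ) (h' : IsBru g' σ') (hp : p ∈ Cfsg.parabolicGL n F a)
    (hp' : p' ∈ Cfsg.parabolicGL n F b) (hg : g' = p * g * p') (t s : ℕ) :
    cellCount (Cfsg.compLabel a) (Cfsg.compLabel b) σ t s =
      cellCount (Cfsg.compLabel a) (Cfsg.compLabel b) σ' t s := by
  apply cellCount_eq_of_corner
  intro t s
  rw [← cornerRank_of_isBru a b t s g σ h, ← cornerRank_of_isBru a b t s g' σ' h', hg,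
    cornerRank_of_mem a b t s p p' g hp hp']

theorem exists_isBru [Finite F] (g : GL (Fin n) F) : ∃ σ, IsBru g σ := by
  obtain ⟨b₁, hb₁, b₂, hb₂, σ, h⟩ := bruhat g
  exact ⟨σ, b₁, hb₁, b₂, hb₂, h⟩

theorem isBru_permGL (σ : Equiv.Perm (Fin n)) : IsBru (permGL σ : GL (Fin n) F) σ :=
  ⟨1, Subgroup.one_mem _, 1, Subgroup.one_mem _, by simp⟩

/-- the table of a permutation -/
def tableOf (la lb : Fin n → ℕ) (σ : Equiv.Perm (Fin n)) : Fin n → Fin n → ℕ :=
  fun t s => cellCount la lb σ t.val s.val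

theorem sum_cellCount_right (la lb : Fin n → ℕ) (hlb : ∀ i, lb i < n) (σ : Equiv.Perm (Fin n)) (t : ℕ) :
    ∑ s : Fin n, cellCount la lb σ t s.val = (Finset.univ.filter (fun i : Fin n => la i = t)).card := by
  unfold cellCount
  simp only [Finset.card_filter]
  rw [Finset.sum_comm]
  apply Finset.sum_congr rfl
  intro i _
  by_cases h : la i = t
  · rw [if_pos h, Finset.sum_eq_single ⟨lb (σ i), hlb _⟩]
    · rw [if_pos ⟨h, rfl⟩]
    · intro s _ hs
      rw [if_neg]
      rintro ⟨-, h2⟩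
      exact hs (Fin.ext h2.symm)
    · intro h'; exact absurd (Finset.mem_univ _) h'
  · rw [if_neg h]
    apply Finset.sum_eq_zero
    intro s _
    rw [if_neg]
    rintro ⟨h1, -⟩
    exact h h1

theorem sum_cellCount_left (la lb : Fin n → ℕ) (hla : ∀ i, la i < n) (σ : Equiv.Perm (Fin n)) (s : ℕ) :
    ∑ t : Fin n, cellCount la lb σ t.val s = (Finset.univ.filter (fun j : Fin n => lb j = s)).card := by
  have h1 : ∑ t : Fin n, cellCount la lb σ t.val s =
      (Finset.univ.filter (fun i : Fin n => lb (σ i) = s)).card := by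
    unfold cellCount
    simp only [Finset.card_filter]
    rw [Finset.sum_comm]
    apply Finset.sum_congr rfl
    intro i _
    by_cases h : lb (σ i) = s
    · rw [if_pos h, Finset.sum_eq_single ⟨la i, hla _⟩]
      · rw [if_pos ⟨rfl, h⟩]
      · intro t _ ht
        rw [if_neg]
        rintro ⟨h2, -⟩
        exact ht (Fin.ext h2.symm)
      · intro h'; exact absurd (Finset.mem_univ _) h'
    · rw [if_neg h]
      apply Finset.sum_eq_zero
      intro t _
      rw [if_neg]
      rintro ⟨-, h1⟩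
      exact h h1
  rw [h1]
  apply Finset.card_equiv σ
  intro i
  simp only [Finset.mem_filter, Finset.mem_univ, true_and]

theorem card_label (μ : Fin n → ℕ) (hμ : ∑ i, μ i = n) (t : Fin n) :
    (Finset.univ.filter (fun i : Fin n => Cfsg.compLabel μ i = t.val)).card = μ t := by
  rw [← Fintype.card_subtype]
  exact card_block μ hμ t

theorem tableOf_mem (a b : Fin n → ℕ) (ha : ∑ i, a i = n) (hb : ∑ i, b i = n) (σ : Equiv.Perm (Fin n)) :
    tableOf (Cfsg.compLabel a) (Cfsg.compLabel b) σ ∈ tables a b := by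
  constructor
  · intro t
    unfold tableOf
    rw [sum_cellCount_right _ _ (compLabel_lt b hb) σ t.val, card_label a ha]
  · intro s
    unfold tableOf
    rw [sum_cellCount_left _ _ (compLabel_lt a ha) σ s.val, card_label b hb]

theorem cellCount_eq_zero_of_le (la lb : Fin n → ℕ) (hla : ∀ i, la i < n) (hlb : ∀ i, lb i < n)
    (σ : Equiv.Perm (Fin n)) (t s : ℕ) (h : n ≤ t ∨ n ≤ s) : cellCount la lb σ t s = 0 := by
  unfold cellCount
  rw [Finset.card_eq_zero, Finset.filter_eq_empty_iff]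
  rintro i - ⟨h1, h2⟩
  have := hla i
  have := hlb (σ i)
  omega

theorem cellCount_eq_of_tableOf (la lb : Fin n → ℕ) (hla : ∀ i, la i < n) (hlb : ∀ i, lb i < n)
    (σ σ' : Equiv.Perm (Fin n)) (h : tableOf la lb σ = tableOf la lb σ') (t s : ℕ) :
    cellCount la lb σ t s = cellCount la lb σ' t s := by
  by_cases hts : t < n ∧ s < n
  · exact congrFun (congrFun h ⟨t, hts.1⟩) ⟨s, hts.2⟩
  · have : n ≤ t ∨ n ≤ s := by omega
    rw [cellCount_eq_zero_of_le la lb hla hlb σ t s this, cellCount_eq_zero_of_le la lb hla hlb σ' t s this]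

theorem exists_perm_tableOf (a b : Fin n → ℕ) (ha : ∑ i, a i = n) (hb : ∑ i, b i = n)
    (m : Fin n → Fin n → ℕ) (hm : m ∈ tables a b) :
    ∃ σ : Equiv.Perm (Fin n), tableOf (Cfsg.compLabel a) (Cfsg.compLabel b) σ = m := by
  obtain ⟨σ, hσ⟩ := exists_perm_cellCount (fun i => (⟨Cfsg.compLabel a i, compLabel_lt a ha i⟩ : Fin n))
    (fun i => (⟨Cfsg.compLabel b i, compLabel_lt b hb i⟩ : Fin n)) m
    (by
      intro t
      rw [hm.1 t, ← card_label a ha t]
      congr 1
      ext i
      simp only [Finset.mem_filter, Finset.mem_univ, true_and, Fin.ext_iff])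
    (by
      intro s
      rw [hm.2 s, ← card_label b hb s]
      congr 1
      ext i
      simp only [Finset.mem_filter, Finset.mem_univ, true_and, Fin.ext_iff])
  refine ⟨σ, ?_⟩
  funext t s
  rw [← hσ t s]
  unfold tableOf cellCount
  congr 1
  ext i
  simp only [Finset.mem_filter, Finset.mem_univ, true_and, Fin.ext_iff]

/-- orbits of `GL_n(F)` on pairs of flags -/
theorem card_orbits_GL [Fintype F] (a b : Fin n → ℕ) (ha : ∑ i, a i = n) (hb : ∑ i, b i = n) :
    Nat.card (orbitRel.Quotient (GL (Fin n) F)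
      ((GL (Fin n) F ⧸ Cfsg.parabolicGL n F a) × (GL (Fin n) F ⧸ Cfsg.parabolicGL n F b))) =
    Nat.card (tables a b) := by
  classical
  let σof : GL (Fin n) F → Equiv.Perm (Fin n) := fun g => Classical.choose (exists_isBru g)
  have hσof : ∀ g, IsBru g (σof g) := fun g => Classical.choose_spec (exists_isBru g)
  let Φ : GL (Fin n) F → (Fin n → Fin n → ℕ) := fun g =>
    tableOf (Cfsg.compLabel a) (Cfsg.compLabel b) (σof g)
  rw [card_orbits_eq_card_range (Cfsg.parabolicGL n F a) (Cfsg.parabolicGL n F b) Φ]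
  · suffices hr : Set.range Φ = tables a b by rw [hr]
    ext m
    constructor
    · rintro ⟨g, rfl⟩
      exact tableOf_mem a b ha hb _
    · intro hm
      obtain ⟨σ, hσ⟩ := exists_perm_tableOf a b ha hb m hm
      refine ⟨permGL σ, ?_⟩
      rw [← hσ]
      funext t s
      exact cellCount_eq_of_isBru a b (permGL σ) (permGL σ) 1 1 _ _ (hσof _) (isBru_permGL σ)
        (Subgroup.one_mem _) (Subgroup.one_mem _) (by simp) t.val s.val
  · intro h hh k hk g
    funext t s
    exact cellCount_eq_of_isBru a b g (h * g * k) h k _ _ (hσof _) (hσof _) hh hk rfl t.val s.val |>.symm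
  · intro g g' hgg'
    have hc := cellCount_eq_of_tableOf _ _ (compLabel_lt a ha) (compLabel_lt b hb) _ _ hgg'
    obtain ⟨α, β, hα, hβ, hσ'⟩ := exists_young_factorization _ _ _ _ hc
    obtain ⟨b₁, hb₁, b₂, hb₂, hg⟩ := hσof g
    obtain ⟨b₁', hb₁', b₂', hb₂', hg'⟩ := hσof g'
    refine ⟨b₁' * permGL α * b₁⁻¹, ?_, b₂⁻¹ * permGL β * b₂', ?_, ?_⟩
    · exact Subgroup.mul_mem _ (Subgroup.mul_mem _ (upper_le_parabolic a hb₁')
        (permGL_mem_parabolic a α hα)) (Subgroup.inv_mem _ (upper_le_parabolic a hb₁))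
    · exact Subgroup.mul_mem _ (Subgroup.mul_mem _ (Subgroup.inv_mem _ (upper_le_parabolic b hb₂))
        (permGL_mem_parabolic b β hβ)) (upper_le_parabolic b hb₂')
    · rw [hg', hσ', permGL_mul, permGL_mul]
      conv_rhs => rw [hg]
      group

/-- orbits of `S_n` on pairs of set compositions -/
theorem card_orbits_Sn (a b : Fin n → ℕ) (ha : ∑ i, a i = n) (hb : ∑ i, b i = n) :
    Nat.card (orbitRel.Quotient (Equiv.Perm (Fin n))
      ((Equiv.Perm (Fin n) ⧸ Cfsg.youngSubgroup a) × (Equiv.Perm (Fin n) ⧸ Cfsg.youngSubgroup b))) =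
    Nat.card (tables a b) := by
  classical
  let Φ : Equiv.Perm (Fin n) → (Fin n → Fin n → ℕ) := fun x t s =>
    tableOf (Cfsg.compLabel b) (Cfsg.compLabel a) x s t
  rw [card_orbits_eq_card_range (Cfsg.youngSubgroup a) (Cfsg.youngSubgroup b) Φ]
  · suffices hr : Set.range Φ = tables a b by rw [hr]
    ext m
    constructor
    · rintro ⟨x, rfl⟩
      have := tableOf_mem b a hb ha x
      exact ⟨fun t => this.2 t, fun s => this.1 s⟩
    · intro hm
      obtain ⟨x, hx⟩ := exists_perm_tableOf b a hb ha (fun s t => m t s) ⟨fun s => hm.2 s, fun t => hm.1 t⟩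
      refine ⟨x, ?_⟩
      funext t s
      exact congrFun (congrFun hx s) t
  · intro h hh k hk x
    funext t s
    exact cellCount_mul (Cfsg.compLabel b) (Cfsg.compLabel a) x k h hk hh s.val t.val
  · intro x x' hxx'
    have hΦ : tableOf (Cfsg.compLabel b) (Cfsg.compLabel a) x = tableOf (Cfsg.compLabel b) (Cfsg.compLabel a) x' := by
      funext s t
      exact congrFun (congrFun hxx' t) s
    have hc := cellCount_eq_of_tableOf _ _ (compLabel_lt b hb) (compLabel_lt a ha) _ _ hΦ
    obtain ⟨α, β, hα, hβ, hσ'⟩ := exists_young_factorization _ _ _ _ hc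
    exact ⟨β, hβ, α, hα, hσ'⟩

end Cfsg.Agent.Lib.Helper15.Bru
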