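import Mathlib

set_option autoImplicit false

namespace Cfsg.Agent.Lib.Helper15.JT

open MvPolynomial Finset

variable {n : ℕ}

/-- complete homogeneous symmetric polynomial of degree `m` in `n` variables -/
noncomputable def hp (n m : ℕ) : MvPolynomial (Fin n) ℤ :=
  ∑ l ∈ (Finset.univ : Finset (Fin n)).finsuppAntidiag m, monomial l (1 : ℤ)

/-- the geometric series in `X i · t` -/
noncomputable def geo (i : Fin n) : PowerSeries (MvPolynomial (Fin n) ℤ) :=
  PowerSeries.mk (fun k => (X i : MvPolynomial (Fin n) ℤ) ^ k)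

/-- the linear factor `1 - X i · t` -/
noncomputable def lin (i : Fin n) : PowerSeries (MvPolynomial (Fin n) ℤ) :=
  1 - PowerSeries.C (X i : MvPolynomial (Fin n) ℤ) * PowerSeries.X

theorem geo_mul_lin (i : Fin n) : geo i * lin i = 1 := by
  refine PowerSeries.ext (fun m => ?_)
  unfold geo lin
  rw [mul_sub, mul_one, map_sub, PowerSeries.coeff_mk, ← mul_assoc]
  rcases m with _ | m
  · simp
  · rw [PowerSeries.coeff_succ_mul_X, mul_comm, PowerSeries.coeff_C_mul, PowerSeries.coeff_mk,
      PowerSeries.coeff_one, if_neg (Nat.succ_ne_zero m)]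
    ring

theorem mk_hp : PowerSeries.mk (hp n) = ∏ i, geo (n := n) i := by
  classical
  refine PowerSeries.ext (fun m => ?_)
  rw [PowerSeries.coeff_mk, PowerSeries.coeff_prod]
  unfold hp
  apply Finset.sum_congr rfl
  intro l _
  unfold geo
  simp only [PowerSeries.coeff_mk]
  rw [MvPolynomial.monomial_eq, map_one, one_mul, Finsupp.prod_fintype]
  intro i
  rw [pow_zero]


/-- the polynomial `∏_{i ≠ j} (1 - X i · t)` -/
noncomputable def cpoly (j : Fin n) : Polynomial (MvPolynomial (Fin n) ℤ) :=
  ∏ i ∈ Finset.univ.erase j, (1 - Polynomial.C (X i : MvPolynomial (Fin n) ℤ) * Polynomial.X)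

/-- its coefficients -/
noncomputable def cc (j : Fin n) (k : ℕ) : MvPolynomial (Fin n) ℤ := (cpoly j).coeff k

theorem cpoly_coe (j : Fin n) :
    ((cpoly j : Polynomial (MvPolynomial (Fin n) ℤ)) : PowerSeries (MvPolynomial (Fin n) ℤ)) =
      ∏ i ∈ Finset.univ.erase j, lin i := by
  unfold cpoly
  rw [← Polynomial.coeToPowerSeries.ringHom_apply, map_prod]
  apply Finset.prod_congr rfl
  intro i _
  unfold lin
  simp

theorem cc_eq_zero (j : Fin n) (k : ℕ) (hk : n ≤ k) : cc j k = 0 := by
  unfold cc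
  apply Polynomial.coeff_eq_zero_of_natDegree_lt
  have h1 : (cpoly j).natDegree ≤ ∑ i ∈ Finset.univ.erase j, 1 := by
    unfold cpoly
    apply (Polynomial.natDegree_prod_le _ _).trans
    apply Finset.sum_le_sum
    intro i _
    apply (Polynomial.natDegree_sub_le _ _).trans
    rw [Polynomial.natDegree_one]
    apply max_le (Nat.zero_le _)
    exact (Polynomial.natDegree_C_mul_le _ _).trans (by rw [Polynomial.natDegree_X])
  rw [Finset.sum_const, Finset.card_erase_of_mem (Finset.mem_univ j), Finset.card_univ, Fintype.card_fin,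
    smul_eq_mul, mul_one] at h1
  have : 0 < n := Fin.pos j
  omega

theorem prod_geo_mul (j : Fin n) :
    ((cpoly j : Polynomial (MvPolynomial (Fin n) ℤ)) : PowerSeries (MvPolynomial (Fin n) ℤ)) *
      PowerSeries.mk (hp n) = geo j := by
  rw [mk_hp, cpoly_coe, ← Finset.mul_prod_erase Finset.univ _ (Finset.mem_univ j), mul_comm, mul_assoc,
    ← Finset.prod_mul_distrib]
  rw [Finset.prod_eq_one (fun i _ => geo_mul_lin i), mul_one]

/-- the key identity: `∑_k c_k^{(j)} h_{m-k} = X_j^m` -/
theorem sum_cc_hp (j : Fin n) (m : ℕ) :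
    ∑ k ∈ Finset.range (m + 1), cc j k * hp n (m - k) = (X j : MvPolynomial (Fin n) ℤ) ^ m := by
  have h := congrArg (PowerSeries.coeff m) (prod_geo_mul j)
  rw [PowerSeries.coeff_mul, Finset.Nat.sum_antidiagonal_eq_sum_range_succ
    (fun a b => PowerSeries.coeff a ((cpoly j : Polynomial (MvPolynomial (Fin n) ℤ)) :
      PowerSeries (MvPolynomial (Fin n) ℤ)) * PowerSeries.coeff b (PowerSeries.mk (hp n)))] at h
  simp only [Polynomial.coeff_coe, PowerSeries.coeff_mk] at h
  unfold geo at h
  rw [PowerSeries.coeff_mk] at h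
  exact h



/-- the matrix `(h_{λ_i - k})` -/
noncomputable def Hmat (lam : Fin n → ℕ) : Matrix (Fin n) (Fin n) (MvPolynomial (Fin n) ℤ) :=
  Matrix.of fun i k => if k.val ≤ lam i then hp n (lam i - k.val) else 0

/-- the matrix of coefficients of the `cpoly j` -/
noncomputable def Emat (n : ℕ) : Matrix (Fin n) (Fin n) (MvPolynomial (Fin n) ℤ) :=
  Matrix.of fun k j => cc j k.val

/-- the alternant matrix `(X_j^{λ_i})` -/
noncomputable def Amat (lam : Fin n → ℕ) : Matrix (Fin n) (Fin n) (MvPolynomial (Fin n) ℤ) :=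
  Matrix.of fun i j => (X j : MvPolynomial (Fin n) ℤ) ^ (lam i)

theorem Hmat_mul_Emat (lam : Fin n → ℕ) : Hmat lam * Emat n = Amat lam := by
  refine Matrix.ext (fun i j => ?_)
  rw [Matrix.mul_apply]
  simp only [Hmat, Emat, Amat, Matrix.of_apply]
  rw [← sum_cc_hp j (lam i)]
  rw [Fin.sum_univ_eq_sum_range (fun k => (if k ≤ lam i then hp n (lam i - k) else 0) * cc j k) n]
  have h1 : ∀ k ∈ Finset.range n, (if k ≤ lam i then hp n (lam i - k) else 0) * cc j k =
      if k ≤ lam i then cc j k * hp n (lam i - k) else 0 := by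
    intro k _
    split_ifs
    · rw [mul_comm]
    · rw [zero_mul]
  rw [Finset.sum_congr rfl h1, ← Finset.sum_filter]
  apply Finset.sum_subset
  · intro k hk
    rw [Finset.mem_filter, Finset.mem_range] at hk
    rw [Finset.mem_range]
    omega
  · intro k hk hk'
    rw [Finset.mem_filter, Finset.mem_range] at hk'
    rw [Finset.mem_range] at hk
    rw [cc_eq_zero j k (by omega), zero_mul]

theorem hp_zero : hp n 0 = 1 := by
  classical
  unfold hp
  rw [Finset.finsuppAntidiag_zero, Finset.sum_singleton]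
  rfl

theorem det_Hmat_delta : (Hmat (fun i : Fin n => i.val)).det = 1 := by
  rw [Matrix.det_of_isLowerTriangular]
  · apply Finset.prod_eq_one
    intro i _
    simp only [Hmat, Matrix.of_apply]
    rw [if_pos le_rfl, Nat.sub_self, hp_zero]
  · intro i j hij
    have hij' : i < j := hij
    simp only [Hmat, Matrix.of_apply]
    rw [if_neg]
    exact not_le.mpr hij'

/-- Jacobi–Trudi, bialternant form -/
theorem det_Amat (lam : Fin n → ℕ) :
    (Amat lam).det = (Hmat lam).det * (Amat (fun i : Fin n => i.val)).det := by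
  have h1 := congrArg Matrix.det (Hmat_mul_Emat lam)
  have h2 := congrArg Matrix.det (Hmat_mul_Emat (fun i : Fin n => i.val))
  rw [Matrix.det_mul] at h1 h2
  rw [det_Hmat_delta, one_mul] at h2
  rw [← h1, h2]

/-- a function as a finitely supported function -/
noncomputable def toFs (f : Fin n → ℕ) : Fin n →₀ ℕ := Finsupp.equivFunOnFinite.symm f

theorem toFs_apply (f : Fin n → ℕ) (i : Fin n) : toFs f i = f i := rfl

theorem toFs_inj {f g : Fin n → ℕ} (h : toFs f = toFs g) : f = g :=
  Finsupp.equivFunOnFinite.symm.injective h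

theorem prod_X_pow (f : Fin n → ℕ) :
    ∏ i, (X i : MvPolynomial (Fin n) ℤ) ^ (f i) = monomial (toFs f) 1 := by
  rw [MvPolynomial.monomial_eq, map_one, one_mul, Finsupp.prod_fintype]
  · rfl
  · intro i
    rw [pow_zero]

theorem det_Amat_eq (mu : Fin n → ℕ) :
    (Amat mu).det = ∑ σ : Equiv.Perm (Fin n), ((Equiv.Perm.sign σ : ℤ) : MvPolynomial (Fin n) ℤ) *
      monomial (toFs (fun i => mu (σ i))) 1 := by
  rw [Matrix.det_apply']
  apply Finset.sum_congr rfl
  intro σ _
  simp only [Amat, Matrix.of_apply]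
  rw [prod_X_pow]

theorem coeff_det_Amat (lam mu : Fin n → ℕ) (hlam : StrictMono lam) (hmu : StrictMono mu) :
    coeff (toFs lam) (Amat mu).det = if lam = mu then 1 else 0 := by
  classical
  rw [det_Amat_eq, coeff_sum]
  have h1 : ∀ σ : Equiv.Perm (Fin n), coeff (toFs lam)
      (((Equiv.Perm.sign σ : ℤ) : MvPolynomial (Fin n) ℤ) * monomial (toFs (fun i => mu (σ i))) 1) =
      if σ = 1 then (if lam = mu then 1 else 0) else 0 := by
    intro σ
    rw [← eq_intCast (MvPolynomial.C (σ := Fin n) (R := ℤ)), MvPolynomial.coeff_C_mul,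
      MvPolynomial.coeff_monomial]
    by_cases h : toFs (fun i => mu (σ i)) = toFs lam
    · have h' := toFs_inj h
      have hσ : StrictMono σ := by
        intro i j hij
        have := hlam hij
        rw [← h'] at this
        exact hmu.lt_iff_lt.mp this
      have hσ1 : σ = 1 := by
        ext i
        rw [hσ.apply_eq]
        rfl
      subst hσ1
      rw [if_pos h, if_pos rfl]
      have : lam = mu := by
        rw [← h']
        rfl
      rw [if_pos this]
      simp
    · rw [if_neg h, mul_zero]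
      by_cases hσ1 : σ = 1
      · subst hσ1
        rw [if_pos rfl, if_neg]
        intro hlm
        apply h
        rw [hlm]
        rfl
      · rw [if_neg hσ1]
  rw [Finset.sum_congr rfl (fun σ _ => h1 σ), Finset.sum_ite_eq' Finset.univ 1, if_pos (Finset.mem_univ _)]



theorem toFs_le_iff (f g : Fin n → ℕ) : toFs f ≤ toFs g ↔ ∀ i, f i ≤ g i := by
  rw [Finsupp.le_def]
  rfl

theorem toFs_sub (f g : Fin n → ℕ) : toFs g - toFs f = toFs (fun i => g i - f i) := by
  ext i
  rw [Finsupp.tsub_apply]
  rfl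

/-- number of contingency tables with margins `a`, `b` -/
noncomputable def numTables (a b : Fin n → ℕ) : ℕ :=
  Nat.card {m : Fin n → Fin n → ℕ | (∀ t, ∑ s, m t s = a t) ∧ (∀ s, ∑ t, m t s = b s)}

theorem coeff_prod_hp (a b : Fin n → ℕ) :
    coeff (toFs b) (∏ i, hp n (a i)) = (numTables a b : ℤ) := by
  classical
  unfold hp
  rw [Finset.prod_univ_sum]
  have h1 : ∀ p ∈ Fintype.piFinset (fun i : Fin n => (Finset.univ : Finset (Fin n)).finsuppAntidiag (a i)),
      ∏ i, monomial (p i) (1 : ℤ) = monomial (∑ i, p i) 1 := by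
    intro p _
    rw [MvPolynomial.monomial_sum_one]
  rw [Finset.sum_congr rfl h1, coeff_sum]
  simp only [MvPolynomial.coeff_monomial]
  rw [Finset.sum_boole]
  congr 1
  unfold numTables
  rw [← Nat.card_eq_finsetCard]
  apply Nat.card_congr
  refine ⟨fun p => ⟨fun i j => p.1 i j, ?_⟩, fun m => ⟨fun i => toFs (m.1 i), ?_⟩, ?_, ?_⟩
  · obtain ⟨p, hp⟩ := p
    rw [Finset.mem_filter, Fintype.mem_piFinset] at hp
    constructor
    · intro t
      have := hp.1 t
      rw [Finset.mem_finsuppAntidiag] at this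
      exact this.1
    · intro s
      have := congrArg (fun f => f s) hp.2
      simp only [Finsupp.finsetSum_apply] at this
      exact this
  · obtain ⟨m, hm⟩ := m
    rw [Finset.mem_filter, Fintype.mem_piFinset]
    constructor
    · intro t
      rw [Finset.mem_finsuppAntidiag]
      exact ⟨hm.1 t, Finset.subset_univ _⟩
    · ext s
      rw [Finsupp.finsetSum_apply]
      exact hm.2 s
  · intro p
    apply Subtype.ext
    funext i
    ext j
    rfl
  · intro m
    rfl

theorem det_Hmat_eq (mu : Fin n → ℕ) :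
    (Hmat mu).det = ∑ κ : Equiv.Perm (Fin n),
      if ∀ j, (κ j).val ≤ mu j then
        ((Equiv.Perm.sign κ : ℤ) : MvPolynomial (Fin n) ℤ) * ∏ j, hp n (mu j - (κ j).val)
      else 0 := by
  rw [← Matrix.det_transpose, Matrix.det_apply']
  apply Finset.sum_congr rfl
  intro κ _
  simp only [Matrix.transpose_apply, Hmat, Matrix.of_apply]
  by_cases h : ∀ j, (κ j).val ≤ mu j
  · rw [if_pos h]
    congr 1
    apply Finset.prod_congr rfl
    intro j _
    rw [if_pos (h j)]
  · rw [if_neg h]
    rw [not_forall] at h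
    obtain ⟨j, hj⟩ := h
    rw [not_le] at hj
    rw [Finset.prod_eq_zero (Finset.mem_univ j), mul_zero]
    rw [if_neg (not_le.mpr hj)]

theorem coeff_det_Hmat (mu b : Fin n → ℕ) :
    coeff (toFs b) (Hmat mu).det = ∑ κ : Equiv.Perm (Fin n),
      if ∀ j, (κ j).val ≤ mu j then
        (Equiv.Perm.sign κ : ℤ) * (numTables (fun j => mu j - (κ j).val) b : ℤ)
      else 0 := by
  rw [det_Hmat_eq, coeff_sum]
  apply Finset.sum_congr rfl
  intro κ _
  split_ifs with h
  · rw [← eq_intCast (MvPolynomial.C (σ := Fin n) (R := ℤ)), MvPolynomial.coeff_C_mul, coeff_prod_hp]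
  · rw [coeff_zero]

/-- orthogonality of Schur functions, in terms of contingency tables -/
theorem jt_orth (lam mu : Fin n → ℕ) (hlam : StrictMono lam) (hmu : StrictMono mu) :
    ∑ σ : Equiv.Perm (Fin n),
      (if ∀ i, (σ i).val ≤ lam i then
        ∑ κ : Equiv.Perm (Fin n),
          (if ∀ j, (κ j).val ≤ mu j then
            (Equiv.Perm.sign σ : ℤ) * ((Equiv.Perm.sign κ : ℤ) *
              (numTables (fun j => mu j - (κ j).val) (fun i => lam i - (σ i).val) : ℤ))
          else 0)
      else 0) = if lam = mu then 1 else 0 := by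
  classical
  rw [← coeff_det_Amat lam mu hlam hmu, det_Amat, det_Amat_eq, Finset.mul_sum, coeff_sum]
  apply Finset.sum_congr rfl
  intro σ _
  rw [← mul_assoc, mul_comm (Hmat mu).det, mul_assoc, ← eq_intCast (MvPolynomial.C (σ := Fin n) (R := ℤ)),
    MvPolynomial.coeff_C_mul, MvPolynomial.coeff_mul_monomial']
  by_cases h : ∀ i, (σ i).val ≤ lam i
  · rw [if_pos h, if_pos ((toFs_le_iff _ _).mpr h), toFs_sub, coeff_det_Hmat, mul_one, Finset.mul_sum]
    apply Finset.sum_congr rfl
    intro κ _
    split_ifs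
    · rfl
    · rw [mul_zero]
  · rw [if_neg h, if_neg (fun h' => h ((toFs_le_iff _ _).mp h')), mul_zero]

end Cfsg.Agent.Lib.Helper15.JT
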