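import Mathlib
import Cfsg.Agent.Lib.Helper15.Parabolic

set_option autoImplicit false
open scoped MatrixGroups

/-! q-integers, q-factorials, and the Vandermonde evaluation behind the q-hook degree formula. -/

namespace Cfsg.Agent.Lib.Helper15.QHook

open Finset Polynomial

variable (q : ℕ)

/-- the q-integer `1 + q + ⋯ + q^(r-1)` as a complex number -/
noncomputable def Qn (r : ℕ) : ℂ := ((∑ l ∈ Finset.range r, q ^ l : ℕ) : ℂ)

/-- the q-factorial as a complex number -/
noncomputable def QF (r : ℕ) : ℂ := ∏ j ∈ Finset.range r, Qn q (j + 1)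

/-- triangular numbers `0 + 1 + ⋯ + (j-1)` -/
def tri (j : ℕ) : ℕ := ∑ l ∈ Finset.range j, l

theorem QF_eq_cast (r : ℕ) : QF q r = ((qFact q r : ℕ) : ℂ) := by
  unfold QF qFact Qn
  rw [Nat.cast_prod]

theorem Qn_add (l m : ℕ) : Qn q (l + m) = Qn q l + (q : ℂ) ^ l * Qn q m := by
  unfold Qn
  rw [Finset.sum_range_add]
  push_cast
  rw [Finset.mul_sum]
  congr 1
  apply Finset.sum_congr rfl
  intro x _
  rw [pow_add]

theorem QF_succ (m : ℕ) : QF q (m + 1) = QF q m * Qn q (m + 1) := by
  unfold QF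
  rw [Finset.prod_range_succ]

theorem Qn_succ_ne_zero (m : ℕ) : Qn q (m + 1) ≠ 0 := by
  unfold Qn
  rw [Nat.cast_ne_zero, Finset.sum_range_succ', pow_zero]
  omega

theorem QF_ne_zero (m : ℕ) : QF q m ≠ 0 := by
  unfold QF
  rw [Finset.prod_ne_zero_iff]
  intro j _
  exact Qn_succ_ne_zero q j

theorem tri_succ (j : ℕ) : tri (j + 1) = tri j + j := by
  unfold tri
  rw [Finset.sum_range_succ]

theorem key (j : ℕ) : ∀ m : ℕ, QF q (m + j) * (q : ℂ) ^ tri j =
    QF q m * ∏ l ∈ Finset.range j, (Qn q (m + j) - Qn q l) := by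
  induction j with
  | zero => intro m; simp [tri]
  | succ j ih =>
    intro m
    have h1 := ih (m + 1)
    rw [Finset.prod_range_succ]
    have h2 : Qn q (m + (j + 1)) - Qn q j = (q : ℂ) ^ j * Qn q (m + 1) := by
      have : m + (j + 1) = j + (m + 1) := by ring
      rw [this, Qn_add]; ring
    have h4 : m + (j + 1) = m + 1 + j := by ring
    rw [h2, tri_succ, pow_add, h4]
    rw [QF_succ] at h1
    calc QF q (m + 1 + j) * ((q : ℂ) ^ tri j * (q : ℂ) ^ j)
        = (QF q (m + 1 + j) * (q : ℂ) ^ tri j) * (q : ℂ) ^ j := by ring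
      _ = (QF q m * Qn q (m + 1) * ∏ l ∈ Finset.range j, (Qn q (m + 1 + j) - Qn q l)) * (q : ℂ) ^ j := by
          rw [h1]
      _ = _ := by ring

/-- the monic polynomial `∏_{l<j} (X - Q(l))` -/
noncomputable def pj (j : ℕ) : ℂ[X] := ∏ l ∈ Finset.range j, (X - C (Qn q l))

theorem pj_monic (j : ℕ) : (pj q j).Monic := by
  unfold pj
  exact Polynomial.monic_prod_of_monic _ _ (fun l _ => Polynomial.monic_X_sub_C _)

theorem pj_natDegree (j : ℕ) : (pj q j).natDegree = j := by
  unfold pj
  rw [Polynomial.natDegree_prod_of_monic _ _ (fun l _ => Polynomial.monic_X_sub_C _)]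
  simp

theorem pj_eval (j : ℕ) (x : ℂ) : (pj q j).eval x = ∏ l ∈ Finset.range j, (x - Qn q l) := by
  unfold pj
  rw [Polynomial.eval_prod]
  simp

/-- entries of the coefficient matrix -/
noncomputable def aEntry (lam j : ℕ) : ℂ := if j ≤ lam then (QF q (lam - j))⁻¹ else 0

theorem aEntry_spec (lam j : ℕ) :
    QF q lam * ((q : ℂ) ^ tri j * aEntry q lam j) = (pj q j).eval (Qn q lam) := by
  rw [pj_eval]
  unfold aEntry
  by_cases h : j ≤ lam
  · rw [if_pos h]
    obtain ⟨m, rfl⟩ := Nat.exists_eq_add_of_le' h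
    rw [Nat.add_sub_cancel]
    have := key q j m
    have hne := QF_ne_zero q m
    field_simp
    rw [this]
  · rw [if_neg h, mul_zero, mul_zero]
    symm
    apply Finset.prod_eq_zero (i := lam)
    · rw [Finset.mem_range]; omega
    · rw [sub_self]

theorem six_mul_sum_tri (n : ℕ) : 6 * ∑ j ∈ Finset.range n, tri j = n * (n - 1) * (n - 2) := by
  have h2 : ∀ j, 2 * tri (j + 1) = (j + 1) * j := by
    intro j
    induction j with
    | zero => simp [tri]
    | succ j ih => rw [tri_succ]; linarith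
  have h3 : ∀ n, 6 * ∑ j ∈ Finset.range (n + 2), tri j = (n + 2) * (n + 1) * n := by
    intro n
    induction n with
    | zero => simp [Finset.sum_range_succ, tri]
    | succ n ih =>
      rw [Finset.sum_range_succ, mul_add, ih]
      have := h2 (n + 1)
      have e : n + 1 + 1 = n + 2 := rfl
      rw [e] at this
      nlinarith [this]
  rcases n with _ | _ | n
  · simp
  · simp [tri]
  · rw [h3 n]
    have e1 : n + 1 + 1 - 1 = n + 1 := by omega
    have e2 : n + 1 + 1 - 2 = n := by omega
    rw [e1, e2]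

theorem sum_tri (n : ℕ) : ∑ j ∈ Finset.range n, tri j = n * (n - 1) * (n - 2) / 6 := by
  rw [← six_mul_sum_tri n, Nat.mul_div_cancel_left _ (by norm_num)]

theorem det_aEntry {n : ℕ} (lam : Fin n → ℕ) :
    (Matrix.of fun i j : Fin n => aEntry q (lam i) j.val).det *
      (q : ℂ) ^ (n * (n - 1) * (n - 2) / 6) * ∏ i, QF q (lam i) =
    ∏ i : Fin n, ∏ j ∈ Finset.Ioi i, (Qn q (lam j) - Qn q (lam i)) := by
  rw [← Matrix.det_vandermonde,
    Matrix.det_eval_matrixOfPolynomials_eq_det_vandermonde (fun i => Qn q (lam i))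
      (fun j : Fin n => pj q j.val) (fun j => pj_natDegree q j.val) (fun j => pj_monic q j.val)]
  have h1 : (Matrix.of fun i j : Fin n => (pj q j.val).eval (Qn q (lam i))) =
      Matrix.of fun i j : Fin n => QF q (lam i) *
        (Matrix.of fun i j : Fin n => (q : ℂ) ^ tri j.val *
          (Matrix.of fun i j : Fin n => aEntry q (lam i) j.val) i j) i j := by
    ext i j
    simp only [Matrix.of_apply]
    rw [aEntry_spec]
  rw [h1, Matrix.det_mul_column, Matrix.det_mul_row, Finset.prod_pow_eq_pow_sum,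
    Fin.sum_univ_eq_sum_range (fun j => tri j) n, sum_tri]
  ring

theorem fixedPointCharacter_one {G : Type*} [Group G] (H : Subgroup G) :
    Cfsg.fixedPointCharacter H 1 = (Nat.card (G ⧸ H) : ℂ) := by
  unfold Cfsg.fixedPointCharacter
  have : MulAction.fixedBy (G ⧸ H) (1 : G) = Set.univ := by
    ext x; simp
  rw [this, Nat.card_congr (Equiv.Set.univ _)]

end Cfsg.Agent.Lib.Helper15.QHook
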