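import Mathlib
import Cfsg.Agent.Lib.Helper15.JacobiTrudi
import Cfsg.Agent.Lib.Helper15.FlagPairs
import Cfsg.Agent.Lib.Helper2.PermChar
import Cfsg.Agent.Lib.Helper2.Orthogonality
import Cfsg.Agent.Lib.Helper2.Regular
import Cfsg.Agent.Lib.Helper2.BurnsidePQ
import Cfsg.Agent.Lib.Helper11.GenChar
import Cfsg.Agent.S2424

set_option autoImplicit false
open scoped MatrixGroups ComplexConjugate

namespace Cfsg.Agent.Lib.Helper15.UnipGL

open Cfsg.Agent.Lib.Helper2 Cfsg.Agent.Lib.Helper11

section General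

variable {G : Type*} [Group G] [Fintype G]

/-- permutation characters on cosets are characters -/
theorem isCharacter_fpc (H : Subgroup G) : Cfsg.IsCharacter G (Cfsg.fixedPointCharacter H) := by
  have h := permChar_eq_indFun (G := G) (G ⧸ H) ((1 : G) : G ⧸ H)
  unfold Cfsg.fixedPointCharacter
  rw [h]
  exact indFun_isCharacter _ _ (IsIrrCharacter.isCharacter isIrrCharacter_one)

theorem classInner_fpc (H K : Subgroup G) :
    Cfsg.classInner (Cfsg.fixedPointCharacter H) (Cfsg.fixedPointCharacter K) =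
      (Nat.card (MulAction.orbitRel.Quotient G ((G ⧸ H) × (G ⧸ K))) : ℂ) := by
  rw [← Bru.inner_fixedPointCharacter H K, classInner_def]
  congr 1
  apply Finset.sum_congr rfl
  intro g _
  unfold Cfsg.fixedPointCharacter
  rw [Complex.conj_natCast]

end General



section LinearGroup

variable {F : Type*} [Field F] {n : ℕ}

theorem unip_eq_sum (ν : Fin n → ℕ) :
    Cfsg.unipotentCharacterGL n F ν = ∑ κ : Equiv.Perm (Fin n),
      ((if ∀ i : Fin n, (κ i).val ≤ ν i + i.val then ((Equiv.Perm.sign κ : ℤ) : ℂ) else 0) : ℂ) •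
        Cfsg.fixedPointCharacter (Cfsg.parabolicGL n F fun i => ν i + i.val - (κ i).val) := by
  funext g
  unfold Cfsg.unipotentCharacterGL
  rw [Finset.sum_apply]
  apply Finset.sum_congr rfl
  intro κ _
  rw [Pi.smul_apply, smul_eq_mul]
  split_ifs
  · rfl
  · rw [zero_mul]

theorem strictMono_shift {ν : Fin n → ℕ} (hmono : Monotone ν) :
    StrictMono (fun i : Fin n => ν i + i.val) := by
  intro i j hij
  have h1 := hmono hij.le
  have h2 : i.val < j.val := hij
  change ν i + i.val < ν j + j.val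
  omega

theorem term_eq [Fintype F] [Fintype (GL (Fin n) F)] (ν ν' : Fin n → ℕ) (hsum : ∑ i, ν i = n)
    (hsum' : ∑ i, ν' i = n) (κ κ' : Equiv.Perm (Fin n)) :
    conj ((if ∀ i : Fin n, (κ' i).val ≤ ν' i + i.val then ((Equiv.Perm.sign κ' : ℤ) : ℂ) else 0) : ℂ) *
      (((if ∀ i : Fin n, (κ i).val ≤ ν i + i.val then ((Equiv.Perm.sign κ : ℤ) : ℂ) else 0) : ℂ) *
        Cfsg.classInner
          (Cfsg.fixedPointCharacter (Cfsg.parabolicGL n F fun i => ν i + i.val - (κ i).val))
          (Cfsg.fixedPointCharacter (Cfsg.parabolicGL n F fun i => ν' i + i.val - (κ' i).val))) =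
    (((if ∀ i : Fin n, (κ' i).val ≤ ν' i + i.val then
        (if ∀ i : Fin n, (κ i).val ≤ ν i + i.val then
          (Equiv.Perm.sign κ' : ℤ) * ((Equiv.Perm.sign κ : ℤ) *
            (JT.numTables (fun i => ν i + i.val - (κ i).val) (fun i => ν' i + i.val - (κ' i).val) : ℤ))
        else 0)
      else 0 : ℤ)) : ℂ) := by
  by_cases h : ∀ i : Fin n, (κ i).val ≤ ν i + i.val
  · by_cases h' : ∀ i : Fin n, (κ' i).val ≤ ν' i + i.val
    · rw [if_pos h, if_pos h', if_pos h', if_pos h, map_intCast, classInner_fpc,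
        Bru.card_orbits_GL _ _ ((Cfsg.Agent.S2424.sum_sub_perm ν κ h).trans hsum)
          ((Cfsg.Agent.S2424.sum_sub_perm ν' κ' h').trans hsum')]
      have : Nat.card (Bru.tables (fun i => ν i + i.val - (κ i).val) (fun i => ν' i + i.val - (κ' i).val)) =
          JT.numTables (fun i => ν i + i.val - (κ i).val) (fun i => ν' i + i.val - (κ' i).val) := rfl
      rw [this]
      push_cast
      ring
    · rw [if_neg h', if_neg h', map_zero, zero_mul, Int.cast_zero]
  · rw [if_neg h, zero_mul, mul_zero, if_neg h]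
    split_ifs <;> rw [Int.cast_zero]

theorem classInner_unip [Fintype F] [Fintype (GL (Fin n) F)] (ν ν' : Fin n → ℕ) (hmono : Monotone ν)
    (hsum : ∑ i, ν i = n) (hmono' : Monotone ν') (hsum' : ∑ i, ν' i = n) :
    Cfsg.classInner (Cfsg.unipotentCharacterGL n F ν) (Cfsg.unipotentCharacterGL n F ν') =
      if ν = ν' then 1 else 0 := by
  classical
  rw [unip_eq_sum ν, unip_eq_sum ν', classInner_sum_left]
  simp only [classInner_smul_left, classInner_sum_right, classInner_smul_right]
  simp only [term_eq ν ν' hsum hsum']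
  rw [Finset.sum_comm]
  have key := JT.jt_orth (fun i => ν' i + i.val) (fun i => ν i + i.val) (strictMono_shift hmono')
    (strictMono_shift hmono)
  have key' := congrArg (Int.cast : ℤ → ℂ) key
  rw [Int.cast_sum] at key'
  have h1 : ∀ σ : Equiv.Perm (Fin n),
      ∑ κ : Equiv.Perm (Fin n), (((if ∀ i : Fin n, (σ i).val ≤ ν' i + i.val then
        (if ∀ i : Fin n, (κ i).val ≤ ν i + i.val then
          (Equiv.Perm.sign σ : ℤ) * ((Equiv.Perm.sign κ : ℤ) *
            (JT.numTables (fun i => ν i + i.val - (κ i).val) (fun i => ν' i + i.val - (σ i).val) : ℤ))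
        else 0)
      else 0 : ℤ)) : ℂ) =
      (((if ∀ i : Fin n, (σ i).val ≤ ν' i + i.val then
        ∑ κ : Equiv.Perm (Fin n),
          (if ∀ j : Fin n, (κ j).val ≤ ν j + j.val then
            (Equiv.Perm.sign σ : ℤ) * ((Equiv.Perm.sign κ : ℤ) *
              (JT.numTables (fun j => ν j + j.val - (κ j).val) (fun i => ν' i + i.val - (σ i).val) : ℤ))
          else 0)
      else 0 : ℤ)) : ℂ) := by
    intro σ
    by_cases h : ∀ i : Fin n, (σ i).val ≤ ν' i + i.val
    · rw [if_pos h, Int.cast_sum]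
      apply Finset.sum_congr rfl
      intro κ _
      rw [if_pos h]
    · rw [if_neg h, Int.cast_zero]
      apply Finset.sum_eq_zero
      intro κ _
      rw [if_neg h, Int.cast_zero]
  rw [Finset.sum_congr rfl (fun σ _ => h1 σ), key']
  by_cases hνν : ν = ν'
  · subst hνν
    rw [if_pos rfl, if_pos rfl, Int.cast_one]
  · rw [if_neg hνν, if_neg, Int.cast_zero]
    intro heq
    apply hνν
    funext i
    have := congrFun heq i
    change ν' i + i.val = ν i + i.val at this
    omega



theorem isGenChar_unip [Fintype F] [Fintype (GL (Fin n) F)] (ν : Fin n → ℕ) :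
    Cfsg.IsGeneralizedCharacter (GL (Fin n) F) (Cfsg.unipotentCharacterGL n F ν) := by
  classical
  refine ⟨∑ κ : Equiv.Perm (Fin n),
      (if (∀ i : Fin n, (κ i).val ≤ ν i + i.val) ∧ Equiv.Perm.sign κ = 1 then
        Cfsg.fixedPointCharacter (Cfsg.parabolicGL n F fun i => ν i + i.val - (κ i).val) else 0),
    ∑ κ : Equiv.Perm (Fin n),
      (if (∀ i : Fin n, (κ i).val ≤ ν i + i.val) ∧ Equiv.Perm.sign κ = -1 then
        Cfsg.fixedPointCharacter (Cfsg.parabolicGL n F fun i => ν i + i.val - (κ i).val) else 0),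
    ?_, ?_, ?_⟩
  · apply isCharacter_sum
    intro κ _
    split_ifs
    · exact isCharacter_fpc _
    · exact isCharacter_zero
  · apply isCharacter_sum
    intro κ _
    split_ifs
    · exact isCharacter_fpc _
    · exact isCharacter_zero
  · rw [unip_eq_sum ν, ← Finset.sum_sub_distrib]
    apply Finset.sum_congr rfl
    intro κ _
    by_cases h : ∀ i : Fin n, (κ i).val ≤ ν i + i.val
    · rcases Int.units_eq_one_or (Equiv.Perm.sign κ) with hs | hs
      · rw [if_pos h, if_pos ⟨h, hs⟩, if_neg, hs]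
        · simp
        · rintro ⟨_, h2⟩
          rw [hs] at h2
          exact absurd h2 (by decide)
      · rw [if_pos h, if_neg, if_pos ⟨h, hs⟩, hs]
        · simp
        · rintro ⟨_, h2⟩
          rw [hs] at h2
          exact absurd h2 (by decide)
    · rw [if_neg h, if_neg (fun h' => h h'.1), if_neg (fun h' => h h'.1), zero_smul, sub_zero]

theorem geom_strictMono (q : ℕ) (hq : 0 < q) :
    StrictMono (fun m : ℕ => ∑ l ∈ Finset.range m, q ^ l) := by
  apply strictMono_nat_of_lt_succ
  intro m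
  rw [Finset.sum_range_succ]
  have : 0 < q ^ m := pow_pos hq m
  omega

theorem geom_pos (q : ℕ) (j : ℕ) : 0 < ∑ l ∈ Finset.range (j + 1), q ^ l := by
  rw [Finset.sum_range_succ']
  simp

/-- the degree is a positive real number -/
theorem unip_one_pos [Fintype F] (ν : Fin n → ℕ) (hmono : Monotone ν) (hsum : ∑ i, ν i = n) :
    ∃ r : ℝ, 0 < r ∧ Cfsg.unipotentCharacterGL n F ν 1 = (r : ℂ) := by
  classical
  have h := Cfsg.Agent.S2424.result (F := F) (q := Fintype.card F) rfl ν hmono hsum
  set q := Fintype.card F with hq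
  have hqpos : 0 < q := Fintype.card_pos
  set A : ℝ := (q : ℝ) ^ (n * (n - 1) * (n - 2) / 6) *
        ∏ i : Fin n, ∏ j ∈ Finset.range (ν i + i.val), ((∑ l ∈ Finset.range (j + 1), q ^ l : ℕ) : ℝ) with hA
  set B : ℝ := (∏ j ∈ Finset.range n, ((∑ l ∈ Finset.range (j + 1), q ^ l : ℕ) : ℝ)) *
        ∏ i : Fin n, ∏ j ∈ Finset.univ.filter (fun j : Fin n => i < j),
          (((∑ l ∈ Finset.range (ν j + j.val), q ^ l : ℕ) : ℝ) - ((∑ l ∈ Finset.range (ν i + i.val), q ^ l : ℕ) : ℝ))
    with hB
  have hApos : 0 < A := by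
    apply mul_pos
    · exact pow_pos (by exact_mod_cast hqpos) _
    · apply Finset.prod_pos
      intro i _
      apply Finset.prod_pos
      intro j _
      exact_mod_cast geom_pos q j
  have hBpos : 0 < B := by
    apply mul_pos
    · apply Finset.prod_pos
      intro j _
      exact_mod_cast geom_pos q j
    · apply Finset.prod_pos
      intro i _
      apply Finset.prod_pos
      intro j hj
      rw [Finset.mem_filter] at hj
      rw [sub_pos, Nat.cast_lt]
      exact geom_strictMono q hqpos (strictMono_shift hmono hj.2)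
  have h2 : Cfsg.unipotentCharacterGL n F ν 1 * (A : ℂ) = (B : ℂ) := by
    rw [hA, hB]
    push_cast
    push_cast at h
    rw [← h]
    ring
  refine ⟨B / A, div_pos hBpos hApos, ?_⟩
  rw [Complex.ofReal_div, ← h2]
  have : (A : ℂ) ≠ 0 := by exact_mod_cast hApos.ne'
  field_simp

theorem isIrr_unip [Fintype F] (ν : Fin n → ℕ) (hmono : Monotone ν) (hsum : ∑ i, ν i = n) :
    Cfsg.IsIrrCharacter (GL (Fin n) F) (Cfsg.unipotentCharacterGL n F ν) := by
  classical
  have : Fintype (GL (Fin n) F) := Fintype.ofFinite _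
  have h1 := isGenChar_unip (F := F) ν
  have h2 : Cfsg.classInner (Cfsg.unipotentCharacterGL n F ν) (Cfsg.unipotentCharacterGL n F ν) = 1 := by
    rw [classInner_unip ν ν hmono hsum hmono hsum, if_pos rfl]
  rcases IsGeneralizedCharacter.isSignedIrr_of_norm_one h1 h2 with h | h
  · exact h
  · exfalso
    obtain ⟨d, hd, hd1⟩ := IsIrrCharacter.apply_one h
    obtain ⟨r, hr, hr1⟩ := unip_one_pos (F := F) ν hmono hsum
    rw [Pi.neg_apply, hr1] at hd1
    have : -r = (d : ℝ) := by exact_mod_cast hd1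
    have hd' : (0 : ℝ) < d := by exact_mod_cast hd
    linarith

theorem unip_injective [Fintype F] (ν ν' : Fin n → ℕ) (hmono : Monotone ν) (hsum : ∑ i, ν i = n)
    (hmono' : Monotone ν') (hsum' : ∑ i, ν' i = n)
    (h : Cfsg.unipotentCharacterGL n F ν = Cfsg.unipotentCharacterGL n F ν') : ν = ν' := by
  classical
  have : Fintype (GL (Fin n) F) := Fintype.ofFinite _
  have h1 := classInner_unip (F := F) ν ν hmono hsum hmono hsum
  have h2 := classInner_unip (F := F) ν ν' hmono hsum hmono' hsum'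
  rw [← h, h1, if_pos rfl] at h2
  by_contra hne
  rw [if_neg hne] at h2
  exact one_ne_zero h2

end LinearGroup

end Cfsg.Agent.Lib.Helper15.UnipGL
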