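import Mathlib
import Cfsg.Agent.Lib.Helper15.UnipGL
import Cfsg.Agent.Lib.Helper25.Kernel
import Cfsg.Agent.Lib.Helper25.EvenDegree
import Cfsg.Agent.Lib.Helper7.NormalDefect

/-!
# Unipotent characters of `SL_n(q)` and `PSL_n(q)`; the Steinberg character of `PSL_n(q)`
-/

set_option autoImplicit false
open scoped MatrixGroups ComplexConjugate

namespace Cfsg.Agent.Lib.Helper15.UnipSL


open Cfsg.Agent.Lib.Helper2 Cfsg.Agent.Lib.Helper11 MulAction

section General

/-- Burnside along a homomorphism `ι : S → G` whose image is transitive on every `G`-orbit of pairs -/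
theorem inner_fpc_hom {S G : Type*} [Group S] [Fintype S] [Group G] [Finite G] (ι : S →* G)
    (H K : Subgroup G)
    (hstab : ∀ (z : (G ⧸ H) × (G ⧸ K)) (g : G), ∃ s : S, ι s • z = g • z) :
    (Nat.card S : ℂ)⁻¹ * ∑ s : S, Cfsg.fixedPointCharacter H (ι s) * Cfsg.fixedPointCharacter K (ι s) =
      (Nat.card (MulAction.orbitRel.Quotient G ((G ⧸ H) × (G ⧸ K))) : ℂ) := by
  classical
  let _ : MulAction S ((G ⧸ H) × (G ⧸ K)) := MulAction.compHom _ ι
  have hsmul : ∀ (s : S) (z : (G ⧸ H) × (G ⧸ K)), s • z = ι s • z := fun s z => rfl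
  have : ∀ s : S, Fintype (fixedBy ((G ⧸ H) × (G ⧸ K)) s) := fun s => Fintype.ofFinite _
  have : Fintype (Quotient (orbitRel S ((G ⧸ H) × (G ⧸ K)))) := Fintype.ofFinite _
  have hB := sum_card_fixedBy_eq_card_orbits_mul_card_group S ((G ⧸ H) × (G ⧸ K))
  have hterm : ∀ s : S, Cfsg.fixedPointCharacter H (ι s) * Cfsg.fixedPointCharacter K (ι s) =
      (Fintype.card (fixedBy ((G ⧸ H) × (G ⧸ K)) s) : ℂ) := by
    intro s
    unfold Cfsg.fixedPointCharacter
    rw [← Nat.cast_mul, ← Nat.card_prod, ← Nat.card_eq_fintype_card,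
      ← Nat.card_congr (Bru.fixedByProdEquiv (X := G ⧸ H) (Y := G ⧸ K) (ι s))]
    rfl
  rw [Finset.sum_congr rfl (fun s _ => hterm s), ← Nat.cast_sum, hB, Nat.card_eq_fintype_card,
    Nat.cast_mul]
  have hS : (Fintype.card S : ℂ) ≠ 0 := by
    exact_mod_cast Fintype.card_ne_zero
  have hq : Nat.card (MulAction.orbitRel.Quotient G ((G ⧸ H) × (G ⧸ K))) =
      Fintype.card (Quotient (orbitRel S ((G ⧸ H) × (G ⧸ K)))) := by
    rw [← Nat.card_eq_fintype_card]
    apply Nat.card_congr
    apply Quotient.congrRight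
    intro a b
    change a ∈ orbit G b ↔ a ∈ orbit S b
    constructor
    · rintro ⟨g, rfl⟩
      obtain ⟨s, hs⟩ := hstab b g
      exact ⟨s, hs⟩
    · rintro ⟨s, rfl⟩
      exact ⟨ι s, rfl⟩
  rw [hq]
  field_simp

end General



section Diag

variable {F : Type*} [Field F] {n : ℕ}

open Bru

/-- diagonal matrices in `GL` -/
noncomputable def diagGL (d : Fin n → Fˣ) : GL (Fin n) F :=
  ⟨Matrix.diagonal (fun i => (d i : F)), Matrix.diagonal (fun i => ((d i)⁻¹ : Fˣ)),
    by rw [Matrix.diagonal_mul_diagonal]; simp, by rw [Matrix.diagonal_mul_diagonal]; simp⟩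

theorem coe_diagGL (d : Fin n → Fˣ) :
    ((diagGL d : GL (Fin n) F) : Matrix (Fin n) (Fin n) F) = Matrix.diagonal (fun i => (d i : F)) := rfl

theorem diagGL_mem_parabolic (μ : Fin n → ℕ) (d : Fin n → Fˣ) :
    diagGL d ∈ Cfsg.parabolicGL n F μ := by
  change ((diagGL d : GL (Fin n) F) : Matrix (Fin n) (Fin n) F).BlockTriangular (Cfsg.compLabel μ)
  rw [coe_diagGL]
  exact Matrix.blockTriangular_diagonal _

theorem diagGL_mul_permGL (d : Fin n → Fˣ) (σ : Equiv.Perm (Fin n)) :
    diagGL d * permGL σ = permGL σ * diagGL (fun i => d (σ.symm i)) := by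
  apply Units.ext
  ext i j
  rw [Units.val_mul, Units.val_mul, coe_diagGL, coe_diagGL, Matrix.diagonal_mul, Matrix.mul_diagonal,
    permGL_apply]
  by_cases h : σ i = j
  · subst h
    simp
  · simp [h]

theorem det_diagGL (d : Fin n → Fˣ) :
    Matrix.GeneralLinearGroup.det (diagGL d) = ∏ i, d i := by
  apply Units.ext
  rw [Matrix.GeneralLinearGroup.val_det_apply, coe_diagGL, Matrix.det_diagonal]
  simp

/-- the stabilizer of any pair of flags contains elements of every determinant -/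
theorem exists_stab_det [Finite F] (hn : 0 < n) (a b : Fin n → ℕ) (x y : GL (Fin n) F) (u : Fˣ) :
    ∃ t : GL (Fin n) F, Matrix.GeneralLinearGroup.det t = u ∧
      x⁻¹ * t * x ∈ Cfsg.parabolicGL n F a ∧ y⁻¹ * t * y ∈ Cfsg.parabolicGL n F b := by
  classical
  obtain ⟨b₁, hb₁, b₂, hb₂, σ, hσ⟩ := bruhat (x⁻¹ * y)
  let d : Fin n → Fˣ := fun i => if i = ⟨0, hn⟩ then u else 1
  have hdet : ∏ i, d i = u := by
    simp only [d]
    rw [Finset.prod_ite_eq' Finset.univ (⟨0, hn⟩ : Fin n) (fun _ => u), if_pos (Finset.mem_univ _)]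
  have hy : y = x * b₁ * permGL σ * b₂ := by
    rw [mul_assoc x, mul_assoc x, ← hσ]
    group
  refine ⟨x * b₁ * diagGL d * b₁⁻¹ * x⁻¹, ?_, ?_, ?_⟩
  · rw [map_mul, map_mul, map_mul, map_mul, map_inv, map_inv, det_diagGL, hdet]
    have hc : ∀ p q w : Fˣ, p * q * w * q⁻¹ * p⁻¹ = w := by
      intro p q w
      rw [mul_comm (p * q) w]
      group
    exact hc _ _ _
  · have : x⁻¹ * (x * b₁ * diagGL d * b₁⁻¹ * x⁻¹) * x = b₁ * diagGL d * b₁⁻¹ := by group
    rw [this]
    exact Subgroup.mul_mem _ (Subgroup.mul_mem _ (upper_le_parabolic a hb₁) (diagGL_mem_parabolic a d))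
      (Subgroup.inv_mem _ (upper_le_parabolic a hb₁))
  · have h1 : y⁻¹ * (x * b₁ * diagGL d * b₁⁻¹ * x⁻¹) * y =
        b₂⁻¹ * ((permGL σ)⁻¹ * (diagGL d * permGL σ)) * b₂ := by
      rw [hy]
      group
    rw [h1, diagGL_mul_permGL, inv_mul_cancel_left]
    exact Subgroup.mul_mem _ (Subgroup.mul_mem _ (Subgroup.inv_mem _ (upper_le_parabolic b hb₂))
      (diagGL_mem_parabolic b _)) (upper_le_parabolic b hb₂)

theorem toGL_hstab [Finite F] (a b : Fin n → ℕ)
    (z : (GL (Fin n) F ⧸ Cfsg.parabolicGL n F a) × (GL (Fin n) F ⧸ Cfsg.parabolicGL n F b))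
    (g : GL (Fin n) F) :
    ∃ s : Matrix.SpecialLinearGroup (Fin n) F, Matrix.SpecialLinearGroup.toGL s • z = g • z := by
  rcases Nat.eq_zero_or_pos n with hn | hn
  · subst hn
    refine ⟨1, ?_⟩
    have : g = 1 := by
      apply Units.ext
      ext i
      exact i.elim0
    rw [this, map_one]
  · obtain ⟨x, y⟩ := z
    induction x using QuotientGroup.induction_on with
    | H x =>
    induction y using QuotientGroup.induction_on with
    | H y =>
      obtain ⟨t, ht, hta, htb⟩ := exists_stab_det hn a b x y (Matrix.GeneralLinearGroup.det g)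
      have hdet : ((g * t⁻¹ : GL (Fin n) F) : Matrix (Fin n) (Fin n) F).det = 1 := by
        have : Matrix.GeneralLinearGroup.det (g * t⁻¹) = 1 := by
          rw [map_mul, map_inv, ht, mul_inv_cancel]
        have h2 := congrArg Units.val this
        rw [Matrix.GeneralLinearGroup.val_det_apply] at h2
        exact h2
      refine ⟨⟨((g * t⁻¹ : GL (Fin n) F) : Matrix (Fin n) (Fin n) F), hdet⟩, ?_⟩
      have hs : Matrix.SpecialLinearGroup.toGL
          (⟨((g * t⁻¹ : GL (Fin n) F) : Matrix (Fin n) (Fin n) F), hdet⟩ :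
            Matrix.SpecialLinearGroup (Fin n) F) = g * t⁻¹ := by
        apply Units.ext
        rfl
      rw [hs, mul_smul]
      congr 1
      rw [inv_smul_eq_iff]
      apply Prod.ext
      · change ((x : GL (Fin n) F) : GL (Fin n) F ⧸ Cfsg.parabolicGL n F a) = ((t * x : GL (Fin n) F) : _)
        rw [QuotientGroup.eq, ← mul_assoc]
        exact hta
      · change ((y : GL (Fin n) F) : GL (Fin n) F ⧸ Cfsg.parabolicGL n F b) = ((t * y : GL (Fin n) F) : _)
        rw [QuotientGroup.eq, ← mul_assoc]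
        exact htb

end Diag



section SL

variable {F : Type*} [Field F] {n : ℕ}

/-- the restriction of the unipotent character to `SL_n` -/
noncomputable def unipSL (n : ℕ) (F : Type*) [Field F] (ν : Fin n → ℕ) :
    Matrix.SpecialLinearGroup (Fin n) F → ℂ :=
  fun s => Cfsg.unipotentCharacterGL n F ν (Matrix.SpecialLinearGroup.toGL s)

/-- the restriction of a flag permutation character to `SL_n` -/
noncomputable def fpcSL (n : ℕ) (F : Type*) [Field F] (a : Fin n → ℕ) :
    Matrix.SpecialLinearGroup (Fin n) F → ℂ :=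
  fun s => Cfsg.fixedPointCharacter (Cfsg.parabolicGL n F a) (Matrix.SpecialLinearGroup.toGL s)

theorem classInner_fpcSL [Fintype F] [Fintype (Matrix.SpecialLinearGroup (Fin n) F)]
    (a b : Fin n → ℕ) (ha : ∑ i, a i = n) (hb : ∑ i, b i = n) :
    Cfsg.classInner (fpcSL n F a) (fpcSL n F b) = (JT.numTables a b : ℂ) := by
  have h := inner_fpc_hom (Matrix.SpecialLinearGroup.toGL : Matrix.SpecialLinearGroup (Fin n) F →* GL (Fin n) F)
    (Cfsg.parabolicGL n F a) (Cfsg.parabolicGL n F b) (toGL_hstab a b)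
  rw [Bru.card_orbits_GL a b ha hb] at h
  have h2 : Nat.card (Bru.tables a b) = JT.numTables a b := rfl
  rw [h2] at h
  rw [← h, classInner_def]
  congr 1
  apply Finset.sum_congr rfl
  intro s _
  unfold fpcSL Cfsg.fixedPointCharacter
  rw [Complex.conj_natCast]

theorem unipSL_eq_sum (ν : Fin n → ℕ) :
    unipSL n F ν = ∑ κ : Equiv.Perm (Fin n),
      ((if ∀ i : Fin n, (κ i).val ≤ ν i + i.val then ((Equiv.Perm.sign κ : ℤ) : ℂ) else 0) : ℂ) •
        fpcSL n F (fun i => ν i + i.val - (κ i).val) := by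
  funext s
  unfold unipSL Cfsg.unipotentCharacterGL
  rw [Finset.sum_apply]
  apply Finset.sum_congr rfl
  intro κ _
  rw [Pi.smul_apply, smul_eq_mul]
  split_ifs
  · rfl
  · rw [zero_mul]

theorem term_eq_SL [Fintype F] [Fintype (Matrix.SpecialLinearGroup (Fin n) F)] (ν ν' : Fin n → ℕ)
    (hsum : ∑ i, ν i = n) (hsum' : ∑ i, ν' i = n) (κ κ' : Equiv.Perm (Fin n)) :
    conj ((if ∀ i : Fin n, (κ' i).val ≤ ν' i + i.val then ((Equiv.Perm.sign κ' : ℤ) : ℂ) else 0) : ℂ) *
      (((if ∀ i : Fin n, (κ i).val ≤ ν i + i.val then ((Equiv.Perm.sign κ : ℤ) : ℂ) else 0) : ℂ) *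
        Cfsg.classInner
          (fpcSL n F fun i => ν i + i.val - (κ i).val)
          (fpcSL n F fun i => ν' i + i.val - (κ' i).val)) =
    (((if ∀ i : Fin n, (κ' i).val ≤ ν' i + i.val then
        (if ∀ i : Fin n, (κ i).val ≤ ν i + i.val then
          (Equiv.Perm.sign κ' : ℤ) * ((Equiv.Perm.sign κ : ℤ) *
            (JT.numTables (fun i => ν i + i.val - (κ i).val) (fun i => ν' i + i.val - (κ' i).val) : ℤ))
        else 0)
      else 0 : ℤ)) : ℂ) := by
  by_cases h : ∀ i : Fin n, (κ i).val ≤ ν i + i.val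
  · by_cases h' : ∀ i : Fin n, (κ' i).val ≤ ν' i + i.val
    · rw [if_pos h, if_pos h', if_pos h', if_pos h, map_intCast,
        classInner_fpcSL _ _ ((Cfsg.Agent.S2424.sum_sub_perm ν κ h).trans hsum)
          ((Cfsg.Agent.S2424.sum_sub_perm ν' κ' h').trans hsum')]
      push_cast
      ring
    · rw [if_neg h', if_neg h', map_zero, zero_mul, Int.cast_zero]
  · rw [if_neg h, zero_mul, mul_zero, if_neg h]
    split_ifs <;> rw [Int.cast_zero]

theorem classInner_unipSL [Fintype F] [Fintype (Matrix.SpecialLinearGroup (Fin n) F)]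
    (ν ν' : Fin n → ℕ) (hmono : Monotone ν)
    (hsum : ∑ i, ν i = n) (hmono' : Monotone ν') (hsum' : ∑ i, ν' i = n) :
    Cfsg.classInner (unipSL n F ν) (unipSL n F ν') = if ν = ν' then 1 else 0 := by
  classical
  rw [unipSL_eq_sum ν, unipSL_eq_sum ν', classInner_sum_left]
  simp only [classInner_smul_left, classInner_sum_right, classInner_smul_right]
  simp only [term_eq_SL ν ν' hsum hsum']
  rw [Finset.sum_comm]
  have key := JT.jt_orth (fun i => ν' i + i.val) (fun i => ν i + i.val) (UnipGL.strictMono_shift hmono')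
    (UnipGL.strictMono_shift hmono)
  have key' := congrArg (Int.cast : ℤ → ℂ) key
  rw [Int.cast_sum] at key'
  have h1 : ∀ σ : Equiv.Perm (Fin n),
      ∑ κ : Equiv.Perm (Fin n), (((if ∀ i : Fin n, (σ i).val ≤ ν' i + i.val then
        (if ∀ i : Fin n, (κ i).val ≤ ν i + i.val then
          (Equiv.Perm.sign σ : ℤ) * ((Equiv.Perm.sign κ : ℤ) *
            (JT.numTables (fun i => ν i + i.val - (κ i).val) (fun i => ν' i + i.val - (σ i).val) : ℤ))
        else 0)
      else 0 : ℤ)) : ℂ) =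
      (((if ∀ i : Fin n, (σ i).val ≤ ν' i + i.val then
        ∑ κ : Equiv.Perm (Fin n),
          (if ∀ j : Fin n, (κ j).val ≤ ν j + j.val then
            (Equiv.Perm.sign σ : ℤ) * ((Equiv.Perm.sign κ : ℤ) *
              (JT.numTables (fun j => ν j + j.val - (κ j).val) (fun i => ν' i + i.val - (σ i).val) : ℤ))
          else 0)
      else 0 : ℤ)) : ℂ) := by
    intro σ
    by_cases h : ∀ i : Fin n, (σ i).val ≤ ν' i + i.val
    · rw [if_pos h, Int.cast_sum]
      apply Finset.sum_congr rfl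
      intro κ _
      rw [if_pos h]
    · rw [if_neg h, Int.cast_zero]
      apply Finset.sum_eq_zero
      intro κ _
      rw [if_neg h, Int.cast_zero]
  rw [Finset.sum_congr rfl (fun σ _ => h1 σ), key']
  by_cases hνν : ν = ν'
  · subst hνν
    rw [if_pos rfl, if_pos rfl, Int.cast_one]
  · rw [if_neg hνν, if_neg, Int.cast_zero]
    intro heq
    apply hνν
    funext i
    have := congrFun heq i
    change ν' i + i.val = ν i + i.val at this
    omega

theorem isGenChar_unipSL [Fintype F] (ν : Fin n → ℕ) :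
    Cfsg.IsGeneralizedCharacter (Matrix.SpecialLinearGroup (Fin n) F) (unipSL n F ν) := by
  classical
  have : Fintype (GL (Fin n) F) := Fintype.ofFinite _
  obtain ⟨A, B, hA, hB, hAB⟩ := UnipGL.isGenChar_unip (F := F) ν
  refine ⟨fun s => A (Matrix.SpecialLinearGroup.toGL s), fun s => B (Matrix.SpecialLinearGroup.toGL s),
    IsCharacter.comp hA _, IsCharacter.comp hB _, ?_⟩
  funext s
  unfold unipSL
  rw [hAB]
  rfl

theorem isIrr_unipSL [Fintype F] (ν : Fin n → ℕ) (hmono : Monotone ν) (hsum : ∑ i, ν i = n) :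
    Cfsg.IsIrrCharacter (Matrix.SpecialLinearGroup (Fin n) F) (unipSL n F ν) := by
  classical
  have : Fintype (Matrix.SpecialLinearGroup (Fin n) F) := Fintype.ofFinite _
  have h1 := isGenChar_unipSL (F := F) ν
  have h2 : Cfsg.classInner (unipSL n F ν) (unipSL n F ν) = 1 := by
    rw [classInner_unipSL ν ν hmono hsum hmono hsum, if_pos rfl]
  rcases IsGeneralizedCharacter.isSignedIrr_of_norm_one h1 h2 with h | h
  · exact h
  · exfalso
    obtain ⟨d, hd, hd1⟩ := IsIrrCharacter.apply_one h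
    obtain ⟨r, hr, hr1⟩ := UnipGL.unip_one_pos (F := F) ν hmono hsum
    rw [Pi.neg_apply] at hd1
    unfold unipSL at hd1
    rw [map_one, hr1] at hd1
    have : -r = (d : ℝ) := by exact_mod_cast hd1
    have hd' : (0 : ℝ) < d := by exact_mod_cast hd
    linarith

end SL


section Degree

open Cfsg.Agent.Lib.Helper15.QHook



theorem prod_pairs_shift (q n : ℕ) :
    (∏ i : Fin n, ∏ j ∈ Finset.Ioi i, (Qn q (1 + j.val) - Qn q (1 + i.val))) * QF q n =
      (∏ k ∈ Finset.range n, QF q (k + 1)) * (q : ℂ) ^ (∑ k ∈ Finset.range n, tri (k + 1)) := by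
  classical
  have hswap : (∏ i : Fin n, ∏ j ∈ Finset.Ioi i, (Qn q (1 + j.val) - Qn q (1 + i.val))) =
      ∏ j : Fin n, ∏ i ∈ Finset.Iio j, (Qn q (1 + j.val) - Qn q (1 + i.val)) := by
    apply Finset.prod_comm'
    intro x y
    simp
  have hinner : ∀ j : Fin n, (∏ i ∈ Finset.Iio j, (Qn q (1 + j.val) - Qn q (1 + i.val))) * Qn q (j.val + 1) =
      QF q (j.val + 1) * (q : ℂ) ^ tri (j.val + 1) := by
    intro j
    have hk := key q (j.val + 1) 0
    rw [zero_add, Finset.prod_range_succ'] at hk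
    have hQ0 : Qn q 0 = 0 := by simp [Qn]
    have hQF0 : QF q 0 = 1 := by simp [QF]
    rw [hQ0, sub_zero, hQF0, one_mul] at hk
    rw [hk]
    congr 1
    have : (∏ i ∈ Finset.Iio j, (Qn q (1 + j.val) - Qn q (1 + i.val))) =
        ∏ l ∈ Finset.range j.val, (Qn q (1 + j.val) - Qn q (1 + l)) := by
      rw [← Fin.prod_univ_eq_prod_range (fun l => Qn q (1 + j.val) - Qn q (1 + l)) j.val]
      symm
      refine Finset.prod_bij' (fun (l : Fin j.val) _ => (⟨l.val, lt_trans l.isLt j.isLt⟩ : Fin n))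
        (fun (i : Fin n) hi => (⟨i.val, Fin.lt_def.mp (Finset.mem_Iio.mp hi)⟩ : Fin j.val)) ?_ ?_ ?_ ?_ ?_
      · intro l _
        rw [Finset.mem_Iio]
        exact l.isLt
      · intro i _
        exact Finset.mem_univ _
      · intro l _
        rfl
      · intro i _
        rfl
      · intro l _
        rfl
    rw [this]
    apply Finset.prod_congr rfl
    intro l _
    rw [add_comm 1 j.val, add_comm 1 l]
  rw [hswap]
  have hQF : QF q n = ∏ j : Fin n, Qn q (j.val + 1) := by
    unfold QF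
    rw [Fin.prod_univ_eq_prod_range (fun j => Qn q (j + 1)) n]
  rw [hQF, ← Finset.prod_mul_distrib, Finset.prod_congr rfl (fun j _ => hinner j), Finset.prod_mul_distrib,
    Fin.prod_univ_eq_prod_range (fun j => QF q (j + 1)) n,
    Fin.prod_univ_eq_prod_range (fun j => (q : ℂ) ^ tri (j + 1)) n, Finset.prod_pow_eq_pow_sum]

theorem sum_tri_succ (n : ℕ) :
    ∑ k ∈ Finset.range n, tri (k + 1) = ∑ k ∈ Finset.range n, tri k + tri n := by
  have h1 := Finset.sum_range_succ' tri n
  have h2 := Finset.sum_range_succ tri n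
  have h3 : tri 0 = 0 := by simp [tri]
  omega

/-- the degree of the Steinberg character of `GL_n(q)` -/
theorem steinberg_degree {F : Type*} [Field F] [Fintype F] (n : ℕ) :
    Cfsg.unipotentCharacterGL n F (fun _ => 1) 1 = ((Fintype.card F ^ tri n : ℕ) : ℂ) := by
  have hsum : ∑ _i : Fin n, 1 = n := by simp
  have h0 := Cfsg.Agent.S2424.degree_eq (F := F) (fun _ : Fin n => 1) hsum
  have h1 := det_aEntry (Fintype.card F) (fun i : Fin n => 1 + i.val)
  have h2 := prod_pairs_shift (Fintype.card F) n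
  set q := Fintype.card F with hq
  have hq0 : (q : ℂ) ≠ 0 := by
    have : 0 < q := Fintype.card_pos
    exact_mod_cast this.ne'
  have hprod : (∏ i : Fin n, QF q (1 + i.val)) = ∏ k ∈ Finset.range n, QF q (k + 1) := by
    rw [Fin.prod_univ_eq_prod_range (fun k => QF q (1 + k)) n]
    apply Finset.prod_congr rfl
    intro k _
    rw [add_comm]
  have hne : (∏ k ∈ Finset.range n, QF q (k + 1)) ≠ 0 :=
    Finset.prod_ne_zero_iff.mpr (fun k _ => QF_ne_zero q _)
  have hQFn : QF q n ≠ 0 := QF_ne_zero q n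
  rw [hprod] at h1
  rw [← sum_tri, ] at h1
  rw [sum_tri_succ, pow_add] at h2
  -- combine
  have h3 : Cfsg.unipotentCharacterGL n F (fun _ => 1) 1 * (q : ℂ) ^ (∑ j ∈ Finset.range n, tri j) *
      (∏ k ∈ Finset.range n, QF q (k + 1)) =
      (q : ℂ) ^ tri n * (q : ℂ) ^ (∑ j ∈ Finset.range n, tri j) * (∏ k ∈ Finset.range n, QF q (k + 1)) := by
    rw [h0]
    calc QF q n * (Matrix.of fun i j : Fin n => aEntry q (1 + i.val) j.val).det *
          (q : ℂ) ^ (∑ j ∈ Finset.range n, tri j) * (∏ k ∈ Finset.range n, QF q (k + 1))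
        = QF q n * ((Matrix.of fun i j : Fin n => aEntry q (1 + i.val) j.val).det *
          (q : ℂ) ^ (∑ j ∈ Finset.range n, tri j) * (∏ k ∈ Finset.range n, QF q (k + 1))) := by ring
      _ = (∏ i : Fin n, ∏ j ∈ Finset.Ioi i, (Qn q (1 + j.val) - Qn q (1 + i.val))) * QF q n := by
          rw [h1]; ring
      _ = _ := by rw [h2]; ring
  have h4 : (q : ℂ) ^ (∑ j ∈ Finset.range n, tri j) ≠ 0 := pow_ne_zero _ hq0
  have h5 := mul_right_cancel₀ hne h3
  have h6 := mul_right_cancel₀ h4 h5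
  rw [h6]
  push_cast
  rfl


end Degree

section Card

open Cfsg.Agent.Lib.Helper15.QHook Matrix



theorem range_toGL' {F : Type*} [Field F] (n : ℕ) :
    (SpecialLinearGroup.toGL : SpecialLinearGroup (Fin n) F →* GL (Fin n) F).range
      = (GeneralLinearGroup.det : GL (Fin n) F →* Fˣ).ker := by
  ext g
  constructor
  · rintro ⟨s, rfl⟩
    rw [MonoidHom.mem_ker]
    apply Units.ext
    simp
  · intro hg
    rw [MonoidHom.mem_ker] at hg
    have hd : (g : Matrix (Fin n) (Fin n) F).det = 1 := by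
      have := congrArg Units.val hg
      simpa using this
    refine ⟨⟨g, hd⟩, ?_⟩
    apply Units.ext
    rfl

theorem card_GL_eq_mul {F : Type*} [Field F] [Fintype F] (n : ℕ) (hn : 0 < n) :
    Nat.card (GL (Fin n) F) = Nat.card Fˣ * Nat.card (SpecialLinearGroup (Fin n) F) := by
  classical
  have : Nonempty (Fin n) := ⟨⟨0, hn⟩⟩
  have h2 : Nat.card (GL (Fin n) F)
      = Nat.card (GL (Fin n) F ⧸ (GeneralLinearGroup.det : GL (Fin n) F →* Fˣ).ker)
        * Nat.card (GeneralLinearGroup.det : GL (Fin n) F →* Fˣ).ker :=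
    Subgroup.card_eq_card_quotient_mul_card_subgroup _
  have h3 : Nat.card (GL (Fin n) F ⧸ (GeneralLinearGroup.det : GL (Fin n) F →* Fˣ).ker)
      = Nat.card Fˣ :=
    Nat.card_congr (QuotientGroup.quotientKerEquivOfSurjective _
      GeneralLinearGroup.det_surjective).toEquiv
  have h5 : Nat.card (GeneralLinearGroup.det : GL (Fin n) F →* Fˣ).ker
      = Nat.card (SpecialLinearGroup (Fin n) F) := by
    rw [← range_toGL']
    exact (Nat.card_congr
      (MonoidHom.ofInjective SpecialLinearGroup.toGL_injective).toEquiv).symm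
  rw [h2, h3, h5]

theorem not_dvd_qFact (p q : ℕ) (hp : p.Prime) (hpq : p ∣ q) (r : ℕ) : ¬ p ∣ qFact q r := by
  unfold qFact
  rw [Prime.dvd_finsetProd_iff (Nat.prime_iff.mp hp)]
  rintro ⟨j, _, hj⟩
  rw [Finset.sum_range_succ', pow_zero] at hj
  have h1 : p ∣ ∑ l ∈ Finset.range j, q ^ (l + 1) := by
    apply Finset.dvd_sum
    intro l _
    exact dvd_trans hpq (dvd_pow_self q (Nat.succ_ne_zero l))
  have h2 : p ∣ 1 := (Nat.dvd_add_right h1).mp hj
  exact hp.one_lt.ne' (Nat.dvd_one.mp h2)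

theorem card_PSL_factorization {F : Type*} [Field F] [Fintype F] (p : ℕ) [hp : Fact p.Prime]
    (n f : ℕ) (hn : 0 < n) (hf : Fintype.card F = p ^ f) (hf0 : 0 < f) :
    (Nat.card (Matrix.ProjectiveSpecialLinearGroup (Fin n) F)).factorization p = f * tri n := by
  classical
  set q := Fintype.card F with hq
  have hq2 : 2 ≤ q := Fintype.one_lt_card
  have hpq : p ∣ q := by rw [hf]; exact dvd_pow_self p hf0.ne'
  have h1 : Nat.card (GL (Fin n) F) = q ^ tri n * (q - 1) ^ n * qFact q n := by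
    rw [Matrix.card_GL_field, Fin.prod_univ_eq_prod_range (fun i => q ^ n - q ^ i),
      card_gl_eq q n (by omega)]
    rfl
  have h2 := card_GL_eq_mul (F := F) n hn
  have h3 : Nat.card (SpecialLinearGroup (Fin n) F) =
      Nat.card (Matrix.ProjectiveSpecialLinearGroup (Fin n) F) *
        Nat.card (Subgroup.center (SpecialLinearGroup (Fin n) F)) :=
    Subgroup.card_eq_card_quotient_mul_card_subgroup _
  have h4 : Nat.card (Subgroup.center (SpecialLinearGroup (Fin n) F)) ∣ Nat.card Fˣ := by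
    rw [Nat.card_congr (SpecialLinearGroup.center_equiv_rootsOfUnity (n := Fin n) (R := F)).toEquiv]
    exact Subgroup.card_subgroup_dvd_card _
  have h5 : Nat.card Fˣ = q - 1 := by
    rw [Nat.card_eq_fintype_card, Fintype.card_units]
  have hq1 : ¬ p ∣ q - 1 := by
    intro h
    have : p ∣ 1 := by
      have h' : p ∣ (q - 1) + 1 := by rw [Nat.sub_add_cancel (by omega)]; exact hpq
      exact (Nat.dvd_add_right h).mp h'
    exact hp.out.one_lt.ne' (Nat.dvd_one.mp this)
  have hZ : ¬ p ∣ Nat.card (Subgroup.center (SpecialLinearGroup (Fin n) F)) := by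
    intro h
    apply hq1
    rw [← h5]
    exact dvd_trans h h4
  have hqF : ¬ p ∣ qFact q n := not_dvd_qFact p q hp.out hpq n
  have hG0 : Nat.card (Matrix.ProjectiveSpecialLinearGroup (Fin n) F) ≠ 0 := Nat.card_pos.ne'
  have hZ0 : Nat.card (Subgroup.center (SpecialLinearGroup (Fin n) F)) ≠ 0 := Nat.card_pos.ne'
  have hq10 : q - 1 ≠ 0 := by omega
  have hqF0 : qFact q n ≠ 0 := fun h => hqF (h ▸ dvd_zero p)
  have hqpow0 : q ^ tri n ≠ 0 := pow_ne_zero _ (by omega)
  have key : q ^ tri n * (q - 1) ^ n * qFact q n =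
      (q - 1) * (Nat.card (Matrix.ProjectiveSpecialLinearGroup (Fin n) F) *
        Nat.card (Subgroup.center (SpecialLinearGroup (Fin n) F))) := by
    rw [← h1, h2, h3, h5]
  have hfac := congrArg (fun m => m.factorization p) key
  rw [Nat.factorization_mul (mul_ne_zero hqpow0 (pow_ne_zero _ hq10)) hqF0,
    Nat.factorization_mul hqpow0 (pow_ne_zero _ hq10),
    Nat.factorization_mul hq10 (mul_ne_zero hG0 hZ0), Nat.factorization_mul hG0 hZ0,
    Nat.factorization_pow, Nat.factorization_pow] at hfac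
  simp only [Finsupp.coe_add, Pi.add_apply, Finsupp.coe_smul, Pi.smul_apply, smul_eq_mul] at hfac
  rw [Nat.factorization_eq_zero_of_not_dvd hq1, Nat.factorization_eq_zero_of_not_dvd hqF,
    Nat.factorization_eq_zero_of_not_dvd hZ, hf, Nat.factorization_pow] at hfac
  simp only [Finsupp.coe_smul, Pi.smul_apply, smul_eq_mul, mul_zero, add_zero, zero_add] at hfac
  rw [hp.out.factorization_self, mul_one] at hfac
  rw [← hfac, mul_comm]


end Card

section Descent

variable {F : Type*} [Field F] {n : ℕ}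

theorem fpc_of_trivial {G : Type*} [Group G] (H : Subgroup G) (c : G) (hc : ∀ x : G ⧸ H, c • x = x) :
    Cfsg.fixedPointCharacter H c = Cfsg.fixedPointCharacter H 1 := by
  unfold Cfsg.fixedPointCharacter
  have : MulAction.fixedBy (G ⧸ H) c = MulAction.fixedBy (G ⧸ H) (1 : G) := by
    ext x
    simp [MulAction.mem_fixedBy, hc x]
  rw [this]

theorem toGL_center_smul (a : Fin n → ℕ) (z : Matrix.SpecialLinearGroup (Fin n) F)
    (hz : z ∈ Subgroup.center (Matrix.SpecialLinearGroup (Fin n) F))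
    (x : GL (Fin n) F ⧸ Cfsg.parabolicGL n F a) :
    Matrix.SpecialLinearGroup.toGL z • x = x := by
  obtain ⟨r, hr, hrz⟩ := Matrix.SpecialLinearGroup.mem_center_iff.mp hz
  induction x using QuotientGroup.induction_on with
  | H x =>
    change (((Matrix.SpecialLinearGroup.toGL z * x : GL (Fin n) F)) : GL (Fin n) F ⧸ Cfsg.parabolicGL n F a) = _
    rw [eq_comm, QuotientGroup.eq]
    have hcomm : Matrix.SpecialLinearGroup.toGL z * x = x * Matrix.SpecialLinearGroup.toGL z := by
      apply Units.ext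
      change (z : Matrix (Fin n) (Fin n) F) * (x : Matrix (Fin n) (Fin n) F) =
        (x : Matrix (Fin n) (Fin n) F) * (z : Matrix (Fin n) (Fin n) F)
      rw [← hrz]
      exact (Matrix.scalar_commute (n := Fin n) r (Commute.all r) _).eq
    rw [hcomm, inv_mul_cancel_left]
    change ((Matrix.SpecialLinearGroup.toGL z : GL (Fin n) F) : Matrix (Fin n) (Fin n) F).BlockTriangular
      (Cfsg.compLabel a)
    change (z : Matrix (Fin n) (Fin n) F).BlockTriangular (Cfsg.compLabel a)
    rw [← hrz, Matrix.scalar_apply]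
    exact Matrix.blockTriangular_diagonal _

theorem unipSL_center (ν : Fin n → ℕ) (z : Matrix.SpecialLinearGroup (Fin n) F)
    (hz : z ∈ Subgroup.center (Matrix.SpecialLinearGroup (Fin n) F)) :
    unipSL n F ν z = unipSL n F ν 1 := by
  unfold unipSL Cfsg.unipotentCharacterGL
  apply Finset.sum_congr rfl
  intro κ _
  split_ifs
  · rw [fpc_of_trivial _ _ (toGL_center_smul _ z hz), map_one]
  · rfl

/-- the unipotent characters of `GL_n(q)` give irreducible characters of `PSL_n(q)` -/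
theorem exists_unipPSL [Fintype F] (ν : Fin n → ℕ) (hmono : Monotone ν) (hsum : ∑ i, ν i = n) :
    ∃ ψ : Matrix.ProjectiveSpecialLinearGroup (Fin n) F → ℂ,
      Cfsg.IsIrrCharacter (Matrix.ProjectiveSpecialLinearGroup (Fin n) F) ψ ∧
      ∀ s : Matrix.SpecialLinearGroup (Fin n) F,
        Cfsg.unipotentCharacterGL n F ν (Matrix.SpecialLinearGroup.toGL s) =
          ψ (QuotientGroup.mk s) := by
  have hirr := isIrr_unipSL (F := F) ν hmono hsum
  obtain ⟨ψ, hψ, hψe⟩ := Cfsg.Agent.Lib.Helper25.exists_deflation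
    (Subgroup.center (Matrix.SpecialLinearGroup (Fin n) F)) hirr (fun z hz => unipSL_center ν z hz)
  exact ⟨ψ, hψ, hψe⟩

/-- the Steinberg character of `PSL_n(q)` -/
theorem steinberg_PSL [Fintype F] (p : ℕ) [hp : Fact p.Prime] [CharP F p] (n : ℕ) (hn : 0 < n) :
    ∃ χ : Matrix.ProjectiveSpecialLinearGroup (Fin n) F → ℂ,
      Cfsg.IsIrrCharacter (Matrix.ProjectiveSpecialLinearGroup (Fin n) F) χ ∧
      ∀ P : Sylow p (Matrix.ProjectiveSpecialLinearGroup (Fin n) F),
        χ 1 = Nat.card P ∧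
        ∀ x : Matrix.ProjectiveSpecialLinearGroup (Fin n) F, x ∈ P → x ≠ 1 → χ x = 0 := by
  classical
  obtain ⟨ψ, hψ, hψe⟩ := exists_unipPSL (F := F) (fun _ : Fin n => 1) monotone_const (by simp)
  obtain ⟨f, -, hf⟩ := FiniteField.card F p
  have hf0 : 0 < (f : ℕ) := f.pos
  have hfac := card_PSL_factorization (F := F) p n f hn hf hf0
  have hdeg : ψ 1 = ((Fintype.card F ^ QHook.tri n : ℕ) : ℂ) := by
    have := hψe 1
    rw [map_one, steinberg_degree] at this
    rw [this]
    rfl
  refine ⟨ψ, hψ, fun P => ⟨?_, ?_⟩⟩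
  · rw [hdeg, Sylow.card_eq_multiplicity, hfac, hf, ← pow_mul]
  · intro x hxP hx1
    obtain ⟨M, hM⟩ := Cfsg.Agent.Lib.Helper25.exists_isPModular p hp.out
    have hord : p ∣ orderOf x := by
      obtain ⟨k, hk⟩ := (IsPGroup.iff_orderOf.mp P.isPGroup') ⟨x, hxP⟩
      rw [Subgroup.orderOf_mk] at hk
      rw [hk]
      cases k with
      | zero =>
        exfalso
        apply hx1
        rw [pow_zero] at hk
        exact orderOf_eq_one_iff.mp hk
      | succ k => exact dvd_pow_self p (Nat.succ_ne_zero k)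
    have hcd : Cfsg.charDegree ψ = p ^ (Nat.card (Matrix.ProjectiveSpecialLinearGroup (Fin n) F)).factorization p := by
      unfold Cfsg.charDegree
      rw [hdeg, hfac, hf, ← pow_mul, Complex.natCast_re, Nat.floor_natCast]
    have hnd : ¬ p ∣ Nat.card (Matrix.ProjectiveSpecialLinearGroup (Fin n) F) / Cfsg.charDegree ψ := by
      rw [hcd]
      exact Nat.not_dvd_ordCompl hp.out Nat.card_pos.ne'
    exact Cfsg.Agent.Lib.Helper7.irr_eq_zero_of_singular_of_not_dvd hM ⟨ψ, hψ⟩ hnd x hord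

end Descent

end Cfsg.Agent.Lib.Helper15.UnipSL
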