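import Mathlib

/-!
# `GL_4(2)` acting on the nonzero vectors: fixed points of elements of order 5 and 7
-/

set_option autoImplicit false

namespace Cfsg.Agent.Lib.Helper15.A7GL

open scoped MatrixGroups

section basics

variable {F : Type*} [Field F]

theorem gl_smul_def (g : GL (Fin 4) F) (v : Fin 4 → F) :
    g • v = (g : Matrix (Fin 4) (Fin 4) F).mulVec v := rfl

theorem gl_smul_add (g : GL (Fin 4) F) (v w : Fin 4 → F) : g • (v + w) = g • v + g • w := by
  rw [gl_smul_def, gl_smul_def, gl_smul_def, Matrix.mulVec_add]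

theorem gl_smul_zero (g : GL (Fin 4) F) : g • (0 : Fin 4 → F) = 0 := by
  rw [gl_smul_def, Matrix.mulVec_zero]

theorem gl_smul_eq_zero_iff (g : GL (Fin 4) F) (v : Fin 4 → F) : g • v = 0 ↔ v = 0 := by
  constructor
  · intro h
    have h1 : g⁻¹ • (g • v) = g⁻¹ • (0 : Fin 4 → F) := by rw [h]
    rwa [inv_smul_smul, gl_smul_zero] at h1
  · rintro rfl
    exact gl_smul_zero g

/-- the nonzero vectors -/
def nz (F : Type*) [Field F] : SubMulAction (GL (Fin 4) F) (Fin 4 → F) where
  carrier := {v | v ≠ 0}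
  smul_mem' := by
    intro g v hv h
    exact hv ((gl_smul_eq_zero_iff g v).mp h)

theorem mem_nz (v : Fin 4 → F) : v ∈ nz F ↔ v ≠ 0 := Iff.rfl

theorem eq_one_of_forall_smul (g : GL (Fin 4) F) (h : ∀ v : Fin 4 → F, g • v = v) : g = 1 := by
  apply Units.ext
  apply Matrix.toLin'.injective
  apply LinearMap.ext
  intro v
  rw [Matrix.toLin'_apply, Units.val_one, Matrix.toLin'_one, LinearMap.id_apply]
  exact h v

end basics

section fixed

variable {F : Type*} [Field F] [Fintype F]

omit [Field F] in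
theorem card_vec (hF : Fintype.card F = 2) : Nat.card (Fin 4 → F) = 16 := by
  rw [Nat.card_eq_fintype_card, Fintype.card_fun, hF, Fintype.card_fin]
  norm_num

theorem card_nz (hF : Fintype.card F = 2) : Nat.card (nz F) = 15 := by
  classical
  have h1 : Nat.card (nz F) = Nat.card {v : Fin 4 → F // v ≠ 0} := rfl
  rw [h1, Nat.card_eq_fintype_card, Fintype.card_subtype_compl, Fintype.card_subtype_eq,
    ← Nat.card_eq_fintype_card, card_vec hF]

/-- the fixed vectors of an element of prime order `r` -/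
theorem fixed_card (hF : Fintype.card F = 2) (g : GL (Fin 4) F) (r : ℕ) [hr : Fact r.Prime]
    (hg : g ^ r = 1) :
    ∃ k ≤ 4, Nat.card {v : Fin 4 → F // g • v = v} = 2 ^ k ∧ 16 ≡ 2 ^ k [MOD r] ∧
      (k = 4 → g = 1) := by
  classical
  have hP : IsPGroup r (Subgroup.zpowers g) := by
    have h1 : orderOf g ∣ r := orderOf_dvd_of_pow_eq_one hg
    rcases (Nat.dvd_prime hr.out).mp h1 with h2 | h2
    · exact IsPGroup.of_card (n := 0) (by rw [Nat.card_zpowers, h2, pow_zero])
    · exact IsPGroup.of_card (n := 1) (by rw [Nat.card_zpowers, h2, pow_one])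
  have h1 := hP.card_modEq_card_fixedPoints (Fin 4 → F)
  rw [card_vec hF] at h1
  obtain ⟨W, hW⟩ : ∃ W : Submodule F (Fin 4 → F), ∀ v, v ∈ W ↔ g • v = v := by
    refine ⟨Module.End.eigenspace (Matrix.toLin' (g : Matrix (Fin 4) (Fin 4) F)) 1, fun v => ?_⟩
    rw [Module.End.mem_eigenspace_iff, one_smul, Matrix.toLin'_apply]
    rfl
  have hset : (MulAction.fixedPoints (Subgroup.zpowers g) (Fin 4 → F)) = (W : Set (Fin 4 → F)) := by
    ext v
    rw [MulAction.mem_fixedPoints, SetLike.mem_coe, hW]
    constructor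
    · intro h
      exact h ⟨g, Subgroup.mem_zpowers g⟩
    · rintro h ⟨x, hx⟩
      obtain ⟨n, rfl⟩ := Subgroup.mem_zpowers_iff.mp hx
      show g ^ n • v = v
      have hmem : g ∈ MulAction.stabilizer (GL (Fin 4) F) v := MulAction.mem_stabilizer_iff.mpr h
      exact MulAction.mem_stabilizer_iff.mp (Subgroup.zpow_mem _ hmem n)
  have hcardW : Nat.card W = 2 ^ Module.finrank F W := by
    rw [Nat.card_eq_fintype_card, Module.card_eq_pow_finrank (K := F) (V := W), hF]
  have hk : Module.finrank F W ≤ 4 := by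
    have := Submodule.finrank_le W
    rwa [Module.finrank_pi, Fintype.card_fin] at this
  refine ⟨Module.finrank F W, hk, ?_, ?_, ?_⟩
  · rw [← hcardW]
    apply Nat.card_congr
    exact (Equiv.subtypeEquivRight (fun v => (hW v).symm))
  · rw [← hcardW]
    rw [hset] at h1
    exact h1
  · intro h4
    have htop : W = ⊤ := by
      apply Submodule.eq_top_of_finrank_eq
      rw [h4, Module.finrank_pi, Fintype.card_fin]
    apply eq_one_of_forall_smul
    intro v
    rw [← hW, htop]
    exact Submodule.mem_top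

/-- an element of order `5` fixes no nonzero vector -/
theorem no_fixed_of_pow_five (hF : Fintype.card F = 2) (g : GL (Fin 4) F) (hg : g ^ 5 = 1)
    (hg1 : g ≠ 1) (v : Fin 4 → F) (hv : v ≠ 0) : g • v ≠ v := by
  intro hfix
  have : Fact (Nat.Prime 5) := ⟨by norm_num⟩
  obtain ⟨k, hk, hcard, hmod, h4⟩ := fixed_card hF g 5 hg
  have h2 : 2 ≤ Nat.card {v : Fin 4 → F // g • v = v} := by
    have : Nontrivial {v : Fin 4 → F // g • v = v} :=
      ⟨⟨⟨v, hfix⟩, ⟨0, gl_smul_zero g⟩, fun h => hv (congrArg Subtype.val h)⟩⟩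
    exact Finite.one_lt_card
  rw [hcard] at h2
  have hk4 : k = 4 := by
    interval_cases k
    · omega
    · exact absurd hmod (by decide)
    · exact absurd hmod (by decide)
    · exact absurd hmod (by decide)
    · rfl
  exact hg1 (h4 hk4)

/-- an element of order `7` fixes at most one nonzero vector -/
theorem fixed_unique_of_pow_seven (hF : Fintype.card F = 2) (g : GL (Fin 4) F) (hg : g ^ 7 = 1)
    (hg1 : g ≠ 1) (v w : Fin 4 → F) (hv : v ≠ 0) (hw : w ≠ 0) (hfv : g • v = v)
    (hfw : g • w = w) : v = w := by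
  by_contra hne
  have : Fact (Nat.Prime 7) := ⟨by norm_num⟩
  obtain ⟨k, hk, hcard, hmod, h4⟩ := fixed_card hF g 7 hg
  have h3 : 3 ≤ Nat.card {v : Fin 4 → F // g • v = v} := by
    classical
    rw [Nat.card_eq_fintype_card]
    have hinj : Function.Injective (fun i : Fin 3 =>
        (![⟨0, gl_smul_zero g⟩, ⟨v, hfv⟩, ⟨w, hfw⟩] i : {v : Fin 4 → F // g • v = v})) := by
      intro i j hij
      fin_cases i <;> fin_cases j <;> simp at hij <;> first | rfl | (exfalso; tauto)
    have := Fintype.card_le_of_injective _ hinj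
    simpa using this
  rw [hcard] at h3
  have hk4 : k = 4 := by
    interval_cases k
    · omega
    · omega
    · exact absurd hmod (by decide)
    · exact absurd hmod (by decide)
    · rfl
  exact hg1 (h4 hk4)

end fixed

end Cfsg.Agent.Lib.Helper15.A7GL
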