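import Mathlib
import Cfsg.Agent.Lib.Helper15.A7GL1

/-!
# Subgroups of order 2520 of `GL_4(2)` without subgroups of index 5 are 2-transitive on the
nonzero vectors
-/

set_option autoImplicit false

namespace Cfsg.Agent.Lib.Helper15.A7GL

open scoped MatrixGroups

section trans

variable {F : Type*} [Field F] [Fintype F]

omit [Fintype F] in
theorem coe_smul_nz (H : Subgroup (GL (Fin 4) F)) (h : H) (x : nz F) :
    ((h • x : nz F) : Fin 4 → F) = (h : GL (Fin 4) F) • (x : Fin 4 → F) := rfl

/-- **Step A**: transitivity on the nonzero vectors. -/
theorem transitive_nz (hF : Fintype.card F = 2) (H : Subgroup (GL (Fin 4) F))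
    (hcard : Nat.card H = 2520) (h5 : ∀ K : Subgroup H, K.index ≠ 5) (x : nz F) :
    MulAction.orbit H x = Set.univ := by
  classical
  have hfinF : Finite (Fin 4 → F) := inferInstance
  have hfinX : Finite (nz F) := Subtype.finite
  have hfinH : Finite H := Nat.finite_of_card_ne_zero (by rw [hcard]; norm_num)
  have hcX := card_nz hF
  -- orbit sizes
  have horb : ∀ y : nz F, (MulAction.orbit H y).ncard = 10 ∨ (MulAction.orbit H y).ncard = 15 := by
    intro y
    have h1 : (MulAction.orbit H y).ncard * Nat.card (MulAction.stabilizer H y) = 2520 := by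
      rw [← MulAction.index_stabilizer, ← hcard, mul_comm]
      exact Subgroup.card_mul_index _
    have h2 : ¬ 5 ∣ Nat.card (MulAction.stabilizer H y) := by
      intro hdvd
      have : Fact (Nat.Prime 5) := ⟨by norm_num⟩
      obtain ⟨s, hs⟩ := exists_prime_orderOf_dvd_card' 5 hdvd
      have hs5 : ((s : H) : GL (Fin 4) F) ^ 5 = 1 := by
        have : s ^ 5 = 1 := by rw [← hs]; exact pow_orderOf_eq_one s
        have h3 := congrArg (fun t : MulAction.stabilizer H y => ((t : H) : GL (Fin 4) F)) this
        simpa using h3
      have hs1 : ((s : H) : GL (Fin 4) F) ≠ 1 := by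
        intro h
        have : s = 1 := by
          apply Subtype.ext
          apply Subtype.ext
          exact h
        rw [this, orderOf_one] at hs
        omega
      have hfix : ((s : H) : GL (Fin 4) F) • (y : Fin 4 → F) = y := by
        have := MulAction.mem_stabilizer_iff.mp s.2
        exact congrArg Subtype.val this
      exact no_fixed_of_pow_five hF _ hs5 hs1 _ y.2 hfix
    have h3 : 5 ∣ (MulAction.orbit H y).ncard := by
      have : 5 ∣ (MulAction.orbit H y).ncard * Nat.card (MulAction.stabilizer H y) := by
        rw [h1]; norm_num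
      exact ((Nat.Prime.dvd_mul (by norm_num)).mp this).resolve_right h2
    have h4 : (MulAction.orbit H y).ncard ≠ 5 := by
      rw [← MulAction.index_stabilizer]
      exact h5 _
    have h6 : (MulAction.orbit H y).ncard ≤ 15 := by
      rw [← hcX, ← Set.ncard_univ]
      exact Set.ncard_le_ncard (Set.subset_univ _)
    have h7 : (MulAction.orbit H y).ncard ≠ 0 := by
      intro h0
      rw [h0, zero_mul] at h1
      omega
    obtain ⟨k, hk⟩ := h3
    omega
  have hx := horb x
  have hx15 : (MulAction.orbit H x).ncard = 15 := by
    rcases hx with hx | hx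
    · exfalso
      have hne : ∃ y : nz F, y ∉ MulAction.orbit H x := by
        by_contra hall
        push Not at hall
        have : MulAction.orbit H x = Set.univ := Set.eq_univ_of_forall hall
        rw [this, Set.ncard_univ, hcX] at hx
        omega
      obtain ⟨y, hy⟩ := hne
      have hdisj : Disjoint (MulAction.orbit H x) (MulAction.orbit H y) := by
        rw [Set.disjoint_left]
        intro z hzx hzy
        apply hy
        rw [← MulAction.orbit_eq_iff.mpr hzx, MulAction.orbit_eq_iff.mpr hzy]
        exact MulAction.mem_orbit_self y
      have hun := Set.ncard_union_eq hdisj (Set.toFinite _) (Set.toFinite _)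
      have hle : (MulAction.orbit H x ∪ MulAction.orbit H y).ncard ≤ 15 := by
        rw [← hcX, ← Set.ncard_univ]
        exact Set.ncard_le_ncard (Set.subset_univ _)
      rcases horb y with hy' | hy' <;> omega
    · exact hx
  apply Set.eq_of_subset_of_ncard_le (Set.subset_univ _)
  rw [Set.ncard_univ, hcX, hx15]

end trans

end Cfsg.Agent.Lib.Helper15.A7GL
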