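import Mathlib
import Cfsg.Agent.Lib.Helper15.A7GL2

/-!
# Subgroups of order 2520 of `GL_4(2)` without subgroups of index 5: point stabilizers
-/

set_option autoImplicit false

namespace Cfsg.Agent.Lib.Helper15.A7GL

open scoped MatrixGroups

section stab

variable {F : Type*} [Field F] [Fintype F]

theorem vec_add_self (hF : Fintype.card F = 2) (c : Fin 4 → F) : c + c = 0 := by
  have : Fact (Nat.Prime 2) := ⟨Nat.prime_two⟩
  have hch : CharP F 2 := charP_of_card_eq_prime hF
  funext i
  exact CharTwo.add_self_eq_zero (c i)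

theorem card_stab (hF : Fintype.card F = 2) (H : Subgroup (GL (Fin 4) F))
    (hcard : Nat.card H = 2520) (h5 : ∀ K : Subgroup H, K.index ≠ 5) (c : nz F) :
    Nat.card (MulAction.stabilizer H c) = 168 := by
  have h1 := Subgroup.card_mul_index (MulAction.stabilizer H c)
  rw [MulAction.index_stabilizer, transitive_nz hF H hcard h5 c, Set.ncard_univ, card_nz hF,
    hcard] at h1
  omega

/-- the orbit of a point stabilizer stays away from the point -/
theorem orbit_subset_compl (H : Subgroup (GL (Fin 4) F)) (c u : nz F) (huc : u ≠ c) :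
    MulAction.orbit (MulAction.stabilizer H c) u ⊆ {y | y ≠ c} := by
  rintro y ⟨k, rfl⟩ hk
  apply huc
  have h1 : k⁻¹ • (k • u) = k⁻¹ • c := by
    show k⁻¹ • (k • u) = k⁻¹ • c
    exact congrArg (fun z => k⁻¹ • z) hk
  rw [inv_smul_smul] at h1
  rw [h1]
  have h2 : (k⁻¹ : MulAction.stabilizer H c) • c = ((k⁻¹ : MulAction.stabilizer H c) : H) • c := rfl
  rw [h2]
  exact MulAction.mem_stabilizer_iff.mp (k⁻¹).2

theorem ncard_compl_pt (hF : Fintype.card F = 2) (c : nz F) : ({y | y ≠ c} : Set (nz F)).ncard = 14 := by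
  have hfinX : Finite (nz F) := Subtype.finite
  have h1 : ({y | y ≠ c} : Set (nz F)) = ({c} : Set (nz F))ᶜ := by
    ext y
    simp
  rw [h1, Set.ncard_compl, Set.ncard_singleton, card_nz hF]

/-- **Step B1**: orbit sizes of a point stabilizer. -/
theorem orbit_stab_card (hF : Fintype.card F = 2) (H : Subgroup (GL (Fin 4) F))
    (hcard : Nat.card H = 2520) (h5 : ∀ K : Subgroup H, K.index ≠ 5) (c u : nz F) (huc : u ≠ c) :
    (MulAction.orbit (MulAction.stabilizer H c) u).ncard = 7 ∨
      (MulAction.orbit (MulAction.stabilizer H c) u).ncard = 14 := by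
  classical
  have hfinX : Finite (nz F) := Subtype.finite
  have hfinH : Finite H := Nat.finite_of_card_ne_zero (by rw [hcard]; norm_num)
  have hK := card_stab hF H hcard h5 c
  have h1 : (MulAction.orbit (MulAction.stabilizer H c) u).ncard *
      Nat.card (MulAction.stabilizer (MulAction.stabilizer H c) u) = 168 := by
    rw [← MulAction.index_stabilizer, ← hK, mul_comm]
    exact Subgroup.card_mul_index _
  have h2 : ¬ 7 ∣ Nat.card (MulAction.stabilizer (MulAction.stabilizer H c) u) := by
    intro hdvd
    have : Fact (Nat.Prime 7) := ⟨by norm_num⟩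
    obtain ⟨s, hs⟩ := exists_prime_orderOf_dvd_card' 7 hdvd
    have hs7 : (((s : MulAction.stabilizer H c) : H) : GL (Fin 4) F) ^ 7 = 1 := by
      have : s ^ 7 = 1 := by rw [← hs]; exact pow_orderOf_eq_one s
      have h3 := congrArg (fun t : MulAction.stabilizer (MulAction.stabilizer H c) u =>
        (((t : MulAction.stabilizer H c) : H) : GL (Fin 4) F)) this
      simpa using h3
    have hs1 : (((s : MulAction.stabilizer H c) : H) : GL (Fin 4) F) ≠ 1 := by
      intro h
      have : s = 1 := by
        apply Subtype.ext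
        apply Subtype.ext
        apply Subtype.ext
        exact h
      rw [this, orderOf_one] at hs
      omega
    have hfixu : (((s : MulAction.stabilizer H c) : H) : GL (Fin 4) F) • (u : Fin 4 → F) = u := by
      have := MulAction.mem_stabilizer_iff.mp s.2
      exact congrArg Subtype.val this
    have hfixc : (((s : MulAction.stabilizer H c) : H) : GL (Fin 4) F) • (c : Fin 4 → F) = c := by
      have := MulAction.mem_stabilizer_iff.mp (s : MulAction.stabilizer H c).2
      exact congrArg Subtype.val this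
    exact huc (Subtype.ext (fixed_unique_of_pow_seven hF _ hs7 hs1 _ _ u.2 c.2 hfixu hfixc))
  have h3 : 7 ∣ (MulAction.orbit (MulAction.stabilizer H c) u).ncard := by
    have : 7 ∣ (MulAction.orbit (MulAction.stabilizer H c) u).ncard *
        Nat.card (MulAction.stabilizer (MulAction.stabilizer H c) u) := by
      rw [h1]; norm_num
    exact ((Nat.Prime.dvd_mul (by norm_num)).mp this).resolve_right h2
  have h6 : (MulAction.orbit (MulAction.stabilizer H c) u).ncard ≤ 14 := by
    rw [← ncard_compl_pt hF c]
    exact Set.ncard_le_ncard (orbit_subset_compl H c u huc) (Set.toFinite _)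
  have h7 : (MulAction.orbit (MulAction.stabilizer H c) u).ncard ≠ 0 := by
    intro h0
    rw [h0, zero_mul] at h1
    omega
  obtain ⟨k, hk⟩ := h3
  omega

/-- the property that a point stabilizer is transitive on the other points -/
def StabTrans (H : Subgroup (GL (Fin 4) F)) (c : nz F) : Prop :=
  ∀ u u' : nz F, u ≠ c → u' ≠ c → ∃ k : MulAction.stabilizer H c, k • u = u'

/-- **Step B3**: an orbit of size 14 gives transitivity. -/
theorem stabTrans_of_orbit (hF : Fintype.card F = 2) (H : Subgroup (GL (Fin 4) F)) (c u₁ : nz F)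
    (hu₁ : u₁ ≠ c) (h14 : (MulAction.orbit (MulAction.stabilizer H c) u₁).ncard = 14) :
    StabTrans H c := by
  have hfinX : Finite (nz F) := Subtype.finite
  have heq : MulAction.orbit (MulAction.stabilizer H c) u₁ = {y | y ≠ c} := by
    apply Set.eq_of_subset_of_ncard_le (orbit_subset_compl H c u₁ hu₁)
    rw [ncard_compl_pt hF c, h14]
  intro u u' hu hu'
  have h1 : u ∈ MulAction.orbit (MulAction.stabilizer H c) u₁ := by rw [heq]; exact hu
  have h2 : u' ∈ MulAction.orbit (MulAction.stabilizer H c) u₁ := by rw [heq]; exact hu'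
  rw [← MulAction.orbit_eq_iff.mpr h1] at h2
  exact MulAction.mem_orbit_iff.mp h2

/-- **Step B2**: parity. -/
theorem no_translate (hF : Fintype.card F = 2) (H : Subgroup (GL (Fin 4) F)) (c u : nz F)
    (h7 : (MulAction.orbit (MulAction.stabilizer H c) u).ncard = 7)
    (k₀ : MulAction.stabilizer H c) :
    ((k₀ • u : nz F) : Fin 4 → F) ≠ (u : Fin 4 → F) + (c : Fin 4 → F) := by
  classical
  intro hk₀
  have hfinX : Finite (nz F) := Subtype.finite
  obtain ⟨O, hO⟩ : ∃ O : Set (Fin 4 → F), O = (fun y : nz F => (y : Fin 4 → F)) ''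
      (MulAction.orbit (MulAction.stabilizer H c) u) := ⟨_, rfl⟩
  have hOcard : O.ncard = 7 := by
    rw [hO, Set.ncard_image_of_injective _ Subtype.val_injective, h7]
  have hOfin : O.Finite := Set.toFinite O
  obtain ⟨s, hs⟩ : ∃ s : Finset (Fin 4 → F), (s : Set (Fin 4 → F)) = O :=
    ⟨hOfin.toFinset, hOfin.coe_toFinset⟩
  have hscard : s.card = 7 := by rw [← Set.ncard_coe_finset, hs, hOcard]
  have hmem : ∀ a, a ∈ s ↔ ∃ k : MulAction.stabilizer H c, ((k • u : nz F) : Fin 4 → F) = a := by
    intro a
    rw [← Finset.mem_coe, hs, hO]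
    constructor
    · rintro ⟨y, ⟨k, rfl⟩, rfl⟩
      exact ⟨k, rfl⟩
    · rintro ⟨k, rfl⟩
      exact ⟨k • u, ⟨k, rfl⟩, rfl⟩
  have hcfix : ∀ k : MulAction.stabilizer H c,
      ((k : H) : GL (Fin 4) F) • (c : Fin 4 → F) = c := by
    intro k
    have := MulAction.mem_stabilizer_iff.mp k.2
    exact congrArg Subtype.val this
  have hsum : ∑ a ∈ s, (1 : ZMod 2) = 0 := by
    apply Finset.sum_involution (fun a _ => a + (c : Fin 4 → F))
    · intro a _
      decide
    · intro a _ _ h
      apply c.2
      have : a + (c : Fin 4 → F) = a + 0 := by rw [add_zero]; exact h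
      exact add_left_cancel this
    · intro a ha
      obtain ⟨k, rfl⟩ := (hmem a).mp ha
      rw [hmem]
      refine ⟨k * k₀, ?_⟩
      rw [mul_smul]
      show ((k : H) : GL (Fin 4) F) • ((k₀ • u : nz F) : Fin 4 → F) = _
      rw [hk₀, gl_smul_add, hcfix]
      rfl
    · intro a ha
      rw [add_assoc, vec_add_self hF, add_zero]
  rw [Finset.sum_const, hscard] at hsum
  revert hsum
  decide

end stab

end Cfsg.Agent.Lib.Helper15.A7GL
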