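import Mathlib
import Cfsg.Agent.Lib.Helper15.A7GL3

/-!
# Subgroups of order 2520 of `GL_4(2)` without subgroups of index 5 are 2-transitive
-/

set_option autoImplicit false

namespace Cfsg.Agent.Lib.Helper15.A7GL

open scoped MatrixGroups

section final

variable {F : Type*} [Field F] [Fintype F]

/-- some point stabilizer is transitive on the remaining points -/
theorem exists_stabTrans (hF : Fintype.card F = 2) (H : Subgroup (GL (Fin 4) F))
    (hcard : Nat.card H = 2520) (h5 : ∀ K : Subgroup H, K.index ≠ 5) :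
    ∃ c : nz F, StabTrans H c := by
  classical
  by_contra hcon
  push Not at hcon
  have hfinH : Finite H := Nat.finite_of_card_ne_zero (by rw [hcard]; norm_num)
  have h7 : ∀ c u : nz F, u ≠ c →
      (MulAction.orbit (MulAction.stabilizer H c) u).ncard = 7 := by
    intro c u huc
    rcases orbit_stab_card hF H hcard h5 c u huc with h | h
    · exact h
    · exact absurd (stabTrans_of_orbit hF H c u huc h) (hcon c)
  have : Fact (Nat.Prime 2) := ⟨Nat.prime_two⟩
  obtain ⟨t, ht⟩ := exists_prime_orderOf_dvd_card' (G := H) 2 (by rw [hcard]; norm_num)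
  have ht2 : ((t : H) : GL (Fin 4) F) * (t : GL (Fin 4) F) = 1 := by
    have : t ^ 2 = 1 := by rw [← ht]; exact pow_orderOf_eq_one t
    have h3 := congrArg (fun s : H => (s : GL (Fin 4) F)) this
    simpa [pow_two] using h3
  have ht1 : ((t : H) : GL (Fin 4) F) ≠ 1 := by
    intro h
    have : t = 1 := Subtype.ext h
    rw [this, orderOf_one] at ht
    omega
  obtain ⟨u₀, hu₀⟩ : ∃ u₀ : Fin 4 → F, (t : GL (Fin 4) F) • u₀ ≠ u₀ := by
    by_contra hall
    push Not at hall
    exact ht1 (eq_one_of_forall_smul _ hall)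
  obtain ⟨c₀, hc₀⟩ : ∃ c₀ : Fin 4 → F, c₀ = (t : GL (Fin 4) F) • u₀ + u₀ := ⟨_, rfl⟩
  have hc₀ne : c₀ ≠ 0 := by
    intro h0
    apply hu₀
    rw [h0] at hc₀
    have h1 : (t : GL (Fin 4) F) • u₀ + u₀ + u₀ = 0 + u₀ := by rw [← hc₀]
    rwa [add_assoc, vec_add_self hF, add_zero, zero_add] at h1
  have htc : (t : GL (Fin 4) F) • c₀ = c₀ := by
    rw [hc₀, gl_smul_add, ← mul_smul, ht2, one_smul, add_comm]
  have hu₀ne : u₀ ≠ 0 := by
    rintro rfl
    exact hu₀ (gl_smul_zero _)
  have hu₀c : u₀ ≠ c₀ := by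
    intro h
    apply hu₀
    rw [h]
    exact htc
  have htu : (t : GL (Fin 4) F) • u₀ = u₀ + c₀ := by
    rw [hc₀, add_comm u₀, add_assoc, vec_add_self hF, add_zero]
  have hmem : t ∈ MulAction.stabilizer H (⟨c₀, hc₀ne⟩ : nz F) := by
    rw [MulAction.mem_stabilizer_iff]
    apply Subtype.ext
    exact htc
  have huc : (⟨u₀, hu₀ne⟩ : nz F) ≠ ⟨c₀, hc₀ne⟩ := by
    intro h
    exact hu₀c (congrArg Subtype.val h)
  exact no_translate hF H ⟨c₀, hc₀ne⟩ ⟨u₀, hu₀ne⟩ (h7 _ _ huc) ⟨t, hmem⟩ htu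

/-- **2-transitivity.** -/
theorem two_transitive (hF : Fintype.card F = 2) (H : Subgroup (GL (Fin 4) F))
    (hcard : Nat.card H = 2520) (h5 : ∀ K : Subgroup H, K.index ≠ 5)
    (v w v' w' : Fin 4 → F) (hv : v ≠ 0) (hw : w ≠ 0) (hvw : v ≠ w) (hv' : v' ≠ 0)
    (hw' : w' ≠ 0) (hvw' : v' ≠ w') :
    ∃ g ∈ H, (g : Matrix (Fin 4) (Fin 4) F).mulVec v = v' ∧
      (g : Matrix (Fin 4) (Fin 4) F).mulVec w = w' := by
  obtain ⟨c, hc⟩ := exists_stabTrans hF H hcard h5
  obtain ⟨h₁, hh₁⟩ : ∃ h₁ : H, h₁ • (⟨v, hv⟩ : nz F) = c := by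
    have : c ∈ MulAction.orbit H (⟨v, hv⟩ : nz F) := by
      rw [transitive_nz hF H hcard h5]; exact Set.mem_univ _
    exact MulAction.mem_orbit_iff.mp this
  obtain ⟨h₂, hh₂⟩ : ∃ h₂ : H, h₂ • (⟨v', hv'⟩ : nz F) = c := by
    have : c ∈ MulAction.orbit H (⟨v', hv'⟩ : nz F) := by
      rw [transitive_nz hF H hcard h5]; exact Set.mem_univ _
    exact MulAction.mem_orbit_iff.mp this
  have hu : h₁ • (⟨w, hw⟩ : nz F) ≠ c := by
    intro h
    rw [← hh₁] at h
    have := smul_left_cancel h₁ h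
    exact hvw (congrArg Subtype.val this).symm
  have hu' : h₂ • (⟨w', hw'⟩ : nz F) ≠ c := by
    intro h
    rw [← hh₂] at h
    have := smul_left_cancel h₂ h
    exact hvw' (congrArg Subtype.val this).symm
  obtain ⟨k, hk⟩ := hc _ _ hu hu'
  have hkc : (k : H) • c = c := MulAction.mem_stabilizer_iff.mp k.2
  refine ⟨((h₂⁻¹ * (k : H) * h₁ : H) : GL (Fin 4) F), (h₂⁻¹ * (k : H) * h₁ : H).2, ?_, ?_⟩
  · have h1 : (h₂⁻¹ * (k : H) * h₁) • (⟨v, hv⟩ : nz F) = ⟨v', hv'⟩ := by
      rw [mul_smul, mul_smul, hh₁, hkc, ← hh₂, inv_smul_smul]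
    exact congrArg Subtype.val h1
  · have h1 : (h₂⁻¹ * (k : H) * h₁) • (⟨w, hw⟩ : nz F) = ⟨w', hw'⟩ := by
      rw [mul_smul, mul_smul]
      have : (k : H) • (h₁ • (⟨w, hw⟩ : nz F)) = h₂ • (⟨w', hw'⟩ : nz F) := hk
      rw [this, inv_smul_smul]
    exact congrArg Subtype.val h1

end final

section a7

variable {G : Type*} [Group G]

/-- a group isomorphic to `A_7` has order 2520 -/
theorem card_of_equiv_alt7 (e : G ≃* alternatingGroup (Fin 7)) : Nat.card G = 2520 := by
  rw [Nat.card_congr e.toEquiv, Nat.card_eq_fintype_card]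
  have h := two_mul_card_alternatingGroup (α := Fin 7)
  rw [Fintype.card_perm, Fintype.card_fin] at h
  have : Nat.factorial 7 = 5040 := by decide
  omega

/-- a group isomorphic to `A_7` has no subgroup of index 5 -/
theorem index_ne_five_of_equiv_alt7 (e : G ≃* alternatingGroup (Fin 7)) (K : Subgroup G) :
    K.index ≠ 5 := by
  intro hK
  have hcard := card_of_equiv_alt7 e
  have hfin : Finite G := Nat.finite_of_card_ne_zero (by rw [hcard]; norm_num)
  have hsA : IsSimpleGroup (alternatingGroup (Fin 7)) :=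
    alternatingGroup.isSimpleGroup (by rw [Nat.card_fin]; norm_num)
  have hnt : Nontrivial G := e.toEquiv.nontrivial
  have hs : IsSimpleGroup G :=
    IsSimpleGroup.isSimpleGroup_of_surjective e.symm.toMonoidHom e.symm.surjective
  have hfq : Finite (G ⧸ K) := by
    apply Nat.finite_of_card_ne_zero
    rw [← Subgroup.index_eq_card, hK]
    norm_num
  rcases (MulAction.toPermHom G (G ⧸ K)).normal_ker.eq_bot_or_eq_top with h | h
  · have hinj : Function.Injective (MulAction.toPermHom G (G ⧸ K)) :=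
      (MonoidHom.ker_eq_bot_iff _).mp h
    have h1 := Nat.card_le_card_of_injective _ hinj
    rw [hcard, Nat.card_perm, ← Subgroup.index_eq_card, hK] at h1
    have : Nat.factorial 5 = 120 := by decide
    omega
  · have hKtop : K = ⊤ := by
      rw [eq_top_iff]
      intro g _
      have hg : g ∈ (MulAction.toPermHom G (G ⧸ K)).ker := by rw [h]; exact Subgroup.mem_top g
      rw [MonoidHom.mem_ker] at hg
      have h1 : (MulAction.toPermHom G (G ⧸ K) g) ((1 : G) : G ⧸ K) = ((1 : G) : G ⧸ K) := by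
        rw [hg]; rfl
      rw [MulAction.toPermHom_apply, MulAction.toPerm_apply, MulAction.Quotient.smul_coe,
        smul_eq_mul, mul_one] at h1
      have := QuotientGroup.eq.mp h1
      simpa using this
    rw [hKtop, Subgroup.index_top] at hK
    omega

end a7

end Cfsg.Agent.Lib.Helper15.A7GL
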