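import Mathlib
import Cfsg.Agent.S3335
import Cfsg.Agent.Lib.Helper20.AltMultB

/-!
# A copy of `A_7` inside `GL_4(2)` via Carmichael's presentation
-/

set_option autoImplicit false

namespace Cfsg.Agent.Lib.Helper15.A7GL

open scoped MatrixGroups
open Cfsg.Agent.S3335

/-- the images of the Carmichael generators -/
def yMat : ℕ → Matrix (Fin 4) (Fin 4) (ZMod 2)
  | 0 => !![0, 1, 0, 0; 1, 1, 0, 0; 0, 0, 0, 1; 0, 0, 1, 1]
  | 1 => !![1, 0, 0, 0; 0, 1, 0, 0; 1, 0, 1, 0; 1, 1, 0, 1]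
  | 2 => !![0, 0, 1, 0; 0, 0, 1, 1; 1, 0, 0, 0; 1, 1, 0, 0]
  | 3 => !![1, 0, 0, 0; 1, 1, 0, 0; 1, 0, 1, 0; 1, 1, 1, 1]
  | 4 => !![0, 1, 0, 0; 1, 0, 0, 0; 0, 0, 1, 1; 0, 0, 0, 1]
  | _ => 1

/-- inverses -/
def yInv : ℕ → Matrix (Fin 4) (Fin 4) (ZMod 2)
  | 0 => yMat 0 * yMat 0
  | n => yMat n

theorem yMat_mul_inv (n : ℕ) : yMat n * yInv n = 1 := by
  match n with
  | 0 => decide
  | 1 => decide
  | 2 => decide
  | 3 => decide
  | 4 => decide
  | (k + 5) => show (1 : Matrix (Fin 4) (Fin 4) (ZMod 2)) * 1 = 1; rw [one_mul]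

theorem yInv_mul (n : ℕ) : yInv n * yMat n = 1 := by
  match n with
  | 0 => decide
  | 1 => decide
  | 2 => decide
  | 3 => decide
  | 4 => decide
  | (k + 5) => show (1 : Matrix (Fin 4) (Fin 4) (ZMod 2)) * 1 = 1; rw [one_mul]

/-- the generators as elements of `GL_4(2)` -/
def yGL (n : ℕ) : GL (Fin 4) (ZMod 2) := ⟨yMat n, yInv n, yMat_mul_inv n, yInv_mul n⟩

theorem yGL_val (n : ℕ) : ((yGL n : GL (Fin 4) (ZMod 2)) : Matrix (Fin 4) (Fin 4) (ZMod 2)) = yMat n :=
  rfl

end Cfsg.Agent.Lib.Helper15.A7GL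

namespace Cfsg.Agent.Lib.Helper15.A7GL

open scoped MatrixGroups
open Cfsg.Agent.S3335

theorem carRel_yGL : CarRel yGL 4 where
  h1 := by
    apply Units.ext
    simp only [Units.val_mul, yGL_val, Units.val_one]
    decide
  h2 := by
    intro i h1 h2
    apply Units.ext
    simp only [Units.val_mul, yGL_val, Units.val_one]
    interval_cases i <;> decide
  h3 := by
    intro i hi
    apply Units.ext
    simp only [Units.val_mul, yGL_val, Units.val_one]
    have hi' : i ≤ 3 := by omega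
    interval_cases i <;> decide
  h4 := by
    intro i j h1 h2
    apply Units.ext
    simp only [Units.val_mul, yGL_val, Units.val_one]
    have hi' : i ≤ 3 := by omega
    interval_cases j <;> interval_cases i <;> first | omega | decide

/-- the homomorphism from the Carmichael group -/
noncomputable def phi7 : CG 5 →* GL (Fin 4) (ZMod 2) :=
  PresentedGroup.toGroup (f := fun i : Fin 5 => yGL i.val) (lift_rels carRel_yGL)

theorem phi7_of (i : Fin 5) : phi7 (PresentedGroup.of i) = yGL i.val :=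
  PresentedGroup.toGroup.of _

end Cfsg.Agent.Lib.Helper15.A7GL

namespace Cfsg.Agent.Lib.Helper15.A7GL

open scoped MatrixGroups
open Cfsg.Agent.S3335 Cfsg.Agent.Lib.Helper20.AltMult

theorem yMat_zero_entry : yMat 0 (0 : Fin 4) (0 : Fin 4) = (0 : ZMod 2) := by decide

/-- **Existence**: `GL_4(2)` contains a copy of `A_7`. -/
theorem exists_alt7 {F : Type*} [Field F] [Fintype F] (hF : Fintype.card F = 2) :
    ∃ H : Subgroup (GL (Fin 4) F), Nonempty (H ≃* alternatingGroup (Fin 7)) := by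
  have : Fact (Nat.Prime 2) := ⟨Nat.prime_two⟩
  have hch : CharP F 2 := charP_of_card_eq_prime hF
  obtain ⟨f, hf⟩ : ∃ f : ZMod 2 →+* F, f = ZMod.castHom (dvd_refl 2) F := ⟨_, rfl⟩
  obtain ⟨ψ, hψ⟩ : ∃ ψ : CG 5 →* GL (Fin 4) F,
      ψ = (Matrix.GeneralLinearGroup.map f).comp phi7 := ⟨_, rfl⟩
  have hsimple : IsSimpleGroup (CG 5) := cg_simple 4 (by norm_num)
  have hne : ψ (PresentedGroup.of (⟨0, by norm_num⟩ : Fin 5)) ≠ 1 := by
    intro h
    have h1 := congrArg (fun g : GL (Fin 4) F => (g : Matrix (Fin 4) (Fin 4) F) 0 0) h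
    rw [hψ] at h1
    simp only [MonoidHom.comp_apply, phi7_of, Matrix.GeneralLinearGroup.map_apply, yGL_val,
      Units.val_one, Matrix.one_apply_eq] at h1
    rw [yMat_zero_entry, map_zero] at h1
    exact zero_ne_one h1
  have hinj : Function.Injective ψ := by
    rw [← MonoidHom.ker_eq_bot_iff]
    rcases ψ.normal_ker.eq_bot_or_eq_top with h | h
    · exact h
    · exfalso
      apply hne
      rw [← MonoidHom.mem_ker, h]
      exact Subgroup.mem_top _
  obtain ⟨e⟩ := main 4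
  exact ⟨ψ.range, ⟨(MonoidHom.ofInjective hinj).symm.trans e⟩⟩

end Cfsg.Agent.Lib.Helper15.A7GL
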