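import Mathlib
set_option autoImplicit false
namespace Cfsg.Agent.Lib.Helper15

/-- maximal product of positive integers with given sum -/
def maxProd : ℕ → ℕ
  | 0 => 1
  | 1 => 1
  | 2 => 2
  | 3 => 3
  | 4 => 4
  | (n+5) => 3 * maxProd (n+2)

theorem maxProd_add_five (n : ℕ) : maxProd (n + 5) = 3 * maxProd (n + 2) := rfl

theorem maxProd_step (n : ℕ) (h : 5 ≤ n) : maxProd n = 3 * maxProd (n - 3) := by
  obtain ⟨m, rfl⟩ : ∃ m, n = m + 5 := ⟨n - 5, by omega⟩
  rw [maxProd_add_five]
  congr 2

theorem le_maxProd (a : ℕ) : a ≤ maxProd a := by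
  induction a using Nat.strong_induction_on with
  | _ a ih =>
    rcases Nat.lt_or_ge a 5 with h | h
    · interval_cases a <;> simp [maxProd]
    · rw [maxProd_step a h]
      have := ih (a - 3) (by omega)
      omega

theorem maxProd_mul_le (a b : ℕ) : maxProd a * maxProd b ≤ maxProd (a + b) := by
  induction a using Nat.strong_induction_on generalizing b with
  | _ a iha =>
    rcases Nat.lt_or_ge a 5 with ha | ha
    · induction b using Nat.strong_induction_on with
      | _ b ihb =>
        rcases Nat.lt_or_ge b 5 with hb | hb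
        · interval_cases a <;> interval_cases b <;> simp [maxProd]
        · rw [maxProd_step b hb, maxProd_step (a + b) (by omega)]
          have := ihb (b - 3) (by omega)
          have e : a + b - 3 = a + (b - 3) := by omega
          rw [e]
          calc maxProd a * (3 * maxProd (b - 3)) = 3 * (maxProd a * maxProd (b - 3)) := by ring
            _ ≤ 3 * maxProd (a + (b - 3)) := Nat.mul_le_mul_left _ this
    · rw [maxProd_step a ha, maxProd_step (a + b) (by omega)]
      have := iha (a - 3) (by omega) b
      have e : a + b - 3 = (a - 3) + b := by omega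
      rw [e]
      calc 3 * maxProd (a - 3) * maxProd b = 3 * (maxProd (a - 3) * maxProd b) := by ring
        _ ≤ 3 * maxProd (a - 3 + b) := Nat.mul_le_mul_left _ this

theorem prod_le_maxProd_sum {ι : Type*} (s : Finset ι) (f : ι → ℕ) : ∏ i ∈ s, f i ≤ maxProd (∑ i ∈ s, f i) := by
  classical
  induction s using Finset.induction_on with
  | empty => simp [maxProd]
  | insert a s ha ih =>
    rw [Finset.prod_insert ha, Finset.sum_insert ha]
    calc f a * ∏ i ∈ s, f i ≤ maxProd (f a) * maxProd (∑ i ∈ s, f i) := Nat.mul_le_mul (le_maxProd _) ih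
      _ ≤ _ := maxProd_mul_le _ _

theorem maxProd_three_mul (k : ℕ) : maxProd (3 * k) = 3 ^ k := by
  induction k with
  | zero => rfl
  | succ k ih =>
    rcases Nat.eq_zero_or_pos k with rfl | hk
    · rfl
    · rw [maxProd_step _ (by omega), show 3 * (k + 1) - 3 = 3 * k by omega, ih, pow_succ]; ring

theorem maxProd_three_mul_add_one (k : ℕ) (hk : 1 ≤ k) : maxProd (3 * k + 1) = 4 * 3 ^ (k - 1) := by
  induction k with
  | zero => omega
  | succ k ih =>
    rcases Nat.eq_zero_or_pos k with rfl | hk'
    · rfl
    · rw [maxProd_step _ (by omega), show 3 * (k + 1) + 1 - 3 = 3 * k + 1 by omega, ih hk']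
      obtain ⟨j, rfl⟩ : ∃ j, k = j + 1 := ⟨k - 1, by omega⟩
      simp only [Nat.add_sub_cancel]
      rw [pow_succ]; ring

theorem maxProd_three_mul_add_two (k : ℕ) : maxProd (3 * k + 2) = 2 * 3 ^ k := by
  induction k with
  | zero => rfl
  | succ k ih =>
    rw [maxProd_step _ (by omega), show 3 * (k + 1) + 2 - 3 = 3 * k + 2 by omega, ih, pow_succ]; ring


open MulAction in
theorem card_le_maxProd {A X : Type*} [Group A] [Fintype A] [MulAction A X] [FaithfulSMul A X]
    [Fintype X] [DecidableEq X]
    (hcomm : ∀ a b : A, a * b = b * a) :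
    Fintype.card A ≤ maxProd (Fintype.card X) := by
  classical
  haveI : Fintype (orbitRel.Quotient A X) := Quotient.fintype _
  have h1 : Fintype.card A ≤ ∏ ω : orbitRel.Quotient A X, Fintype.card (orbit A ω.out) := by
    rw [← Fintype.card_pi]
    apply Fintype.card_le_of_injective (fun (a : A) (ω : orbitRel.Quotient A X) =>
      (⟨a • ω.out, mem_orbit _ _⟩ : orbit A ω.out))
    intro a b hab
    apply FaithfulSMul.eq_of_smul_eq_smul (α := X)
    intro x
    have hx : x ∈ orbit A (Quotient.out (Quotient.mk'' x : orbitRel.Quotient A X)) := by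
      have : (Quotient.mk'' (Quotient.out (Quotient.mk'' x : orbitRel.Quotient A X)) : orbitRel.Quotient A X)
          = Quotient.mk'' x := Quotient.out_eq' _
      rw [Quotient.eq''] at this
      obtain ⟨y, hy⟩ := this
      refine ⟨y⁻¹, ?_⟩
      show y⁻¹ • _ = x
      rw [← hy]
      exact inv_smul_smul y x
    obtain ⟨h, hh⟩ := hx
    have h1 := congrFun hab (Quotient.mk'' x)
    have h2 : a • Quotient.out (Quotient.mk'' x : orbitRel.Quotient A X) =
        b • Quotient.out (Quotient.mk'' x : orbitRel.Quotient A X) := congrArg Subtype.val h1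
    rw [← hh]
    show a • h • _ = b • h • _
    rw [smul_smul, smul_smul, hcomm a h, hcomm b h, mul_smul, mul_smul, h2]
  have h2 : ∑ ω : orbitRel.Quotient A X, Fintype.card (orbit A ω.out) = Fintype.card X := by
    rw [← Fintype.card_sigma]
    exact (Fintype.card_congr (selfEquivSigmaOrbits A X)).symm
  calc Fintype.card A ≤ _ := h1
    _ ≤ maxProd (∑ ω : orbitRel.Quotient A X, Fintype.card (orbit A ω.out)) := prod_le_maxProd_sum _ _
    _ = _ := by rw [h2]


theorem exists_comm_subgroup_of_hom {B X : Type*} [CommGroup B] [Fintype B] [Fintype X] [DecidableEq X]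
    (ψ : B →* Equiv.Perm X) (hψ : Function.Injective ψ) (n : ℕ) (hn : Fintype.card X = n) :
    ∃ A : Subgroup (Equiv.Perm (Fin n)), IsMulCommutative A ∧ Nat.card A = Fintype.card B := by
  classical
  let e : X ≃ Fin n := Fintype.equivFinOfCardEq hn
  let ψ' : B →* Equiv.Perm (Fin n) := e.permCongrHom.toMonoidHom.comp ψ
  have hinj : Function.Injective ψ' := e.permCongrHom.injective.comp hψ
  refine ⟨ψ'.range, inferInstance, ?_⟩
  rw [← Nat.card_eq_fintype_card]
  exact Nat.card_congr (MonoidHom.ofInjective hinj).toEquiv.symm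

section constr
variable (a c : ℕ) [NeZero c]

def shiftAct (v : (Fin a → ZMod 3) × ZMod c) : (Fin a × ZMod 3) ⊕ ZMod c → (Fin a × ZMod 3) ⊕ ZMod c :=
  Sum.elim (fun p => Sum.inl (p.1, p.2 + v.1 p.1)) (fun y => Sum.inr (y + v.2))

theorem shiftAct_add (v w : (Fin a → ZMod 3) × ZMod c) (x) :
    shiftAct a c (v + w) x = shiftAct a c v (shiftAct a c w x) := by
  rcases x with ⟨i, x⟩ | y
  · simp only [shiftAct, Sum.elim_inl, Prod.fst_add, Pi.add_apply]
    congr 2
    ring
  · simp only [shiftAct, Sum.elim_inr, Prod.snd_add]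
    congr 1
    ring

theorem shiftAct_zero (x) : shiftAct a c 0 x = x := by
  rcases x with ⟨i, x⟩ | y <;> simp [shiftAct]

def shiftHom : Multiplicative ((Fin a → ZMod 3) × ZMod c) →* Equiv.Perm ((Fin a × ZMod 3) ⊕ ZMod c) where
  toFun v := ⟨shiftAct a c v.toAdd, shiftAct a c (-v.toAdd),
    fun x => by rw [← shiftAct_add, neg_add_cancel, shiftAct_zero],
    fun x => by rw [← shiftAct_add, add_neg_cancel, shiftAct_zero]⟩
  map_one' := by ext x; exact shiftAct_zero a c x
  map_mul' v w := by ext x; exact shiftAct_add a c v.toAdd w.toAdd x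

theorem shiftHom_injective : Function.Injective (shiftHom a c) := by
  intro v w h
  have h1 : ∀ x, shiftAct a c v.toAdd x = shiftAct a c w.toAdd x := fun x => congrArg (fun f => f x) h
  apply Multiplicative.toAdd.injective
  apply Prod.ext
  · funext i
    have := h1 (Sum.inl (i, 0))
    simp only [shiftAct, Sum.elim_inl, Sum.inl.injEq, Prod.mk.injEq, true_and, zero_add] at this
    exact this
  · have := h1 (Sum.inr 0)
    simp only [shiftAct, Sum.elim_inr, Sum.inr.injEq, zero_add] at this
    exact this

theorem exists_comm_subgroup_card : ∃ A : Subgroup (Equiv.Perm (Fin (3 * a + c))),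
    IsMulCommutative A ∧ Nat.card A = 3 ^ a * c := by
  classical
  obtain ⟨A, hA, hcard⟩ := exists_comm_subgroup_of_hom (shiftHom a c) (shiftHom_injective a c) (3 * a + c)
    (by simp [Fintype.card_sum, Fintype.card_prod, ZMod.card]; ring)
  refine ⟨A, hA, ?_⟩
  rw [hcard]
  simp [Fintype.card_prod, Fintype.card_pi, ZMod.card]

end constr

end Cfsg.Agent.Lib.Helper15
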