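import Mathlib
import Cfsg.Agent.Lib.Helper15.AbelSym
set_option autoImplicit false
namespace Cfsg.Agent.Lib.Helper15

/-- max product of positive integers, none equal to 2, with given sum -/
def maxProdNoTwo : ℕ → ℕ
  | 0 => 1
  | 1 => 1
  | 2 => 1
  | 3 => 3
  | 4 => 4
  | 5 => 5
  | 6 => 9
  | 7 => 12
  | 8 => 16
  | (n+9) => 3 * maxProdNoTwo (n+6)

theorem maxProdNoTwo_step (n : ℕ) (h : 9 ≤ n) : maxProdNoTwo n = 3 * maxProdNoTwo (n - 3) := by
  obtain ⟨m, rfl⟩ : ∃ m, n = m + 9 := ⟨n - 9, by omega⟩
  rfl

theorem le_maxProdNoTwo (a : ℕ) (ha : a ≠ 2) : a ≤ maxProdNoTwo a := by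
  induction a using Nat.strong_induction_on with
  | _ a ih =>
    rcases Nat.lt_or_ge a 9 with h | h
    · interval_cases a <;> simp_all [maxProdNoTwo]
    · rw [maxProdNoTwo_step a h]
      have := ih (a - 3) (by omega) (by omega)
      omega

theorem maxProdNoTwo_mul_le (a b : ℕ) : maxProdNoTwo a * maxProdNoTwo b ≤ maxProdNoTwo (a + b) := by
  induction a using Nat.strong_induction_on generalizing b with
  | _ a iha =>
    rcases Nat.lt_or_ge a 9 with ha | ha
    · induction b using Nat.strong_induction_on with
      | _ b ihb =>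
        rcases Nat.lt_or_ge b 9 with hb | hb
        · interval_cases a <;> interval_cases b <;> decide
        · rw [maxProdNoTwo_step b hb, maxProdNoTwo_step (a + b) (by omega)]
          have := ihb (b - 3) (by omega)
          have e : a + b - 3 = a + (b - 3) := by omega
          rw [e]
          calc maxProdNoTwo a * (3 * maxProdNoTwo (b - 3)) = 3 * (maxProdNoTwo a * maxProdNoTwo (b - 3)) := by ring
            _ ≤ 3 * maxProdNoTwo (a + (b - 3)) := Nat.mul_le_mul_left _ this
    · rw [maxProdNoTwo_step a ha, maxProdNoTwo_step (a + b) (by omega)]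
      have := iha (a - 3) (by omega) b
      have e : a + b - 3 = (a - 3) + b := by omega
      rw [e]
      calc 3 * maxProdNoTwo (a - 3) * maxProdNoTwo b = 3 * (maxProdNoTwo (a - 3) * maxProdNoTwo b) := by ring
        _ ≤ 3 * maxProdNoTwo (a - 3 + b) := Nat.mul_le_mul_left _ this

theorem prod_le_maxProdNoTwo_sum {ι : Type*} (s : Finset ι) (f : ι → ℕ) (hf : ∀ i ∈ s, f i ≠ 2) :
    ∏ i ∈ s, f i ≤ maxProdNoTwo (∑ i ∈ s, f i) := by
  classical
  induction s using Finset.induction_on with
  | empty => simp [maxProdNoTwo]
  | insert a s ha ih =>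
    rw [Finset.prod_insert ha, Finset.sum_insert ha]
    calc f a * ∏ i ∈ s, f i ≤ maxProdNoTwo (f a) * maxProdNoTwo (∑ i ∈ s, f i) :=
          Nat.mul_le_mul (le_maxProdNoTwo _ (hf a (Finset.mem_insert_self _ _)))
            (ih (fun i hi => hf i (Finset.mem_insert_of_mem hi)))
      _ ≤ _ := maxProdNoTwo_mul_le _ _

theorem maxProdNoTwo_three_mul_add_two (k : ℕ) (hk : 2 ≤ k) : maxProdNoTwo (3 * k + 2) = 16 * 3 ^ (k - 2) := by
  induction k with
  | zero => omega
  | succ k ih =>
    rcases Nat.lt_or_ge k 2 with h | h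
    · obtain rfl : k = 1 := by omega
      rfl
    · rw [maxProdNoTwo_step _ (by omega), show 3 * (k + 1) + 2 - 3 = 3 * k + 2 by omega, ih h]
      obtain ⟨j, rfl⟩ : ∃ j, k = j + 2 := ⟨k - 2, by omega⟩
      simp only [show j + 2 + 1 - 2 = j + 1 by omega, Nat.add_sub_cancel]
      rw [pow_succ]; ring


open MulAction Classical in
/-- injection of an abelian group into a product of orbits, for a set `S` of orbits whose representatives
are jointly fixed only by the identity -/
theorem card_le_prod_orbits_of_separating {A X : Type*} [Group A] [Fintype A] [MulAction A X]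
    [Fintype X] [Fintype (orbitRel.Quotient A X)]
    (S : Finset (orbitRel.Quotient A X))
    (hS : ∀ a : A, (∀ ω ∈ S, a • ω.out = ω.out) → a = 1) :
    Fintype.card A ≤ ∏ ω ∈ S, Fintype.card (orbit A ω.out) := by
  rw [← Finset.prod_coe_sort, ← Fintype.card_pi]
  apply Fintype.card_le_of_injective (fun (a : A) (ω : S) =>
    (⟨a • (ω : orbitRel.Quotient A X).out, mem_orbit _ _⟩ : orbit A (ω : orbitRel.Quotient A X).out))
  intro a b hab
  have h1 : b⁻¹ * a = 1 := by
    apply hS
    intro ω hω
    have := congrArg Subtype.val (congrFun hab ⟨ω, hω⟩)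
    simp only at this
    rw [mul_smul, this, inv_smul_smul]
  calc a = b * (b⁻¹ * a) := by group
    _ = b := by rw [h1, mul_one]

open MulAction in
theorem smul_eq_of_smul_out_eq {A X : Type*} [Group A] [MulAction A X] (hcomm : ∀ a b : A, a * b = b * a)
    (a : A) (x : X) (h : a • (Quotient.mk'' x : orbitRel.Quotient A X).out = (Quotient.mk'' x : orbitRel.Quotient A X).out) :
    a • x = x := by
  have hx : x ∈ orbit A (Quotient.out (Quotient.mk'' x : orbitRel.Quotient A X)) := by
    have : (Quotient.mk'' (Quotient.out (Quotient.mk'' x : orbitRel.Quotient A X)) : orbitRel.Quotient A X)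
        = Quotient.mk'' x := Quotient.out_eq' _
    rw [Quotient.eq''] at this
    obtain ⟨y, hy⟩ := this
    refine ⟨y⁻¹, ?_⟩
    show y⁻¹ • _ = x
    rw [← hy]
    exact inv_smul_smul y x
  obtain ⟨g, hg⟩ := hx
  rw [← hg]
  show a • g • _ = g • _
  rw [smul_smul, hcomm a g, mul_smul, h]

open MulAction Classical in
theorem sum_card_orbits {A X : Type*} [Group A] [MulAction A X]
    [Fintype X] [Fintype (orbitRel.Quotient A X)] :
    ∑ ω : orbitRel.Quotient A X, Fintype.card (orbit A ω.out) = Fintype.card X := by
  rw [← Fintype.card_sigma]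
  exact (Fintype.card_congr (selfEquivSigmaOrbits A X)).symm

open MulAction Classical in
theorem card_le_of_even {X : Type*} [Fintype X] [DecidableEq X] (A : Subgroup (Equiv.Perm X))
    (hcomm : ∀ a b : A, a * b = b * a) (heven : ∀ a ∈ A, Equiv.Perm.sign a = 1) :
    Nat.card A ≤ max (maxProd (Fintype.card X - 2)) (maxProdNoTwo (Fintype.card X)) := by
  haveI : Fintype A := Fintype.ofFinite _
  haveI : Fintype (orbitRel.Quotient A X) := Quotient.fintype _
  rw [Nat.card_eq_fintype_card]
  have hsum := sum_card_orbits (A := A) (X := X)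
  -- fixing the representative fixes the orbit
  have hfix : ∀ (a : A) (x : X), a • (Quotient.mk'' x : orbitRel.Quotient A X).out =
      (Quotient.mk'' x : orbitRel.Quotient A X).out → a • x = x :=
    fun a x h => smul_eq_of_smul_out_eq hcomm a x h
  by_cases h2 : ∃ ω₀ : orbitRel.Quotient A X, Fintype.card (orbit A ω₀.out) = 2
  · obtain ⟨ω₀, hω₀⟩ := h2
    apply le_trans _ (le_max_left _ _)
    have hsep : ∀ a : A, (∀ ω ∈ Finset.univ.erase ω₀, a • ω.out = ω.out) → a = 1 := by
      intro a ha
      have hω₀' : Nat.card (orbit A ω₀.out) = 2 := by rw [Nat.card_eq_fintype_card]; exact hω₀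
      obtain ⟨p, q, hpq, huniv⟩ := Nat.card_eq_two_iff.mp hω₀'
      have hout : ∀ x : X, x ∉ orbit A ω₀.out → a • x = x := by
        intro x hx
        apply hfix
        apply ha
        rw [Finset.mem_erase]
        refine ⟨?_, Finset.mem_univ _⟩
        intro h
        apply hx
        rw [← h]
        have : (Quotient.mk'' (Quotient.out (Quotient.mk'' x : orbitRel.Quotient A X)) : orbitRel.Quotient A X)
          = Quotient.mk'' x := Quotient.out_eq' _
        rw [Quotient.eq''] at this
        obtain ⟨y, hy⟩ := this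
        refine ⟨y⁻¹, ?_⟩
        show y⁻¹ • _ = x
        rw [← hy]
        exact inv_smul_smul y x
      have hmem : ∀ x : X, x ∈ orbit A ω₀.out → x = p.1 ∨ x = q.1 := by
        intro x hx
        have : (⟨x, hx⟩ : orbit A ω₀.out) ∈ (Set.univ : Set (orbit A ω₀.out)) := Set.mem_univ _
        rw [← huniv] at this
        simp only [Set.mem_insert_iff, Set.mem_singleton_iff] at this
        rcases this with h | h
        · left; exact congrArg Subtype.val h
        · right; exact congrArg Subtype.val h
      have hpq' : p.1 ≠ q.1 := fun h => hpq (Subtype.ext h)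
      have hap : a • p.1 ∈ orbit A ω₀.out := by
        obtain ⟨g, hg⟩ := p.2
        exact ⟨a * g, by rw [← hg]; exact mul_smul a g _⟩
      have haq : a • q.1 ∈ orbit A ω₀.out := by
        obtain ⟨g, hg⟩ := q.2
        exact ⟨a * g, by rw [← hg]; exact mul_smul a g _⟩
      have hinj : a • p.1 ≠ a • q.1 := fun h => hpq' (smul_left_cancel a h)
      rcases hmem _ hap with hp | hp
      · -- a fixes p, so fixes q
        have hq : a • q.1 = q.1 := by
          rcases hmem _ haq with hq | hq
          · exact absurd (hp.trans hq.symm) hinj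
          · exact hq
        apply Subtype.ext
        apply Equiv.ext
        intro x
        show a • x = x
        by_cases hx : x ∈ orbit A ω₀.out
        · rcases hmem x hx with rfl | rfl
          · exact hp
          · exact hq
        · exact hout x hx
      · -- a swaps p and q : odd
        have hq : a • q.1 = p.1 := by
          rcases hmem _ haq with hq | hq
          · exact hq
          · exact absurd (hp.trans hq.symm) hinj
        exfalso
        have hswap : (a : Equiv.Perm X) = Equiv.swap p.1 q.1 := by
          apply Equiv.ext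
          intro x
          show a • x = _
          by_cases hx : x ∈ orbit A ω₀.out
          · rcases hmem x hx with rfl | rfl
            · rw [Equiv.swap_apply_left]; exact hp
            · rw [Equiv.swap_apply_right]; exact hq
          · have h1 : x ≠ p.1 := fun h => hx (h ▸ p.2)
            have h2 : x ≠ q.1 := fun h => hx (h ▸ q.2)
            rw [Equiv.swap_apply_of_ne_of_ne h1 h2]
            exact hout x hx
        have := heven a a.2
        rw [hswap, Equiv.Perm.sign_swap hpq'] at this
        exact absurd this (by decide)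
    have h1 := card_le_prod_orbits_of_separating (A := A) (X := X) (Finset.univ.erase ω₀) hsep
    have h3 : ∑ ω ∈ Finset.univ.erase ω₀, Fintype.card (orbit A ω.out) = Fintype.card X - 2 := by
      rw [← hsum, ← Finset.add_sum_erase Finset.univ _ (Finset.mem_univ ω₀), hω₀]
      omega
    calc Fintype.card A ≤ _ := h1
      _ ≤ maxProd (∑ ω ∈ Finset.univ.erase ω₀, Fintype.card (orbit A ω.out)) := prod_le_maxProd_sum _ _
      _ = _ := by rw [h3]
  · push Not at h2
    apply le_trans _ (le_max_right _ _)
    have hsep : ∀ a : A, (∀ ω ∈ (Finset.univ : Finset (orbitRel.Quotient A X)), a • ω.out = ω.out) → a = 1 := by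
      intro a ha
      apply Subtype.ext
      apply Equiv.ext
      intro x
      show a • x = x
      exact hfix a x (ha _ (Finset.mem_univ _))
    have h1 := card_le_prod_orbits_of_separating (A := A) (X := X) Finset.univ hsep
    calc Fintype.card A ≤ _ := h1
      _ ≤ maxProdNoTwo (∑ ω : orbitRel.Quotient A X, Fintype.card (orbit A ω.out)) :=
          prod_le_maxProdNoTwo_sum _ _ (fun ω _ => h2 ω)
      _ = _ := by rw [hsum]

theorem exists_comm_subgroup_alt_of_hom {B X : Type*} [CommGroup B] [Fintype B] [Fintype X] [DecidableEq X]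
    (ψ : B →* Equiv.Perm X) (hψ : Function.Injective ψ) (heven : ∀ b, Equiv.Perm.sign (ψ b) = 1)
    (n : ℕ) (hn : Fintype.card X = n) :
    ∃ A : Subgroup (alternatingGroup (Fin n)), IsMulCommutative A ∧ Nat.card A = Fintype.card B := by
  classical
  let e : X ≃ Fin n := Fintype.equivFinOfCardEq hn
  let ψ' : B →* Equiv.Perm (Fin n) := e.permCongrHom.toMonoidHom.comp ψ
  have hinj : Function.Injective ψ' := e.permCongrHom.injective.comp hψ
  have hmem : ∀ b, ψ' b ∈ alternatingGroup (Fin n) := by
    intro b
    rw [Equiv.Perm.mem_alternatingGroup]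
    show Equiv.Perm.sign (e.permCongr (ψ b)) = 1
    rw [Equiv.Perm.sign_permCongr]
    exact heven b
  let ψ'' : B →* alternatingGroup (Fin n) := ψ'.codRestrict _ hmem
  have hinj'' : Function.Injective ψ'' := by
    intro a b h
    apply hinj
    exact congrArg Subtype.val h
  refine ⟨ψ''.range, inferInstance, ?_⟩
  rw [← Nat.card_eq_fintype_card]
  exact Nat.card_congr (MonoidHom.ofInjective hinj'').toEquiv.symm

section constr2
variable (a b : ℕ)

abbrev V4 := ZMod 2 × ZMod 2

def altShift (v : (Fin a → ZMod 3) × (Fin b → V4)) : Equiv.Perm ((Fin a × ZMod 3) ⊕ (Fin b × V4)) :=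
  Equiv.Perm.sumCongr (Equiv.prodCongrRight fun i => Equiv.addRight (v.1 i))
    (Equiv.prodCongrRight fun i => Equiv.addRight (v.2 i))

theorem sign_addRight_zmod3 (c : ZMod 3) : Equiv.Perm.sign (Equiv.addRight c) = 1 := by
  revert c; decide

theorem sign_addRight_V4 (c : V4) : Equiv.Perm.sign (Equiv.addRight c) = 1 := by
  revert c; decide

theorem sign_altShift (v : (Fin a → ZMod 3) × (Fin b → V4)) : Equiv.Perm.sign (altShift a b v) = 1 := by
  unfold altShift
  rw [Equiv.Perm.sign_sumCongr, Equiv.Perm.sign_prodCongrRight, Equiv.Perm.sign_prodCongrRight]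
  simp only [sign_addRight_zmod3, sign_addRight_V4, Finset.prod_const_one, mul_one]

def altShiftHom : Multiplicative ((Fin a → ZMod 3) × (Fin b → V4)) →* Equiv.Perm ((Fin a × ZMod 3) ⊕ (Fin b × V4)) where
  toFun v := altShift a b v.toAdd
  map_one' := by
    ext x
    rcases x with ⟨i, x⟩ | ⟨i, y⟩ <;> simp [altShift]
  map_mul' v w := by
    ext x
    rcases x with ⟨i, x⟩ | ⟨i, y⟩ <;> simp [altShift, add_comm, add_left_comm, add_assoc]

theorem altShiftHom_injective : Function.Injective (altShiftHom a b) := by
  intro v w h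
  have h1 : ∀ x, altShift a b v.toAdd x = altShift a b w.toAdd x := fun x => congrArg (fun f => f x) h
  apply Multiplicative.toAdd.injective
  apply Prod.ext
  · funext i
    have := h1 (Sum.inl (i, 0))
    simpa [altShift] using this
  · funext i
    have := h1 (Sum.inr (i, 0))
    simpa [altShift] using this

theorem exists_comm_subgroup_alt_card : ∃ A : Subgroup (alternatingGroup (Fin (3 * a + 4 * b))),
    IsMulCommutative A ∧ Nat.card A = 3 ^ a * 4 ^ b := by
  classical
  obtain ⟨A, hA, hcard⟩ := exists_comm_subgroup_alt_of_hom (altShiftHom a b) (altShiftHom_injective a b)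
    (fun v => sign_altShift a b v.toAdd) (3 * a + 4 * b)
    (by simp [Fintype.card_sum, Fintype.card_prod, ZMod.card]; ring)
  refine ⟨A, hA, ?_⟩
  rw [hcard]
  simp [Fintype.card_prod, Fintype.card_pi, ZMod.card]

end constr2

end Cfsg.Agent.Lib.Helper15
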