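import Mathlib
import Cfsg.Agent.Lib.Helper15.PSL2Orders4

set_option autoImplicit false

namespace Cfsg.Agent.Lib.Helper15.Aff

section defs
variable {K : Type*} [Field K]

/-- multiplication by a unit, as an automorphism of the additive group written multiplicatively -/
def affAut (ζ : Kˣ) : MulAut (Multiplicative K) where
  toFun x := Multiplicative.ofAdd ((ζ : K) * Multiplicative.toAdd x)
  invFun x := Multiplicative.ofAdd (((ζ⁻¹ : Kˣ) : K) * Multiplicative.toAdd x)
  left_inv x := by simp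
  right_inv x := by simp
  map_mul' x y := by simp [mul_add]

theorem affAut_apply (ζ : Kˣ) (x : Multiplicative K) :
    affAut ζ x = Multiplicative.ofAdd ((ζ : K) * Multiplicative.toAdd x) := rfl

/-- the action as a homomorphism -/
def affHom : Kˣ →* MulAut (Multiplicative K) where
  toFun := affAut
  map_one' := by
    apply MulEquiv.ext; intro x; rw [affAut_apply]; simp
  map_mul' a b := by
    apply MulEquiv.ext; intro x
    rw [MulAut.mul_apply, affAut_apply, affAut_apply, affAut_apply]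
    simp [mul_assoc]

/-- the affine group `K ⋊ μ` -/
abbrev AffGrp (μ : Subgroup Kˣ) : Type _ :=
  SemidirectProduct (Multiplicative K) ↥μ ((affHom (K := K)).comp μ.subtype)

instance (μ : Subgroup Kˣ) [Finite K] : Finite (AffGrp μ) :=
  Finite.of_equiv _ (SemidirectProduct.equivProd).symm

theorem isSolvable_affGrp (μ : Subgroup Kˣ) : Group.IsSolvable (AffGrp μ) := by
  apply Group.isSolvable_of_ker_le_range (SemidirectProduct.inl : Multiplicative K →* AffGrp μ)
    (SemidirectProduct.rightHom : AffGrp μ →* ↥μ)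
  rw [SemidirectProduct.range_inl_eq_ker_rightHom]

theorem conj_eq (μ : Subgroup Kˣ) (a : K) (ζ : ↥μ) (hζ : (ζ : Kˣ) ≠ 1) :
    (⟨Multiplicative.ofAdd a, ζ⟩ : AffGrp μ) =
      MulAut.conj (SemidirectProduct.inl (Multiplicative.ofAdd (a / (1 - ((ζ : Kˣ) : K)))) : AffGrp μ)
        (SemidirectProduct.inr ζ) := by
  have h1 : (1 - ((ζ : Kˣ) : K)) ≠ 0 := by
    intro h
    apply hζ
    apply Units.ext
    rw [Units.val_one]
    exact (sub_eq_zero.1 h).symm
  rw [MulAut.conj_apply]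
  apply SemidirectProduct.ext
  · simp only [SemidirectProduct.mul_left, SemidirectProduct.mul_right, SemidirectProduct.inv_left,
      SemidirectProduct.left_inl, SemidirectProduct.right_inl, SemidirectProduct.left_inr,
      SemidirectProduct.right_inr, map_one, mul_one, one_mul, inv_one,
      MonoidHom.comp_apply, Subgroup.coe_subtype, MulAut.one_apply]
    show Multiplicative.ofAdd a = _ * affAut (ζ : Kˣ) _
    rw [affAut_apply]
    apply Multiplicative.toAdd.injective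
    simp only [toAdd_mul, toAdd_ofAdd, toAdd_inv]
    field_simp
    ring
  · simp

theorem orderOf_mk (μ : Subgroup Kˣ) (a : K) (ζ : ↥μ) (hζ : (ζ : Kˣ) ≠ 1) :
    orderOf (⟨Multiplicative.ofAdd a, ζ⟩ : AffGrp μ) = orderOf ζ := by
  rw [conj_eq μ a ζ hζ, MulEquiv.orderOf_eq,
    orderOf_injective (SemidirectProduct.inr : ↥μ →* AffGrp μ) SemidirectProduct.inr_injective]

theorem orderOf_mk_one (μ : Subgroup Kˣ) (a : K) :
    orderOf (⟨Multiplicative.ofAdd a, 1⟩ : AffGrp μ) = addOrderOf a := by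
  have : (⟨Multiplicative.ofAdd a, 1⟩ : AffGrp μ) = SemidirectProduct.inl (Multiplicative.ofAdd a) := rfl
  rw [this, orderOf_injective (SemidirectProduct.inl : Multiplicative K →* AffGrp μ)
    SemidirectProduct.inl_injective, orderOf_ofAdd_eq_addOrderOf]

end defs

section spectrum
variable {K : Type*} [Field K] [Finite K]

theorem range_orderOf_aff (p : ℕ) [Fact p.Prime] [CharP K p] (μ : Subgroup Kˣ) :
    Set.range (orderOf : AffGrp μ → ℕ) = {k : ℕ | k ∣ p ∨ k ∣ Nat.card μ} := by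
  ext k
  constructor
  · rintro ⟨⟨n, ζ⟩, rfl⟩
    by_cases hζ : (ζ : Kˣ) = 1
    · left
      have : ζ = 1 := Subtype.ext hζ
      subst this
      change orderOf (⟨Multiplicative.ofAdd (Multiplicative.toAdd n), 1⟩ : AffGrp μ) ∣ p
      rw [orderOf_mk_one]
      apply addOrderOf_dvd_of_nsmul_eq_zero
      rw [nsmul_eq_mul, CharP.cast_eq_zero, zero_mul]
    · right
      change orderOf (⟨Multiplicative.ofAdd (Multiplicative.toAdd n), ζ⟩ : AffGrp μ) ∣ Nat.card μ
      rw [orderOf_mk μ _ ζ hζ]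
      exact orderOf_dvd_natCard ζ
  · rintro (hk | hk)
    · rcases (Nat.dvd_prime (Fact.out : p.Prime)).1 hk with rfl | rfl
      · exact ⟨1, orderOf_one⟩
      · refine ⟨⟨Multiplicative.ofAdd 1, 1⟩, ?_⟩
        rw [orderOf_mk_one]
        exact CharP.eq K (CharP.addOrderOf_one K) inferInstance
    · have hcyc : IsCyclic ↥μ := inferInstance
      obtain ⟨g, hg⟩ := hcyc.exists_generator
      have hog : orderOf g = Nat.card μ := orderOf_eq_card_of_forall_mem_zpowers hg
      obtain ⟨y, hy⟩ := Cfsg.Agent.Lib.Helper15.exists_orderOf_of_dvd g k (by rw [hog]; exact hk)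
        (by rw [hog]; exact Nat.card_pos)
      refine ⟨SemidirectProduct.inr y, ?_⟩
      rw [orderOf_injective (SemidirectProduct.inr : ↥μ →* AffGrp μ) SemidirectProduct.inr_injective, hy]

theorem exists_subgroup_card (m : ℕ) (hm : m ∣ Nat.card K - 1) :
    ∃ μ : Subgroup Kˣ, Nat.card μ = m := by
  have hcyc : IsCyclic Kˣ := inferInstance
  obtain ⟨g, hg⟩ := hcyc.exists_generator
  have hog : orderOf g = Nat.card K - 1 := by
    rw [orderOf_eq_card_of_forall_mem_zpowers hg, Nat.card_units]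
  obtain ⟨y, hy⟩ := Cfsg.Agent.Lib.Helper15.exists_orderOf_of_dvd g m (by rw [hog]; exact hm)
    (by rw [hog]; have := Finite.one_lt_card (α := K); omega)
  exact ⟨Subgroup.zpowers y, by rw [Nat.card_zpowers, hy]⟩

end spectrum

section prod

theorem range_orderOf_prod {A B : Type*} [Group A] [Group B] :
    Set.range (orderOf : A × B → ℕ) =
      {k : ℕ | ∃ a ∈ Set.range (orderOf : A → ℕ), ∃ b ∈ Set.range (orderOf : B → ℕ), k = Nat.lcm a b} := by
  ext k
  constructor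
  · rintro ⟨⟨x, y⟩, rfl⟩
    exact ⟨_, ⟨x, rfl⟩, _, ⟨y, rfl⟩, Prod.orderOf _⟩
  · rintro ⟨_, ⟨x, rfl⟩, _, ⟨y, rfl⟩, rfl⟩
    exact ⟨(x, y), Prod.orderOf _⟩

/-- the arithmetic behind the equality of spectra -/
theorem lcm_sets_eq (p m₁ m₂ : ℕ) :
    {k : ℕ | ∃ a ∈ {k : ℕ | k ∣ p ∨ k ∣ m₁}, ∃ b ∈ {k : ℕ | k ∣ p ∨ k ∣ m₂}, k = Nat.lcm a b} =
    {k : ℕ | ∃ a ∈ {k : ℕ | k ∣ p ∨ k ∣ m₁ ∨ k ∣ m₂}, ∃ b ∈ {k : ℕ | k ∣ p ∨ k ∣ m₁ ∨ k ∣ m₂},
      k = Nat.lcm a b} := by
  ext k
  simp only [Set.mem_ofPred_eq]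
  constructor
  · rintro ⟨a, ha, b, hb, rfl⟩
    refine ⟨a, ?_, b, ?_, rfl⟩
    · rcases ha with h | h
      · exact Or.inl h
      · exact Or.inr (Or.inl h)
    · rcases hb with h | h
      · exact Or.inl h
      · exact Or.inr (Or.inr h)
  · rintro ⟨a, ha, b, hb, rfl⟩
    rcases ha with ha | ha | ha <;> rcases hb with hb | hb | hb
    · exact ⟨Nat.lcm a b, Or.inl (Nat.lcm_dvd ha hb), 1, Or.inl (one_dvd _), (Nat.lcm_one_right _).symm⟩
    · exact ⟨b, Or.inr hb, a, Or.inl ha, Nat.lcm_comm _ _⟩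
    · exact ⟨a, Or.inl ha, b, Or.inr hb, rfl⟩
    · exact ⟨a, Or.inr ha, b, Or.inl hb, rfl⟩
    · exact ⟨Nat.lcm a b, Or.inr (Nat.lcm_dvd ha hb), 1, Or.inl (one_dvd _), (Nat.lcm_one_right _).symm⟩
    · exact ⟨a, Or.inr ha, b, Or.inr hb, rfl⟩
    · exact ⟨b, Or.inl hb, a, Or.inr ha, Nat.lcm_comm _ _⟩
    · exact ⟨b, Or.inr hb, a, Or.inr ha, Nat.lcm_comm _ _⟩
    · exact ⟨1, Or.inl (one_dvd _), Nat.lcm a b, Or.inr (Nat.lcm_dvd ha hb), (Nat.lcm_one_left _).symm⟩

end prod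

section final
open Matrix

/-- a solvable group with the spectrum of `PSL₂(q) × PSL₂(q)` -/
theorem exists_solvable_same_spectrum {F : Type*} [Field F] [Fintype F] (hF : 4 ≤ Fintype.card F) :
    ∃ (H : Type) (_ : Group H) (_ : Finite H), Group.IsSolvable H ∧
      Set.range (orderOf : H → ℕ) = Set.range (orderOf :
        ProjectiveSpecialLinearGroup (Fin 2) F × ProjectiveSpecialLinearGroup (Fin 2) F → ℕ) := by
  obtain ⟨p, hchar⟩ := CharP.exists F
  have hpr : p.Prime := CharP.char_is_prime F p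
  have : Fact p.Prime := ⟨hpr⟩
  obtain ⟨f, -, hf⟩ := FiniteField.card F p
  set q := Fintype.card F with hq
  have hK : Nat.card (GaloisField p (2 * (f : ℕ))) = q ^ 2 := by
    rw [GaloisField.card p (2 * (f : ℕ)) (by positivity), hf, ← pow_mul, mul_comm]
  have hfinK : Finite (GaloisField p (2 * (f : ℕ))) := Nat.finite_of_card_ne_zero (by rw [hK]; positivity)
  have hsq : q ^ 2 - 1 = (q - 1) * (q + 1) := by
    obtain ⟨k, hk⟩ : ∃ k, q = k + 1 := ⟨q - 1, by omega⟩
    rw [hk]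
    have : (k + 1) ^ 2 = k * (k + 1 + 1) + 1 := by ring
    rw [this, Nat.add_sub_cancel, Nat.add_sub_cancel]
  have hd1 : Nat.gcd 2 (q - 1) ∣ q - 1 := Nat.gcd_dvd_right _ _
  have hd2 : Nat.gcd 2 (q - 1) ∣ q + 1 := by
    have : q + 1 = (q - 1) + 2 := by omega
    rw [this]
    exact Nat.dvd_add hd1 (Nat.gcd_dvd_left _ _)
  have h1 : (q - 1) / Nat.gcd 2 (q - 1) ∣ Nat.card (GaloisField p (2 * (f : ℕ))) - 1 := by
    rw [hK, hsq]
    exact Dvd.dvd.mul_right (Nat.div_dvd_of_dvd hd1) _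
  have h2 : (q + 1) / Nat.gcd 2 (q - 1) ∣ Nat.card (GaloisField p (2 * (f : ℕ))) - 1 := by
    rw [hK, hsq]
    exact Dvd.dvd.mul_left (Nat.div_dvd_of_dvd hd2) _
  obtain ⟨μ₁, hμ₁⟩ := exists_subgroup_card (K := GaloisField p (2 * (f : ℕ))) _ h1
  obtain ⟨μ₂, hμ₂⟩ := exists_subgroup_card (K := GaloisField p (2 * (f : ℕ))) _ h2
  have hs1 := isSolvable_affGrp μ₁
  have hs2 := isSolvable_affGrp μ₂
  refine ⟨AffGrp μ₁ × AffGrp μ₂, inferInstance, inferInstance, inferInstance, ?_⟩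
  rw [range_orderOf_prod, range_orderOf_prod, range_orderOf_aff p μ₁, range_orderOf_aff p μ₂, hμ₁, hμ₂,
    Cfsg.Agent.Lib.Helper15.range_orderOf_psl p hF]
  exact lcm_sets_eq p _ _

end final

end Cfsg.Agent.Lib.Helper15.Aff
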