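import Mathlib

set_option autoImplicit false

namespace Cfsg.Agent.Lib.Helper15

open Equiv Equiv.Perm

/-- Element orders of the alternating group in terms of cycle types. -/
theorem mem_range_orderOf_alt_iff (n k : ℕ) :
    k ∈ Set.range (orderOf : alternatingGroup (Fin n) → ℕ) ↔
      ∃ m : Multiset ℕ, m.sum ≤ n ∧ (∀ a ∈ m, 2 ≤ a) ∧ Even (m.sum + Multiset.card m) ∧ m.lcm = k := by
  constructor
  · rintro ⟨g, rfl⟩
    refine ⟨(g : Perm (Fin n)).cycleType, ?_, fun a ha => two_le_of_mem_cycleType ha, ?_, ?_⟩
    · have := sum_cycleType_le (g : Perm (Fin n))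
      simpa using this
    · have hs : Perm.sign (g : Perm (Fin n)) = 1 := Equiv.Perm.mem_alternatingGroup.mp g.2
      rw [sign_of_cycleType] at hs
      by_contra hodd
      rw [Nat.not_even_iff_odd] at hodd
      rw [hodd.neg_one_pow] at hs
      exact absurd hs (by decide)
    · rw [lcm_cycleType, Subgroup.orderOf_coe]
  · rintro ⟨m, hsum, h2, heven, rfl⟩
    obtain ⟨g, hg⟩ := (exists_with_cycleType_iff (Fin n)).mpr ⟨by simpa using hsum, h2⟩
    have hs : Perm.sign g = 1 := by
      rw [sign_of_cycleType, hg, heven.neg_one_pow]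
    refine ⟨⟨g, Equiv.Perm.mem_alternatingGroup.mpr hs⟩, ?_⟩
    rw [← hg, lcm_cycleType, ← Subgroup.orderOf_coe]

/-- A prime dividing the lcm of a multiset divides one of its members. -/
theorem exists_mem_dvd_of_prime_dvd_lcm {p : ℕ} (hp : p.Prime) (m : Multiset ℕ) (h : p ∣ m.lcm) :
    ∃ a ∈ m, p ∣ a := by
  induction m using Multiset.induction_on with
  | empty =>
    simp at h
    exact absurd h hp.one_lt.ne'
  | cons a m ih =>
    rw [Multiset.lcm_cons] at h
    rcases (Nat.Prime.prime hp).dvd_lcm.mp h with h1 | h1
    · exact ⟨a, Multiset.mem_cons_self a m, h1⟩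
    · obtain ⟨b, hb, hpb⟩ := ih h1
      exact ⟨b, Multiset.mem_cons_of_mem hb, hpb⟩

/-- Parity of `sum + card` is the parity of the number of even members. -/
theorem even_sum_add_card_iff (m : Multiset ℕ) :
    Even (m.sum + Multiset.card m) ↔ Even (Multiset.card (m.filter (fun a => Even a))) := by
  induction m using Multiset.induction_on with
  | empty => simp
  | cons a m ih =>
    rw [Multiset.sum_cons, Multiset.card_cons, Multiset.filter_cons]
    have e1 : a + m.sum + (Multiset.card m + 1) = (m.sum + Multiset.card m) + (a + 1) := by ring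
    rw [e1, Nat.even_add, ih]
    by_cases ha : Even a
    · simp only [ha, if_true, Multiset.singleton_add, Multiset.card_cons]
      have : ¬ Even (a + 1) := by
        rw [Nat.even_add_one]; simpa using ha
      simp only [this, iff_false]
      rw [Nat.even_add_one]
    · simp only [ha, if_false, Multiset.zero_add]
      have : Even (a + 1) := by
        rw [Nat.even_add_one]; exact ha
      simp only [this, iff_true]

/-- The sum of a multiset whose members are all at least `c`. -/
theorem card_mul_le_sum (m : Multiset ℕ) (c : ℕ) (h : ∀ a ∈ m, c ≤ a) : Multiset.card m * c ≤ m.sum := by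
  induction m using Multiset.induction_on with
  | empty => simp
  | cons a m ih =>
    rw [Multiset.sum_cons, Multiset.card_cons]
    have h1 := h a (Multiset.mem_cons_self a m)
    have h2 := ih (fun b hb => h b (Multiset.mem_cons_of_mem hb))
    nlinarith

end Cfsg.Agent.Lib.Helper15
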