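import Mathlib
import Cfsg.Agent.Lib.Helper15.BC2
import Cfsg.Agent.Lib.Helper13.AltRank

/-!
# S2474, part 5: cutting an isometry along the eigenspaces of a commuting involution;
parity of the image of `g - 1`
-/

set_option autoImplicit false

namespace Cfsg.Agent.Lib.Helper15.BC

open Module

section cut

variable {F V : Type*} [Field F] [AddCommGroup V] [Module F V]

/-- the projection `(1 + a) / 2` onto the fixed space of an involution `a` -/
noncomputable def prj (a : Module.End F V) : Module.End F V := (2⁻¹ : F) • (1 + a)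

/-- `b` on the fixed space of the involution `a`, the identity on the `(-1)`-eigenspace -/
noncomputable def cut (a b : Module.End F V) : Module.End F V := (1 - prj a) + b * prj a

variable {a b : Module.End F V}

theorem prj_mul_self (h2 : (2 : F) ≠ 0) (ha : a * a = 1) : prj a * prj a = prj a := by
  unfold prj
  rw [smul_mul_smul_comm, mul_add, add_mul, add_mul, one_mul, mul_one, one_mul, ha]
  have : (1 : Module.End F V) + a + (a + 1) = (2 : F) • (1 + a) := by
    rw [two_smul]; abel
  rw [this, smul_smul]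
  congr 1
  field_simp

theorem a_mul_prj (ha : a * a = 1) : a * prj a = prj a := by
  unfold prj
  rw [mul_smul_comm, mul_add, mul_one, ha, add_comm]

theorem prj_comm (hab : a * b = b * a) : prj a * b = b * prj a := by
  unfold prj
  rw [smul_mul_assoc, mul_smul_comm, add_mul, mul_add, one_mul, mul_one, hab]

theorem one_sub_prj_mul_prj (h2 : (2 : F) ≠ 0) (ha : a * a = 1) : (1 - prj a) * prj a = 0 := by
  rw [sub_mul, one_mul, prj_mul_self h2 ha, sub_self]

theorem prj_mul_one_sub_prj (h2 : (2 : F) ≠ 0) (ha : a * a = 1) : prj a * (1 - prj a) = 0 := by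
  rw [mul_sub, mul_one, prj_mul_self h2 ha, sub_self]

theorem one_sub_prj_sq (h2 : (2 : F) ≠ 0) (ha : a * a = 1) :
    (1 - prj a) * (1 - prj a) = 1 - prj a := by
  rw [mul_sub, mul_one, one_sub_prj_mul_prj h2 ha, sub_zero]

theorem cut_pow (h2 : (2 : F) ≠ 0) (ha : a * a = 1) (hab : a * b = b * a) (k : ℕ) :
    cut a b ^ k = (1 - prj a) + b ^ k * prj a := by
  induction k with
  | zero =>
    rw [pow_zero, pow_zero, one_mul, sub_add_cancel]
  | succ k ih =>
    rw [pow_succ, ih]
    unfold cut
    have hc := prj_comm hab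
    have h1 : (1 - prj a) * (b * prj a) = 0 := by
      rw [← mul_assoc, sub_mul, one_mul, hc, sub_mul, mul_assoc, prj_mul_self h2 ha, sub_self]
    have h3 : b ^ k * prj a * (1 - prj a) = 0 := by
      rw [mul_assoc, prj_mul_one_sub_prj h2 ha, mul_zero]
    have h4 : b ^ k * prj a * (b * prj a) = b ^ (k + 1) * prj a := by
      rw [mul_assoc, ← mul_assoc (prj a) b, hc, mul_assoc b, prj_mul_self h2 ha, ← mul_assoc,
        ← pow_succ]
    rw [mul_add, add_mul, add_mul, one_sub_prj_sq h2 ha, h1, h3, h4, add_zero, zero_add]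

theorem cut_pow_eq_one (h2 : (2 : F) ≠ 0) (ha : a * a = 1) (hab : a * b = b * a) (k : ℕ)
    (hb : b ^ k = 1) : cut a b ^ k = 1 := by
  rw [cut_pow h2 ha hab, hb, one_mul, sub_add_cancel]

theorem cut_comm_left (hab : a * b = b * a) : a * cut a b = cut a b * a := by
  have h1 : a * prj a = prj a * a := by
    unfold prj
    rw [mul_smul_comm, smul_mul_assoc, mul_add, add_mul, mul_one, one_mul]
  unfold cut
  rw [mul_add, add_mul, mul_sub, sub_mul, mul_one, one_mul, h1, ← mul_assoc, hab, mul_assoc, h1,
    mul_assoc]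

theorem cut_comm_right (hab : a * b = b * a) : b * cut a b = cut a b * b := by
  have hc := prj_comm hab
  unfold cut
  rw [mul_add, add_mul, mul_sub, sub_mul, mul_one, one_mul, hc, mul_assoc, hc]

/-- a map commuting with `a` and `b` commutes with the cut -/
theorem cut_comm_of (c : Module.End F V) (hca : c * a = a * c) (hcb : c * b = b * c) :
    c * cut a b = cut a b * c := by
  have h1 : c * prj a = prj a * c := by
    unfold prj
    rw [mul_smul_comm, smul_mul_assoc, mul_add, add_mul, mul_one, one_mul, hca]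
  unfold cut
  rw [mul_add, add_mul, mul_sub, sub_mul, mul_one, one_mul, h1, ← mul_assoc, hcb, mul_assoc, h1,
    mul_assoc]

theorem neg_mul_neg_self (ha : a * a = 1) : (-a) * (-a) = 1 := by
  rw [neg_mul_neg, ha]

theorem prj_neg (h2 : (2 : F) ≠ 0) (a : Module.End F V) : prj (-a) = 1 - prj a := by
  unfold prj
  have h1 : (1 : Module.End F V) = (2⁻¹ : F) • (1 : Module.End F V) + (2⁻¹ : F) • 1 := by
    rw [← add_smul]
    have : (2⁻¹ : F) + 2⁻¹ = 1 := by field_simp; norm_num
    rw [this, one_smul]
  rw [smul_add, smul_add, smul_neg]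
  nth_rewrite 2 [h1]
  abel

theorem cut_mul_cut_neg (h2 : (2 : F) ≠ 0) (ha : a * a = 1) (hab : a * b = b * a) :
    cut a b * cut (-a) b = b := by
  have hc := prj_comm hab
  unfold cut
  rw [prj_neg h2 a, sub_sub_cancel]
  have h1 : (1 - prj a) * prj a = 0 := one_sub_prj_mul_prj h2 ha
  have h3 : (1 - prj a) * (b * (1 - prj a)) = b * (1 - prj a) := by
    have : (1 - prj a) * b = b * (1 - prj a) := by
      rw [sub_mul, mul_sub, one_mul, mul_one, hc]
    rw [← mul_assoc, this, mul_assoc, one_sub_prj_sq h2 ha]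
  have h4 : b * prj a * prj a = b * prj a := by
    rw [mul_assoc, prj_mul_self h2 ha]
  have h5 : b * prj a * (b * (1 - prj a)) = 0 := by
    rw [mul_assoc, ← mul_assoc (prj a) b, hc, mul_assoc b, prj_mul_one_sub_prj h2 ha, mul_zero,
      mul_zero]
  rw [mul_add, add_mul, add_mul, h1, h3, h4, h5, zero_add, add_zero, ← mul_add, add_comm,
    sub_add_cancel, mul_one]

theorem a_mul_one_sub_prj (h2 : (2 : F) ≠ 0) (ha : a * a = 1) :
    a * (1 - prj a) = -(1 - prj a) := by
  have h1 : a = (2 : F) • prj a - 1 := by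
    unfold prj
    rw [smul_smul, mul_inv_cancel₀ h2, one_smul, add_sub_cancel_left]
  rw [mul_sub, mul_one, a_mul_prj ha]
  nth_rewrite 1 [h1]
  rw [two_smul]
  abel

/-- the two eigenspaces of an isometric involution are orthogonal -/
theorem orth_prj {B : V →ₗ[F] V →ₗ[F] F} (h2 : (2 : F) ≠ 0) (ha : a * a = 1) (hB : IsIso B a)
    (x y : V) : B (prj a x) ((1 - prj a) y) = 0 := by
  have h1 := hB (prj a x) ((1 - prj a) y)
  rw [← Module.End.mul_apply a (prj a), ← Module.End.mul_apply a (1 - prj a), a_mul_prj ha,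
    a_mul_one_sub_prj h2 ha, LinearMap.neg_apply, map_neg] at h1
  have h3 : (2 : F) * B (prj a x) ((1 - prj a) y) = 0 := by
    rw [two_mul]
    nth_rewrite 1 [← h1]
    rw [neg_add_cancel]
  exact (mul_eq_zero.mp h3).resolve_left h2

theorem orth_prj' {B : V →ₗ[F] V →ₗ[F] F} (h2 : (2 : F) ≠ 0) (ha : a * a = 1) (hB : IsIso B a)
    (x y : V) : B ((1 - prj a) x) (prj a y) = 0 := by
  have h1 := hB ((1 - prj a) x) (prj a y)
  rw [← Module.End.mul_apply a (prj a), ← Module.End.mul_apply a (1 - prj a), a_mul_prj ha,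
    a_mul_one_sub_prj h2 ha, LinearMap.neg_apply, map_neg, LinearMap.neg_apply] at h1
  have h3 : (2 : F) * B ((1 - prj a) x) (prj a y) = 0 := by
    rw [two_mul]
    nth_rewrite 1 [← h1]
    rw [neg_add_cancel]
  exact (mul_eq_zero.mp h3).resolve_left h2

/-- the cut of an isometry is an isometry -/
theorem cut_isIso {B : V →ₗ[F] V →ₗ[F] F} (h2 : (2 : F) ≠ 0) (ha : a * a = 1)
    (hab : a * b = b * a) (hBa : IsIso B a) (hBb : IsIso B b) : IsIso B (cut a b) := by
  intro x y
  have hc := prj_comm hab
  have e1 : ∀ z, cut a b z = (1 - prj a) z + prj a (b z) := by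
    intro z
    unfold cut
    rw [LinearMap.add_apply, ← hc, Module.End.mul_apply]
  have e2 : ∀ z, z = (1 - prj a) z + prj a z := by
    intro z
    rw [LinearMap.sub_apply, Module.End.one_apply, sub_add_cancel]
  have e3 : ∀ z, b (prj a z) = prj a (b z) := by
    intro z
    rw [← Module.End.mul_apply, ← hc, Module.End.mul_apply]
  have key : ∀ u u' v v' : V, B u v' = 0 → B u' v = 0 →
      B (u + u') (v + v') = B u v + B u' v' := by
    intro u u' v v' h1 h3
    simp only [map_add, LinearMap.add_apply, h1, h3, add_zero, zero_add]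
  rw [e1, e1, key _ _ _ _ (orth_prj' h2 ha hBa _ _) (orth_prj h2 ha hBa _ _), ← e3, ← e3, hBb]
  nth_rewrite 3 [e2 x]
  nth_rewrite 3 [e2 y]
  rw [key _ _ _ _ (orth_prj' h2 ha hBa _ _) (orth_prj h2 ha hBa _ _)]

/-- the image of `cut a b - 1` lies in the fixed space of `a` -/
theorem fixed_of_mem_range_cut (ha : a * a = 1) (hab : a * b = b * a) (x : V)
    (hx : x ∈ LinearMap.range (cut a b - 1)) : a x = x := by
  obtain ⟨w, rfl⟩ := hx
  have h1 : cut a b - 1 = prj a * (b - 1) := by
    unfold cut
    rw [mul_sub, mul_one, prj_comm hab]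
    abel
  rw [h1, Module.End.mul_apply, ← Module.End.mul_apply a, a_mul_prj ha]

/-- the image of `cut a b - 1` lies in the image of `b - 1` -/
theorem range_cut_le (a b : Module.End F V) :
    LinearMap.range (cut a b - 1) ≤ LinearMap.range (b - 1) := by
  rintro _ ⟨w, rfl⟩
  have h1 : cut a b - 1 = (b - 1) * prj a := by
    unfold cut
    rw [sub_mul, one_mul]
    abel
  rw [h1, Module.End.mul_apply]
  exact ⟨_, rfl⟩

end cut

section parity

variable {F V : Type*} [Field F] [AddCommGroup V] [Module F V] [FiniteDimensional F V]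

/-- a nondegenerate alternating form lives in even dimension -/
theorem even_finrank_of_alt {B : V →ₗ[F] V →ₗ[F] F} (halt : ∀ x, B x x = 0) (hnd : Nondeg B) :
    Even (finrank F V) := by
  have hskew : ∀ x y, B x y = -B y x := by
    intro x y
    have h := halt (x + y)
    simp only [map_add, LinearMap.add_apply, halt, zero_add, add_zero] at h
    rw [add_comm] at h
    exact eq_neg_of_add_eq_zero_left h
  have h := Cfsg.Agent.Lib.Helper13.even_finrank_sub_radical B halt ⊥ (by
    intro x
    rw [Submodule.mem_bot]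
    constructor
    · rintro rfl y
      rw [map_zero]
    · intro h
      apply hnd
      intro y
      rw [hskew, h y, neg_zero])
  rw [finrank_bot, Nat.sub_zero] at h
  exact h

omit [FiniteDimensional F V] in
theorem alt_of_epsSym_neg_one {B : V →ₗ[F] V →ₗ[F] F} (h2 : (2 : F) ≠ 0)
    (h : EpsSym B (-1)) (x : V) : B x x = 0 := by
  have h1 := h x x
  have h3 : (2 : F) * B x x = 0 := by
    rw [two_mul]
    nth_rewrite 1 [h1]
    ring
  exact (mul_eq_zero.mp h3).resolve_left h2

/-- for a symmetric form, the image of `g - 1` has even dimension (`g` of odd order prime to the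
characteristic) -/
theorem even_finrank_range_sym {B : V →ₗ[F] V →ₗ[F] F} (h2 : (2 : F) ≠ 0) (hε : EpsSym B 1)
    (hnd : Nondeg B) {g : Module.End F V} (hg : IsIso B g) (m : ℕ) (hm : g ^ m = 1)
    (hodd : Odd m) (hmF : (m : F) ≠ 0) : Even (finrank F (LinearMap.range (g - 1))) :=
  even_finrank_of_alt (alt_of_epsSym_neg_one h2 (rangeForm_epsSym hε g))
    (rangeForm_nondeg hε hnd hg m hm hodd hmF)

/-- for an alternating form, the image of `g - 1` has even dimension -/
theorem even_finrank_range_alt {B : V →ₗ[F] V →ₗ[F] F} (h2 : (2 : F) ≠ 0) (hε : EpsSym B (-1))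
    (hnd : Nondeg B) {g : Module.End F V} (hg : IsIso B g) (m : ℕ) (hm : g ^ m = 1)
    (hmF : (m : F) ≠ 0) : Even (finrank F (LinearMap.range (g - 1))) := by
  apply even_finrank_of_alt (B := B.domRestrict₁₂ (LinearMap.range (g - 1)) (LinearMap.range (g - 1)))
  · intro x
    rw [LinearMap.domRestrict₁₂_apply]
    exact alt_of_epsSym_neg_one h2 hε _
  · intro x h0
    apply Subtype.ext
    apply nondeg_range hε hnd hg m hm hmF (x : V) x.2
    intro y hy
    have := h0 ⟨y, hy⟩
    rw [LinearMap.domRestrict₁₂_apply] at this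
    exact this

end parity

end Cfsg.Agent.Lib.Helper15.BC
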