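import Mathlib
import Cfsg.Agent.Lib.Helper15.OddSp1
import Cfsg.Agent.Lib.Helper6.OrtS4

/-!
# S2362, part 2: isometries of primitive prime order: the orthogonal decomposition and the sign
-/

set_option autoImplicit false

namespace Cfsg.Agent.Lib.Helper15.OddSp

open Module QuadraticMap
open Cfsg.Agent.Lib.Helper15.PSpI Cfsg.Agent.Lib.Helper14.OrthEven Cfsg.Agent.Lib.Helper6.OrtS

/-- a map of prime-power order with a unique fixed point -/
theorem card_modEq_one_of_free {α : Type*} [Fintype α] (f : Function.End α) (r : ℕ) (hr : r.Prime)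
    (hf : f ^ r = 1) (x₀ : α) (hx₀ : f x₀ = x₀) (huniq : ∀ x, f x = x → x = x₀) :
    Fintype.card α ≡ 1 [MOD r] := by
  classical
  have : Fact r.Prime := ⟨hr⟩
  have hf' : f ^ r ^ 1 = 1 := by rw [pow_one]; exact hf
  have h1 := Equiv.Perm.card_fixedPoints_modEq hf'
  have h2 : Nat.card (Function.fixedPoints f) = 1 := by
    rw [Nat.card_eq_one_iff_unique]
    refine ⟨⟨?_⟩, ⟨⟨x₀, hx₀⟩⟩⟩
    rintro ⟨x, hx⟩ ⟨y, hy⟩
    apply Subtype.ext
    show x = y
    rw [huniq x hx, huniq y hy]
  rw [Fintype.card_eq_nat_card (α := Function.fixedPoints f), h2] at h1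
  exact h1

section iso

variable {F : Type*} [Field F] {V : Type*} [AddCommGroup V] [Module F V]
variable (Q : QuadraticForm F V)

/-- isometries preserve the polar form -/
theorem polar_of_isometry (h : Module.End F V) (hiso : ∀ v, Q (h v) = Q v) (x y : V) :
    polar Q (h x) (h y) = polar Q x y := by
  unfold polar
  rw [← map_add, hiso, hiso, hiso]

/-- the fixed space of an isometry is orthogonal to the image of `h - 1` -/
theorem polar_ker_range (h : Module.End F V) (hiso : ∀ v, Q (h v) = Q v) (x y : V)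
    (hx : x ∈ LinearMap.ker (h - 1)) (hy : y ∈ LinearMap.range (h - 1)) : polar Q x y = 0 := by
  rw [LinearMap.mem_ker, LinearMap.sub_apply, Module.End.one_apply, sub_eq_zero] at hx
  obtain ⟨w, rfl⟩ := hy
  rw [LinearMap.sub_apply, Module.End.one_apply, polar_sub_right]
  nth_rewrite 1 [← hx]
  rw [polar_of_isometry Q h hiso, sub_self]

/-- the image of `h - 1` is nondegenerate -/
theorem nondegOn_range (hQ : (polarBilin Q).Nondegenerate) (h : Module.End F V)
    (hiso : ∀ v, Q (h v) = Q v)
    (hc : IsCompl (LinearMap.ker (h - 1)) (LinearMap.range (h - 1))) :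
    NondegOn (polarBilin Q) (LinearMap.range (h - 1)) := by
  intro u hu h0
  apply hQ.1 u
  intro v
  obtain ⟨v₀, hv₀, v₁, hv₁, rfl⟩ := Submodule.mem_sup.mp
    (show v ∈ LinearMap.ker (h - 1) ⊔ LinearMap.range (h - 1) by
      rw [hc.sup_eq_top]; exact Submodule.mem_top)
  rw [map_add, h0 v₁ hv₁, add_zero]
  show polar Q u v₀ = 0
  rw [polar_comm]
  exact polar_ker_range Q h hiso v₀ u hv₀ hu

/-- vectors orthogonal to the image of `h - 1` are fixed -/
theorem mem_ker_of_orth_range (hQ : (polarBilin Q).Nondegenerate) (h : Module.End F V)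
    (hiso : ∀ v, Q (h v) = Q v)
    (hc : IsCompl (LinearMap.ker (h - 1)) (LinearMap.range (h - 1))) (v : V)
    (hv : ∀ z ∈ LinearMap.range (h - 1), polar Q z v = 0) : v ∈ LinearMap.ker (h - 1) := by
  obtain ⟨v₀, hv₀, v₁, hv₁, rfl⟩ := Submodule.mem_sup.mp
    (show v ∈ LinearMap.ker (h - 1) ⊔ LinearMap.range (h - 1) by
      rw [hc.sup_eq_top]; exact Submodule.mem_top)
  have h1 : v₁ = 0 := by
    apply nondegOn_range Q hQ h hiso hc v₁ hv₁
    intro z hz
    have h2 := hv z hz
    rw [polar_add_right, polar_comm Q z v₀, polar_ker_range Q h hiso v₀ z hv₀ hz, zero_add] at h2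
    show polar Q v₁ z = 0
    rw [polar_comm]
    exact h2
  rw [h1, add_zero]
  exact hv₀

end iso

section sign

variable {F : Type*} [Field F] [Fintype F] {V : Type*} [AddCommGroup V] [Module F V]
  [FiniteDimensional F V]
variable (Q : QuadraticForm F V)

/-- an invariant nondegenerate subspace of dimension `2k` on which an isometry of primitive prime
order (for `q ^ (2k) - 1`) acts freely has sign `-1` -/
theorem sgnOn_neg_of_free (h : Module.End F V) (hiso : ∀ v, Q (h v) = Q v) (r : ℕ) (hr : r.Prime)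
    (hh : h ^ r = 1) (k : ℕ) (hk : 2 ≤ k) (hrd : r ∣ Fintype.card F ^ (2 * k) - 1)
    (hd : ∀ j, 0 < j → j < 2 * k → ¬ r ∣ Fintype.card F ^ j - 1)
    (W : Submodule F V) (hW : NondegOn (polarBilin Q) W) (hdim : finrank F W = 2 * k)
    (hinv : ∀ x ∈ W, h x ∈ W) (hfix : ∀ x ∈ W, h x = x → x = 0) : SgnOn Q W (-1) := by
  classical
  rcases sgnOn_cases Q hW k hdim with hplus | hminus
  swap
  · exact hminus
  exfalso
  have hq1 : 1 < Fintype.card F := Fintype.one_lt_card
  set q := Fintype.card F with hq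
  have hfinV : Finite V := Module.finite_of_finite F
  -- the singular vectors of `W`
  have : Fintype {w : W // Q (w : V) = 0} := Fintype.ofFinite _
  let f : Function.End {w : W // Q (w : V) = 0} :=
    fun x => ⟨⟨h (x.1 : V), hinv _ x.1.2⟩, by
      show Q (h (x.1 : V)) = 0
      rw [hiso]; exact x.2⟩
  have hfpow : ∀ j : ℕ, ∀ x : {w : W // Q (w : V) = 0}, (((f ^ j) x).1 : V) = (h ^ j) (x.1 : V) := by
    intro j
    induction j with
    | zero => intro x; rfl
    | succ j ih =>
      intro x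
      rw [pow_succ', pow_succ']
      show h ((((f ^ j) x).1 : W) : V) = h ((h ^ j) (x.1 : V))
      rw [← ih x]
  have hf : f ^ r = 1 := by
    funext x
    apply Subtype.ext
    apply Subtype.ext
    rw [hfpow, hh]
    rfl
  have hcard := card_modEq_one_of_free f r hr hf ⟨0, by
      show Q ((0 : W) : V) = 0
      rw [Submodule.coe_zero, map_zero]⟩ (by
      apply Subtype.ext
      apply Subtype.ext
      show h ((0 : W) : V) = ((0 : W) : V)
      rw [Submodule.coe_zero, map_zero]) (by
      intro x hx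
      apply Subtype.ext
      apply Subtype.ext
      show (x.1 : V) = ((0 : W) : V)
      rw [Submodule.coe_zero]
      apply hfix _ x.1.2
      have := congrArg (fun y : {w : W // Q (w : V) = 0} => ((y.1 : W) : V)) hx
      exact this)
  -- the count from the sign
  have hcnt := hplus 0
  rw [if_pos rfl] at hcnt
  have hk2 : finrank F W / 2 = k := by omega
  rw [hk2] at hcnt
  unfold cnt at hcnt
  rw [Nat.card_eq_fintype_card] at hcnt
  set c0 := Fintype.card {w : W // Q (w : V) = 0} with hc0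
  have hc0pos : 1 ≤ c0 := Fintype.card_pos_iff.mpr ⟨⟨0, by
      show Q ((0 : W) : V) = 0
      rw [Submodule.coe_zero, map_zero]⟩⟩
  have hdvd : r ∣ c0 - 1 := (Nat.modEq_iff_dvd' hc0pos).mp hcard.symm
  obtain ⟨k', rfl⟩ : ∃ k', k = k' + 1 := ⟨k - 1, by omega⟩
  have hqk : 1 ≤ q ^ (k' + 1) := Nat.one_le_pow _ _ (by omega)
  have hqk' : 1 ≤ q ^ k' := Nat.one_le_pow _ _ (by omega)
  have hq0 : (q : ℤ) ≠ 0 := by
    have : 0 < q := by omega
    exact_mod_cast this.ne'
  have hkey : (c0 : ℤ) - 1 = ((q : ℤ) ^ (k' + 1) - 1) * ((q : ℤ) ^ k' + 1) := by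
    apply mul_left_cancel₀ hq0
    have : (q : ℤ) * ((c0 : ℤ) - 1) = (q : ℤ) * c0 - q := by ring
    rw [this, hcnt]
    ring
  have hkeyN : c0 - 1 = (q ^ (k' + 1) - 1) * (q ^ k' + 1) := by
    zify [hc0pos, hqk]
    exact hkey
  rw [hkeyN] at hdvd
  rcases (Nat.Prime.dvd_mul hr).mp hdvd with h1 | h1
  · exact hd (k' + 1) (by omega) (by omega) h1
  · have h2 : r ∣ q ^ (2 * k') - 1 := by
      have : q ^ (2 * k') - 1 = (q ^ k' + 1) * (q ^ k' - 1) := by
        rw [mul_comm 2 k', pow_mul]
        have := Nat.sq_sub_sq (q ^ k') 1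
        rw [one_pow] at this
        exact this
      rw [this]
      exact Dvd.dvd.mul_right h1 _
    exact hd (2 * k') (by omega) (by omega) h2

end sign

end Cfsg.Agent.Lib.Helper15.OddSp
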