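import Mathlib
import Cfsg.Agent.Lib.Helper15.OddSp2

/-!
# S2362, part 3: the configuration `h, s, u` and its analysis
-/

set_option autoImplicit false

namespace Cfsg.Agent.Lib.Helper15.OddSp

open Module QuadraticMap
open Cfsg.Agent.Lib.Helper15.PSpI Cfsg.Agent.Lib.Helper14.OrthEven Cfsg.Agent.Lib.Helper6.OrtS

/-- the configuration: an isometry `h` of primitive prime order `r` (for `q ^ (2k) - 1`) of a
nondegenerate quadratic space of dimension `2k + 3`, commuting with a unipotent isometry `u ≠ 1`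
and an isometry `s` of order prime to the characteristic -/
structure Config {F : Type*} [Field F] [Fintype F] {V : Type*} [AddCommGroup V] [Module F V]
    [FiniteDimensional F V] (Q : QuadraticForm F V) where
  p : ℕ
  hp : p.Prime
  hpF : (p : F) = 0
  h2 : (2 : F) ≠ 0
  hQ : (polarBilin Q).Nondegenerate
  h : Module.End F V
  s : Module.End F V
  u : Module.End F V
  r : ℕ
  hr : r.Prime
  hh : h ^ r = 1
  hrF : (r : F) ≠ 0
  k : ℕ
  hk : 2 ≤ k
  hrd : r ∣ Fintype.card F ^ (2 * k) - 1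
  hd : ∀ j, 0 < j → j < 2 * k → ¬ r ∣ Fintype.card F ^ j - 1
  hdim : finrank F V = 2 * k + 3
  hne : h ≠ 1
  h_iso : ∀ v, Q (h v) = Q v
  s_iso : ∀ v, Q (s v) = Q v
  u_iso : ∀ v, Q (u v) = Q v
  sh : s * h = h * s
  uh : u * h = h * u
  su : s * u = u * s
  hu : u ^ p = 1
  hu1 : u ≠ 1
  M : ℕ
  hs : s ^ M = 1
  hMF : (M : F) ≠ 0

namespace Config

variable {F : Type*} [Field F] [Fintype F] {V : Type*} [AddCommGroup V] [Module F V]
  [FiniteDimensional F V] {Q : QuadraticForm F V} (D : Config Q)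

/-- the fixed space of `h` -/
abbrev V0 : Submodule F V := LinearMap.ker (D.h - 1)

/-- the image of `h - 1` -/
abbrev V1 : Submodule F V := LinearMap.range (D.h - 1)

theorem mem_V0 (x : V) : x ∈ D.V0 ↔ D.h x = x := by
  unfold V0
  rw [LinearMap.mem_ker, LinearMap.sub_apply, Module.End.one_apply, sub_eq_zero]

theorem compl : IsCompl D.V0 D.V1 := isCompl_ker_range D.h D.r D.hh D.hrF

theorem k2pos : 0 < 2 * D.k := by have := D.hk; omega

theorem finrank_V1 : finrank F D.V1 = 2 * D.k :=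
  finrank_range_eq D.h D.r D.hr D.hh D.hrF (2 * D.k) D.k2pos D.hrd D.hd
    (by rw [D.hdim]; have := D.hk; omega) D.hne

theorem finrank_V0 : finrank F D.V0 = 3 := by
  have h1 := LinearMap.finrank_range_add_finrank_ker (D.h - 1)
  rw [D.hdim] at h1
  have h2 := D.finrank_V1
  unfold V1 at h2
  unfold V0
  omega

theorem irred (U : Submodule F V) (hUle : U ≤ D.V1) (hU : ∀ x ∈ U, D.h x ∈ U) :
    U = ⊥ ∨ U = D.V1 :=
  irreducible_range D.h D.r D.hr D.hh D.hrF (2 * D.k) D.k2pos D.hrd D.hd D.finrank_V1 U hUle hU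

theorem charP : CharP F D.p := (CharP.charP_iff_prime_eq_zero D.hp).mpr D.hpF

omit [Fintype F] [FiniteDimensional F V] in
theorem mem_ker_sub_one (f : Module.End F V) (x : V) : x ∈ LinearMap.ker (f - 1) ↔ f x = x := by
  rw [LinearMap.mem_ker, LinearMap.sub_apply, Module.End.one_apply, sub_eq_zero]

theorem p_dvd_card : D.p ∣ Fintype.card F := by
  have h1 : ((Fintype.card F : ℕ) : F) = 0 := Nat.cast_card_eq_zero F
  have : CharP F D.p := D.charP
  exact (CharP.cast_eq_zero_iff F D.p _).mp h1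

theorem not_p_dvd_pow_sub_one (m : ℕ) (hm : 0 < m) : ¬ D.p ∣ Fintype.card F ^ m - 1 := by
  intro hdvd
  have h1 : D.p ∣ Fintype.card F ^ m := Dvd.dvd.trans D.p_dvd_card (dvd_pow_self _ hm.ne')
  have h2 : 1 ≤ Fintype.card F ^ m := Nat.one_le_pow _ _ Fintype.card_pos
  have h3 : D.p ∣ 1 := by
    have := Nat.dvd_sub h1 hdvd
    rwa [Nat.sub_sub_self h2] at this
  exact D.hp.one_lt.ne' (Nat.dvd_one.mp h3)

/-- a `u`-invariant nonzero subspace contains a nonzero vector fixed by `u` -/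
theorem exists_fixed_u (U : Submodule F V) (hU : ∀ x ∈ U, D.u x ∈ U) (hne : U ≠ ⊥) :
    ∃ x ∈ U, x ≠ 0 ∧ D.u x = x := by
  by_contra hcon
  push Not at hcon
  have hfree : ∀ x ∈ U, D.u x = x → x = 0 := by
    intro x hx hfix
    by_contra hx0
    exact hcon x hx hx0 hfix
  have h1 := dvd_card_sub_one_of_free D.u D.p D.hp D.hu U hU hfree
  have h2 : 0 < finrank F U := by
    rw [Nat.pos_iff_ne_zero]
    intro h0
    exact hne (Submodule.finrank_eq_zero.mp h0)
  exact D.not_p_dvd_pow_sub_one _ h2 h1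

/-- `u` is trivial on `V1` -/
theorem u_V1 (x : V) (hx : x ∈ D.V1) : D.u x = x := by
  set U : Submodule F V := LinearMap.ker (D.u - 1) ⊓ D.V1 with hUdef
  have hUinv : ∀ y ∈ U, D.h y ∈ U := by
    intro y hy
    have hy' := Submodule.mem_inf.mp hy
    exact Submodule.mem_inf.mpr
      ⟨map_ker_of_commute D.u D.h D.uh.symm y hy'.1, map_range_of_commute D.h D.h rfl y hy'.2⟩
  have hV1ne : D.V1 ≠ ⊥ := by
    intro h0
    have := D.finrank_V1
    rw [h0, finrank_bot] at this
    have := D.k2pos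
    omega
  rcases D.irred U inf_le_right hUinv with h0 | h1
  · exfalso
    obtain ⟨y, hy, hy0, hfix⟩ := D.exists_fixed_u D.V1
      (fun y hy => map_range_of_commute D.h D.u D.uh y hy) hV1ne
    apply hy0
    have : y ∈ U := Submodule.mem_inf.mpr ⟨(mem_ker_sub_one D.u y).mpr hfix, hy⟩
    rw [h0] at this
    exact (Submodule.mem_bot F).mp this
  · have : x ∈ U := by rw [h1]; exact hx
    exact (mem_ker_sub_one D.u x).mp (Submodule.mem_inf.mp this).1

theorem nondeg_V1 : NondegOn (polarBilin Q) D.V1 :=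
  nondegOn_range Q D.hQ D.h D.h_iso D.compl

theorem nondeg_V0 : NondegOn (polarBilin Q) D.V0 := by
  intro x hx h0
  apply D.hQ.1 x
  intro v
  obtain ⟨v₀, hv₀, v₁, hv₁, rfl⟩ := Submodule.mem_sup.mp
    (show v ∈ D.V0 ⊔ D.V1 by rw [D.compl.sup_eq_top]; exact Submodule.mem_top)
  rw [map_add, h0 v₀ hv₀, zero_add]
  exact polar_ker_range Q D.h D.h_iso x v₁ hx hv₁

theorem decomp (v : V) : ∃ v₀ ∈ D.V0, ∃ v₁ ∈ D.V1, v₀ + v₁ = v :=
  Submodule.mem_sup.mp
    (show v ∈ D.V0 ⊔ D.V1 by rw [D.compl.sup_eq_top]; exact Submodule.mem_top)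

theorem u_V0 (x : V) (hx : x ∈ D.V0) : D.u x ∈ D.V0 := map_ker_of_commute D.h D.u D.uh x hx

theorem s_V0 (x : V) (hx : x ∈ D.V0) : D.s x ∈ D.V0 := map_ker_of_commute D.h D.s D.sh x hx

theorem s_V1 (x : V) (hx : x ∈ D.V1) : D.s x ∈ D.V1 := map_range_of_commute D.h D.s D.sh x hx

/-- the fixed space of `u` on `V0` -/
abbrev L : Submodule F V := LinearMap.ker (D.u - 1) ⊓ D.V0

theorem mem_L (x : V) : x ∈ D.L ↔ D.u x = x ∧ x ∈ D.V0 := by
  unfold L
  rw [Submodule.mem_inf, mem_ker_sub_one]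

theorem L_ne_V0 : D.L ≠ D.V0 := by
  intro heq
  apply D.hu1
  apply LinearMap.ext
  intro v
  obtain ⟨v₀, hv₀, v₁, hv₁, rfl⟩ := D.decomp v
  rw [map_add, D.u_V1 v₁ hv₁, Module.End.one_apply]
  have : v₀ ∈ D.L := by rw [heq]; exact hv₀
  rw [((D.mem_L v₀).mp this).1]

/-- scalars of `p`-power order are trivial -/
theorem eq_one_of_pow_p (c : F) (hc : c ^ D.p = 1) : c = 1 := by
  have : CharP F D.p := D.charP
  have : Fact D.p.Prime := ⟨D.hp⟩
  have h1 : (c - 1) ^ D.p = 0 := by rw [sub_pow_char, hc, one_pow, sub_self]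
  exact sub_eq_zero.mp (pow_eq_zero_iff D.hp.ne_zero |>.mp h1)

theorem u_pow_apply_of_smul (x : V) (c : F) (hx : D.u x = c • x) (j : ℕ) :
    (D.u ^ j) x = c ^ j • x := by
  induction j with
  | zero => simp
  | succ j ih => rw [pow_succ', Module.End.mul_apply, ih, map_smul, hx, smul_smul, pow_succ]

/-- the fixed space of `u` on `V0` is a line -/
theorem finrank_L : finrank F D.L = 1 := by
  have hle : D.L ≤ D.V0 := inf_le_right
  have hlt : D.L < D.V0 := lt_of_le_of_ne hle D.L_ne_V0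
  have h3 : finrank F D.L < 3 := by
    rw [← D.finrank_V0]
    exact Submodule.finrank_lt_finrank_of_lt hlt
  have hV0ne : D.V0 ≠ ⊥ := by
    intro h0
    have := D.finrank_V0
    rw [h0, finrank_bot] at this
    omega
  have hpos : 0 < finrank F D.L := by
    obtain ⟨y, hy, hy0, hfix⟩ := D.exists_fixed_u D.V0 (fun y hy => D.u_V0 y hy) hV0ne
    rw [Nat.pos_iff_ne_zero]
    intro h0
    have hb : D.L = ⊥ := Submodule.finrank_eq_zero.mp h0
    have : y ∈ D.L := (D.mem_L y).mpr ⟨hfix, hy⟩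
    rw [hb] at this
    exact hy0 ((Submodule.mem_bot F).mp this)
  by_contra hne1
  have h2 : finrank F D.L = 2 := by omega
  -- a vector outside `L`
  obtain ⟨x, hxV0, hxL⟩ := SetLike.exists_of_lt hlt
  have hsup : D.L ⊔ Submodule.span F {x} = D.V0 := by
    apply Submodule.eq_of_le_of_finrank_le
    · exact sup_le hle ((Submodule.span_singleton_le_iff_mem x D.V0).mpr hxV0)
    · have hlt2 : D.L < D.L ⊔ Submodule.span F {x} := by
        apply lt_of_le_of_ne le_sup_left
        intro heq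
        apply hxL
        rw [heq]
        exact Submodule.mem_sup_right (Submodule.mem_span_singleton_self x)
      have := Submodule.finrank_lt_finrank_of_lt hlt2
      rw [D.finrank_V0]
      omega
  set y := D.u x - x with hy
  have hyV0 : y ∈ D.V0 := Submodule.sub_mem _ (D.u_V0 x hxV0) hxV0
  have hy0 : y ≠ 0 := by
    intro h0
    apply hxL
    exact (D.mem_L x).mpr ⟨sub_eq_zero.mp h0, hxV0⟩
  -- the image of `u - 1` on `V0` is spanned by `y`
  have himg : ∀ v ∈ D.V0, ∃ c : F, D.u v - v = c • y := by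
    intro v hv
    rw [← hsup] at hv
    obtain ⟨l, hl, w, hw, rfl⟩ := Submodule.mem_sup.mp hv
    obtain ⟨c, rfl⟩ := Submodule.mem_span_singleton.mp hw
    refine ⟨c, ?_⟩
    rw [map_add, ((D.mem_L l).mp hl).1, map_smul, hy, smul_sub]
    abel
  -- `y` is fixed by `u`
  have hyfix : D.u y = y := by
    obtain ⟨c, hc⟩ := himg y hyV0
    have h4 : D.u y = (c + 1) • y := by
      rw [add_smul, one_smul, ← hc]; abel
    have h5 := D.u_pow_apply_of_smul y (c + 1) h4 D.p
    rw [D.hu, Module.End.one_apply] at h5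
    have h6 : ((c + 1) ^ D.p - 1) • y = 0 := by rw [sub_smul, ← h5, one_smul, sub_self]
    have h7 : (c + 1) ^ D.p = 1 := by
      rcases smul_eq_zero.mp h6 with h8 | h8
      · exact sub_eq_zero.mp h8
      · exact absurd h8 hy0
    rw [h4, D.eq_one_of_pow_p _ h7, one_smul]
  have hyL : y ∈ D.L := (D.mem_L y).mpr ⟨hyfix, hyV0⟩
  -- `y` is orthogonal to `L`
  have hyorth : ∀ l ∈ D.L, polar Q l y = 0 := by
    intro l hl
    apply polar_ker_range Q D.u D.u_iso l y hl.1
    exact ⟨x, by rw [LinearMap.sub_apply, Module.End.one_apply]⟩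
  have hQy : Q y = 0 := by
    have h4 := hyorth y hyL
    rw [polar_self, two_smul, ← two_mul] at h4
    rcases mul_eq_zero.mp h4 with h5 | h5
    · exact absurd h5 D.h2
    · exact h5
  have hxy : polar Q x y = 0 := by
    have h4 := D.u_iso x
    have h5 : D.u x = x + y := by rw [hy]; abel
    rw [h5] at h4
    have h6 : Q (x + y) = Q x + Q y + polar Q x y := by unfold polar; ring
    rw [h6, hQy, add_zero] at h4
    linear_combination h4
  apply hy0
  apply D.nondeg_V0 y hyV0
  intro v hv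
  rw [← hsup] at hv
  obtain ⟨l, hl, w, hw, rfl⟩ := Submodule.mem_sup.mp hv
  obtain ⟨c, rfl⟩ := Submodule.mem_span_singleton.mp hw
  show polar Q y (l + c • x) = 0
  rw [polar_add_right, polar_comm Q y l, hyorth l hl, zero_add, polar_smul_right, polar_comm Q y x,
    hxy, smul_zero]

end Config

end Cfsg.Agent.Lib.Helper15.OddSp
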