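import Mathlib
import Cfsg.Agent.Lib.Helper15.OddSp3

/-!
# S2362, part 4: the semisimple part on `V0` and `V1`
-/

set_option autoImplicit false

namespace Cfsg.Agent.Lib.Helper15.OddSp

open Module QuadraticMap
open Cfsg.Agent.Lib.Helper15.PSpI Cfsg.Agent.Lib.Helper14.OrthEven Cfsg.Agent.Lib.Helper6.OrtS

section det

variable {F : Type*} [Field F] {V : Type*} [AddCommGroup V] [Module F V] [FiniteDimensional F V]

/-- adjoint maps have the same determinant -/
theorem det_eq_of_adjoint (B : V →ₗ[F] V →ₗ[F] F) (hB : ∀ x, (∀ y, B x y = 0) → x = 0)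
    (f g : V →ₗ[F] V) (hfg : ∀ x y, B (f x) y = B x (g y)) :
    LinearMap.det f = LinearMap.det g := by
  have hinj : Function.Injective B := by
    rw [← LinearMap.ker_eq_bot, LinearMap.ker_eq_bot']
    intro x hx
    apply hB x
    intro y
    rw [hx, LinearMap.zero_apply]
  have hsurj : Function.Surjective B :=
    (LinearMap.injective_iff_surjective_of_finrank_eq_finrank
      (Subspace.dual_finrank_eq (K := F) (V := V)).symm).mp hinj
  let e : V ≃ₗ[F] Module.Dual F V := LinearEquiv.ofBijective B ⟨hinj, hsurj⟩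
  have he : ∀ x, e x = B x := fun x => rfl
  have h1 : (e : V →ₗ[F] Module.Dual F V) ∘ₗ f ∘ₗ (e.symm : Module.Dual F V →ₗ[F] V) =
      g.dualMap := by
    apply LinearMap.ext
    intro φ
    obtain ⟨x, rfl⟩ := e.surjective φ
    apply LinearMap.ext
    intro y
    rw [LinearMap.comp_apply, LinearMap.comp_apply, LinearEquiv.coe_coe, LinearEquiv.coe_coe,
      LinearEquiv.symm_apply_apply, he, hfg, LinearMap.dualMap_apply, he]
  rw [← LinearMap.det_conj f e, h1, LinearMap.det_dualMap]

/-- an isometry without the eigenvalue `-1` has determinant one -/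
theorem det_eq_one_of_isometry (Q : QuadraticForm F V) (hQ : (polarBilin Q).Nondegenerate)
    (A A' : Module.End F V) (hAA' : A * A' = 1) (hA'A : A' * A = 1) (hiso : ∀ v, Q (A v) = Q v)
    (hinj : ∀ x, A x = -x → x = 0) : LinearMap.det A = 1 := by
  have hadj : ∀ x y, polarBilin Q ((1 + A) x) y = polarBilin Q x ((1 + A') y) := by
    intro x y
    rw [LinearMap.add_apply, LinearMap.add_apply, Module.End.one_apply, Module.End.one_apply,
      map_add, map_add, LinearMap.add_apply]
    congr 1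
    show polar Q (A x) y = polar Q x (A' y)
    have h1 : A (A' y) = y := by rw [← Module.End.mul_apply, hAA', Module.End.one_apply]
    nth_rewrite 1 [← h1]
    exact polar_of_isometry Q A hiso x (A' y)
  have h1 := det_eq_of_adjoint (polarBilin Q) hQ.1 (1 + A) (1 + A') hadj
  have h2 : (1 + A') * A = 1 + A := by rw [add_mul, one_mul, hA'A, add_comm]
  have h3 : LinearMap.det (1 + A') * LinearMap.det A = LinearMap.det (1 + A) := by
    rw [← map_mul, h2]
  have h4 : LinearMap.det (1 + A) ≠ 0 := by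
    intro h0
    have h5 := LinearMap.bot_lt_ker_of_det_eq_zero h0
    obtain ⟨x, hx, hx0⟩ := SetLike.exists_of_lt h5
    apply hx0
    have hx1 : x = 0 := by
      apply hinj x
      rw [LinearMap.mem_ker, LinearMap.add_apply, Module.End.one_apply] at hx
      exact eq_neg_of_add_eq_zero_right hx
    rw [hx1]
    exact Submodule.zero_mem _
  rw [← h1] at h3
  have h6 : LinearMap.det (1 + A) * (LinearMap.det A - 1) = 0 := by
    rw [mul_sub, h3, mul_one, sub_self]
  rcases mul_eq_zero.mp h6 with h7 | h7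
  · exact absurd h7 h4
  · exact sub_eq_zero.mp h7

end det

namespace Config

variable {F : Type*} [Field F] [Fintype F] {V : Type*} [AddCommGroup V] [Module F V]
  [FiniteDimensional F V] {Q : QuadraticForm F V} (D : Config Q)

theorem M_ne_zero : D.M ≠ 0 := by
  intro h0
  apply D.hMF
  rw [h0, Nat.cast_zero]

theorem s_pow_apply_of_smul (x : V) (c : F) (hx : D.s x = c • x) (j : ℕ) :
    (D.s ^ j) x = c ^ j • x := by
  induction j with
  | zero => simp
  | succ j ih => rw [pow_succ', Module.End.mul_apply, ih, map_smul, hx, smul_smul, pow_succ]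

/-- `s` acts on `V0` as a scalar `±1` -/
theorem exists_scalar_V0 : ∃ a : F, a * a = 1 ∧ ∀ x ∈ D.V0, D.s x = a • x := by
  -- a generator of `L`
  obtain ⟨⟨z, hzL⟩, hz0, hzgen⟩ := finrank_eq_one_iff'.mp D.finrank_L
  have hz0' : z ≠ 0 := fun h => hz0 (Subtype.ext h)
  have hzL' := (D.mem_L z).mp hzL
  have hszL : D.s z ∈ D.L := by
    rw [D.mem_L]
    refine ⟨?_, D.s_V0 z hzL'.2⟩
    rw [← Module.End.mul_apply, ← D.su, Module.End.mul_apply, hzL'.1]
  obtain ⟨a, ha⟩ := hzgen ⟨D.s z, hszL⟩
  have ha' : D.s z = a • z := (congrArg Subtype.val ha).symm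
  have haM : a ^ D.M = 1 := by
    have h1 := D.s_pow_apply_of_smul z a ha' D.M
    rw [D.hs, Module.End.one_apply] at h1
    have h2 : (a ^ D.M - 1) • z = 0 := by rw [sub_smul, ← h1, one_smul, sub_self]
    rcases smul_eq_zero.mp h2 with h3 | h3
    · exact sub_eq_zero.mp h3
    · exact absurd h3 hz0'
  have ha0 : a ≠ 0 := by
    rintro rfl
    rw [zero_pow D.M_ne_zero] at haM
    exact zero_ne_one haM
  -- the normalized map
  set s' : Module.End F V := a⁻¹ • D.s with hs'
  have hs'M : s' ^ D.M = 1 := by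
    rw [hs', smul_pow, D.hs, inv_pow, haM, inv_one, one_smul]
  have hdisj := disjoint_ker_range s' D.M hs'M D.hMF
  rw [Submodule.disjoint_def] at hdisj
  have hs'u : s' * D.u = D.u * s' := by
    rw [hs', smul_mul_assoc, mul_smul_comm, D.su]
  -- the image of `V0` under `s' - 1`
  set E' : Submodule F V := Submodule.map (s' - 1) D.V0 with hE'
  have hE'V0 : E' ≤ D.V0 := by
    rintro _ ⟨x, hx, rfl⟩
    rw [LinearMap.sub_apply, Module.End.one_apply, hs', LinearMap.smul_apply]
    exact Submodule.sub_mem _ (Submodule.smul_mem _ _ (D.s_V0 x hx)) hx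
  have hE'u : ∀ y ∈ E', D.u y ∈ E' := by
    rintro _ ⟨x, hx, rfl⟩
    refine ⟨D.u x, D.u_V0 x hx, ?_⟩
    rw [← Module.End.mul_apply, ← Module.End.mul_apply, sub_mul, mul_sub, hs'u, one_mul, mul_one]
  have hE'bot : E' = ⊥ := by
    by_contra hne
    obtain ⟨y, hyE, hy0, hyfix⟩ := D.exists_fixed_u E' hE'u hne
    apply hy0
    have hyL : y ∈ D.L := (D.mem_L y).mpr ⟨hyfix, hE'V0 hyE⟩
    obtain ⟨c, hc⟩ := hzgen ⟨y, hyL⟩
    have hc' : y = c • z := (congrArg Subtype.val hc).symm
    apply hdisj y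
    · rw [mem_ker_sub_one, hs', LinearMap.smul_apply, hc', map_smul, ha', smul_smul, smul_smul]
      congr 1
      field_simp
    · obtain ⟨x, -, hx⟩ := hyE
      exact ⟨x, hx⟩
  have hscal : ∀ x ∈ D.V0, D.s x = a • x := by
    intro x hx
    have h1 : (s' - 1) x ∈ E' := ⟨x, hx, rfl⟩
    rw [hE'bot, Submodule.mem_bot, LinearMap.sub_apply, Module.End.one_apply, sub_eq_zero, hs',
      LinearMap.smul_apply] at h1
    calc D.s x = a • (a⁻¹ • D.s x) := by rw [smul_smul, mul_inv_cancel₀ ha0, one_smul]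
      _ = a • x := by rw [h1]
  refine ⟨a, ?_, hscal⟩
  -- a nonsingular vector of `V0`
  obtain ⟨x, hx, hQx⟩ : ∃ x ∈ D.V0, Q x ≠ 0 := by
    by_contra hcon
    push Not at hcon
    apply hz0'
    apply D.nondeg_V0 z hzL'.2
    intro v hv
    show polar Q z v = 0
    unfold polar
    rw [hcon _ (Submodule.add_mem _ hzL'.2 hv), hcon z hzL'.2, hcon v hv]
    ring
  have h1 := D.s_iso x
  rw [hscal x hx, QuadraticMap.map_smul, smul_eq_mul] at h1
  have h2 : (a * a - 1) * Q x = 0 := by rw [sub_mul, h1, one_mul, sub_self]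
  rcases mul_eq_zero.mp h2 with h3 | h3
  · exact sub_eq_zero.mp h3
  · exact absurd h3 hQx

end Config

end Cfsg.Agent.Lib.Helper15.OddSp
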