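import Mathlib
import Cfsg.Agent.Lib.Helper15.OddSp4

/-!
# S2362, part 5: the semisimple part is trivial on `V0` and has `-1` as a power on `V1`
-/

set_option autoImplicit false

namespace Cfsg.Agent.Lib.Helper15.OddSp

open Module QuadraticMap
open Cfsg.Agent.Lib.Helper15.PSpI Cfsg.Agent.Lib.Helper14.OrthEven Cfsg.Agent.Lib.Helper6.OrtS

namespace Config

variable {F : Type*} [Field F] [Fintype F] {V : Type*} [AddCommGroup V] [Module F V]
  [FiniteDimensional F V] {Q : QuadraticForm F V} (D : Config Q)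

theorem h_V1 (x : V) (hx : x ∈ D.V1) : D.h x ∈ D.V1 := map_range_of_commute D.h D.h rfl x hx

theorem disjoint_V0_V1 (x : V) (h0 : x ∈ D.V0) (h1 : x ∈ D.V1) : x = 0 := by
  have := D.compl.disjoint
  rw [Submodule.disjoint_def] at this
  exact this x h0 h1

/-- `s` is trivial on `V0` -/
theorem s_V0_eq (hdet : LinearMap.det D.s = 1) (hs2 : D.s ^ 2 ≠ 1) :
    ∀ x ∈ D.V0, D.s x = x := by
  obtain ⟨a, ha, hscal⟩ := D.exists_scalar_V0
  have ha' : a = 1 ∨ a = -1 := by
    have : (a - 1) * (a + 1) = 0 := by linear_combination ha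
    rcases mul_eq_zero.mp this with h | h
    · left; exact sub_eq_zero.mp h
    · right; exact eq_neg_of_add_eq_zero_left h
  rcases ha' with rfl | rfl
  · intro x hx
    rw [hscal x hx, one_smul]
  exfalso
  have hM0 := D.M_ne_zero
  set A : Module.End F V := (-1 : F) • D.s with hA
  set A' : Module.End F V := (-1 : F) • D.s ^ (D.M - 1) with hA'
  have hAA' : A * A' = 1 := by
    rw [hA, hA', smul_mul_smul_comm, ← pow_succ', Nat.sub_add_cancel (Nat.pos_of_ne_zero hM0), D.hs]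
    norm_num
  have hA'A : A' * A = 1 := by
    rw [hA, hA', smul_mul_smul_comm, ← pow_succ, Nat.sub_add_cancel (Nat.pos_of_ne_zero hM0), D.hs]
    norm_num
  have hiso : ∀ v, Q (A v) = Q v := by
    intro v
    rw [hA, LinearMap.smul_apply, neg_one_smul, QuadraticMap.map_neg, D.s_iso]
  have hinj : ∀ x, A x = -x → x = 0 := by
    intro x hx
    rw [hA, LinearMap.smul_apply, neg_one_smul, neg_inj] at hx
    obtain ⟨x₀, hx₀, x₁, hx₁, rfl⟩ := D.decomp x
    rw [map_add, hscal x₀ hx₀, neg_one_smul] at hx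
    have h1 : D.s x₁ - x₁ = x₀ + x₀ := by
      have : D.s x₁ = x₀ + x₁ + x₀ := by rw [← hx]; abel
      rw [this]; abel
    have h2 : x₀ + x₀ = 0 := by
      apply D.disjoint_V0_V1 _ (Submodule.add_mem _ hx₀ hx₀)
      rw [← h1]
      exact Submodule.sub_mem _ (D.s_V1 x₁ hx₁) hx₁
    have hx₀0 : x₀ = 0 := by
      have : (2 : F) • x₀ = 0 := by rw [two_smul]; exact h2
      exact (smul_eq_zero.mp this).resolve_left D.h2
    rw [h2, sub_eq_zero] at h1
    by_contra hne
    have hx₁0 : x₁ ≠ 0 := by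
      intro h0
      apply hne
      rw [hx₀0, h0, add_zero]
    -- `s` is trivial on `V1`
    set U : Submodule F V := LinearMap.ker (D.s - 1) ⊓ D.V1 with hU
    have hUinv : ∀ y ∈ U, D.h y ∈ U := by
      intro y hy
      have hy' := Submodule.mem_inf.mp hy
      exact Submodule.mem_inf.mpr
        ⟨map_ker_of_commute D.s D.h D.sh.symm y hy'.1, D.h_V1 y hy'.2⟩
    have hx₁U : x₁ ∈ U := Submodule.mem_inf.mpr ⟨(mem_ker_sub_one D.s x₁).mpr h1, hx₁⟩
    have hUV1 : U = D.V1 := by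
      rcases D.irred U inf_le_right hUinv with h0 | h0
      · rw [h0] at hx₁U
        exact absurd ((Submodule.mem_bot F).mp hx₁U) hx₁0
      · exact h0
    apply hs2
    apply LinearMap.ext
    intro v
    obtain ⟨v₀, hv₀, v₁, hv₁, rfl⟩ := D.decomp v
    have hv₁U : v₁ ∈ U := by rw [hUV1]; exact hv₁
    have hsv₁ : D.s v₁ = v₁ := (mem_ker_sub_one D.s v₁).mp (Submodule.mem_inf.mp hv₁U).1
    rw [pow_two, Module.End.mul_apply, Module.End.one_apply, map_add, hscal v₀ hv₀, hsv₁,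
      map_add, map_smul, hscal v₀ hv₀, hsv₁, smul_smul]
    norm_num
  have hdetA := det_eq_one_of_isometry Q D.hQ A A' hAA' hA'A hiso hinj
  rw [hA, LinearMap.det_smul, hdet, mul_one, D.hdim] at hdetA
  have : ((-1 : F)) ^ (2 * D.k + 3) = -1 := by
    rw [pow_add, pow_mul]
    norm_num
  rw [this] at hdetA
  apply D.h2
  have : (2 : F) = 1 - (-1) := by norm_num
  rw [this, hdetA, sub_self]

theorem s_pow_V0 (hdet : LinearMap.det D.s = 1) (hs2 : D.s ^ 2 ≠ 1) (j : ℕ) :
    ∀ x ∈ D.V0, (D.s ^ j) x = x := by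
  intro x hx
  induction j with
  | zero => rfl
  | succ j ih => rw [pow_succ', Module.End.mul_apply, ih, D.s_V0_eq hdet hs2 x hx]

theorem s_pow_V1 (j : ℕ) : ∀ x ∈ D.V1, (D.s ^ j) x ∈ D.V1 := by
  intro x hx
  induction j with
  | zero => exact hx
  | succ j ih =>
    rw [pow_succ', Module.End.mul_apply]
    exact D.s_V1 _ ih

/-- the half power of `s` is `-1` on `V1` -/
theorem s_half_V1 (hdet : LinearMap.det D.s = 1) (hs2 : D.s ^ 2 ≠ 1) (m : ℕ) (hM : D.M = 2 * m)
    (hm : D.s ^ m ≠ 1) : ∀ x ∈ D.V1, (D.s ^ m) x = -x := by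
  set e : Module.End F V := D.s ^ m with he
  have hee : e * e = 1 := by rw [he, ← pow_add, ← two_mul, ← hM, D.hs]
  have heh : e * D.h = D.h * e := by
    rw [he]
    exact (Commute.pow_left (show Commute D.s D.h from D.sh) m).eq
  set U : Submodule F V := LinearMap.ker (e - 1) ⊓ D.V1 with hU
  have hUinv : ∀ y ∈ U, D.h y ∈ U := by
    intro y hy
    have hy' := Submodule.mem_inf.mp hy
    exact Submodule.mem_inf.mpr
      ⟨map_ker_of_commute e D.h heh.symm y hy'.1, D.h_V1 y hy'.2⟩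
  rcases D.irred U inf_le_right hUinv with h0 | h0
  · intro x hx
    have hy : x + e x ∈ U := by
      apply Submodule.mem_inf.mpr
      refine ⟨?_, Submodule.add_mem _ hx (D.s_pow_V1 m x hx)⟩
      rw [mem_ker_sub_one, map_add, ← Module.End.mul_apply, hee, Module.End.one_apply, add_comm]
    rw [h0, Submodule.mem_bot] at hy
    exact eq_neg_of_add_eq_zero_right hy
  · exfalso
    apply hm
    apply LinearMap.ext
    intro v
    obtain ⟨v₀, hv₀, v₁, hv₁, rfl⟩ := D.decomp v
    have hv₁U : v₁ ∈ U := by rw [h0]; exact hv₁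
    have hev₁ : e v₁ = v₁ := (mem_ker_sub_one e v₁).mp (Submodule.mem_inf.mp hv₁U).1
    rw [map_add, hev₁, Module.End.one_apply, D.s_pow_V0 hdet hs2 m v₀ hv₀]

/-- `V1` has sign `-1` -/
theorem sgnOn_V1 : SgnOn Q D.V1 (-1) :=
  sgnOn_neg_of_free Q D.h D.h_iso D.r D.hr D.hh D.k D.hk D.hrd D.hd D.V1 D.nondeg_V1
    D.finrank_V1 (fun x hx => D.h_V1 x hx) (fun x hx hfix => free_range D.h D.r D.hh D.hrF x hx hfix)

/-- vectors orthogonal to `V1` lie in `V0` -/
theorem mem_V0_of_orth (v : V) (hv : ∀ z ∈ D.V1, polar Q z v = 0) : v ∈ D.V0 :=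
  mem_ker_of_orth_range Q D.hQ D.h D.h_iso D.compl v hv

end Config

end Cfsg.Agent.Lib.Helper15.OddSp
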