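import Mathlib
import Cfsg.Agent.Lib.Helper6.SpinFree

/-!
# S2362, part 6: the spinor criterion of `Helper6.SpinFree` in odd dimension
(by embedding `O(V)` into `O(V ⊕ F)`)
-/

set_option autoImplicit false
set_option linter.unusedSectionVars false

namespace Cfsg.Agent.Lib.Helper15.OddSp

open Module QuadraticMap Matrix
open Cfsg.Agent.Lib.Helper15.PSpI Cfsg.Agent.Lib.Helper14.OrthEven Cfsg.Agent.Lib.Helper6.OrtS

section ext

variable {F : Type*} [Field F] {ι : Type} [Fintype ι] [DecidableEq ι]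

/-- the form `Q ⊕ x²` -/
noncomputable def Qext (Q : QuadraticForm F (ι → F)) : QuadraticForm F (ι ⊕ Unit → F) :=
  Q.comp (LinearMap.funLeft F F Sum.inl) +
    QuadraticMap.proj (R := F) (A := F) (Sum.inr ()) (Sum.inr ())

theorem Qext_apply (Q : QuadraticForm F (ι → F)) (v : ι ⊕ Unit → F) :
    Qext Q v = Q (v ∘ Sum.inl) + v (Sum.inr ()) * v (Sum.inr ()) := rfl

theorem polar_Qext (Q : QuadraticForm F (ι → F)) (x y : ι ⊕ Unit → F) :
    polar (Qext Q) x y = polar Q (x ∘ Sum.inl) (y ∘ Sum.inl) +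
      2 * x (Sum.inr ()) * y (Sum.inr ()) := by
  unfold polar
  rw [Qext_apply, Qext_apply, Qext_apply]
  have h1 : (x + y) ∘ Sum.inl = x ∘ Sum.inl + y ∘ (Sum.inl : ι → ι ⊕ Unit) := rfl
  rw [h1, Pi.add_apply]
  ring

/-- the embedding `x ↦ (x, 0)` -/
def jext : (ι → F) →ₗ[F] (ι ⊕ Unit → F) where
  toFun x := Sum.elim x 0
  map_add' x y := by
    funext i
    rcases i with i | i <;> simp
  map_smul' c x := by
    funext i
    rcases i with i | i <;> simp

theorem jext_inl (x : ι → F) : (jext x) ∘ Sum.inl = x := rfl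

theorem jext_inr (x : ι → F) : jext x (Sum.inr ()) = 0 := rfl

theorem jext_injective : Function.Injective (jext (F := F) (ι := ι)) := by
  intro x y hxy
  have := congrArg (fun v => v ∘ Sum.inl) hxy
  exact this

theorem Qext_jext (Q : QuadraticForm F (ι → F)) (x : ι → F) : Qext Q (jext x) = Q x := by
  rw [Qext_apply, jext_inl, jext_inr, mul_zero, add_zero]

theorem nondegenerate_Qext (Q : QuadraticForm F (ι → F)) (h2 : (2 : F) ≠ 0)
    (hQ : (polarBilin Q).Nondegenerate) : (polarBilin (Qext Q)).Nondegenerate := by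
  have hl : (polarBilin (Qext Q)).SeparatingLeft := by
    intro x hx
    have h1 : x ∘ Sum.inl = 0 := by
      apply hQ.1
      intro y
      have := hx (jext y)
      rw [polarBilin_apply_apply, polar_Qext, jext_inl, jext_inr, mul_zero, add_zero] at this
      exact this
    have h3 : x (Sum.inr ()) = 0 := by
      have := hx (Pi.single (Sum.inr ()) 1)
      rw [polarBilin_apply_apply, polar_Qext, h1] at this
      simp only [polar_zero_left, Pi.single_eq_same, mul_one, zero_add] at this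
      exact (mul_eq_zero.mp this).resolve_left h2
    funext i
    rcases i with i | i
    · exact congrFun h1 i
    · exact h3
  refine ⟨hl, ?_⟩
  intro y hy
  apply hl
  intro x
  have := hy x
  rw [polarBilin_apply_apply, polar_comm] at this
  exact this

/-- the block embedding of matrices -/
def blockHom : Matrix ι ι F →* Matrix (ι ⊕ Unit) (ι ⊕ Unit) F where
  toFun M := fromBlocks M 0 0 1
  map_one' := fromBlocks_one
  map_mul' M N := by
    rw [fromBlocks_multiply]
    simp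

theorem blockHom_mulVec (M : Matrix ι ι F) (v : ι ⊕ Unit → F) :
    blockHom M *ᵥ v = Sum.elim (M *ᵥ (v ∘ Sum.inl)) (v ∘ Sum.inr) := by
  show fromBlocks M 0 0 1 *ᵥ v = _
  rw [fromBlocks_mulVec]
  simp

theorem blockHom_mulVec_jext (M : Matrix ι ι F) (x : ι → F) :
    blockHom M *ᵥ jext x = jext (M *ᵥ x) := by
  rw [blockHom_mulVec, jext_inl]
  funext i
  rcases i with i | i
  · rfl
  · rfl

/-- the embedding of isometry groups -/
noncomputable def isoHom (Q : QuadraticForm F (ι → F)) :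
    ↥(Cfsg.isometryGroup F ⇑Q) →* ↥(Cfsg.isometryGroup F ⇑(Qext Q)) :=
  ((Units.map (blockHom (F := F) (ι := ι))).comp (Cfsg.isometryGroup F ⇑Q).subtype).codRestrict
    (Cfsg.isometryGroup F ⇑(Qext Q)) (by
      intro g u v
      show Qext Q (blockHom ((g.1 : GL ι F) : Matrix ι ι F) *ᵥ u) = Qext Q u
      rw [blockHom_mulVec, Qext_apply, Qext_apply]
      have h1 := g.2 (u ∘ Sum.inl) (u ∘ Sum.inl)
      have h2 : Q (((g.1 : GL ι F) : Matrix ι ι F) *ᵥ (u ∘ Sum.inl)) = Q (u ∘ Sum.inl) := h1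
      show Q (((g.1 : GL ι F) : Matrix ι ι F) *ᵥ (u ∘ Sum.inl)) + _ = _
      rw [h2]
      rfl)

theorem isoHom_val (Q : QuadraticForm F (ι → F)) (g : ↥(Cfsg.isometryGroup F ⇑Q)) :
    (((isoHom Q g).1 : GL (ι ⊕ Unit) F) : Matrix (ι ⊕ Unit) (ι ⊕ Unit) F) =
      blockHom ((g.1 : GL ι F) : Matrix ι ι F) := rfl

end ext

theorem map_mem_commutator' {G H : Type*} [Group G] [Group H] (f : G →* H) (g : G)
    (hg : g ∈ commutator G) : f g ∈ commutator H := by
  have h1 : (commutator G).map f ≤ commutator H := by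
    rw [commutator_def, Subgroup.map_commutator, commutator_def]
    exact Subgroup.commutator_mono le_top le_top
  exact h1 ⟨g, hg, rfl⟩

/-- the spinor criterion of `Helper6.not_mem_Omega_of_free` in odd dimension -/
theorem not_mem_Omega_of_free_odd {F : Type*} [Field F] [Fintype F] [DecidableEq F] {ι : Type}
    [Fintype ι] [DecidableEq ι]
    (Q : QuadraticForm F (ι → F)) (h2 : (2 : F) ≠ 0)
    (hQ : (QuadraticMap.polarBilin Q).Nondegenerate)
    (n : ℕ) (hcard : Fintype.card ι = 2 * n + 1)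
    (Z : Submodule F (ι → F)) (hZn : NondegOn (QuadraticMap.polarBilin Q) Z)
    (k : ℕ) (hk : 1 ≤ k) (hZdim : Module.finrank F Z = 2 * k) (ε : ℤ) (hε : SgnOn Q Z ε)
    (a t : ℕ) (ha : 1 ≤ a) (ht : Odd t) (hN : (Fintype.card F : ℤ) ^ k - ε = 2 ^ a * t)
    (s : ↥(Cfsg.isometryGroup F ⇑Q))
    (hsZ : ∀ z ∈ Z, ((s.1 : GL ι F) : Matrix ι ι F) *ᵥ z ∈ Z)
    (hsZ' : ∀ v, (∀ z ∈ Z, QuadraticMap.polar ⇑Q z v = 0) →
      ((s.1 : GL ι F) : Matrix ι ι F) *ᵥ v = v)
    (hsN : ∀ z ∈ Z, (((s.1 : GL ι F) : Matrix ι ι F) ^ (2 ^ (a - 1))) *ᵥ z = -z) :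
    s ∉ Cfsg.Omega F ⇑Q := by
  intro hmem
  have hmem' : isoHom Q s ∈ Cfsg.Omega F ⇑(Qext Q) :=
    map_mem_commutator' (isoHom Q) s hmem
  set Z' : Submodule F (ι ⊕ Unit → F) := Z.map jext with hZ'
  set e : Z ≃ₗ[F] Z' := Submodule.equivMapOfInjective jext jext_injective Z with he_def
  have he : ∀ z : Z, ((e z : Z') : ι ⊕ Unit → F) = jext (z : ι → F) := fun z =>
    Submodule.coe_equivMapOfInjective_apply _ _ _ z
  refine Cfsg.Agent.Lib.Helper6.SpinFree.not_mem_Omega_of_free (Qext Q) h2 (nondegenerate_Qext Q h2 hQ) (n + 1)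
    (by rw [Fintype.card_sum, hcard, Fintype.card_unit]; ring) Z' ?_ k hk ?_ ε ?_ a t ha ht hN
    (isoHom Q s) ?_ ?_ ?_ hmem'
  · -- nondegenerate
    rintro _ ⟨x, hx, rfl⟩ h0
    have : x = 0 := by
      apply hZn x hx
      intro y hy
      have := h0 (jext y) ⟨y, hy, rfl⟩
      rw [polarBilin_apply_apply, polar_Qext, jext_inl, jext_inl, jext_inr, mul_zero, zero_mul,
        add_zero] at this
      exact this
    rw [this, map_zero]
  · rw [← hZdim]
    exact (LinearEquiv.finrank_eq e).symm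
  · -- sign
    unfold SgnOn at hε ⊢
    rw [← LinearEquiv.finrank_eq e]
    exact hε.of_equiv e.toEquiv _ _ (fun z => by
      show Qext Q ((e z : Z') : ι ⊕ Unit → F) = Q (z : ι → F)
      rw [he, Qext_jext])
  · rintro _ ⟨x, hx, rfl⟩
    rw [isoHom_val, blockHom_mulVec_jext]
    exact ⟨_, hsZ x hx, rfl⟩
  · intro v hv
    rw [isoHom_val, blockHom_mulVec]
    have h1 : ((s.1 : GL ι F) : Matrix ι ι F) *ᵥ (v ∘ Sum.inl) = v ∘ Sum.inl := by
      apply hsZ'
      intro z hz
      have := hv (jext z) ⟨z, hz, rfl⟩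
      rw [polar_Qext, jext_inl, jext_inr, mul_zero, zero_mul, add_zero] at this
      exact this
    rw [h1]
    funext i
    rcases i with i | i
    · rfl
    · rfl
  · rintro _ ⟨x, hx, rfl⟩
    rw [isoHom_val, ← map_pow, blockHom_mulVec_jext, hsN x hx, map_neg]

end Cfsg.Agent.Lib.Helper15.OddSp
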