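import Mathlib
import Cfsg.Agent.S2904
import Cfsg.Agent.Lib.Helper15.OddSp5
import Cfsg.Agent.Lib.Helper15.OddSp6

/-!
# S2362, part 7: `Ω_{2k+3}(q)` has no element of order `p (q^k + 1)` (`q` odd, `k ≥ 2`)
-/

set_option autoImplicit false

namespace Cfsg.Agent.Lib.Helper15.OddSp

open Module QuadraticMap Matrix
open Cfsg.Agent.Lib.Helper15.PSpI Cfsg.Agent.Lib.Helper14.OrthEven Cfsg.Agent.Lib.Helper6.OrtS

section glue

variable {F : Type*} [Field F] {ι : Type} [Fintype ι] [DecidableEq ι]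

/-- the matrix of an element of the isometry group -/
def gmat (Q : QuadraticForm F (ι → F)) (g : ↥(Cfsg.isometryGroup F ⇑Q)) : Matrix ι ι F :=
  ((g.1 : GL ι F) : Matrix ι ι F)

theorem gmat_pow (Q : QuadraticForm F (ι → F)) (g : ↥(Cfsg.isometryGroup F ⇑Q)) (j : ℕ) :
    gmat Q (g ^ j) = gmat Q g ^ j := by
  unfold gmat
  rw [Subgroup.coe_pow, Units.val_pow_eq_pow_val]

theorem gmat_eq_one_iff (Q : QuadraticForm F (ι → F)) (g : ↥(Cfsg.isometryGroup F ⇑Q)) :
    gmat Q g = 1 ↔ g = 1 := by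
  constructor
  · intro h
    apply Subtype.ext
    apply Units.ext
    exact h
  · rintro rfl
    rfl

theorem gmat_iso (Q : QuadraticForm F (ι → F)) (g : ↥(Cfsg.isometryGroup F ⇑Q)) (v : ι → F) :
    Q (gmat Q g *ᵥ v) = Q v := g.2 v v

/-- the endomorphism of an element of the isometry group -/
noncomputable def gend (Q : QuadraticForm F (ι → F)) (g : ↥(Cfsg.isometryGroup F ⇑Q)) :
    Module.End F (ι → F) := Matrix.toLinAlgEquiv' (gmat Q g)

theorem gend_apply (Q : QuadraticForm F (ι → F)) (g : ↥(Cfsg.isometryGroup F ⇑Q)) (v : ι → F) :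
    gend Q g v = gmat Q g *ᵥ v := Matrix.toLinAlgEquiv'_apply _ _

theorem gend_pow (Q : QuadraticForm F (ι → F)) (g : ↥(Cfsg.isometryGroup F ⇑Q)) (j : ℕ) :
    gend Q g ^ j = gend Q (g ^ j) := by
  unfold gend
  rw [gmat_pow, map_pow]

theorem gend_eq_one_iff (Q : QuadraticForm F (ι → F)) (g : ↥(Cfsg.isometryGroup F ⇑Q)) :
    gend Q g = 1 ↔ g = 1 := by
  unfold gend
  rw [← gmat_eq_one_iff]
  constructor
  · intro h
    apply (Matrix.toLinAlgEquiv' (R := F) (n := ι)).injective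
    rw [h, map_one]
  · intro h
    rw [h, map_one]

theorem gend_pow_eq_one_iff (Q : QuadraticForm F (ι → F)) (g : ↥(Cfsg.isometryGroup F ⇑Q))
    (j : ℕ) : gend Q g ^ j = 1 ↔ orderOf g ∣ j := by
  rw [gend_pow, gend_eq_one_iff, orderOf_dvd_iff_pow_eq_one]

theorem gend_iso (Q : QuadraticForm F (ι → F)) (g : ↥(Cfsg.isometryGroup F ⇑Q)) (j : ℕ)
    (v : ι → F) : Q ((gend Q g ^ j) v) = Q v := by
  rw [gend_pow, gend_apply, gmat_iso]

theorem det_gend (Q : QuadraticForm F (ι → F)) (g : ↥(Cfsg.isometryGroup F ⇑Q)) :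
    LinearMap.det (gend Q g) = (gmat Q g).det := LinearMap.det_toLin' _

/-- elements of `Ω` have determinant one -/
theorem det_of_mem_Omega (Q : QuadraticForm F (ι → F)) (g : ↥(Cfsg.isometryGroup F ⇑Q))
    (hg : g ∈ Cfsg.Omega F ⇑Q) : (gmat Q g).det = 1 := by
  let χ : ↥(Cfsg.isometryGroup F ⇑Q) →* Fˣ :=
    (Matrix.GeneralLinearGroup.det).comp (Cfsg.isometryGroup F ⇑Q).subtype
  have h1 : g ∈ χ.ker := Abelianization.commutator_subset_ker χ hg
  have h2 : χ g = 1 := h1
  have h3 := congrArg Units.val h2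
  exact h3

end glue

/-- `Ω_{2k+3}(q)`, `q` odd, `k ≥ 2`, has no element of order `p (q^k + 1)` -/
theorem no_element_of_order {F : Type*} [Field F] [Fintype F] {ι : Type} [Fintype ι]
    [DecidableEq ι] (Q : QuadraticForm F (ι → F)) (hQ : (polarBilin Q).Nondegenerate)
    (hodd : Odd (Fintype.card F)) (p : ℕ) [Fact p.Prime] [CharP F p] (k : ℕ) (hk : 2 ≤ k)
    (hcard : Fintype.card ι = 2 * k + 3)
    (g : ↥(Cfsg.isometryGroup F ⇑Q)) (hg : g ∈ Cfsg.Omega F ⇑Q)
    (hord : orderOf g = p * (Fintype.card F ^ k + 1)) : False := by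
  classical
  have hp : p.Prime := Fact.out
  set q := Fintype.card F with hq
  have hq1 : 1 < q := Fintype.one_lt_card
  have hq3 : 3 ≤ q := by
    obtain ⟨c, hc⟩ := hodd
    omega
  have h2F : (2 : F) ≠ 0 := by
    intro h0
    have h1 : ((2 : ℕ) : F) = 0 := by exact_mod_cast h0
    have h3 : p ∣ 2 := (CharP.cast_eq_zero_iff F p 2).mp h1
    have h4 : p ∣ q := by
      have : ((q : ℕ) : F) = 0 := Nat.cast_card_eq_zero F
      exact (CharP.cast_eq_zero_iff F p q).mp this
    have h5 : p = 2 := (Nat.prime_dvd_prime_iff_eq hp Nat.prime_two).mp h3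
    rw [h5] at h4
    obtain ⟨c, hc⟩ := hodd
    omega
  have hpq : p ∣ q := by
    have : ((q : ℕ) : F) = 0 := Nat.cast_card_eq_zero F
    exact (CharP.cast_eq_zero_iff F p q).mp this
  set M := q ^ k + 1 with hM
  have hqk : 9 ≤ q ^ k := by
    calc 9 = 3 ^ 2 := by norm_num
      _ ≤ q ^ 2 := Nat.pow_le_pow_left hq3 2
      _ ≤ q ^ k := Nat.pow_le_pow_right (by omega) hk
  -- Zsigmondy
  obtain ⟨r, hr, hrd, hd⟩ := Cfsg.Agent.S2904.result q (2 * k) hq1 (by omega)
    (by rintro ⟨h, -⟩; omega) (by rintro ⟨h, -⟩; omega)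
  have hrq : ¬ r ∣ q := by
    intro h
    have h1 : r ∣ q ^ (2 * k) := Dvd.dvd.trans h (dvd_pow_self _ (by omega))
    have h2 : 1 ≤ q ^ (2 * k) := Nat.one_le_pow _ _ (by omega)
    have h3 : r ∣ 1 := by
      have := Nat.dvd_sub h1 hrd
      rwa [Nat.sub_sub_self h2] at this
    exact hr.one_lt.ne' (Nat.dvd_one.mp h3)
  have hrp : r ≠ p := by
    rintro rfl
    exact hrq hpq
  have hrF : (r : F) ≠ 0 := by
    intro h0
    have h1 : p ∣ r := (CharP.cast_eq_zero_iff F p r).mp h0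
    exact hrp ((Nat.prime_dvd_prime_iff_eq hp hr).mp h1).symm
  have hrM : r ∣ M := by
    have h1 : q ^ (2 * k) - 1 = (q ^ k + 1) * (q ^ k - 1) := by
      rw [mul_comm 2 k, pow_mul]
      have := Nat.sq_sub_sq (q ^ k) 1
      rw [one_pow] at this
      exact this
    rw [h1] at hrd
    rcases (Nat.Prime.dvd_mul hr).mp hrd with h | h
    · exact h
    · exact absurd h (hd k (by omega) (by omega))
  obtain ⟨M', hM'⟩ := hrM
  have hM'pos : 0 < M' := by
    rcases Nat.eq_zero_or_pos M' with h | h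
    · rw [h, mul_zero] at hM'
      omega
    · exact h
  -- the maps
  set A := gend Q g with hA
  have hApow : ∀ j : ℕ, A ^ j = 1 ↔ p * M ∣ j := by
    intro j
    rw [hA, gend_pow_eq_one_iff, hord]
  have hMF : (M : F) ≠ 0 := by
    rw [hM, Nat.cast_add, Nat.cast_pow, Nat.cast_card_eq_zero, zero_pow (by omega), zero_add,
      Nat.cast_one]
    exact one_ne_zero
  have hMeven : Even M := by
    rw [hM]
    exact (hodd.pow).add_one
  obtain ⟨m, hm⟩ := hMeven
  have hm2 : M = 2 * m := by rw [hm, two_mul]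
  let D : Config Q :=
    { p := p
      hp := hp
      hpF := CharP.cast_eq_zero F p
      h2 := h2F
      hQ := hQ
      h := A ^ (p * M')
      s := A ^ p
      u := A ^ M
      r := r
      hr := hr
      hh := by
        rw [← pow_mul, hApow, mul_assoc, mul_comm M' r, ← hM']
      hrF := hrF
      k := k
      hk := hk
      hrd := hrd
      hd := hd
      hdim := by rw [Module.finrank_fintype_fun_eq_card, hcard]
      hne := by
        rw [Ne, hApow]
        intro hdvd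
        have h1 : M ∣ M' := Nat.dvd_of_mul_dvd_mul_left hp.pos hdvd
        have h2 := Nat.le_of_dvd hM'pos h1
        have h3 : 2 * M' ≤ r * M' := Nat.mul_le_mul_right _ hr.two_le
        omega
      h_iso := gend_iso Q g _
      s_iso := gend_iso Q g _
      u_iso := gend_iso Q g _
      sh := by rw [← pow_add, ← pow_add, add_comm]
      uh := by rw [← pow_add, ← pow_add, add_comm]
      su := by rw [← pow_add, ← pow_add, add_comm]
      hu := by rw [← pow_mul, hApow, mul_comm]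
      hu1 := by
        rw [Ne, hApow]
        intro hdvd
        have h1 : p * M ∣ 1 * M := by rw [one_mul]; exact hdvd
        have h2 : p ∣ 1 := Nat.dvd_of_mul_dvd_mul_right (by omega) h1
        exact hp.one_lt.ne' (Nat.dvd_one.mp h2)
      M := M
      hs := by rw [← pow_mul, hApow]
      hMF := hMF }
  have hDs : D.s = A ^ p := rfl
  have hDk : D.k = k := rfl
  have hDM : D.M = M := rfl
  have hdet : LinearMap.det D.s = 1 := by
    rw [hDs, map_pow, hA, det_gend, det_of_mem_Omega Q g hg, one_pow]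
  have hs2 : D.s ^ 2 ≠ 1 := by
    rw [hDs, ← pow_mul, Ne, hApow]
    intro hdvd
    have h1 : M ∣ 2 := Nat.dvd_of_mul_dvd_mul_left hp.pos hdvd
    have := Nat.le_of_dvd (by omega) h1
    omega
  have hsm : D.s ^ m ≠ 1 := by
    rw [hDs, ← pow_mul, Ne, hApow]
    intro hdvd
    have h1 : M ∣ m := Nat.dvd_of_mul_dvd_mul_left hp.pos hdvd
    have hmpos : 0 < m := by omega
    have := Nat.le_of_dvd hmpos h1
    omega
  have hhalf := D.s_half_V1 hdet hs2 m hm2 hsm
  have hV0 := D.s_pow_V0 hdet hs2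
  -- the `2`-part
  obtain ⟨a, t, ht, hat⟩ := Nat.exists_eq_two_pow_mul_odd (show M ≠ 0 by omega)
  have ha : 1 ≤ a := by
    by_contra hcon
    have ha0 : a = 0 := by omega
    rw [ha0, pow_zero, one_mul] at hat
    obtain ⟨c, hc⟩ := ht
    omega
  have hmt : m = 2 ^ (a - 1) * t := by
    have h1 : 2 * m = 2 * (2 ^ (a - 1) * t) := by
      rw [← hm2, hat, ← mul_assoc, ← pow_succ', Nat.sub_add_cancel ha]
    exact Nat.eq_of_mul_eq_mul_left two_pos h1
  -- the test element
  have hmemΩ : g ^ (p * t) ∈ Cfsg.Omega F ⇑Q := Subgroup.pow_mem _ hg _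
  have hmv : ∀ v : ι → F, gmat Q (g ^ (p * t)) *ᵥ v = (D.s ^ t) v := by
    intro v
    rw [hDs, ← pow_mul, hA, gend_pow, gend_apply]
  refine not_mem_Omega_of_free_odd Q h2F hQ (k + 1) (by rw [hcard]; ring) D.V1 D.nondeg_V1 k
    (by omega) D.finrank_V1 (-1) D.sgnOn_V1 a t ha ht ?_ (g ^ (p * t)) ?_ ?_ ?_ hmemΩ
  · rw [sub_neg_eq_add]
    have : ((q ^ k + 1 : ℕ) : ℤ) = ((2 ^ a * t : ℕ) : ℤ) := by rw [← hM, hat]
    push_cast at this
    exact this
  · intro z hz
    show gmat Q (g ^ (p * t)) *ᵥ z ∈ D.V1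
    rw [hmv]
    exact D.s_pow_V1 t z hz
  · intro v hv
    show gmat Q (g ^ (p * t)) *ᵥ v = v
    rw [hmv]
    exact hV0 t v (D.mem_V0_of_orth v hv)
  · intro z hz
    show (gmat Q (g ^ (p * t)) ^ 2 ^ (a - 1)) *ᵥ z = -z
    rw [← gmat_pow, ← pow_mul, mul_assoc, mul_comm t, ← hmt]
    have : gmat Q (g ^ (p * m)) *ᵥ z = (D.s ^ m) z := by
      rw [hDs, ← pow_mul, hA, gend_pow, gend_apply]
    rw [this]
    exact hhalf z hz

end Cfsg.Agent.Lib.Helper15.OddSp
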