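import Mathlib
import Cfsg.Agent.Lib.Helper15.BC2
import Cfsg.Agent.Lib.Helper15.OddSp7
import Cfsg.Agent.Lib.Helper14.OrthOrd1
import Cfsg.Agent.Lib.Helper6.OmegaOdd
import Cfsg.Agent.Lib.Helper6.AutOrt16

/-!
# S2474, part 4: realisation in the odd-dimensional orthogonal group
-/

set_option autoImplicit false

namespace Cfsg.Agent.Lib.Helper15.BC

open Module Matrix QuadraticMap Cfsg.Agent.Lib.Helper6

section orth

variable {F : Type*} [Field F] [Finite F] {V : Type*} [AddCommGroup V] [Module F V]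
  [FiniteDimensional F V]

/-- an algebra isomorphism from the endomorphisms of an odd-dimensional quadratic space to matrices
taking isometries to matrices preserving the standard form -/
theorem exists_algEquiv_orth (h2 : (2 : F) ≠ 0) (B : V →ₗ[F] V →ₗ[F] F) (hsym : EpsSym B 1)
    (hnd : Nondeg B) (n : ℕ) (hV : finrank F V = 2 * n + 1) :
    ∃ φ : Module.End F V ≃ₐ[F] Matrix (Unit ⊕ (Fin n ⊕ Fin n)) (Unit ⊕ (Fin n ⊕ Fin n)) F,
      ∀ g, IsIso B g → ∀ v, Cfsg.quadFormOdd n F ((φ g) *ᵥ v) = Cfsg.quadFormOdd n F v := by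
  classical
  have hsym' : ∀ x y, B y x = B x y := by
    intro x y
    rw [hsym x y, one_mul]
  obtain ⟨Q, hQdef⟩ : ∃ Q : QuadraticForm F V, Q = LinearMap.BilinMap.toQuadraticMap B := ⟨_, rfl⟩
  have hQ : ∀ x, Q x = B x x := by
    intro x
    rw [hQdef]
    rfl
  have hpol : ∀ x y, polar Q x y = 2 * B x y := by
    intro x y
    rw [hQdef, LinearMap.BilinMap.polar_toQuadraticMap, hsym' x y]
    ring
  have hQnd : (polarBilin Q).Nondegenerate := by
    have hleft : ∀ u : V, (∀ v, polar Q u v = 0) → u = 0 := by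
      intro u hu
      apply hnd
      intro v
      have := hu v
      rw [hpol] at this
      exact (mul_eq_zero.mp this).resolve_left h2
    constructor
    · intro u hu
      exact hleft u hu
    · intro u hu
      apply hleft u
      intro v
      rw [polar_comm]
      exact hu v
  obtain ⟨c, hc, Ψ, hΨ⟩ := Cfsg.Agent.Lib.Helper14.OrthOrd.classify_odd h2 Q hQnd n hV
  refine ⟨(Ψ.symm.conjAlgEquiv F).trans LinearMap.toMatrixAlgEquiv', ?_⟩
  intro g hg
  have key : ∀ u : Unit ⊕ (Fin n ⊕ Fin n) → F,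
      (((Ψ.symm.conjAlgEquiv F).trans LinearMap.toMatrixAlgEquiv') g) *ᵥ u =
        Ψ.symm (g (Ψ u)) := by
    intro u
    rw [AlgEquiv.trans_apply, ← Matrix.toLin'_apply]
    have h1 : Matrix.toLin' (LinearMap.toMatrixAlgEquiv' ((LinearEquiv.conjAlgEquiv F Ψ.symm) g)) =
        (LinearEquiv.conjAlgEquiv F Ψ.symm) g :=
      Matrix.toLinAlgEquiv'_toMatrixAlgEquiv' _
    rw [h1, LinearEquiv.conjAlgEquiv_apply]
    simp
  intro v
  rw [key]
  apply mul_left_cancel₀ hc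
  rw [← hΨ, ← hΨ, LinearEquiv.apply_symm_apply, hQ, hQ, hg]

end orth

section units

variable {F V : Type*} [Field F] [AddCommGroup V] [Module F V]

/-- the group of invertible isometries -/
def isoUnits (B : V →ₗ[F] V →ₗ[F] F) : Subgroup (Module.End F V)ˣ where
  carrier := {g | IsIso B (g : Module.End F V)}
  mul_mem' := by
    intro g h hg hh
    show IsIso B ((g * h : (Module.End F V)ˣ) : Module.End F V)
    rw [Units.val_mul]
    exact IsIso.mul hg hh
  one_mem' := IsIso.one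
  inv_mem' := by
    intro g hg x y
    have h1 := hg ((g⁻¹ : (Module.End F V)ˣ).1 x) ((g⁻¹ : (Module.End F V)ˣ).1 y)
    have h2 : ∀ z, (g : Module.End F V) ((g⁻¹ : (Module.End F V)ˣ).1 z) = z := by
      intro z
      rw [← Module.End.mul_apply, Units.mul_inv, Module.End.one_apply]
    rw [h2, h2] at h1
    exact h1.symm

theorem mem_isoUnits {B : V →ₗ[F] V →ₗ[F] F} (g : (Module.End F V)ˣ) :
    g ∈ isoUnits B ↔ IsIso B (g : Module.End F V) := Iff.rfl

end units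

section construct

variable {F : Type*} [Field F] [Fintype F]

/-- the centre of `Ω_{2n+1}(q)` is trivial -/
theorem eq_one_of_mem_center_Omega_odd (hodd : Odd (Fintype.card F)) (n : ℕ) (hn : 3 ≤ n)
    (z : ↥(Cfsg.Omega F ⇑(QOdd F n))) (hz : z ∈ Subgroup.center (Cfsg.Omega F ⇑(QOdd F n))) :
    z = 1 := by
  classical
  have h2 : (2 : F) ≠ 0 := two_ne_zero_of_odd_card hodd
  have hQ := nondegenerate_QOdd F h2 n
  have hcard : Fintype.card F ≠ 2 ∨ Fintype.card (Unit ⊕ (Fin n ⊕ Fin n)) ≠ 4 := by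
    left
    intro h
    rw [h] at hodd
    exact absurd hodd (by decide)
  rw [Subgroup.mem_center_iff] at hz
  have hz' : ∀ g ∈ Cfsg.Omega F ⇑(QOdd F n), g * z.1 = z.1 * g := by
    intro g hg
    exact congrArg Subtype.val (hz ⟨g, hg⟩)
  obtain ⟨c, hcc, hc⟩ := centralizer_Omega' (QOdd F n) hQ hcard
    (Cfsg.Agent.Lib.Helper6.AutOrt.oddTriple F n hn) z.1 hz'
  have hc1 : c = 1 ∨ c = -1 := by
    have : (c - 1) * (c + 1) = 0 := by ring_nf; rw [← pow_two] at *; linear_combination hcc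
    rcases mul_eq_zero.mp this with h | h
    · left; exact sub_eq_zero.mp h
    · right; exact eq_neg_of_add_eq_zero_left h
  rcases hc1 with rfl | rfl
  · apply Subtype.ext
    apply Subtype.ext
    apply Units.ext
    rw [hc, one_smul]
    rfl
  · exfalso
    have hdet := OddSp.det_of_mem_Omega (QOdd F n) z.1 z.2
    unfold OddSp.gmat at hdet
    rw [hc, Matrix.det_smul, Matrix.det_one, mul_one, Fintype.card_sum, Fintype.card_sum,
      Fintype.card_unit, Fintype.card_fin] at hdet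
    have h3 : ((-1 : F)) ^ (1 + (n + n)) = -1 := by
      rw [pow_add, pow_one, ← two_mul, pow_mul]
      simp
    rw [h3] at hdet
    apply h2
    have : (2 : F) = 1 - (-1) := by ring
    rw [this, hdet, sub_self]

variable {V : Type*} [AddCommGroup V] [Module F V] [FiniteDimensional F V]

/-- **realisation in `PΩ`** (general form) -/
theorem pomega_of_abstract_aux (hodd : Odd (Fintype.card F)) (n : ℕ) (hn : 3 ≤ n)
    (Qf : (Unit ⊕ (Fin n ⊕ Fin n) → F) → F) (hQf : Qf = ⇑(QOdd F n))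
    (B : V →ₗ[F] V →ₗ[F] F) (hsym : EpsSym B 1) (hnd : Nondeg B)
    (hV : finrank F V = 2 * n + 1) (a b : Module.End F V) (ha : IsIso B a) (hb : IsIso B b)
    (hab : a * b = b * a) (r s : ℕ) (hr : r.Prime) (hs : s.Prime) (hrs : r ≠ s)
    (har : a ^ r = 1) (ha1 : a ≠ 1) (hbs : b ^ s = 1) (hb1 : b ≠ 1)
    (haΩ : Odd r ∨ ∃ h : Module.End F V, IsIso B h ∧ a = h * h)
    (hbΩ : Odd s ∨ ∃ h : Module.End F V, IsIso B h ∧ b = h * h) :
    r * s ∈ Set.range (orderOf : Cfsg.POmega F Qf → ℕ) := by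
  classical
  subst hQf
  have h2 : (2 : F) ≠ 0 := two_ne_zero_of_odd_card hodd
  have hQ := nondegenerate_QOdd F h2 n
  have hcard4 : Fintype.card F ≠ 2 ∨ Fintype.card (Unit ⊕ (Fin n ⊕ Fin n)) ≠ 4 := by
    left
    intro h
    rw [h] at hodd
    exact absurd hodd (by decide)
  have hcard2 : 2 ≤ Fintype.card (Unit ⊕ (Fin n ⊕ Fin n)) := by
    rw [Fintype.card_sum, Fintype.card_sum, Fintype.card_unit, Fintype.card_fin]
    omega
  obtain ⟨φ, hφ⟩ := exists_algEquiv_orth h2 B hsym hnd n hV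
  -- the homomorphism to the isometry group
  let ρ₀ : ↥(isoUnits B) →* GL (Unit ⊕ (Fin n ⊕ Fin n)) F :=
    (Units.map (φ : Module.End F V →* Matrix (Unit ⊕ (Fin n ⊕ Fin n)) (Unit ⊕ (Fin n ⊕ Fin n)) F)).comp
      (isoUnits B).subtype
  have hρ₀ : ∀ g : ↥(isoUnits B), ((ρ₀ g : GL (Unit ⊕ (Fin n ⊕ Fin n)) F) :
      Matrix (Unit ⊕ (Fin n ⊕ Fin n)) (Unit ⊕ (Fin n ⊕ Fin n)) F) = φ ((g.1 : (Module.End F V)ˣ) :
        Module.End F V) := fun g => rfl
  have hmem : ∀ g : ↥(isoUnits B), ρ₀ g ∈ Cfsg.isometryGroup F ⇑(QOdd F n) := by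
    intro g u _
    show (QOdd F n) (((ρ₀ g : GL (Unit ⊕ (Fin n ⊕ Fin n)) F) :
      Matrix (Unit ⊕ (Fin n ⊕ Fin n)) (Unit ⊕ (Fin n ⊕ Fin n)) F) *ᵥ u) = (QOdd F n) u
    rw [hρ₀, QOdd_apply, QOdd_apply]
    exact hφ _ g.2 u
  let ρ : ↥(isoUnits B) →* ↥(Cfsg.isometryGroup F ⇑(QOdd F n)) :=
    ρ₀.codRestrict (Cfsg.isometryGroup F ⇑(QOdd F n)) hmem
  have hρ : ∀ g : ↥(isoUnits B), OddSp.gmat (QOdd F n) (ρ g) = φ ((g.1 : (Module.End F V)ˣ) :
        Module.End F V) := fun g => rfl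
  -- units from elements of finite order
  have mk : ∀ (x : Module.End F V) (t : ℕ), IsIso B x → x ^ t = 1 → 0 < t →
      ∃ u : ↥(isoUnits B), ((u.1 : (Module.End F V)ˣ) : Module.End F V) = x := by
    intro x t hx hxt ht
    exact ⟨⟨Units.ofPowEqOne x t hxt ht.ne', hx⟩, rfl⟩
  -- membership in `Ω`
  have memΩ : ∀ (x : Module.End F V) (t : ℕ), t.Prime → IsIso B x → x ^ t = 1 →
      (Odd t ∨ ∃ h : Module.End F V, IsIso B h ∧ x = h * h) → ∀ u : ↥(isoUnits B),
      ((u.1 : (Module.End F V)ˣ) : Module.End F V) = x → ρ u ∈ Cfsg.Omega F ⇑(QOdd F n) := by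
    intro x t ht hx hxt hΩ u hu
    rcases hΩ with hto | ⟨h, hh, hxh⟩
    · apply mem_Omega_of_pow_odd' (QOdd F n) hQ hcard2 hcard4 (ρ u) t hto
      rw [← map_pow]
      have : u ^ t = 1 := by
        apply Subtype.ext
        apply Units.ext
        rw [Subgroup.coe_pow, Units.val_pow_eq_pow_val, hu, hxt]
        rfl
      rw [this, map_one]
    · have hh2 : h ^ (2 * t) = 1 := by
        rw [pow_mul, pow_two, ← hxh, hxt]
      obtain ⟨w, hw⟩ := mk h (2 * t) hh hh2 (by have := ht.pos; omega)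
      have : u = w * w := by
        apply Subtype.ext
        apply Units.ext
        rw [Subgroup.coe_mul, Units.val_mul, hw, hu, hxh]
      rw [this, map_mul]
      exact sq_mem_Omega' (QOdd F n) hQ hcard2 hcard4 (ρ w)
  obtain ⟨ua, hua⟩ := mk a r ha har hr.pos
  obtain ⟨ub, hub⟩ := mk b s hb hbs hs.pos
  have hAΩ := memΩ a r hr ha har haΩ ua hua
  have hBΩ := memΩ b s hs hb hbs hbΩ ub hub
  -- orders in `PΩ`
  have key : ∀ (x : Module.End F V) (t : ℕ), t.Prime → x ^ t = 1 → x ≠ 1 → ∀ u : ↥(isoUnits B),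
      ((u.1 : (Module.End F V)ˣ) : Module.End F V) = x → ∀ hu : ρ u ∈ Cfsg.Omega F ⇑(QOdd F n),
      orderOf (QuotientGroup.mk (⟨ρ u, hu⟩ : ↥(Cfsg.Omega F ⇑(QOdd F n))) :
        Cfsg.POmega F ⇑(QOdd F n)) = t := by
    intro x t ht hxt hx1 u hu hmemu
    have : Fact t.Prime := ⟨ht⟩
    apply orderOf_eq_prime
    · rw [← QuotientGroup.mk_pow]
      have : (⟨ρ u, hmemu⟩ : ↥(Cfsg.Omega F ⇑(QOdd F n))) ^ t = 1 := by
        apply Subtype.ext
        rw [Subgroup.coe_pow]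
        show ρ u ^ t = 1
        rw [← map_pow]
        have : u ^ t = 1 := by
          apply Subtype.ext
          apply Units.ext
          rw [Subgroup.coe_pow, Units.val_pow_eq_pow_val, hu, hxt]
          rfl
        rw [this, map_one]
      rw [this]
      rfl
    · intro h
      rw [QuotientGroup.eq_one_iff] at h
      have h1 := eq_one_of_mem_center_Omega_odd hodd n hn _ h
      have h3 : ρ u = 1 := congrArg Subtype.val h1
      have h4 : OddSp.gmat (QOdd F n) (ρ u) = 1 := by rw [h3]; rfl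
      rw [hρ, hu] at h4
      apply hx1
      apply φ.injective
      rw [h4, map_one]
  have h1 := key a r hr har ha1 ua hua hAΩ
  have h3 := key b s hs hbs hb1 ub hub hBΩ
  have hc : Commute ua ub := by
    apply Subtype.ext
    apply Units.ext
    rw [Subgroup.coe_mul, Units.val_mul, Subgroup.coe_mul, Units.val_mul, hua, hub, hab]
  have hc' : Commute (QuotientGroup.mk (⟨ρ ua, hAΩ⟩ : ↥(Cfsg.Omega F ⇑(QOdd F n))) :
        Cfsg.POmega F ⇑(QOdd F n)) (QuotientGroup.mk (⟨ρ ub, hBΩ⟩ : ↥(Cfsg.Omega F ⇑(QOdd F n)))) := by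
    change (QuotientGroup.mk (⟨ρ ua, hAΩ⟩ : ↥(Cfsg.Omega F ⇑(QOdd F n))) :
        Cfsg.POmega F ⇑(QOdd F n)) * QuotientGroup.mk (⟨ρ ub, hBΩ⟩ : ↥(Cfsg.Omega F ⇑(QOdd F n))) =
      QuotientGroup.mk (⟨ρ ub, hBΩ⟩ : ↥(Cfsg.Omega F ⇑(QOdd F n))) *
        QuotientGroup.mk (⟨ρ ua, hAΩ⟩ : ↥(Cfsg.Omega F ⇑(QOdd F n)))
    rw [← QuotientGroup.mk_mul, ← QuotientGroup.mk_mul]
    congr 1
    apply Subtype.ext
    show ρ ua * ρ ub = ρ ub * ρ ua
    rw [← map_mul, ← map_mul, hc.eq]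
  refine ⟨(QuotientGroup.mk (⟨ρ ua, hAΩ⟩ : ↥(Cfsg.Omega F ⇑(QOdd F n))) :
        Cfsg.POmega F ⇑(QOdd F n)) * QuotientGroup.mk (⟨ρ ub, hBΩ⟩ : ↥(Cfsg.Omega F ⇑(QOdd F n))), ?_⟩
  rw [hc'.orderOf_mul_eq_mul_orderOf_of_coprime (by
    rw [h1, h3]
    exact (Nat.coprime_primes hr hs).mpr hrs), h1, h3]

/-- **realisation in `PΩ_{2n+1}(q)`** -/
theorem pomega_of_abstract (hodd : Odd (Fintype.card F)) (n : ℕ) (hn : 3 ≤ n)
    (B : V →ₗ[F] V →ₗ[F] F) (hsym : EpsSym B 1) (hnd : Nondeg B)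
    (hV : finrank F V = 2 * n + 1) (a b : Module.End F V) (ha : IsIso B a) (hb : IsIso B b)
    (hab : a * b = b * a) (r s : ℕ) (hr : r.Prime) (hs : s.Prime) (hrs : r ≠ s)
    (har : a ^ r = 1) (ha1 : a ≠ 1) (hbs : b ^ s = 1) (hb1 : b ≠ 1)
    (haΩ : Odd r ∨ ∃ h : Module.End F V, IsIso B h ∧ a = h * h)
    (hbΩ : Odd s ∨ ∃ h : Module.End F V, IsIso B h ∧ b = h * h) :
    r * s ∈ Set.range (orderOf : Cfsg.POmega F (Cfsg.quadFormOdd n F) → ℕ) :=
  pomega_of_abstract_aux hodd n hn (Cfsg.quadFormOdd n F)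
    (funext fun v => (QOdd_apply F n v).symm) B hsym hnd hV a b ha hb hab r s hr hs hrs har ha1
    hbs hb1 haΩ hbΩ

end construct

end Cfsg.Agent.Lib.Helper15.BC
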