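import Mathlib
import Cfsg.Agent.Lib.Helper15.BC3
import Cfsg.Agent.Lib.Helper15.BC4
import Cfsg.Agent.Lib.Helper1.BCFO

/-!
# S2474, part 6: model spaces (dot product, standard symplectic space, rotation)
-/

set_option autoImplicit false

namespace Cfsg.Agent.Lib.Helper15.BC

open Module Matrix Cfsg.Agent.Lib.Helper6

section dot

variable (F : Type*) [Field F]

/-- the dot product on `F^d` -/
noncomputable def dotForm (d : ℕ) : (Fin d → F) →ₗ[F] (Fin d → F) →ₗ[F] F :=
  LinearMap.mk₂ F (fun x y => x ⬝ᵥ y) (fun x y z => add_dotProduct x y z)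
    (fun c x y => by rw [smul_dotProduct, smul_eq_mul])
    (fun x y z => dotProduct_add x y z)
    (fun c x y => by rw [dotProduct_smul, smul_eq_mul])

theorem dotForm_apply (d : ℕ) (x y : Fin d → F) : dotForm F d x y = x ⬝ᵥ y := rfl

theorem dotForm_epsSym (d : ℕ) : EpsSym (dotForm F d) 1 := by
  intro x y
  rw [dotForm_apply, dotForm_apply, one_mul, dotProduct_comm]

theorem dotForm_nondeg (d : ℕ) : Nondeg (dotForm F d) := by
  intro x h
  exact dotProduct_eq_zero x h

theorem finrank_dot (d : ℕ) : finrank F (Fin d → F) = d := Module.finrank_fin_fun F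

/-- the rotation by a quarter turn on `F^2` -/
noncomputable def rot : Module.End F (Fin 2 → F) :=
  Matrix.toLin' !![0, -1; 1, 0]

theorem rot_apply (x : Fin 2 → F) : rot F x = ![-x 1, x 0] := by
  unfold rot
  rw [Matrix.toLin'_apply]
  funext i
  fin_cases i <;> simp [Matrix.mulVec, dotProduct, Fin.sum_univ_two]

theorem rot_isIso : IsIso (dotForm F 2) (rot F) := by
  intro x y
  rw [dotForm_apply, dotForm_apply, rot_apply, rot_apply]
  simp only [dotProduct, Fin.sum_univ_two, Matrix.cons_val_zero, Matrix.cons_val_one]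
  ring

theorem rot_mul_rot : rot F * rot F = -1 := by
  apply LinearMap.ext
  intro x
  rw [Module.End.mul_apply, rot_apply, rot_apply]
  funext i
  fin_cases i <;> simp

theorem neg_one_ne_one_end (h2 : (2 : F) ≠ 0) {V : Type*} [AddCommGroup V] [Module F V]
    (hV : ∃ x : V, x ≠ 0) : (-1 : Module.End F V) ≠ 1 := by
  obtain ⟨x, hx⟩ := hV
  intro h
  have h1 := congrArg (fun f : Module.End F V => f x) h
  simp only [LinearMap.neg_apply, Module.End.one_apply] at h1
  have h3 : (2 : F) • x = 0 := by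
    rw [two_smul]
    nth_rewrite 1 [← h1]
    rw [neg_add_cancel]
  rcases smul_eq_zero.mp h3 with h4 | h4
  · exact h2 h4
  · exact hx h4

theorem exists_ne_zero_dot (d : ℕ) (hd : 1 ≤ d) : ∃ x : Fin d → F, x ≠ 0 := by
  refine ⟨fun _ => 1, ?_⟩
  intro h
  have := congrFun h ⟨0, hd⟩
  simp at this

end dot

section std

variable (F : Type*) [Field F]

theorem stdSymp_epsSym (m : ℕ) : EpsSym (stdSymp m F) (-1) := by
  intro x y
  rw [stdSymp_apply, stdSymp_apply, sympForm_swap]
  ring

theorem stdSymp_nondeg' (m : ℕ) : Nondeg (stdSymp m F) := fun x h => stdSymp_nondeg x h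

theorem finrank_std (m : ℕ) : finrank F (Fin m ⊕ Fin m → F) = 2 * m := by
  rw [Module.finrank_pi, Fintype.card_sum, Fintype.card_fin]
  ring

theorem exists_ne_zero_std (m : ℕ) (hm : 1 ≤ m) : ∃ x : Fin m ⊕ Fin m → F, x ≠ 0 := by
  refine ⟨fun _ => 1, ?_⟩
  intro h
  have := congrFun h (Sum.inl ⟨0, hm⟩)
  simp at this

end std

end Cfsg.Agent.Lib.Helper15.BC
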