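import Mathlib
import Cfsg.Agent.Lib.Helper15.BC5
import Cfsg.Agent.Lib.Helper15.BC6

/-!
# S2474, part 7: extension lemmas: from a subspace datum to an element of `PSp` or `PΩ`
-/

set_option autoImplicit false
set_option linter.unusedSectionVars false

namespace Cfsg.Agent.Lib.Helper15.BC

open Module Matrix Cfsg.Agent.Lib.Helper6

section symp

variable {F : Type*} [Field F] [Fintype F] {W : Type*} [AddCommGroup W] [Module F W]
  [FiniteDimensional F W]

theorem sumForm_alt {V₁ V₂ : Type*} [AddCommGroup V₁] [Module F V₁] [AddCommGroup V₂]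
    [Module F V₂] {B₁ : V₁ →ₗ[F] V₁ →ₗ[F] F} {B₂ : V₂ →ₗ[F] V₂ →ₗ[F] F}
    (h₁ : ∀ x, B₁ x x = 0) (h₂ : ∀ x, B₂ x x = 0) (x : V₁ × V₂) : sumForm B₁ B₂ x x = 0 := by
  rw [sumForm_apply, h₁, h₂, add_zero]

theorem exists_ne_zero_of_finrank_pos (h : 0 < finrank F W) : ∃ x : W, x ≠ 0 :=
  Module.finrank_pos_iff_exists_ne_zero.mp h

/-- two commuting isometries of odd prime orders of a symplectic subspace -/
theorem psp_of_sub (h2 : (2 : F) ≠ 0) (n : ℕ) (hn : 1 ≤ n) (B : W →ₗ[F] W →ₗ[F] F)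
    (hε : EpsSym B (-1)) (hnd : Nondeg B) (k : ℕ) (hk : finrank F W = 2 * k) (hkn : k ≤ n)
    (a b : Module.End F W) (ha : IsIso B a) (hb : IsIso B b) (hab : a * b = b * a) (r s : ℕ)
    (hr : r.Prime) (hs : s.Prime) (hrs : r ≠ s) (hro : Odd r) (hso : Odd s) (har : a ^ r = 1)
    (ha1 : a ≠ 1) (hbs : b ^ s = 1) (hb1 : b ≠ 1) :
    r * s ∈ Set.range (orderOf : Cfsg.PSp n F → ℕ) := by
  apply psp_of_abstract n hn (sumForm B (stdSymp (n - k) F))
    (sumForm_alt (alt_of_epsSym_neg_one h2 hε) stdSymp_alt)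
    (sumForm_nondeg hnd (stdSymp_nondeg' F (n - k)))
    (by rw [Module.finrank_prod, hk, finrank_std]; omega)
    (a.prodMap 1) (b.prodMap 1) (sumForm_isIso ha IsIso.one) (sumForm_isIso hb IsIso.one)
    (prodMap_comm hab rfl) r s hr hs hrs
  · rw [prodMap_pow', har, one_pow]
    exact LinearMap.prodMap_one
  · rintro ⟨c, hc⟩
    exact ha1 (eq_one_of_scalar_of_odd hnd ha r har hro c (prodMap_eq_smul_one hc).1)
  · rw [prodMap_pow', hbs, one_pow]
    exact LinearMap.prodMap_one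
  · rintro ⟨c, hc⟩
    exact hb1 (eq_one_of_scalar_of_odd hnd hb s hbs hso c (prodMap_eq_smul_one hc).1)

/-- an isometry of odd prime order of a symplectic subspace of codimension at least two, times a
transvection -/
theorem psp_of_sub_unip (h2 : (2 : F) ≠ 0) (p : ℕ) [Fact p.Prime] [CharP F p] (hpo : Odd p)
    (n : ℕ) (hn : 1 ≤ n) (B : W →ₗ[F] W →ₗ[F] F)
    (hε : EpsSym B (-1)) (hnd : Nondeg B) (k : ℕ) (hk : finrank F W = 2 * k) (hkn : k + 1 ≤ n)
    (b : Module.End F W) (hb : IsIso B b) (s : ℕ)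
    (hs : s.Prime) (hps : p ≠ s) (hso : Odd s) (hbs : b ^ s = 1) (hb1 : b ≠ 1) :
    p * s ∈ Set.range (orderOf : Cfsg.PSp n F → ℕ) := by
  have hp : p.Prime := Fact.out
  obtain ⟨τ, hτ, hτp, hτ1⟩ := Cfsg.Agent.Lib.Helper1.BCFO.exists_transvection_alt p
    (stdSymp (n - k) F) stdSymp_alt (stdSymp_nondeg' F (n - k))
    (exists_ne_zero_std F (n - k) (by omega))
  apply psp_of_abstract n hn (sumForm B (stdSymp (n - k) F))
    (sumForm_alt (alt_of_epsSym_neg_one h2 hε) stdSymp_alt)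
    (sumForm_nondeg hnd (stdSymp_nondeg' F (n - k)))
    (by rw [Module.finrank_prod, hk, finrank_std]; omega)
    ((1 : Module.End F W).prodMap τ) (b.prodMap 1) (sumForm_isIso IsIso.one hτ)
    (sumForm_isIso hb IsIso.one)
    (prodMap_comm (by rw [one_mul, mul_one]) (by rw [one_mul, mul_one])) p s hp hs hps
  · rw [prodMap_pow', hτp, one_pow]
    exact LinearMap.prodMap_one
  · rintro ⟨c, hc⟩
    exact hτ1 (eq_one_of_scalar_of_odd (stdSymp_nondeg' F (n - k)) hτ p hτp hpo c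
      (prodMap_eq_smul_one hc).2)
  · rw [prodMap_pow', hbs, one_pow]
    exact LinearMap.prodMap_one
  · rintro ⟨c, hc⟩
    exact hb1 (eq_one_of_scalar_of_odd hnd hb s hbs hso c (prodMap_eq_smul_one hc).1)

theorem smul_one_eq_one {V : Type*} [AddCommGroup V] [Module F V] (hV : ∃ x : V, x ≠ 0) {c : F}
    (h : (1 : Module.End F V) = c • (1 : Module.End F V)) : c = 1 := by
  obtain ⟨x, hx⟩ := hV
  have h1 := congrArg (fun f : Module.End F V => f x) h
  simp only [LinearMap.smul_apply, Module.End.one_apply] at h1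
  have h3 : (c - 1) • x = 0 := by rw [sub_smul, one_smul, ← h1, sub_self]
  rcases smul_eq_zero.mp h3 with h4 | h4
  · exact sub_eq_zero.mp h4
  · exact absurd h4 hx

theorem smul_one_eq_neg_one {V : Type*} [AddCommGroup V] [Module F V] (hV : ∃ x : V, x ≠ 0)
    {c : F} (h : (-1 : Module.End F V) = c • (1 : Module.End F V)) : c = -1 := by
  obtain ⟨x, hx⟩ := hV
  have h1 := congrArg (fun f : Module.End F V => f x) h
  simp only [LinearMap.smul_apply, Module.End.one_apply, LinearMap.neg_apply] at h1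
  have h3 : (c + 1) • x = 0 := by rw [add_smul, one_smul, ← h1, neg_add_cancel]
  rcases smul_eq_zero.mp h3 with h4 | h4
  · exact eq_neg_of_add_eq_zero_left h4
  · exact absurd h4 hx

theorem one_ne_neg_one (h2 : (2 : F) ≠ 0) : (1 : F) ≠ -1 := by
  intro h
  apply h2
  have : (2 : F) = 1 + 1 := by norm_num
  rw [this]
  nth_rewrite 1 [h]
  rw [neg_add_cancel]

theorem neg_one_pow_two {V : Type*} [AddCommGroup V] [Module F V] :
    (-1 : Module.End F V) ^ 2 = 1 := by
  rw [neg_one_sq]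

/-- an isometry of odd prime order of a proper symplectic subspace, times the involution `-1` on
a complement -/
theorem psp_of_sub_two (h2 : (2 : F) ≠ 0) (n : ℕ) (hn : 1 ≤ n) (B : W →ₗ[F] W →ₗ[F] F)
    (hε : EpsSym B (-1)) (hnd : Nondeg B) (k : ℕ) (hk : finrank F W = 2 * k) (hk1 : 1 ≤ k)
    (hkn : k + 1 ≤ n) (b : Module.End F W) (hb : IsIso B b) (s : ℕ)
    (hs : s.Prime) (hso : Odd s) (hbs : b ^ s = 1) (hb1 : b ≠ 1) :
    2 * s ∈ Set.range (orderOf : Cfsg.PSp n F → ℕ) := by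
  have h2s : 2 ≠ s := by
    rintro rfl
    exact absurd hso (by decide)
  apply psp_of_abstract n hn (sumForm B (stdSymp (n - k) F))
    (sumForm_alt (alt_of_epsSym_neg_one h2 hε) stdSymp_alt)
    (sumForm_nondeg hnd (stdSymp_nondeg' F (n - k)))
    (by rw [Module.finrank_prod, hk, finrank_std]; omega)
    ((1 : Module.End F W).prodMap (-1)) (b.prodMap 1) (sumForm_isIso IsIso.one isIso_neg_one)
    (sumForm_isIso hb IsIso.one)
    (prodMap_comm (by rw [one_mul, mul_one]) (by rw [one_mul, mul_one])) 2 s Nat.prime_two hs h2s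
  · rw [prodMap_pow', neg_one_pow_two, one_pow]
    exact LinearMap.prodMap_one
  · rintro ⟨c, hc⟩
    obtain ⟨h1, h3⟩ := prodMap_eq_smul_one hc
    have hW : ∃ x : W, x ≠ 0 := exists_ne_zero_of_finrank_pos (by rw [hk]; omega)
    have e1 := smul_one_eq_one hW h1
    have e2 := smul_one_eq_neg_one (exists_ne_zero_std F (n - k) (by omega)) h3
    exact one_ne_neg_one h2 (e1.symm.trans e2)
  · rw [prodMap_pow', hbs, one_pow]
    exact LinearMap.prodMap_one
  · rintro ⟨c, hc⟩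
    exact hb1 (eq_one_of_scalar_of_odd hnd hb s hbs hso c (prodMap_eq_smul_one hc).1)

omit [FiniteDimensional F W] in
/-- `PSp_{2n}(q)`, `n ≥ 2`, `q` odd, has an element of order `2p` -/
theorem psp_two_p (h2 : (2 : F) ≠ 0) (p : ℕ) [Fact p.Prime] [CharP F p] (hpo : Odd p)
    (n : ℕ) (hn : 2 ≤ n) :
    2 * p ∈ Set.range (orderOf : Cfsg.PSp n F → ℕ) := by
  have hp : p.Prime := Fact.out
  have h2p : 2 ≠ p := by
    rintro rfl
    exact absurd hpo (by decide)
  obtain ⟨τ, hτ, hτp, hτ1⟩ := Cfsg.Agent.Lib.Helper1.BCFO.exists_transvection_alt p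
    (stdSymp (n - 1) F) stdSymp_alt (stdSymp_nondeg' F (n - 1))
    (exists_ne_zero_std F (n - 1) (by omega))
  apply psp_of_abstract n (by omega) (sumForm (stdSymp 1 F) (stdSymp (n - 1) F))
    (sumForm_alt stdSymp_alt stdSymp_alt)
    (sumForm_nondeg (stdSymp_nondeg' F 1) (stdSymp_nondeg' F (n - 1)))
    (by rw [Module.finrank_prod, finrank_std, finrank_std]; omega)
    ((-1 : Module.End F (Fin 1 ⊕ Fin 1 → F)).prodMap 1)
    ((1 : Module.End F (Fin 1 ⊕ Fin 1 → F)).prodMap τ) (sumForm_isIso isIso_neg_one IsIso.one)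
    (sumForm_isIso IsIso.one hτ)
    (prodMap_comm (by rw [one_mul, mul_one]) (by rw [one_mul, mul_one])) 2 p Nat.prime_two hp h2p
  · rw [prodMap_pow', neg_one_pow_two, one_pow]
    exact LinearMap.prodMap_one
  · rintro ⟨c, hc⟩
    obtain ⟨h1, h3⟩ := prodMap_eq_smul_one hc
    have e1 := smul_one_eq_neg_one (exists_ne_zero_std F 1 le_rfl) h1
    have e2 := smul_one_eq_one (exists_ne_zero_std F (n - 1) (by omega)) h3
    exact one_ne_neg_one h2 (e2.symm.trans e1)
  · rw [prodMap_pow', hτp, one_pow]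
    exact LinearMap.prodMap_one
  · rintro ⟨c, hc⟩
    exact hτ1 (eq_one_of_scalar_of_odd (stdSymp_nondeg' F (n - 1)) hτ p hτp hpo c
      (prodMap_eq_smul_one hc).2)

end symp

end Cfsg.Agent.Lib.Helper15.BC
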