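import Mathlib
import Cfsg.Agent.Lib.Helper15.BC7

/-!
# S2474, part 8: extension lemmas on the orthogonal side
-/

set_option autoImplicit false
set_option linter.unusedSectionVars false

namespace Cfsg.Agent.Lib.Helper15.BC

open Module Matrix Cfsg.Agent.Lib.Helper6

section orth

variable {F : Type*} [Field F] [Fintype F] {W : Type*} [AddCommGroup W] [Module F W]
  [FiniteDimensional F W]

theorem two_ne_zero_of_odd (hodd : Odd (Fintype.card F)) : (2 : F) ≠ 0 :=
  two_ne_zero_of_odd_card hodd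

/-- two commuting isometries of odd prime orders of a quadratic subspace -/
theorem pomega_of_sub (hodd : Odd (Fintype.card F)) (n : ℕ) (hn : 3 ≤ n)
    (B : W →ₗ[F] W →ₗ[F] F) (hε : EpsSym B 1) (hnd : Nondeg B) (d : ℕ)
    (hd : finrank F W = d) (hdn : d ≤ 2 * n + 1)
    (a b : Module.End F W) (ha : IsIso B a) (hb : IsIso B b) (hab : a * b = b * a) (r s : ℕ)
    (hr : r.Prime) (hs : s.Prime) (hrs : r ≠ s) (hro : Odd r) (hso : Odd s) (har : a ^ r = 1)
    (ha1 : a ≠ 1) (hbs : b ^ s = 1) (hb1 : b ≠ 1) :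
    r * s ∈ Set.range (orderOf : Cfsg.POmega F (Cfsg.quadFormOdd n F) → ℕ) := by
  apply pomega_of_abstract hodd n hn (sumForm B (dotForm F (2 * n + 1 - d)))
    (sumForm_epsSym hε (dotForm_epsSym F _)) (sumForm_nondeg hnd (dotForm_nondeg F _))
    (by rw [Module.finrank_prod, hd, finrank_dot]; omega)
    (a.prodMap 1) (b.prodMap 1) (sumForm_isIso ha IsIso.one) (sumForm_isIso hb IsIso.one)
    (prodMap_comm hab rfl) r s hr hs hrs
  · rw [prodMap_pow', har, one_pow]
    exact LinearMap.prodMap_one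
  · intro h
    exact ha1 (prodMap_eq_one_iff.mp h).1
  · rw [prodMap_pow', hbs, one_pow]
    exact LinearMap.prodMap_one
  · intro h
    exact hb1 (prodMap_eq_one_iff.mp h).1
  · exact Or.inl hro
  · exact Or.inl hso

/-- an isometry of odd prime order of a quadratic subspace of codimension at least three, times a
unipotent isometry -/
theorem pomega_of_sub_unip (hodd : Odd (Fintype.card F)) (p : ℕ) [Fact p.Prime] [CharP F p]
    (hpo : Odd p) (n : ℕ) (hn : 3 ≤ n)
    (B : W →ₗ[F] W →ₗ[F] F) (hε : EpsSym B 1) (hnd : Nondeg B) (d : ℕ)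
    (hd : finrank F W = d) (hdn : d + 3 ≤ 2 * n + 1)
    (b : Module.End F W) (hb : IsIso B b) (s : ℕ)
    (hs : s.Prime) (hps : p ≠ s) (hso : Odd s) (hbs : b ^ s = 1) (hb1 : b ≠ 1) :
    p * s ∈ Set.range (orderOf : Cfsg.POmega F (Cfsg.quadFormOdd n F) → ℕ) := by
  have hp : p.Prime := Fact.out
  have hp2 : p ≠ 2 := by
    rintro rfl
    exact absurd hpo (by decide)
  obtain ⟨B3, u, hB3s, hB3n, hu, hup, hu1⟩ :=
    Cfsg.Agent.Lib.Helper1.BCFO.exists_unipotent_three (F := F) p hp2
  have hB3ε : EpsSym B3 1 := by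
    intro x y
    rw [one_mul, hB3s]
  apply pomega_of_abstract hodd n hn
    (sumForm B (sumForm B3 (dotForm F (2 * n + 1 - d - 3))))
    (sumForm_epsSym hε (sumForm_epsSym hB3ε (dotForm_epsSym F _)))
    (sumForm_nondeg hnd (sumForm_nondeg hB3n (dotForm_nondeg F _)))
    (by rw [Module.finrank_prod, Module.finrank_prod, hd, finrank_dot, finrank_dot]; omega)
    ((1 : Module.End F W).prodMap (u.prodMap 1)) (b.prodMap 1)
    (sumForm_isIso IsIso.one (sumForm_isIso hu IsIso.one)) (sumForm_isIso hb IsIso.one)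
    (prodMap_comm (by rw [one_mul, mul_one]) (by rw [one_mul, mul_one])) p s hp hs hps
  · rw [prodMap_pow', prodMap_pow', hup, one_pow, one_pow, LinearMap.prodMap_one]
    exact LinearMap.prodMap_one
  · intro h
    exact hu1 (prodMap_eq_one_iff.mp (prodMap_eq_one_iff.mp h).2).1
  · rw [prodMap_pow', hbs, one_pow]
    exact LinearMap.prodMap_one
  · intro h
    exact hb1 (prodMap_eq_one_iff.mp h).1
  · exact Or.inl hpo
  · exact Or.inl hso

/-- an isometry of odd prime order of a quadratic subspace of codimension at least two, times an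
involution which is a square -/
theorem pomega_of_sub_two (hodd : Odd (Fintype.card F)) (n : ℕ) (hn : 3 ≤ n)
    (B : W →ₗ[F] W →ₗ[F] F) (hε : EpsSym B 1) (hnd : Nondeg B) (d : ℕ)
    (hd : finrank F W = d) (hdn : d + 2 ≤ 2 * n + 1)
    (b : Module.End F W) (hb : IsIso B b) (s : ℕ)
    (hs : s.Prime) (hso : Odd s) (hbs : b ^ s = 1) (hb1 : b ≠ 1) :
    2 * s ∈ Set.range (orderOf : Cfsg.POmega F (Cfsg.quadFormOdd n F) → ℕ) := by
  have h2 := two_ne_zero_of_odd hodd
  have h2s : 2 ≠ s := by
    rintro rfl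
    exact absurd hso (by decide)
  have hsq : ((1 : Module.End F W).prodMap ((rot F).prodMap
      (1 : Module.End F (Fin (2 * n + 1 - d - 2) → F)))) *
      ((1 : Module.End F W).prodMap ((rot F).prodMap 1)) =
      (1 : Module.End F W).prodMap ((-1 : Module.End F (Fin 2 → F)).prodMap 1) := by
    rw [LinearMap.prodMap_mul, LinearMap.prodMap_mul, rot_mul_rot, one_mul, one_mul]
  apply pomega_of_abstract hodd n hn
    (sumForm B (sumForm (dotForm F 2) (dotForm F (2 * n + 1 - d - 2))))
    (sumForm_epsSym hε (sumForm_epsSym (dotForm_epsSym F 2) (dotForm_epsSym F _)))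
    (sumForm_nondeg hnd (sumForm_nondeg (dotForm_nondeg F 2) (dotForm_nondeg F _)))
    (by rw [Module.finrank_prod, Module.finrank_prod, hd, finrank_dot, finrank_dot]; omega)
    ((1 : Module.End F W).prodMap ((-1 : Module.End F (Fin 2 → F)).prodMap 1)) (b.prodMap 1)
    (sumForm_isIso IsIso.one (sumForm_isIso isIso_neg_one IsIso.one)) (sumForm_isIso hb IsIso.one)
    (prodMap_comm (by rw [one_mul, mul_one]) (by rw [one_mul, mul_one])) 2 s Nat.prime_two hs h2s
  · rw [prodMap_pow', prodMap_pow', neg_one_pow_two, one_pow, one_pow, LinearMap.prodMap_one]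
    exact LinearMap.prodMap_one
  · intro h
    exact neg_one_ne_one_end F h2 (exists_ne_zero_dot F 2 (by omega))
      (prodMap_eq_one_iff.mp (prodMap_eq_one_iff.mp h).2).1
  · rw [prodMap_pow', hbs, one_pow]
    exact LinearMap.prodMap_one
  · intro h
    exact hb1 (prodMap_eq_one_iff.mp h).1
  · right
    exact ⟨(1 : Module.End F W).prodMap ((rot F).prodMap 1),
      sumForm_isIso IsIso.one (sumForm_isIso (rot_isIso F) IsIso.one), hsq.symm⟩
  · exact Or.inl hso

/-- an isometry of odd prime order commuting with a square root of `-1` on a quadratic space of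
dimension `2n` -/
theorem pomega_of_sq (hodd : Odd (Fintype.card F)) (n : ℕ) (hn : 3 ≤ n)
    (B : W →ₗ[F] W →ₗ[F] F) (hε : EpsSym B 1) (hnd : Nondeg B)
    (hd : finrank F W = 2 * n) (h b : Module.End F W) (hh : IsIso B h) (hb : IsIso B b)
    (hh2 : h * h = -1) (s : ℕ)
    (hs : s.Prime) (hso : Odd s) (hbs : b ^ s = 1) (hb1 : b ≠ 1) :
    2 * s ∈ Set.range (orderOf : Cfsg.POmega F (Cfsg.quadFormOdd n F) → ℕ) := by
  have h2 := two_ne_zero_of_odd hodd
  have h2s : 2 ≠ s := by
    rintro rfl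
    exact absurd hso (by decide)
  have hsq : (h.prodMap (1 : Module.End F (Fin 1 → F))) * (h.prodMap 1) =
      (-1 : Module.End F W).prodMap 1 := by
    rw [LinearMap.prodMap_mul, hh2, one_mul]
  apply pomega_of_abstract hodd n hn (sumForm B (dotForm F 1))
    (sumForm_epsSym hε (dotForm_epsSym F 1)) (sumForm_nondeg hnd (dotForm_nondeg F 1))
    (by rw [Module.finrank_prod, hd, finrank_dot])
    ((-1 : Module.End F W).prodMap 1) (b.prodMap 1)
    (sumForm_isIso isIso_neg_one IsIso.one) (sumForm_isIso hb IsIso.one)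
    (prodMap_comm (by rw [neg_one_mul, mul_neg_one]) rfl) 2 s Nat.prime_two hs h2s
  · rw [prodMap_pow', neg_one_pow_two, one_pow]
    exact LinearMap.prodMap_one
  · intro h'
    exact neg_one_ne_one_end F h2 (exists_ne_zero_of_finrank_pos (by rw [hd]; omega))
      (prodMap_eq_one_iff.mp h').1
  · rw [prodMap_pow', hbs, one_pow]
    exact LinearMap.prodMap_one
  · intro h'
    exact hb1 (prodMap_eq_one_iff.mp h').1
  · right
    exact ⟨h.prodMap 1, sumForm_isIso hh IsIso.one, hsq.symm⟩
  · exact Or.inl hso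

omit [FiniteDimensional F W] in
/-- `PΩ_{2n+1}(q)` has an element of order `2p` -/
theorem pomega_two_p (hodd : Odd (Fintype.card F)) (p : ℕ) [Fact p.Prime] [CharP F p]
    (hpo : Odd p) (n : ℕ) (hn : 3 ≤ n) :
    2 * p ∈ Set.range (orderOf : Cfsg.POmega F (Cfsg.quadFormOdd n F) → ℕ) := by
  have hp : p.Prime := Fact.out
  have h2 := two_ne_zero_of_odd hodd
  have hp2 : p ≠ 2 := by
    rintro rfl
    exact absurd hpo (by decide)
  obtain ⟨B3, u, hB3s, hB3n, hu, hup, hu1⟩ :=
    Cfsg.Agent.Lib.Helper1.BCFO.exists_unipotent_three (F := F) p hp2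
  have hB3ε : EpsSym B3 1 := by
    intro x y
    rw [one_mul, hB3s]
  have hsq : ((rot F).prodMap (1 : Module.End F ((Fin 3 → F) × (Fin (2 * n - 4) → F)))) *
      ((rot F).prodMap 1) = (-1 : Module.End F (Fin 2 → F)).prodMap 1 := by
    rw [LinearMap.prodMap_mul, rot_mul_rot, one_mul]
  apply pomega_of_abstract hodd n hn
    (sumForm (dotForm F 2) (sumForm B3 (dotForm F (2 * n - 4))))
    (sumForm_epsSym (dotForm_epsSym F 2) (sumForm_epsSym hB3ε (dotForm_epsSym F _)))
    (sumForm_nondeg (dotForm_nondeg F 2) (sumForm_nondeg hB3n (dotForm_nondeg F _)))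
    (by rw [Module.finrank_prod, Module.finrank_prod, finrank_dot, finrank_dot, finrank_dot]; omega)
    ((-1 : Module.End F (Fin 2 → F)).prodMap 1)
    ((1 : Module.End F (Fin 2 → F)).prodMap (u.prodMap 1))
    (sumForm_isIso isIso_neg_one IsIso.one) (sumForm_isIso IsIso.one (sumForm_isIso hu IsIso.one))
    (prodMap_comm (by rw [one_mul, mul_one]) (by rw [one_mul, mul_one])) 2 p Nat.prime_two hp
    hp2.symm
  · rw [prodMap_pow', neg_one_pow_two, one_pow]
    exact LinearMap.prodMap_one
  · intro h'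
    exact neg_one_ne_one_end F h2 (exists_ne_zero_dot F 2 (by omega)) (prodMap_eq_one_iff.mp h').1
  · rw [prodMap_pow', prodMap_pow', hup, one_pow, one_pow, LinearMap.prodMap_one]
    exact LinearMap.prodMap_one
  · intro h'
    exact hu1 (prodMap_eq_one_iff.mp (prodMap_eq_one_iff.mp h').2).1
  · right
    exact ⟨(rot F).prodMap 1, sumForm_isIso (rot_isIso F) IsIso.one, hsq.symm⟩
  · exact Or.inl hpo

end orth

end Cfsg.Agent.Lib.Helper15.BC
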