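import Mathlib
import Cfsg.Agent.Lib.Helper15.BC8

/-!
# S2474, part 9: from the symplectic group to the orthogonal group
-/

set_option autoImplicit false
set_option linter.unusedSectionVars false

namespace Cfsg.Agent.Lib.Helper15.BC

open Module Matrix Cfsg.Agent.Lib.Helper6

section tools

variable {F : Type*} [Field F] {V : Type*} [AddCommGroup V] [Module F V]

/-- normalising an isometry whose odd power is a scalar -/
theorem exists_normalized {B : V →ₗ[F] V →ₗ[F] F} (hnd : Nondeg B) (hV : ∃ x : V, x ≠ 0)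
    {g : Module.End F V} (hg : IsIso B g) (t : ℕ) (ht : Odd t) (c : F)
    (hgt : g ^ t = c • (1 : Module.End F V)) (hg1 : ¬ ∃ c : F, g = c • (1 : Module.End F V)) :
    ∃ g' : Module.End F V, IsIso B g' ∧ g' ^ t = 1 ∧ g' ≠ 1 ∧
      ∀ x : Module.End F V, x * g = g * x → x * g' = g' * x := by
  have hcc : c * c = 1 := sq_eq_one_of_scalar_iso hnd (hgt ▸ hg.pow t) hV
  refine ⟨c • g, ?_, ?_, ?_, ?_⟩
  · intro x y
    rw [LinearMap.smul_apply, LinearMap.smul_apply, map_smul, map_smul, LinearMap.smul_apply,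
      smul_eq_mul, smul_eq_mul, hg, ← mul_assoc, hcc, one_mul]
  · rw [smul_pow, hgt, smul_smul]
    obtain ⟨k, hk⟩ := ht
    have : c ^ t * c = 1 := by
      rw [← pow_succ, hk]
      have : 2 * k + 1 + 1 = 2 * (k + 1) := by ring
      rw [this, pow_mul, pow_two, hcc, one_pow]
    rw [this, one_smul]
  · intro h
    apply hg1
    refine ⟨c, ?_⟩
    have h1 : c • (c • g) = g := by rw [smul_smul, hcc, one_smul]
    rw [← h1, h]
  · intro x hx
    rw [mul_smul_comm, smul_mul_assoc, hx]

/-- `a ^ r = 1` and `a ^ s x = x` with `r`, `s` coprime give `a x = x` -/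
theorem fixed_of_coprime_pow {a : Module.End F V} {r s : ℕ} (hr : 1 < r) (hrs : Nat.Coprime s r)
    (har : a ^ r = 1) (x : V) (hx : (a ^ s) x = x) : a x = x := by
  obtain ⟨u, -, hu⟩ := Nat.exists_mul_mod_eq_one_of_coprime hrs hr
  have h1 : s * u = r * (s * u / r) + 1 := by
    have := Nat.div_add_mod (s * u) r
    rw [hu] at this
    exact this.symm
  have h3 : (a ^ (s * u)) x = x := by
    rw [pow_mul]
    have : ∀ j : ℕ, ((a ^ s) ^ j) x = x := by
      intro j
      induction j with
      | zero => rfl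
      | succ j ih => rw [pow_succ, Module.End.mul_apply, hx, ih]
    exact this u
  rw [h1, pow_succ, pow_mul, har, one_pow, one_mul] at h3
  exact h3

/-- if the restriction of `c` to the image of `g - 1` is trivial and `c` fixes the kernel of
`g - 1` pointwise then `c = 1` -/
theorem eq_one_of_resR_eq_one [FiniteDimensional F V] {g c : Module.End F V} (hc : c * g = g * c)
    (m : ℕ) (hm : g ^ m = 1) (hmF : (m : F) ≠ 0) (h1 : resR g c hc = 1)
    (h0 : ∀ x ∈ LinearMap.ker (g - 1), c x = x) : c = 1 := by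
  have hcompl := OddSp.isCompl_ker_range g m hm hmF
  apply LinearMap.ext
  intro v
  obtain ⟨v₀, hv₀, v₁, hv₁, rfl⟩ := Submodule.mem_sup.mp
    (show v ∈ LinearMap.ker (g - 1) ⊔ LinearMap.range (g - 1) by
      rw [hcompl.sup_eq_top]; exact Submodule.mem_top)
  rw [map_add, h0 v₀ hv₀, (resR_eq_one_iff g c hc).mp h1 v₁ hv₁, Module.End.one_apply]

/-- the restriction of a nontrivial `g` to the image of `g - 1` is nontrivial -/
theorem resR_self_ne_one [FiniteDimensional F V] {g : Module.End F V}
    (m : ℕ) (hm : g ^ m = 1) (hmF : (m : F) ≠ 0) (hg1 : g ≠ 1) : resR g g rfl ≠ 1 := by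
  intro h
  apply hg1
  apply eq_one_of_resR_eq_one rfl m hm hmF h
  intro x hx
  rw [LinearMap.mem_ker, LinearMap.sub_apply, Module.End.one_apply, sub_eq_zero] at hx
  exact hx

theorem natCast_ne_zero_of_prime_ne (p : ℕ) [Fact p.Prime] [CharP F p] (s : ℕ) (hs : s.Prime)
    (hsp : s ≠ p) : (s : F) ≠ 0 := by
  intro h
  have h1 := (CharP.cast_eq_zero_iff F p s).mp h
  have hp : p.Prime := Fact.out
  exact hsp ((Nat.prime_dvd_prime_iff_eq hp hs).mp h1).symm

theorem mul_pow_eq_one {a b : Module.End F V} (hab : a * b = b * a) {r s : ℕ} (har : a ^ r = 1)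
    (hbs : b ^ s = 1) : (a * b) ^ (r * s) = 1 := by
  have hc : Commute a b := hab
  rw [hc.mul_pow, pow_mul, har, one_pow, mul_comm r s, pow_mul, hbs, one_pow, one_mul]

theorem pow_fixed {g : Module.End F V} {x : V} (hx : g x = x) (j : ℕ) : (g ^ j) x = x := by
  induction j with
  | zero => rfl
  | succ j ih => rw [pow_succ, Module.End.mul_apply, hx, ih]

/-- the restriction of `a` to the image of `a b - 1` is nontrivial -/
theorem resR_mul_ne_one_left [FiniteDimensional F V] {a b : Module.End F V} (hab : a * b = b * a)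
    {r s : ℕ} (hr : 1 < r) (hrs : Nat.Coprime s r) (har : a ^ r = 1) (hbs : b ^ s = 1)
    (hF : ((r * s : ℕ) : F) ≠ 0) (ha1 : a ≠ 1) (h : a * (a * b) = (a * b) * a) :
    resR (a * b) a h ≠ 1 := by
  intro h1
  apply ha1
  apply eq_one_of_resR_eq_one h (r * s) (mul_pow_eq_one hab har hbs) hF h1
  intro x hx
  rw [LinearMap.mem_ker, LinearMap.sub_apply, Module.End.one_apply, sub_eq_zero] at hx
  apply fixed_of_coprime_pow hr hrs har
  have h3 := pow_fixed hx s
  have hc : Commute a b := hab
  rw [hc.mul_pow, hbs, mul_one] at h3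
  exact h3

/-- the restriction of `b` to the image of `a b - 1` is nontrivial -/
theorem resR_mul_ne_one_right [FiniteDimensional F V] {a b : Module.End F V} (hab : a * b = b * a)
    {r s : ℕ} (hs : 1 < s) (hrs : Nat.Coprime r s) (har : a ^ r = 1) (hbs : b ^ s = 1)
    (hF : ((r * s : ℕ) : F) ≠ 0) (hb1 : b ≠ 1) (h : b * (a * b) = (a * b) * b) :
    resR (a * b) b h ≠ 1 := by
  intro h1
  apply hb1
  apply eq_one_of_resR_eq_one h (r * s) (mul_pow_eq_one hab har hbs) hF h1
  intro x hx
  rw [LinearMap.mem_ker, LinearMap.sub_apply, Module.End.one_apply, sub_eq_zero] at hx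
  apply fixed_of_coprime_pow hs hrs hbs
  have h3 := pow_fixed hx r
  have hc : Commute a b := hab
  rw [hc.mul_pow, har, one_mul] at h3
  exact h3

theorem comm_mul_left {a b : Module.End F V} (hab : a * b = b * a) :
    a * (a * b) = (a * b) * a := by
  rw [mul_assoc, hab]

theorem comm_mul_right {a b : Module.End F V} (hab : a * b = b * a) :
    b * (a * b) = (a * b) * b := by
  rw [← mul_assoc, hab]

theorem resR_pow_eq_one {g c : Module.End F V} (hc : c * g = g * c) {t : ℕ} (hct : c ^ t = 1) :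
    resR g c hc ^ t = 1 := by
  rw [← resR_pow]
  have : resR g (c ^ t) (commute_pow g c hc t) = resR g 1 (by rw [one_mul, mul_one]) := by
    congr 1
  rw [this, resR_one]

end tools

end Cfsg.Agent.Lib.Helper15.BC
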