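import Mathlib
import Cfsg.Agent.Lib.Helper15.BC9

/-!
# S2474, part 10: from the symplectic group to the orthogonal group: the three cases
-/

set_option autoImplicit false
set_option linter.unusedSectionVars false

namespace Cfsg.Agent.Lib.Helper15.BC

open Module Matrix Cfsg.Agent.Lib.Helper6

section s2o

variable {F : Type*} [Field F] [Fintype F] {V : Type*} [AddCommGroup V] [Module F V]
  [FiniteDimensional F V]

theorem rangeForm_epsSym_one {B : V →ₗ[F] V →ₗ[F] F} (hε : EpsSym B (-1)) (g : Module.End F V) :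
    EpsSym (rangeForm B g) 1 := by
  have := rangeForm_epsSym hε g
  rwa [neg_neg] at this

/-- both elements semisimple of odd order -/
theorem sp_to_orth_ss (hodd : Odd (Fintype.card F)) (n : ℕ) (hn : 3 ≤ n)
    (B : V →ₗ[F] V →ₗ[F] F) (hε : EpsSym B (-1)) (hnd : Nondeg B) (hV : finrank F V = 2 * n)
    (a b : Module.End F V) (ha : IsIso B a) (hb : IsIso B b) (hab : a * b = b * a) (r s : ℕ)
    (hr : r.Prime) (hs : s.Prime) (hrs : r ≠ s) (hro : Odd r) (hso : Odd s) (hrF : (r : F) ≠ 0)
    (hsF : (s : F) ≠ 0) (har : a ^ r = 1) (ha1 : a ≠ 1) (hbs : b ^ s = 1) (hb1 : b ≠ 1) :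
    r * s ∈ Set.range (orderOf : Cfsg.POmega F (Cfsg.quadFormOdd n F) → ℕ) := by
  have hF : ((r * s : ℕ) : F) ≠ 0 := by
    rw [Nat.cast_mul]
    exact mul_ne_zero hrF hsF
  have hg : IsIso B (a * b) := ha.mul hb
  have hgm := mul_pow_eq_one hab har hbs
  have hoddm : Odd (r * s) := hro.mul hso
  have hle : finrank F (LinearMap.range (a * b - 1)) ≤ 2 * n + 1 := by
    have := Submodule.finrank_le (LinearMap.range (a * b - 1))
    omega
  exact pomega_of_sub hodd n hn (rangeForm B (a * b)) (rangeForm_epsSym_one hε _)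
    (rangeForm_nondeg hε hnd hg (r * s) hgm hoddm hF) _ rfl hle
    (resR (a * b) a (comm_mul_left hab)) (resR (a * b) b (comm_mul_right hab))
    (resR_isIso ha _) (resR_isIso hb _) (resR_comm _ _ _ _ _ hab) r s hr hs hrs hro hso
    (resR_pow_eq_one _ har)
    (resR_mul_ne_one_left hab hr.one_lt ((Nat.coprime_primes hs hr).mpr hrs.symm) har hbs hF ha1 _)
    (resR_pow_eq_one _ hbs)
    (resR_mul_ne_one_right hab hs.one_lt ((Nat.coprime_primes hr hs).mpr hrs) har hbs hF hb1 _)

/-- a unipotent element and a semisimple element of odd order -/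
theorem sp_to_orth_unip (hodd : Odd (Fintype.card F)) (p : ℕ) [Fact p.Prime] [CharP F p]
    (hpo : Odd p) (n : ℕ) (hn : 3 ≤ n)
    (B : V →ₗ[F] V →ₗ[F] F) (hε : EpsSym B (-1)) (hnd : Nondeg B) (hV : finrank F V = 2 * n)
    (a b : Module.End F V) (ha : IsIso B a) (hb : IsIso B b) (hab : a * b = b * a) (s : ℕ)
    (hs : s.Prime) (hps : p ≠ s) (hso : Odd s)
    (hsF : (s : F) ≠ 0) (hap : a ^ p = 1) (ha1 : a ≠ 1) (hbs : b ^ s = 1) (hb1 : b ≠ 1) :
    p * s ∈ Set.range (orderOf : Cfsg.POmega F (Cfsg.quadFormOdd n F) → ℕ) := by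
  have hp : p.Prime := Fact.out
  have h2 := two_ne_zero_of_odd hodd
  have hle : finrank F (LinearMap.range (b - 1)) ≤ 2 * n := by
    have := Submodule.finrank_le (LinearMap.range (b - 1))
    omega
  by_cases h : resR b a hab = 1
  · -- the unipotent element acts on the fixed space of `b`
    have hev := even_finrank_range_alt h2 hε hnd hb s hbs hsF
    have hne : finrank F (LinearMap.range (b - 1)) ≠ 2 * n := by
      intro heq
      have htop : LinearMap.range (b - 1) = ⊤ := by
        apply Submodule.eq_top_of_finrank_eq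
        rw [heq, hV]
      apply ha1
      apply LinearMap.ext
      intro x
      exact (resR_eq_one_iff b a hab).mp h x (by rw [htop]; exact Submodule.mem_top)
    have hd3 : finrank F (LinearMap.range (b - 1)) + 3 ≤ 2 * n + 1 := by
      obtain ⟨k, hk⟩ := hev
      omega
    exact pomega_of_sub_unip hodd p hpo n hn (rangeForm B b) (rangeForm_epsSym_one hε _)
      (rangeForm_nondeg hε hnd hb s hbs hso hsF) _ rfl hd3 (resR b b rfl) (resR_isIso hb _) s hs
      hps hso (resR_pow_eq_one _ hbs) (resR_self_ne_one s hbs hsF hb1)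
  · exact pomega_of_sub hodd n hn (rangeForm B b) (rangeForm_epsSym_one hε _)
      (rangeForm_nondeg hε hnd hb s hbs hso hsF) _ rfl (by omega)
      (resR b a hab) (resR b b rfl) (resR_isIso ha _) (resR_isIso hb _)
      (resR_comm _ _ _ _ _ hab) p s hp hs hps hpo hso (resR_pow_eq_one _ hap) h
      (resR_pow_eq_one _ hbs) (resR_self_ne_one s hbs hsF hb1)

/-- the cut of `b` along an involution -/
theorem sp_to_orth_cut (hodd : Odd (Fintype.card F)) (n : ℕ) (hn : 3 ≤ n)
    (B : V →ₗ[F] V →ₗ[F] F) (hε : EpsSym B (-1)) (hnd : Nondeg B) (hV : finrank F V = 2 * n)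
    (a b : Module.End F V) (ha : IsIso B a) (hb : IsIso B b) (hab : a * b = b * a) (s : ℕ)
    (hs : s.Prime) (hso : Odd s) (hsF : (s : F) ≠ 0) (haa : a * a = 1) (ha1 : a ≠ 1)
    (hbs : b ^ s = 1) (hc1 : cut a b ≠ 1) :
    2 * s ∈ Set.range (orderOf : Cfsg.POmega F (Cfsg.quadFormOdd n F) → ℕ) := by
  have h2 := two_ne_zero_of_odd hodd
  have hc := cut_isIso h2 haa hab ha hb
  have hcs := cut_pow_eq_one h2 haa hab s hbs
  have hle : finrank F (LinearMap.range (cut a b - 1)) ≤ 2 * n := by
    have := Submodule.finrank_le (LinearMap.range (cut a b - 1))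
    omega
  have hev := even_finrank_range_alt h2 hε hnd hc s hcs hsF
  have hne : finrank F (LinearMap.range (cut a b - 1)) ≠ 2 * n := by
    intro heq
    have htop : LinearMap.range (cut a b - 1) = ⊤ := by
      apply Submodule.eq_top_of_finrank_eq
      rw [heq, hV]
    apply ha1
    apply LinearMap.ext
    intro x
    exact fixed_of_mem_range_cut haa hab x (by rw [htop]; exact Submodule.mem_top)
  have hd2 : finrank F (LinearMap.range (cut a b - 1)) + 2 ≤ 2 * n + 1 := by
    obtain ⟨k, hk⟩ := hev
    omega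
  exact pomega_of_sub_two hodd n hn (rangeForm B (cut a b)) (rangeForm_epsSym_one hε _)
    (rangeForm_nondeg hε hnd hc s hcs hso hsF) _ rfl hd2 (resR (cut a b) (cut a b) rfl)
    (resR_isIso hc _) s hs hso (resR_pow_eq_one _ hcs) (resR_self_ne_one s hcs hsF hc1)

/-- an element of projective order two and a semisimple element of odd order -/
theorem sp_to_orth_two (hodd : Odd (Fintype.card F)) (n : ℕ) (hn : 3 ≤ n)
    (B : V →ₗ[F] V →ₗ[F] F) (hε : EpsSym B (-1)) (hnd : Nondeg B) (hV : finrank F V = 2 * n)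
    (a b : Module.End F V) (ha : IsIso B a) (hb : IsIso B b) (hab : a * b = b * a) (s : ℕ)
    (hs : s.Prime) (hso : Odd s) (hsF : (s : F) ≠ 0) (c : F)
    (hac : a * a = c • (1 : Module.End F V))
    (ha1 : ¬ ∃ c : F, a = c • (1 : Module.End F V)) (hbs : b ^ s = 1) (hb1 : b ≠ 1) :
    2 * s ∈ Set.range (orderOf : Cfsg.POmega F (Cfsg.quadFormOdd n F) → ℕ) := by
  have h2 := two_ne_zero_of_odd hodd
  have hVne : ∃ x : V, x ≠ 0 := exists_ne_zero_of_finrank_pos (by rw [hV]; omega)
  have hcc : c * c = 1 := sq_eq_one_of_scalar_iso hnd (hac ▸ ha.mul ha) hVne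
  have hc1 : c = 1 ∨ c = -1 := by
    have : (c - 1) * (c + 1) = 0 := by ring_nf; rw [← pow_two] at *; linear_combination hcc
    rcases mul_eq_zero.mp this with h | h
    · left; exact sub_eq_zero.mp h
    · right; exact eq_neg_of_add_eq_zero_left h
  rcases hc1 with rfl | rfl
  · -- an involution
    rw [one_smul] at hac
    have ha1' : a ≠ 1 := by
      intro h
      exact ha1 ⟨1, by rw [h, one_smul]⟩
    have hna1 : -a ≠ 1 := by
      intro h
      apply ha1
      refine ⟨-1, ?_⟩
      rw [neg_smul, one_smul, ← h, neg_neg]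
    by_cases hcut : cut a b = 1
    · have hcut' : cut (-a) b ≠ 1 := by
        intro h
        apply hb1
        rw [← cut_mul_cut_neg h2 hac hab, hcut, h, one_mul]
      exact sp_to_orth_cut hodd n hn B hε hnd hV (-a) b ha.neg hb
        (by rw [neg_mul, mul_neg, hab]) s hs hso hsF (neg_mul_neg_self hac) hna1 hbs hcut'
    · exact sp_to_orth_cut hodd n hn B hε hnd hV a b ha hb hab s hs hso hsF hac ha1' hbs hcut
  · -- a square root of `-1`
    rw [neg_smul, one_smul] at hac
    have haa : ∀ x, a (a x) = -x := by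
      intro x
      rw [← Module.End.mul_apply, hac, LinearMap.neg_apply, Module.End.one_apply]
    have hε' : EpsSym (B.comp a) 1 := by
      intro x y
      rw [LinearMap.comp_apply, LinearMap.comp_apply, one_mul, hε y (a x), ← ha y (a x), haa,
        map_neg]
      ring
    have hnd' : Nondeg (B.comp a) := by
      intro x h
      have h1 : a x = 0 := by
        apply hnd
        intro y
        exact h y
      have := haa x
      rw [h1, map_zero] at this
      exact neg_eq_zero.mp this.symm
    have hiso : ∀ g : Module.End F V, IsIso B g → a * g = g * a → IsIso (B.comp a) g := by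
      intro g hg hga x y
      rw [LinearMap.comp_apply, LinearMap.comp_apply, ← Module.End.mul_apply a g, hga,
        Module.End.mul_apply, hg]
    exact pomega_of_sq hodd n hn (B.comp a) hε' hnd' hV a b (hiso a ha rfl) (hiso b hb hab) hac s
      hs hso hbs hb1

end s2o

end Cfsg.Agent.Lib.Helper15.BC
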