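import Mathlib
import Cfsg.Agent.Lib.Helper15.BC9

/-!
# S2474, part 11: from the orthogonal group to the symplectic group: the generic cases
-/

set_option autoImplicit false
set_option linter.unusedSectionVars false

namespace Cfsg.Agent.Lib.Helper15.BC

open Module Matrix Polynomial Cfsg.Agent.Lib.Helper6

section o2s

variable {F : Type*} [Field F] [Fintype F] {V : Type*} [AddCommGroup V] [Module F V]
  [FiniteDimensional F V]

/-- both elements semisimple of odd order -/
theorem orth_to_sp_ss (h2 : (2 : F) ≠ 0) (n : ℕ) (hn : 1 ≤ n)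
    (B : V →ₗ[F] V →ₗ[F] F) (hε : EpsSym B 1) (hnd : Nondeg B) (hV : finrank F V = 2 * n + 1)
    (a b : Module.End F V) (ha : IsIso B a) (hb : IsIso B b) (hab : a * b = b * a) (r s : ℕ)
    (hr : r.Prime) (hs : s.Prime) (hrs : r ≠ s) (hro : Odd r) (hso : Odd s) (hrF : (r : F) ≠ 0)
    (hsF : (s : F) ≠ 0) (har : a ^ r = 1) (ha1 : a ≠ 1) (hbs : b ^ s = 1) (hb1 : b ≠ 1) :
    r * s ∈ Set.range (orderOf : Cfsg.PSp n F → ℕ) := by
  have hF : ((r * s : ℕ) : F) ≠ 0 := by
    rw [Nat.cast_mul]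
    exact mul_ne_zero hrF hsF
  have hg : IsIso B (a * b) := ha.mul hb
  have hgm := mul_pow_eq_one hab har hbs
  have hoddm : Odd (r * s) := hro.mul hso
  obtain ⟨k, hk⟩ := even_finrank_range_sym h2 hε hnd hg (r * s) hgm hoddm hF
  have hle : k ≤ n := by
    have := Submodule.finrank_le (LinearMap.range (a * b - 1))
    omega
  exact psp_of_sub h2 n hn (rangeForm B (a * b)) (rangeForm_epsSym hε _)
    (rangeForm_nondeg hε hnd hg (r * s) hgm hoddm hF) k (by rw [hk]; ring) hle
    (resR (a * b) a (comm_mul_left hab)) (resR (a * b) b (comm_mul_right hab))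
    (resR_isIso ha _) (resR_isIso hb _) (resR_comm _ _ _ _ _ hab) r s hr hs hrs hro hso
    (resR_pow_eq_one _ har)
    (resR_mul_ne_one_left hab hr.one_lt ((Nat.coprime_primes hs hr).mpr hrs.symm) har hbs hF ha1 _)
    (resR_pow_eq_one _ hbs)
    (resR_mul_ne_one_right hab hs.one_lt ((Nat.coprime_primes hr hs).mpr hrs) har hbs hF hb1 _)

/-- `(u - 1) ^ p = 0` for `u ^ p = 1` in an algebra over a field of characteristic `p` -/
theorem sub_one_pow_char {R : Type*} [Ring R] [Algebra F R] (p : ℕ) [Fact p.Prime] [CharP F p]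
    (u : R) (hu : u ^ p = 1) : (u - 1) ^ p = 0 := by
  have h1 : ((X : F[X]) - 1) ^ p = X ^ p - 1 := by
    rw [sub_pow_char, one_pow]
  have h3 := congrArg (Polynomial.aeval u) h1
  simp only [map_pow, map_sub, Polynomial.aeval_X, map_one] at h3
  rw [h3, hu, sub_self]

/-- the restriction of the form to the fixed space of `b` is nondegenerate -/
theorem nondeg_ker {B : V →ₗ[F] V →ₗ[F] F} (hnd : Nondeg B)
    {b : Module.End F V} (hb : IsIso B b) (m : ℕ) (hm : b ^ m = 1) (hmF : (m : F) ≠ 0) :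
    Nondeg (B.domRestrict₁₂ (LinearMap.ker (b - 1)) (LinearMap.ker (b - 1))) := by
  intro x h0
  apply Subtype.ext
  apply hnd
  intro v
  have hc := OddSp.isCompl_ker_range b m hm hmF
  obtain ⟨v₀, hv₀, v₁, hv₁, rfl⟩ := Submodule.mem_sup.mp
    (show v ∈ LinearMap.ker (b - 1) ⊔ LinearMap.range (b - 1) by
      rw [hc.sup_eq_top]; exact Submodule.mem_top)
  have h1 := h0 ⟨v₀, hv₀⟩
  rw [LinearMap.domRestrict₁₂_apply] at h1
  rw [map_add, h1, zero_add]
  exact orth_ker_range hb x.2 hv₁

/-- a unipotent isometry commuting with `b` and trivial on the image of `b - 1`: the fixed space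
of `b` has dimension at least three -/
theorem three_le_finrank_ker (h2 : (2 : F) ≠ 0) (p : ℕ) [Fact p.Prime] [CharP F p]
    (B : V →ₗ[F] V →ₗ[F] F) (hε : EpsSym B 1) (hnd : Nondeg B)
    (a b : Module.End F V) (ha : IsIso B a) (hb : IsIso B b) (hab : a * b = b * a) (s : ℕ)
    (hsF : (s : F) ≠ 0) (hap : a ^ p = 1) (ha1 : a ≠ 1) (hbs : b ^ s = 1)
    (h : resR b a hab = 1) : 3 ≤ finrank F (LinearMap.ker (b - 1)) := by
  by_contra hlt
  have hle : finrank F (LinearMap.ker (b - 1)) ≤ 2 := by omega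
  apply ha1
  apply eq_one_of_resR_eq_one hab s hbs hsF h
  -- the restriction of `a` to the kernel
  have hinv : ∀ x ∈ LinearMap.ker (b - 1), a x ∈ LinearMap.ker (b - 1) :=
    fun x hx => OddSp.map_ker_of_commute b a hab x hx
  have hup : (a.restrict hinv) ^ p = 1 := by
    rw [Module.End.pow_restrict p hinv]
    apply LinearMap.ext
    intro x
    apply Subtype.ext
    rw [LinearMap.coe_restrict_apply, hap]
    rfl
  have h1 := Cfsg.Agent.Lib.Helper1.BCFO.eq_one_of_unipotent_of_finrank_le_two h2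
    (B.domRestrict₁₂ (LinearMap.ker (b - 1)) (LinearMap.ker (b - 1)))
    (by
      intro x y
      rw [LinearMap.domRestrict₁₂_apply, LinearMap.domRestrict₁₂_apply, hε y x, one_mul])
    (nondeg_ker hnd hb s hbs hsF) hle (a.restrict hinv)
    (by
      intro x y
      rw [LinearMap.domRestrict₁₂_apply, LinearMap.domRestrict₁₂_apply,
        LinearMap.coe_restrict_apply, LinearMap.coe_restrict_apply, ha])
    p (sub_one_pow_char (F := F) p _ hup)
  intro x hx
  have := congrArg (fun f : Module.End F (LinearMap.ker (b - 1)) => ((f ⟨x, hx⟩ :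
    LinearMap.ker (b - 1)) : V)) h1
  exact this

/-- a unipotent element and a semisimple element of odd order -/
theorem orth_to_sp_unip (h2 : (2 : F) ≠ 0) (p : ℕ) [Fact p.Prime] [CharP F p]
    (hpo : Odd p) (n : ℕ) (hn : 1 ≤ n)
    (B : V →ₗ[F] V →ₗ[F] F) (hε : EpsSym B 1) (hnd : Nondeg B) (hV : finrank F V = 2 * n + 1)
    (a b : Module.End F V) (ha : IsIso B a) (hb : IsIso B b) (hab : a * b = b * a) (s : ℕ)
    (hs : s.Prime) (hps : p ≠ s) (hso : Odd s)
    (hsF : (s : F) ≠ 0) (hap : a ^ p = 1) (ha1 : a ≠ 1) (hbs : b ^ s = 1) (hb1 : b ≠ 1) :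
    p * s ∈ Set.range (orderOf : Cfsg.PSp n F → ℕ) := by
  have hp : p.Prime := Fact.out
  obtain ⟨k, hk⟩ := even_finrank_range_sym h2 hε hnd hb s hbs hso hsF
  have hsum := LinearMap.finrank_range_add_finrank_ker (b - 1)
  by_cases h : resR b a hab = 1
  · have h3 := three_le_finrank_ker h2 p B hε hnd a b ha hb hab s hsF hap ha1 hbs h
    exact psp_of_sub_unip h2 p hpo n hn (rangeForm B b) (rangeForm_epsSym hε _)
      (rangeForm_nondeg hε hnd hb s hbs hso hsF) k (by rw [hk]; ring) (by omega)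
      (resR b b rfl) (resR_isIso hb _) s hs
      hps hso (resR_pow_eq_one _ hbs) (resR_self_ne_one s hbs hsF hb1)
  · exact psp_of_sub h2 n hn (rangeForm B b) (rangeForm_epsSym hε _)
      (rangeForm_nondeg hε hnd hb s hbs hso hsF) k (by rw [hk]; ring) (by omega)
      (resR b a hab) (resR b b rfl) (resR_isIso ha _) (resR_isIso hb _)
      (resR_comm _ _ _ _ _ hab) p s hp hs hps hpo hso (resR_pow_eq_one _ hap) h
      (resR_pow_eq_one _ hbs) (resR_self_ne_one s hbs hsF hb1)

/-- a semisimple element of odd prime order whose fixed space has dimension at least three -/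
theorem orth_to_sp_two_small (h2 : (2 : F) ≠ 0) (n : ℕ) (hn : 1 ≤ n)
    (B : V →ₗ[F] V →ₗ[F] F) (hε : EpsSym B 1) (hnd : Nondeg B) (hV : finrank F V = 2 * n + 1)
    (b : Module.End F V) (hb : IsIso B b) (s : ℕ)
    (hs : s.Prime) (hso : Odd s) (hsF : (s : F) ≠ 0) (hbs : b ^ s = 1) (hb1 : b ≠ 1)
    (hsmall : finrank F (LinearMap.range (b - 1)) ≠ 2 * n) :
    2 * s ∈ Set.range (orderOf : Cfsg.PSp n F → ℕ) := by
  obtain ⟨k, hk⟩ := even_finrank_range_sym h2 hε hnd hb s hbs hso hsF
  have hle := Submodule.finrank_le (LinearMap.range (b - 1))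
  have hk1 : 1 ≤ k := by
    by_contra hlt
    have hk0 : finrank F (LinearMap.range (b - 1)) = 0 := by omega
    have hbot : LinearMap.range (b - 1) = ⊥ := Submodule.finrank_eq_zero.mp hk0
    apply hb1
    apply LinearMap.ext
    intro x
    have : (b - 1) x ∈ LinearMap.range (b - 1) := ⟨x, rfl⟩
    rw [hbot, Submodule.mem_bot, LinearMap.sub_apply, Module.End.one_apply, sub_eq_zero] at this
    exact this
  exact psp_of_sub_two h2 n hn (rangeForm B b) (rangeForm_epsSym hε _)
    (rangeForm_nondeg hε hnd hb s hbs hso hsF) k (by rw [hk]; ring) hk1 (by omega)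
    (resR b b rfl) (resR_isIso hb _) s hs hso (resR_pow_eq_one _ hbs)
    (resR_self_ne_one s hbs hsF hb1)

end o2s

end Cfsg.Agent.Lib.Helper15.BC
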