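import Cfsg.Agent.Lib.Helper15.Sps9

/-!
# Singer-type elements of `PSp_2n(q)`, `q` odd (for S2512)
-/

set_option autoImplicit false
set_option linter.unusedSectionVars false

namespace Cfsg.Agent.Lib.Helper15.Sps

open Matrix Polynomial Cfsg Cfsg.Agent.Lib.Helper15.Spr Cfsg.Agent.Lib.Helper15.SpReg
  Cfsg.Agent.Lib.Helper15.Spu Cfsg.Agent.Lib.Helper15.PGraph

variable {F : Type*} [Field F] [Fintype F]

instance finite_psp (n : ℕ) : Finite (Cfsg.PSp n F) := by
  classical
  unfold Cfsg.PSp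
  infer_instance

theorem exists_orderOf_of_dvd_psp {n : ℕ} (g : Cfsg.PSp n F) {u : ℕ}
    (hu : u ∣ orderOf g) : ∃ g' : Cfsg.PSp n F, orderOf g' = u :=
  exists_orderOf_of_dvd g (orderOf_pos g) hu

omit [Fintype F] in
/-- From a symplectic matrix whose scalar powers are known, an element of `PSp` of that
order. -/
theorem singer_of_matrix_sp {n : ℕ} (hn : 1 ≤ n) (s : Matrix.symplecticGroup (Fin n) F) (N : ℕ)
    (key : ∀ j : ℕ, (∃ ν : F, matS s ^ j = Matrix.scalar (Fin n ⊕ Fin n) ν) ↔ N ∣ j) :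
    ∃ g : Cfsg.PSp n F, orderOf g = N := by
  have hA : ∀ j : ℕ, orderOf (QuotientGroup.mk s : Cfsg.PSp n F) ∣ j ↔ N ∣ j := by
    intro j
    rw [orderOf_mk_dvd_iff_sp hn, key]
  refine ⟨QuotientGroup.mk s, ?_⟩
  apply Nat.dvd_antisymm
  · exact (hA _).mpr dvd_rfl
  · exact (hA _).mp dvd_rfl

theorem half_dvd_iff (Q j : ℕ) (hQ : Even Q) : Q ∣ 2 * j ↔ Q / 2 ∣ j := by
  obtain ⟨t, rfl⟩ := hQ
  have : (t + t) / 2 = t := by omega
  rw [this, ← two_mul]
  exact Nat.mul_dvd_mul_iff_left two_pos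

/-- Singer-type element of order `(q^n + 1)/2`. -/
theorem exists_singer_plus {n : ℕ} (hn : 1 ≤ n) (p : ℕ) [Fact p.Prime] [CharP F p]
    (hodd : Odd (Fintype.card F)) :
    ∃ g : Cfsg.PSp n F, orderOf g = (Fintype.card F ^ n + 1) / 2 := by
  classical
  have hp : p.Prime := Fact.out
  have h2 : (2 : F) ≠ 0 := two_ne_zero_of_odd_card hodd
  have hq : 2 ≤ Fintype.card F := Fintype.one_lt_card
  have : NeZero (2 * n) := ⟨by omega⟩
  have hfr : Module.finrank F (FiniteField.Extension F p (2 * n)) = 2 * n :=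
    FiniteField.finrank_extension F p (2 * n)
  have hcard : Nat.card (FiniteField.Extension F p (2 * n)) = (Fintype.card F ^ n) ^ 2 := by
    rw [FiniteField.natCard_extension, Nat.card_eq_fintype_card, ← pow_mul, mul_comm]
  obtain ⟨α₀, hα₀⟩ := IsCyclic.exists_generator (α := (FiniteField.Extension F p (2 * n))ˣ)
  have hord : orderOf α₀ = (Fintype.card F ^ n) ^ 2 - 1 := by
    rw [orderOf_eq_card_of_forall_mem_zpowers hα₀, Nat.card_units, hcard]
  have hQ2 : 2 ≤ Fintype.card F ^ n :=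
    le_trans (by simpa using hq) (Nat.pow_le_pow_right (by omega) hn)
  have hsplit : (Fintype.card F ^ n) ^ 2 - 1 =
      (Fintype.card F ^ n - 1) * (Fintype.card F ^ n + 1) := sq_sub_one _ (by omega)
  have hne : Fintype.card F ^ n - 1 ≠ 0 := by omega
  have horda : orderOf (α₀ ^ (Fintype.card F ^ n - 1)) = Fintype.card F ^ n + 1 := by
    rw [orderOf_pow_of_dvd hne (by rw [hord, hsplit]; exact dvd_mul_right _ _), hord, hsplit]
    exact Nat.mul_div_cancel_left _ (Nat.pos_of_ne_zero hne)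
  set αu : (FiniteField.Extension F p (2 * n))ˣ := α₀ ^ (Fintype.card F ^ n - 1) with hαu
  have hpowiff : ∀ j : ℕ, ((αu : FiniteField.Extension F p (2 * n)) ^ j) ^ 2 = 1 ↔
      (Fintype.card F ^ n + 1) / 2 ∣ j := by
    intro j
    rw [← half_dvd_iff _ _ (hodd.pow.add_one), ← horda, orderOf_dvd_iff_pow_eq_one,
      Units.ext_iff, pow_mul']
    simp
  have hα1 : (αu : FiniteField.Extension F p (2 * n)) *
      PSpD.frobPow F (FiniteField.Extension F p (2 * n)) n
        (αu : FiniteField.Extension F p (2 * n)) = 1 := by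
    rw [PSpD.frobPow_apply, ← pow_succ', ← horda]
    have := congrArg Units.val (pow_orderOf_eq_one αu)
    rw [Units.val_pow_eq_pow_val, Units.val_one] at this
    exact this
  -- the skew element
  have hβ : PSpD.frobPow F (FiniteField.Extension F p (2 * n)) n
      (α₀ : FiniteField.Extension F p (2 * n)) ≠ (α₀ : FiniteField.Extension F p (2 * n)) := by
    intro h
    rw [PSpD.frobPow_apply] at h
    have h3 : α₀ ^ (Fintype.card F ^ n) = α₀ := by
      apply Units.ext
      rw [Units.val_pow_eq_pow_val]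
      exact h
    have h4 : α₀ ^ (Fintype.card F ^ n - 1) = 1 := by
      have h5 : α₀ ^ (Fintype.card F ^ n - 1) * α₀ = 1 * α₀ := by
        rw [← pow_succ, one_mul]
        have : Fintype.card F ^ n - 1 + 1 = Fintype.card F ^ n := by omega
        rw [this, h3]
      exact mul_right_cancel h5
    have h6 := orderOf_dvd_of_pow_eq_one h4
    rw [hord, hsplit] at h6
    have h7 := Nat.le_of_dvd (by omega) h6
    have h8 : (Fintype.card F ^ n - 1) * 2 ≤ (Fintype.card F ^ n - 1) * (Fintype.card F ^ n + 1) :=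
      Nat.mul_le_mul_left _ (by omega)
    omega
  set δ := (α₀ : FiniteField.Extension F p (2 * n)) -
    PSpD.frobPow F (FiniteField.Extension F p (2 * n)) n
      (α₀ : FiniteField.Extension F p (2 * n)) with hδdef
  have hδ0 : δ ≠ 0 := by
    intro h
    apply hβ
    exact (sub_eq_zero.mp h).symm
  have hδ : PSpD.frobPow F (FiniteField.Extension F p (2 * n)) n δ = -δ := by
    rw [hδdef, map_sub, PSpD.frobPow_frobPow n hfr]
    ring
  have halt := PSpD.hermForm_alt (F := F) (E := FiniteField.Extension F p (2 * n)) h2 n hfr δ hδ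
  have hnd := PSpD.hermForm_nondeg (F := F) (E := FiniteField.Extension F p (2 * n)) n hfr δ hδ0
  have hiso : ∀ a b, PSpD.hermForm F n δ
      (LinearMap.mulLeft F (αu : FiniteField.Extension F p (2 * n)) a)
      (LinearMap.mulLeft F (αu : FiniteField.Extension F p (2 * n)) b) =
      PSpD.hermForm F n δ a b := by
    intro a b
    rw [LinearMap.mulLeft_apply, LinearMap.mulLeft_apply]
    exact PSpD.hermForm_inv n δ _ hα1 a b
  obtain ⟨x, Ψ, hΨ⟩ := PSpJ.exists_symp_conj (PSpD.hermForm F n δ) halt hnd n hn hfr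
    (LinearMap.mulLeft F (αu : FiniteField.Extension F p (2 * n))) hiso
  apply singer_of_matrix_sp hn x
  intro j
  rw [← hpowiff]
  constructor
  · rintro ⟨ν, hj⟩
    have hν := scalar_pow_symp hn x j ν hj
    have h3 := (scalar_iff_of_conj (matS x) Ψ _ hΨ j ν).mp hj 1
    rw [PSpD.mulLeft_pow_apply, mul_one, Algebra.smul_def, mul_one] at h3
    rw [h3, ← map_pow, sq, hν, map_one]
  · intro h
    obtain ⟨ε, -, hε⟩ := exists_sign_of_sq (F := F) _ h
    refine ⟨ε, (scalar_iff_of_conj (matS x) Ψ _ hΨ j ε).mpr ?_⟩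
    intro v
    rw [PSpD.mulLeft_pow_apply, hε, Algebra.smul_def]

/-- Singer-type element of order `(q^n - 1)/2`. -/
theorem exists_singer_minus {n : ℕ} (hn : 1 ≤ n) (p : ℕ) [Fact p.Prime] [CharP F p]
    (hodd : Odd (Fintype.card F)) :
    ∃ g : Cfsg.PSp n F, orderOf g = (Fintype.card F ^ n - 1) / 2 := by
  classical
  have hp : p.Prime := Fact.out
  have hq : 2 ≤ Fintype.card F := Fintype.one_lt_card
  have : NeZero n := ⟨by omega⟩
  have hfr : Module.finrank F (FiniteField.Extension F p n) = n :=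
    FiniteField.finrank_extension F p n
  have hcard : Nat.card (FiniteField.Extension F p n) = Fintype.card F ^ n := by
    rw [FiniteField.natCard_extension, Nat.card_eq_fintype_card]
  obtain ⟨θ₀, hθ₀⟩ := IsCyclic.exists_generator (α := (FiniteField.Extension F p n)ˣ)
  have hord : orderOf θ₀ = Fintype.card F ^ n - 1 := by
    rw [orderOf_eq_card_of_forall_mem_zpowers hθ₀, Nat.card_units, hcard]
  have hev : Even (Fintype.card F ^ n - 1) := by
    obtain ⟨t, ht⟩ := hodd.pow (n := n)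
    rw [ht]
    exact ⟨t, by omega⟩
  have hpowiff : ∀ j : ℕ, ((θ₀ : FiniteField.Extension F p n) ^ j) ^ 2 = 1 ↔
      (Fintype.card F ^ n - 1) / 2 ∣ j := by
    intro j
    rw [← half_dvd_iff _ _ hev, ← hord, orderOf_dvd_iff_pow_eq_one, Units.ext_iff, pow_mul']
    simp
  obtain ⟨X, hXd, hXp, -⟩ := exists_matrix_of_algebra hfr (θ₀ : FiniteField.Extension F p n)
  have hX0 : X.det ≠ 0 := by
    rw [hXd, Ne, Algebra.norm_eq_zero_iff]
    exact θ₀.ne_zero
  obtain ⟨M, hM⟩ := exists_hyperbolic_sp hn X hX0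
  apply singer_of_matrix_sp hn M
  intro j
  rw [← hpowiff]
  constructor
  · rintro ⟨ν, hj⟩
    obtain ⟨h1, h2⟩ := (hM j ν).mp hj
    rw [(hXp j ν).mp h1, ← map_pow, sq, h2, map_one]
  · intro h
    obtain ⟨ε, hε1, hε⟩ := exists_sign_of_sq (F := F) _ h
    exact ⟨ε, (hM j ε).mpr ⟨(hXp j ε).mpr hε, hε1⟩⟩

/-- An element of order `2` in `PSp_2n(q)`, `n ≥ 2`, `q` odd. -/
theorem exists_order_two_sp {n : ℕ} (hn : 2 ≤ n) (p : ℕ) [Fact p.Prime] [CharP F p]
    (hodd : Odd (Fintype.card F)) : ∃ g : Cfsg.PSp n F, orderOf g = 2 := by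
  have h2 : (2 : F) ≠ 0 := two_ne_zero_of_odd_card hodd
  obtain ⟨g, hg⟩ := fresh_twist_sp (F := F) (n := n) p h2 1 1 (fun _ _ _ => one_dvd _) 1 one_pos
    (by omega) 1 1 0 (Nat.coprime_one_left p) (fun _ _ _ => one_dvd _)
    ⟨1, by rw [one_pow, map_one]⟩ (Or.inl rfl)
  rw [Nat.lcm_one_left] at hg
  exact exists_orderOf_of_dvd_psp g hg

end Cfsg.Agent.Lib.Helper15.Sps
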