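import Mathlib
import Cfsg.Agent.Lib.Helper15.BC11
import Cfsg.Agent.Lib.Helper15.OddSp2
import Cfsg.Agent.Lib.Helper15.Sps10

/-!
# S2474, part 12: determinants of block maps, the sign of a free module, elements of prime order
of the symplectic group
-/

set_option autoImplicit false
set_option linter.unusedSectionVars false

namespace Cfsg.Agent.Lib.Helper15.BC

open Module Matrix Cfsg.Agent.Lib.Helper6 Cfsg.Agent.Lib.Helper15.Sps

section det

variable {F : Type*} [Field F] {V : Type*} [AddCommGroup V] [Module F V] [FiniteDimensional F V]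

/-- the determinant of a map acting as scalars on two complementary subspaces -/
theorem det_of_compl (K Z : Submodule F V) (h : IsCompl K Z) (f : Module.End F V) (c₁ c₂ : F)
    (hK : ∀ x ∈ K, f x = c₁ • x) (hZ : ∀ x ∈ Z, f x = c₂ • x) :
    LinearMap.det f = c₁ ^ finrank F K * c₂ ^ finrank F Z := by
  set e := Submodule.prodEquivOfIsCompl K Z h with he
  have h1 : f = (e : (K × Z) →ₗ[F] V) ∘ₗ
      ((c₁ • (1 : Module.End F K)).prodMap (c₂ • (1 : Module.End F Z))) ∘ₗ
        (e.symm : V →ₗ[F] (K × Z)) := by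
    apply LinearMap.ext
    intro x
    obtain ⟨⟨k, z⟩, rfl⟩ := e.surjective x
    rw [LinearMap.comp_apply, LinearMap.comp_apply, LinearEquiv.coe_coe, LinearEquiv.coe_coe,
      LinearEquiv.symm_apply_apply, Submodule.coe_prodEquivOfIsCompl', map_add, hK _ k.2,
      hZ _ z.2]
    rfl
  rw [h1, LinearMap.det_conj, LinearMap.det_prodMap, LinearMap.det_smul, LinearMap.det_smul]
  simp

end det

section sign

variable {F : Type*} [Field F] [Fintype F] {V : Type*} [AddCommGroup V] [Module F V]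
  [FiniteDimensional F V]

open QuadraticMap Cfsg.Agent.Lib.Helper15.PSpI Cfsg.Agent.Lib.Helper14.OrthEven
  Cfsg.Agent.Lib.Helper6.OrtS

/-- an isometry of prime order acting freely on a subspace of dimension `2k` and sign `ε`:
`r ∣ (q^k - ε)(q^(k-1) + ε)` -/
theorem dvd_of_free_sgn (Q : QuadraticForm F V) (h : Module.End F V)
    (hiso : ∀ v, Q (h v) = Q v) (r : ℕ) (hr : r.Prime)
    (hh : h ^ r = 1) (k : ℕ) (hk : 1 ≤ k)
    (W : Submodule F V) (hdim : finrank F W = 2 * k) (ε : ℤ) (hε : SgnOn Q W ε)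
    (hε1 : ε = 1 ∨ ε = -1)
    (hinv : ∀ x ∈ W, h x ∈ W) (hfix : ∀ x ∈ W, h x = x → x = 0) :
    (r : ℤ) ∣ ((Fintype.card F : ℤ) ^ k - ε) * ((Fintype.card F : ℤ) ^ (k - 1) + ε) := by
  classical
  have hq1 : 1 < Fintype.card F := Fintype.one_lt_card
  set q := Fintype.card F with hq
  have hfinV : Finite V := Module.finite_of_finite F
  have : Fintype {w : W // Q (w : V) = 0} := Fintype.ofFinite _
  let f : Function.End {w : W // Q (w : V) = 0} :=
    fun x => ⟨⟨h (x.1 : V), hinv _ x.1.2⟩, by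
      show Q (h (x.1 : V)) = 0
      rw [hiso]; exact x.2⟩
  have hfpow : ∀ j : ℕ, ∀ x : {w : W // Q (w : V) = 0}, (((f ^ j) x).1 : V) = (h ^ j) (x.1 : V) := by
    intro j
    induction j with
    | zero => intro x; rfl
    | succ j ih =>
      intro x
      rw [pow_succ', pow_succ']
      show h ((((f ^ j) x).1 : W) : V) = h ((h ^ j) (x.1 : V))
      rw [← ih x]
  have hf : f ^ r = 1 := by
    funext x
    apply Subtype.ext
    apply Subtype.ext
    rw [hfpow, hh]
    rfl
  have hcard := OddSp.card_modEq_one_of_free f r hr hf ⟨0, by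
      show Q ((0 : W) : V) = 0
      rw [Submodule.coe_zero, map_zero]⟩ (by
      apply Subtype.ext
      apply Subtype.ext
      show h ((0 : W) : V) = ((0 : W) : V)
      rw [Submodule.coe_zero, map_zero]) (by
      intro x hx
      apply Subtype.ext
      apply Subtype.ext
      show (x.1 : V) = ((0 : W) : V)
      rw [Submodule.coe_zero]
      apply hfix _ x.1.2
      have := congrArg (fun y : {w : W // Q (w : V) = 0} => ((y.1 : W) : V)) hx
      exact this)
  have hcnt := hε 0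
  rw [if_pos rfl] at hcnt
  have hk2 : finrank F W / 2 = k := by omega
  rw [hk2] at hcnt
  unfold cnt at hcnt
  rw [Nat.card_eq_fintype_card] at hcnt
  set c0 := Fintype.card {w : W // Q (w : V) = 0} with hc0
  have hc0pos : 1 ≤ c0 := Fintype.card_pos_iff.mpr ⟨⟨0, by
      show Q ((0 : W) : V) = 0
      rw [Submodule.coe_zero, map_zero]⟩⟩
  have hdvd : r ∣ c0 - 1 := (Nat.modEq_iff_dvd' hc0pos).mp hcard.symm
  obtain ⟨k', rfl⟩ : ∃ k', k = k' + 1 := ⟨k - 1, by omega⟩
  have hq0 : (q : ℤ) ≠ 0 := by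
    have : 0 < q := by omega
    exact_mod_cast this.ne'
  have hεε : ε * ε = 1 := by
    rcases hε1 with rfl | rfl <;> norm_num
  have hkey : (c0 : ℤ) - 1 = ((q : ℤ) ^ (k' + 1) - ε) * ((q : ℤ) ^ k' + ε) := by
    apply mul_left_cancel₀ hq0
    have : (q : ℤ) * ((c0 : ℤ) - 1) = (q : ℤ) * c0 - q := by ring
    rw [this, hcnt]
    have h3 : (q : ℤ) * (((q : ℤ) ^ (k' + 1) - ε) * ((q : ℤ) ^ k' + ε)) =
        (q : ℤ) ^ (2 * (k' + 1)) + ε * (q : ℤ) ^ (k' + 1) * ((q : ℤ) * 1 - 1) - q * (ε * ε) + q - q := by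
      ring
    rw [h3, hεε]
    ring
  have hdvdZ : (r : ℤ) ∣ (c0 : ℤ) - 1 := by
    have : ((c0 - 1 : ℕ) : ℤ) = (c0 : ℤ) - 1 := by
      rw [Nat.cast_sub hc0pos, Nat.cast_one]
    rw [← this]
    exact Int.natCast_dvd_natCast.mpr hdvd
  rw [hkey] at hdvdZ
  rw [Nat.add_sub_cancel]
  exact hdvdZ

end sign

section sp

variable {F : Type*} [Field F] [Fintype F]

/-- the endomorphism of a symplectic matrix -/
noncomputable def sEnd {n : ℕ} (x : Matrix.symplecticGroup (Fin n) F) :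
    Module.End F (Fin n ⊕ Fin n → F) := Matrix.toLinAlgEquiv' (matS x)

omit [Fintype F] in
theorem sEnd_isIso {n : ℕ} (x : Matrix.symplecticGroup (Fin n) F) :
    IsIso (stdSymp n F) (sEnd x) := by
  intro u v
  unfold sEnd
  rw [Matrix.toLinAlgEquiv'_apply, Matrix.toLinAlgEquiv'_apply, stdSymp_apply, stdSymp_apply]
  exact (mem_symplecticGroup_iff_preserves (matS x)).mp x.2 u v

omit [Fintype F] in
theorem sEnd_pow_eq_smul_iff {n : ℕ} (x : Matrix.symplecticGroup (Fin n) F) (j : ℕ) (ν : F) :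
    sEnd x ^ j = ν • (1 : Module.End F (Fin n ⊕ Fin n → F)) ↔
      matS x ^ j = Matrix.scalar (Fin n ⊕ Fin n) ν := by
  unfold sEnd
  rw [← map_pow, scalar_eq_smul_one']
  constructor
  · intro h
    apply (Matrix.toLinAlgEquiv' (R := F) (n := Fin n ⊕ Fin n)).injective
    rw [h, map_smul, map_one]
  · intro h
    rw [h, map_smul, map_one]

omit [Fintype F] in
theorem sEnd_mul {n : ℕ} (x y : Matrix.symplecticGroup (Fin n) F) :
    sEnd (x * y) = sEnd x * sEnd y := by
  unfold sEnd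
  rw [matS_mul, map_mul]

/-- from an element of prime order of `PSp`: an isometry whose `t`-th power is a scalar -/
theorem exists_end_of_psp {n : ℕ} (hn : 1 ≤ n) (g : Cfsg.PSp n F) (t : ℕ) (ht : t.Prime)
    (hg : orderOf g = t) :
    ∃ α : Module.End F (Fin n ⊕ Fin n → F), IsIso (stdSymp n F) α ∧
      (∃ c : F, α ^ t = c • (1 : Module.End F (Fin n ⊕ Fin n → F))) ∧
      ¬ ∃ c : F, α = c • (1 : Module.End F (Fin n ⊕ Fin n → F)) := by
  obtain ⟨x, rfl⟩ := QuotientGroup.mk_surjective g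
  refine ⟨sEnd x, sEnd_isIso x, ?_, ?_⟩
  · have h1 : orderOf (QuotientGroup.mk x : Cfsg.PSp n F) ∣ t := by rw [hg]
    rw [orderOf_mk_dvd_iff_sp hn] at h1
    obtain ⟨ν, hν⟩ := h1
    exact ⟨ν, (sEnd_pow_eq_smul_iff x t ν).mpr hν⟩
  · rintro ⟨c, hc⟩
    have h1 : orderOf (QuotientGroup.mk x : Cfsg.PSp n F) ∣ 1 := by
      rw [orderOf_mk_dvd_iff_sp hn]
      refine ⟨c, ?_⟩
      rw [← sEnd_pow_eq_smul_iff, pow_one, hc]
    rw [hg, Nat.dvd_one] at h1
    exact ht.one_lt.ne' h1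

/-- an isometry of odd prime order `s ∣ q^(2i) - 1` of the symplectic space of dimension `2i` -/
theorem exists_prime_order_sp (hodd : Odd (Fintype.card F)) (p : ℕ) [Fact p.Prime] [CharP F p]
    (i : ℕ) (hi : 1 ≤ i) (s : ℕ) (hs : s.Prime) (hso : Odd s)
    (hdvd : s ∣ Fintype.card F ^ (2 * i) - 1) :
    ∃ α : Module.End F (Fin i ⊕ Fin i → F), IsIso (stdSymp i F) α ∧ α ^ s = 1 ∧ α ≠ 1 := by
  have hq : 2 ≤ Fintype.card F := Fintype.one_lt_card
  set q := Fintype.card F with hqdef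
  have hqi : 1 ≤ q ^ i := Nat.one_le_pow _ _ (by omega)
  have hfac : q ^ (2 * i) - 1 = (q ^ i + 1) * (q ^ i - 1) := by
    rw [mul_comm 2 i, pow_mul]
    have := Nat.sq_sub_sq (q ^ i) 1
    rw [one_pow] at this
    exact this
  have hqodd : Odd (q ^ i) := hodd.pow
  -- an element of order `s` of `PSp_{2i}`
  obtain ⟨g, hg⟩ : ∃ g : Cfsg.PSp i F, orderOf g = s := by
    rw [hfac] at hdvd
    have h2s : Nat.Coprime s 2 := by
      rw [Nat.coprime_two_right]
      exact hso
    rcases (Nat.Prime.dvd_mul hs).mp hdvd with h1 | h1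
    · obtain ⟨g₀, hg₀⟩ := exists_singer_plus (F := F) hi p hodd
      have hev : Even (q ^ i + 1) := hqodd.add_one
      obtain ⟨t, ht⟩ := hev
      have h3 : (q ^ i + 1) / 2 = t := by omega
      have h4 : s ∣ t := by
        have : s ∣ 2 * t := by rw [two_mul, ← ht]; exact h1
        exact (Nat.Coprime.dvd_mul_left h2s).mp this
      exact exists_orderOf_of_dvd_psp g₀ (by rw [hg₀, h3]; exact h4)
    · obtain ⟨g₀, hg₀⟩ := exists_singer_minus (F := F) hi p hodd
      have hev : Even (q ^ i - 1) := by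
        obtain ⟨c, hc⟩ := hqodd
        exact ⟨c, by omega⟩
      obtain ⟨t, ht⟩ := hev
      have h3 : (q ^ i - 1) / 2 = t := by omega
      have h4 : s ∣ t := by
        have : s ∣ 2 * t := by rw [two_mul, ← ht]; exact h1
        exact (Nat.Coprime.dvd_mul_left h2s).mp this
      exact exists_orderOf_of_dvd_psp g₀ (by rw [hg₀, h3]; exact h4)
  obtain ⟨α, hα, ⟨c, hc⟩, hα1⟩ := exists_end_of_psp hi g s hs hg
  obtain ⟨α', hα', hα's, hα'1, -⟩ := exists_normalized (stdSymp_nondeg' F i)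
    (exists_ne_zero_std F i hi) hα s hso c hc hα1
  exact ⟨α', hα', hα's, hα'1⟩

/-- `s ∣ q^(2i) - 1` with `1 ≤ i ≤ n - 1` gives an element of order `2s` of `PSp_{2n}(q)` -/
theorem psp_two_of_dvd (hodd : Odd (Fintype.card F)) (p : ℕ) [Fact p.Prime] [CharP F p]
    (n : ℕ) (i : ℕ) (hi : 1 ≤ i) (hin : i + 1 ≤ n) (s : ℕ) (hs : s.Prime) (hso : Odd s)
    (hdvd : s ∣ Fintype.card F ^ (2 * i) - 1) :
    2 * s ∈ Set.range (orderOf : Cfsg.PSp n F → ℕ) := by
  have h2 := two_ne_zero_of_odd hodd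
  obtain ⟨α, hα, hαs, hα1⟩ := exists_prime_order_sp hodd p i hi s hs hso hdvd
  exact psp_of_sub_two h2 n (by omega) (stdSymp i F) (stdSymp_epsSym F i) (stdSymp_nondeg' F i) i
    (finrank_std F i) hi hin α hα s hs hso hαs hα1

end sp

end Cfsg.Agent.Lib.Helper15.BC
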