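import Mathlib
import Cfsg.Agent.Lib.Helper15.BC12

/-!
# S2474, part 13: an involution commuting with a semisimple element whose fixed space is a line
-/

set_option autoImplicit false
set_option linter.unusedSectionVars false

namespace Cfsg.Agent.Lib.Helper15.BC

open Module Matrix Cfsg.Agent.Lib.Helper6

section special

variable {F : Type*} [Field F] [Fintype F] {V : Type*} [AddCommGroup V] [Module F V]
  [FiniteDimensional F V]

theorem range_sub_one_ne_bot {g : Module.End F V} (hg1 : g ≠ 1) :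
    LinearMap.range (g - 1) ≠ ⊥ := by
  intro hbot
  apply hg1
  apply LinearMap.ext
  intro x
  have : (g - 1) x ∈ LinearMap.range (g - 1) := ⟨x, rfl⟩
  rw [hbot, Submodule.mem_bot, LinearMap.sub_apply, Module.End.one_apply, sub_eq_zero] at this
  exact this

/-- one of the two cuts of `β` along the involution `α` is trivial, unless `s ∣ q^(2i) - 1` for
some `1 ≤ i < n` -/
theorem cut_dichotomy (h2 : (2 : F) ≠ 0) (n : ℕ)
    (B : V →ₗ[F] V →ₗ[F] F) (hε : EpsSym B 1) (hnd : Nondeg B)
    (α β : Module.End F V) (hα : IsIso B α) (hβ : IsIso B β) (hαβ : α * β = β * α) (s : ℕ)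
    (hs : s.Prime) (hso : Odd s) (hsF : (s : F) ≠ 0) (hαα : α * α = 1) (hβs : β ^ s = 1)
    (hdim : finrank F (LinearMap.range (β - 1)) ≤ 2 * n)
    (hno : ∀ i, 1 ≤ i → i + 1 ≤ n → ¬ s ∣ Fintype.card F ^ (2 * i) - 1) :
    cut α β = 1 ∨ cut (-α) β = 1 := by
  by_contra hcon
  push Not at hcon
  obtain ⟨hp1, hm1⟩ := hcon
  have hnαβ : -α * β = β * -α := by rw [neg_mul, mul_neg, hαβ]
  have hnαα : -α * -α = 1 := neg_mul_neg_self hαα
  have hcp := cut_isIso h2 hαα hαβ hα hβ
  have hcm := cut_isIso h2 hnαα hnαβ hα.neg hβ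
  have hcps := cut_pow_eq_one h2 hαα hαβ s hβs
  have hcms := cut_pow_eq_one h2 hnαα hnαβ s hβs
  obtain ⟨kp, hkp⟩ := even_finrank_range_sym h2 hε hnd hcp s hcps hso hsF
  obtain ⟨km, hkm⟩ := even_finrank_range_sym h2 hε hnd hcm s hcms hso hsF
  have hkp1 : 1 ≤ kp := by
    by_contra hlt
    have h0 : finrank F (LinearMap.range (cut α β - 1)) = 0 := by omega
    exact range_sub_one_ne_bot hp1 (Submodule.finrank_eq_zero.mp h0)
  have hkm1 : 1 ≤ km := by
    by_contra hlt
    have h0 : finrank F (LinearMap.range (cut (-α) β - 1)) = 0 := by omega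
    exact range_sub_one_ne_bot hm1 (Submodule.finrank_eq_zero.mp h0)
  -- the two images are disjoint
  have hdisj : LinearMap.range (cut α β - 1) ⊓ LinearMap.range (cut (-α) β - 1) = ⊥ := by
    rw [eq_bot_iff]
    intro x hx
    rw [Submodule.mem_inf] at hx
    have h1 := fixed_of_mem_range_cut hαα hαβ x hx.1
    have h3 := fixed_of_mem_range_cut hnαα hnαβ x hx.2
    rw [LinearMap.neg_apply, h1] at h3
    rw [Submodule.mem_bot]
    have h4 : (2 : F) • x = 0 := by
      rw [two_smul]
      nth_rewrite 1 [← h3]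
      rw [neg_add_cancel]
    rcases smul_eq_zero.mp h4 with h5 | h5
    · exact absurd h5 h2
    · exact h5
  have hsup : LinearMap.range (cut α β - 1) ⊔ LinearMap.range (cut (-α) β - 1) ≤
      LinearMap.range (β - 1) := sup_le (range_cut_le α β) (range_cut_le (-α) β)
  have hfin := Submodule.finrank_sup_add_finrank_inf_eq (LinearMap.range (cut α β - 1))
    (LinearMap.range (cut (-α) β - 1))
  rw [hdisj, finrank_bot, add_zero] at hfin
  have hle := Submodule.finrank_mono hsup
  have hkpn : kp + 1 ≤ n := by omega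
  apply hno kp hkp1 hkpn
  have h5 := OddSp.dvd_card_sub_one_of_free (cut α β) s hs hcps (LinearMap.range (cut α β - 1))
    (fun x hx => OddSp.map_range_of_commute (cut α β) (cut α β) rfl x hx)
    (fun x hx hfix => OddSp.free_range (cut α β) s hcps hsF x hx hfix)
  rw [hkp, ← two_mul] at h5
  exact h5

/-- the involution acts as a sign on the image of `β - 1` -/
theorem exists_sign_on_range (h2 : (2 : F) ≠ 0) (n : ℕ)
    (B : V →ₗ[F] V →ₗ[F] F) (hε : EpsSym B 1) (hnd : Nondeg B)
    (α β : Module.End F V) (hα : IsIso B α) (hβ : IsIso B β) (hαβ : α * β = β * α) (s : ℕ)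
    (hs : s.Prime) (hso : Odd s) (hsF : (s : F) ≠ 0) (hαα : α * α = 1) (hβs : β ^ s = 1)
    (hdim : finrank F (LinearMap.range (β - 1)) ≤ 2 * n)
    (hno : ∀ i, 1 ≤ i → i + 1 ≤ n → ¬ s ∣ Fintype.card F ^ (2 * i) - 1) :
    ∃ e : F, (e = 1 ∨ e = -1) ∧ ∀ x ∈ LinearMap.range (β - 1), α x = e • x := by
  have hnαβ : -α * β = β * -α := by rw [neg_mul, mul_neg, hαβ]
  have hnαα : -α * -α = 1 := neg_mul_neg_self hαα
  have hprod := cut_mul_cut_neg h2 hαα hαβ
  rcases cut_dichotomy h2 n B hε hnd α β hα hβ hαβ s hs hso hsF hαα hβs hdim hno with h | h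
  · refine ⟨-1, Or.inr rfl, ?_⟩
    intro x hx
    rw [h, one_mul] at hprod
    rw [← hprod] at hx
    have h1 := fixed_of_mem_range_cut hnαα hnαβ x hx
    rw [LinearMap.neg_apply] at h1
    rw [neg_smul, one_smul]
    nth_rewrite 2 [← h1]
    rw [neg_neg]
  · refine ⟨1, Or.inl rfl, ?_⟩
    intro x hx
    rw [h, mul_one] at hprod
    rw [← hprod] at hx
    rw [one_smul]
    exact fixed_of_mem_range_cut hαα hαβ x hx

/-- an involution acts as a sign on an invariant line -/
theorem exists_sign_on_line (K : Submodule F V) (hK : finrank F K = 1) (α : Module.End F V)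
    (hαα : α * α = 1) (hinv : ∀ x ∈ K, α x ∈ K) :
    ∃ l : F, l * l = 1 ∧ ∀ x ∈ K, α x = l • x := by
  obtain ⟨⟨k, hkK⟩, hk0, hgen⟩ := finrank_eq_one_iff'.mp hK
  have hk0' : k ≠ 0 := fun h => hk0 (Subtype.ext h)
  obtain ⟨l, hl⟩ := hgen ⟨α k, hinv k hkK⟩
  have hl' : l • k = α k := congrArg Subtype.val hl
  refine ⟨l, ?_, ?_⟩
  · have h1 : α (α k) = k := by
      rw [← Module.End.mul_apply, hαα, Module.End.one_apply]
    rw [← hl', map_smul, ← hl', smul_smul] at h1
    have h3 : (l * l - 1) • k = 0 := by rw [sub_smul, one_smul, h1, sub_self]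
    rcases smul_eq_zero.mp h3 with h4 | h4
    · exact sub_eq_zero.mp h4
    · exact absurd h4 hk0'
  · intro x hx
    obtain ⟨c, hc⟩ := hgen ⟨x, hx⟩
    have hc' : c • k = x := congrArg Subtype.val hc
    rw [← hc', map_smul, ← hl', smul_smul, smul_smul, mul_comm]

end special

end Cfsg.Agent.Lib.Helper15.BC
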