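import Mathlib
import Cfsg.Agent.Lib.Helper15.BC13
import Cfsg.Agent.Lib.Helper15.OddSp6

/-!
# S2474, part 14: the special case: an involution of `Ω` acting as `-1` on a hyperplane
-/

set_option autoImplicit false
set_option linter.unusedSectionVars false

namespace Cfsg.Agent.Lib.Helper15.BC

open Module Matrix QuadraticMap Cfsg.Agent.Lib.Helper6 Cfsg.Agent.Lib.Helper15.Sps
  Cfsg.Agent.Lib.Helper15.PSpI Cfsg.Agent.Lib.Helper6.OrtS

section concrete

variable {F : Type*} [Field F] {ι : Type} [Fintype ι] [DecidableEq ι]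

theorem gend_mul (Q : QuadraticForm F (ι → F)) (g h : ↥(Cfsg.isometryGroup F ⇑Q)) :
    OddSp.gend Q (g * h) = OddSp.gend Q g * OddSp.gend Q h := by
  unfold OddSp.gend
  have : OddSp.gmat Q (g * h) = OddSp.gmat Q g * OddSp.gmat Q h := by
    unfold OddSp.gmat
    rw [Subgroup.coe_mul, Units.val_mul]
  rw [this, map_mul]

theorem gend_one (Q : QuadraticForm F (ι → F)) :
    OddSp.gend Q (1 : ↥(Cfsg.isometryGroup F ⇑Q)) = 1 :=
  (OddSp.gend_eq_one_iff Q 1).mpr rfl

theorem polarBilin_epsSym (Q : QuadraticForm F (ι → F)) : EpsSym (polarBilin Q) 1 := by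
  intro x y
  rw [one_mul]
  exact polar_comm Q y x

theorem polarBilin_nondeg (Q : QuadraticForm F (ι → F)) (hQ : (polarBilin Q).Nondegenerate) :
    Nondeg (polarBilin Q) := fun x h => hQ.1 x h

theorem gend_isIso (Q : QuadraticForm F (ι → F)) (g : ↥(Cfsg.isometryGroup F ⇑Q)) :
    IsIso (polarBilin Q) (OddSp.gend Q g) := by
  intro x y
  exact OddSp.polar_of_isometry Q (OddSp.gend Q g)
    (fun v => by rw [OddSp.gend_apply]; exact OddSp.gmat_iso Q g v) x y

end concrete

section arith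

/-- `4 ∣ N`, `s ∣ N`, `s` odd: `2 s ∣ N / 2` -/
theorem two_mul_dvd_half {N s : ℕ} (h4 : 4 ∣ N) (hs : s ∣ N) (hso : Odd s) : 2 * s ∣ N / 2 := by
  obtain ⟨m, rfl⟩ := h4
  have h1 : 4 * m / 2 = 2 * m := by omega
  rw [h1]
  have hc : Nat.Coprime s 4 := by
    have : Nat.Coprime s 2 := by rw [Nat.coprime_two_right]; exact hso
    have h22 : (4 : ℕ) = 2 * 2 := rfl
    rw [h22]
    exact Nat.Coprime.mul_right this this
  have h3 : s ∣ m := (Nat.Coprime.dvd_mul_left hc).mp hs
  exact Nat.mul_dvd_mul_left 2 h3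

end arith

section special

variable {F : Type*} [Field F] [Fintype F] {ι : Type} [Fintype ι] [DecidableEq ι]

/-- **the special case**: an involution of `Ω_{2n+1}(q)` commuting with an element of odd prime
order `s` whose fixed space is a line, where `s ∤ q^(2i) - 1` for `1 ≤ i < n` -/
theorem orth_to_sp_special (Q : QuadraticForm F (ι → F)) (hodd : Odd (Fintype.card F)) (p : ℕ)
    [Fact p.Prime] [CharP F p] (hQ : (polarBilin Q).Nondegenerate) (n : ℕ) (hn : 2 ≤ n)
    (hcard : Fintype.card ι = 2 * n + 1) (a b : ↥(Cfsg.isometryGroup F ⇑Q))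
    (haΩ : a ∈ Cfsg.Omega F ⇑Q) (hab : Commute a b) (s : ℕ) (hs : s.Prime) (hso : Odd s)
    (hsF : (s : F) ≠ 0) (ha2 : a ^ 2 = 1) (ha1 : a ≠ 1) (hbs : b ^ s = 1)
    (hdim : finrank F (LinearMap.range (OddSp.gend Q b - 1)) = 2 * n)
    (hno : ∀ i, 1 ≤ i → i + 1 ≤ n → ¬ s ∣ Fintype.card F ^ (2 * i) - 1) :
    2 * s ∈ Set.range (orderOf : Cfsg.PSp n F → ℕ) := by
  classical
  have h2 : (2 : F) ≠ 0 := two_ne_zero_of_odd hodd
  have hq : 2 ≤ Fintype.card F := Fintype.one_lt_card
  set q := Fintype.card F with hqdef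
  have hεB := polarBilin_epsSym Q
  have hndB := polarBilin_nondeg Q hQ
  set α := OddSp.gend Q a with hαdef
  set β := OddSp.gend Q b with hβdef
  have hα : IsIso (polarBilin Q) α := gend_isIso Q a
  have hβ : IsIso (polarBilin Q) β := gend_isIso Q b
  have hαβ : α * β = β * α := by
    rw [hαdef, hβdef, ← gend_mul, ← gend_mul, hab.eq]
  have hαα : α * α = 1 := by
    rw [← pow_two, hαdef, OddSp.gend_pow, ha2, gend_one]
  have hα1 : α ≠ 1 := fun h => ha1 ((OddSp.gend_eq_one_iff Q a).mp h)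
  have hβs : β ^ s = 1 := by
    rw [hβdef, OddSp.gend_pow, hbs, gend_one]
  have hisoβ : ∀ v, Q (β v) = Q v := fun v => by
    rw [hβdef, OddSp.gend_apply]; exact OddSp.gmat_iso Q b v
  have hV : finrank F (ι → F) = 2 * n + 1 := by rw [Module.finrank_pi, hcard]
  have hcompl := OddSp.isCompl_ker_range β s hβs hsF
  -- the action of `α` on the image and on the kernel of `β - 1`
  obtain ⟨e, he, heZ⟩ := exists_sign_on_range h2 n (polarBilin Q) hεB hndB α β hα hβ hαβ s hs hso
    hsF hαα hβs (le_of_eq hdim) hno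
  have hKdim : finrank F (LinearMap.ker (β - 1)) = 1 := by
    have := LinearMap.finrank_range_add_finrank_ker (β - 1)
    omega
  obtain ⟨l, hll, hlK⟩ := exists_sign_on_line (LinearMap.ker (β - 1)) hKdim α hαα
    (fun x hx => OddSp.map_ker_of_commute β α hαβ x hx)
  -- the determinant
  have hdet1 : LinearMap.det α = 1 := by
    rw [hαdef, OddSp.det_gend]
    exact OddSp.det_of_mem_Omega Q a haΩ
  have hdet2 := det_of_compl (LinearMap.ker (β - 1)) (LinearMap.range (β - 1)) hcompl α l e hlK heZ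
  rw [hdet1, hKdim, hdim, pow_one] at hdet2
  have he2 : e ^ (2 * n) = 1 := by
    rw [pow_mul]
    rcases he with rfl | rfl <;> simp
  rw [he2, mul_one] at hdet2
  have hl1 : l = 1 := hdet2.symm
  have he1 : e = -1 := by
    rcases he with rfl | rfl
    · exfalso
      apply hα1
      apply LinearMap.ext
      intro v
      obtain ⟨v₀, hv₀, v₁, hv₁, rfl⟩ := Submodule.mem_sup.mp
        (show v ∈ LinearMap.ker (β - 1) ⊔ LinearMap.range (β - 1) by
          rw [hcompl.sup_eq_top]; exact Submodule.mem_top)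
      rw [map_add, hlK v₀ hv₀, heZ v₁ hv₁, hl1, one_smul, one_smul, Module.End.one_apply]
    · rfl
  subst hl1
  subst he1
  -- the spinor criterion
  have hZn : NondegOn (polarBilin Q) (LinearMap.range (β - 1)) :=
    OddSp.nondegOn_range Q hQ β hisoβ hcompl
  have hmulVec : ∀ v, OddSp.gmat Q a *ᵥ v = α v := fun v => (OddSp.gend_apply Q a v).symm
  have hspin : ∀ (ε : ℤ), SgnOn Q (LinearMap.range (β - 1)) ε → ∀ t : ℕ, Odd t →
      (q : ℤ) ^ n - ε ≠ 2 ^ 1 * t := by
    intro ε hε t ht hN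
    refine OddSp.not_mem_Omega_of_free_odd Q h2 hQ n hcard (LinearMap.range (β - 1)) hZn n
      (by omega) hdim ε hε 1 t le_rfl ht hN a ?_ ?_ ?_ haΩ
    · intro z hz
      show OddSp.gmat Q a *ᵥ z ∈ _
      rw [hmulVec, heZ z hz]
      exact Submodule.smul_mem _ _ hz
    · intro v hv
      show OddSp.gmat Q a *ᵥ v = v
      rw [hmulVec]
      have hvK := OddSp.mem_ker_of_orth_range Q hQ β hisoβ hcompl v hv
      rw [hlK v hvK, one_smul]
    · intro z hz
      show (OddSp.gmat Q a ^ 2 ^ (1 - 1)) *ᵥ z = -z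
      rw [Nat.sub_self, pow_zero, pow_one, hmulVec, heZ z hz, neg_smul, one_smul]
  -- the sign and the divisibility
  have hqn : 1 ≤ q ^ n := Nat.one_le_pow _ _ (by omega)
  have hqn1 : 1 ≤ q ^ (n - 1) := Nat.one_le_pow _ _ (by omega)
  have hqodd : Odd (q ^ n) := hodd.pow
  have hsprime : Prime (s : ℤ) := Nat.prime_iff_prime_int.mp hs
  have hinvZ : ∀ x ∈ LinearMap.range (β - 1), β x ∈ LinearMap.range (β - 1) :=
    fun x hx => OddSp.map_range_of_commute β β rfl x hx
  have hfreeZ : ∀ x ∈ LinearMap.range (β - 1), β x = x → x = 0 :=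
    fun x hx hfix => OddSp.free_range β s hβs hsF x hx hfix
  have hnot : ¬ s ∣ q ^ (2 * (n - 1)) - 1 := hno (n - 1) (by omega) (by omega)
  have hfac : q ^ (2 * (n - 1)) - 1 = (q ^ (n - 1) + 1) * (q ^ (n - 1) - 1) := by
    rw [mul_comm 2 (n - 1), pow_mul]
    have := Nat.sq_sub_sq (q ^ (n - 1)) 1
    rw [one_pow] at this
    exact this
  rcases sgnOn_cases Q hZn n hdim with hplus | hminus
  · -- sign `+`
    have hd := dvd_of_free_sgn Q β hisoβ s hs hβs n (by omega) (LinearMap.range (β - 1)) hdim 1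
      hplus (Or.inl rfl) hinvZ hfreeZ
    have hd' : (s : ℤ) ∣ (q : ℤ) ^ n - 1 := by
      rcases hsprime.dvd_or_dvd hd with h | h
      · exact h
      · exfalso
        apply hnot
        rw [hfac]
        apply Dvd.dvd.mul_right
        have : ((q ^ (n - 1) + 1 : ℕ) : ℤ) = (q : ℤ) ^ (n - 1) + 1 := by push_cast; ring
        rw [← Int.natCast_dvd_natCast, this]
        exact h
    have hsN : s ∣ q ^ n - 1 := by
      have : ((q ^ n - 1 : ℕ) : ℤ) = (q : ℤ) ^ n - 1 := by
        rw [Nat.cast_sub hqn]; push_cast; ring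
      rw [← Int.natCast_dvd_natCast, this]
      exact hd'
    have h4 : 4 ∣ q ^ n - 1 := by
      obtain ⟨c, hc⟩ := hqodd
      have hN : q ^ n - 1 = 2 * c := by omega
      rcases Nat.even_or_odd c with ⟨c', hc'⟩ | hcodd
      · exact ⟨c', by omega⟩
      · exfalso
        apply hspin 1 hplus c hcodd
        have : (q : ℤ) ^ n = ((q ^ n : ℕ) : ℤ) := by push_cast; ring
        rw [this, hc]
        push_cast
        ring
    obtain ⟨g, hg⟩ := exists_singer_minus (F := F) (n := n) (by omega) p hodd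
    obtain ⟨g', hg'⟩ := exists_orderOf_of_dvd_psp g (u := 2 * s)
      (by rw [hg]; exact two_mul_dvd_half h4 hsN hso)
    exact ⟨g', hg'⟩
  · -- sign `-`
    have hd := dvd_of_free_sgn Q β hisoβ s hs hβs n (by omega) (LinearMap.range (β - 1)) hdim (-1)
      hminus (Or.inr rfl) hinvZ hfreeZ
    have hd' : (s : ℤ) ∣ (q : ℤ) ^ n - -1 := by
      rcases hsprime.dvd_or_dvd hd with h | h
      · exact h
      · exfalso
        apply hnot
        rw [hfac]
        apply Dvd.dvd.mul_left
        have : ((q ^ (n - 1) - 1 : ℕ) : ℤ) = (q : ℤ) ^ (n - 1) + -1 := by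
          rw [Nat.cast_sub hqn1]; push_cast; ring
        rw [← Int.natCast_dvd_natCast, this]
        exact h
    have hsN : s ∣ q ^ n + 1 := by
      have : ((q ^ n + 1 : ℕ) : ℤ) = (q : ℤ) ^ n - -1 := by push_cast; ring
      rw [← Int.natCast_dvd_natCast, this]
      exact hd'
    have h4 : 4 ∣ q ^ n + 1 := by
      obtain ⟨c, hc⟩ := hqodd
      have hN : q ^ n + 1 = 2 * (c + 1) := by omega
      rcases Nat.even_or_odd (c + 1) with ⟨c', hc'⟩ | hcodd
      · exact ⟨c', by omega⟩
      · exfalso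
        apply hspin (-1) hminus (c + 1) hcodd
        have : (q : ℤ) ^ n = ((q ^ n : ℕ) : ℤ) := by push_cast; ring
        rw [this, hc]
        push_cast
        ring
    obtain ⟨g, hg⟩ := exists_singer_plus (F := F) (n := n) (by omega) p hodd
    obtain ⟨g', hg'⟩ := exists_orderOf_of_dvd_psp g (u := 2 * s)
      (by rw [hg]; exact two_mul_dvd_half h4 hsN hso)
    exact ⟨g', hg'⟩

end special

end Cfsg.Agent.Lib.Helper15.BC
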