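import Mathlib
import Cfsg.Agent.Lib.Helper15.BC10
import Cfsg.Agent.Lib.Helper15.BC14

/-!
# S2474, part 15: from the groups to linear algebra, and the two oriented implications
-/

set_option autoImplicit false
set_option linter.unusedSectionVars false

namespace Cfsg.Agent.Lib.Helper15.BC

open Module Matrix QuadraticMap Cfsg.Agent.Lib.Helper6 Cfsg.Agent.Lib.Helper15.Sps

section group

/-- an element of order `r s` gives commuting elements of orders `r` and `s` -/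
theorem exists_commuting_of_orderOf {G : Type*} [Group G] (g : G) (r s : ℕ) (hr : 0 < r)
    (hs : 0 < s) (hg : orderOf g = r * s) :
    orderOf (g ^ s) = r ∧ orderOf (g ^ r) = s ∧ Commute (g ^ s) (g ^ r) := by
  refine ⟨?_, ?_, ?_⟩
  · rw [orderOf_pow_of_dvd hs.ne' ⟨r, by rw [hg, mul_comm]⟩, hg]
    exact Nat.mul_div_cancel _ hs
  · rw [orderOf_pow_of_dvd hr.ne' ⟨s, by rw [hg]⟩, hg]
    exact Nat.mul_div_cancel_left _ hr
  · exact (Commute.refl g).pow_pow s r

end group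

section analyze

variable {F : Type*} [Field F] [Fintype F]

/-- from an element of order `r s` of `PΩ(Q)`: commuting elements of `Ω(Q)` of orders `r`, `s` -/
theorem exists_pair_of_pomega {ι : Type} [Fintype ι] [DecidableEq ι]
    (Qf : (ι → F) → F) (Q : QuadraticForm F (ι → F)) (hQf : Qf = ⇑Q) (r s : ℕ) (hr : 0 < r)
    (hs : 0 < s) (h : r * s ∈ Set.range (orderOf : Cfsg.POmega F Qf → ℕ)) :
    ∃ a b : ↥(Cfsg.isometryGroup F ⇑Q), a ∈ Cfsg.Omega F ⇑Q ∧ b ∈ Cfsg.Omega F ⇑Q ∧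
      Commute a b ∧ orderOf a = r ∧ orderOf b = s := by
  classical
  subst hQf
  obtain ⟨x, hx⟩ := h
  obtain ⟨w, rfl⟩ := QuotientGroup.mk_surjective x
  have hfin : Finite (GL ι F) := inferInstance
  have hdvd : orderOf (QuotientGroup.mk w : Cfsg.POmega F ⇑Q) ∣ orderOf w :=
    orderOf_map_dvd (QuotientGroup.mk' (Subgroup.center (Cfsg.Omega F ⇑Q))) w
  rw [hx] at hdvd
  have hNpos : 0 < r * s := Nat.mul_pos hr hs
  have hopos : 0 < orderOf w := orderOf_pos w
  obtain ⟨c, hc⟩ := hdvd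
  have hc0 : c ≠ 0 := by
    rintro rfl
    rw [mul_zero] at hc
    omega
  have hord : orderOf (w ^ c) = r * s := by
    rw [orderOf_pow_of_dvd hc0 ⟨_, by rw [hc, mul_comm]⟩, hc]
    exact Nat.mul_div_cancel _ (Nat.pos_of_ne_zero hc0)
  obtain ⟨h1, h3, h4⟩ := exists_commuting_of_orderOf (w ^ c) r s hr hs hord
  refine ⟨(((w ^ c) ^ s : ↥(Cfsg.Omega F ⇑Q)) : ↥(Cfsg.isometryGroup F ⇑Q)),
    (((w ^ c) ^ r : ↥(Cfsg.Omega F ⇑Q)) : ↥(Cfsg.isometryGroup F ⇑Q)),
    ((w ^ c) ^ s).2, ((w ^ c) ^ r).2, ?_, ?_, ?_⟩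
  · have := congrArg (Subtype.val) h4.eq
    exact this
  · rw [Subgroup.orderOf_coe]; exact h1
  · rw [Subgroup.orderOf_coe]; exact h3

/-- from an element of order `r s` of `PSp`: commuting isometries of projective orders `r`, `s` -/
theorem exists_pair_of_psp {n : ℕ} (hn : 1 ≤ n) (r s : ℕ) (hr : r.Prime) (hs : s.Prime)
    (h : r * s ∈ Set.range (orderOf : Cfsg.PSp n F → ℕ)) :
    ∃ α β : Module.End F (Fin n ⊕ Fin n → F), IsIso (stdSymp n F) α ∧ IsIso (stdSymp n F) β ∧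
      α * β = β * α ∧
      (∃ c : F, α ^ r = c • (1 : Module.End F (Fin n ⊕ Fin n → F))) ∧
      (¬ ∃ c : F, α = c • (1 : Module.End F (Fin n ⊕ Fin n → F))) ∧
      (∃ c : F, β ^ s = c • (1 : Module.End F (Fin n ⊕ Fin n → F))) ∧
      (¬ ∃ c : F, β = c • (1 : Module.End F (Fin n ⊕ Fin n → F))) := by
  obtain ⟨g, hg⟩ := h
  obtain ⟨x, rfl⟩ := QuotientGroup.mk_surjective g
  obtain ⟨h1, h3, -⟩ := exists_commuting_of_orderOf (QuotientGroup.mk x : Cfsg.PSp n F) r s
    hr.pos hs.pos hg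
  rw [← QuotientGroup.mk_pow] at h1 h3
  have key : ∀ (y : Matrix.symplecticGroup (Fin n) F) (t : ℕ), t.Prime →
      orderOf (QuotientGroup.mk y : Cfsg.PSp n F) = t →
      (∃ c : F, sEnd y ^ t = c • (1 : Module.End F (Fin n ⊕ Fin n → F))) ∧
      (¬ ∃ c : F, sEnd y = c • (1 : Module.End F (Fin n ⊕ Fin n → F))) := by
    intro y t ht hy
    constructor
    · have h5 : orderOf (QuotientGroup.mk y : Cfsg.PSp n F) ∣ t := by rw [hy]
      rw [orderOf_mk_dvd_iff_sp hn] at h5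
      obtain ⟨ν, hν⟩ := h5
      exact ⟨ν, (sEnd_pow_eq_smul_iff y t ν).mpr hν⟩
    · rintro ⟨c, hc⟩
      have h5 : orderOf (QuotientGroup.mk y : Cfsg.PSp n F) ∣ 1 := by
        rw [orderOf_mk_dvd_iff_sp hn]
        refine ⟨c, ?_⟩
        rw [← sEnd_pow_eq_smul_iff, pow_one, hc]
      rw [hy, Nat.dvd_one] at h5
      exact ht.one_lt.ne' h5
  obtain ⟨k1, k2⟩ := key (x ^ s) r hr h1
  obtain ⟨k3, k4⟩ := key (x ^ r) s hs h3
  refine ⟨sEnd (x ^ s), sEnd (x ^ r), sEnd_isIso _, sEnd_isIso _, ?_, k1, k2, k3, k4⟩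
  rw [← sEnd_mul, ← sEnd_mul, ← pow_add, ← pow_add, add_comm]

end analyze

section oriented

variable {F : Type*} [Field F] [Fintype F]

theorem odd_of_prime_ne_two {t : ℕ} (ht : t.Prime) (h : t ≠ 2) : Odd t :=
  ht.eq_two_or_odd'.resolve_left h

/-- from `PΩ_{2n+1}(q)` to `PSp_{2n}(q)`, where `s` is odd and different from the
characteristic -/
theorem fwd_oriented (hodd : Odd (Fintype.card F)) (p : ℕ) [Fact p.Prime] [CharP F p] (n : ℕ)
    (hn : 3 ≤ n) (r s : ℕ) (hr : r.Prime) (hs : s.Prime) (hrs : r ≠ s) (hso : Odd s)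
    (hsp : s ≠ p)
    (h : r * s ∈ Set.range (orderOf : Cfsg.POmega F (Cfsg.quadFormOdd n F) → ℕ)) :
    r * s ∈ Set.range (orderOf : Cfsg.PSp n F → ℕ) := by
  classical
  have hp : p.Prime := Fact.out
  have h2 : (2 : F) ≠ 0 := two_ne_zero_of_odd hodd
  have hpo : Odd p := by
    apply odd_of_prime_ne_two hp
    rintro rfl
    apply h2
    have := CharP.cast_eq_zero F 2
    exact_mod_cast this
  have hsF : (s : F) ≠ 0 := natCast_ne_zero_of_prime_ne p s hs hsp
  obtain ⟨Q, hQdef⟩ : ∃ Q : QuadraticForm F (Unit ⊕ (Fin n ⊕ Fin n) → F), Q = QOdd F n := ⟨_, rfl⟩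
  have hQ : (polarBilin Q).Nondegenerate := by
    rw [hQdef]
    exact nondegenerate_QOdd F h2 n
  obtain ⟨a, b, haΩ, -, hab, hoa, hob⟩ := exists_pair_of_pomega (Cfsg.quadFormOdd n F) Q
    (funext fun v => by rw [hQdef]; exact (QOdd_apply F n v).symm) r s hr.pos hs.pos h
  have hcard : Fintype.card (Unit ⊕ (Fin n ⊕ Fin n)) = 2 * n + 1 := by
    rw [Fintype.card_sum, Fintype.card_sum, Fintype.card_unit, Fintype.card_fin]
    ring
  have hV : finrank F (Unit ⊕ (Fin n ⊕ Fin n) → F) = 2 * n + 1 := by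
    rw [Module.finrank_pi, hcard]
  have hεB := polarBilin_epsSym Q
  have hndB := polarBilin_nondeg Q hQ
  have har : a ^ r = 1 := by rw [← hoa]; exact pow_orderOf_eq_one a
  have hbs : b ^ s = 1 := by rw [← hob]; exact pow_orderOf_eq_one b
  have ha1 : a ≠ 1 := by
    intro h1
    rw [h1, orderOf_one] at hoa
    exact hr.one_lt.ne hoa
  have hb1 : b ≠ 1 := by
    intro h1
    rw [h1, orderOf_one] at hob
    exact hs.one_lt.ne hob
  have hα := gend_isIso Q a
  have hβ := gend_isIso Q b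
  have hαβ : OddSp.gend Q a * OddSp.gend Q b = OddSp.gend Q b * OddSp.gend Q a := by
    rw [← gend_mul, ← gend_mul, hab.eq]
  have hαr : OddSp.gend Q a ^ r = 1 := by rw [OddSp.gend_pow, har, gend_one]
  have hβs : OddSp.gend Q b ^ s = 1 := by rw [OddSp.gend_pow, hbs, gend_one]
  have hα1 : OddSp.gend Q a ≠ 1 := fun h1 => ha1 ((OddSp.gend_eq_one_iff Q a).mp h1)
  have hβ1 : OddSp.gend Q b ≠ 1 := fun h1 => hb1 ((OddSp.gend_eq_one_iff Q b).mp h1)
  by_cases hr2 : r = 2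
  · subst hr2
    by_cases hsmall : finrank F (LinearMap.range (OddSp.gend Q b - 1)) = 2 * n
    · by_cases hex : ∃ i, 1 ≤ i ∧ i + 1 ≤ n ∧ s ∣ Fintype.card F ^ (2 * i) - 1
      · obtain ⟨i, hi1, hin, hdvd⟩ := hex
        exact psp_two_of_dvd hodd p n i hi1 hin s hs hso hdvd
      · push Not at hex
        exact orth_to_sp_special Q hodd p hQ n (by omega) hcard a b haΩ hab s hs hso hsF har ha1
          hbs hsmall (fun i hi1 hin => hex i hi1 hin)
    · exact orth_to_sp_two_small h2 n (by omega) (polarBilin Q) hεB hndB hV (OddSp.gend Q b) hβ s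
        hs hso hsF hβs hβ1 hsmall
  · have hro : Odd r := odd_of_prime_ne_two hr hr2
    by_cases hrp : r = p
    · subst hrp
      exact orth_to_sp_unip h2 r hro n (by omega) (polarBilin Q) hεB hndB hV (OddSp.gend Q a)
        (OddSp.gend Q b) hα hβ hαβ s hs hrs hso hsF hαr hα1 hβs hβ1
    · have hrF : (r : F) ≠ 0 := natCast_ne_zero_of_prime_ne p r hr hrp
      exact orth_to_sp_ss h2 n (by omega) (polarBilin Q) hεB hndB hV (OddSp.gend Q a)
        (OddSp.gend Q b) hα hβ hαβ r s hr hs hrs hro hso hrF hsF hαr hα1 hβs hβ1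

/-- from `PSp_{2n}(q)` to `PΩ_{2n+1}(q)`, where `s` is odd and different from the
characteristic -/
theorem bwd_oriented (hodd : Odd (Fintype.card F)) (p : ℕ) [Fact p.Prime] [CharP F p] (n : ℕ)
    (hn : 3 ≤ n) (r s : ℕ) (hr : r.Prime) (hs : s.Prime) (hrs : r ≠ s) (hso : Odd s)
    (hsp : s ≠ p)
    (h : r * s ∈ Set.range (orderOf : Cfsg.PSp n F → ℕ)) :
    r * s ∈ Set.range (orderOf : Cfsg.POmega F (Cfsg.quadFormOdd n F) → ℕ) := by
  classical
  have hp : p.Prime := Fact.out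
  have h2 : (2 : F) ≠ 0 := two_ne_zero_of_odd hodd
  have hpo : Odd p := by
    apply odd_of_prime_ne_two hp
    rintro rfl
    apply h2
    have := CharP.cast_eq_zero F 2
    exact_mod_cast this
  have hsF : (s : F) ≠ 0 := natCast_ne_zero_of_prime_ne p s hs hsp
  obtain ⟨α, β, hα, hβ, hαβ, ⟨ca, hca⟩, hα1, ⟨cb, hcb⟩, hβ1⟩ :=
    exists_pair_of_psp (F := F) (n := n) (by omega) r s hr hs h
  have hεB := stdSymp_epsSym F n
  have hndB := stdSymp_nondeg' F n
  have hV := finrank_std F n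
  have hVne := exists_ne_zero_std F n (by omega)
  obtain ⟨β', hβ', hβ's, hβ'1, hβ'c⟩ := exists_normalized hndB hVne hβ s hso cb hcb hβ1
  have hαβ' : α * β' = β' * α := hβ'c α hαβ
  by_cases hr2 : r = 2
  · subst hr2
    rw [pow_two] at hca
    exact sp_to_orth_two hodd n hn (stdSymp n F) hεB hndB hV α β' hα hβ' hαβ' s hs hso hsF ca hca
      hα1 hβ's hβ'1
  · have hro : Odd r := odd_of_prime_ne_two hr hr2
    obtain ⟨α', hα', hα'r, hα'1, hα'c⟩ := exists_normalized hndB hVne hα r hro ca hca hα1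
    have hα'β' : α' * β' = β' * α' := (hα'c β' hαβ'.symm).symm
    by_cases hrp : r = p
    · subst hrp
      exact sp_to_orth_unip hodd r hro n hn (stdSymp n F) hεB hndB hV α' β' hα' hβ' hα'β' s hs hrs
        hso hsF hα'r hα'1 hβ's hβ'1
    · have hrF : (r : F) ≠ 0 := natCast_ne_zero_of_prime_ne p r hr hrp
      exact sp_to_orth_ss hodd n hn (stdSymp n F) hεB hndB hV α' β' hα' hβ' hα'β' r s hr hs hrs hro
        hso hrF hsF hα'r hα'1 hβ's hβ'1

end oriented

end Cfsg.Agent.Lib.Helper15.BC
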