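import Mathlib
import Cfsg.Prelude.Def_GeometricClasses
import Cfsg.Agent.Lib.Helper13.TensorNM
import Cfsg.Agent.Lib.Helper13.DecompCoords
import Cfsg.Agent.Lib.Helper13.TensorHerm
import Cfsg.Agent.Lib.Helper15.MonoA
import Cfsg.Agent.Lib.Helper15.BlkA

/-!
# S5634 BlkMax: FO-TR (transport to an arbitrary decomposition) and FO-STRICT
-/

set_option autoImplicit false

namespace Cfsg.Agent.Lib.Helper15.BlkMax

open Matrix Cfsg Cfsg.Geo Cfsg.Agent.Lib.Helper13.TNM Cfsg.Agent.Lib.Helper15.MonoMax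

/-- FO-TR : transport of maximality from adapted coordinates to an arbitrary decomposition -/
theorem blk_case_of_coord {F : Type*} [Field F] (n : ℕ) {t : ℕ} (m : ℕ)
    (D : Fin t → Submodule F (Fin n → F)) (hD : IsMDecomposition m D)
    (h : IsMaximalIn (specialLinear (Fin t × Fin m) F) (SS t m F)) :
    IsMaximalIn (specialLinear (Fin n) F) (decompositionStabilizer D ⊓ specialLinear (Fin n) F) := by
  classical
  obtain ⟨e, P, hcoord⟩ := exists_coords_of_decomposition D hD
  have hsurj := psi_surjective (F := F) e P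
  have hcH : (decompositionStabilizer D ⊓ specialLinear (Fin n) F).comap (psi e P) = SS t m F := by
    ext g
    rw [Subgroup.mem_comap, Subgroup.mem_inf, SS, Subgroup.mem_inf,
      psi_mem_decStab_iff e P D Prod.fst hcoord, psi_mem_specialLinear_iff, mem_SL_iff]
  have hcK : (specialLinear (Fin n) F).comap (psi e P) = specialLinear (Fin t × Fin m) F := by
    ext g
    rw [Subgroup.mem_comap, psi_mem_specialLinear_iff, mem_SL_iff]
  obtain ⟨hlt, hmax⟩ := h
  constructor
  · rw [← hcH, ← hcK] at hlt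
    exact (Subgroup.comap_lt_comap_of_surjective hsurj).mp hlt
  · intro M hHM hMK
    have h1 : SS t m F ≤ M.comap (psi e P) := by
      rw [← hcH]; exact Subgroup.comap_mono hHM
    have h2 : M.comap (psi e P) ≤ specialLinear (Fin t × Fin m) F := by
      rw [← hcK]; exact Subgroup.comap_mono hMK
    rcases hmax _ h1 h2 with h3 | h3
    · left
      apply Subgroup.comap_injective hsurj
      rw [h3, hcH]
    · right
      apply Subgroup.comap_injective hsurj
      rw [h3, hcK]

/-- FO-STRICT : the block stabiliser is a proper subgroup of `SL` -/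
theorem SS_lt {t m : ℕ} {F : Type*} [Field F] (ht : 2 ≤ t) (hm : 1 ≤ m) :
    SS t m F < specialLinear (Fin t × Fin m) F := by
  classical
  rw [SetLike.lt_iff_le_and_exists]
  refine ⟨inf_le_right, ?_⟩
  obtain ⟨a₀, ha₀⟩ : ∃ a₀ : Fin t × Fin m, a₀ = (⟨0, by omega⟩, ⟨0, by omega⟩) := ⟨_, rfl⟩
  obtain ⟨a₁, ha₁⟩ : ∃ a₁ : Fin t × Fin m, a₁ = (⟨1, by omega⟩, ⟨0, by omega⟩) := ⟨_, rfl⟩
  have h01 : a₀.1 ≠ a₁.1 := by
    rw [ha₀, ha₁]
    intro h
    have := congrArg Fin.val h
    simp at this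
  have hne : a₀ ≠ a₁ := fun h => h01 (by rw [h])
  have hdot : (Pi.single a₁ 1 : Fin t × Fin m → F) ⬝ᵥ (Pi.single a₀ 1 : Fin t × Fin m → F) = 0 := by
    rw [single_dotProduct, one_mul, Pi.single_apply, if_neg hne.symm]
  refine ⟨tvGL (Pi.single a₀ 1) (Pi.single a₁ 1) hdot, tvGL_mem_SL _ _ hdot, ?_⟩
  intro hmem
  have hmem' := (Subgroup.mem_inf.mp hmem).1
  obtain ⟨k, hk⟩ := exists_col_of_mem_decStab (F := F) (Prod.fst : Fin t × Fin m → Fin t) _ hmem' a₁
  have e1 : ((tvGL (Pi.single a₀ 1) (Pi.single a₁ 1) hdot : GL (Fin t × Fin m) F) :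
      Matrix (Fin t × Fin m) (Fin t × Fin m) F) a₁ a₁ ≠ 0 := by
    rw [tvGL_val, tv, Matrix.add_apply, Matrix.one_apply_eq, vecMulVec_apply, Pi.single_apply,
      if_neg hne.symm, zero_mul, add_zero]
    exact one_ne_zero
  have e0 : ((tvGL (Pi.single a₀ 1) (Pi.single a₁ 1) hdot : GL (Fin t × Fin m) F) :
      Matrix (Fin t × Fin m) (Fin t × Fin m) F) a₀ a₁ ≠ 0 := by
    rw [tvGL_val, tv, Matrix.add_apply, Matrix.one_apply_ne hne, vecMulVec_apply, Pi.single_eq_same,
      Pi.single_eq_same, zero_add, one_mul]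
    exact one_ne_zero
  have k1 : a₁.1 = k := by
    by_contra h
    exact e1 (hk a₁ h)
  have k0 : a₀.1 = k := by
    by_contra h
    exact e0 (hk a₀ h)
  exact h01 (k0.trans k1.symm)

end Cfsg.Agent.Lib.Helper15.BlkMax
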