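import Mathlib
import Cfsg.Prelude.Def_GeometricClasses
import Cfsg.Agent.Lib.Helper13.TensorNM
import Cfsg.Agent.Lib.Helper13.DecompCoords
import Cfsg.Agent.Lib.Helper15.MonoA
import Cfsg.Agent.Lib.Helper15.BlkA
import Cfsg.Agent.Lib.Helper15.BlkTR
import Cfsg.Agent.Lib.Helper10.BlkCaseA
import Cfsg.Agent.Lib.Helper22.BlkCaseD
import Cfsg.Agent.Lib.Helper21.BlkTV
import Cfsg.Agent.Lib.Helper22.BlkCaseCFinal
import Cfsg.Agent.Lib.Helper23.BlkB1
import Cfsg.Agent.Lib.Helper21.BlkCaseB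
import Cfsg.Agent.Lib.Helper3.BlkB3
import Cfsg.Agent.Lib.Helper3.BlkB4

/-!
# S5634, blocks of dimension `m ≥ 2`: assembly ("BlkMax")

See `notes/S5634BlkSkel_helper15.lean.txt` for the proof outline.  Pieces by helper3, helper10,
helper21, helper22, helper23 (and helper16, helper18 duplicates of FO-STRICT / FO-TR).
-/

set_option autoImplicit false

namespace Cfsg.Agent.Lib.Helper15.BlkMax

open Matrix Cfsg Cfsg.Geo Cfsg.Agent.Lib.Helper13.TNM Cfsg.Agent.Lib.Helper15.MonoMax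

section blocks
variable {t m : ℕ} {F : Type*} [Field F]

theorem goal_of_start (hm : 2 ≤ m) (h2 : m = 2 → 3 ≤ t ∧ ∃ δ : F, δ ≠ 0 ∧ δ ≠ 1)
    (M : Subgroup (GL (Fin t × Fin m) F)) (hSM : SS t m F ≤ M)
    (c ψ : Fin t × Fin m → F) (hψc : ψ ⬝ᵥ c = 0) (hψ0 : ψ ≠ 0) (hT : InTv M c ψ)
    (k l : Fin t) (hkl : k ≠ l) (hck : ∃ x, c (k, x) ≠ 0) (hcl : ∃ y, c (l, y) ≠ 0) : Goal M := by
  classical
  by_cases hA : ∃ k', (∃ x, c (k', x) ≠ 0) ∧ ∀ x, ψ (k', x) = 0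
  · obtain ⟨k', hck', hψk'⟩ := hA
    exact Cfsg.Agent.Lib.Helper10.BlkCaseA.goal_of_caseA hm M hSM c ψ hψc hT hψ0 k' hψk' hck'
  by_cases hB : ∃ k', (∃ x, ψ (k', x) ≠ 0) ∧ ∀ x, c (k', x) = 0
  · obtain ⟨k', hψk', hck'⟩ := hB
    have hc0 : c ≠ 0 := by
      obtain ⟨x, hx⟩ := hck
      intro h
      exact hx (by rw [h]; rfl)
    exact Cfsg.Agent.Lib.Helper21.BlkCaseB.goal_of_caseB hm M hSM c ψ hψc hT hc0 k' hck' hψk'
  have hA' : ∀ k', (∃ x, c (k', x) ≠ 0) → ∃ x, ψ (k', x) ≠ 0 := by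
    intro k' hk'
    by_contra hcon
    exact hA ⟨k', hk', fun x => by by_contra hx; exact hcon ⟨x, hx⟩⟩
  have hψk := hA' k hck
  have hψl := hA' l hcl
  by_cases hC : 3 ≤ m ∨ ∑ x, ψ (k, x) * c (k, x) ≠ 0
  · exact Cfsg.Agent.Lib.Helper22.Blk.goal_of_caseC hm M hSM c ψ hψc hT k l hkl hck hcl hψk hC
  have hm3 : ¬ 3 ≤ m := fun h => hC (Or.inl h)
  have hρ : ∑ x, ψ (k, x) * c (k, x) = 0 := by
    by_contra h
    exact hC (Or.inr h)
  have hm2 : m = 2 := by omega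
  obtain ⟨ht3, δ, hδ0, hδ1⟩ := h2 hm2
  obtain ⟨l', hl'k, hl'l⟩ : ∃ l' : Fin t, l' ≠ k ∧ l' ≠ l := by
    by_contra hcon
    have hcon' : ∀ l' : Fin t, l' ≠ k → l' = l := by
      intro l' h1
      by_contra h2'
      exact hcon ⟨l', h1, h2'⟩
    have hsub : (Finset.univ : Finset (Fin t)) ⊆ {k, l} := by
      intro x _
      by_cases hx : x = k
      · simp [hx]
      · simp [hcon' x hx]
    have h1 := Finset.card_le_card hsub
    rw [Finset.card_univ, Fintype.card_fin] at h1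
    have h2' : ({k, l} : Finset (Fin t)).card ≤ 2 := Finset.card_le_two
    omega
  exact Cfsg.Agent.Lib.Helper22.Blk.goal_of_caseD hm M hSM c ψ hψc hT k l l' hkl hl'k.symm hl'l.symm hck hψk hρ hψl δ hδ0 hδ1

theorem coord_maximal (hm : 2 ≤ m) (ht : 2 ≤ t) (h2 : m = 2 → 3 ≤ t ∧ ∃ δ : F, δ ≠ 0 ∧ δ ≠ 1) :
    IsMaximalIn (specialLinear (Fin t × Fin m) F) (SS t m F) := by
  refine ⟨SS_lt ht (by omega), fun M hSM hMS => ?_⟩
  by_cases hMH : M ≤ SS t m F
  · left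
    exact le_antisymm hMH hSM
  · right
    apply le_antisymm hMS
    obtain ⟨g, hgM, hgH⟩ := SetLike.not_le_iff_exists.mp hMH
    have hgD : g ∉ decompositionStabilizer (blk (F := F) (Prod.fst : Fin t × Fin m → Fin t)) :=
      fun h => hgH ⟨h, hMS hgM⟩
    obtain ⟨c, ψ, hψc, hψ0, hT, k, l, hkl, hck, hcl⟩ := Cfsg.Agent.Lib.Helper23.BlkMax.exists_start hm M hSM g hgM hgD
    have hG := goal_of_start hm h2 M hSM c ψ hψc hψ0 hT k l hkl hck hcl
    obtain ⟨k', b, hb0, hb, hTv⟩ := Cfsg.Agent.Lib.Helper3.BlkB3.exists_tvIn_of_goal hm M hSM hG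
    have hall := Cfsg.Agent.Lib.Helper3.BlkB4.forall_tvIn hm M hSM k' b hb0 hb hTv
    have : Nontrivial (Fin t × Fin m) := by
      refine ⟨⟨(⟨0, by omega⟩, ⟨0, by omega⟩), (⟨1, by omega⟩, ⟨0, by omega⟩), ?_⟩⟩
      intro h
      have := congrArg (fun p : Fin t × Fin m => (p.1 : ℕ)) h
      simp at this
    exact Cfsg.Agent.Lib.Helper21.BlkTV.sl_le_of_forall_tvIn M hall

end blocks

/-- the `m ≥ 2` case of S5634 -/
theorem blk_case {F : Type*} [Field F] [Fintype F] (n : ℕ) (hn : 13 ≤ n) {t : ℕ} (m : ℕ)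
    (hm : 2 ≤ m) (D : Fin t → Submodule F (Fin n → F)) (hD : IsMDecomposition m D)
    (hex : ¬ (m = 2 ∧ Fintype.card F = 2)) :
    IsMaximalIn (specialLinear (Fin n) F) (decompositionStabilizer D ⊓ specialLinear (Fin n) F) := by
  classical
  apply blk_case_of_coord n m D hD
  obtain ⟨e, P, -⟩ := exists_coords_of_decomposition D hD
  have hcard : n = t * m := by
    have := Fintype.card_congr e
    simpa using this
  apply coord_maximal hm hD.two_le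
  intro hm2
  refine ⟨by subst hm2; omega, ?_⟩
  have hcF : Fintype.card F ≠ 2 := fun h => hex ⟨hm2, h⟩
  have h1 : 1 < Fintype.card F := Fintype.one_lt_card
  by_contra hcon
  have hcon' : ∀ δ : F, δ ≠ 0 → δ = 1 := by
    intro δ h0
    by_contra h1'
    exact hcon ⟨δ, h0, h1'⟩
  have hsub : (Finset.univ : Finset F) ⊆ {0, 1} := by
    intro x _
    by_cases hx : x = 0
    · simp [hx]
    · simp [hcon' x hx]
  have h3 := Finset.card_le_card hsub
  rw [Finset.card_univ] at h3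
  have h4 : ({0, 1} : Finset F).card ≤ 2 := Finset.card_le_two
  omega

end Cfsg.Agent.Lib.Helper15.BlkMax
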