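import Cfsg.Agent.Lib.Helper28.CG.Defs

/-!
# S3412 farm (helper28), SPARE of leaf [S6b] (helper15): transvections of `SL(3,3)` have centralizer
order divisible by 27.

Route: the stabiliser `P0` of the vector `e1` and the covector `e3` is the unitriangular group, of
order 27 (explicit bijection with `(ZMod 3)³`), and centralises `tv e1 e3`; every flag pair `(v, φ)`
is `(h e1, e3 h⁻¹)` for some `h ∈ SL(3,3)` (columns `v, w, u` found by `decide`), so `tv v φ` is
conjugate to `tv e1 e3`.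
-/

set_option autoImplicit false

namespace Cfsg.Agent.Lib.Helper28.CG.Helper15

open Matrix

/-- the first basis vector -/
def e1 : Vec := ![1, 0, 0]

/-- the third basis covector -/
def e3 : Vec := ![0, 0, 1]

/-- an upper unitriangular matrix -/
def M (a b d : ZMod 3) : Matrix (Fin 3) (Fin 3) (ZMod 3) := !![1, a, b; 0, 1, d; 0, 0, 1]

theorem det_M (a b d : ZMod 3) : (M a b d).det = 1 := by
  rw [Matrix.det_fin_three]; simp [M]

/-- the same as an element of `SL(3,3)` -/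
def MS (a b d : ZMod 3) : S33 := ⟨M a b d, det_M a b d⟩

theorem tv_e1_e3 : tv e1 e3 = M 0 1 0 := by
  unfold tv M e1 e3
  ext i j
  fin_cases i <;> fin_cases j <;> simp

/-- the stabiliser of the vector `e1` and the covector `e3` -/
def P0 : Subgroup S33 where
  carrier := {g | g.1 *ᵥ e1 = e1 ∧ e3 ᵥ* g.1 = e3}
  mul_mem' := by
    intro g h hg hh
    refine ⟨?_, ?_⟩
    · show (g.1 * h.1) *ᵥ e1 = e1
      rw [← Matrix.mulVec_mulVec, hh.1, hg.1]
    · show e3 ᵥ* (g.1 * h.1) = e3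
      rw [← Matrix.vecMul_vecMul, hg.2, hh.2]
  one_mem' := by
    refine ⟨?_, ?_⟩
    · show (1 : Matrix (Fin 3) (Fin 3) (ZMod 3)) *ᵥ e1 = e1
      rw [Matrix.one_mulVec]
    · show e3 ᵥ* (1 : Matrix (Fin 3) (Fin 3) (ZMod 3)) = e3
      rw [Matrix.vecMul_one]
  inv_mem' := by
    intro g hg
    have hmul : (g⁻¹).1 * g.1 = 1 := by
      rw [← Matrix.SpecialLinearGroup.coe_mul, inv_mul_cancel]; rfl
    have hmul' : g.1 * (g⁻¹).1 = 1 := by
      rw [← Matrix.SpecialLinearGroup.coe_mul, mul_inv_cancel]; rfl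
    refine ⟨?_, ?_⟩
    · have h1 : (g⁻¹).1 *ᵥ (g.1 *ᵥ e1) = e1 := by
        rw [Matrix.mulVec_mulVec, hmul, Matrix.one_mulVec]
      rw [hg.1] at h1
      exact h1
    · have h1 : (e3 ᵥ* g.1) ᵥ* (g⁻¹).1 = e3 := by
        rw [Matrix.vecMul_vecMul, hmul', Matrix.vecMul_one]
      rw [hg.2] at h1
      exact h1

theorem mem_P0 (g : S33) : g ∈ P0 ↔ g.1 *ᵥ e1 = e1 ∧ e3 ᵥ* g.1 = e3 := Iff.rfl

theorem MS_mem_P0 (a b d : ZMod 3) : MS a b d ∈ P0 := by
  rw [mem_P0]
  refine ⟨?_, ?_⟩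
  · show M a b d *ᵥ e1 = e1
    ext i
    fin_cases i <;> simp [M, e1, Matrix.mulVec, dotProduct, Fin.sum_univ_three]
  · show e3 ᵥ* M a b d = e3
    ext j
    fin_cases j <;> simp [M, e3, Matrix.vecMul, dotProduct, Fin.sum_univ_three]

theorem eq_MS_of_mem_P0 (g : S33) (hg : g ∈ P0) : g = MS (g.1 0 1) (g.1 0 2) (g.1 1 2) := by
  obtain ⟨h1, h2⟩ := hg
  have c0 : g.1 0 0 = 1 := by
    have := congrFun h1 0
    simpa [e1, Matrix.mulVec, dotProduct, Fin.sum_univ_three] using this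
  have c1 : g.1 1 0 = 0 := by
    have := congrFun h1 1
    simpa [e1, Matrix.mulVec, dotProduct, Fin.sum_univ_three] using this
  have c2 : g.1 2 0 = 0 := by
    have := congrFun h1 2
    simpa [e1, Matrix.mulVec, dotProduct, Fin.sum_univ_three] using this
  have r1 : g.1 2 1 = 0 := by
    have := congrFun h2 1
    simpa [e3, Matrix.vecMul, dotProduct, Fin.sum_univ_three] using this
  have r2 : g.1 2 2 = 1 := by
    have := congrFun h2 2
    simpa [e3, Matrix.vecMul, dotProduct, Fin.sum_univ_three] using this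
  have hdet := g.2
  rw [Matrix.det_fin_three, c0, c1, c2, r1, r2] at hdet
  have c11 : g.1 1 1 = 1 := by simpa using hdet
  apply Subtype.ext
  ext i j
  fin_cases i <;> fin_cases j <;> simp [MS, M, c0, c1, c2, r1, r2, c11]

theorem card_P0 : Nat.card P0 = 27 := by
  have hbij : Function.Bijective
      (fun t : ZMod 3 × ZMod 3 × ZMod 3 => (⟨MS t.1 t.2.1 t.2.2, MS_mem_P0 _ _ _⟩ : P0)) := by
    constructor
    · intro s t h
      have h' : M s.1 s.2.1 s.2.2 = M t.1 t.2.1 t.2.2 :=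
        congrArg (fun x : P0 => (x.1.1 : Matrix (Fin 3) (Fin 3) (ZMod 3))) h
      have a := congrFun (congrFun h' 0) 1
      have b := congrFun (congrFun h' 0) 2
      have d := congrFun (congrFun h' 1) 2
      simp [M] at a b d
      exact Prod.ext a (Prod.ext b d)
    · rintro ⟨g, hg⟩
      exact ⟨(g.1 0 1, g.1 0 2, g.1 1 2), Subtype.ext (eq_MS_of_mem_P0 g hg).symm⟩
  rw [← Nat.card_congr (Equiv.ofBijective _ hbij)]
  simp

theorem P0_le : P0 ≤ Subgroup.centralizer ({MS 0 1 0} : Set S33) := by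
  intro g hg
  rw [Subgroup.mem_centralizer_singleton_iff]
  apply Subtype.ext
  have hM : (MS 0 1 0).1 = 1 + vecMulVec e1 e3 := tv_e1_e3.symm
  show g.1 * (MS 0 1 0).1 = (MS 0 1 0).1 * g.1
  rw [hM, mul_add, add_mul, mul_one, one_mul, Matrix.mul_vecMulVec, Matrix.vecMulVec_mul,
    hg.1, hg.2]

theorem dvd_card_centralizer_base :
    27 ∣ Nat.card (Subgroup.centralizer ({MS 0 1 0} : Set S33)) := by
  have := Subgroup.card_dvd_of_le P0_le
  rwa [card_P0] at this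

theorem card_centralizer_conj (h a : S33) :
    Nat.card (Subgroup.centralizer ({h * a * h⁻¹} : Set S33))
      = Nat.card (Subgroup.centralizer ({a} : Set S33)) := by
  refine (Nat.card_congr ?_).symm
  refine (MulAut.conj h).toEquiv.subtypeEquiv ?_
  intro g
  show g ∈ Subgroup.centralizer ({a} : Set S33) ↔
    h * g * h⁻¹ ∈ Subgroup.centralizer ({h * a * h⁻¹} : Set S33)
  rw [Subgroup.mem_centralizer_singleton_iff, Subgroup.mem_centralizer_singleton_iff]
  constructor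
  · intro hc
    calc h * g * h⁻¹ * (h * a * h⁻¹) = h * (g * a) * h⁻¹ := by group
      _ = h * (a * g) * h⁻¹ := by rw [hc]
      _ = h * a * h⁻¹ * (h * g * h⁻¹) := by group
  · intro hc
    calc g * a = h⁻¹ * (h * g * h⁻¹ * (h * a * h⁻¹)) * h := by group
      _ = h⁻¹ * (h * a * h⁻¹ * (h * g * h⁻¹)) * h := by rw [hc]
      _ = a * g := by group

set_option synthInstance.maxSize 2000 in
set_option synthInstance.maxHeartbeats 400000 in
/-- the columns `w, u` completing `v` to a matrix of determinant one adapted to `φ` -/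
theorem exists_cols : ∀ v0 v1 v2 f0 f1 f2 : ZMod 3,
    ¬ (v0 = 0 ∧ v1 = 0 ∧ v2 = 0) → ¬ (f0 = 0 ∧ f1 = 0 ∧ f2 = 0) →
    f0 * v0 + f1 * v1 + f2 * v2 = 0 →
    ∃ u0 u1 u2 : ZMod 3, f0 * u0 + f1 * u1 + f2 * u2 = 1 ∧
      ∃ w0 w1 w2 : ZMod 3, f0 * w0 + f1 * w1 + f2 * w2 = 0 ∧
        v0 * w1 * u2 - v0 * u1 * w2 - w0 * v1 * u2 + w0 * u1 * v2 + u0 * v1 * w2
          - u0 * w1 * v2 = 1 := by
  decide +kernel

/-- `SL(3,3)` is transitive on flag pairs. -/
theorem exists_conj (v φ : Vec) (h : IsFlagPair v φ) :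
    ∃ g : S33, g.1 *ᵥ e1 = v ∧ φ ᵥ* g.1 = e3 := by
  obtain ⟨hv, hφ, hdot⟩ := h
  have hv' : ¬ (v 0 = 0 ∧ v 1 = 0 ∧ v 2 = 0) := by
    rintro ⟨a, b, c⟩
    apply hv
    ext i
    fin_cases i <;> simp [a, b, c]
  have hφ' : ¬ (φ 0 = 0 ∧ φ 1 = 0 ∧ φ 2 = 0) := by
    rintro ⟨a, b, c⟩
    apply hφ
    ext i
    fin_cases i <;> simp [a, b, c]
  have hdot' : φ 0 * v 0 + φ 1 * v 1 + φ 2 * v 2 = 0 := by
    rw [dotProduct, Fin.sum_univ_three] at hdot
    exact hdot
  obtain ⟨u0, u1, u2, hu, w0, w1, w2, hw, hdet⟩ :=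
    exists_cols (v 0) (v 1) (v 2) (φ 0) (φ 1) (φ 2) hv' hφ' hdot'
  have hd : (!![v 0, w0, u0; v 1, w1, u1; v 2, w2, u2] :
      Matrix (Fin 3) (Fin 3) (ZMod 3)).det = 1 := by
    rw [Matrix.det_fin_three]
    simpa using hdet
  refine ⟨⟨_, hd⟩, ?_, ?_⟩
  · ext i
    fin_cases i <;> simp [e1, Matrix.mulVec, dotProduct, Fin.sum_univ_three]
  · ext j
    fin_cases j
    · simpa [e3, Matrix.vecMul, dotProduct, Fin.sum_univ_three] using hdot'
    · simpa [e3, Matrix.vecMul, dotProduct, Fin.sum_univ_three] using hw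
    · simpa [e3, Matrix.vecMul, dotProduct, Fin.sum_univ_three] using hu

theorem tv_eq_conj (v φ : Vec) (g : S33) (h1 : g.1 *ᵥ e1 = v) (h2 : φ ᵥ* g.1 = e3) :
    tv v φ = ((g * MS 0 1 0 * g⁻¹ : S33) : Matrix (Fin 3) (Fin 3) (ZMod 3)) := by
  have hmul' : g.1 * (g⁻¹).1 = 1 := by
    rw [← Matrix.SpecialLinearGroup.coe_mul, mul_inv_cancel]; rfl
  have h3 : e3 ᵥ* (g⁻¹).1 = φ := by
    rw [← h2, Matrix.vecMul_vecMul, hmul', Matrix.vecMul_one]
  have hM : (MS 0 1 0).1 = 1 + vecMulVec e1 e3 := tv_e1_e3.symm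
  show tv v φ = g.1 * (MS 0 1 0).1 * (g⁻¹).1
  rw [hM, mul_add, add_mul, mul_one, hmul', Matrix.mul_vecMulVec, Matrix.vecMulVec_mul, h1, h3]
  rfl

/-- SPARE of [S6b] (exact skeleton statement): transvections have centralizer order divisible
by 27. -/
theorem mem_TT_of_isTv_spare (x : V S33) (hx : IsTv x) : x ∈ TT S33 := by
  obtain ⟨v, φ, hflag, hxv⟩ := hx
  obtain ⟨g, h1, h2⟩ := exists_conj v φ hflag
  have hx1 : x.1 = g * MS 0 1 0 * g⁻¹ := by
    apply Subtype.ext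
    rw [hxv]
    exact tv_eq_conj v φ g h1 h2
  show 27 ∣ cdeg x
  unfold cdeg
  rw [hx1, card_centralizer_conj]
  exact dvd_card_centralizer_base

end Cfsg.Agent.Lib.Helper28.CG.Helper15
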