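import Mathlib
set_option autoImplicit false
namespace Cfsg.Agent.Lib.Helper15

open MulAction in
theorem exists_points_same_stab {G X : Type*} [Group G] [Fintype G] [Fintype X] [MulAction G X]
    (r : ℕ) (hcard : 2 ^ Fintype.card G * Fintype.card G * r ≤ Fintype.card X) :
    ∃ (x : Fin r → X) (S : Subgroup G), (∀ i, stabilizer G (x i) = S) ∧
      ∀ i j, x i ∈ orbit G (x j) → i = j := by
  classical
  haveI : Fintype (Subgroup G) := Fintype.ofFinite _
  have hn : 0 < Fintype.card G := Fintype.card_pos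
  have hsub : Fintype.card (Subgroup G) ≤ 2 ^ Fintype.card G := by
    have : Fintype.card (Subgroup G) ≤ Fintype.card (Set G) :=
      Fintype.card_le_of_injective (fun S : Subgroup G => (S : Set G)) SetLike.coe_injective
    rwa [Fintype.card_set] at this
  obtain ⟨S, hS⟩ := Fintype.exists_le_card_fiber_of_mul_le_card (fun y : X => stabilizer G y)
    (n := Fintype.card G * r) (by
      calc Fintype.card (Subgroup G) * (Fintype.card G * r) ≤ 2 ^ Fintype.card G * (Fintype.card G * r) :=
            Nat.mul_le_mul_right _ hsub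
        _ = 2 ^ Fintype.card G * Fintype.card G * r := by ring
        _ ≤ _ := hcard)
  set T : Finset X := Finset.univ.filter (fun y => stabilizer G y = S) with hT
  have h1 : T.card ≤ Fintype.card G * (T.image (fun y => orbit G y)).card := by
    apply Finset.card_le_mul_card_image
    intro b hb
    obtain ⟨y₀, hy₀, rfl⟩ := Finset.mem_image.mp hb
    calc (T.filter (fun a => orbit G a = orbit G y₀)).card
        ≤ (Finset.univ.image (fun g : G => g • y₀)).card := by
          apply Finset.card_le_card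
          intro a ha
          rw [Finset.mem_filter] at ha
          have : a ∈ orbit G y₀ := by rw [← ha.2]; exact mem_orbit_self a
          obtain ⟨g, hg⟩ := this
          exact Finset.mem_image.mpr ⟨g, Finset.mem_univ _, hg⟩
      _ ≤ Finset.univ.card := Finset.card_image_le
      _ = Fintype.card G := Finset.card_univ
  have h2 : r ≤ (T.image (fun y => orbit G y)).card := by
    have := le_trans hS h1
    exact Nat.le_of_mul_le_mul_left this hn
  have h3 : Fintype.card (Fin r) ≤ Fintype.card ↥(T.image (fun y => orbit G y)) := by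
    rw [Fintype.card_fin, Fintype.card_coe]; exact h2
  obtain ⟨e⟩ := Function.Embedding.nonempty_of_card_le h3
  have hch : ∀ i, ∃ y, y ∈ T ∧ orbit G y = (e i : Set X) := by
    intro i
    obtain ⟨y, hy, hy2⟩ := Finset.mem_image.mp (e i).2
    exact ⟨y, hy, hy2⟩
  choose x hxT hxo using hch
  refine ⟨x, S, ?_, ?_⟩
  · intro i
    have := hxT i
    rw [hT, Finset.mem_filter] at this
    exact this.2
  · intro i j hij
    apply e.injective
    apply Subtype.ext
    rw [← hxo i, ← hxo j]
    exact orbit_eq_iff.mpr hij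


open MulAction in
theorem exists_hom_commuting {G X : Type*} [Group G] [Fintype G] [Fintype X] [DecidableEq X] [MulAction G X]
    (r : ℕ) (x : Fin r → X) (S : Subgroup G) (hS : ∀ i, stabilizer G (x i) = S)
    (horb : ∀ i j, x i ∈ orbit G (x j) → i = j) :
    ∃ Φ : Equiv.Perm (Fin r) →* Equiv.Perm X, Function.Injective Φ ∧
      (∀ σ (g : G) y, Φ σ (g • y) = g • Φ σ y) ∧
      ∀ σ, Equiv.Perm.sign σ = 1 → Equiv.Perm.sign (Φ σ) = 1 := by
  classical
  -- the map j
  let j : Fin r × (G ⧸ S) → X := fun p =>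
    Quotient.liftOn' p.2 (fun g => g • x p.1) (by
      intro a b hab
      rw [QuotientGroup.leftRel_apply, ← hS p.1, mem_stabilizer_iff] at hab
      show a • x p.1 = b • x p.1
      calc a • x p.1 = a • ((a⁻¹ * b) • x p.1) := by rw [hab]
        _ = b • x p.1 := by rw [smul_smul, mul_inv_cancel_left])
  have hj_mk : ∀ i (g : G), j (i, (QuotientGroup.mk g : G ⧸ S)) = g • x i := fun i g => rfl
  have hj_smul : ∀ (g : G) i (q : G ⧸ S), j (i, g • q) = g • j (i, q) := by
    intro g i q
    induction q using QuotientGroup.induction_on with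
    | H g₀ =>
      rw [hj_mk, show g • (QuotientGroup.mk g₀ : G ⧸ S) = QuotientGroup.mk (g * g₀) from rfl, hj_mk, mul_smul]
  have hj_inj : Function.Injective j := by
    rintro ⟨i, q⟩ ⟨i', q'⟩ h
    induction q using QuotientGroup.induction_on with
    | H g =>
    induction q' using QuotientGroup.induction_on with
    | H g' =>
      rw [hj_mk, hj_mk] at h
      have hii : i = i' := by
        apply horb
        refine ⟨g⁻¹ * g', ?_⟩
        show (g⁻¹ * g') • x i' = x i
        rw [mul_smul, ← h, inv_smul_smul]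
      subst hii
      congr 1
      rw [QuotientGroup.eq, ← hS i, mem_stabilizer_iff, mul_smul, ← h, inv_smul_smul]
  let Ψ : Equiv.Perm (Fin r) →* Equiv.Perm (Fin r × (G ⧸ S)) :=
    { toFun := fun σ => Equiv.prodCongrLeft (fun _ => σ)
      map_one' := by ext ⟨a, b⟩ <;> simp
      map_mul' := by intro σ τ; ext ⟨a, b⟩ <;> simp }
  let Φ : Equiv.Perm (Fin r) →* Equiv.Perm X := (Equiv.Perm.viaEmbeddingHom ⟨j, hj_inj⟩).comp Ψ
  have hΦ_j : ∀ σ i q, Φ σ (j (i, q)) = j (σ i, q) := by
    intro σ i q
    show (Equiv.Perm.viaEmbedding (Ψ σ) ⟨j, hj_inj⟩) (j (i, q)) = _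
    exact Equiv.Perm.viaEmbedding_apply (Ψ σ) ⟨j, hj_inj⟩ (i, q)
  have hΦ_not : ∀ σ y, y ∉ Set.range j → Φ σ y = y := by
    intro σ y hy
    show (Equiv.Perm.viaEmbedding (Ψ σ) ⟨j, hj_inj⟩) y = _
    exact Equiv.Perm.viaEmbedding_apply_of_notMem (Ψ σ) ⟨j, hj_inj⟩ y hy
  refine ⟨Φ, ?_, ?_, ?_⟩
  · intro σ τ h
    ext i
    have := congrArg (fun f => f (j (i, ((1 : G) : G ⧸ S)))) h
    simp only [hΦ_j] at this
    have := hj_inj this
    simp only [Prod.mk.injEq, and_true] at this
    rw [this]
  · intro σ g y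
    by_cases hy : y ∈ Set.range j
    · obtain ⟨⟨i, q⟩, rfl⟩ := hy
      rw [← hj_smul, hΦ_j, hΦ_j, hj_smul]
    · have hgy : g • y ∉ Set.range j := by
        rintro ⟨⟨i, q⟩, hq⟩
        apply hy
        refine ⟨(i, g⁻¹ • q), ?_⟩
        rw [hj_smul, hq, inv_smul_smul]
      rw [hΦ_not σ _ hgy, hΦ_not σ _ hy]
  · intro σ hσ
    show Equiv.Perm.sign (Equiv.Perm.viaEmbedding (Ψ σ) ⟨j, hj_inj⟩) = 1
    unfold Equiv.Perm.viaEmbedding
    rw [Equiv.Perm.sign_extendDomain]
    show Equiv.Perm.sign (Equiv.prodCongrLeft (fun _ : G ⧸ S => σ)) = 1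
    rw [Equiv.Perm.sign_prodCongrLeft]
    simp [hσ]

end Cfsg.Agent.Lib.Helper15
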