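import Mathlib

set_option autoImplicit false

namespace Cfsg.Agent.Lib.Helper15

open Polynomial

variable {K : Type*} [Field K]

/-- the functional "top coefficient of the remainder" -/
noncomputable def topCoeff (g a : K[X]) : K := (a % g).coeff (g.natDegree - 1)

theorem topCoeff_add (g a b : K[X]) : topCoeff g (a + b) = topCoeff g a + topCoeff g b := by
  unfold topCoeff
  rw [add_mod, coeff_add]

theorem topCoeff_eq_of_dvd_sub (g a b : K[X]) (h : g ∣ a - b) : topCoeff g a = topCoeff g b := by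
  unfold topCoeff
  rw [mod_eq_of_dvd_sub h]

theorem C_mul_mod' (g : K[X]) (hg : g ≠ 0) (c : K) (r : K[X]) : (C c * r) % g = C c * (r % g) := by
  have h1 : (C c * r) % g = (C c * (r % g)) % g := by
    apply mod_eq_of_dvd_sub
    rw [← mul_sub]
    apply Dvd.dvd.mul_left
    have := EuclideanDomain.div_add_mod r g
    refine ⟨r / g, ?_⟩
    linear_combination (-1 : K[X]) * this
  rw [h1, mod_eq_self_iff hg]
  calc (C c * (r % g)).degree ≤ (r % g).degree := by
        by_cases hc : c = 0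
        · simp [hc]
        · rw [degree_C_mul hc]
    _ < g.degree := degree_mod_lt r hg

theorem topCoeff_C_mul (g : K[X]) (hg : g ≠ 0) (c : K) (a : K[X]) : topCoeff g (C c * a) = c * topCoeff g a := by
  unfold topCoeff
  rw [C_mul_mod' g hg, coeff_C_mul]

theorem exists_topCoeff_mul_ne_zero (g : K[X]) (hg : g ≠ 0) (a : K[X]) (ha : ¬ g ∣ a) :
    ∃ b : K[X], topCoeff g (a * b) ≠ 0 := by
  set r := a % g with hr
  have hr0 : r ≠ 0 := by
    intro h
    apply ha
    exact (EuclideanDomain.mod_eq_zero).mp h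
  have hdeg : r.degree < g.degree := degree_mod_lt a hg
  have hnat : r.natDegree < g.natDegree := natDegree_lt_natDegree hr0 hdeg
  refine ⟨X ^ (g.natDegree - 1 - r.natDegree), ?_⟩
  have h1 : topCoeff g (a * X ^ (g.natDegree - 1 - r.natDegree)) = topCoeff g (r * X ^ (g.natDegree - 1 - r.natDegree)) := by
    apply topCoeff_eq_of_dvd_sub
    rw [← sub_mul]
    apply Dvd.dvd.mul_right
    have := EuclideanDomain.div_add_mod a g
    refine ⟨a / g, ?_⟩
    rw [hr]
    linear_combination (-1 : K[X]) * this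
  rw [h1]
  unfold topCoeff
  have h2 : (r * X ^ (g.natDegree - 1 - r.natDegree)) % g = r * X ^ (g.natDegree - 1 - r.natDegree) := by
    rw [mod_eq_self_iff hg, degree_mul, degree_X_pow, degree_eq_natDegree hr0, degree_eq_natDegree hg]
    norm_cast
    omega
  rw [h2]
  obtain ⟨m, hm⟩ : ∃ m, m = g.natDegree - 1 - r.natDegree := ⟨_, rfl⟩
  rw [← hm]
  have h3 : g.natDegree - 1 = r.natDegree + m := by omega
  rw [h3, coeff_mul_X_pow]
  exact leadingCoeff_ne_zero.mpr hr0

/-- the form on the cyclic module `K[X] ⧸ (g)` -/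
noncomputable def cycForm (g : K[X]) (a b : K[X] ⧸ Submodule.span K[X] {g}) : K :=
  topCoeff g (Quotient.out a * Quotient.out b)

theorem cycForm_mk (g : K[X]) (a b : K[X]) :
    cycForm g (Submodule.Quotient.mk a) (Submodule.Quotient.mk b) = topCoeff g (a * b) := by
  unfold cycForm
  apply topCoeff_eq_of_dvd_sub
  have ha : (Submodule.Quotient.mk (Quotient.out (Submodule.Quotient.mk a : K[X] ⧸ Submodule.span K[X] {g})) : K[X] ⧸ Submodule.span K[X] {g}) = Submodule.Quotient.mk a := Quotient.out_eq _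
  have hb : (Submodule.Quotient.mk (Quotient.out (Submodule.Quotient.mk b : K[X] ⧸ Submodule.span K[X] {g})) : K[X] ⧸ Submodule.span K[X] {g}) = Submodule.Quotient.mk b := Quotient.out_eq _
  rw [Submodule.Quotient.eq, ← Ideal.span, Ideal.mem_span_singleton] at ha hb
  obtain ⟨s, hs⟩ := ha
  obtain ⟨t, ht⟩ := hb
  refine ⟨s * b + t * Quotient.out (Submodule.Quotient.mk a : K[X] ⧸ Submodule.span K[X] {g}), ?_⟩
  linear_combination b * hs + Quotient.out (Submodule.Quotient.mk a : K[X] ⧸ Submodule.span K[X] {g}) * ht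

theorem cycForm_add_left (g : K[X]) (a₁ a₂ b : K[X] ⧸ Submodule.span K[X] {g}) :
    cycForm g (a₁ + a₂) b = cycForm g a₁ b + cycForm g a₂ b := by
  obtain ⟨a₁, rfl⟩ := Submodule.Quotient.mk_surjective _ a₁
  obtain ⟨a₂, rfl⟩ := Submodule.Quotient.mk_surjective _ a₂
  obtain ⟨b, rfl⟩ := Submodule.Quotient.mk_surjective _ b
  rw [← Submodule.Quotient.mk_add, cycForm_mk, cycForm_mk, cycForm_mk, add_mul, topCoeff_add]

theorem cycForm_add_right (g : K[X]) (a b₁ b₂ : K[X] ⧸ Submodule.span K[X] {g}) :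
    cycForm g a (b₁ + b₂) = cycForm g a b₁ + cycForm g a b₂ := by
  obtain ⟨a, rfl⟩ := Submodule.Quotient.mk_surjective _ a
  obtain ⟨b₁, rfl⟩ := Submodule.Quotient.mk_surjective _ b₁
  obtain ⟨b₂, rfl⟩ := Submodule.Quotient.mk_surjective _ b₂
  rw [← Submodule.Quotient.mk_add, cycForm_mk, cycForm_mk, cycForm_mk, mul_add, topCoeff_add]

theorem cycForm_smul_comm (g : K[X]) (f : K[X]) (a b : K[X] ⧸ Submodule.span K[X] {g}) :
    cycForm g (f • a) b = cycForm g a (f • b) := by
  obtain ⟨a, rfl⟩ := Submodule.Quotient.mk_surjective _ a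
  obtain ⟨b, rfl⟩ := Submodule.Quotient.mk_surjective _ b
  rw [← Submodule.Quotient.mk_smul, ← Submodule.Quotient.mk_smul, cycForm_mk, cycForm_mk, smul_eq_mul, smul_eq_mul]
  congr 1
  ring

theorem cycForm_C_smul_left (g : K[X]) (hg : g ≠ 0) (c : K) (a b : K[X] ⧸ Submodule.span K[X] {g}) :
    cycForm g (C c • a) b = c * cycForm g a b := by
  obtain ⟨a, rfl⟩ := Submodule.Quotient.mk_surjective _ a
  obtain ⟨b, rfl⟩ := Submodule.Quotient.mk_surjective _ b
  rw [← Submodule.Quotient.mk_smul, cycForm_mk, cycForm_mk, smul_eq_mul, mul_assoc, topCoeff_C_mul g hg]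

theorem cycForm_nondeg (g : K[X]) (hg : g ≠ 0) (a : K[X] ⧸ Submodule.span K[X] {g})
    (h : ∀ b, cycForm g a b = 0) : a = 0 := by
  obtain ⟨a, rfl⟩ := Submodule.Quotient.mk_surjective _ a
  by_contra hne
  have hnd : ¬ g ∣ a := by
    intro hd
    apply hne
    rw [Submodule.Quotient.mk_eq_zero, ← Ideal.span, Ideal.mem_span_singleton]
    exact hd
  obtain ⟨b, hb⟩ := exists_topCoeff_mul_ne_zero g hg a hnd
  apply hb
  rw [← cycForm_mk]
  exact h _

end Cfsg.Agent.Lib.Helper15
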