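import Mathlib
import Cfsg.Agent.Lib.Helper15.Dk7

/-!
# Dickson pairs, part 1: a sharper coprime Dickson theorem and the two-dimensional core
(farm-out FO-B of S0690)
-/

set_option autoImplicit false

namespace Cfsg.Agent.Lib.Helper15.DkPair

open Matrix
open Cfsg.Agent.Lib.Helper14
open Cfsg.Agent.Lib.Helper15
open Cfsg.Agent.Lib.Helper15.Dk

/-- sharper form of the coprime case of Dickson's theorem -/
theorem dickson_coprime' {F : Type*} [Field F] [Fintype F] (p : ℕ) [Fact p.Prime] [CharP F p]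
    (H : Subgroup (ProjectiveSpecialLinearGroup (Fin 2) F)) (hp : ¬ p ∣ Nat.card ↥H) :
    IsCyclic ↥H ∨ (∃ k : ℕ, Nonempty (↥H ≃* DihedralGroup k)) ∨
      Nonempty (↥H ≃* alternatingGroup (Fin 4)) ∨ Nonempty (↥H ≃* Equiv.Perm (Fin 4)) ∨
      Nonempty (↥H ≃* alternatingGroup (Fin 5)) := by
  have hmem : ∀ A ∈ (partH H).mem, IsCyclic A ∧
      (Nat.card A ∣ (Fintype.card F + 1) / Nat.gcd 2 (Fintype.card F - 1) ∨
        Nat.card A ∣ (Fintype.card F - 1) / Nat.gcd 2 (Fintype.card F - 1)) ∧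
      Nat.card (Subgroup.normalizer ((A : Subgroup ↥H) : Set ↥H)) ≤ 2 * Nat.card A := by
    rintro A ⟨g, hg, hgH, rfl⟩
    apply semisimple_member H g hg _ hgH
    intro ht
    obtain ⟨S, hS⟩ := unipotent_member_sylow p H g hg ht hgH
    have hne := (partH H).ne_bot _ ⟨g, hg, hgH, rfl⟩
    apply hne
    rw [← hS]
    have h1 : Nat.card (S : Subgroup ↥H) = 1 := by
      rw [Sylow.card_eq_multiplicity]
      have : (Nat.card ↥H).factorization p = 0 := Nat.factorization_eq_zero_of_not_dvd hp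
      rw [this, pow_zero]
    exact Subgroup.card_eq_one.1 h1
  rcases (partH H).thmI (fun A hA => (hmem A hA).1) (fun A hA => (hmem A hA).2.2) with
    h1 | ⟨A, hA, rfl⟩ | ⟨A, hA, -, hdih⟩ | h | h | h
  · left
    have : Subsingleton ↥H := (Nat.card_eq_one_iff_unique.1 h1).1
    exact isCyclic_of_subsingleton
  · left
    obtain ⟨hc, -, -⟩ := hmem _ hA
    exact isCyclic_of_surjective (Subgroup.topEquiv : (⊤ : Subgroup ↥H) ≃* ↥H)
      Subgroup.topEquiv.surjective
  · right; left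
    exact ⟨_, hdih⟩
  · right; right; left; exact h
  · right; right; right; left; exact h
  · right; right; right; right; exact h

section core
variable {E : Type*} [Field E] {W : Type*} [AddCommGroup W] [Module E W]

/-- the map `E² → W` with `e₀ ↦ v`, `e₁ ↦ w` -/
def iota (v w : W) : (Fin 2 → E) →ₗ[E] W :=
  (LinearMap.proj 0 : (Fin 2 → E) →ₗ[E] E).smulRight v +
    (LinearMap.proj 1 : (Fin 2 → E) →ₗ[E] E).smulRight w

theorem iota_apply (v w : W) (c : Fin 2 → E) : iota v w c = c 0 • v + c 1 • w := rfl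

/-- the pairs `(g, N)` with `σ g ∘ ι = ι ∘ N` -/
def Gam {G : Type*} [Group G] (σ : G →* Module.End E W) (ι : (Fin 2 → E) →ₗ[E] W) :
    Subgroup (G × SpecialLinearGroup (Fin 2) E) where
  carrier := {a | ∀ c : Fin 2 → E, σ a.1 (ι c) = ι ((a.2 : Matrix (Fin 2) (Fin 2) E) *ᵥ c)}
  mul_mem' := by
    intro a b ha hb c
    simp only [Set.mem_ofPred_eq] at ha hb
    rw [Prod.fst_mul, Prod.snd_mul, map_mul, Module.End.mul_apply, hb, ha,
      Matrix.SpecialLinearGroup.coe_mul, Matrix.mulVec_mulVec]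
  one_mem' := by
    intro c
    rw [Prod.fst_one, Prod.snd_one, map_one, Module.End.one_apply,
      Matrix.SpecialLinearGroup.coe_one, Matrix.one_mulVec]
  inv_mem' := by
    intro a ha c
    simp only [Set.mem_ofPred_eq] at ha
    have h1 := ha (((a.2⁻¹ : SpecialLinearGroup (Fin 2) E) : Matrix (Fin 2) (Fin 2) E) *ᵥ c)
    rw [Matrix.mulVec_mulVec, ← Matrix.SpecialLinearGroup.coe_mul, mul_inv_cancel,
      Matrix.SpecialLinearGroup.coe_one, Matrix.one_mulVec] at h1
    rw [Prod.fst_inv, Prod.snd_inv, ← h1, ← Module.End.mul_apply, ← map_mul, inv_mul_cancel,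
      map_one, Module.End.one_apply]

theorem mem_Gam {G : Type*} [Group G] (σ : G →* Module.End E W) (ι : (Fin 2 → E) →ₗ[E] W)
    (a : G × SpecialLinearGroup (Fin 2) E) :
    a ∈ Gam σ ι ↔ ∀ c : Fin 2 → E, σ a.1 (ι c) = ι ((a.2 : Matrix (Fin 2) (Fin 2) E) *ᵥ c) :=
  Iff.rfl

/-- from an injective `ι` and a subgroup `S` all of whose members act through `ι`: a homomorphism
to `SL₂` -/
theorem exists_hom_SL2 {G : Type*} [Group G] (σ : G →* Module.End E W)
    (ι : (Fin 2 → E) →ₗ[E] W) (hι : Function.Injective ι) (S : Subgroup G)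
    (hS : ∀ g ∈ S, ∃ N : SpecialLinearGroup (Fin 2) E, (g, N) ∈ Gam σ ι) :
    ∃ φ : ↥S →* SpecialLinearGroup (Fin 2) E,
      ∀ (h : ↥S) (c : Fin 2 → E), σ (h : G) (ι c) = ι ((φ h : Matrix (Fin 2) (Fin 2) E) *ᵥ c) := by
  classical
  let pr1 : ↥(Gam σ ι) →* G := (MonoidHom.fst G (SpecialLinearGroup (Fin 2) E)).comp (Gam σ ι).subtype
  have hinj : Function.Injective pr1 := by
    intro a b hab
    have hab' : (a : G × SpecialLinearGroup (Fin 2) E).1 = (b : G × SpecialLinearGroup (Fin 2) E).1 := hab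
    apply Subtype.ext
    apply Prod.ext hab'
    apply Subtype.ext
    have h2 : ∀ c : Fin 2 → E,
        ((a : G × SpecialLinearGroup (Fin 2) E).2 : Matrix (Fin 2) (Fin 2) E) *ᵥ c =
        ((b : G × SpecialLinearGroup (Fin 2) E).2 : Matrix (Fin 2) (Fin 2) E) *ᵥ c := by
      intro c
      apply hι
      rw [← a.2 c, ← b.2 c, hab']
    ext i j
    have := congrFun (h2 (Pi.single j 1)) i
    simpa using this
  have hle : S ≤ pr1.range := by
    intro g hg
    obtain ⟨N, hN⟩ := hS g hg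
    exact ⟨⟨(g, N), hN⟩, rfl⟩
  let e := MonoidHom.ofInjective hinj
  let φ : ↥S →* SpecialLinearGroup (Fin 2) E :=
    (MonoidHom.snd G (SpecialLinearGroup (Fin 2) E)).comp
      ((Gam σ ι).subtype.comp (e.symm.toMonoidHom.comp (Subgroup.inclusion hle)))
  refine ⟨φ, ?_⟩
  intro h c
  set a : ↥(Gam σ ι) := e.symm (Subgroup.inclusion hle h) with ha
  have h1 : pr1 a = (h : G) := by
    have : e a = Subgroup.inclusion hle h := by rw [ha, MulEquiv.apply_symm_apply]
    have := congrArg Subtype.val this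
    rw [MonoidHom.ofInjective_apply] at this
    exact this
  have h2 := a.2 c
  have h3 : (a : G × SpecialLinearGroup (Fin 2) E).1 = (h : G) := h1
  rw [h3] at h2
  exact h2

end core

end Cfsg.Agent.Lib.Helper15.DkPair
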