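import Mathlib
import Cfsg.Agent.Lib.Helper15.DkPair1

/-!
# Dickson pairs, part 2: the two-dimensional core (farm-out FO-B of S0690)
-/

set_option autoImplicit false

namespace Cfsg.Agent.Lib.Helper15.DkPair

open Matrix
open Cfsg.Agent.Lib.Helper14
open Cfsg.Agent.Lib.Helper15
open Cfsg.Agent.Lib.Helper15.Dk

/-- the core: two elements of order three of a fixed-point-freely acting group, with an
eigenvector of their product -/
theorem dickson_pair_core {E : Type} [Field E] [Fintype E] (p : ℕ) [Fact p.Prime] [CharP E p]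
    {W : Type*} [AddCommGroup W] [Module E W] {G : Type*} [Group G] [Finite G]
    (σ : G →* Module.End E W) (hfpf : ∀ g : G, g ≠ 1 → ∀ w : W, σ g w = w → w = 0)
    (hp : ¬ p ∣ Nat.card G) (x y : G) (hx : x ^ 3 = 1) (hy : y ^ 3 = 1)
    (v : W) (hv : v ≠ 0) (γ : E) (hγ : σ (x * y) v = γ • v) :
    x * y = y * x ∨
    ∃ (T : Type) (_ : Group T) (f : Subgroup.closure ({x, y} : Set G) →* T),
      Function.Surjective f ∧ (∀ h, f h = 1 → h ^ 2 = 1) ∧
      (IsCyclic T ∨ (∃ k : ℕ, Nonempty (T ≃* DihedralGroup k)) ∨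
        Nonempty (T ≃* alternatingGroup (Fin 4)) ∨ Nonempty (T ≃* Equiv.Perm (Fin 4)) ∨
        Nonempty (T ≃* alternatingGroup (Fin 5))) := by
  classical
  by_cases hx1 : x = 1
  · left; rw [hx1, one_mul, mul_one]
  by_cases hy1 : y = 1
  · left; rw [hy1, one_mul, mul_one]
  -- cubes
  have hcube : ∀ g : G, g ^ 3 = 1 → ∀ w : W, σ g (σ g (σ g w)) = w := by
    intro g hg3 w
    have h : σ (g ^ 3) w = w := by rw [hg3, map_one, Module.End.one_apply]
    rw [pow_succ, pow_two, map_mul, map_mul, Module.End.mul_apply, Module.End.mul_apply] at h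
    exact h
  -- quadratic relations
  have hquad : ∀ g : G, g ≠ 1 → g ^ 3 = 1 → ∀ w : W, σ g (σ g w) = - σ g w - w := by
    intro g hg1 hg3 w
    have hu : σ g (σ g (σ g w) + σ g w + w) = σ g (σ g w) + σ g w + w := by
      rw [map_add, map_add, hcube g hg3 w]; abel
    have h0 := hfpf g hg1 _ hu
    calc σ g (σ g w) = (σ g (σ g w) + σ g w + w) - σ g w - w := by abel
      _ = - σ g w - w := by rw [h0]; abel
  have hXX := hquad x hx1 hx
  have hYY := hquad y hy1 hy
  have hx3 := hcube x hx
  have hγ0 : γ ≠ 0 := by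
    rintro rfl
    rw [zero_smul] at hγ
    apply hv
    have h : σ (x * y)⁻¹ (σ (x * y) v) = v := by
      rw [← Module.End.mul_apply, ← map_mul, inv_mul_cancel, map_one, Module.End.one_apply]
    rw [hγ, map_zero] at h
    exact h.symm
  have hXY : σ x (σ y v) = γ • v := by rw [← hγ, map_mul, Module.End.mul_apply]
  have hYv : σ y v = γ • σ x (σ x v) := by
    have h : σ x (σ x (σ x (σ y v))) = σ x (σ x (γ • v)) := by rw [hXY]
    rw [hx3] at h
    rw [h, map_smul, map_smul]
  by_cases hdep : ∃ c : E, σ x v = c • v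
  · left
    obtain ⟨c, hc⟩ := hdep
    have hc3 : c ^ 3 = 1 := by
      have h := hx3 v
      rw [hc, map_smul, hc, map_smul, map_smul, hc, smul_smul, smul_smul] at h
      have h2 : (c * c * c - 1) • v = 0 := by rw [sub_smul, h, one_smul, sub_self]
      rcases smul_eq_zero.1 h2 with h3 | h3
      · linear_combination h3
      · exact absurd h3 hv
    have hyx : σ (y * x) v = γ • v := by
      rw [map_mul, Module.End.mul_apply, hc, map_smul, hYv, hc, map_smul, hc, smul_smul, smul_smul,
        smul_smul]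
      congr 1
      linear_combination γ * hc3
    have hfix : σ ((y * x)⁻¹ * (x * y)) v = v := by
      rw [map_mul, Module.End.mul_apply, hγ, ← hyx, ← Module.End.mul_apply, ← map_mul,
        inv_mul_cancel, map_one, Module.End.one_apply]
    by_contra hne
    have h1 : (y * x)⁻¹ * (x * y) ≠ 1 := fun h => hne (by rw [inv_mul_eq_one] at h; exact h.symm)
    exact hv (hfpf _ h1 v hfix)
  · right
    -- the embedding
    have hι : Function.Injective (iota (E := E) v (σ x v)) := by
      rw [← LinearMap.ker_eq_bot, LinearMap.ker_eq_bot']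
      intro c hc
      rw [iota_apply] at hc
      have hc1 : c 1 = 0 := by
        by_contra hne
        apply hdep
        refine ⟨-(c 0 / c 1), ?_⟩
        have h2 : c 1 • σ x v = -(c 0 • v) := eq_neg_of_add_eq_zero_right hc
        have h3 : σ x v = (c 1)⁻¹ • (c 1 • σ x v) := by
          rw [smul_smul, inv_mul_cancel₀ hne, one_smul]
        rw [h3, h2, smul_neg, smul_smul, neg_smul]
        congr 2
        field_simp
      rw [hc1, zero_smul, add_zero] at hc
      have hc0 : c 0 = 0 := (smul_eq_zero.1 hc).resolve_right hv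
      funext i
      fin_cases i
      · exact hc0
      · exact hc1
    -- the two matrices
    let MX : SpecialLinearGroup (Fin 2) E := ⟨!![0, -1; 1, -1], by simp [Matrix.det_fin_two]⟩
    let MY : SpecialLinearGroup (Fin 2) E :=
      ⟨!![-γ, γ + γ⁻¹ - 1; -γ, γ - 1], by
        rw [Matrix.det_fin_two_of]
        field_simp
        ring⟩
    have hYv' : σ y v = -(γ • v) - γ • σ x v := by
      rw [hYv, hXX, smul_sub, smul_neg]
      abel
    have hYXv : σ y (σ x v) = (γ + γ⁻¹ - 1) • v + (γ - 1) • σ x v := by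
      have h1 : γ⁻¹ • σ y v = -v - σ x v := by
        rw [hYv', smul_sub, smul_neg, smul_smul, smul_smul, inv_mul_cancel₀ hγ0, one_smul, one_smul]
      have h2 : σ x v = -v - γ⁻¹ • σ y v := by rw [h1]; abel
      conv_lhs => rw [h2]
      rw [map_sub, map_neg, map_smul, hYY, smul_sub, smul_neg, h1, hYv']
      module
    have hmemX : (x, MX) ∈ Gam σ (iota (E := E) v (σ x v)) := by
      rw [mem_Gam]
      intro c
      rw [iota_apply, iota_apply, map_add, map_smul, map_smul, hXX]
      have e0 : ((MX : Matrix (Fin 2) (Fin 2) E) *ᵥ c) 0 = -c 1 := by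
        simp [MX, Matrix.mulVec, dotProduct, Fin.sum_univ_two]
      have e1 : ((MX : Matrix (Fin 2) (Fin 2) E) *ᵥ c) 1 = c 0 - c 1 := by
        simp [MX, Matrix.mulVec, dotProduct, Fin.sum_univ_two]
        ring
      show _ = ((MX : Matrix (Fin 2) (Fin 2) E) *ᵥ c) 0 • v +
        ((MX : Matrix (Fin 2) (Fin 2) E) *ᵥ c) 1 • σ x v
      rw [e0, e1]
      module
    have hmemY : (y, MY) ∈ Gam σ (iota (E := E) v (σ x v)) := by
      rw [mem_Gam]
      intro c
      rw [iota_apply, iota_apply, map_add, map_smul, map_smul, hYXv, hYv']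
      have e0 : ((MY : Matrix (Fin 2) (Fin 2) E) *ᵥ c) 0 = -γ * c 0 + (γ + γ⁻¹ - 1) * c 1 := by
        simp [MY, Matrix.mulVec, dotProduct, Fin.sum_univ_two]
      have e1 : ((MY : Matrix (Fin 2) (Fin 2) E) *ᵥ c) 1 = -γ * c 0 + (γ - 1) * c 1 := by
        simp [MY, Matrix.mulVec, dotProduct, Fin.sum_univ_two]
      show _ = ((MY : Matrix (Fin 2) (Fin 2) E) *ᵥ c) 0 • v +
        ((MY : Matrix (Fin 2) (Fin 2) E) *ᵥ c) 1 • σ x v
      rw [e0, e1]
      module
    -- the homomorphism to `SL₂`
    have hS : ∀ g ∈ Subgroup.closure ({x, y} : Set G),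
        ∃ N : SpecialLinearGroup (Fin 2) E, (g, N) ∈ Gam σ (iota (E := E) v (σ x v)) := by
      intro g hg
      have hle : Subgroup.closure ({x, y} : Set G) ≤
          (Gam σ (iota (E := E) v (σ x v))).map (MonoidHom.fst G (SpecialLinearGroup (Fin 2) E)) := by
        rw [Subgroup.closure_le]
        rintro z (rfl | rfl)
        · exact ⟨_, hmemX, rfl⟩
        · exact ⟨_, hmemY, rfl⟩
      obtain ⟨a, ha, rfl⟩ := hle hg
      exact ⟨a.2, ha⟩
    obtain ⟨φ, hφ⟩ := exists_hom_SL2 σ _ hι _ hS
    -- the image in `PSL₂`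
    let ψ : ↥(Subgroup.closure ({x, y} : Set G)) →* ProjectiveSpecialLinearGroup (Fin 2) E :=
      (toPSL2 E).comp φ
    refine ⟨↥ψ.range, inferInstance, ψ.rangeRestrict, ψ.rangeRestrict_surjective, ?_, ?_⟩
    · intro h hh
      have h1 : toPSL2 E (φ h) = 1 := by
        have := congrArg Subtype.val hh
        exact this
      have h2 : φ h ∈ Subgroup.center (SpecialLinearGroup (Fin 2) E) := by
        rw [toPSL2, QuotientGroup.mk'_apply, QuotientGroup.eq_one_iff] at h1
        exact h1
      have h3 : φ (h ^ 2) = 1 := by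
        rw [pow_two, map_mul]
        exact center_mul_self _ h2
      have h4 := hφ (h ^ 2) ![1, 0]
      rw [h3, Matrix.SpecialLinearGroup.coe_one, Matrix.one_mulVec, iota_apply] at h4
      simp only [Matrix.cons_val_zero, Matrix.cons_val_one, one_smul, zero_smul, add_zero] at h4
      by_contra hne
      have hne' : ((h ^ 2 : ↥(Subgroup.closure ({x, y} : Set G))) : G) ≠ 1 := by
        intro h5
        apply hne
        exact Subtype.ext h5
      exact hv (hfpf _ hne' v h4)
    · apply dickson_coprime' p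
      intro hdvd
      apply hp
      exact hdvd.trans ((Subgroup.card_range_dvd ψ).trans (Subgroup.card_subgroup_dvd_card _))

end Cfsg.Agent.Lib.Helper15.DkPair
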