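import Mathlib
import Cfsg.Agent.Lib.Helper15.DkPair2

/-!
# Dickson pairs, part 3: base change and the theorem `dickson_pair` (farm-out FO-B of S0690)
-/

set_option autoImplicit false

namespace Cfsg.Agent.Lib.Helper15.DkPair

open Matrix
open Cfsg.Agent.Lib.Helper14
open Cfsg.Agent.Lib.Helper15
open Cfsg.Agent.Lib.Helper15.Dk

/-- `dickson_pair` over a finite extension field containing an eigenvalue of `x * y` -/
theorem dickson_pair_aux {q : ℕ} [Fact q.Prime] {V : Type*} [AddCommGroup V] [Module (ZMod q) V]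
    {G : Type*} [Group G] [Finite G] (ρ : G →* (V ≃ₗ[ZMod q] V))
    (hfpf : ∀ g : G, g ≠ 1 → ∀ v : V, ρ g v = v → v = 0) (hq : ¬ q ∣ Nat.card G)
    (x y : G) (hx : x ^ 3 = 1) (hy : y ^ 3 = 1)
    (E : Type) [Field E] [Fintype E] [Algebra (ZMod q) E] [CharP E q]
    (n : ℕ) (b : Module.Basis (Fin n) (ZMod q) V) (γ : E)
    (hγroot : ((LinearMap.toMatrix b b
      ((ρ (x * y) : V ≃ₗ[ZMod q] V) : V →ₗ[ZMod q] V)).charpoly.map
        (algebraMap (ZMod q) E)).eval γ = 0) :
    x * y = y * x ∨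
    ∃ (T : Type) (_ : Group T) (f : Subgroup.closure ({x, y} : Set G) →* T),
      Function.Surjective f ∧ (∀ h, f h = 1 → h ^ 2 = 1) ∧
      (IsCyclic T ∨ (∃ k : ℕ, Nonempty (T ≃* DihedralGroup k)) ∨
        Nonempty (T ≃* alternatingGroup (Fin 4)) ∨ Nonempty (T ≃* Equiv.Perm (Fin 4)) ∨
        Nonempty (T ≃* alternatingGroup (Fin 5))) := by
  classical
  -- the matrix representation
  let A : G →* Matrix (Fin n) (Fin n) (ZMod q) :=
    { toFun := fun g => LinearMap.toMatrix b b ((ρ g : V ≃ₗ[ZMod q] V) : V →ₗ[ZMod q] V)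
      map_one' := by
        rw [map_one]
        exact LinearMap.toMatrix_id b
      map_mul' := by
        intro g h
        rw [map_mul, ← LinearMap.toMatrix_comp b b b]
        rfl }
  have hA : ∀ g, A g = LinearMap.toMatrix b b ((ρ g : V ≃ₗ[ZMod q] V) : V →ₗ[ZMod q] V) :=
    fun _ => rfl
  let alg : ZMod q →+* E := algebraMap (ZMod q) E
  let σ : G →* Module.End E (Fin n → E) :=
    { toFun := fun g => Matrix.toLin' (alg.mapMatrix (A g))
      map_one' := by rw [map_one, map_one, Matrix.toLin'_one]; rfl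
      map_mul' := by
        intro g h
        rw [map_mul, map_mul, Matrix.toLin'_mul]
        rfl }
  have hσ : ∀ g w, σ g w = (alg.mapMatrix (A g)) *ᵥ w := fun g w => Matrix.toLin'_apply _ _
  have hfpf' : ∀ g : G, g ≠ 1 → ∀ w : Fin n → E, σ g w = w → w = 0 := by
    intro g hg w hw
    by_contra hw0
    rw [hσ] at hw
    have h1 : (alg.mapMatrix (A g - 1)) *ᵥ w = 0 := by
      rw [map_sub, map_one, Matrix.sub_mulVec, Matrix.one_mulVec, hw, sub_self]
    have h2 : (alg.mapMatrix (A g - 1)).det = 0 := Matrix.exists_mulVec_eq_zero_iff.1 ⟨w, hw0, h1⟩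
    rw [← RingHom.map_det] at h2
    have h4 : (A g - 1).det = 0 := by
      apply alg.injective
      rw [h2, map_zero]
    obtain ⟨u, hu0, hu⟩ := Matrix.exists_mulVec_eq_zero_iff.2 h4
    rw [Matrix.sub_mulVec, Matrix.one_mulVec, sub_eq_zero] at hu
    apply hu0
    have hr : ⇑(b.repr (b.equivFun.symm u)) = u := by
      rw [← Module.Basis.equivFun_apply]
      exact b.equivFun.apply_symm_apply u
    have h5 : ρ g (b.equivFun.symm u) = b.equivFun.symm u := by
      apply b.equivFun.injective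
      have h6 := LinearMap.toMatrix_mulVec_repr b b ((ρ g : V ≃ₗ[ZMod q] V) : V →ₗ[ZMod q] V)
        (b.equivFun.symm u)
      rw [hr, ← hA, hu] at h6
      rw [Module.Basis.equivFun_apply, Module.Basis.equivFun_apply, hr]
      exact h6.symm
    have h7 := hfpf g hg _ h5
    have h8 : b.equivFun (b.equivFun.symm u) = 0 := by rw [h7, map_zero]
    rw [b.equivFun.apply_symm_apply] at h8
    exact h8
  -- an eigenvector of `x * y`
  have hcm : (A (x * y)).charpoly.map alg = (alg.mapMatrix (A (x * y))).charpoly :=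
    (Matrix.charpoly_map (A (x * y)) alg).symm
  rw [← hA] at hγroot
  have hγroot' : ((alg.mapMatrix (A (x * y))).charpoly).eval γ = 0 := by
    rw [← hcm]
    exact hγroot
  rw [Matrix.eval_charpoly] at hγroot'
  obtain ⟨v, hv0, hv⟩ := Matrix.exists_mulVec_eq_zero_iff.2 hγroot'
  have hγ : σ (x * y) v = γ • v := by
    rw [hσ]
    rw [Matrix.sub_mulVec, sub_eq_zero] at hv
    rw [← hv]
    ext i
    simp [Matrix.mulVec, dotProduct, Matrix.scalar_apply, Matrix.diagonal_apply]
  exact dickson_pair_core q σ hfpf' hq x y hx hy v hv0 γ hγ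

/-- two elements of order three in a group acting fixed-point-freely (and coprimely) on an
elementary abelian group: they commute, or the group they generate is, modulo a central subgroup of
exponent two, cyclic, dihedral, `A₄`, `S₄` or `A₅` -/
theorem dickson_pair {q : ℕ} [Fact q.Prime] {V : Type*} [AddCommGroup V] [Module (ZMod q) V]
    [Finite V] [Nontrivial V] {G : Type*} [Group G] [Finite G] (ρ : G →* (V ≃ₗ[ZMod q] V))
    (hfpf : ∀ g : G, g ≠ 1 → ∀ v : V, ρ g v = v → v = 0) (hq : ¬ q ∣ Nat.card G)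
    (x y : G) (hx : x ^ 3 = 1) (hy : y ^ 3 = 1) :
    x * y = y * x ∨
    ∃ (T : Type) (_ : Group T) (f : Subgroup.closure ({x, y} : Set G) →* T),
      Function.Surjective f ∧ (∀ h, f h = 1 → h ^ 2 = 1) ∧
      (IsCyclic T ∨ (∃ k : ℕ, Nonempty (T ≃* DihedralGroup k)) ∨
        Nonempty (T ≃* alternatingGroup (Fin 4)) ∨ Nonempty (T ≃* Equiv.Perm (Fin 4)) ∨
        Nonempty (T ≃* alternatingGroup (Fin 5))) := by
  classical
  have hfin : Module.Finite (ZMod q) V := Module.Finite.of_finite
  have hn : 0 < Module.finrank (ZMod q) V := Module.finrank_pos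
  let b : Module.Basis (Fin (Module.finrank (ZMod q) V)) (ZMod q) V := Module.finBasis (ZMod q) V
  obtain ⟨P, hP⟩ : ∃ P : Polynomial (ZMod q), P = (LinearMap.toMatrix b b
      ((ρ (x * y) : V ≃ₗ[ZMod q] V) : V →ₗ[ZMod q] V)).charpoly := ⟨_, rfl⟩
  have : Fintype P.SplittingField := Fintype.ofFinite _
  obtain ⟨γ, hγroot⟩ : ∃ γ : P.SplittingField,
      (P.map (algebraMap (ZMod q) P.SplittingField)).eval γ = 0 := by
    apply Polynomial.Splits.exists_eval_eq_zero (Polynomial.SplittingField.splits _)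
    rw [Polynomial.degree_map, hP, Matrix.charpoly_degree_eq_dim]
    simp only [Fintype.card_fin, ne_eq, Nat.cast_eq_zero]
    exact hn.ne'
  have hγroot' : ((LinearMap.toMatrix b b
      ((ρ (x * y) : V ≃ₗ[ZMod q] V) : V →ₗ[ZMod q] V)).charpoly.map
        (algebraMap (ZMod q) P.SplittingField)).eval γ = 0 := by
    rw [← hP]
    exact hγroot
  exact dickson_pair_aux ρ hfpf hq x y hx hy P.SplittingField _ b γ hγroot'

end Cfsg.Agent.Lib.Helper15.DkPair
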