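import Mathlib
set_option autoImplicit false
namespace Cfsg.Agent.Lib.Helper15

open Matrix QuadraticMap

section weights
variable {n : ℕ}

/-- Hamming weight of a binary vector -/
def wt (u : Fin n → ZMod 2) : ℕ := ∑ j, (u j).val

theorem wt_cons (x : ZMod 2) (u : Fin n → ZMod 2) :
    wt (Fin.cons x u : Fin (n + 1) → ZMod 2) = x.val + wt u := by
  unfold wt
  rw [Fin.sum_univ_succ]
  simp

theorem sum_eq_wt (u : Fin n → ZMod 2) : ∑ j, u j = ((wt u : ℕ) : ZMod 2) := by
  unfold wt
  rw [Nat.cast_sum]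
  exact Finset.sum_congr rfl (fun j _ => (ZMod.natCast_zmod_val (u j)).symm)

theorem wt_comp_equiv (σ : Equiv.Perm (Fin n)) (u : Fin n → ZMod 2) : wt (u ∘ σ) = wt u := by
  unfold wt
  exact Equiv.sum_comp σ (fun j => (u j).val)

/-- the bilinear form `Σ_{i<j} u_i v_j` -/
def triB (u v : Fin n → ZMod 2) : ZMod 2 := ∑ i, ∑ j, if i < j then u i * v j else 0

/-- second elementary symmetric function -/
def e2 (u : Fin n → ZMod 2) : ZMod 2 := triB u u

theorem e2_cons (x : ZMod 2) (u : Fin n → ZMod 2) :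
    e2 (Fin.cons x u : Fin (n + 1) → ZMod 2) = e2 u + x * ∑ j, u j := by
  unfold e2 triB
  rw [Fin.sum_univ_succ]
  have h1 : ∀ i : Fin n, (∑ j : Fin (n + 1), if i.succ < j then
      (Fin.cons x u : Fin (n + 1) → ZMod 2) i.succ * (Fin.cons x u : Fin (n + 1) → ZMod 2) j else 0) =
      ∑ j : Fin n, if i < j then u i * u j else 0 := by
    intro i
    rw [Fin.sum_univ_succ]
    simp [Fin.succ_lt_succ_iff]
  have h2 : (∑ j : Fin (n + 1), if (0 : Fin (n + 1)) < j then
      (Fin.cons x u : Fin (n + 1) → ZMod 2) 0 * (Fin.cons x u : Fin (n + 1) → ZMod 2) j else 0) = x * ∑ j, u j := by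
    rw [Fin.sum_univ_succ, Finset.mul_sum]
    simp [Fin.succ_pos]
  rw [h2, Finset.sum_congr rfl (fun i _ => h1 i), add_comm]

theorem choose_succ_two (w : ℕ) : (w + 1).choose 2 = w + w.choose 2 := by
  rw [show 2 = 1 + 1 from rfl, Nat.choose_succ_succ', Nat.choose_one_right]

theorem e2_eq_choose : ∀ {n : ℕ} (u : Fin n → ZMod 2), e2 u = (((wt u).choose 2 : ℕ) : ZMod 2) := by
  intro n
  induction n with
  | zero =>
    intro u
    simp [e2, triB, wt]
  | succ n ih =>
    intro u
    rw [← Fin.cons_self_tail u, e2_cons, wt_cons, ih, sum_eq_wt]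
    generalize Fin.tail u = u'
    generalize u 0 = x
    obtain rfl | rfl : x = 0 ∨ x = 1 := by revert x; decide
    · rw [ZMod.val_zero, zero_add, zero_mul, add_zero]
    · have h1 : ((1 : ZMod 2)).val = 1 := rfl
      rw [h1, add_comm 1 (wt u'), choose_succ_two, Nat.cast_add, one_mul, add_comm]

theorem choose_two_mod (w : ℕ) : w.choose 2 % 2 = 0 ↔ w % 4 < 2 := by
  induction w with
  | zero => simp
  | succ w ih =>
    rw [choose_succ_two]
    omega

theorem e2_eq_zero_iff (u : Fin n → ZMod 2) : e2 u = 0 ↔ wt u % 4 < 2 := by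
  rw [e2_eq_choose, ZMod.natCast_eq_zero_iff, Nat.dvd_iff_mod_eq_zero, choose_two_mod]

theorem e2_comp_equiv (σ : Equiv.Perm (Fin n)) (u : Fin n → ZMod 2) : e2 (u ∘ σ) = e2 u := by
  rw [e2_eq_choose, e2_eq_choose, wt_comp_equiv]

end weights

section form
variable (n : ℕ)

/-- strictly upper triangular all-ones matrix -/
def e2Mat : Matrix (Fin n) (Fin n) (ZMod 2) := Matrix.of fun i j => if i < j then 1 else 0

theorem e2Mat_bilin (u v : Fin n → ZMod 2) : Matrix.toLinearMap₂' (ZMod 2) (e2Mat n) u v = triB u v := by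
  rw [Matrix.toLinearMap₂'_apply]
  unfold triB e2Mat
  refine Finset.sum_congr rfl (fun i _ => Finset.sum_congr rfl (fun j _ => ?_))
  by_cases h : i < j <;> simp [h]

/-- the second elementary symmetric function as a quadratic form -/
noncomputable def e2Form : QuadraticForm (ZMod 2) (Fin n → ZMod 2) := (e2Mat n).toQuadraticForm'

theorem e2Form_apply (u : Fin n → ZMod 2) : e2Form n u = e2 u := by
  unfold e2Form Matrix.toQuadraticForm'
  rw [LinearMap.BilinMap.toQuadraticMap_apply, e2Mat_bilin]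
  rfl

theorem polar_e2Form (u v : Fin n → ZMod 2) :
    polar (e2Form n) u v = (∑ i, u i) * (∑ j, v j) + u ⬝ᵥ v := by
  unfold e2Form Matrix.toQuadraticForm'
  rw [LinearMap.BilinMap.polar_toQuadraticMap, e2Mat_bilin, e2Mat_bilin]
  unfold triB
  rw [Finset.sum_comm (f := fun i j => if i < j then v i * u j else 0), ← Finset.sum_add_distrib, Finset.sum_mul_sum, dotProduct,
    ← sub_eq_iff_eq_add, ← Finset.sum_sub_distrib]
  refine Finset.sum_congr rfl (fun i _ => ?_)
  rw [← Finset.sum_add_distrib]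
  have : u i * v i = ∑ j, if i = j then u i * v j else 0 := by
    rw [Finset.sum_ite_eq]; simp
  rw [this, ← Finset.sum_sub_distrib]
  refine Finset.sum_congr rfl (fun j _ => ?_)
  rcases lt_trichotomy i j with h | h | h
  · simp [h, h.ne, not_lt.2 h.le]
  · subst h; simp
  · simp [h, h.ne', not_lt.2 h.le, mul_comm]

end form
end Cfsg.Agent.Lib.Helper15
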