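import Mathlib
import Cfsg.Agent.Lib.Helper15.E2Form
set_option autoImplicit false
namespace Cfsg.Agent.Lib.Helper15

section counting

theorem sum_cons_split {n : ℕ} {M : Type*} [AddCommMonoid M] (F : (Fin (n + 1) → ZMod 2) → M) :
    ∑ u, F u = ∑ u' : Fin n → ZMod 2, F (Fin.cons 0 u') + ∑ u' : Fin n → ZMod 2, F (Fin.cons 1 u') := by
  rw [← Fintype.sum_equiv (Fin.consEquiv (fun _ => ZMod 2)) (fun p => F (Fin.cons p.1 p.2)) F (fun p => rfl),
    Fintype.sum_prod_type]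
  exact Fin.sum_univ_two (fun x : Fin 2 => ∑ u' : Fin n → ZMod 2, F (Fin.cons x u'))

def chi0 (w : ℕ) : ℤ := if w % 4 = 0 then 1 else if w % 4 = 2 then -1 else 0
def chi1 (w : ℕ) : ℤ := if w % 4 = 1 then 1 else if w % 4 = 3 then -1 else 0
def chiE (w : ℕ) : ℤ := if w % 2 = 0 then 1 else -1

theorem chi0_succ (w : ℕ) : chi0 (w + 1) = - chi1 w := by
  unfold chi0 chi1
  split_ifs <;> omega

theorem chi1_succ (w : ℕ) : chi1 (w + 1) = chi0 w := by
  unfold chi0 chi1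
  split_ifs <;> omega

theorem chiE_succ (w : ℕ) : chiE (w + 1) = - chiE w := by
  unfold chiE
  split_ifs <;> omega

theorem four_ind (w : ℕ) : (4 : ℤ) * (if w % 4 = 0 then 1 else 0) = 2 * chi0 w + 1 + chiE w := by
  unfold chi0 chiE
  split_ifs <;> omega

def Asum (n : ℕ) : ℤ := ∑ u : Fin n → ZMod 2, chi0 (wt u)
def Bsum (n : ℕ) : ℤ := ∑ u : Fin n → ZMod 2, chi1 (wt u)
def Esum (n : ℕ) : ℤ := ∑ u : Fin n → ZMod 2, chiE (wt u)

theorem val_one_two : ((1 : ZMod 2)).val = 1 := rfl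

theorem Asum_zero : Asum 0 = 1 := by
  unfold Asum
  simp [wt, chi0]

theorem Bsum_zero : Bsum 0 = 0 := by
  unfold Bsum
  simp [wt, chi1]

theorem Asum_succ (n : ℕ) : Asum (n + 1) = Asum n - Bsum n := by
  unfold Asum Bsum
  rw [sum_cons_split]
  simp only [wt_cons, ZMod.val_zero, zero_add, val_one_two, add_comm 1, chi0_succ, Finset.sum_neg_distrib]
  ring

theorem Bsum_succ (n : ℕ) : Bsum (n + 1) = Bsum n + Asum n := by
  unfold Asum Bsum
  rw [sum_cons_split]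
  simp only [wt_cons, ZMod.val_zero, zero_add, val_one_two, add_comm 1, chi1_succ]

theorem Esum_succ (n : ℕ) : Esum (n + 1) = 0 := by
  unfold Esum
  rw [sum_cons_split]
  simp only [wt_cons, ZMod.val_zero, zero_add, val_one_two, add_comm 1, chiE_succ, Finset.sum_neg_distrib]
  ring

theorem AB_closed (k : ℕ) : Asum (4 * k + 3) = -2 * (-4) ^ k ∧ Bsum (4 * k + 3) = 2 * (-4) ^ k := by
  induction k with
  | zero =>
    show Asum (0 + 1 + 1 + 1) = _ ∧ Bsum (0 + 1 + 1 + 1) = _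
    simp only [Asum_succ, Bsum_succ, Asum_zero, Bsum_zero]
    norm_num
  | succ k ih =>
    have e : 4 * (k + 1) + 3 = 4 * k + 3 + 1 + 1 + 1 + 1 := by ring
    rw [e]
    obtain ⟨h1, h2⟩ := ih
    generalize 4 * k + 3 = N at h1 h2 ⊢
    simp only [Asum_succ, Bsum_succ]
    rw [h1, h2]
    constructor <;> ring

/-- number of binary vectors of length `n` and weight divisible by four -/
theorem card_wt_mod_four (k : ℕ) :
    (Nat.card {u : Fin (4 * k + 3) → ZMod 2 // wt u % 4 = 0} : ℤ) = 2 ^ (4 * k + 1) - (-4) ^ k := by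
  classical
  have h1 : (Nat.card {u : Fin (4 * k + 3) → ZMod 2 // wt u % 4 = 0} : ℤ) =
      ∑ u : Fin (4 * k + 3) → ZMod 2, (if wt u % 4 = 0 then 1 else 0) := by
    rw [Nat.card_eq_fintype_card, Fintype.card_subtype, Finset.card_filter]
    push_cast
    rfl
  have h2 : (4 : ℤ) * ∑ u : Fin (4 * k + 3) → ZMod 2, (if wt u % 4 = 0 then 1 else 0) =
      2 * Asum (4 * k + 3) + 2 ^ (4 * k + 3) + Esum (4 * k + 3) := by
    rw [Finset.mul_sum]
    simp only [four_ind]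
    rw [Finset.sum_add_distrib, Finset.sum_add_distrib, ← Finset.mul_sum]
    unfold Asum Esum
    congr 2
    rw [Finset.sum_const, Finset.card_univ, Fintype.card_fun, ZMod.card, Fintype.card_fin]
    simp
  have h3 : Esum (4 * k + 3) = 0 := Esum_succ (4 * k + 2)
  rw [h3, (AB_closed k).1] at h2
  rw [h1]
  have e : (2 : ℤ) ^ (4 * k + 3) = 4 * 2 ^ (4 * k + 1) := by ring
  rw [e] at h2
  linarith

theorem card_wt_mod_four_odd (k : ℕ) (hk : Odd k) :
    Nat.card {u : Fin (4 * k + 3) → ZMod 2 // wt u % 4 = 0} = 2 ^ (4 * k + 1) + 2 ^ (2 * k) := by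
  have h := card_wt_mod_four k
  rw [Odd.neg_pow hk] at h
  have e : (4 : ℤ) ^ k = 2 ^ (2 * k) := by rw [pow_mul]; norm_num
  rw [e] at h
  have : (Nat.card {u : Fin (4 * k + 3) → ZMod 2 // wt u % 4 = 0} : ℤ) = ((2 ^ (4 * k + 1) + 2 ^ (2 * k) : ℕ) : ℤ) := by
    rw [h]; push_cast; ring
  exact_mod_cast this

theorem card_wt_mod_four_even (k : ℕ) (hk : Even k) :
    Nat.card {u : Fin (4 * k + 3) → ZMod 2 // wt u % 4 = 0} + 2 ^ (2 * k) = 2 ^ (4 * k + 1) := by
  have h := card_wt_mod_four k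
  rw [Even.neg_pow hk] at h
  have e : (4 : ℤ) ^ k = 2 ^ (2 * k) := by rw [pow_mul]; norm_num
  rw [e] at h
  have : ((Nat.card {u : Fin (4 * k + 3) → ZMod 2 // wt u % 4 = 0} + 2 ^ (2 * k) : ℕ) : ℤ) = ((2 ^ (4 * k + 1) : ℕ) : ℤ) := by
    push_cast; rw [h]; ring
  exact_mod_cast this

end counting
end Cfsg.Agent.Lib.Helper15
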