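import Mathlib
import Cfsg.Agent.Lib.Helper15.QuadF2c
import Cfsg.Agent.Lib.Helper15.QuadClassify

set_option autoImplicit false

namespace Cfsg.Agent.Lib.Helper15

open Module QuadraticMap

/-- number of zeros of the plus form over `𝔽₂` -/
theorem card_zeros_plus_two (k : ℕ) :
    Nat.card {v : Fin (k + 1) ⊕ Fin (k + 1) → ZMod 2 // Cfsg.quadFormPlus (k + 1) (ZMod 2) v = 0} =
      2 ^ (2 * k + 1) + 2 ^ k := by
  have h := card_zeros_plus (ZMod 2) (k + 1)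
  have hc : Nat.card (ZMod 2) = 2 := by simp
  rw [hc] at h
  set Z := Nat.card {v : Fin (k + 1) ⊕ Fin (k + 1) → ZMod 2 // Cfsg.quadFormPlus (k + 1) (ZMod 2) v = 0} with hZ
  have e1 : (2 : ℕ) ^ (k + 1) = 2 * 2 ^ k := by ring
  have e2 : (2 : ℕ) ^ (2 * (k + 1)) = 4 * (2 ^ k) ^ 2 := by ring
  have e3 : (2 : ℕ) ^ (2 * k + 1) = 2 * (2 ^ k) ^ 2 := by ring
  have e4 : k + 1 - 1 = k := by omega
  rw [e1, e2, e4] at h
  rw [e3]
  set x := (2 : ℕ) ^ k with hx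
  have hx1 : 1 ≤ x := Nat.one_le_two_pow
  have hle : 2 * x ≤ 4 * x ^ 2 := by nlinarith
  obtain ⟨y, hy⟩ : ∃ y, y + 2 * x = 4 * x ^ 2 := ⟨4 * x ^ 2 - 2 * x, Nat.sub_add_cancel hle⟩
  have hy' : 4 * x ^ 2 - 2 * x = y := by omega
  rw [hy'] at h
  have hpos : 0 < 2 * x := by omega
  apply Nat.eq_of_mul_eq_mul_right hpos
  rw [h]
  nlinarith

/-- number of zeros of the minus form over `𝔽₂` -/
theorem card_zeros_minus_two (k : ℕ) :
    Nat.card {w : (Fin k ⊕ Fin k) ⊕ Fin 2 → ZMod 2 // Cfsg.quadFormMinus k (ZMod 2) 1 1 w = 0} + 2 ^ (k + 1) =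
      2 ^ (2 * k + 1) + 2 ^ k := by
  classical
  rw [← card_zeros_plus_two k, Nat.card_eq_fintype_card, Nat.card_eq_fintype_card, Fintype.card_subtype,
    Fintype.card_subtype]
  have hp := Cfsg.Agent.S2617.card_plus (F := ZMod 2) k
  have hm := Cfsg.Agent.S2617.card_minus (F := ZMod 2) k 1
  have hcp := Cfsg.Agent.S2617.count_general (F := ZMod 2) k (fun t : ZMod 2 × ZMod 2 => t.1 * t.2)
  have hcm := Cfsg.Agent.S2617.count_general (F := ZMod 2) k (fun z : Fin 2 → ZMod 2 => z 0 ^ 2 + 1 * z 0 * z 1 + 1 * z 1 ^ 2)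
  have hz := Cfsg.Agent.S2617.cnt_zero_eq (F := ZMod 2) k
  have c1 : (Finset.univ.filter (fun t : ZMod 2 × ZMod 2 => t.1 * t.2 = 0)).card = 3 := by decide
  have c2 : (Finset.univ.filter (fun t : ZMod 2 × ZMod 2 => t.1 * t.2 ≠ 0)).card = 1 := by decide
  have c3 : (Finset.univ.filter (fun z : Fin 2 → ZMod 2 => z 0 ^ 2 + 1 * z 0 * z 1 + 1 * z 1 ^ 2 = 0)).card = 1 := by decide
  have c4 : (Finset.univ.filter (fun z : Fin 2 → ZMod 2 => z 0 ^ 2 + 1 * z 0 * z 1 + 1 * z 1 ^ 2 ≠ 0)).card = 3 := by decide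
  rw [c1, c2] at hcp
  rw [c3, c4] at hcm
  have hcard : Fintype.card (ZMod 2) = 2 := by simp
  rw [hcard] at hz
  rw [hp, hm, hcp, hcm, hz]
  ring


/-- the polarisation identity relative to the standard plus form over `𝔽₂` -/
def PolarId (m : ℕ) (q : (Fin m ⊕ Fin m → ZMod 2) → ZMod 2) : Prop :=
  ∀ u v : (Fin m ⊕ Fin m → ZMod 2), q (u + v) = q u + q v +
    (Cfsg.quadFormPlus m (ZMod 2) (u + v) - Cfsg.quadFormPlus m (ZMod 2) u - Cfsg.quadFormPlus m (ZMod 2) v)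

def IsPlusType (m : ℕ) (q : (Fin m ⊕ Fin m → ZMod 2) → ZMod 2) : Prop :=
  ∃ g : (Fin m ⊕ Fin m → ZMod 2) ≃ₗ[ZMod 2] (Fin m ⊕ Fin m → ZMod 2), ∀ v, q v = Cfsg.quadFormPlus m (ZMod 2) (g v)

def IsMinusType (m : ℕ) (q : (Fin m ⊕ Fin m → ZMod 2) → ZMod 2) : Prop :=
  ∃ g : (Fin m ⊕ Fin m → ZMod 2) ≃ₗ[ZMod 2] ((Fin (m - 1) ⊕ Fin (m - 1)) ⊕ Fin 2 → ZMod 2),
    ∀ v, q v = Cfsg.quadFormMinus (m - 1) (ZMod 2) 1 1 (g v)

theorem PolarId.map_zero {m : ℕ} {q : (Fin m ⊕ Fin m → ZMod 2) → ZMod 2} (hq : PolarId m q) : q 0 = 0 := by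
  have h := hq 0 0
  have h2 : Cfsg.quadFormPlus m (ZMod 2) 0 = 0 := by simp [Cfsg.quadFormPlus]
  rw [add_zero, h2] at h
  have h3 : q 0 + q 0 = 0 := CharTwo.add_self_eq_zero (q 0)
  rw [h3] at h
  simpa using h

/-- the quadratic form attached to a function satisfying the polarisation identity -/
theorem PolarId.exists_quadForm {m : ℕ} {q : (Fin m ⊕ Fin m → ZMod 2) → ZMod 2} (hq : PolarId m q) :
    ∃ Q : QuadraticForm (ZMod 2) (Fin m ⊕ Fin m → ZMod 2), (∀ v, Q v = q v) ∧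
      (polarBilin Q).Nondegenerate := by
  have hsmul : ∀ (a : ZMod 2) (x : Fin m ⊕ Fin m → ZMod 2), q (a • x) = (a * a) • q x := by
    intro a x
    have h01 : ∀ z : ZMod 2, z = 0 ∨ z = 1 := by decide
    rcases h01 a with rfl | rfl
    · rw [zero_smul, hq.map_zero]; simp
    · rw [one_smul]; simp
  let Q : QuadraticForm (ZMod 2) (Fin m ⊕ Fin m → ZMod 2) :=
    { toFun := q
      toFun_smul := hsmul
      exists_companion' := ⟨polarBilin (QPlus (ZMod 2) m), fun x y => by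
        rw [hq x y, polarBilin_apply_apply]
        unfold polar
        rw [QPlus_apply, QPlus_apply, QPlus_apply]⟩ }
  have hQ : ∀ v, Q v = q v := fun v => rfl
  refine ⟨Q, hQ, ?_⟩
  have hpol : ∀ u v, polar Q u v = polar (QPlus (ZMod 2) m) u v := by
    intro u v
    unfold polar
    rw [hQ, hQ, hQ, hq u v, QPlus_apply, QPlus_apply, QPlus_apply]
    ring
  have hnd := nondegenerate_QPlus (ZMod 2) m
  constructor
  · intro u hu
    apply hnd.1 u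
    intro v
    have := hu v
    rwa [polarBilin_apply_apply, hpol] at this
  · intro u hu
    apply hnd.2 u
    intro v
    have := hu v
    rwa [polarBilin_apply_apply, hpol] at this

theorem PolarId.plus_or_minus {m : ℕ} (hm : 1 ≤ m) {q : (Fin m ⊕ Fin m → ZMod 2) → ZMod 2} (hq : PolarId m q) :
    IsPlusType m q ∨ IsMinusType m q := by
  obtain ⟨Q, hQ, hnd⟩ := hq.exists_quadForm
  rcases classify_even Q hnd m hm (finrank_plus_space (ZMod 2) m) with ⟨g, hg⟩ | ⟨ζ, hζ, g, hg⟩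
  · left
    exact ⟨g, fun v => by rw [← hQ, hg]⟩
  · right
    have h01 : ∀ z : ZMod 2, z = 0 ∨ z = 1 := by decide
    have hζ1 : ζ = 1 := by
      rcases h01 ζ with h0 | h1
      · exact absurd (by rw [h0]; simp) (hζ 0)
      · exact h1
    subst hζ1
    exact ⟨g, fun v => by rw [← hQ, hg]⟩

theorem IsPlusType.card_zeros {k : ℕ} {q : (Fin (k + 1) ⊕ Fin (k + 1) → ZMod 2) → ZMod 2} (h : IsPlusType (k + 1) q) :
    Nat.card {v // q v = 0} = 2 ^ (2 * k + 1) + 2 ^ k := by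
  obtain ⟨g, hg⟩ := h
  rw [← card_zeros_plus_two k]
  apply Nat.card_congr
  exact g.toEquiv.subtypeEquiv (fun v => by rw [hg]; rfl)

theorem IsMinusType.card_zeros {k : ℕ} {q : (Fin (k + 1) ⊕ Fin (k + 1) → ZMod 2) → ZMod 2} (h : IsMinusType (k + 1) q) :
    Nat.card {v // q v = 0} + 2 ^ (k + 1) = 2 ^ (2 * k + 1) + 2 ^ k := by
  obtain ⟨g, hg⟩ := h
  rw [← card_zeros_minus_two k]
  congr 1
  apply Nat.card_congr
  exact g.toEquiv.subtypeEquiv (fun v => by rw [hg]; rfl)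

theorem not_plus_and_minus {m : ℕ} (hm : 1 ≤ m) {q : (Fin m ⊕ Fin m → ZMod 2) → ZMod 2} (h1 : IsPlusType m q)
    (h2 : IsMinusType m q) : False := by
  obtain ⟨k, rfl⟩ : ∃ k, m = k + 1 := ⟨m - 1, by omega⟩
  have e1 := h1.card_zeros
  have e2 := h2.card_zeros
  have : 0 < 2 ^ (k + 1) := by positivity
  omega

theorem IsPlusType.exists_equiv {m : ℕ} {q q' : (Fin m ⊕ Fin m → ZMod 2) → ZMod 2} (h : IsPlusType m q)
    (h' : IsPlusType m q') :
    ∃ g : (Fin m ⊕ Fin m → ZMod 2) ≃ₗ[ZMod 2] (Fin m ⊕ Fin m → ZMod 2), ∀ v, q' v = q (g v) := by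
  obtain ⟨g, hg⟩ := h
  obtain ⟨g', hg'⟩ := h'
  refine ⟨g'.trans g.symm, fun v => ?_⟩
  rw [hg, hg']
  simp

theorem IsMinusType.exists_equiv {m : ℕ} {q q' : (Fin m ⊕ Fin m → ZMod 2) → ZMod 2} (h : IsMinusType m q)
    (h' : IsMinusType m q') :
    ∃ g : (Fin m ⊕ Fin m → ZMod 2) ≃ₗ[ZMod 2] (Fin m ⊕ Fin m → ZMod 2), ∀ v, q' v = q (g v) := by
  obtain ⟨g, hg⟩ := h
  obtain ⟨g', hg'⟩ := h'
  refine ⟨g'.trans g.symm, fun v => ?_⟩
  rw [hg, hg']
  simp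

end Cfsg.Agent.Lib.Helper15
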