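import Mathlib
import Cfsg.Agent.Lib.Helper15.E2Count
import Cfsg.Agent.Lib.Helper15.QuadF2d
set_option autoImplicit false
namespace Cfsg.Agent.Lib.Helper15

open Matrix QuadraticMap Module

section space
variable (N : ℕ)

/-- the sum of the coordinates -/
def sumLin : (Fin (N + 1) → ZMod 2) →ₗ[ZMod 2] ZMod 2 where
  toFun u := ∑ i, u i
  map_add' u v := by simp [Finset.sum_add_distrib]
  map_smul' c u := by simp [Finset.mul_sum]

theorem sumLin_apply (u : Fin (N + 1) → ZMod 2) : sumLin N u = ∑ i, u i := rfl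

/-- even weight vectors vanishing at the coordinate `0` -/
def evenSub : Submodule (ZMod 2) (Fin (N + 1) → ZMod 2) :=
  LinearMap.ker ((sumLin N).prod (LinearMap.proj 0))

theorem mem_evenSub (v : Fin (N + 1) → ZMod 2) : v ∈ evenSub N ↔ ∑ i, v i = 0 ∧ v 0 = 0 := by
  unfold evenSub
  rw [LinearMap.mem_ker]
  show ((sumLin N) v, v 0) = 0 ↔ _
  rw [Prod.mk_eq_zero]
  rfl

theorem cons_mem_evenSub (u : Fin N → ZMod 2) (hu : wt u % 2 = 0) :
    (Fin.cons 0 u : Fin (N + 1) → ZMod 2) ∈ evenSub N := by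
  rw [mem_evenSub]
  refine ⟨?_, rfl⟩
  rw [sum_eq_wt, wt_cons, ZMod.val_zero, zero_add, ZMod.natCast_eq_zero_iff]
  exact Nat.dvd_of_mod_eq_zero hu

theorem eq_cons_of_mem {v : Fin (N + 1) → ZMod 2} (hv : v ∈ evenSub N) :
    v = Fin.cons 0 (Fin.tail v) ∧ wt (Fin.tail v) % 2 = 0 := by
  rw [mem_evenSub] at hv
  have h1 : v = Fin.cons 0 (Fin.tail v) := by
    conv_lhs => rw [← Fin.cons_self_tail v, hv.2]
  refine ⟨h1, ?_⟩
  have h2 := hv.1
  rw [h1, sum_eq_wt, wt_cons, ZMod.val_zero, zero_add, ZMod.natCast_eq_zero_iff] at h2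
  exact Nat.mod_eq_zero_of_dvd h2

/-- the quadratic form `e₂` on the even subspace -/
noncomputable def evenForm : QuadraticForm (ZMod 2) (evenSub N) := (e2Form (N + 1)).comp (evenSub N).subtype

theorem evenForm_apply (v : evenSub N) : evenForm N v = e2 v.1 := by
  unfold evenForm
  rw [QuadraticMap.comp_apply, Submodule.subtype_apply, e2Form_apply]

theorem polar_evenForm (x y : evenSub N) : polar (evenForm N) x y = x.1 ⬝ᵥ y.1 := by
  have h := polar_e2Form (N + 1) x.1 y.1
  unfold polar at h ⊢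
  rw [evenForm_apply, evenForm_apply, evenForm_apply, ← e2Form_apply, ← e2Form_apply, ← e2Form_apply, Submodule.coe_add, h,
    ((mem_evenSub N x.1).1 x.2).1, zero_mul, zero_add]

theorem finrank_evenSub (hN : 1 ≤ N) : finrank (ZMod 2) (evenSub N) + 2 = N + 1 := by
  classical
  have h := LinearMap.finrank_range_add_finrank_ker ((sumLin N).prod (LinearMap.proj (R := ZMod 2) (φ := fun _ : Fin (N + 1) => ZMod 2) 0))
  have hsurj : LinearMap.range ((sumLin N).prod (LinearMap.proj (R := ZMod 2) (φ := fun _ : Fin (N + 1) => ZMod 2) 0)) = ⊤ := by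
    rw [LinearMap.range_eq_top]
    rintro ⟨a, b⟩
    refine ⟨Fin.cons b (Pi.single ⟨0, hN⟩ (a + b)), ?_⟩
    show ((sumLin N) _, _) = (a, b)
    rw [Prod.mk.injEq]
    constructor
    · rw [sumLin_apply, Fin.sum_univ_succ]
      simp only [Fin.cons_zero, Fin.cons_succ]
      rw [Finset.sum_pi_single']
      simp only [Finset.mem_univ, if_true]
      rw [← add_assoc, add_comm b a, add_assoc, CharTwo.add_self_eq_zero, add_zero]
    · rfl
  rw [hsurj, finrank_top, finrank_prod, finrank_self, finrank_pi, Fintype.card_fin] at h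
  unfold evenSub
  omega

theorem nondegenerate_evenForm (hN : Odd N) : (polarBilin (evenForm N)).Nondegenerate := by
  classical
  have hleft : ∀ x : evenSub N, (∀ y, polar (evenForm N) x y = 0) → x = 0 := by
    intro x hx
    obtain ⟨hx1, hx0⟩ := (mem_evenSub N x.1).1 x.2
    have hconst : ∀ i j : Fin N, x.1 i.succ = x.1 j.succ := by
      intro i j
      have hy : (Pi.single i.succ 1 + Pi.single j.succ 1 : Fin (N + 1) → ZMod 2) ∈ evenSub N := by
        rw [mem_evenSub]
        constructor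
        · simp only [Pi.add_apply]
          rw [Finset.sum_add_distrib, Finset.sum_pi_single', Finset.sum_pi_single']
          simp only [Finset.mem_univ, if_true]
          exact CharTwo.add_self_eq_zero 1
        · simp [Pi.single_apply, (Fin.succ_ne_zero _).symm]
      have := hx ⟨_, hy⟩
      rw [polar_evenForm] at this
      simp only [dotProduct_add, dotProduct_single, mul_one] at this
      exact CharTwo.add_eq_zero.1 this
    have hN1 : 1 ≤ N := hN.pos
    have hsum : ∑ i : Fin N, x.1 i.succ = x.1 (Fin.succ ⟨0, hN1⟩) := by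
      rw [Finset.sum_congr rfl (fun i _ => hconst i ⟨0, hN1⟩), Finset.sum_const, Finset.card_univ, Fintype.card_fin,
        nsmul_eq_mul]
      obtain ⟨t, rfl⟩ := hN
      have : ((2 * t + 1 : ℕ) : ZMod 2) = 1 := by
        push_cast
        rw [show (2 : ZMod 2) = 0 from rfl, zero_mul, zero_add]
      rw [this, one_mul]
    rw [Fin.sum_univ_succ, hx0, zero_add, hsum] at hx1
    apply Subtype.ext
    funext i
    refine Fin.cases hx0 (fun i' => ?_) i
    rw [hconst i' ⟨0, hN1⟩, hx1]
    rfl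
  constructor
  · intro u hu
    exact hleft u hu
  · intro u hu
    apply hleft u
    intro v
    rw [polar_comm]
    exact hu v

/-- zeros of the even form correspond to vectors of weight divisible by four -/
noncomputable def evenZerosEquiv : {v : evenSub N // evenForm N v = 0} ≃ {u : Fin N → ZMod 2 // wt u % 4 = 0} where
  toFun v := ⟨Fin.tail v.1.1, by
    obtain ⟨h1, h2⟩ := eq_cons_of_mem N v.1.2
    have h3 := v.2
    rw [evenForm_apply, e2_eq_zero_iff, h1, wt_cons, ZMod.val_zero, zero_add] at h3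
    omega⟩
  invFun u := ⟨⟨Fin.cons 0 u.1, cons_mem_evenSub N u.1 (by have := u.2; omega)⟩, by
    rw [evenForm_apply, e2_eq_zero_iff, wt_cons, ZMod.val_zero, zero_add]
    have := u.2
    omega⟩
  left_inv v := by
    apply Subtype.ext
    apply Subtype.ext
    exact (eq_cons_of_mem N v.1.2).1.symm
  right_inv u := by
    apply Subtype.ext
    show Fin.tail (Fin.cons 0 u.1 : Fin (N + 1) → ZMod 2) = u.1
    exact Fin.tail_cons _ _

end space

section types

theorem irred_zmod2 (ζ : ZMod 2) (h : ∀ t : ZMod 2, t ^ 2 + t + ζ ≠ 0) : ζ = 1 := by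
  revert ζ
  decide

theorem evenForm_type (k : ℕ) :
    (Odd k → ∃ g : evenSub (4 * k + 3) ≃ₗ[ZMod 2] (Fin (2 * k + 1) ⊕ Fin (2 * k + 1) → ZMod 2),
      ∀ v, evenForm (4 * k + 3) v = Cfsg.quadFormPlus (2 * k + 1) (ZMod 2) (g v)) ∧
    (Even k → ∃ g : evenSub (4 * k + 3) ≃ₗ[ZMod 2] ((Fin (2 * k) ⊕ Fin (2 * k)) ⊕ Fin 2 → ZMod 2),
      ∀ v, evenForm (4 * k + 3) v = Cfsg.quadFormMinus (2 * k) (ZMod 2) 1 1 (g v)) := by
  have hodd : Odd (4 * k + 3) := ⟨2 * k + 1, by ring⟩
  have hfr : finrank (ZMod 2) (evenSub (4 * k + 3)) = 2 * (2 * k + 1) := by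
    have := finrank_evenSub (4 * k + 3) (by omega)
    omega
  have hcl := classify_even (evenForm (4 * k + 3)) (nondegenerate_evenForm (4 * k + 3) hodd) (2 * k + 1) (by omega) hfr
  have hz := Nat.card_congr (evenZerosEquiv (4 * k + 3))
  constructor
  · intro hk
    rw [card_wt_mod_four_odd k hk] at hz
    rcases hcl with ⟨g, hg⟩ | ⟨ζ, hζ, g, hg⟩
    · exact ⟨g, hg⟩
    · exfalso
      obtain rfl := irred_zmod2 ζ hζ
      have h1 := card_zeros_minus_two (2 * k)
      have h2 : Nat.card {v : evenSub (4 * k + 3) // evenForm (4 * k + 3) v = 0} =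
          Nat.card {w : (Fin (2 * k) ⊕ Fin (2 * k)) ⊕ Fin 2 → ZMod 2 // Cfsg.quadFormMinus (2 * k) (ZMod 2) 1 1 w = 0} :=
        Nat.card_congr (g.toEquiv.subtypeEquiv (fun v => by rw [hg v]; rfl))
      rw [← h2, hz] at h1
      have e1 : 2 * (2 * k) + 1 = 4 * k + 1 := by ring
      rw [e1] at h1
      have : 0 < 2 ^ (2 * k + 1) := Nat.pow_pos (by norm_num)
      omega
  · intro hk
    have hz' := card_wt_mod_four_even k hk
    rw [← hz] at hz'
    rcases hcl with ⟨g, hg⟩ | ⟨ζ, hζ, g, hg⟩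
    · exfalso
      have h1 := card_zeros_plus_two (2 * k)
      have h2 : Nat.card {v : evenSub (4 * k + 3) // evenForm (4 * k + 3) v = 0} =
          Nat.card {v : Fin (2 * k + 1) ⊕ Fin (2 * k + 1) → ZMod 2 // Cfsg.quadFormPlus (2 * k + 1) (ZMod 2) v = 0} :=
        Nat.card_congr (g.toEquiv.subtypeEquiv (fun v => by rw [hg v]; rfl))
      rw [← h2] at h1
      have e1 : 2 * (2 * k) + 1 = 4 * k + 1 := by ring
      rw [e1] at h1
      have : 0 < 2 ^ (2 * k) := Nat.pow_pos (by norm_num)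
      omega
    · obtain rfl := irred_zmod2 ζ hζ
      exact ⟨g, hg⟩

end types
end Cfsg.Agent.Lib.Helper15
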