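import Mathlib
import Cfsg.Agent.Lib.Helper15.E2Space
import Cfsg.Agent.Lib.Helper15.QuadCount3
set_option autoImplicit false
namespace Cfsg.Agent.Lib.Helper15

open Matrix QuadraticMap Module

section transfer

/-- a faithful linear action preserving a function gives an embedding into the isometry group of any coordinatisation -/
theorem exists_hom_isometryGroup {F : Type*} [Field F] {G : Type*} [Group G] {V : Type*} [AddCommGroup V] [Module F V]
    (Q : V → F) (r : G →* Module.End F V) (hr : ∀ σ v, Q (r σ v) = Q v) (hinj : Function.Injective r)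
    {ι : Type} [Fintype ι] [DecidableEq ι] (Qs : (ι → F) → F) (g : V ≃ₗ[F] (ι → F)) (hg : ∀ v, Q v = Qs (g v)) :
    ∃ φ : G →* Cfsg.isometryGroup F Qs, Function.Injective φ := by
  let ψ : Module.End F V ≃* Matrix ι ι F := ((g.conjAlgEquiv F).trans LinearMap.toMatrixAlgEquiv').toMulEquiv
  have hψ : ∀ (f : Module.End F V) (u : ι → F), ψ f *ᵥ u = g (f (g.symm u)) := by
    intro f u
    show LinearMap.toMatrixAlgEquiv' (g.conjAlgEquiv F f) *ᵥ u = _
    rw [← Matrix.toLinAlgEquiv'_apply, Matrix.toLinAlgEquiv'_toMatrixAlgEquiv', LinearEquiv.conjAlgEquiv_apply]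
    rfl
  let Φ : G →* GL ι F := (Units.map ψ.toMonoidHom).comp r.toHomUnits
  have hΦ : ∀ σ, ((Φ σ : GL ι F) : Matrix ι ι F) = ψ (r σ) := fun σ => rfl
  have hmem : ∀ σ, Φ σ ∈ Cfsg.isometryGroup F Qs := by
    intro σ
    rw [mem_isometryGroup_iff]
    intro u
    rw [hΦ, hψ, ← hg, hr, hg, LinearEquiv.apply_symm_apply]
  refine ⟨MonoidHom.codRestrict Φ _ hmem, ?_⟩
  intro σ τ h
  have h1 : ((Φ σ : GL ι F) : Matrix ι ι F) = ((Φ τ : GL ι F) : Matrix ι ι F) := by
    have := congrArg (fun x : Cfsg.isometryGroup F Qs => ((x : GL ι F) : Matrix ι ι F)) h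
    exact this
  rw [hΦ, hΦ] at h1
  exact hinj (ψ.injective h1)

end transfer

section action
variable (N : ℕ)

/-- the all-ones vector -/
def ones : Fin (N + 1) → ZMod 2 := fun _ => 1

/-- permutation of coordinates -/
def permLin (σ : Equiv.Perm (Fin (N + 1))) : (Fin (N + 1) → ZMod 2) →ₗ[ZMod 2] (Fin (N + 1) → ZMod 2) :=
  LinearMap.funLeft (ZMod 2) (ZMod 2) σ.symm

theorem permLin_apply (σ : Equiv.Perm (Fin (N + 1))) (u : Fin (N + 1) → ZMod 2) (i : Fin (N + 1)) :
    permLin N σ u i = u (σ.symm i) := rfl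

theorem permLin_mul (σ τ : Equiv.Perm (Fin (N + 1))) (u : Fin (N + 1) → ZMod 2) :
    permLin N (σ * τ) u = permLin N σ (permLin N τ u) := by
  funext i
  rw [permLin_apply, permLin_apply, permLin_apply]
  rfl

theorem permLin_ones (σ : Equiv.Perm (Fin (N + 1))) : permLin N σ (ones N) = ones N := rfl

theorem sum_permLin (σ : Equiv.Perm (Fin (N + 1))) (u : Fin (N + 1) → ZMod 2) : ∑ i, permLin N σ u i = ∑ i, u i :=
  Equiv.sum_comp σ.symm u

theorem e2_permLin (σ : Equiv.Perm (Fin (N + 1))) (u : Fin (N + 1) → ZMod 2) : e2 (permLin N σ u) = e2 u :=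
  e2_comp_equiv σ.symm u

/-- projection onto the hyperplane `u 0 = 0` along the all-ones vector -/
def projOnes : (Fin (N + 1) → ZMod 2) →ₗ[ZMod 2] (Fin (N + 1) → ZMod 2) :=
  LinearMap.id + (LinearMap.proj 0).smulRight (ones N)

theorem projOnes_apply (u : Fin (N + 1) → ZMod 2) : projOnes N u = u + u 0 • ones N := rfl

theorem projOnes_ones : projOnes N (ones N) = 0 := by
  rw [projOnes_apply]
  funext i
  show (1 : ZMod 2) + 1 • 1 = 0
  decide

theorem projOnes_of_mem {v : Fin (N + 1) → ZMod 2} (hv : v ∈ evenSub N) : projOnes N v = v := by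
  rw [projOnes_apply, ((mem_evenSub N v).1 hv).2, zero_smul, add_zero]

variable (hN4 : (N + 1) % 4 = 0)

include hN4 in
theorem card_cast_zero : ((N + 1 : ℕ) : ZMod 2) = 0 := by
  rw [ZMod.natCast_eq_zero_iff]
  omega

include hN4 in
theorem e2_ones : e2 (ones N) = 0 := by
  rw [e2_eq_zero_iff]
  have : wt (ones N) = N + 1 := by
    unfold wt ones
    simp [val_one_two]
  rw [this, hN4]
  norm_num

include hN4 in
theorem sum_ones : ∑ i, ones N i = 0 := by
  unfold ones
  rw [Finset.sum_const, Finset.card_univ, Fintype.card_fin, nsmul_eq_mul, mul_one]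
  exact card_cast_zero N hN4

include hN4 in
theorem e2_add_smul_ones (w : Fin (N + 1) → ZMod 2) (hw : ∑ i, w i = 0) (c : ZMod 2) :
    e2 (w + c • ones N) = e2 w := by
  rw [← e2Form_apply, ← e2Form_apply, QuadraticMap.map_add (e2Form (N + 1)), QuadraticMap.map_smul, polar_smul_right, polar_e2Form, hw,
    zero_mul, zero_add, e2Form_apply (N + 1) (ones N), e2_ones N hN4, smul_zero, add_zero]
  have : w ⬝ᵥ ones N = ∑ i, w i := by
    unfold ones dotProduct
    simp
  rw [this, hw, smul_zero, add_zero]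

include hN4 in
theorem projOnes_mem {w : Fin (N + 1) → ZMod 2} (hw : ∑ i, w i = 0) : projOnes N w ∈ evenSub N := by
  rw [mem_evenSub, projOnes_apply]
  constructor
  · simp only [Pi.add_apply, Pi.smul_apply]
    rw [Finset.sum_add_distrib, hw, zero_add, ← Finset.smul_sum, sum_ones N hN4, smul_zero]
  · show w 0 + w 0 • (1 : ZMod 2) = 0
    rw [smul_eq_mul, mul_one]
    exact CharTwo.add_self_eq_zero _

/-- the twisted permutation action on the ambient space -/
def twist2 (σ : Equiv.Perm (Fin (N + 1))) : (Fin (N + 1) → ZMod 2) →ₗ[ZMod 2] (Fin (N + 1) → ZMod 2) :=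
  projOnes N ∘ₗ permLin N σ

theorem twist2_apply (σ : Equiv.Perm (Fin (N + 1))) (u : Fin (N + 1) → ZMod 2) :
    twist2 N σ u = projOnes N (permLin N σ u) := rfl

theorem twist2_mul (σ τ : Equiv.Perm (Fin (N + 1))) (u : Fin (N + 1) → ZMod 2) :
    twist2 N (σ * τ) u = twist2 N σ (twist2 N τ u) := by
  rw [twist2_apply, twist2_apply, twist2_apply, permLin_mul, projOnes_apply (N := N) (permLin N τ u), map_add, map_smul,
    permLin_ones, map_add, map_smul, projOnes_ones, smul_zero, add_zero]

include hN4 in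
theorem twist2_mem (σ : Equiv.Perm (Fin (N + 1))) {v : Fin (N + 1) → ZMod 2} (hv : v ∈ evenSub N) :
    twist2 N σ v ∈ evenSub N := by
  rw [twist2_apply]
  apply projOnes_mem N hN4
  rw [sum_permLin]
  exact ((mem_evenSub N v).1 hv).1

include hN4 in
theorem e2_twist2 (σ : Equiv.Perm (Fin (N + 1))) {v : Fin (N + 1) → ZMod 2} (hv : v ∈ evenSub N) :
    e2 (twist2 N σ v) = e2 v := by
  rw [twist2_apply, projOnes_apply, e2_add_smul_ones N hN4 _ (by rw [sum_permLin]; exact ((mem_evenSub N v).1 hv).1),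
    e2_permLin]

/-- the action of the symmetric group on the even space -/
def evenAct : Equiv.Perm (Fin (N + 1)) →* Module.End (ZMod 2) (evenSub N) where
  toFun σ := (twist2 N σ).restrict (fun _ hv => twist2_mem N hN4 σ hv)
  map_one' := by
    apply LinearMap.ext
    intro v
    apply Subtype.ext
    show twist2 N 1 v.1 = v.1
    rw [twist2_apply]
    have : permLin N 1 v.1 = v.1 := rfl
    rw [this, projOnes_of_mem N v.2]
  map_mul' σ τ := by
    apply LinearMap.ext
    intro v
    apply Subtype.ext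
    show twist2 N (σ * τ) v.1 = twist2 N σ (twist2 N τ v.1)
    exact twist2_mul N σ τ v.1

theorem evenAct_coe (σ : Equiv.Perm (Fin (N + 1))) (v : evenSub N) :
    ((evenAct N hN4 σ v : evenSub N) : Fin (N + 1) → ZMod 2) = twist2 N σ v.1 := rfl

theorem evenForm_evenAct (σ : Equiv.Perm (Fin (N + 1))) (v : evenSub N) :
    evenForm N (evenAct N hN4 σ v) = evenForm N v := by
  rw [evenForm_apply, evenForm_apply, evenAct_coe, e2_twist2 N hN4 σ v.2]

end action

section faithful
variable (N : ℕ)

theorem exists_notMem_fin (S : Finset (Fin (N + 1))) (h : S.card < N + 1) : ∃ x, x ∉ S := by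
  by_contra hc
  push Not at hc
  have : S = Finset.univ := Finset.eq_univ_iff_forall.2 hc
  rw [this, Finset.card_univ, Fintype.card_fin] at h
  exact lt_irrefl _ h

/-- vector with two ones -/
def pairVec (i j : Fin (N + 1)) : Fin (N + 1) → ZMod 2 := Pi.single i 1 + Pi.single j 1

theorem pairVec_apply (i j t : Fin (N + 1)) :
    pairVec N i j t = (if t = i then 1 else 0) + (if t = j then 1 else 0) := by
  unfold pairVec
  rw [Pi.add_apply, Pi.single_apply, Pi.single_apply]

theorem pairVec_mem {i j : Fin (N + 1)} (hi : i ≠ 0) (hj : j ≠ 0) : pairVec N i j ∈ evenSub N := by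
  rw [mem_evenSub]
  constructor
  · unfold pairVec
    simp only [Pi.add_apply]
    rw [Finset.sum_add_distrib, Finset.sum_pi_single', Finset.sum_pi_single']
    simp only [Finset.mem_univ, if_true]
    exact CharTwo.add_self_eq_zero 1
  · rw [pairVec_apply, if_neg hi.symm, if_neg hj.symm, add_zero]

theorem evenAct_injective (hN4 : (N + 1) % 4 = 0) (hN : 4 ≤ N) : Function.Injective (evenAct N hN4) := by
  classical
  rw [injective_iff_map_eq_one]
  intro σ hσ
  have hfix : ∀ v : Fin (N + 1) → ZMod 2, v ∈ evenSub N → twist2 N σ v = v := by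
    intro v hv
    have := congrArg (fun f : Module.End (ZMod 2) (evenSub N) => ((f ⟨v, hv⟩ : evenSub N) : Fin (N + 1) → ZMod 2)) hσ
    exact this
  have h10 : (1 : ZMod 2) + 0 ≠ 0 + 0 := by decide
  have h1 : ∀ i, i ≠ 0 → i ≠ σ.symm 0 → σ i = i := by
    intro i hi0 hia
    have key : ∀ j', j' ≠ 0 → j' ≠ σ.symm 0 → j' ≠ i → σ i = i ∨ σ i = j' := by
      intro j' hj0 hja hji
      have h2 := hfix _ (pairVec_mem N hi0 hj0)
      rw [twist2_apply, projOnes_apply] at h2
      have h3 : permLin N σ (pairVec N i j') 0 = 0 := by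
        rw [permLin_apply, pairVec_apply, if_neg hia.symm, if_neg hja.symm, add_zero]
      rw [h3, zero_smul, add_zero] at h2
      have h4 := congrFun h2 (σ i)
      rw [permLin_apply, Equiv.symm_apply_apply, pairVec_apply, pairVec_apply] at h4
      by_contra hcon
      push Not at hcon
      rw [if_pos rfl, if_neg hji.symm, if_neg hcon.1, if_neg hcon.2] at h4
      exact h10 h4
    obtain ⟨j, hj⟩ := exists_notMem_fin N {0, σ.symm 0, i} (by
      have := Finset.card_le_three (a := (0 : Fin (N + 1))) (b := σ.symm 0) (c := i)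
      omega)
    obtain ⟨l, hl⟩ := exists_notMem_fin N {0, σ.symm 0, i, j} (by
      have := Finset.card_le_four (a := (0 : Fin (N + 1))) (b := σ.symm 0) (c := i) (d := j)
      omega)
    simp only [Finset.mem_insert, Finset.mem_singleton, not_or] at hj hl
    rcases key j hj.1 hj.2.1 hj.2.2 with h | h
    · exact h
    · rcases key l hl.1 hl.2.1 hl.2.2.1 with h' | h'
      · exact h'
      · exact absurd (h'.symm.trans h) hl.2.2.2
  have h2 : σ.symm 0 = 0 := by
    by_contra ha0
    obtain ⟨i, hi⟩ := exists_notMem_fin N {0, σ.symm 0} (by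
      have := Finset.card_le_two (a := (0 : Fin (N + 1))) (b := σ.symm 0)
      omega)
    obtain ⟨t, ht⟩ := exists_notMem_fin N {0, σ.symm 0, i} (by
      have := Finset.card_le_three (a := (0 : Fin (N + 1))) (b := σ.symm 0) (c := i)
      omega)
    simp only [Finset.mem_insert, Finset.mem_singleton, not_or] at hi ht
    have h3 := hfix _ (pairVec_mem N hi.1 ha0)
    rw [twist2_apply, projOnes_apply] at h3
    have h4 := congrFun h3 t
    simp only [Pi.add_apply, Pi.smul_apply] at h4
    rw [permLin_apply, permLin_apply] at h4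
    have hσt : σ.symm t = t := by
      rw [Equiv.symm_apply_eq]
      exact (h1 t ht.1 ht.2.1).symm
    rw [hσt, pairVec_apply, pairVec_apply, if_neg ht.2.2, if_neg ht.2.1, if_neg (Ne.symm hi.2), if_pos rfl] at h4
    revert h4
    unfold ones
    decide
  apply Equiv.ext
  intro i
  rw [Equiv.Perm.coe_one, id]
  by_cases hi : i = 0
  · subst hi
    rw [Equiv.symm_apply_eq] at h2
    exact h2.symm
  · exact h1 i hi (by rw [h2]; exact hi)

end faithful

section final

theorem sym_embeds_orthogonal (k : ℕ) (hk : 1 ≤ k) :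
    (Odd k → ∃ φ : Equiv.Perm (Fin (4 * k + 3 + 1)) →* ↥(Cfsg.isometryGroup (ZMod 2) (Cfsg.quadFormPlus (2 * k + 1) (ZMod 2))),
      Function.Injective φ) ∧
    (Even k → ∃ φ : Equiv.Perm (Fin (4 * k + 3 + 1)) →* ↥(Cfsg.isometryGroup (ZMod 2) (Cfsg.quadFormMinus (2 * k) (ZMod 2) 1 1)),
      Function.Injective φ) := by
  have hN4 : (4 * k + 3 + 1) % 4 = 0 := by omega
  have hN : 4 ≤ 4 * k + 3 := by omega
  obtain ⟨hodd, heven⟩ := evenForm_type k
  constructor
  · intro hk'
    obtain ⟨g, hg⟩ := hodd hk'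
    exact exists_hom_isometryGroup (fun v => evenForm (4 * k + 3) v) (evenAct (4 * k + 3) hN4)
      (evenForm_evenAct (4 * k + 3) hN4) (evenAct_injective (4 * k + 3) hN4 hN) _ g hg
  · intro hk'
    obtain ⟨g, hg⟩ := heven hk'
    exact exists_hom_isometryGroup (fun v => evenForm (4 * k + 3) v) (evenAct (4 * k + 3) hN4)
      (evenForm_evenAct (4 * k + 3) hN4) (evenAct_injective (4 * k + 3) hN4 hN) _ g hg

end final
end Cfsg.Agent.Lib.Helper15
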