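import Mathlib

/-!
# Eigenvalues in an extension field of matrices over a (finite) field

`eigs Ω M` is the finite set of roots in `Ω` of the characteristic polynomial of `M`.
-/

set_option autoImplicit false

namespace Cfsg.Agent.Lib.Helper15.Eig

open Polynomial Matrix

variable {F : Type*} [Field F] {Ω : Type*} [Field Ω] [Algebra F Ω]
variable {ι : Type*} [Fintype ι] [DecidableEq ι]

/-- the eigenvalues of `M` in `Ω` -/
noncomputable def eigs (Ω : Type*) [Field Ω] [Algebra F Ω] (M : Matrix ι ι F) : Finset Ω := by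
  classical
  exact (M.charpoly.map (algebraMap F Ω)).roots.toFinset

theorem charpoly_map_ne_zero (M : Matrix ι ι F) : M.charpoly.map (algebraMap F Ω) ≠ 0 :=
  (M.charpoly_monic.map (algebraMap F Ω)).ne_zero

theorem mem_eigs_iff_isRoot (M : Matrix ι ι F) (μ : Ω) :
    μ ∈ eigs Ω M ↔ (M.charpoly.map (algebraMap F Ω)).IsRoot μ := by
  classical
  unfold eigs
  rw [Multiset.mem_toFinset, mem_roots (charpoly_map_ne_zero M)]

theorem card_eigs_le (M : Matrix ι ι F) : (eigs Ω M).card ≤ Fintype.card ι := by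
  classical
  unfold eigs
  calc (M.charpoly.map (algebraMap F Ω)).roots.toFinset.card
      ≤ Multiset.card (M.charpoly.map (algebraMap F Ω)).roots := Multiset.toFinset_card_le _
    _ ≤ (M.charpoly.map (algebraMap F Ω)).natDegree := card_roots' _
    _ = M.charpoly.natDegree := natDegree_map _
    _ = Fintype.card ι := M.charpoly_natDegree_eq_dim

/-- eigenvalues are exactly the scalars with a nonzero eigenvector -/
theorem mem_eigs_iff (M : Matrix ι ι F) (μ : Ω) :
    μ ∈ eigs Ω M ↔ ∃ v : ι → Ω, v ≠ 0 ∧ (M.map (algebraMap F Ω)) *ᵥ v = μ • v := by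
  rw [mem_eigs_iff_isRoot, ← Matrix.charpoly_map, ← Matrix.charpoly_toLin',
    ← Module.End.hasEigenvalue_iff_isRoot_charpoly]
  constructor
  · intro h
    obtain ⟨v, hv⟩ := h.exists_hasEigenvector
    refine ⟨v, hv.2, ?_⟩
    have := hv.apply_eq_smul
    rwa [Matrix.toLin'_apply] at this
  · rintro ⟨v, hv0, hv⟩
    apply Module.End.hasEigenvalue_of_hasEigenvector (x := v)
    refine ⟨?_, hv0⟩
    rw [Module.End.mem_eigenspace_iff, Matrix.toLin'_apply]
    exact hv

theorem map_pow_mulVec (M : Matrix ι ι F) (μ : Ω) (v : ι → Ω)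
    (hv : (M.map (algebraMap F Ω)) *ᵥ v = μ • v) (j : ℕ) :
    ((M ^ j).map (algebraMap F Ω)) *ᵥ v = μ ^ j • v := by
  induction j with
  | zero =>
    rw [pow_zero, pow_zero, one_smul, Matrix.map_one _ (map_zero _) (map_one _), Matrix.one_mulVec]
  | succ j ih =>
    rw [pow_succ, Matrix.map_mul, ← Matrix.mulVec_mulVec, hv, Matrix.mulVec_smul, ih, smul_smul,
      pow_succ']

/-- eigenvalues of a matrix of finite order are roots of unity -/
theorem pow_eq_one_of_mem_eigs (M : Matrix ι ι F) (e : ℕ) (hM : M ^ e = 1) (μ : Ω)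
    (hμ : μ ∈ eigs Ω M) : μ ^ e = 1 := by
  obtain ⟨v, hv0, hv⟩ := (mem_eigs_iff M μ).mp hμ
  have h1 := map_pow_mulVec M μ v hv e
  rw [hM, Matrix.map_one _ (map_zero _) (map_one _), Matrix.one_mulVec] at h1
  have h2 : (μ ^ e - 1) • v = 0 := by rw [sub_smul, one_smul, ← h1, sub_self]
  rcases smul_eq_zero.mp h2 with h3 | h3
  · exact sub_eq_zero.mp h3
  · exact absurd h3 hv0

/-- over a finite field the eigenvalue set is stable under the `q`-power map -/
theorem pow_card_mem_eigs [Fintype F] (M : Matrix ι ι F) (μ : Ω) (hμ : μ ∈ eigs Ω M) :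
    μ ^ Fintype.card F ∈ eigs Ω M := by
  rw [mem_eigs_iff_isRoot, IsRoot.def, eval_map_algebraMap] at hμ ⊢
  rw [← expand_aeval, FiniteField.expand_card, map_pow, hμ, zero_pow Fintype.card_ne_zero]

theorem pow_card_pow_mem_eigs [Fintype F] (M : Matrix ι ι F) (μ : Ω) (hμ : μ ∈ eigs Ω M)
    (i : ℕ) : μ ^ (Fintype.card F ^ i) ∈ eigs Ω M := by
  induction i with
  | zero => simpa using hμ
  | succ i ih =>
    rw [pow_succ, pow_mul]
    exact pow_card_mem_eigs M _ ih

/-- a matrix with the same characteristic polynomial has the same eigenvalues -/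
theorem eigs_congr (M N : Matrix ι ι F) (h : M.charpoly = N.charpoly) : eigs Ω M = eigs Ω N := by
  ext μ
  rw [mem_eigs_iff_isRoot, mem_eigs_iff_isRoot, h]

/-- eigenvalues of the inverse -/
theorem inv_mem_eigs_inv (M N : Matrix ι ι F) (hMN : N * M = 1) (μ : Ω) (hμ : μ ∈ eigs Ω M) :
    μ⁻¹ ∈ eigs Ω N := by
  obtain ⟨v, hv0, hv⟩ := (mem_eigs_iff M μ).mp hμ
  have h1 : (N.map (algebraMap F Ω)) *ᵥ ((M.map (algebraMap F Ω)) *ᵥ v) = v := by
    rw [Matrix.mulVec_mulVec, ← Matrix.map_mul, hMN, Matrix.map_one _ (map_zero _) (map_one _),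
      Matrix.one_mulVec]
  rw [hv, Matrix.mulVec_smul] at h1
  have hμ0 : μ ≠ 0 := by
    rintro rfl
    rw [zero_smul] at h1
    exact hv0 h1.symm
  rw [mem_eigs_iff]
  refine ⟨v, hv0, ?_⟩
  calc (N.map (algebraMap F Ω)) *ᵥ v = μ⁻¹ • (μ • (N.map (algebraMap F Ω)) *ᵥ v) := by
        rw [smul_smul, inv_mul_cancel₀ hμ0, one_smul]
    _ = μ⁻¹ • v := by rw [h1]

/-- If `M ^ s ≠ 1` has finite order `r` prime to the characteristic, some eigenvalue `μ` of `M`
(in an algebraically closed field) has `μ ^ s ≠ 1`. -/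
theorem exists_mem_eigs_pow_ne_one [IsAlgClosed Ω] (M : Matrix ι ι F) (r s : ℕ)
    (hrF : (r : F) ≠ 0) (hMr : (M ^ s) ^ r = 1) (hMs : M ^ s ≠ 1) :
    ∃ μ ∈ eigs Ω M, μ ^ s ≠ 1 := by
  set M' := M.map (algebraMap F Ω) with hM'
  set T : Module.End Ω (ι → Ω) := Matrix.toLin' M' with hT
  have hinj : Function.Injective (algebraMap F Ω) := (algebraMap F Ω).injective
  have hrΩ : (r : Ω) ≠ 0 := by
    intro h
    apply hrF
    apply hinj
    rw [map_natCast, h, map_zero]
  set A : Module.End Ω (ι → Ω) := T ^ s with hA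
  have hAr : A ^ r = 1 := by
    rw [hA, ← pow_mul, hT, ← Matrix.toLin'_pow, hM', ← Matrix.map_pow, pow_mul, hMr,
      Matrix.map_one _ (map_zero _) (map_one _), Matrix.toLin'_one]
    rfl
  have hA1 : A ≠ 1 := by
    intro h
    apply hMs
    have h1 : Matrix.toLin' ((M ^ s).map (algebraMap F Ω)) = Matrix.toLin' (1 : Matrix ι ι Ω) := by
      rw [Matrix.map_pow, Matrix.toLin'_pow, Matrix.toLin'_one]
      exact h
    have h2 := Matrix.toLin'.injective h1
    ext i j
    apply hinj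
    have := congrFun (congrFun h2 i) j
    rw [Matrix.map_apply] at this
    rw [this, Matrix.one_apply, Matrix.one_apply]
    split_ifs <;> simp
  set Nr : Module.End Ω (ι → Ω) := ∑ i ∈ Finset.range r, A ^ i with hNr
  have hNA : Nr * (A - 1) = 0 := by
    rw [hNr, geom_sum_mul, hAr, sub_self]
  set W := LinearMap.ker Nr with hW
  have hW0 : W ≠ ⊥ := by
    intro hbot
    apply hA1
    refine LinearMap.ext fun v => ?_
    have h2 : (Nr * (A - 1)) v = 0 := by rw [hNA]; rfl
    rw [Module.End.mul_apply] at h2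
    have h3 : (A - 1) v ∈ W := LinearMap.mem_ker.mpr h2
    rw [hbot, Submodule.mem_bot, LinearMap.sub_apply, Module.End.one_apply, sub_eq_zero] at h3
    rw [h3]; rfl
  have hTN : Commute T Nr := by
    rw [hNr]
    exact Commute.sum_right _ _ _ (fun i _ => ((Commute.refl T).pow_right s).pow_right i)
  have hTW : ∀ w ∈ W, T w ∈ W := by
    intro w hw
    rw [hW, LinearMap.mem_ker] at hw ⊢
    have h2 : (Nr * T) w = (T * Nr) w := by rw [hTN.eq]
    rw [Module.End.mul_apply, Module.End.mul_apply, hw, map_zero] at h2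
    exact h2
  have : Nontrivial W := Submodule.nontrivial_iff_ne_bot.mpr hW0
  obtain ⟨μ, hμ⟩ := Module.End.exists_eigenvalue (T.restrict hTW)
  obtain ⟨w, hw⟩ := hμ.exists_hasEigenvector
  have hw0 : (w : ι → Ω) ≠ 0 := fun h => hw.2 (Subtype.ext h)
  have hTw : T (w : ι → Ω) = μ • (w : ι → Ω) := by
    have := congrArg Subtype.val hw.apply_eq_smul
    simpa using this
  refine ⟨μ, (mem_eigs_iff M μ).mpr ⟨w, hw0, by rw [← Matrix.toLin'_apply]; exact hTw⟩, ?_⟩
  intro hμs
  have hTpow : ∀ j : ℕ, (T ^ j) (w : ι → Ω) = μ ^ j • (w : ι → Ω) := by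
    intro j
    induction j with
    | zero => simp
    | succ j ih => rw [pow_succ, Module.End.mul_apply, hTw, map_smul, ih, smul_smul, pow_succ']
  have hAw : A (w : ι → Ω) = (w : ι → Ω) := by rw [hA, hTpow, hμs, one_smul]
  have hApow : ∀ i : ℕ, (A ^ i) (w : ι → Ω) = (w : ι → Ω) := by
    intro i
    induction i with
    | zero => rfl
    | succ i ih => rw [pow_succ, Module.End.mul_apply, hAw, ih]
  have hNw : Nr (w : ι → Ω) = (r : Ω) • (w : ι → Ω) := by
    rw [hNr, LinearMap.sum_apply, Finset.sum_congr rfl (fun i _ => hApow i), Finset.sum_const,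
      Finset.card_range, Nat.cast_smul_eq_nsmul]
  have hw' : Nr (w : ι → Ω) = 0 := LinearMap.mem_ker.mp w.2
  rw [hNw] at hw'
  rcases smul_eq_zero.mp hw' with h | h
  · exact hrΩ h
  · exact hw0 h

end Cfsg.Agent.Lib.Helper15.Eig
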