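import Mathlib

/-!
# Orbits of roots of unity under `x ↦ x ^ q` and `x ↦ x⁻¹`

Abstract counting in a commutative group, used for eigenvalue sets of elements of classical groups.
-/

set_option autoImplicit false
set_option linter.unusedSectionVars false

namespace Cfsg.Agent.Lib.Helper15.Eig

variable {G : Type*} [CommGroup G] [DecidableEq G]

/-- the `q`-power orbit `g, g^q, g^(q^2), ...` (first `d` terms) -/
def orb (q : ℕ) (g : G) (d : ℕ) : Finset G := (Finset.range d).image (fun i => g ^ (q ^ i))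

/-- the inverses of the `q`-power orbit -/
def orbInv (q : ℕ) (g : G) (d : ℕ) : Finset G := (Finset.range d).image (fun i => (g ^ (q ^ i))⁻¹)

theorem pow_pow_mem (Λ : Finset G) (q : ℕ) (hφ : ∀ g ∈ Λ, g ^ q ∈ Λ) (g : G) (hg : g ∈ Λ) (i : ℕ) :
    g ^ (q ^ i) ∈ Λ := by
  induction i with
  | zero => simpa using hg
  | succ i ih =>
    rw [pow_succ, pow_mul]
    exact hφ _ ih

theorem orb_subset (Λ : Finset G) (q : ℕ) (hφ : ∀ g ∈ Λ, g ^ q ∈ Λ) (g : G) (hg : g ∈ Λ) (d : ℕ) :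
    orb q g d ⊆ Λ := by
  intro x hx
  obtain ⟨i, -, rfl⟩ := Finset.mem_image.mp hx
  exact pow_pow_mem Λ q hφ g hg i

theorem orbInv_subset (Λ : Finset G) (q : ℕ) (hφ : ∀ g ∈ Λ, g ^ q ∈ Λ) (hι : ∀ g ∈ Λ, g⁻¹ ∈ Λ)
    (g : G) (hg : g ∈ Λ) (d : ℕ) : orbInv q g d ⊆ Λ := by
  intro x hx
  obtain ⟨i, -, rfl⟩ := Finset.mem_image.mp hx
  exact hι _ (pow_pow_mem Λ q hφ g hg i)

theorem orderOf_of_mem_orb (q e : ℕ) (g : G) (hg : orderOf g = e) (hqe : q.Coprime e) (d : ℕ)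
    (x : G) (hx : x ∈ orb q g d) : orderOf x = e := by
  obtain ⟨i, -, rfl⟩ := Finset.mem_image.mp hx
  rw [Nat.Coprime.orderOf_pow, hg]
  rw [hg]
  exact (Nat.Coprime.pow_left i hqe).symm

theorem orderOf_of_mem_orbInv (q e : ℕ) (g : G) (hg : orderOf g = e) (hqe : q.Coprime e) (d : ℕ)
    (x : G) (hx : x ∈ orbInv q g d) : orderOf x = e := by
  obtain ⟨i, -, rfl⟩ := Finset.mem_image.mp hx
  rw [orderOf_inv, Nat.Coprime.orderOf_pow, hg]
  rw [hg]
  exact (Nat.Coprime.pow_left i hqe).symm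

theorem zmod_pow_inj (q e : ℕ) (hqe : q.Coprime e) (i j : ℕ)
    (hi : i < orderOf ((q : ℕ) : ZMod e)) (hj : j < orderOf ((q : ℕ) : ZMod e))
    (h : ((q : ℕ) : ZMod e) ^ i = ((q : ℕ) : ZMod e) ^ j) : i = j := by
  set u := ZMod.unitOfCoprime q hqe with hu
  have hu' : ((u : (ZMod e)ˣ) : ZMod e) = (q : ZMod e) := ZMod.coe_unitOfCoprime q hqe
  have h1 : u ^ i = u ^ j := by
    apply Units.ext
    rw [Units.val_pow_eq_pow_val, Units.val_pow_eq_pow_val, hu']
    exact h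
  have h2 := pow_eq_pow_iff_modEq.mp h1
  rw [← orderOf_units, hu'] at h2
  exact h2.eq_of_lt_of_lt hi hj

theorem card_orb (q e : ℕ) (g : G) (hg : orderOf g = e) (hqe : q.Coprime e) :
    (orb q g (orderOf ((q : ℕ) : ZMod e))).card = orderOf ((q : ℕ) : ZMod e) := by
  unfold orb
  rw [Finset.card_image_of_injOn, Finset.card_range]
  intro i hi j hj h
  rw [Finset.coe_range, Set.mem_Iio] at hi hj
  have h1 : q ^ i ≡ q ^ j [MOD e] := by
    rw [← hg]
    exact pow_eq_pow_iff_modEq.mp h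
  have h2 := (ZMod.natCast_eq_natCast_iff _ _ _).mpr h1
  rw [Nat.cast_pow, Nat.cast_pow] at h2
  exact zmod_pow_inj q e hqe i j hi hj h2

theorem card_orbInv (q e : ℕ) (g : G) (hg : orderOf g = e) (hqe : q.Coprime e) :
    (orbInv q g (orderOf ((q : ℕ) : ZMod e))).card = orderOf ((q : ℕ) : ZMod e) := by
  unfold orbInv
  rw [Finset.card_image_of_injOn, Finset.card_range]
  intro i hi j hj h
  rw [Finset.coe_range, Set.mem_Iio] at hi hj
  have h' : g ^ (q ^ i) = g ^ (q ^ j) := inv_injective h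
  have h1 : q ^ i ≡ q ^ j [MOD e] := by
    rw [← hg]
    exact pow_eq_pow_iff_modEq.mp h'
  have h2 := (ZMod.natCast_eq_natCast_iff _ _ _).mpr h1
  rw [Nat.cast_pow, Nat.cast_pow] at h2
  exact zmod_pow_inj q e hqe i j hi hj h2

/-- a coincidence between the orbit and its inverse forces `-1 ∈ ⟨q⟩` modulo `e` -/
theorem exists_pow_eq_neg_one_of_not_disjoint (q e : ℕ) (g : G) (hg : orderOf g = e)
    (hqe : q.Coprime e) (d : ℕ) (h : ¬ Disjoint (orb q g d) (orbInv q g d)) :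
    ∃ t : ℕ, ((q : ℕ) : ZMod e) ^ t = -1 := by
  rw [Finset.not_disjoint_iff] at h
  obtain ⟨x, hx1, hx2⟩ := h
  obtain ⟨i, -, rfl⟩ := Finset.mem_image.mp hx1
  obtain ⟨j, -, hj⟩ := Finset.mem_image.mp hx2
  have h1 : g ^ (q ^ j + q ^ i) = 1 := by
    rw [pow_add, ← hj]
    exact mul_inv_cancel _
  have h2 : e ∣ q ^ j + q ^ i := by
    rw [← hg]
    exact orderOf_dvd_of_pow_eq_one h1
  have h3 : ((q : ℕ) : ZMod e) ^ j + ((q : ℕ) : ZMod e) ^ i = 0 := by
    have := (ZMod.natCast_eq_zero_iff _ _).mpr h2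
    push_cast at this
    exact this
  have hunit : ∀ c : ℕ, IsUnit (((q : ℕ) : ZMod e) ^ c) := by
    intro c
    have : IsUnit ((q : ℕ) : ZMod e) := by
      rw [← ZMod.coe_unitOfCoprime q hqe]
      exact Units.isUnit _
    exact this.pow c
  rcases le_total i j with hij | hij
  · obtain ⟨c, rfl⟩ := Nat.exists_eq_add_of_le hij
    refine ⟨c, ?_⟩
    have h4 : ((q : ℕ) : ZMod e) ^ i * (((q : ℕ) : ZMod e) ^ c + 1) = 0 := by
      rw [mul_add, mul_one, ← pow_add]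
      exact h3
    have h5 := (hunit i).mul_right_eq_zero.mp h4
    exact eq_neg_of_add_eq_zero_left h5
  · obtain ⟨c, rfl⟩ := Nat.exists_eq_add_of_le hij
    refine ⟨c, ?_⟩
    have h4 : ((q : ℕ) : ZMod e) ^ j * (((q : ℕ) : ZMod e) ^ c + 1) = 0 := by
      rw [mul_add, mul_one, ← pow_add, add_comm]
      exact h3
    have h5 := (hunit j).mul_right_eq_zero.mp h4
    exact eq_neg_of_add_eq_zero_left h5

/-- lower bound: the orbit -/
theorem orderOf_le_card (Λ : Finset G) (q : ℕ) (hφ : ∀ g ∈ Λ, g ^ q ∈ Λ) (e : ℕ) (g : G)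
    (hgΛ : g ∈ Λ) (hg : orderOf g = e) (hqe : q.Coprime e) :
    orderOf ((q : ℕ) : ZMod e) ≤ Λ.card := by
  rw [← card_orb q e g hg hqe]
  exact Finset.card_le_card (orb_subset Λ q hφ g hgΛ _)

/-- lower bound: the orbit and its inverse, when `-1 ∉ ⟨q⟩` modulo `e` -/
theorem two_mul_orderOf_le_card (Λ : Finset G) (q : ℕ) (hφ : ∀ g ∈ Λ, g ^ q ∈ Λ)
    (hι : ∀ g ∈ Λ, g⁻¹ ∈ Λ) (e : ℕ) (g : G) (hgΛ : g ∈ Λ) (hg : orderOf g = e)
    (hqe : q.Coprime e) (hns : ¬ ∃ t : ℕ, ((q : ℕ) : ZMod e) ^ t = -1) :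
    2 * orderOf ((q : ℕ) : ZMod e) ≤ Λ.card := by
  set d := orderOf ((q : ℕ) : ZMod e) with hd
  have hdisj : Disjoint (orb q g d) (orbInv q g d) := by
    by_contra h
    exact hns (exists_pow_eq_neg_one_of_not_disjoint q e g hg hqe d h)
  have h1 : (orb q g d ∪ orbInv q g d).card = 2 * d := by
    rw [Finset.card_union_of_disjoint hdisj, card_orb q e g hg hqe, card_orbInv q e g hg hqe]
    ring
  rw [← h1]
  exact Finset.card_le_card (Finset.union_subset (orb_subset Λ q hφ g hgΛ _)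
    (orbInv_subset Λ q hφ hι g hgΛ _))

/-- the full `⟨q, -1⟩`-orbit of an element of order `e` -/
noncomputable def fullOrb (q e : ℕ) (g : G) : Finset G :=
  orb q g (orderOf ((q : ℕ) : ZMod e)) ∪ orbInv q g (orderOf ((q : ℕ) : ZMod e))

theorem fullOrb_subset (Λ : Finset G) (q : ℕ) (hφ : ∀ g ∈ Λ, g ^ q ∈ Λ)
    (hι : ∀ g ∈ Λ, g⁻¹ ∈ Λ) (e : ℕ) (g : G) (hgΛ : g ∈ Λ) : fullOrb q e g ⊆ Λ :=
  Finset.union_subset (orb_subset Λ q hφ g hgΛ _) (orbInv_subset Λ q hφ hι g hgΛ _)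

theorem orderOf_of_mem_fullOrb (q e : ℕ) (g : G) (hg : orderOf g = e) (hqe : q.Coprime e)
    (x : G) (hx : x ∈ fullOrb q e g) : orderOf x = e := by
  rcases Finset.mem_union.mp hx with h | h
  · exact orderOf_of_mem_orb q e g hg hqe _ x h
  · exact orderOf_of_mem_orbInv q e g hg hqe _ x h

/-- the size of the full orbit is at least `2 η(k)` where `k = ord_e(q)`, for `e ≥ 3` prime-like
(only `(1 : ZMod e) ≠ -1` is needed) -/
theorem le_card_fullOrb (q e : ℕ) (g : G) (hg : orderOf g = e) (hqe : q.Coprime e)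
    (he : (1 : ZMod e) ≠ -1) (η : ℕ)
    (hη : (Odd (orderOf ((q : ℕ) : ZMod e)) ∧ η = orderOf ((q : ℕ) : ZMod e)) ∨
      (Even (orderOf ((q : ℕ) : ZMod e)) ∧ 2 * η = orderOf ((q : ℕ) : ZMod e))) :
    2 * η ≤ (fullOrb q e g).card := by
  set d := orderOf ((q : ℕ) : ZMod e) with hd
  rcases hη with ⟨hodd, rfl⟩ | ⟨-, h2⟩
  · have hdisj : Disjoint (orb q g d) (orbInv q g d) := by
      by_contra h
      obtain ⟨t, ht⟩ := exists_pow_eq_neg_one_of_not_disjoint q e g hg hqe d h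
      have h1 : ((q : ℕ) : ZMod e) ^ (2 * t) = 1 := by
        rw [mul_comm, pow_mul, ht]; ring
      have h3 : d ∣ 2 * t := orderOf_dvd_of_pow_eq_one h1
      have h4 : d ∣ t := (Nat.Coprime.dvd_mul_left (Nat.coprime_two_right.mpr hodd)).mp h3
      have h5 : ((q : ℕ) : ZMod e) ^ t = 1 := orderOf_dvd_iff_pow_eq_one.mp h4
      rw [h5] at ht
      exact he ht
    unfold fullOrb
    rw [Finset.card_union_of_disjoint hdisj, card_orb q e g hg hqe, card_orbInv q e g hg hqe]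
    omega
  · rw [h2]
    unfold fullOrb
    calc d = (orb q g d).card := (card_orb q e g hg hqe).symm
      _ ≤ _ := Finset.card_le_card Finset.subset_union_left

end Cfsg.Agent.Lib.Helper15.Eig
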