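import Mathlib
import Cfsg.Agent.Lib.Helper15.EigF2

/-!
# Eigenvalue orbits of an element of order `r s`, and the arithmetic of `η`
-/

set_option autoImplicit false
set_option linter.unusedSectionVars false

namespace Cfsg.Agent.Lib.Helper15.Eig

theorem one_ne_neg_one_zmod (r : ℕ) (hr : r.Prime) (hr2 : r ≠ 2) : (1 : ZMod r) ≠ -1 := by
  intro h
  have h1 : ((2 : ℕ) : ZMod r) = 0 := by
    push_cast
    linear_combination h
  rw [ZMod.natCast_eq_zero_iff] at h1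
  exact hr2 ((Nat.prime_dvd_prime_iff_eq hr Nat.prime_two).mp h1)

theorem orderOf_zmod_pos (q e : ℕ) (hqe : q.Coprime e) (he : 0 < e) :
    0 < orderOf ((q : ℕ) : ZMod e) := by
  rw [← ZMod.coe_unitOfCoprime q hqe, orderOf_units]
  have h1 := ZMod.pow_totient (ZMod.unitOfCoprime q hqe)
  have h2 := orderOf_dvd_of_pow_eq_one h1
  exact Nat.pos_of_dvd_of_pos h2 (Nat.totient_pos.mpr he)

/-- casting `q ^ t = -1` from `ZMod (r s)` down to `ZMod r` -/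
theorem pow_eq_neg_one_cast (q m e t : ℕ) (hem : e ∣ m) (h : ((q : ℕ) : ZMod m) ^ t = -1) :
    ((q : ℕ) : ZMod e) ^ t = -1 := by
  have := congrArg (ZMod.castHom hem (ZMod e)) h
  rw [map_pow, map_natCast, map_neg, map_one] at this
  exact this

theorem orderOf_dvd_orderOf_cast (q m e : ℕ) (hem : e ∣ m) :
    orderOf ((q : ℕ) : ZMod e) ∣ orderOf ((q : ℕ) : ZMod m) := by
  apply orderOf_dvd_of_pow_eq_one
  have h := pow_orderOf_eq_one ((q : ℕ) : ZMod m)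
  have := congrArg (ZMod.castHom hem (ZMod e)) h
  rw [map_pow, map_natCast, map_one] at this
  exact this

/-- `x ^ t = -1` in `ZMod r` (`r` an odd prime): `2 t` is an odd multiple of the order of `x` -/
theorem exists_odd_of_pow_eq_neg_one (r : ℕ) (hr : r.Prime) (hr2 : r ≠ 2) (x : ZMod r) (t : ℕ)
    (h : x ^ t = -1) : ∃ a : ℕ, Odd a ∧ 2 * t = orderOf x * a := by
  have h1 : x ^ (2 * t) = 1 := by
    rw [mul_comm, pow_mul, h]; ring
  obtain ⟨a, ha⟩ := orderOf_dvd_of_pow_eq_one h1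
  refine ⟨a, ?_, ha⟩
  by_contra hodd
  rw [Nat.not_odd_iff_even] at hodd
  obtain ⟨c, rfl⟩ := hodd
  have h2 : t = orderOf x * c := by
    have : 2 * t = 2 * (orderOf x * c) := by rw [ha]; ring
    omega
  have h3 : x ^ t = 1 := by rw [h2, pow_mul, pow_orderOf_eq_one, one_pow]
  rw [h3] at h
  exact one_ne_neg_one_zmod r hr hr2 h

variable {G : Type*} [CommGroup G] [DecidableEq G]

theorem orderOf_eq_of_dvd_mul_primes (r s : ℕ) (hr : r.Prime) (hs : s.Prime) (g : G)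
    (hg : g ^ (r * s) = 1) (hgs : g ^ s ≠ 1) (hrs : orderOf g ≠ r * s) : orderOf g = r := by
  have h1 : orderOf g ∣ r * s := orderOf_dvd_of_pow_eq_one hg
  obtain ⟨a, b, ha, hb, hab⟩ := (Nat.dvd_mul).mp h1
  have h2 : ¬ orderOf g ∣ s := fun h => hgs (orderOf_dvd_iff_pow_eq_one.mp h)
  rcases (Nat.dvd_prime hr).mp ha with rfl | rfl
  · exfalso
    apply h2
    rw [← hab, one_mul]
    exact hb
  · rcases (Nat.dvd_prime hs).mp hb with rfl | rfl
    · rw [← hab, mul_one]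
    · exact absurd hab.symm hrs

/-- **Eigenvalue count for an element of order `r s`.** -/
theorem card_bound_of_order_mul (Λ : Finset G) (q : ℕ) (hφ : ∀ g ∈ Λ, g ^ q ∈ Λ)
    (hι : ∀ g ∈ Λ, g⁻¹ ∈ Λ) (r s : ℕ) (hr : r.Prime) (hs : s.Prime) (hr2 : r ≠ 2) (hs2 : s ≠ 2)
    (hrs : r ≠ s) (hqr : q.Coprime r) (hqs : q.Coprime s)
    (hΛ : ∀ g ∈ Λ, g ^ (r * s) = 1) (h1 : ∃ g ∈ Λ, g ^ s ≠ 1) (h2 : ∃ g ∈ Λ, g ^ r ≠ 1)
    (ηk ηl : ℕ)
    (hηk : (Odd (orderOf ((q : ℕ) : ZMod r)) ∧ ηk = orderOf ((q : ℕ) : ZMod r)) ∨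
      (Even (orderOf ((q : ℕ) : ZMod r)) ∧ 2 * ηk = orderOf ((q : ℕ) : ZMod r)))
    (hηl : (Odd (orderOf ((q : ℕ) : ZMod s)) ∧ ηl = orderOf ((q : ℕ) : ZMod s)) ∨
      (Even (orderOf ((q : ℕ) : ZMod s)) ∧ 2 * ηl = orderOf ((q : ℕ) : ZMod s))) :
    2 * ηk + 2 * ηl ≤ Λ.card ∨
    ((∃ t : ℕ, ((q : ℕ) : ZMod r) ^ t = -1 ∧ ((q : ℕ) : ZMod s) ^ t = -1) ∧
      Nat.lcm (orderOf ((q : ℕ) : ZMod r)) (orderOf ((q : ℕ) : ZMod s)) ≤ Λ.card) ∨
    2 * Nat.lcm (orderOf ((q : ℕ) : ZMod r)) (orderOf ((q : ℕ) : ZMod s)) ≤ Λ.card := by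
  have hqrs : q.Coprime (r * s) := Nat.Coprime.mul_right hqr hqs
  have hrspos : 0 < r * s := Nat.mul_pos hr.pos hs.pos
  by_cases hex : ∃ g ∈ Λ, orderOf g = r * s
  · obtain ⟨g, hgΛ, hg⟩ := hex
    right
    set L := orderOf ((q : ℕ) : ZMod (r * s)) with hL
    have hLpos : 0 < L := orderOf_zmod_pos q (r * s) hqrs hrspos
    have hlcm : Nat.lcm (orderOf ((q : ℕ) : ZMod r)) (orderOf ((q : ℕ) : ZMod s)) ≤ L :=
      Nat.le_of_dvd hLpos (Nat.lcm_dvd (orderOf_dvd_orderOf_cast q (r * s) r (dvd_mul_right r s))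
        (orderOf_dvd_orderOf_cast q (r * s) s (dvd_mul_left s r)))
    by_cases hsd : ∃ t : ℕ, ((q : ℕ) : ZMod (r * s)) ^ t = -1
    · left
      obtain ⟨t, ht⟩ := hsd
      exact ⟨⟨t, pow_eq_neg_one_cast q (r * s) r t (dvd_mul_right r s) ht,
        pow_eq_neg_one_cast q (r * s) s t (dvd_mul_left s r) ht⟩,
        hlcm.trans (orderOf_le_card Λ q hφ (r * s) g hgΛ hg hqrs)⟩
    · right
      have := two_mul_orderOf_le_card Λ q hφ hι (r * s) g hgΛ hg hqrs hsd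
      omega
  · left
    rw [not_exists] at hex
    obtain ⟨g1, hg1Λ, hg1⟩ := h1
    obtain ⟨g2, hg2Λ, hg2⟩ := h2
    have ho1 : orderOf g1 = r := orderOf_eq_of_dvd_mul_primes r s hr hs g1 (hΛ g1 hg1Λ) hg1
      (fun h => hex g1 ⟨hg1Λ, h⟩)
    have ho2 : orderOf g2 = s := orderOf_eq_of_dvd_mul_primes s r hs hr g2
      (by rw [mul_comm]; exact hΛ g2 hg2Λ) hg2 (fun h => hex g2 ⟨hg2Λ, by rw [h, mul_comm]⟩)
    have hc1 := le_card_fullOrb q r g1 ho1 hqr (one_ne_neg_one_zmod r hr hr2) ηk hηk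
    have hc2 := le_card_fullOrb q s g2 ho2 hqs (one_ne_neg_one_zmod s hs hs2) ηl hηl
    have hdisj : Disjoint (fullOrb q r g1) (fullOrb q s g2) := by
      rw [Finset.disjoint_left]
      intro x hx1 hx2
      have e1 := orderOf_of_mem_fullOrb q r g1 ho1 hqr x hx1
      have e2 := orderOf_of_mem_fullOrb q s g2 ho2 hqs x hx2
      exact hrs (e1.symm.trans e2)
    have hsub : fullOrb q r g1 ∪ fullOrb q s g2 ⊆ Λ :=
      Finset.union_subset (fullOrb_subset Λ q hφ hι r g1 hg1Λ) (fullOrb_subset Λ q hφ hι s g2 hg2Λ)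
    have := Finset.card_le_card hsub
    rw [Finset.card_union_of_disjoint hdisj] at this
    omega

/-- if `l ∣ m`, `0 < m < 2 l` then `m = l` -/
theorem eq_of_dvd_of_lt_two_mul (l m : ℕ) (h : l ∣ m) (hm : 0 < m) (hlt : m < 2 * l) : m = l := by
  obtain ⟨c, rfl⟩ := h
  have hc : c = 1 := by
    rcases Nat.lt_or_ge c 2 with h | h
    · have : c ≠ 0 := by rintro rfl; omega
      omega
    · have : 2 * l ≤ l * c := by nlinarith
      omega
  rw [hc, mul_one]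

/-- **Arithmetic, self-dual case.** -/
theorem exists_odd_mul_of_selfdual (k l ηk ηl n a b t : ℕ) (hk0 : 0 < k) (hl0 : 0 < l)
    (hηk : (Odd k ∧ ηk = k) ∨ (Even k ∧ 2 * ηk = k))
    (hηl : (Odd l ∧ ηl = l) ∨ (Even l ∧ 2 * ηl = l)) (hkl : ηk ≤ ηl) (hn : n < ηk + ηl)
    (ha : Odd a) (hb : Odd b) (hka : 2 * t = k * a) (hlb : 2 * t = l * b)
    (hlcm : Nat.lcm k l ≤ 2 * n) : ∃ t' : ℕ, Odd t' ∧ l = k * t' := by
  have hkev : Even k := by
    have h1 : Even (k * a) := ⟨t, by omega⟩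
    rcases Nat.even_mul.mp h1 with h | h
    · exact h
    · exact absurd h (Nat.not_even_iff_odd.mpr ha)
  have hlev : Even l := by
    have h1 : Even (l * b) := ⟨t, by omega⟩
    rcases Nat.even_mul.mp h1 with h | h
    · exact h
    · exact absurd h (Nat.not_even_iff_odd.mpr hb)
  have hk2 : 2 * ηk = k := by
    rcases hηk with ⟨h, _⟩ | ⟨_, h⟩
    · exact absurd hkev (Nat.not_even_iff_odd.mpr h)
    · exact h
  have hl2 : 2 * ηl = l := by
    rcases hηl with ⟨h, _⟩ | ⟨_, h⟩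
    · exact absurd hlev (Nat.not_even_iff_odd.mpr h)
    · exact h
  have hpos : 0 < Nat.lcm k l := Nat.lcm_pos hk0 hl0
  have heq : Nat.lcm k l = l :=
    eq_of_dvd_of_lt_two_mul l _ (Nat.dvd_lcm_right k l) hpos (by omega)
  have hdvd : k ∣ l := by
    rw [← heq]; exact Nat.dvd_lcm_left k l
  obtain ⟨t', rfl⟩ := hdvd
  refine ⟨t', ?_, rfl⟩
  by_contra hodd
  rw [Nat.not_odd_iff_even] at hodd
  have h1 : k * a = k * (t' * b) := by rw [← hka, hlb]; ring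
  have h2 : a = t' * b := Nat.eq_of_mul_eq_mul_left hk0 h1
  have h3 : Even a := by rw [h2]; exact hodd.mul_right b
  exact (Nat.not_even_iff_odd.mpr ha) h3

/-- **Arithmetic, non-self-dual case.** -/
theorem exists_odd_mul_of_not_selfdual (k l ηk ηl n : ℕ) (hk0 : 0 < k) (hl0 : 0 < l)
    (hηk : (Odd k ∧ ηk = k) ∨ (Even k ∧ 2 * ηk = k))
    (hηl : (Odd l ∧ ηl = l) ∨ (Even l ∧ 2 * ηl = l)) (hkl : ηk ≤ ηl) (hn : n < ηk + ηl)
    (hlcm : 2 * Nat.lcm k l ≤ 2 * n) : ∃ t' : ℕ, Odd t' ∧ l = k * t' := by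
  have hηkle : ηk ≤ k := by rcases hηk with ⟨_, h⟩ | ⟨_, h⟩ <;> omega
  have hηlle : ηl ≤ l := by rcases hηl with ⟨_, h⟩ | ⟨_, h⟩ <;> omega
  have hpos : 0 < Nat.lcm k l := Nat.lcm_pos hk0 hl0
  have heq : Nat.lcm k l = l :=
    eq_of_dvd_of_lt_two_mul l _ (Nat.dvd_lcm_right k l) hpos (by omega)
  have hdvd : k ∣ l := by
    rw [← heq]; exact Nat.dvd_lcm_left k l
  obtain ⟨t', rfl⟩ := hdvd
  refine ⟨t', ?_, rfl⟩
  by_contra hodd
  rw [Nat.not_odd_iff_even] at hodd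
  obtain ⟨c, rfl⟩ := hodd
  have hc : 0 < c := by
    rcases Nat.eq_zero_or_pos c with rfl | h
    · simp at hl0
    · exact h
  have hlev : Even (k * (c + c)) := ⟨k * c, by ring⟩
  have hl2 : 2 * ηl = k * (c + c) := by
    rcases hηl with ⟨h, _⟩ | ⟨_, h⟩
    · exact absurd hlev (Nat.not_even_iff_odd.mpr h)
    · exact h
  have h1 : ηl = k * c := by
    have : 2 * ηl = 2 * (k * c) := by rw [hl2]; ring
    omega
  have h2 : k ≤ k * c := Nat.le_mul_of_pos_right k hc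
  rw [heq] at hlcm
  have h3 : k * (c + c) = 2 * (k * c) := by ring
  omega

end Cfsg.Agent.Lib.Helper15.Eig
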