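import Mathlib
import Cfsg.Agent.Lib.Helper15.EigF1

/-!
# Matrices with a full set of distinct eigenvalues
-/

set_option autoImplicit false
set_option linter.unusedSectionVars false

namespace Cfsg.Agent.Lib.Helper15.Eig

open Matrix Module

section
variable {K : Type*} [Field K] {ι : Type*} [Fintype ι] [DecidableEq ι]

/-- an eigenbasis for a matrix with `card ι` distinct eigenvalues -/
theorem exists_eigenbasis [Nonempty ι] (M : Matrix ι ι K) (S : Finset K)
    (hS : S.card = Fintype.card ι)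
    (hev : ∀ ν ∈ S, ∃ v : ι → K, v ≠ 0 ∧ M *ᵥ v = ν • v) :
    ∃ b : Basis S K (ι → K), ∀ ν : S, Matrix.toLin' M (b ν) = (ν : K) • b ν := by
  classical
  choose v hv0 hv using hev
  set xs : S → (ι → K) := fun ν => v ν.1 ν.2 with hxs
  have heig : ∀ ν : S, Module.End.HasEigenvector (Matrix.toLin' M) (ν : K) (xs ν) := by
    intro ν
    refine ⟨?_, hv0 ν.1 ν.2⟩
    rw [Module.End.mem_eigenspace_iff, Matrix.toLin'_apply]
    exact hv ν.1 ν.2
  have hSne : Nonempty S := by
    have : 0 < S.card := by rw [hS]; exact Fintype.card_pos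
    obtain ⟨x, hx⟩ := Finset.card_pos.mp this
    exact ⟨⟨x, hx⟩⟩
  have hli : LinearIndependent K xs :=
    Module.End.eigenvectors_linearIndependent' (Matrix.toLin' M) (fun ν : S => (ν : K))
      Subtype.val_injective xs heig
  have hcard : Fintype.card S = finrank K (ι → K) := by
    rw [Fintype.card_coe, hS, Module.finrank_fintype_fun_eq_card]
  refine ⟨basisOfLinearIndependentOfCardEqFinrank hli hcard, ?_⟩
  intro ν
  rw [coe_basisOfLinearIndependentOfCardEqFinrank]
  exact (heig ν).apply_eq_smul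

/-- a matrix all of whose (distinct, full set of) eigenvalues have the same `t`-th power `c` has
`M ^ t = c` -/
theorem pow_eq_smul_of_card_eigs [Nonempty ι] (M : Matrix ι ι K) (S : Finset K)
    (hS : S.card = Fintype.card ι)
    (hev : ∀ ν ∈ S, ∃ v : ι → K, v ≠ 0 ∧ M *ᵥ v = ν • v) (t : ℕ) (c : K)
    (hc : ∀ ν ∈ S, ν ^ t = c) : M ^ t = c • (1 : Matrix ι ι K) := by
  obtain ⟨b, hb⟩ := exists_eigenbasis M S hS hev
  apply Matrix.toLin'.injective
  apply b.ext
  intro ν
  have h1 : ∀ j : ℕ, Matrix.toLin' (M ^ j) (b ν) = (ν : K) ^ j • b ν := by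
    intro j
    induction j with
    | zero => simp
    | succ j ih =>
      rw [pow_succ, Matrix.toLin'_mul, LinearMap.comp_apply, hb, map_smul, ih, smul_smul, pow_succ']
  rw [h1, hc ν.1 ν.2, map_smul, Matrix.toLin'_one, LinearMap.smul_apply, LinearMap.id_apply]

theorem det_eq_prod_of_card_eigs [Nonempty ι] (M : Matrix ι ι K) (S : Finset K)
    (hS : S.card = Fintype.card ι)
    (hev : ∀ ν ∈ S, ∃ v : ι → K, v ≠ 0 ∧ M *ᵥ v = ν • v) : M.det = ∏ ν ∈ S, ν := by
  classical
  obtain ⟨b, hb⟩ := exists_eigenbasis M S hS hev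
  rw [← LinearMap.det_toLin', ← LinearMap.det_toMatrix b]
  have h1 : LinearMap.toMatrix b b (Matrix.toLin' M) = Matrix.diagonal (fun ν : S => (ν : K)) := by
    ext i j
    rw [LinearMap.toMatrix_apply, hb, map_smul, Finsupp.smul_apply, b.repr_self,
      Matrix.diagonal_apply]
    by_cases hij : i = j
    · subst hij
      simp
    · rw [if_neg hij, Finsupp.single_apply, if_neg (fun h => hij h.symm), smul_zero]
  rw [h1, Matrix.det_diagonal]
  exact Finset.prod_coe_sort S (fun ν => ν)

end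

section
variable {F : Type*} [Field F] {Ω : Type*} [Field Ω] [Algebra F Ω]
variable {ι : Type*} [Fintype ι] [DecidableEq ι]

/-- if the eigenvalue set of `M` in `Ω` is full and all `t`-th powers of eigenvalues coincide,
`M ^ t` is a scalar matrix over `F` -/
theorem pow_scalar_of_card_eigs [Nonempty ι] (M : Matrix ι ι F)
    (hS : (eigs Ω M).card = Fintype.card ι) (t : ℕ) (c : Ω) (hc : ∀ ν ∈ eigs Ω M, ν ^ t = c) :
    ∃ c₀ : F, M ^ t = c₀ • (1 : Matrix ι ι F) := by
  have hinj : Function.Injective (algebraMap F Ω) := (algebraMap F Ω).injective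
  have h1 := pow_eq_smul_of_card_eigs (M.map (algebraMap F Ω)) (eigs Ω M) hS
    (fun ν hν => (mem_eigs_iff M ν).mp hν) t c hc
  rw [← Matrix.map_pow] at h1
  obtain ⟨i0⟩ := ‹Nonempty ι›
  refine ⟨(M ^ t) i0 i0, ?_⟩
  ext i j
  apply hinj
  have h2 := congrFun (congrFun h1 i) j
  have h3 := congrFun (congrFun h1 i0) i0
  rw [Matrix.map_apply] at h2 h3
  rw [h2, Matrix.smul_apply, Matrix.smul_apply, Matrix.one_apply, Matrix.one_apply]
  rw [Matrix.smul_apply, Matrix.one_apply_eq, smul_eq_mul, mul_one] at h3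
  by_cases hij : i = j
  · rw [if_pos hij, if_pos hij, smul_eq_mul, mul_one, smul_eq_mul, mul_one, h3]
  · rw [if_neg hij, if_neg hij, smul_zero, smul_zero, map_zero]

theorem prod_eigs_eq_one_of_det [Nonempty ι] (M : Matrix ι ι F) (hS : (eigs Ω M).card = Fintype.card ι)
    (hdet : M.det = 1) : ∏ ν ∈ eigs Ω M, ν = 1 := by
  have h1 := det_eq_prod_of_card_eigs (M.map (algebraMap F Ω)) (eigs Ω M) hS
    (fun ν hν => (mem_eigs_iff M ν).mp hν)
  rw [← h1]
  have : (M.map (algebraMap F Ω)).det = algebraMap F Ω M.det := by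
    rw [← RingHom.mapMatrix_apply, ← RingHom.map_det]
  rw [this, hdet, map_one]

end

end Cfsg.Agent.Lib.Helper15.Eig
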