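import Mathlib
import Cfsg.Agent.Lib.Helper15.EigF7
import Cfsg.Agent.Lib.Helper15.EigF3

/-!
# Eigenvalues of matrices commuting with (powers giving) a primitive-prime-divisor element:
the Singer case
-/

set_option autoImplicit false
set_option linter.unusedSectionVars false

namespace Cfsg.Agent.Lib.Helper15.Eig

open Matrix Module

/-- in characteristic `p` the order of a unit of finite order is prime to `p` -/
theorem not_dvd_orderOf_units {K : Type*} [Field K] (p : ℕ) [Fact p.Prime] [CharP K p] (x : Kˣ)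
    (hx : 0 < orderOf x) : ¬ p ∣ orderOf x := by
  have hp := (Fact.out : p.Prime)
  rintro ⟨c, hc⟩
  have hc0 : 0 < c := by
    rcases Nat.eq_zero_or_pos c with rfl | h
    · rw [mul_zero] at hc; omega
    · exact h
  have h1 : ((x : K) ^ c) ^ p = 1 := by
    rw [← pow_mul, mul_comm, ← hc, ← Units.val_pow_eq_pow_val, pow_orderOf_eq_one, Units.val_one]
  have h2 : (x : K) ^ c = 1 := by
    have h3 : frobenius K p ((x : K) ^ c) = frobenius K p 1 := by
      rw [frobenius_def, frobenius_def, h1, one_pow]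
    exact frobenius_inj K p h3
  have h4 : x ^ c = 1 := by
    apply Units.ext
    rw [Units.val_pow_eq_pow_val, h2, Units.val_one]
  have h5 := orderOf_dvd_of_pow_eq_one h4
  have h6 := Nat.le_of_dvd hc0 h5
  have : 2 ≤ p := hp.two_le
  nlinarith

variable {F : Type*} [Field F] [Fintype F]

/-- **Singer eigenvalues.** If `M ^ s` has prime order `r` with `ord_r(q) = n` (so `M` lies in a
Singer cycle), the eigenvalues of `M` are the `n` distinct Frobenius conjugates of a single one. -/
theorem exists_singer_eigs [DecidableEq (AlgebraicClosure F)] (p : ℕ) [Fact p.Prime] [CharP F p]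
    {n : ℕ}
    (M : Matrix (Fin n) (Fin n) F) (r s : ℕ) (hr : r.Prime) (hrF : (r : F) ≠ 0)
    (hn : orderOf ((Fintype.card F : ℕ) : ZMod r) = n) (hM : M ^ (s * r) = 1) (hMs : M ^ s ≠ 1) :
    ∃ μ : AlgebraicClosure F, μ ≠ 0 ∧
      eigs (AlgebraicClosure F) M
        = (Finset.range n).image (fun i => μ ^ (Fintype.card F ^ i)) ∧
      (eigs (AlgebraicClosure F) M).card = n := by
  have hp := (Fact.out : p.Prime)
  let Ω := AlgebraicClosure F
  set q := Fintype.card F with hq
  have : CharP Ω p := charP_of_injective_algebraMap (algebraMap F Ω).injective p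
  set Λ : Finset Ω := eigs Ω M with hΛ
  have hcard : Λ.card ≤ n := by
    have h : Λ.card ≤ Fintype.card (Fin n) := card_eigs_le (Ω := Ω) M
    rwa [Fintype.card_fin] at h
  have hsr0 : 0 < s * r := by
    rcases Nat.eq_zero_or_pos (s * r) with h | h
    · exfalso
      rcases Nat.mul_eq_zero.mp h with h1 | h1
      · apply hMs
        rw [h1, pow_zero]
      · exact hr.ne_zero h1
    · exact h
  have hroot : ∀ ν ∈ Λ, ν ^ (s * r) = 1 := fun ν hν => pow_eq_one_of_mem_eigs M (s * r) hM ν hν
  have hne0 : ∀ ν ∈ Λ, ν ≠ 0 := by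
    intro ν hν h0
    have := hroot ν hν
    rw [h0, zero_pow hsr0.ne'] at this
    exact zero_ne_one this
  obtain ⟨μ, hμΛ, hμs⟩ := exists_mem_eigs_pow_ne_one (Ω := Ω) M r s hrF
    (by rw [← pow_mul, hM]) hMs
  set Λu : Finset Ωˣ := Λ.preimage Units.val Units.val_injective.injOn with hΛu
  have hmem : ∀ u : Ωˣ, u ∈ Λu ↔ (u : Ω) ∈ Λ := fun u => Finset.mem_preimage
  have hcardu : Λu.card ≤ Λ.card := by
    apply Finset.card_le_card_of_injOn Units.val
    · intro u hu
      exact (hmem u).mp (Finset.mem_coe.mp hu)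
    · exact Units.val_injective.injOn
  have hφ : ∀ u ∈ Λu, u ^ q ∈ Λu := by
    intro u hu
    rw [hmem] at hu ⊢
    rw [Units.val_pow_eq_pow_val]
    exact pow_card_mem_eigs M _ hu
  set μu : Ωˣ := Units.mk0 μ (hne0 μ hμΛ) with hμu
  have hμuΛ : μu ∈ Λu := (hmem _).mpr hμΛ
  have hμupow : μu ^ (s * r) = 1 := by
    apply Units.ext
    rw [Units.val_pow_eq_pow_val]
    exact hroot μ hμΛ
  set e := orderOf μu with he
  have he0 : 0 < e := by
    rw [he, orderOf_pos_iff, isOfFinOrder_iff_pow_eq_one]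
    exact ⟨s * r, hsr0, hμupow⟩
  have hre : r ∣ e := by
    by_contra hre
    have h1 : e ∣ s * r := orderOf_dvd_of_pow_eq_one hμupow
    have h2 : e.Coprime r := (Nat.Prime.coprime_iff_not_dvd hr).mpr hre |>.symm
    have h3 : e ∣ s := h2.dvd_of_dvd_mul_right h1
    apply hμs
    have h4 : μu ^ s = 1 := orderOf_dvd_iff_pow_eq_one.mp h3
    have := congrArg Units.val h4
    rwa [Units.val_pow_eq_pow_val] at this
  have hqe : q.Coprime e := by
    obtain ⟨f, _, hf⟩ := FiniteField.card F p
    rw [hq, hf]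
    apply Nat.Coprime.pow_left
    exact (Nat.Prime.coprime_iff_not_dvd hp).mpr (not_dvd_orderOf_units p μu he0)
  set L := orderOf ((q : ℕ) : ZMod e) with hL
  have hLpos : 0 < L := orderOf_zmod_pos q e hqe he0
  have hnL : n ∣ L := by
    rw [← hn]
    exact orderOf_dvd_orderOf_cast q e r hre
  have hLle : L ≤ Λu.card := orderOf_le_card Λu q hφ e μu hμuΛ rfl hqe
  have hLn : L = n := by
    have h1 := Nat.le_of_dvd hLpos hnL
    omega
  have horb : orb q μu L ⊆ Λu := orb_subset Λu q hφ μu hμuΛ L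
  have horbcard : (orb q μu L).card = L := card_orb q e μu rfl hqe
  have hΛueq : orb q μu L = Λu := Finset.eq_of_subset_of_card_le horb (by omega)
  have hcardeq : Λ.card = n := by omega
  refine ⟨μ, hne0 μ hμΛ, ?_, hcardeq⟩
  ext ν
  rw [Finset.mem_image]
  constructor
  · intro hν
    have h1 : Units.mk0 ν (hne0 ν hν) ∈ Λu := (hmem _).mpr hν
    rw [← hΛueq, hLn] at h1
    obtain ⟨i, hi, hi2⟩ := Finset.mem_image.mp h1
    refine ⟨i, hi, ?_⟩
    have := congrArg Units.val hi2
    rwa [Units.val_pow_eq_pow_val] at this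
  · rintro ⟨i, -, rfl⟩
    exact pow_card_pow_mem_eigs M μ hμΛ i

/-- consequences: with the notation of `exists_singer_eigs` -/
theorem singer_eigs_pow_scalar_iff [DecidableEq (AlgebraicClosure F)] {n : ℕ} (hn0 : 0 < n)
    (M : Matrix (Fin n) (Fin n) F) (μ : AlgebraicClosure F) (hμ0 : μ ≠ 0)
    (heigs : eigs (AlgebraicClosure F) M
      = (Finset.range n).image (fun i => μ ^ (Fintype.card F ^ i)))
    (hcard : (eigs (AlgebraicClosure F) M).card = n) (t : ℕ) :
    (∃ c₀ : F, M ^ t = c₀ • (1 : Matrix (Fin n) (Fin n) F)) ↔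
      μ ^ ((Fintype.card F - 1) * t) = 1 := by
  have : Nonempty (Fin n) := ⟨⟨0, hn0⟩⟩
  let Ω := AlgebraicClosure F
  set q := Fintype.card F with hq
  have hq1 : 1 ≤ q := Fintype.card_pos
  have hμmem : μ ∈ eigs Ω M := by
    rw [heigs, Finset.mem_image]
    exact ⟨0, Finset.mem_range.mpr hn0, by simp⟩
  have hμqmem : μ ^ q ∈ eigs Ω M := pow_card_mem_eigs M μ hμmem
  constructor
  · rintro ⟨c₀, hc₀⟩
    have hval : ∀ ν ∈ eigs Ω M, ν ^ t = algebraMap F Ω c₀ := by
      intro ν hν
      obtain ⟨v, hv0, hv⟩ := (mem_eigs_iff M ν).mp hν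
      have h1 := map_pow_mulVec M ν v hv t
      rw [hc₀] at h1
      have h2 : ((c₀ • (1 : Matrix (Fin n) (Fin n) F)).map (algebraMap F Ω)) *ᵥ v
          = algebraMap F Ω c₀ • v := by
        have : (c₀ • (1 : Matrix (Fin n) (Fin n) F)).map (algebraMap F Ω)
            = algebraMap F Ω c₀ • (1 : Matrix (Fin n) (Fin n) Ω) := by
          ext i j
          simp only [Matrix.map_apply, Matrix.smul_apply, Matrix.one_apply, smul_eq_mul]
          split_ifs <;> simp
        rw [this, Matrix.smul_mulVec, Matrix.one_mulVec]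
      rw [h2] at h1
      have h3 : (algebraMap F Ω c₀ - ν ^ t) • v = 0 := by rw [sub_smul, h1, sub_self]
      rcases smul_eq_zero.mp h3 with h4 | h4
      · exact (sub_eq_zero.mp h4).symm
      · exact absurd h4 hv0
    have h1 := hval μ hμmem
    have h2 := hval (μ ^ q) hμqmem
    have h3 : μ ^ (q * t) = μ ^ t := by rw [pow_mul, h2, h1]
    have h5 : q * t = t + (q - 1) * t := by
      obtain ⟨c, hc⟩ := Nat.exists_eq_add_of_le hq1
      rw [hc]
      have : 1 + c - 1 = c := by omega
      rw [this]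
      ring
    have h4 : μ ^ t * μ ^ ((q - 1) * t) = μ ^ t * 1 := by
      rw [← pow_add, mul_one, ← h5, h3]
    exact mul_left_cancel₀ (pow_ne_zero t hμ0) h4
  · intro h
    have h5 : q * t = t + (q - 1) * t := by
      obtain ⟨c, hc⟩ := Nat.exists_eq_add_of_le hq1
      rw [hc]
      have : 1 + c - 1 = c := by omega
      rw [this]
      ring
    have h1 : μ ^ (q * t) = μ ^ t := by
      rw [h5, pow_add, h, mul_one]
    have h2 : ∀ i : ℕ, (μ ^ (q ^ i)) ^ t = μ ^ t := by
      intro i
      induction i with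
      | zero => simp
      | succ i ih =>
        calc (μ ^ (q ^ (i + 1))) ^ t = (μ ^ (q * t)) ^ (q ^ i) := by
              rw [← pow_mul, ← pow_mul]
              congr 1
              ring
          _ = (μ ^ t) ^ (q ^ i) := by rw [h1]
          _ = (μ ^ (q ^ i)) ^ t := by
              rw [← pow_mul, ← pow_mul, mul_comm]
          _ = μ ^ t := ih
    apply pow_scalar_of_card_eigs (Ω := Ω) M (by rw [hcard, Fintype.card_fin]) t (μ ^ t)
    intro ν hν
    rw [heigs, Finset.mem_image] at hν
    obtain ⟨i, -, rfl⟩ := hν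
    exact h2 i

theorem singer_eigs_det [DecidableEq (AlgebraicClosure F)] {n : ℕ} (hn0 : 0 < n)
    (M : Matrix (Fin n) (Fin n) F) (μ : AlgebraicClosure F)
    (heigs : eigs (AlgebraicClosure F) M
      = (Finset.range n).image (fun i => μ ^ (Fintype.card F ^ i)))
    (hcard : (eigs (AlgebraicClosure F) M).card = n) (hdet : M.det = 1) :
    μ ^ (∑ i ∈ Finset.range n, Fintype.card F ^ i) = 1 := by
  have : Nonempty (Fin n) := ⟨⟨0, hn0⟩⟩
  have h1 := prod_eigs_eq_one_of_det (Ω := AlgebraicClosure F) M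
    (by rw [hcard, Fintype.card_fin]) hdet
  rw [heigs] at h1 hcard
  have hinj : Set.InjOn (fun i => μ ^ (Fintype.card F ^ i)) (Finset.range n : Set ℕ) := by
    apply Finset.injOn_of_card_image_eq
    rw [hcard, Finset.card_range]
  rw [Finset.prod_image hinj, Finset.prod_pow_eq_pow_sum] at h1
  exact h1

end Cfsg.Agent.Lib.Helper15.Eig
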