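import Mathlib
import Cfsg.Agent.Lib.Helper15.PGraph5

/-!
# Prime graph tools VI: semisimple elements commuting with unipotents in dimension two
-/

set_option autoImplicit false
set_option linter.unusedSectionVars false

namespace Cfsg.Agent.Lib.Helper15.PGraph

open Module Finset

variable {F V : Type*} [Field F] [Fintype F] [AddCommGroup V] [Module F V]
  [FiniteDimensional F V]

theorem mul_nrm (A : Module.End F V) (r : ℕ) (hA : A ^ r = 1) : A * nrm A r = nrm A r := by
  have h1 : (A - 1) * nrm A r = 0 := by
    unfold nrm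
    rw [mul_geom_sum, hA, sub_self]
  rw [sub_mul, one_mul, sub_eq_zero] at h1
  exact h1

theorem nrm_mul_sub_one (A : Module.End F V) (r : ℕ) (hA : A ^ r = 1) :
    nrm A r * (A - 1) = 0 := by
  unfold nrm
  rw [geom_sum_mul, hA, sub_self]

/-- an invariant line gives an eigenvector -/
theorem exists_eigen_of_finrank_one (s : Module.End F V) (W : Submodule F V)
    (hsW : ∀ w ∈ W, s w ∈ W) (hW : finrank F W = 1) :
    ∃ v : V, v ≠ 0 ∧ v ∈ W ∧ ∃ a : F, s v = a • v := by
  have hpos : 0 < finrank F W := by omega
  obtain ⟨w, hw0⟩ := Module.finrank_pos_iff_exists_ne_zero.mp hpos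
  obtain ⟨c, hc⟩ := (finrank_eq_one_iff_of_nonzero' w hw0).mp hW ⟨s w.1, hsW _ w.2⟩
  refine ⟨w.1, fun h => hw0 (Subtype.ext h), w.2, c, ?_⟩
  exact (congrArg Subtype.val hc).symm

/-- powers of `a + t` with `t ^ 2 = 0` -/
theorem smul_one_add_pow (a : F) (t : Module.End F V) (ht : t * t = 0) (j : ℕ) :
    (a • (1 : Module.End F V) + t) ^ (j + 1) = (a ^ (j + 1)) • (1 : Module.End F V)
      + (((j + 1 : ℕ) : F) * a ^ j) • t := by
  induction j with
  | zero => simp
  | succ j ih =>
    rw [pow_succ, ih]
    simp only [mul_add, add_mul, smul_mul_assoc, mul_smul_comm, one_mul, mul_one, ht, smul_zero,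
      add_zero]
    push_cast
    module

/-- **Dimension two.** A semisimple element (some power a nonzero scalar) commuting with a
nontrivial unipotent element of `GL_2` is a scalar. -/
theorem scalar_of_commute_unipotent_two (p : ℕ) [Fact p.Prime] [CharP F p]
    (u s : Module.End F V) (hdim : finrank F V = 2) (hup : u ^ p = 1) (hu1 : u ≠ 1)
    (hsu : Commute s u) (r : ℕ) (hr0 : r ≠ 0) (hrF : (r : F) ≠ 0) (c : F) (hc : c ≠ 0)
    (hsr : s ^ r = c • (1 : Module.End F V)) : ∃ a : F, s = a • (1 : Module.End F V) := by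
  set N : Module.End F V := u - 1 with hN
  have hNapp : ∀ w, N w = u w - w := fun w => by
    rw [hN, LinearMap.sub_apply, Module.End.one_apply]
  set K := LinearMap.ker N with hK
  set R := LinearMap.range N with hR
  have hKmem : ∀ w, w ∈ K ↔ u w = w := by
    intro w
    rw [hK, LinearMap.mem_ker, hNapp, sub_eq_zero]
  -- `K` is a line
  obtain ⟨v, -, hv0, hv⟩ := exists_fixed_ne_zero p u hup ⊤ (fun _ _ => Submodule.mem_top)
    (by
      intro h
      have h1 : finrank F (⊤ : Submodule F V) = 2 := by rw [finrank_top, hdim]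
      rw [h, finrank_bot] at h1
      omega)
  have hvK : v ∈ K := (hKmem v).mpr hv
  have hKpos : 0 < finrank F K :=
    Module.finrank_pos_iff_exists_ne_zero.mpr ⟨⟨v, hvK⟩, fun h => hv0 (congrArg Subtype.val h)⟩
  have hKtop : K ≠ ⊤ := by
    intro h
    apply hu1
    ext w
    have : w ∈ K := by rw [h]; exact Submodule.mem_top
    rw [(hKmem w).mp this]
    rfl
  have hKlt : finrank F K < 2 := by
    rw [← hdim]
    exact Submodule.finrank_lt hKtop
  have hK1 : finrank F K = 1 := by omega
  have hRK : finrank F R + finrank F K = 2 := by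
    rw [← hdim]
    exact LinearMap.finrank_range_add_finrank_ker N
  have hR1 : finrank F R = 1 := by omega
  -- `u` is trivial on `R`, so `R = K`
  have huN : Commute u N := by
    rw [hN]
    exact (Commute.refl u).sub_right (Commute.one_right u)
  have hsN : Commute s N := by
    rw [hN]
    exact hsu.sub_right (Commute.one_right s)
  have huR : ∀ y ∈ R, u y ∈ R := by
    rintro y ⟨w, rfl⟩
    refine ⟨u w, ?_⟩
    have : (N * u) w = (u * N) w := by rw [huN.eq]
    exact this
  have hRK' : R ≤ K := by
    intro y hy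
    rw [hKmem]
    exact eq_self_of_finrank_le_one p u hup R huR hR1.le y hy
  have hReq : R = K := Submodule.eq_of_le_of_finrank_eq hRK' (by rw [hR1, hK1])
  -- eigenvalue of `s` on `K`
  have hsK : ∀ w ∈ K, s w ∈ K := by
    intro w hw
    rw [hKmem] at hw ⊢
    have : (u * s) w = (s * u) w := by rw [hsu.eq]
    rw [Module.End.mul_apply, Module.End.mul_apply, hw] at this
    exact this
  obtain ⟨a, ha⟩ : ∃ a : F, s v = a • v := by
    obtain ⟨c', hc'⟩ := (finrank_eq_one_iff_of_nonzero' (⟨v, hvK⟩ : K)
      (fun h => hv0 (congrArg Subtype.val h))).mp hK1 ⟨s v, hsK v hvK⟩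
    exact ⟨c', (congrArg Subtype.val hc').symm⟩
  set t : Module.End F V := s - a • (1 : Module.End F V) with ht
  have htapp : ∀ w, t w = s w - a • w := fun w => by
    rw [ht, LinearMap.sub_apply, LinearMap.smul_apply, Module.End.one_apply]
  have htv : t v = 0 := by rw [htapp, ha, sub_self]
  have htK : ∀ y ∈ K, t y = 0 := by
    intro y hy
    obtain ⟨c', hc'⟩ := (finrank_eq_one_iff_of_nonzero' (⟨v, hvK⟩ : K)
      (fun h => hv0 (congrArg Subtype.val h))).mp hK1 ⟨y, hy⟩
    have : c' • v = y := congrArg Subtype.val hc'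
    rw [← this, map_smul, htv, smul_zero]
  have htN : Commute t N := by
    rw [ht]
    exact hsN.sub_left ((Commute.one_left N).smul_left a)
  have htrange : ∀ w, t w ∈ K := by
    intro w
    rw [hK, LinearMap.mem_ker]
    have h1 : (N * t) w = (t * N) w := by rw [htN.eq]
    rw [Module.End.mul_apply, Module.End.mul_apply] at h1
    rw [h1]
    apply htK
    rw [← hReq]
    exact ⟨w, rfl⟩
  have htt : t * t = 0 := by
    ext w
    rw [Module.End.mul_apply]
    exact htK _ (htrange w)
  have hs : s = a • (1 : Module.End F V) + t := by rw [ht]; abel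
  obtain ⟨j, rfl⟩ : ∃ j, r = j + 1 := ⟨r - 1, by omega⟩
  have hpow := smul_one_add_pow a t htt j
  rw [← hs, hsr] at hpow
  have h1 := congrArg (fun g : Module.End F V => g v) hpow
  simp only [LinearMap.add_apply, LinearMap.smul_apply, Module.End.one_apply, htv, smul_zero,
    add_zero] at h1
  have hca : c = a ^ (j + 1) := by
    have h2 : (c - a ^ (j + 1)) • v = 0 := by rw [sub_smul, h1, sub_self]
    rcases smul_eq_zero.mp h2 with h3 | h3
    · exact sub_eq_zero.mp h3
    · exact absurd h3 hv0
  have ha0 : a ≠ 0 := by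
    rintro rfl
    rw [zero_pow (by omega)] at hca
    exact hc hca
  have h2 : (((j + 1 : ℕ) : F) * a ^ j) • t = 0 := by
    have := hpow
    rw [hca] at this
    exact (add_eq_left.mp this.symm)
  have h3 : t = 0 := by
    rcases smul_eq_zero.mp h2 with h4 | h4
    · exfalso
      rcases mul_eq_zero.mp h4 with h5 | h5
      · exact hrF h5
      · exact ha0 (pow_eq_zero_iff (n := j) (by
          intro hj
          subst hj
          simp at h5) |>.mp h5)
    · exact h4
  exact ⟨a, by rw [hs, h3, add_zero]⟩

end Cfsg.Agent.Lib.Helper15.PGraph
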