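import Mathlib
import Cfsg.Agent.Lib.Helper15.PGraph6

/-!
# Prime graph tools VII: the exceptional case `PSL_3(q)`, `3 ∥ q - 1`
-/

set_option autoImplicit false
set_option linter.unusedSectionVars false

namespace Cfsg.Agent.Lib.Helper15.PGraph

open Module Finset

variable {F : Type*} [Field F] [Fintype F]

/-- `F^*` has elements of every order dividing `q - 1`. -/
theorem exists_orderOf_eq_of_dvd_card_sub_one (m : ℕ) (hm : m ∣ Fintype.card F - 1) :
    ∃ a : F, a ≠ 0 ∧ orderOf a = m := by
  classical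
  obtain ⟨g, hg⟩ := IsCyclic.exists_ofOrder_eq_natCard (α := Fˣ)
  have hcard : Nat.card Fˣ = Fintype.card F - 1 := by
    rw [Nat.card_eq_fintype_card, Fintype.card_units]
  rw [hcard] at hg
  have hq : 1 < Fintype.card F := Fintype.one_lt_card
  obtain ⟨c, hc⟩ := hm
  have hc0 : c ≠ 0 := by
    rintro rfl
    rw [mul_zero] at hc; omega
  refine ⟨((g ^ c : Fˣ) : F), Units.ne_zero _, ?_⟩
  rw [orderOf_units, orderOf_pow_of_dvd hc0 (by rw [hg, hc]; exact dvd_mul_left _ _), hg, hc]
  exact Nat.mul_div_cancel _ (Nat.pos_of_ne_zero hc0)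

/-- an endomorphism of `F^3` of order three with a fixed plane has determinant `≠ 1` -/
theorem det_ne_one_of_fix (f : Module.End F (Fin 3 → F)) (hf3 : f ^ 3 = 1) (hf1 : f ≠ 1)
    (h3 : ((3 : ℕ) : F) ≠ 0) (hfix : 2 ≤ finrank F (LinearMap.ker (f - 1))) :
    LinearMap.det f ≠ 1 := by
  set W := LinearMap.ker (nrm f 3) with hW
  set Fx := LinearMap.ker (f - 1) with hFx
  have hFxmem : ∀ v, v ∈ Fx ↔ f v = v := by
    intro v
    rw [hFx, LinearMap.mem_ker, LinearMap.sub_apply, Module.End.one_apply, sub_eq_zero]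
  have hW0 : W ≠ ⊥ := ker_nrm_ne_bot f 3 hf3 hf1
  have hfree : ∀ w ∈ W, f w = w → w = 0 := ker_nrm_free f 3 h3
  have hdisj : Fx ⊓ W = ⊥ := by
    rw [eq_bot_iff]
    intro v hv
    rw [Submodule.mem_bot]
    exact hfree v hv.2 ((hFxmem v).mp hv.1)
  have hWpos : 0 < finrank F W := finrank_pos_of_ne_bot W hW0
  have hW1 : finrank F W = 1 := by
    have h5 := Submodule.finrank_sup_add_finrank_inf_eq Fx W
    rw [hdisj, finrank_bot, add_zero] at h5
    have h6 := Submodule.finrank_le (Fx ⊔ W)
    rw [Module.finrank_fin_fun] at h6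
    omega
  have hfW : ∀ w ∈ W, f w ∈ W := ker_nrm_invariant f f 3 (Commute.refl f)
  obtain ⟨y, hy0, hyW, μ, hμ⟩ := exists_eigen_of_finrank_one f W hfW hW1
  have hμ1 : μ ≠ 1 := by
    rintro rfl
    rw [one_smul] at hμ
    exact hy0 (hfree y hyW hμ)
  have hrange : ∀ v, ∃ c : F, f v - v = c • y := by
    intro v
    have h1 : f v - v ∈ W := by
      rw [hW, LinearMap.mem_ker]
      have h2 : (nrm f 3 * (f - 1)) v = 0 := by rw [nrm_mul_sub_one f 3 hf3]; rfl
      rw [Module.End.mul_apply, LinearMap.sub_apply, Module.End.one_apply] at h2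
      exact h2
    obtain ⟨c, hc⟩ := (finrank_eq_one_iff_of_nonzero' (⟨y, hyW⟩ : W)
      (fun h => hy0 (congrArg Subtype.val h))).mp hW1 ⟨f v - v, h1⟩
    exact ⟨c, (congrArg Subtype.val hc).symm⟩
  choose c hc using fun i : Fin 3 => hrange (Pi.single i 1)
  have hM : LinearMap.toMatrix' f
      = 1 + Matrix.replicateCol Unit y * Matrix.replicateRow Unit c := by
    ext l i
    rw [LinearMap.toMatrix'_apply, Matrix.add_apply, Matrix.mul_apply]
    have h1 : f (Pi.single i 1) = Pi.single i 1 + c i • y := by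
      rw [← hc i]; abel
    rw [h1]
    simp only [Pi.add_apply, Pi.smul_apply, smul_eq_mul, Matrix.replicateCol_apply,
      Matrix.replicateRow_apply, Finset.univ_unique, Finset.sum_singleton]
    rw [Matrix.one_apply, Pi.single_apply, mul_comm]
  have hdot : c ⬝ᵥ y = μ - 1 := by
    have h1 : f y - y = (c ⬝ᵥ y) • y := by
      have h2 := LinearMap.pi_apply_eq_sum_univ (f - 1) y
      rw [LinearMap.sub_apply, Module.End.one_apply] at h2
      rw [h2, dotProduct, Finset.sum_smul]
      apply Finset.sum_congr rfl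
      intro i _
      have h3 : (fun j => if i = j then (1 : F) else 0) = Pi.single i 1 := by
        ext j
        rw [Pi.single_apply]
        simp only [eq_comm]
      rw [h3, LinearMap.sub_apply, Module.End.one_apply, hc i, smul_smul, mul_comm]
    rw [hμ] at h1
    have h2 : (μ - 1 - c ⬝ᵥ y) • y = 0 := by
      rw [sub_smul, sub_smul, one_smul, h1, sub_self]
    rcases smul_eq_zero.mp h2 with h4 | h4
    · exact (sub_eq_zero.mp h4).symm
    · exact absurd h4 hy0
  rw [← LinearMap.det_toMatrix', hM, Matrix.det_one_add_replicateCol_mul_replicateRow, hdot]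
  intro h
  apply hμ1
  linear_combination h

/-- **The exceptional case.** In `SL_3(q)` with `3 ∥ q - 1`, an element whose cube is a scalar
and which commutes with a nontrivial unipotent element is a scalar. -/
theorem scalar_of_commute_unipotent_three (p : ℕ) [Fact p.Prime] [CharP F p]
    (u s : Module.End F (Fin 3 → F)) (hup : u ^ p = 1) (hu1 : u ≠ 1) (hsu : Commute s u)
    (c : F) (hs3 : s ^ 3 = c • (1 : Module.End F (Fin 3 → F))) (hc3 : c ^ 3 = 1)
    (hdet : LinearMap.det s = 1) (h3 : 3 ∣ Fintype.card F - 1) (h9 : ¬ 9 ∣ Fintype.card F - 1) :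
    ∃ a : F, s = a • (1 : Module.End F (Fin 3 → F)) := by
  have hp := (Fact.out : p.Prime)
  have hp3 : p ≠ 3 := by
    rintro rfl
    exact not_dvd_card_sub_one (F := F) 3 h3
  have h3F : ((3 : ℕ) : F) ≠ 0 := by
    intro h
    rw [CharP.cast_eq_zero_iff F p] at h
    rcases (Nat.dvd_prime Nat.prime_three).mp h with h1 | h1
    · exact hp.one_lt.ne' h1
    · exact hp3 h1
  have hdim : finrank F (Fin 3 → F) = 3 := Module.finrank_fin_fun F
  set N : Module.End F (Fin 3 → F) := u - 1 with hN
  have hNapp : ∀ w, N w = u w - w := fun w => by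
    rw [hN, LinearMap.sub_apply, Module.End.one_apply]
  set K := LinearMap.ker N with hK
  set R := LinearMap.range N with hR
  have hKmem : ∀ w, w ∈ K ↔ u w = w := by
    intro w
    rw [hK, LinearMap.mem_ker, hNapp, sub_eq_zero]
  obtain ⟨v0, -, hv00, hv0⟩ := exists_fixed_ne_zero p u hup ⊤ (fun _ _ => Submodule.mem_top)
    (by
      intro h
      have h1 : finrank F (⊤ : Submodule F (Fin 3 → F)) = 3 := by rw [finrank_top, hdim]
      rw [h, finrank_bot] at h1
      omega)
  have hKpos : 0 < finrank F K :=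
    Module.finrank_pos_iff_exists_ne_zero.mpr
      ⟨⟨v0, (hKmem v0).mpr hv0⟩, fun h => hv00 (congrArg Subtype.val h)⟩
  have hKtop : K ≠ ⊤ := by
    intro h
    apply hu1
    refine LinearMap.ext fun w => ?_
    have : w ∈ K := by rw [h]; exact Submodule.mem_top
    rw [(hKmem w).mp this]
    rfl
  have hKlt : finrank F K < 3 := by
    have := Submodule.finrank_lt hKtop
    rw [hdim] at this
    exact this
  have hRK : finrank F R + finrank F K = 3 := by
    have := LinearMap.finrank_range_add_finrank_ker N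
    rw [hdim] at this
    exact this
  have hsN : Commute s N := by
    rw [hN]
    exact hsu.sub_right (Commute.one_right s)
  have hsK : ∀ w ∈ K, s w ∈ K := by
    intro w hw
    rw [hKmem] at hw ⊢
    have : (u * s) w = (s * u) w := by rw [hsu.eq]
    rw [Module.End.mul_apply, Module.End.mul_apply, hw] at this
    exact this
  have hsR : ∀ y ∈ R, s y ∈ R := by
    rintro y ⟨w, rfl⟩
    refine ⟨s w, ?_⟩
    have : (N * s) w = (s * N) w := by rw [hsN.eq]
    exact this
  -- an eigenvector of `s`
  obtain ⟨v, hv0, a, ha⟩ : ∃ v : Fin 3 → F, v ≠ 0 ∧ ∃ a : F, s v = a • v := by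
    rcases Nat.lt_or_ge (finrank F K) 2 with h | h
    · obtain ⟨v, hv0, -, a, ha⟩ := exists_eigen_of_finrank_one s K hsK (by omega)
      exact ⟨v, hv0, a, ha⟩
    · obtain ⟨v, hv0, -, a, ha⟩ := exists_eigen_of_finrank_one s R hsR (by omega)
      exact ⟨v, hv0, a, ha⟩
  -- `a ^ 3 = c`, hence `a ^ 3 = 1`
  have hspow : ∀ j : ℕ, (s ^ j) v = a ^ j • v := by
    intro j
    induction j with
    | zero => simp
    | succ j ih => rw [pow_succ, Module.End.mul_apply, ha, map_smul, ih, smul_smul, pow_succ']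
  have hac : a ^ 3 = c := by
    have h1 := hspow 3
    rw [hs3, LinearMap.smul_apply, Module.End.one_apply] at h1
    have h2 : (a ^ 3 - c) • v = 0 := by rw [sub_smul, h1, sub_self]
    rcases smul_eq_zero.mp h2 with h4 | h4
    · exact sub_eq_zero.mp h4
    · exact absurd h4 hv0
  have ha0 : a ≠ 0 := by
    rintro rfl
    rw [← hac] at hc3
    norm_num at hc3
  have ha3 : a ^ 3 = 1 := by
    have h1 : a ^ 9 = 1 := by
      rw [show 9 = 3 * 3 by norm_num, pow_mul, hac, hc3]
    have h2 : a ^ (Fintype.card F - 1) = 1 := FiniteField.pow_card_sub_one_eq_one a ha0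
    have h4 : orderOf a ∣ Nat.gcd 9 (Fintype.card F - 1) :=
      Nat.dvd_gcd (orderOf_dvd_of_pow_eq_one h1) (orderOf_dvd_of_pow_eq_one h2)
    have h5 : Nat.gcd 9 (Fintype.card F - 1) ∣ 3 ^ 2 := Nat.gcd_dvd_left _ _
    obtain ⟨i, hi, hgi⟩ := (Nat.dvd_prime_pow Nat.prime_three).mp h5
    have hi1 : i ≤ 1 := by
      by_contra hcon
      have : i = 2 := by omega
      subst this
      apply h9
      have := Nat.gcd_dvd_right 9 (Fintype.card F - 1)
      rw [hgi] at this
      exact this
    have h6 : orderOf a ∣ 3 := by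
      rw [hgi] at h4
      exact h4.trans (pow_dvd_pow 3 hi1)
    exact orderOf_dvd_iff_pow_eq_one.mp h6
  have hc1 : c = 1 := by rw [← hac, ha3]
  rw [hc1, one_smul] at hs3
  -- a primitive cube root of unity
  obtain ⟨ω, hω0, hωord⟩ := exists_orderOf_eq_of_dvd_card_sub_one (F := F) 3 h3
  have hω3 : ω ^ 3 = 1 := by rw [← hωord, pow_orderOf_eq_one]
  have hω1 : ω ≠ 1 := by
    intro h
    rw [h, orderOf_one] at hωord
    omega
  have hωsum : 1 + ω + ω ^ 2 = 0 := by
    have h1 : (ω - 1) * (1 + ω + ω ^ 2) = 0 := by linear_combination hω3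
    rcases mul_eq_zero.mp h1 with h2 | h2
    · exact absurd (sub_eq_zero.mp h2) hω1
    · exact h2
  by_contra hns
  rw [not_exists] at hns
  -- the three twists of `s`
  have htw : ∀ i : ℕ, ∀ w, (ω ^ i • s) w = w → u w = w := by
    intro i
    set si : Module.End F (Fin 3 → F) := ω ^ i • s with hsi
    have hsi3 : si ^ 3 = 1 := by
      rw [hsi, smul_pow, hs3, ← pow_mul, mul_comm, pow_mul, hω3, one_pow, one_smul]
    have hsi1 : si ≠ 1 := by
      intro h
      apply hns ((ω ^ i)⁻¹)
      rw [← h, hsi, smul_smul, inv_mul_cancel₀ (pow_ne_zero i hω0), one_smul]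
    have hdeti : LinearMap.det si = 1 := by
      rw [hsi, LinearMap.det_smul, hdim, hdet, mul_one, ← pow_mul, mul_comm, pow_mul, hω3, one_pow]
    have hfixle : finrank F (LinearMap.ker (si - 1)) ≤ 1 := by
      by_contra hcon
      exact det_ne_one_of_fix si hsi3 hsi1 h3F (by omega) hdeti
    have hsiu : Commute si u := by
      rw [hsi]
      exact hsu.smul_left _
    have hinv : ∀ w ∈ LinearMap.ker (si - 1), u w ∈ LinearMap.ker (si - 1) := by
      intro w hw
      rw [LinearMap.mem_ker, LinearMap.sub_apply, Module.End.one_apply, sub_eq_zero] at hw ⊢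
      have : (si * u) w = (u * si) w := by rw [hsiu.eq]
      rw [Module.End.mul_apply, Module.End.mul_apply, hw] at this
      exact this
    intro w hw
    apply eq_self_of_finrank_le_one p u hup _ hinv hfixle
    rw [LinearMap.mem_ker, LinearMap.sub_apply, Module.End.one_apply, sub_eq_zero]
    exact hw
  apply hu1
  refine LinearMap.ext fun w => ?_
  rw [Module.End.one_apply]
  have hs3w : ∀ z, s (s (s z)) = z := by
    intro z
    have := congrArg (fun g : Module.End F (Fin 3 → F) => g z) hs3
    simpa [pow_succ, Module.End.mul_apply] using this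
  have hω4 : ω ^ 4 = ω := by linear_combination ω * hω3
  set x0 := w + s w + s (s w) with hx0
  set x1 := w + ω • s w + ω ^ 2 • s (s w) with hx1
  set x2 := w + ω ^ 2 • s w + ω ^ 4 • s (s w) with hx2
  have hf0 : u x0 = x0 := by
    apply htw 0
    rw [pow_zero, one_smul, hx0, map_add, map_add, hs3w]
    abel
  have hf1 : u x1 = x1 := by
    apply htw 1
    rw [pow_one, LinearMap.smul_apply, hx1, map_add, map_add, map_smul, map_smul, hs3w]
    simp only [smul_add, smul_smul]
    rw [show ω * ω ^ 2 = 1 by linear_combination hω3, show ω * ω = ω ^ 2 by ring, one_smul]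
    abel
  have hf2 : u x2 = x2 := by
    apply htw 2
    rw [LinearMap.smul_apply, hx2, map_add, map_add, map_smul, map_smul, hs3w]
    simp only [smul_add, smul_smul]
    rw [show ω ^ 2 * ω ^ 4 = 1 by linear_combination (ω ^ 3 + 1) * hω3,
      show ω ^ 2 * ω ^ 2 = ω ^ 4 by ring, one_smul]
    abel
  have hsum : x0 + x1 + x2 = ((3 : ℕ) : F) • w := by
    rw [hx0, hx1, hx2, hω4]
    have h5 : (1 + ω + ω ^ 2) • s w + (1 + ω ^ 2 + ω) • s (s w) = 0 := by
      rw [show (1 + ω ^ 2 + ω) = 1 + ω + ω ^ 2 by ring, hωsum, zero_smul, zero_smul, add_zero]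
    push_cast
    linear_combination (norm := module) h5
  have h6 : u (((3 : ℕ) : F) • w) = ((3 : ℕ) : F) • w := by
    rw [← hsum, map_add, map_add, hf0, hf1, hf2]
  rw [map_smul] at h6
  exact smul_right_injective _ h3F h6

end Cfsg.Agent.Lib.Helper15.PGraph
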