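import Mathlib
import Cfsg.Agent.Lib.Helper15.PGraph7

/-!
# Prime graph tools VIII: constructions of elements of order `r p` in `PSL_n(q)`, and the
translation from `SL_n` to endomorphisms
-/

set_option autoImplicit false
set_option linter.unusedSectionVars false

namespace Cfsg.Agent.Lib.Helper15.PGraph

open Module Matrix

variable {F : Type*} [Field F] [Fintype F]

theorem transvection_pow_eq {n : Type*} [DecidableEq n] [Fintype n] (i j : n) (hij : i ≠ j)
    (c : F) (m : ℕ) :
    (Matrix.transvection i j c) ^ m = Matrix.transvection i j (m • c) := by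
  induction m with
  | zero => rw [pow_zero, zero_smul, Matrix.transvection_zero]
  | succ m ih =>
    rw [pow_succ, ih, Matrix.transvection_mul_transvection_same i j hij, succ_nsmul]

theorem transvection_pow_char (p : ℕ) [CharP F p] {n : Type*} [DecidableEq n] [Fintype n]
    (i j : n) (hij : i ≠ j) :
    (Matrix.transvection i j (1 : F)) ^ p = 1 := by
  rw [transvection_pow_eq i j hij, nsmul_one, CharP.cast_eq_zero, Matrix.transvection_zero]

theorem transvection_ne_scalar {n : Type*} [DecidableEq n] [Fintype n]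
    (i j : n) (hij : i ≠ j) (c : F) :
    Matrix.transvection i j (1 : F) ≠ Matrix.scalar n c := by
  intro h
  have h1 := congrFun (congrFun h i) j
  rw [Matrix.transvection, Matrix.add_apply, Matrix.one_apply_ne hij, Matrix.single_apply_same,
    Matrix.scalar_apply, Matrix.diagonal_apply_ne _ hij] at h1
  simp at h1

theorem orderOf_transvection (p : ℕ) [Fact p.Prime] [CharP F p] {n : Type*} [DecidableEq n]
    [Fintype n] (i j : n) (hij : i ≠ j) :
    orderOf (Matrix.transvection i j (1 : F)) = p := by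
  apply orderOf_eq_prime (transvection_pow_char p i j hij)
  intro h
  apply transvection_ne_scalar i j hij (1 : F)
  rw [h, map_one]

theorem toLin'_pow_eq {n : ℕ} (M : Matrix (Fin n) (Fin n) F) (j : ℕ) :
    (Matrix.toLin' M) ^ j = Matrix.toLin' (M ^ j) := by
  induction j with
  | zero => simp [Module.End.one_eq_id]
  | succ j ih => rw [pow_succ, pow_succ, Matrix.toLin'_mul, ih]; rfl

theorem toLin'_scalar_eq {n : ℕ} (a : F) :
    Matrix.toLin' (Matrix.scalar (Fin n) a) = a • (1 : Module.End F (Fin n → F)) := by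
  have h1 : Matrix.scalar (Fin n) a = a • (1 : Matrix (Fin n) (Fin n) F) := by
    rw [Matrix.smul_one_eq_diagonal, Matrix.scalar_apply]
  rw [h1, map_smul, Matrix.toLin'_one]
  rfl

/-- an element of `SL_n` with scalar underlying matrix is central -/
theorem mem_center_of_scalar {n : ℕ} (S : Matrix.SpecialLinearGroup (Fin n) F) (a : F)
    (h : (S : Matrix (Fin n) (Fin n) F) = Matrix.scalar (Fin n) a) :
    S ∈ Subgroup.center (Matrix.SpecialLinearGroup (Fin n) F) := by
  rw [Matrix.SpecialLinearGroup.mem_center_iff]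
  refine ⟨a, ?_, h.symm⟩
  have h1 := S.2
  rw [h, Matrix.scalar_apply, Matrix.det_diagonal, Finset.prod_const, Finset.card_univ] at h1
  exact h1

/-- translation of the data of `exists_lift_of_PSL_orderOf_mul` to endomorphisms -/
theorem exists_End_of_SL {n : ℕ} (hn : n ≠ 0) (S U : Matrix.SpecialLinearGroup (Fin n) F)
    (r p : ℕ) (hSU : Commute S U) (hUp : U ^ p = 1) (hU1 : U ≠ 1)
    (hSr : S ^ r ∈ Subgroup.center (Matrix.SpecialLinearGroup (Fin n) F))
    (hS : S ∉ Subgroup.center (Matrix.SpecialLinearGroup (Fin n) F)) :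
    ∃ s u : Module.End F (Fin n → F), Commute s u ∧ u ^ p = 1 ∧ u ≠ 1 ∧
      (∃ c : F, c ≠ 0 ∧ c ^ n = 1 ∧ s ^ r = c • (1 : Module.End F (Fin n → F))) ∧
      (∀ a : F, s ≠ a • (1 : Module.End F (Fin n → F))) ∧ LinearMap.det s = 1 := by
  refine ⟨Matrix.toLin' (S : Matrix (Fin n) (Fin n) F),
    Matrix.toLin' (U : Matrix (Fin n) (Fin n) F), ?_, ?_, ?_, ?_, ?_, ?_⟩
  · show _ * _ = _ * _
    have h1 : (S : Matrix (Fin n) (Fin n) F) * (U : Matrix (Fin n) (Fin n) F)
        = (U : Matrix (Fin n) (Fin n) F) * (S : Matrix (Fin n) (Fin n) F) := by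
      rw [← Matrix.SpecialLinearGroup.coe_mul, ← Matrix.SpecialLinearGroup.coe_mul, hSU.eq]
    rw [Module.End.mul_eq_comp, Module.End.mul_eq_comp, ← Matrix.toLin'_mul, ← Matrix.toLin'_mul,
      h1]
  · rw [toLin'_pow_eq, ← Matrix.SpecialLinearGroup.coe_pow, hUp, Matrix.SpecialLinearGroup.coe_one,
      Matrix.toLin'_one]
    rfl
  · intro h
    apply hU1
    apply Subtype.ext
    apply Matrix.toLin'.injective
    rw [h, Matrix.SpecialLinearGroup.coe_one, Matrix.toLin'_one]
    rfl
  · obtain ⟨c, hc, hcS⟩ := Matrix.SpecialLinearGroup.mem_center_iff.mp hSr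
    rw [Fintype.card_fin] at hc
    refine ⟨c, ?_, hc, ?_⟩
    · rintro rfl
      rw [zero_pow hn] at hc
      exact zero_ne_one hc
    · rw [toLin'_pow_eq, ← Matrix.SpecialLinearGroup.coe_pow, ← hcS, toLin'_scalar_eq]
  · intro a h
    apply hS
    apply mem_center_of_scalar S a
    apply Matrix.toLin'.injective
    rw [h, toLin'_scalar_eq]
  · rw [LinearMap.det_toLin']
    exact S.2

/-- **Construction, `ord_r(q) ≥ 2`.** -/
theorem exists_PSL_orderOf_mul_of_blk (p : ℕ) [Fact p.Prime] [CharP F p] (k c : ℕ) (r : ℕ)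
    (hr : r.Prime) (hrp : r ≠ p) (hk : k = orderOf ((Fintype.card F : ℕ) : ZMod r))
    (hk2 : 2 ≤ k) :
    ∃ x : Matrix.ProjectiveSpecialLinearGroup (Fin (k + (2 + c))) F, orderOf x = r * p := by
  have hp := (Fact.out : p.Prime)
  have hq : 0 < Fintype.card F := Fintype.card_pos
  have hrc : r.Coprime (Fintype.card F - 1) := by
    rw [Nat.Prime.coprime_iff_not_dvd hr]
    intro h
    have h1 := orderOf_dvd_of_dvd_pow_sub_one (Fintype.card F) r 1 hq (by rwa [pow_one])
    have := Nat.le_of_dvd one_pos h1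
    omega
  have hpc : p.Coprime (Fintype.card F - 1) := by
    rw [Nat.Prime.coprime_iff_not_dvd hp]
    exact not_dvd_card_sub_one (F := F) p
  have hrpc : (r * p).Coprime (Fintype.card F - 1) := Nat.Coprime.mul_left hrc hpc
  obtain ⟨A, hA⟩ := exists_GL_orderOf (F := F) k (by omega) r
    (by rw [hk]; exact dvd_pow_orderOf_sub_one _ _ hq)
  have hdA := det_eq_one_of_coprime A r hA hrc
  have h01 : (0 : Fin 2) ≠ 1 := by decide
  set J : Matrix (Fin 2) (Fin 2) F := Matrix.transvection 0 1 1 with hJ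
  set M : Matrix (Fin (k + (2 + c))) (Fin (k + (2 + c))) F :=
    blk F k (2 + c) ((A : Matrix (Fin k) (Fin k) F),
      blk F 2 c (J, (1 : Matrix (Fin c) (Fin c) F))) with hMdef
  have hdet : M.det = 1 := by
    rw [hMdef, det_blk, det_blk]
    simp [hdA, hJ, Matrix.det_transvection_of_ne 0 1 h01]
  have hord : orderOf M = r * p := by
    rw [hMdef, orderOf_blk, orderOf_blk]
    simp only [orderOf_one, Nat.lcm_one_right]
    rw [orderOf_units, hA, hJ, orderOf_transvection p 0 1 h01]
    exact ((Nat.coprime_primes hr hp).mpr hrp).lcm_eq_mul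
  exact exists_PSL_orderOf M hdet (r * p) hord hrpc

/-- **Construction, `r ∣ q - 1`.** -/
theorem exists_PSL_orderOf_mul_of_diag (p : ℕ) [Fact p.Prime] [CharP F p] (m : ℕ) (r : ℕ)
    (hr : r.Prime) (hrp : r ≠ p) (a : F) (ha0 : a ≠ 0) (ha3r : a ^ (3 * r) = 1)
    (har : m ≠ 0 → a ^ r = 1) (hns0 : m = 0 → a ^ 3 ≠ 1) (hns1 : m ≠ 0 → a ≠ 1) :
    ∃ x : Matrix.ProjectiveSpecialLinearGroup (Fin (m + 3)) F, orderOf x = r * p := by
  have hp := (Fact.out : p.Prime)
  set d : Fin (m + 3) → F :=
    Fin.cons a (Fin.cons a (Fin.cons (a ^ 2)⁻¹ (fun _ => (1 : F)))) with hd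
  have hd0 : d 0 = a := rfl
  have hd1 : d 1 = a := rfl
  have hd2 : d 2 = (a ^ 2)⁻¹ := rfl
  have h01 : (0 : Fin (m + 3)) ≠ 1 := by
    intro h
    have := congrArg Fin.val h
    simp at this
  have hdetS : (Matrix.diagonal d).det = 1 := by
    rw [Matrix.det_diagonal, hd, Fin.prod_cons, Fin.prod_cons, Fin.prod_cons]
    simp only [Finset.prod_const_one, mul_one]
    field_simp
  set S : Matrix.SpecialLinearGroup (Fin (m + 3)) F := ⟨Matrix.diagonal d, hdetS⟩ with hS
  set U : Matrix.SpecialLinearGroup (Fin (m + 3)) F :=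
    ⟨Matrix.transvection 0 1 1, Matrix.det_transvection_of_ne 0 1 h01 1⟩ with hU
  have hSU : Commute S U := by
    apply Subtype.ext
    show Matrix.diagonal d * Matrix.transvection 0 1 (1 : F)
      = Matrix.transvection 0 1 (1 : F) * Matrix.diagonal d
    ext i j
    rw [Matrix.diagonal_mul, Matrix.mul_diagonal, Matrix.transvection, Matrix.add_apply,
      Matrix.one_apply, Matrix.single_apply]
    by_cases h1 : i = j
    · subst h1; ring
    · by_cases h2 : (0 = i ∧ 1 = j)
      · obtain ⟨rfl, rfl⟩ := h2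
        rw [hd0, hd1]; ring
      · simp [h1, h2]
  have hdr : ∀ i, (d i) ^ r = a ^ r := by
    have h3 : ((a ^ 2)⁻¹) ^ r = a ^ r := by
      have h4 : a ^ r * (a ^ 2) ^ r = 1 := by
        rw [← pow_mul, ← pow_add, ← ha3r]
        congr 1
        ring
      rw [inv_pow]
      exact (eq_inv_of_mul_eq_one_left h4).symm
    refine Fin.cases rfl (Fin.cases rfl (Fin.cases h3 ?_))
    intro i
    have hm : m ≠ 0 := by
      rintro rfl
      exact i.elim0
    rw [har hm]
    show (1 : F) ^ r = 1
    rw [one_pow]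
  have hSr : S ^ r ∈ Subgroup.center (Matrix.SpecialLinearGroup (Fin (m + 3)) F) := by
    apply mem_center_of_scalar _ (a ^ r)
    rw [Matrix.SpecialLinearGroup.coe_pow, hS]
    show (Matrix.diagonal d) ^ r = _
    rw [Matrix.diagonal_pow, Matrix.scalar_apply]
    congr 1
    funext i
    exact hdr i
  have hSn : S ∉ Subgroup.center (Matrix.SpecialLinearGroup (Fin (m + 3)) F) := by
    intro h
    obtain ⟨c, -, hc⟩ := Matrix.SpecialLinearGroup.mem_center_iff.mp h
    rw [hS, Matrix.scalar_apply] at hc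
    have hc' : (fun _ => c) = d := Matrix.diagonal_injective hc
    have hci : ∀ i, d i = c := fun i => (congrFun hc' i).symm
    rcases Nat.eq_zero_or_pos m with hm | hm
    · apply hns0 hm
      have h1 : a = (a ^ 2)⁻¹ := by
        calc a = d 0 := hd0.symm
          _ = c := hci 0
          _ = d 2 := (hci 2).symm
          _ = (a ^ 2)⁻¹ := hd2
      have h2 : a ^ 2 ≠ 0 := pow_ne_zero 2 ha0
      field_simp at h1
      linear_combination h1
    · apply hns1 hm.ne'
      obtain ⟨m', rfl⟩ := Nat.exists_eq_succ_of_ne_zero hm.ne'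
      have h1 : d (Fin.succ (Fin.succ (Fin.succ (0 : Fin (m' + 1))))) = 1 := rfl
      calc a = d 0 := hd0.symm
        _ = c := hci 0
        _ = d (Fin.succ (Fin.succ (Fin.succ (0 : Fin (m' + 1))))) := (hci _).symm
        _ = 1 := h1
  have hUn : U ∉ Subgroup.center (Matrix.SpecialLinearGroup (Fin (m + 3)) F) := by
    intro h
    obtain ⟨c, -, hc⟩ := Matrix.SpecialLinearGroup.mem_center_iff.mp h
    exact transvection_ne_scalar 0 1 h01 c hc.symm
  have hUp : U ^ p ∈ Subgroup.center (Matrix.SpecialLinearGroup (Fin (m + 3)) F) := by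
    have : U ^ p = 1 := by
      apply Subtype.ext
      rw [Matrix.SpecialLinearGroup.coe_pow, hU]
      exact transvection_pow_char p 0 1 h01
    rw [this]
    exact Subgroup.one_mem _
  exact exists_PSL_orderOf_mul S U r p hr hp hrp hSU hSn hSr hUn hUp

end Cfsg.Agent.Lib.Helper15.PGraph
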