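import Mathlib
import Cfsg.Agent.Lib.Helper15.EigF8
import Cfsg.Agent.Lib.Helper15.PGraph8
import Cfsg.Agent.S2904

/-!
# Elements of order `q ^ m + 1` in `PSL_{2m}(q)`
-/

set_option autoImplicit false
set_option linter.unusedSectionVars false

namespace Cfsg.Agent.Lib.Helper15.Eig

open Matrix Module

/-! ### arithmetic -/

theorem geom_sum_succ_mul (c m : ℕ) :
    c * ∑ i ∈ Finset.range m, (c + 1) ^ i + 1 = (c + 1) ^ m := by
  induction m with
  | zero => simp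
  | succ m ih =>
    rw [Finset.sum_range_succ, mul_add, pow_succ]
    have : c * ∑ i ∈ Finset.range m, (c + 1) ^ i = (c + 1) ^ m - 1 := by omega
    have h1 : 1 ≤ (c + 1) ^ m := Nat.one_le_pow _ _ (by omega)
    obtain ⟨d, hd⟩ := Nat.exists_eq_add_of_le h1
    rw [this, hd]
    have : 1 + d - 1 = d := by omega
    rw [this]
    ring

theorem pred_mul_geom_sum (q m : ℕ) (hq : 1 ≤ q) :
    (q - 1) * ∑ i ∈ Finset.range m, q ^ i = q ^ m - 1 := by
  obtain ⟨c, rfl⟩ : ∃ c, q = c + 1 := ⟨q - 1, by omega⟩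
  have := geom_sum_succ_mul c m
  rw [Nat.add_sub_cancel]
  omega

theorem geom_sum_add_self (q m : ℕ) :
    ∑ i ∈ Finset.range (m + m), q ^ i = (q ^ m + 1) * ∑ i ∈ Finset.range m, q ^ i := by
  rw [Finset.sum_range_add, add_mul, one_mul, Finset.mul_sum, add_comm]
  congr 1
  apply Finset.sum_congr rfl
  intro i _
  rw [pow_add]

theorem dvd_geom_sum_iff (q m h : ℕ) (hq : 1 ≤ q) (hh : h ∣ q - 1) :
    h ∣ ∑ i ∈ Finset.range m, q ^ i ↔ h ∣ m := by
  have h1 : ((q : ℕ) : ZMod h) = 1 := by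
    have : ((q - 1 : ℕ) : ZMod h) = 0 := (ZMod.natCast_eq_zero_iff _ _).mpr hh
    rw [Nat.cast_sub hq, Nat.cast_one, sub_eq_zero] at this
    exact this
  rw [← ZMod.natCast_eq_zero_iff, ← ZMod.natCast_eq_zero_iff, Nat.cast_sum]
  simp [h1]

theorem zmod_pow_eq_one_iff (r q k : ℕ) (hq : 1 ≤ q) :
    ((q : ℕ) : ZMod r) ^ k = 1 ↔ r ∣ q ^ k - 1 := by
  rw [← Nat.cast_pow, ← ZMod.natCast_eq_zero_iff (q ^ k - 1) r,
    Nat.cast_sub (Nat.one_le_pow _ _ hq), Nat.cast_one, sub_eq_zero]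

theorem gcd_add_self_dvd (m k : ℕ) (hm : m ≠ 0) (hk : k ≠ 0)
    (h : padicValNat 2 k ≤ padicValNat 2 m) : Nat.gcd (m + m) k ∣ m := by
  obtain ⟨u, hu⟩ : 2 ^ padicValNat 2 k ∣ k := pow_padicValNat_dvd
  obtain ⟨m', hm'⟩ : 2 ^ padicValNat 2 k ∣ m := (padicValNat_dvd_iff_le hm).mpr h
  have hu2 : ¬ 2 ∣ u := by
    rintro ⟨v, hv⟩
    have : 2 ^ (padicValNat 2 k + 1) ∣ k := ⟨v, by rw [pow_succ, mul_assoc, ← hv]; exact hu⟩
    exact pow_succ_padicValNat_not_dvd hk this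
  have h2 : ∃ a u m', k = 2 ^ a * u ∧ m = 2 ^ a * m' ∧ ¬ 2 ∣ u := ⟨_, u, m', hu, hm', hu2⟩
  obtain ⟨a, u, m', rfl, rfl, hu2⟩ := h2
  have : 2 ^ a * m' + 2 ^ a * m' = 2 ^ a * (2 * m') := by ring
  rw [this, Nat.gcd_mul_left]
  apply Nat.mul_dvd_mul_left
  have hc : Nat.Coprime (Nat.gcd (2 * m') u) 2 := by
    apply Nat.Coprime.coprime_dvd_left (Nat.gcd_dvd_right _ _)
    exact ((Nat.Prime.coprime_iff_not_dvd Nat.prime_two).mpr hu2).symm
  apply hc.dvd_of_dvd_mul_left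
  rw [mul_comm]
  exact Nat.gcd_dvd_left _ _

variable {F : Type*} [Field F] [Fintype F]

/-! ### existence -/

theorem exists_PSL_orderOf_half_torus {m : ℕ} (hm : 0 < m)
    (hd : Nat.gcd (m + m) (Fintype.card F - 1) ∣ m) :
    ∃ x : Matrix.ProjectiveSpecialLinearGroup (Fin (m + m)) F,
      orderOf x = Fintype.card F ^ m + 1 := by
  have hq1 : 1 < Fintype.card F := Fintype.one_lt_card
  obtain ⟨A, hA⟩ := PGraph.exists_GL_orderOf (F := F) (m + m) (by omega)
    (Fintype.card F ^ (m + m) - 1) dvd_rfl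
  have hE0 : 0 < ∑ i ∈ Finset.range m, Fintype.card F ^ i := by
    apply Finset.sum_pos
    · intro i _
      exact Nat.pos_of_ne_zero (pow_ne_zero _ (by omega))
    · exact ⟨0, Finset.mem_range.mpr hm⟩
  have hqn : Fintype.card F ^ (m + m) - 1 = (Fintype.card F - 1) *
      ((Fintype.card F ^ m + 1) * ∑ i ∈ Finset.range m, Fintype.card F ^ i) := by
    rw [← geom_sum_add_self, pred_mul_geom_sum _ _ (by omega)]
  have hB : orderOf (A ^ (Fintype.card F - 1)) =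
      (Fintype.card F ^ m + 1) * ∑ i ∈ Finset.range m, Fintype.card F ^ i := by
    rw [orderOf_pow_of_dvd (by omega) (by rw [hA, hqn]; exact dvd_mul_right _ _), hA, hqn]
    exact Nat.mul_div_cancel_left _ (by omega)
  have hdet : ((A ^ (Fintype.card F - 1) : GL (Fin (m + m)) F) :
      Matrix (Fin (m + m)) (Fin (m + m)) F).det = 1 := by
    rw [Units.val_pow_eq_pow_val, Matrix.det_pow]
    apply FiniteField.pow_card_sub_one_eq_one
    have := (Matrix.GeneralLinearGroup.det A).ne_zero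
    simpa using this
  let g : Matrix.SpecialLinearGroup (Fin (m + m)) F := ⟨_, hdet⟩
  have hg : orderOf g =
      (Fintype.card F ^ m + 1) * ∑ i ∈ Finset.range m, Fintype.card F ^ i := by
    rw [PGraph.orderOf_SL_eq]
    show orderOf ((A ^ (Fintype.card F - 1) : GL (Fin (m + m)) F) :
      Matrix (Fin (m + m)) (Fin (m + m)) F) = _
    rw [orderOf_units]
    exact hB
  let x : Matrix.ProjectiveSpecialLinearGroup (Fin (m + m)) F := QuotientGroup.mk g
  have ht0 : 0 < orderOf x := orderOf_pos x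
  have hz : g ^ orderOf x ∈ Subgroup.center (Matrix.SpecialLinearGroup (Fin (m + m)) F) := by
    have h1 : x ^ orderOf x = 1 := pow_orderOf_eq_one x
    have h2 : ((g ^ orderOf x : Matrix.SpecialLinearGroup (Fin (m + m)) F) :
        Matrix.ProjectiveSpecialLinearGroup (Fin (m + m)) F) = 1 := h1
    exact (QuotientGroup.eq_one_iff _).mp h2
  have hz1 : (g ^ orderOf x) ^ (Fintype.card F - 1) = 1 :=
    PGraph.center_pow_card_sub_one _ hz
  have hz2 : (g ^ orderOf x) ^ (m + m) = 1 := by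
    obtain ⟨c, hc, hcz⟩ := Matrix.SpecialLinearGroup.mem_center_iff.mp hz
    rw [Fintype.card_fin] at hc
    apply Subtype.ext
    rw [Matrix.SpecialLinearGroup.coe_pow, ← hcz, ← map_pow, hc, map_one]
    rfl
  have hz3 := pow_gcd_eq_one.mpr ⟨hz2, hz1⟩
  rw [← pow_mul] at hz3
  have h3 := orderOf_dvd_of_pow_eq_one hz3
  rw [hg] at h3
  have hdE : Nat.gcd (m + m) (Fintype.card F - 1) ∣ ∑ i ∈ Finset.range m, Fintype.card F ^ i :=
    (dvd_geom_sum_iff _ m _ (by omega) (Nat.gcd_dvd_right _ _)).mpr hd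
  have h4 : (Fintype.card F ^ m + 1) * ∑ i ∈ Finset.range m, Fintype.card F ^ i ∣
      orderOf x * ∑ i ∈ Finset.range m, Fintype.card F ^ i :=
    h3.trans (Nat.mul_dvd_mul_left _ hdE)
  have h5 : Fintype.card F ^ m + 1 ∣ orderOf x := Nat.dvd_of_mul_dvd_mul_right hE0 h4
  refine ⟨x ^ (orderOf x / (Fintype.card F ^ m + 1)), ?_⟩
  rw [orderOf_pow_of_dvd]
  · exact Nat.div_div_self h5 ht0.ne'
  · have := Nat.div_pos (Nat.le_of_dvd ht0 h5) (by omega : 0 < Fintype.card F ^ m + 1)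
    omega
  · exact Nat.div_dvd_of_dvd h5

end Cfsg.Agent.Lib.Helper15.Eig
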