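import Mathlib
import Cfsg.Agent.Lib.Helper15.EigF9

/-!
# Elements of order `q ^ m + 1` in `PSL_{2m}(q)`: the necessary condition
-/

set_option autoImplicit false
set_option linter.unusedSectionVars false

namespace Cfsg.Agent.Lib.Helper15.Eig

open Matrix Module

variable {F : Type*} [Field F] [Fintype F]

theorem half_torus_of_PSL_orderOf {m : ℕ} (hm : 2 ≤ m) (hodd : Odd (Fintype.card F))
    (x : Matrix.ProjectiveSpecialLinearGroup (Fin (m + m)) F)
    (hx : orderOf x = Fintype.card F ^ m + 1) :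
    padicValNat 2 (Fintype.card F - 1) ≤ padicValNat 2 m := by
  classical
  obtain ⟨p, hpc⟩ := CharP.exists F
  have : Fact p.Prime := ⟨CharP.char_is_prime F p⟩
  have hp := (Fact.out : p.Prime)
  have hq1 : 1 < Fintype.card F := Fintype.one_lt_card
  obtain ⟨g, rfl⟩ := QuotientGroup.mk_surjective x
  -- the primitive prime divisor
  obtain ⟨r, hr, hrn, hrk⟩ := Cfsg.Agent.S2904.result (Fintype.card F) (m + m) hq1 (by omega)
    (by
      rintro ⟨h2, -⟩
      rw [h2] at hodd
      exact absurd hodd (by decide))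
    (by
      rintro ⟨h2, -⟩
      omega)
  have hqm1 : 1 ≤ Fintype.card F ^ m := Nat.one_le_pow _ _ (by omega)
  have hqn : Fintype.card F ^ (m + m) - 1 = (Fintype.card F ^ m - 1) * (Fintype.card F ^ m + 1) := by
    obtain ⟨d, hd⟩ := Nat.exists_eq_add_of_le hqm1
    rw [pow_add, hd]
    have h1 : 1 + d - 1 = d := by omega
    have h2 : (1 + d) * (1 + d) - 1 = d * (1 + d + 1) := by
      have : (1 + d) * (1 + d) = d * (1 + d + 1) + 1 := by ring
      omega
    rw [h1, h2]
  have hrN : r ∣ Fintype.card F ^ m + 1 := by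
    rw [hqn] at hrn
    exact (hr.dvd_mul.mp hrn).resolve_left (hrk m (by omega) (by omega))
  have hr1 : ¬ r ∣ Fintype.card F - 1 := by
    have := hrk 1 one_pos (by omega)
    rwa [pow_one] at this
  have hrF : (r : F) ≠ 0 := by
    intro h0
    have h1 : p ∣ r := (CharP.cast_eq_zero_iff F p r).mp h0
    have h2 : r = p := ((Nat.prime_dvd_prime_iff_eq hp hr).mp h1).symm
    obtain ⟨f, _, hf⟩ := FiniteField.card F p
    have h3 : p ∣ Fintype.card F ^ (m + m) := by
      rw [hf, ← pow_mul]
      exact dvd_pow_self p (by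
        have := f.pos
        have : 0 < (f : ℕ) * (m + m) := Nat.mul_pos f.pos (by omega)
        omega)
    rw [h2] at hrn
    have h4 : 1 ≤ Fintype.card F ^ (m + m) := Nat.one_le_pow _ _ (by omega)
    have h5 : p ∣ 1 := by
      have := (Nat.dvd_sub h3 hrn)
      rwa [Nat.sub_sub_self h4] at this
    exact hp.one_lt.ne' (Nat.dvd_one.mp h5)
  have hord : orderOf ((Fintype.card F : ℕ) : ZMod r) = m + m := by
    rw [orderOf_eq_iff (by omega)]
    refine ⟨(zmod_pow_eq_one_iff r _ _ (by omega)).mpr hrn, ?_⟩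
    intro k hk hk0 h
    exact hrk k hk0 hk ((zmod_pow_eq_one_iff r _ _ (by omega)).mp h)
  set N := Fintype.card F ^ m + 1 with hN
  have hN0 : 0 < N := by omega
  have hgN : g ^ N ∈ Subgroup.center (Matrix.SpecialLinearGroup (Fin (m + m)) F) := by
    have h1 : (QuotientGroup.mk g : Matrix.ProjectiveSpecialLinearGroup (Fin (m + m)) F) ^ N = 1 := by
      rw [← hx]
      exact pow_orderOf_eq_one _
    have h2 : ((g ^ N : Matrix.SpecialLinearGroup (Fin (m + m)) F) :
        Matrix.ProjectiveSpecialLinearGroup (Fin (m + m)) F) = 1 := h1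
    exact (QuotientGroup.eq_one_iff _).mp h2
  have hNr : N / r * r = N := Nat.div_mul_cancel hrN
  have hNr0 : 0 < N / r := Nat.div_pos (Nat.le_of_dvd hN0 hrN) hr.pos
  have hMpow : (g : Matrix (Fin (m + m)) (Fin (m + m)) F) ^ ((Fintype.card F - 1) * (N / r) * r)
      = 1 := by
    have h1 := PGraph.center_pow_card_sub_one _ hgN
    rw [← pow_mul] at h1
    have h2 := congrArg Subtype.val h1
    rw [Matrix.SpecialLinearGroup.coe_pow] at h2
    rw [mul_assoc, hNr, mul_comm]
    exact h2
  have hMs : (g : Matrix (Fin (m + m)) (Fin (m + m)) F) ^ ((Fintype.card F - 1) * (N / r)) ≠ 1 := by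
    intro h
    have h1 : g ^ ((Fintype.card F - 1) * (N / r)) = 1 := by
      apply Subtype.ext
      rw [Matrix.SpecialLinearGroup.coe_pow, h]
      rfl
    have h2 : (QuotientGroup.mk g : Matrix.ProjectiveSpecialLinearGroup (Fin (m + m)) F) ^
        ((Fintype.card F - 1) * (N / r)) = 1 := by
      rw [← QuotientGroup.mk_pow, h1]
      rfl
    have h3 := orderOf_dvd_of_pow_eq_one h2
    rw [hx] at h3
    have h3' : N / r * r ∣ N / r * (Fintype.card F - 1) := by
      rw [hNr, mul_comm]
      exact h3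
    have h4 : r ∣ Fintype.card F - 1 := Nat.dvd_of_mul_dvd_mul_left hNr0 h3'
    exact hr1 h4
  obtain ⟨μ, hμ0, heigs, hcard⟩ := exists_singer_eigs p
    (g : Matrix (Fin (m + m)) (Fin (m + m)) F) r ((Fintype.card F - 1) * (N / r)) hr hrF hord
    hMpow hMs
  have hdetμ := singer_eigs_det (by omega) (g : Matrix (Fin (m + m)) (Fin (m + m)) F) μ heigs hcard g.2
  rw [geom_sum_add_self] at hdetμ
  set E := ∑ i ∈ Finset.range m, Fintype.card F ^ i with hE
  have hE0 : 0 < E := by
    apply Finset.sum_pos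
    · intro i _
      exact Nat.pos_of_ne_zero (pow_ne_zero _ (by omega))
    · exact ⟨0, Finset.mem_range.mpr (by omega)⟩
  -- the order of the image of `g`
  have hiff : ∀ t : ℕ, (QuotientGroup.mk g : Matrix.ProjectiveSpecialLinearGroup (Fin (m + m)) F) ^ t
      = 1 ↔ μ ^ ((Fintype.card F - 1) * t) = 1 := by
    intro t
    rw [← singer_eigs_pow_scalar_iff (by omega) (g : Matrix (Fin (m + m)) (Fin (m + m)) F) μ hμ0
      heigs hcard t]
    have h0 : (QuotientGroup.mk g : Matrix.ProjectiveSpecialLinearGroup (Fin (m + m)) F) ^ t = 1 ↔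
        g ^ t ∈ Subgroup.center (Matrix.SpecialLinearGroup (Fin (m + m)) F) := by
      rw [← QuotientGroup.mk_pow]
      exact QuotientGroup.eq_one_iff _
    rw [h0]
    constructor
    · intro h
      obtain ⟨c, _, hcz⟩ := Matrix.SpecialLinearGroup.mem_center_iff.mp h
      refine ⟨c, ?_⟩
      rw [← Matrix.SpecialLinearGroup.coe_pow, ← hcz, Matrix.smul_one_eq_diagonal,
        Matrix.scalar_apply]
    · rintro ⟨c₀, hc₀⟩
      apply PGraph.mem_center_of_scalar _ c₀
      rw [Matrix.SpecialLinearGroup.coe_pow, hc₀, Matrix.smul_one_eq_diagonal, Matrix.scalar_apply]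
  have ho : orderOf μ ∣ N * E := orderOf_dvd_of_pow_eq_one hdetμ
  have ho0 : 0 < orderOf μ := Nat.pos_of_dvd_of_pos ho (Nat.mul_pos hN0 hE0)
  obtain ⟨o', c, hcop, ho', hc⟩ := Nat.exists_coprime (orderOf μ) (Fintype.card F - 1)
  set h' := Nat.gcd (orderOf μ) (Fintype.card F - 1) with hh'
  have hh'0 : 0 < h' := Nat.gcd_pos_of_pos_left _ ho0
  have hiff2 : ∀ t : ℕ, (QuotientGroup.mk g : Matrix.ProjectiveSpecialLinearGroup (Fin (m + m)) F) ^ t
      = 1 ↔ o' ∣ t := by
    intro t
    rw [hiff t, ← orderOf_dvd_iff_pow_eq_one]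
    constructor
    · intro h
      rw [ho'] at h
      have h1 : o' * h' ∣ c * t * h' := by
        calc o' * h' ∣ (Fintype.card F - 1) * t := h
          _ = c * t * h' := by rw [hc]; ring
      have h2 : o' ∣ c * t := Nat.dvd_of_mul_dvd_mul_right hh'0 h1
      exact hcop.dvd_of_dvd_mul_left h2
    · rintro ⟨k, rfl⟩
      rw [ho']
      refine ⟨c * k, ?_⟩
      calc (Fintype.card F - 1) * (o' * k) = c * h' * (o' * k) := by rw [← hc]
        _ = o' * h' * (c * k) := by ring
  have hoN : o' = N := by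
    rw [← hx]
    apply Nat.dvd_antisymm
    · exact (hiff2 _).mp (pow_orderOf_eq_one _)
    · exact orderOf_dvd_of_pow_eq_one ((hiff2 o').mpr dvd_rfl)
  -- conclusion
  have hh'E : h' ∣ E := by
    rw [ho', hoN] at ho
    exact Nat.dvd_of_mul_dvd_mul_left hN0 ho
  have hh'q : h' ∣ Fintype.card F - 1 := Nat.gcd_dvd_right _ _
  have hh'm : h' ∣ m := (dvd_geom_sum_iff _ m h' (by omega) hh'q).mp hh'E
  have hc2 : ¬ 2 ∣ c := by
    intro h2
    have hNeven : 2 ∣ N := by
      rw [hN]
      have : Odd (Fintype.card F ^ m) := hodd.pow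
      exact (this.add_one).two_dvd
    rw [hoN] at hcop
    have := Nat.dvd_gcd hNeven h2
    rw [hcop.gcd_eq_one] at this
    omega
  have hc0 : c ≠ 0 := by
    rintro rfl
    exact hc2 (dvd_zero 2)
  calc padicValNat 2 (Fintype.card F - 1) = padicValNat 2 (c * h') := by rw [← hc]
    _ = padicValNat 2 c + padicValNat 2 h' := padicValNat.mul hc0 hh'0.ne'
    _ = padicValNat 2 h' := by rw [padicValNat.eq_zero_of_not_dvd hc2, zero_add]
    _ ≤ padicValNat 2 m := by
      rw [← padicValNat_dvd_iff_le (by omega)]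
      exact pow_padicValNat_dvd.trans hh'm

end Cfsg.Agent.Lib.Helper15.Eig
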