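import Mathlib
import Cfsg.Agent.Lib.Helper15.EigF1
import Cfsg.Agent.Lib.Helper15.EigF3

/-!
# Eigenvalues of symplectic matrices: an element of order `r s` of `Sp_{2n}(q)`
-/

set_option autoImplicit false
set_option linter.unusedSectionVars false

namespace Cfsg.Agent.Lib.Helper15.Eig

open Matrix

variable {F : Type*} [Field F] {Ω : Type*} [Field Ω] [Algebra F Ω]
variable {l : Type*} [Fintype l] [DecidableEq l]

theorem charpoly_symp_inv (M : symplecticGroup l F) :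
    ((M⁻¹ : symplecticGroup l F) : Matrix (l ⊕ l) (l ⊕ l) F).charpoly
      = (M : Matrix (l ⊕ l) (l ⊕ l) F).charpoly := by
  rw [SymplecticGroup.coe_inv]
  have h2 : J l F * (-J l F) = 1 := by rw [mul_neg, J_squared, neg_neg]
  rw [Matrix.charpoly_mul_comm, ← mul_assoc, h2, one_mul, Matrix.charpoly_transpose]

/-- the eigenvalue set of a symplectic matrix is closed under inversion -/
theorem inv_mem_eigs_symp (M : symplecticGroup l F) (μ : Ω)
    (hμ : μ ∈ eigs Ω (M : Matrix (l ⊕ l) (l ⊕ l) F)) :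
    μ⁻¹ ∈ eigs Ω (M : Matrix (l ⊕ l) (l ⊕ l) F) := by
  have h1 : μ⁻¹ ∈ eigs Ω ((M⁻¹ : symplecticGroup l F) : Matrix (l ⊕ l) (l ⊕ l) F) := by
    apply inv_mem_eigs_inv (M : Matrix (l ⊕ l) (l ⊕ l) F) _ _ μ hμ
    have : (M⁻¹ * M : symplecticGroup l F) = 1 := inv_mul_cancel M
    exact congrArg Subtype.val this
  rwa [eigs_congr _ _ (charpoly_symp_inv M)] at h1

/-- **Eigenvalue count for an element of order `r s` of `Sp_{2n}(q)`.** -/
theorem symp_order_mul_bound [Fintype F] (n : ℕ) (M : symplecticGroup (Fin n) F) (r s : ℕ)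
    (hr : r.Prime) (hs : s.Prime) (hr2 : r ≠ 2) (hs2 : s ≠ 2) (hrs : r ≠ s)
    (hrF : (r : F) ≠ 0) (hsF : (s : F) ≠ 0)
    (hqr : (Fintype.card F).Coprime r) (hqs : (Fintype.card F).Coprime s)
    (hM : orderOf M = r * s) (ηk ηl : ℕ)
    (hηk : (Odd (orderOf ((Fintype.card F : ℕ) : ZMod r)) ∧
        ηk = orderOf ((Fintype.card F : ℕ) : ZMod r)) ∨
      (Even (orderOf ((Fintype.card F : ℕ) : ZMod r)) ∧
        2 * ηk = orderOf ((Fintype.card F : ℕ) : ZMod r)))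
    (hηl : (Odd (orderOf ((Fintype.card F : ℕ) : ZMod s)) ∧
        ηl = orderOf ((Fintype.card F : ℕ) : ZMod s)) ∨
      (Even (orderOf ((Fintype.card F : ℕ) : ZMod s)) ∧
        2 * ηl = orderOf ((Fintype.card F : ℕ) : ZMod s))) :
    2 * ηk + 2 * ηl ≤ 2 * n ∨
    ((∃ t : ℕ, ((Fintype.card F : ℕ) : ZMod r) ^ t = -1 ∧
        ((Fintype.card F : ℕ) : ZMod s) ^ t = -1) ∧
      Nat.lcm (orderOf ((Fintype.card F : ℕ) : ZMod r))
        (orderOf ((Fintype.card F : ℕ) : ZMod s)) ≤ 2 * n) ∨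
    2 * Nat.lcm (orderOf ((Fintype.card F : ℕ) : ZMod r))
      (orderOf ((Fintype.card F : ℕ) : ZMod s)) ≤ 2 * n := by
  classical
  set Ω := AlgebraicClosure F with hΩ
  set Mm : Matrix (Fin n ⊕ Fin n) (Fin n ⊕ Fin n) F := M.1 with hMm
  set Λ : Finset Ω := eigs Ω Mm with hΛ
  have hcard : Λ.card ≤ 2 * n := by
    have h : Λ.card ≤ Fintype.card (Fin n ⊕ Fin n) := card_eigs_le (Ω := Ω) Mm
    rw [Fintype.card_sum, Fintype.card_fin] at h
    omega
  have hpow : ∀ j : ℕ, Mm ^ j = ((M ^ j : symplecticGroup (Fin n) F) : Matrix _ _ F) := by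
    intro j
    rw [hMm, SubmonoidClass.coe_pow]
  have hMrs : Mm ^ (r * s) = 1 := by
    rw [hpow, ← hM, pow_orderOf_eq_one]
    rfl
  have hne : ∀ j : ℕ, Mm ^ j = 1 → r * s ∣ j := by
    intro j h
    rw [← hM]
    apply orderOf_dvd_of_pow_eq_one
    apply Subtype.ext
    rw [← hpow, h]
    rfl
  have hMs : Mm ^ s ≠ 1 := by
    intro h
    have h3 : r * s ∣ 1 * s := by rw [one_mul]; exact hne s h
    have := Nat.dvd_of_mul_dvd_mul_right hs.pos h3
    exact hr.one_lt.ne' (Nat.dvd_one.mp this)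
  have hMr : Mm ^ r ≠ 1 := by
    intro h
    have h3 : r * s ∣ r * 1 := by rw [mul_one]; exact hne r h
    have := Nat.dvd_of_mul_dvd_mul_left hr.pos h3
    exact hs.one_lt.ne' (Nat.dvd_one.mp this)
  have hroot : ∀ μ ∈ Λ, μ ^ (r * s) = 1 := fun μ hμ => pow_eq_one_of_mem_eigs Mm (r * s) hMrs μ hμ
  have hne0 : ∀ μ ∈ Λ, μ ≠ 0 := by
    intro μ hμ h0
    have := hroot μ hμ
    rw [h0, zero_pow (Nat.mul_pos hr.pos hs.pos).ne'] at this
    exact zero_ne_one this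
  -- the eigenvalues as units
  set Λu : Finset Ωˣ := Λ.preimage Units.val Units.val_injective.injOn with hΛu
  have hmem : ∀ u : Ωˣ, u ∈ Λu ↔ (u : Ω) ∈ Λ := fun u => Finset.mem_preimage
  have hcardu : Λu.card ≤ Λ.card := by
    apply Finset.card_le_card_of_injOn Units.val
    · intro u hu
      exact (hmem u).mp (Finset.mem_coe.mp hu)
    · exact Units.val_injective.injOn
  have hφ : ∀ u ∈ Λu, u ^ Fintype.card F ∈ Λu := by
    intro u hu
    rw [hmem] at hu ⊢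
    rw [Units.val_pow_eq_pow_val]
    exact pow_card_mem_eigs Mm _ hu
  have hι : ∀ u ∈ Λu, u⁻¹ ∈ Λu := by
    intro u hu
    rw [hmem] at hu ⊢
    rw [Units.val_inv_eq_inv_val]
    exact inv_mem_eigs_symp M _ hu
  have hΛ1 : ∀ u ∈ Λu, u ^ (r * s) = 1 := by
    intro u hu
    apply Units.ext
    rw [Units.val_pow_eq_pow_val]
    exact hroot _ ((hmem u).mp hu)
  have h1 : ∃ u ∈ Λu, u ^ s ≠ 1 := by
    obtain ⟨μ, hμ, hμs⟩ := exists_mem_eigs_pow_ne_one (Ω := Ω) Mm r s hrF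
      (by rw [← pow_mul, mul_comm, hMrs]) hMs
    refine ⟨Units.mk0 μ (hne0 μ hμ), (hmem _).mpr hμ, ?_⟩
    intro h
    apply hμs
    have := congrArg Units.val h
    rwa [Units.val_pow_eq_pow_val] at this
  have h2 : ∃ u ∈ Λu, u ^ r ≠ 1 := by
    obtain ⟨μ, hμ, hμs⟩ := exists_mem_eigs_pow_ne_one (Ω := Ω) Mm s r hsF
      (by rw [← pow_mul, hMrs]) hMr
    refine ⟨Units.mk0 μ (hne0 μ hμ), (hmem _).mpr hμ, ?_⟩
    intro h
    apply hμs
    have := congrArg Units.val h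
    rwa [Units.val_pow_eq_pow_val] at this
  have key := card_bound_of_order_mul Λu (Fintype.card F) hφ hι r s hr hs hr2 hs2 hrs hqr hqs
    hΛ1 h1 h2 ηk ηl hηk hηl
  rcases key with h | ⟨hsd, h⟩ | h
  · left; omega
  · right; left
    exact ⟨hsd, by omega⟩
  · right; right; omega

end Cfsg.Agent.Lib.Helper15.Eig
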