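import Mathlib
import Cfsg.Agent.Lib.Helper16.SympEmbed

/-!
# The cyclic torus of order `q ^ m + 1` in `Sp_{2m}(q)`
-/

set_option autoImplicit false
set_option linter.unusedSectionVars false

namespace Cfsg.Agent.Lib.Helper15.Eig

open Module

/-- `Sp_{2m}(q)` has an element of every order dividing `q ^ m + 1`. -/
theorem exists_symp_orderOf_of_dvd_pow_add_one {F : Type*} [Field F] [Fintype F] (p : ℕ)
    [Fact p.Prime] [CharP F p] (m : ℕ) (hm : 1 ≤ m) (e : ℕ)
    (he : e ∣ Fintype.card F ^ m + 1) :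
    ∃ g : Matrix.symplecticGroup (Fin m) F, orderOf g = e := by
  classical
  have : NeZero (2 * m) := ⟨by omega⟩
  set K := FiniteField.Extension F p (2 * m) with hK
  have : Fintype K := Fintype.ofFinite K
  have hcardK : Fintype.card K = Fintype.card F ^ (2 * m) := by
    rw [Fintype.card_eq_nat_card, FiniteField.natCard_extension, Nat.card_eq_fintype_card]
  have hfin : finrank F K = 2 * m := FiniteField.finrank_extension F p (2 * m)
  have : CharP K p := charP_of_injective_algebraMap (algebraMap F K).injective p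
  set q := Fintype.card F with hq
  have hq1 : 1 < q := Fintype.one_lt_card
  set Q := q ^ m with hQ
  have hQ1 : 1 < Q := Nat.one_lt_pow (by omega) hq1
  obtain ⟨f, _, hf⟩ := FiniteField.card F p
  have hQp : Q = p ^ ((f : ℕ) * m) := by rw [hQ, hq, hf, pow_mul]
  -- the involution `σ`
  have hσadd : ∀ x y : K, (x + y) ^ Q = x ^ Q + y ^ Q := by
    intro x y
    rw [hQp]
    exact add_pow_char_pow x y p _
  have hσsub : ∀ x y : K, (x - y) ^ Q = x ^ Q - y ^ Q := by
    intro x y
    have := hσadd (x - y) y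
    rw [sub_add_cancel] at this
    rw [this, add_sub_cancel_right]
  have hσF : ∀ c : F, (algebraMap F K c) ^ Q = algebraMap F K c := by
    intro c
    rw [← map_pow, hQ, hq, FiniteField.pow_card_pow]
  have hσσ : ∀ x : K, (x ^ Q) ^ Q = x := by
    intro x
    rw [← pow_mul, hQ, ← pow_add, ← two_mul, ← hcardK, FiniteField.pow_card]
  -- an element of order `e`
  have hQ2 : Fintype.card K - 1 = (Q - 1) * (Q + 1) := by
    rw [hcardK, two_mul, pow_add, ← hQ]
    have h1 : 1 ≤ Q := by omega
    obtain ⟨c, hc⟩ := Nat.exists_eq_add_of_le h1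
    rw [hc]
    have : (1 + c) * (1 + c) - 1 = c * (1 + c + 1) := by
      have : (1 + c) * (1 + c) = c * (1 + c + 1) + 1 := by ring
      omega
    rw [this]
    congr 1
    omega
  obtain ⟨g, hg⟩ := IsCyclic.exists_ofOrder_eq_natCard (α := Kˣ)
  have hcardu : Nat.card Kˣ = (Q - 1) * (Q + 1) := by
    rw [Nat.card_eq_fintype_card, Fintype.card_units, hQ2]
  rw [hcardu] at hg
  obtain ⟨c, hc⟩ := he
  have hc0 : c ≠ 0 := by
    rintro rfl
    rw [mul_zero] at hc; omega
  have he0 : e ≠ 0 := by
    rintro rfl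
    rw [zero_mul] at hc; omega
  set w : Kˣ := g ^ ((Q - 1) * c) with hw
  have hwo : orderOf w = e := by
    have hne : (Q - 1) * c ≠ 0 := Nat.mul_ne_zero (by omega) hc0
    rw [hw, orderOf_pow_of_dvd hne (by rw [hg, hc]; exact ⟨e, by ring⟩), hg, hc]
    rw [show (Q - 1) * (e * c) = e * ((Q - 1) * c) by ring]
    exact Nat.mul_div_cancel _ (Nat.pos_of_ne_zero hne)
  have hwQ : w ^ (Q + 1) = 1 := by
    rw [hc, pow_mul, ← hwo, pow_orderOf_eq_one, one_pow]
  -- `σ` is not the identity
  obtain ⟨z0, hz0⟩ : ∃ z0 : K, z0 - z0 ^ Q ≠ 0 := by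
    refine ⟨(g : K), ?_⟩
    intro h
    have h1 : (g : K) ^ Q = (g : K) := (sub_eq_zero.mp h).symm
    have h2 : g ^ Q = g ^ 1 := by
      apply Units.ext
      rw [Units.val_pow_eq_pow_val, pow_one]
      exact h1
    have h3 := pow_eq_pow_iff_modEq.mp h2
    rw [hg] at h3
    have h4 : Q < (Q - 1) * (Q + 1) := by
      have h1 : 2 ≤ Q := by omega
      obtain ⟨c', hc'⟩ := Nat.exists_eq_add_of_le h1
      rw [hc']
      have : 2 + c' - 1 = 1 + c' := by omega
      rw [this]
      nlinarith
    have h5 := h3.eq_of_lt_of_lt h4 (by omega)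
    omega
  obtain ⟨τ, hτ⟩ : ∃ τ : K →ₗ[F] F, τ (z0 - z0 ^ Q) ≠ 0 := by
    by_contra hcon
    push Not at hcon
    exact hz0 ((Module.forall_dual_apply_eq_zero_iff F _).1 hcon)
  -- the form
  let B : K →ₗ[F] K →ₗ[F] F :=
    LinearMap.mk₂ F (fun x y => τ (x * y ^ Q - x ^ Q * y))
      (fun x x' y => by
        show τ ((x + x') * y ^ Q - (x + x') ^ Q * y) = _
        rw [hσadd, ← map_add]
        congr 1
        ring)
      (fun c x y => by
        show τ ((c • x) * y ^ Q - (c • x) ^ Q * y) = c • τ (x * y ^ Q - x ^ Q * y)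
        rw [← map_smul]
        congr 1
        rw [Algebra.smul_def, mul_pow, hσF, Algebra.smul_def]
        ring)
      (fun x y y' => by
        show τ (x * (y + y') ^ Q - x ^ Q * (y + y')) = _
        rw [hσadd, ← map_add]
        congr 1
        ring)
      (fun c x y => by
        show τ (x * (c • y) ^ Q - x ^ Q * (c • y)) = c • τ (x * y ^ Q - x ^ Q * y)
        rw [← map_smul]
        congr 1
        rw [Algebra.smul_def, mul_pow, hσF, Algebra.smul_def]
        ring)
  have hB : ∀ x y, B x y = τ (x * y ^ Q - x ^ Q * y) := fun x y => rfl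
  have halt : ∀ x, B x x = 0 := by
    intro x
    rw [hB, mul_comm x (x ^ Q), sub_self, map_zero]
  have hnd : ∀ x, (∀ y, B x y = 0) → x = 0 := by
    intro x hx
    by_contra hx0
    apply hτ
    have h1 := hx ((z0 / x) ^ Q)
    rw [hB, hσσ, ← mul_pow, mul_div_cancel₀ _ hx0] at h1
    exact h1
  -- the group and its action
  let N : Subgroup Kˣ := (powMonoidHom (Q + 1)).ker
  have hNmem : ∀ u : Kˣ, u ∈ N ↔ u ^ (Q + 1) = 1 := fun u => MonoidHom.mem_ker
  let ρ : N →* Module.End F K :=
    { toFun := fun u => LinearMap.mulLeft F ((u : Kˣ) : K)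
      map_one' := by
        ext x
        simp
      map_mul' := by
        intro u v
        ext x
        simp }
  have hρapp : ∀ (u : N) (x : K), ρ u x = ((u : Kˣ) : K) * x := fun u x => rfl
  have hρinj : Function.Injective ρ := by
    intro u v h
    have h1 := congrArg (fun f : Module.End F K => f 1) h
    simp only [hρapp, mul_one] at h1
    exact Subtype.ext (Units.ext h1)
  have hpres : ∀ (u : N) (x y : K), B (ρ u x) (ρ u y) = B x y := by
    intro u x y
    rw [hB, hB, hρapp, hρapp]
    congr 1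
    have h1 : ((u : Kˣ) : K) * ((u : Kˣ) : K) ^ Q = 1 := by
      have := (hNmem u).mp u.2
      rw [pow_succ'] at this
      have h2 := congrArg Units.val this
      rwa [Units.val_mul, Units.val_pow_eq_pow_val] at h2
    rw [mul_pow, mul_pow]
    linear_combination (x * y ^ Q - x ^ Q * y) * h1
  obtain ⟨φ, hφ⟩ := Cfsg.Agent.Lib.Helper16.exists_hom_to_symp ρ hρinj B halt hnd m hfin hpres
  refine ⟨φ ⟨w, (hNmem w).mpr hwQ⟩, ?_⟩
  rw [orderOf_injective φ hφ, ← hwo]
  exact (Subgroup.orderOf_coe (⟨w, (hNmem w).mpr hwQ⟩ : N)).symm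

end Cfsg.Agent.Lib.Helper15.Eig
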