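import Mathlib
import Cfsg.Agent.Lib.Helper15.EigF4
import Cfsg.Agent.Lib.Helper15.EigF5
import Cfsg.Agent.Lib.Helper15.PGraph10
import Cfsg.Agent.Lib.Helper15.PGraph3

/-!
# Element orders `r s` in `PSp_{2n}(q)`: constructions and numerical lemmas
-/

set_option autoImplicit false
set_option linter.unusedSectionVars false

namespace Cfsg.Agent.Lib.Helper15.Eig

open Cfsg.Agent.Lib.Helper15.PGraph Matrix

variable {F : Type*} [Field F] [Fintype F]

theorem card_coprime_of_prime_ne (p : ℕ) [Fact p.Prime] [CharP F p] (r : ℕ) (hr : r.Prime)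
    (hrp : r ≠ p) : (Fintype.card F).Coprime r := by
  have hp := (Fact.out : p.Prime)
  obtain ⟨f, _, hf⟩ := FiniteField.card F p
  rw [hf]
  apply Nat.Coprime.pow_left
  exact (Nat.coprime_primes hp hr).mpr (fun h => hrp h.symm)

/-- an element of `Sp_{2a}(q)` of order `e` coprime to the centre gives an element of order `e`
of `PSp_{2(a+m)}(q)` -/
theorem exists_PSp_orderOf_of_symp (a m : ℕ) (ha : 1 ≤ a) (g : symplecticGroup (Fin a) F) (e : ℕ)
    (hg : orderOf g = e) (hcop : e.Coprime (Nat.gcd 2 (Fintype.card F - 1))) :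
    ∃ x : symplecticGroup (Fin (a + m)) F ⧸ Subgroup.center (symplecticGroup (Fin (a + m)) F),
      orderOf x = e := by
  set h := spFinSum (F := F) a m (g, 1) with hh
  have hho : orderOf h = e := by
    rw [hh, orderOf_injective (spFinSum (F := F) a m) (spFinSum_injective a m), Prod.orderOf, hg,
      orderOf_one, Nat.lcm_one_right]
  exact ⟨QuotientGroup.mk h, orderOf_mk_of_coprime _ (Nat.gcd 2 (Fintype.card F - 1)) e
    (fun z hz => symp_center_pow (by omega) z hz) hcop h hho⟩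

theorem coprime_gcd_two_of_odd (e : ℕ) (he : Odd e) :
    e.Coprime (Nat.gcd 2 (Fintype.card F - 1)) := by
  apply Nat.Coprime.coprime_dvd_right (Nat.gcd_dvd_left 2 _)
  exact Nat.coprime_two_right.mpr he

/-- `η(ord_s q) ≤ n` when `s ∣ |PSp_{2n}(q)|` -/
theorem eta_le_of_dvd_card (p : ℕ) [Fact p.Prime] [CharP F p] (n : ℕ) (s : ℕ) (hs : s.Prime)
    (hsp : s ≠ p)
    (hsG : s ∣ Nat.card (symplecticGroup (Fin n) F ⧸ Subgroup.center (symplecticGroup (Fin n) F)))
    (l ηl : ℕ) (hl : l = orderOf ((Fintype.card F : ℕ) : ZMod s))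
    (hηl : (Odd l ∧ ηl = l) ∨ (Even l ∧ 2 * ηl = l)) : ηl ≤ n := by
  have hp := (Fact.out : p.Prime)
  have hq : 0 < Fintype.card F := Fintype.card_pos
  have h1 : s ∣ Nat.card (symplecticGroup (Fin n) F) :=
    hsG.trans (Subgroup.card_quotient_dvd_card _)
  rw [Cfsg.Agent.Lib.Helper15.card_symplecticGroup] at h1
  rcases (Nat.Prime.dvd_mul hs).mp h1 with h2 | h2
  · exfalso
    have h3 := hs.dvd_of_dvd_pow h2
    obtain ⟨f, _, hf⟩ := FiniteField.card F p
    rw [hf] at h3
    exact hsp ((Nat.prime_dvd_prime_iff_eq hs hp).mp (hs.dvd_of_dvd_pow h3))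
  · obtain ⟨i, hi, h3⟩ := (Prime.dvd_finsetProd_iff (Nat.Prime.prime hs) _).mp h2
    rw [Finset.mem_range] at hi
    have h4 := orderOf_dvd_of_dvd_pow_sub_one _ _ _ hq h3
    rw [← hl] at h4
    rcases hηl with ⟨hodd, rfl⟩ | ⟨_, h5⟩
    · have h6 : ηl ∣ i + 1 := (Nat.Coprime.dvd_mul_left (Nat.coprime_two_right.mpr hodd)).mp h4
      have := Nat.le_of_dvd (by omega) h6
      omega
    · rw [← h5] at h4
      have h6 : ηl ∣ i + 1 := Nat.dvd_of_mul_dvd_mul_left (by norm_num) h4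
      have := Nat.le_of_dvd (by omega) h6
      omega

/-- `s ∣ q ^ m + 1` when `ord_s(q) = 2 m` -/
theorem dvd_pow_add_one_of_orderOf_eq (s : ℕ) (hs : s.Prime) (m : ℕ) (hm : 0 < m)
    (h : orderOf ((Fintype.card F : ℕ) : ZMod s) = 2 * m) : s ∣ Fintype.card F ^ m + 1 := by
  have : Fact s.Prime := ⟨hs⟩
  set x : ZMod s := ((Fintype.card F : ℕ) : ZMod s) with hx
  have h1 : x ^ (2 * m) = 1 := by rw [← h, pow_orderOf_eq_one]
  have h2 : (x ^ m - 1) * (x ^ m + 1) = 0 := by
    have : x ^ (2 * m) = x ^ m * x ^ m := by rw [two_mul, pow_add]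
    rw [this] at h1
    linear_combination h1
  rcases mul_eq_zero.mp h2 with h3 | h3
  · exfalso
    have h4 : x ^ m = 1 := sub_eq_zero.mp h3
    have h5 := orderOf_dvd_of_pow_eq_one h4
    rw [h] at h5
    have := Nat.le_of_dvd hm h5
    omega
  · rw [← ZMod.natCast_eq_zero_iff]
    push_cast
    exact h3

/-- **Construction, `l = k t` with `t` odd.** -/
theorem exists_symp_orderOf_mul_of_odd_mul (p : ℕ) [Fact p.Prime] [CharP F p] (r s : ℕ)
    (hr : r.Prime) (hs : s.Prime) (hrs : r ≠ s) (k l ηl : ℕ) (hk0 : 0 < k) (hl0 : 0 < l)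
    (hk : k = orderOf ((Fintype.card F : ℕ) : ZMod r))
    (hl : l = orderOf ((Fintype.card F : ℕ) : ZMod s))
    (hηl : (Odd l ∧ ηl = l) ∨ (Even l ∧ 2 * ηl = l)) (t : ℕ) (ht : Odd t) (hlt : l = k * t) :
    ∃ g : symplecticGroup (Fin ηl) F, orderOf g = r * s := by
  have hq : 0 < Fintype.card F := Fintype.card_pos
  have hcop : r.Coprime s := (Nat.coprime_primes hr hs).mpr hrs
  rcases hηl with ⟨hodd, rfl⟩ | ⟨hev, h2⟩
  · -- `l` odd: use `GL_l(q)`
    have hdiv : r * s ∣ Fintype.card F ^ ηl - 1 := by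
      apply hcop.mul_dvd_of_dvd_of_dvd
      · rw [hlt]
        have h1 : r ∣ Fintype.card F ^ k - 1 := by
          rw [hk]; exact dvd_pow_orderOf_sub_one _ _ hq
        have h2 : Fintype.card F ^ k - 1 ∣ (Fintype.card F ^ k) ^ t - 1 ^ t :=
          Nat.sub_dvd_pow_sub_pow _ _ _
        rw [one_pow, ← pow_mul] at h2
        exact h1.trans h2
      · rw [hl]; exact dvd_pow_orderOf_sub_one _ _ hq
    obtain ⟨A, hA⟩ := exists_GL_orderOf (F := F) ηl (by omega) (r * s) hdiv
    refine ⟨Cfsg.Agent.Lib.Helper14.glToSp A, ?_⟩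
    rw [orderOf_injective _ Cfsg.Agent.Lib.Helper14.glToSp_injective, hA]
  · -- `l` even: use the torus of order `q ^ m + 1`
    have hη0 : 0 < ηl := by omega
    have hkev : Even k := by
      rw [hlt] at hev
      rcases Nat.even_mul.mp hev with h | h
      · exact h
      · exact absurd h (Nat.not_even_iff_odd.mpr ht)
    obtain ⟨k', hk'⟩ := hkev
    have hk'0 : 0 < k' := by omega
    have hm : ηl = k' * t := by
      have : 2 * ηl = 2 * (k' * t) := by rw [h2, hlt, hk']; ring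
      omega
    have hdiv : r * s ∣ Fintype.card F ^ ηl + 1 := by
      apply hcop.mul_dvd_of_dvd_of_dvd
      · have h1 : r ∣ Fintype.card F ^ k' + 1 :=
          dvd_pow_add_one_of_orderOf_eq r hr k' hk'0 (by rw [← hk, hk']; ring)
        have h3 : Fintype.card F ^ k' + 1 ∣ (Fintype.card F ^ k') ^ t + 1 ^ t :=
          Odd.nat_add_dvd_pow_add_pow _ _ ht
        rw [one_pow, ← pow_mul, ← hm] at h3
        exact h1.trans h3
      · exact dvd_pow_add_one_of_orderOf_eq s hs ηl hη0 (by rw [← hl, h2])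
    exact exists_symp_orderOf_of_dvd_pow_add_one p ηl hη0 (r * s) hdiv

end Cfsg.Agent.Lib.Helper15.Eig
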