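import Mathlib
import Cfsg.Agent.Lib.Helper15.EigF1

/-!
# Eigenvalues of unitary matrices over a finite field: closure under `λ ↦ λ ^ (-q)`
-/

set_option autoImplicit false
set_option linter.unusedSectionVars false

namespace Cfsg.Agent.Lib.Helper15.Eig

open Matrix Module Polynomial

section
variable {F : Type*} [Field F] {Ω : Type*} [Field Ω] [Algebra F Ω]
variable {ι : Type*} [Fintype ι] [DecidableEq ι]

/-- twisting a matrix by a power of Frobenius raises the eigenvalues to that power -/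
theorem pow_mem_eigs_map (p : ℕ) [Fact p.Prime] [CharP F p] [CharP Ω p] (f : ℕ)
    (M : Matrix ι ι F) (μ : Ω) (hμ : μ ∈ eigs Ω M) :
    μ ^ (p ^ f) ∈ eigs Ω (M.map (iterateFrobenius F p f)) := by
  rw [mem_eigs_iff_isRoot] at hμ ⊢
  rw [Matrix.charpoly_map, Polynomial.map_map]
  have h1 : (algebraMap F Ω).comp (iterateFrobenius F p f)
      = (iterateFrobenius Ω p f).comp (algebraMap F Ω) := by
    ext x
    simp only [RingHom.comp_apply, iterateFrobenius_def, map_pow]
  rw [h1, ← Polynomial.map_map, ← iterateFrobenius_def (R := Ω) p f μ]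
  exact hμ.map

/-- the eigenvalues of a unitary matrix are closed under `λ ↦ λ ^ (-q)` -/
theorem inv_pow_mem_eigs_unitary [Fintype F] (p : ℕ) [Fact p.Prime] [CharP F p] [CharP Ω p] (f : ℕ)
    (hcard : Fintype.card F = (p ^ f) ^ 2)
    (M : Matrix ι ι F) (hM : (M.map (iterateFrobenius F p f))ᵀ * M = 1) (μ : Ω)
    (hμ : μ ∈ eigs Ω M) : (μ ^ (p ^ f))⁻¹ ∈ eigs Ω M := by
  have h1 : μ⁻¹ ∈ eigs Ω ((M.map (iterateFrobenius F p f))ᵀ) := inv_mem_eigs_inv M _ hM μ hμ
  rw [eigs_congr _ _ (Matrix.charpoly_transpose _)] at h1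
  have h2 := pow_mem_eigs_map p f _ _ h1
  have h3 : (M.map (iterateFrobenius F p f)).map (iterateFrobenius F p f) = M := by
    ext i j
    simp only [Matrix.map_apply, iterateFrobenius_def]
    rw [← pow_mul, ← pow_two, ← hcard, FiniteField.pow_card]
  rw [h3, inv_pow] at h2
  exact h2

end

/-! ### orbits of `u ↦ u ^ a` in an abelian group -/

theorem zpow_orbit_eq {G : Type*} [CommGroup G] [DecidableEq G] (Λ : Finset G) (a : ℤ)
    (hΛ : ∀ u ∈ Λ, u ^ a ∈ Λ) (μ : G) (hμ : μ ∈ Λ) (r n : ℕ) (hr : r ∣ orderOf μ)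
    (hn : orderOf ((a : ℤ) : ZMod r) = n) (hn0 : 0 < n) (hcard : Λ.card ≤ n) :
    Set.InjOn (fun i : ℕ => μ ^ (a ^ i)) (Finset.range n : Set ℕ) ∧
      Λ = (Finset.range n).image (fun i : ℕ => μ ^ (a ^ i)) := by
  have hmem : ∀ i : ℕ, μ ^ (a ^ i) ∈ Λ := by
    intro i
    induction i with
    | zero => simpa using hμ
    | succ i ih =>
      rw [pow_succ, _root_.zpow_mul]
      exact hΛ _ ih
  have hfin : IsOfFinOrder (((a : ℤ) : ZMod r)) := by
    rw [← orderOf_pos_iff, hn]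
    exact hn0
  have hinj : Set.InjOn (fun i : ℕ => μ ^ (a ^ i)) (Finset.range n : Set ℕ) := by
    intro i hi j hj hij
    rw [Finset.coe_range, Set.mem_Iio] at hi hj
    have h1 : a ^ i ≡ a ^ j [ZMOD (orderOf μ : ℤ)] := zpow_eq_zpow_iff_modEq.mp hij
    have h2 : a ^ i ≡ a ^ j [ZMOD (r : ℤ)] := Int.ModEq.of_dvd (Int.natCast_dvd_natCast.mpr hr) h1
    have h3 : ((a ^ i : ℤ) : ZMod r) = ((a ^ j : ℤ) : ZMod r) :=
      (ZMod.intCast_eq_intCast_iff _ _ _).mpr h2
    rw [Int.cast_pow, Int.cast_pow, hfin.pow_eq_pow_iff_modEq, hn] at h3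
    exact h3.eq_of_lt_of_lt hi hj
  refine ⟨hinj, ?_⟩
  symm
  apply Finset.eq_of_subset_of_card_le
  · intro u hu
    obtain ⟨i, -, rfl⟩ := Finset.mem_image.mp hu
    exact hmem i
  · rw [Finset.card_image_of_injOn hinj, Finset.card_range]
    exact hcard

theorem prod_zpow_eq_zpow_sum {G : Type*} [CommGroup G] {κ : Type*} (s : Finset κ) (e : κ → ℤ)
    (μ : G) : ∏ i ∈ s, μ ^ e i = μ ^ ∑ i ∈ s, e i := by
  classical
  induction s using Finset.induction_on with
  | empty => simp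
  | insert i s hi ih => rw [Finset.prod_insert hi, Finset.sum_insert hi, ih, _root_.zpow_add]

end Cfsg.Agent.Lib.Helper15.Eig
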