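import Mathlib
import Cfsg.Agent.Lib.Helper15.EigU1
import Cfsg.Agent.Lib.Helper15.EigF7

/-!
# Eigenvalues of unitary matrices in a Coxeter-type torus
-/

set_option autoImplicit false
set_option linter.unusedSectionVars false

namespace Cfsg.Agent.Lib.Helper15.Eig

open Matrix Module Polynomial

variable {F : Type*} [Field F] [Fintype F]

/-- **Unitary Singer eigenvalues.** If `M` is unitary and `M ^ s` has prime order `r` with
`ord_r(-q) = n`, the eigenvalues of `M` are the `n` distinct values `μ ^ ((-q) ^ i)`. -/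
theorem exists_singer_eigs_unitary [DecidableEq (AlgebraicClosure F)] (p : ℕ) [Fact p.Prime]
    [CharP F p] (f : ℕ) (hcard : Fintype.card F = (p ^ f) ^ 2) {n : ℕ} (hn0 : 0 < n)
    (M : Matrix (Fin n) (Fin n) F) (hMu : (M.map (iterateFrobenius F p f))ᵀ * M = 1)
    (r s : ℕ) (hr : r.Prime) (hrF : (r : F) ≠ 0)
    (hn : orderOf (((-((p ^ f : ℕ) : ℤ)) : ℤ) : ZMod r) = n)
    (hM : M ^ (s * r) = 1) (hMs : M ^ s ≠ 1) :
    ∃ μ : (AlgebraicClosure F)ˣ,
      Set.InjOn (fun i : ℕ => μ ^ ((-((p ^ f : ℕ) : ℤ)) ^ i)) (Finset.range n : Set ℕ) ∧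
      eigs (AlgebraicClosure F) M = (Finset.range n).image
        (fun i : ℕ => ((μ ^ ((-((p ^ f : ℕ) : ℤ)) ^ i) : (AlgebraicClosure F)ˣ) :
          AlgebraicClosure F)) ∧
      (eigs (AlgebraicClosure F) M).card = n := by
  have hp := (Fact.out : p.Prime)
  let Ω := AlgebraicClosure F
  have : CharP Ω p := charP_of_injective_algebraMap (algebraMap F Ω).injective p
  set a : ℤ := -((p ^ f : ℕ) : ℤ) with ha
  set Λ : Finset Ω := eigs Ω M with hΛ
  have hcardΛ : Λ.card ≤ n := by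
    have h : Λ.card ≤ Fintype.card (Fin n) := card_eigs_le (Ω := Ω) M
    rwa [Fintype.card_fin] at h
  have hsr0 : 0 < s * r := by
    rcases Nat.eq_zero_or_pos (s * r) with h | h
    · exfalso
      rcases Nat.mul_eq_zero.mp h with h1 | h1
      · apply hMs
        rw [h1, pow_zero]
      · exact hr.ne_zero h1
    · exact h
  have hroot : ∀ ν ∈ Λ, ν ^ (s * r) = 1 := fun ν hν => pow_eq_one_of_mem_eigs M (s * r) hM ν hν
  have hne0 : ∀ ν ∈ Λ, ν ≠ 0 := by
    intro ν hν h0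
    have := hroot ν hν
    rw [h0, zero_pow hsr0.ne'] at this
    exact zero_ne_one this
  obtain ⟨μ, hμΛ, hμs⟩ := exists_mem_eigs_pow_ne_one (Ω := Ω) M r s hrF
    (by rw [← pow_mul, hM]) hMs
  set Λu : Finset Ωˣ := Λ.preimage Units.val Units.val_injective.injOn with hΛu
  have hmem : ∀ u : Ωˣ, u ∈ Λu ↔ (u : Ω) ∈ Λ := fun u => Finset.mem_preimage
  have hcardu : Λu.card ≤ Λ.card := by
    apply Finset.card_le_card_of_injOn Units.val
    · intro u hu
      exact (hmem u).mp (Finset.mem_coe.mp hu)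
    · exact Units.val_injective.injOn
  have hφ : ∀ u ∈ Λu, u ^ a ∈ Λu := by
    intro u hu
    rw [hmem] at hu ⊢
    rw [ha, _root_.zpow_neg, zpow_natCast, Units.val_inv_eq_inv_val, Units.val_pow_eq_pow_val]
    exact inv_pow_mem_eigs_unitary p f hcard M hMu _ hu
  set μu : Ωˣ := Units.mk0 μ (hne0 μ hμΛ) with hμu
  have hμuΛ : μu ∈ Λu := (hmem _).mpr hμΛ
  have hμupow : μu ^ (s * r) = 1 := by
    apply Units.ext
    rw [Units.val_pow_eq_pow_val]
    exact hroot μ hμΛ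
  have hre : r ∣ orderOf μu := by
    by_contra hre
    have h1 : orderOf μu ∣ s * r := orderOf_dvd_of_pow_eq_one hμupow
    have h2 : (orderOf μu).Coprime r := (Nat.Prime.coprime_iff_not_dvd hr).mpr hre |>.symm
    have h3 : orderOf μu ∣ s := h2.dvd_of_dvd_mul_right h1
    apply hμs
    have h4 : μu ^ s = 1 := orderOf_dvd_iff_pow_eq_one.mp h3
    have := congrArg Units.val h4
    rwa [Units.val_pow_eq_pow_val] at this
  obtain ⟨hinj, hΛeq⟩ := zpow_orbit_eq Λu a hφ μu hμuΛ r n hre hn hn0 (by omega)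
  have heq : Λ = (Finset.range n).image (fun i : ℕ => ((μu ^ (a ^ i) : Ωˣ) : Ω)) := by
    ext ν
    rw [Finset.mem_image]
    constructor
    · intro hν
      have h1 : Units.mk0 ν (hne0 ν hν) ∈ Λu := (hmem _).mpr hν
      rw [hΛeq] at h1
      obtain ⟨i, hi, hi2⟩ := Finset.mem_image.mp h1
      refine ⟨i, hi, ?_⟩
      have := congrArg Units.val hi2
      exact this
    · rintro ⟨i, hi, rfl⟩
      rw [← hmem, hΛeq]
      exact Finset.mem_image.mpr ⟨i, hi, rfl⟩
  refine ⟨μu, hinj, heq, ?_⟩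
  rw [heq, Finset.card_image_of_injOn, Finset.card_range]
  intro i hi j hj hij
  exact hinj hi hj (Units.ext hij)

/-- if `M ^ t` is the scalar `c₀`, all eigenvalues have `t`-th power `c₀` -/
theorem pow_eq_of_pow_scalar {Ω : Type*} [Field Ω] [Algebra F Ω] {ι : Type*} [Fintype ι]
    [DecidableEq ι] (M : Matrix ι ι F) (t : ℕ) (c₀ : F) (hc₀ : M ^ t = c₀ • (1 : Matrix ι ι F))
    (ν : Ω) (hν : ν ∈ eigs Ω M) : ν ^ t = algebraMap F Ω c₀ := by
  obtain ⟨v, hv0, hv⟩ := (mem_eigs_iff M ν).mp hν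
  have h1 := map_pow_mulVec M ν v hv t
  rw [hc₀] at h1
  have h2 : ((c₀ • (1 : Matrix ι ι F)).map (algebraMap F Ω)) *ᵥ v = algebraMap F Ω c₀ • v := by
    have : (c₀ • (1 : Matrix ι ι F)).map (algebraMap F Ω)
        = algebraMap F Ω c₀ • (1 : Matrix ι ι Ω) := by
      ext i j
      simp only [Matrix.map_apply, Matrix.smul_apply, Matrix.one_apply, smul_eq_mul]
      split_ifs <;> simp
    rw [this, Matrix.smul_mulVec, Matrix.one_mulVec]
  rw [h2] at h1
  have h3 : (algebraMap F Ω c₀ - ν ^ t) • v = 0 := by rw [sub_smul, h1, sub_self]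
  rcases smul_eq_zero.mp h3 with h4 | h4
  · exact (sub_eq_zero.mp h4).symm
  · exact absurd h4 hv0

theorem singer_eigs_unitary_det [DecidableEq (AlgebraicClosure F)] {n : ℕ} (hn0 : 0 < n)
    (M : Matrix (Fin n) (Fin n) F) (μ : (AlgebraicClosure F)ˣ) (a : ℤ)
    (hinj : Set.InjOn (fun i : ℕ => μ ^ (a ^ i)) (Finset.range n : Set ℕ))
    (heigs : eigs (AlgebraicClosure F) M = (Finset.range n).image
        (fun i : ℕ => ((μ ^ (a ^ i) : (AlgebraicClosure F)ˣ) : AlgebraicClosure F)))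
    (hcard : (eigs (AlgebraicClosure F) M).card = n) (hdet : M.det = 1) :
    μ ^ (∑ i ∈ Finset.range n, a ^ i) = 1 := by
  have : Nonempty (Fin n) := ⟨⟨0, hn0⟩⟩
  have h1 := prod_eigs_eq_one_of_det (Ω := AlgebraicClosure F) M
    (by rw [hcard, Fintype.card_fin]) hdet
  rw [heigs] at h1
  have hinj' : Set.InjOn (fun i : ℕ => ((μ ^ (a ^ i) : (AlgebraicClosure F)ˣ) : AlgebraicClosure F))
      (Finset.range n : Set ℕ) := by
    intro i hi j hj hij
    exact hinj hi hj (Units.ext hij)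
  rw [Finset.prod_image hinj', ← Units.coe_prod, prod_zpow_eq_zpow_sum] at h1
  exact Units.ext h1

theorem singer_eigs_unitary_pow_scalar_iff [DecidableEq (AlgebraicClosure F)] {n : ℕ}
    (hn2 : 2 ≤ n)
    (M : Matrix (Fin n) (Fin n) F) (μ : (AlgebraicClosure F)ˣ) (q : ℕ)
    (heigs : eigs (AlgebraicClosure F) M = (Finset.range n).image
        (fun i : ℕ => ((μ ^ ((-(q : ℤ)) ^ i) : (AlgebraicClosure F)ˣ) : AlgebraicClosure F)))
    (hcard : (eigs (AlgebraicClosure F) M).card = n) (t : ℕ) :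
    (∃ c₀ : F, M ^ t = c₀ • (1 : Matrix (Fin n) (Fin n) F)) ↔ μ ^ ((q + 1) * t) = 1 := by
  have : Nonempty (Fin n) := ⟨⟨0, by omega⟩⟩
  let Ω := AlgebraicClosure F
  have h0mem : ((μ : Ωˣ) : Ω) ∈ eigs Ω M := by
    rw [heigs, Finset.mem_image]
    exact ⟨0, Finset.mem_range.mpr (by omega), by simp⟩
  have h1mem : ((μ ^ (-(q : ℤ)) : Ωˣ) : Ω) ∈ eigs Ω M := by
    rw [heigs, Finset.mem_image]
    exact ⟨1, Finset.mem_range.mpr (by omega), by simp⟩
  have hkey : μ ^ ((q + 1) * t) = 1 ↔ (μ ^ (-(q : ℤ))) ^ t = μ ^ t := by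
    rw [← zpow_natCast (μ ^ (-(q : ℤ))) t, ← _root_.zpow_mul, ← zpow_natCast μ t,
      ← zpow_natCast μ ((q + 1) * t), zpow_eq_zpow_iff_modEq, zpow_eq_one_iff_modEq,
      Int.modEq_iff_dvd, Int.modEq_iff_dvd]
    have : (t : ℤ) - -(q : ℤ) * (t : ℤ) = (((q + 1) * t : ℕ) : ℤ) := by push_cast; ring
    rw [this, zero_sub, dvd_neg]
  rw [hkey]
  constructor
  · rintro ⟨c₀, hc₀⟩
    have h1 := pow_eq_of_pow_scalar (Ω := Ω) M t c₀ hc₀ _ h0mem
    have h2 := pow_eq_of_pow_scalar (Ω := Ω) M t c₀ hc₀ _ h1mem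
    apply Units.ext
    rw [Units.val_pow_eq_pow_val, Units.val_pow_eq_pow_val, h1, h2]
  · intro h
    have h2 : ∀ i : ℕ, (μ ^ ((-(q : ℤ)) ^ i)) ^ t = μ ^ t := by
      intro i
      induction i with
      | zero => simp
      | succ i ih =>
        rw [pow_succ, _root_.zpow_mul, ← zpow_natCast, ← _root_.zpow_mul, mul_comm,
          _root_.zpow_mul, zpow_natCast, ih, ← zpow_natCast, ← _root_.zpow_mul, mul_comm,
          _root_.zpow_mul, zpow_natCast]
        exact h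
    apply pow_scalar_of_card_eigs (Ω := Ω) M (by rw [hcard, Fintype.card_fin]) t
      ((μ ^ t : Ωˣ) : Ω)
    intro ν hν
    rw [heigs, Finset.mem_image] at hν
    obtain ⟨i, -, rfl⟩ := hν
    rw [← Units.val_pow_eq_pow_val, h2 i]

end Cfsg.Agent.Lib.Helper15.Eig
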