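import Mathlib
import Cfsg.Agent.Lib.Helper15.EigU2
import Cfsg.Agent.Lib.Helper15.EigF9
import Cfsg.Agent.Lib.Helper6.AutPSU1
import Cfsg.Agent.Lib.Helper16.SUCenter
import Cfsg.Agent.Lib.Helper14.HSemi10

/-!
# Elements of order `q ^ m + (-1) ^ m` in `PSU_{2m}(q)`: the necessary condition
-/

set_option autoImplicit false
set_option linter.unusedSectionVars false

namespace Cfsg.Agent.Lib.Helper15.Eig

open Matrix Module Cfsg

/-! ### arithmetic -/

theorem geom_sum_add_self_int (a : ℤ) (m : ℕ) :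
    ∑ i ∈ Finset.range (m + m), a ^ i = (1 + a ^ m) * ∑ i ∈ Finset.range m, a ^ i := by
  rw [Finset.sum_range_add, add_mul, one_mul, Finset.mul_sum]
  congr 1
  apply Finset.sum_congr rfl
  intro i _
  rw [pow_add]

theorem dvd_geom_sum_int_iff (a : ℤ) (m h : ℕ) (hh : (h : ℤ) ∣ a - 1) :
    (h : ℤ) ∣ ∑ i ∈ Finset.range m, a ^ i ↔ h ∣ m := by
  have h1 : ((a : ℤ) : ZMod h) = 1 := by
    have : (((a - 1 : ℤ)) : ZMod h) = 0 := (ZMod.intCast_zmod_eq_zero_iff_dvd _ _).mpr hh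
    rw [Int.cast_sub, Int.cast_one, sub_eq_zero] at this
    exact this
  rw [← ZMod.intCast_zmod_eq_zero_iff_dvd, ← ZMod.natCast_eq_zero_iff, Int.cast_sum]
  simp [h1]

variable {F : Type*} [Field F] [Fintype F]

/-- a matrix preserving the hermitian form, in the form used by the eigenvalue lemmas -/
theorem unitary_matrix_identity {q : ℕ} (hF : Fintype.card F = q ^ 2) (p : ℕ) [Fact p.Prime]
    [CharP F p] (f : ℕ) (hq : q = p ^ f) {n : ℕ} (M : Matrix (Fin n) (Fin n) F)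
    (hM : ∀ u v, hermForm n F q (M *ᵥ u) (M *ᵥ v) = hermForm n F q u v) :
    (M.map (iterateFrobenius F p f))ᵀ * M = 1 := by
  have h1 := Cfsg.Agent.Lib.Helper14.HSemi.herm_pres_matrix hF M hM
  have h2 := congrArg Matrix.transpose h1
  rw [Matrix.transpose_mul, Matrix.transpose_transpose, Matrix.transpose_one] at h2
  have h3 : M.map (iterateFrobenius F p f) = M.map (Cfsg.Agent.Lib.Helper14.HSemi.sigQ hF) := by
    ext i j
    simp only [Matrix.map_apply, iterateFrobenius_def, Cfsg.Agent.Lib.Helper14.HSemi.sigQ_apply, hq]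
  rw [h3]
  exact h2

/-- an element of `SU` with scalar matrix is central -/
theorem mem_center_SU_of_scalar {q n : ℕ} (g : ↥(Cfsg.SU n F q)) (c₀ : F)
    (h : ((g : Matrix.SpecialLinearGroup (Fin n) F) : Matrix (Fin n) (Fin n) F)
      = c₀ • (1 : Matrix (Fin n) (Fin n) F)) :
    g ∈ Subgroup.center ↥(Cfsg.SU n F q) := by
  rw [Subgroup.mem_center_iff]
  intro k
  apply Subtype.ext
  apply Subtype.ext
  simp only [Subgroup.coe_mul, Matrix.SpecialLinearGroup.coe_mul]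
  rw [h, Matrix.mul_smul, Matrix.smul_mul, Matrix.mul_one, Matrix.one_mul]

theorem half_torus_of_PSU_orderOf_aux {q : ℕ} (hF : Fintype.card F = q ^ 2) {m : ℕ} (hm : 2 ≤ m)
    (x : Cfsg.PSU (m + m) F q) (N r : ℕ) (hx : orderOf x = N) (hNeven : 2 ∣ N) (hN0 : 0 < N)
    (hNa : (N : ℤ) = 1 + (-(q : ℤ)) ^ m ∨ (N : ℤ) = -(1 + (-(q : ℤ)) ^ m))
    (hr : r.Prime) (hrN : r ∣ N) (hrF : (r : F) ≠ 0)
    (hord : orderOf (((-(q : ℤ)) : ℤ) : ZMod r) = m + m) :
    padicValNat 2 (q + 1) ≤ padicValNat 2 m := by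
  classical
  obtain ⟨p, hpc⟩ := CharP.exists F
  have : Fact p.Prime := ⟨CharP.char_is_prime F p⟩
  have hp := (Fact.out : p.Prime)
  obtain ⟨f, hf1, hq⟩ := Cfsg.Agent.Lib.Helper6.AutPSU.q_eq_pow (p := p) hF
  subst hq
  obtain ⟨g, rfl⟩ := QuotientGroup.mk_surjective x
  set M : Matrix (Fin (m + m)) (Fin (m + m)) F :=
    ((g : Matrix.SpecialLinearGroup (Fin (m + m)) F) : Matrix (Fin (m + m)) (Fin (m + m)) F)
    with hMdef
  have hMpres : ∀ u v, hermForm (m + m) F (p ^ f) (M *ᵥ u) (M *ᵥ v)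
      = hermForm (m + m) F (p ^ f) u v := g.2
  have hMu := unitary_matrix_identity hF p f rfl M hMpres
  have hcard : Fintype.card F = (p ^ f) ^ 2 := hF
  have hcoe : ∀ t : ℕ, (((g ^ t : ↥(Cfsg.SU (m + m) F (p ^ f))) :
      Matrix.SpecialLinearGroup (Fin (m + m)) F) : Matrix (Fin (m + m)) (Fin (m + m)) F) = M ^ t := by
    intro t
    rw [Subgroup.coe_pow, Matrix.SpecialLinearGroup.coe_pow]
  have hr1 : ¬ r ∣ p ^ f + 1 := by
    intro h
    have h1 : (((-((p ^ f : ℕ) : ℤ)) : ℤ) : ZMod r) = 1 := by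
      have h2 : (((p ^ f + 1 : ℕ)) : ZMod r) = 0 := (ZMod.natCast_eq_zero_iff _ _).mpr h
      push_cast at h2 ⊢
      linear_combination -h2
    rw [h1, orderOf_one] at hord
    omega
  have hgN : g ^ N ∈ Subgroup.center ↥(Cfsg.SU (m + m) F (p ^ f)) := by
    have h1 : (QuotientGroup.mk g : Cfsg.PSU (m + m) F (p ^ f)) ^ N = 1 := by
      rw [← hx]
      exact pow_orderOf_eq_one _
    have h2 : ((g ^ N : ↥(Cfsg.SU (m + m) F (p ^ f))) : Cfsg.PSU (m + m) F (p ^ f)) = 1 := h1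
    exact (QuotientGroup.eq_one_iff _).mp h2
  have hNr : N / r * r = N := Nat.div_mul_cancel hrN
  have hNr0 : 0 < N / r := Nat.div_pos (Nat.le_of_dvd hN0 hrN) hr.pos
  have hMpow : M ^ ((p ^ f + 1) * (N / r) * r) = 1 := by
    have h1 := Cfsg.Agent.Lib.Helper6.AutPSU.center_pow hF (by omega) _ hgN
    rw [← pow_mul] at h1
    have h2 := congrArg (fun z : ↥(Cfsg.SU (m + m) F (p ^ f)) =>
      ((z : Matrix.SpecialLinearGroup (Fin (m + m)) F) : Matrix (Fin (m + m)) (Fin (m + m)) F)) h1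
    simp only [hcoe] at h2
    rw [mul_assoc, hNr, mul_comm]
    exact h2
  have hMs : M ^ ((p ^ f + 1) * (N / r)) ≠ 1 := by
    intro h
    have h1 : g ^ ((p ^ f + 1) * (N / r)) = 1 := by
      apply Subtype.ext
      apply Subtype.ext
      rw [hcoe, h]
      rfl
    have h2 : (QuotientGroup.mk g : Cfsg.PSU (m + m) F (p ^ f)) ^ ((p ^ f + 1) * (N / r)) = 1 := by
      rw [← QuotientGroup.mk_pow, h1]
      rfl
    have h3 := orderOf_dvd_of_pow_eq_one h2
    rw [hx] at h3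
    have h3' : N / r * r ∣ N / r * (p ^ f + 1) := by
      rw [hNr, mul_comm]
      exact h3
    exact hr1 (Nat.dvd_of_mul_dvd_mul_left hNr0 h3')
  obtain ⟨μ, hinj, heigs, hcardE⟩ := exists_singer_eigs_unitary p f hcard (by omega) M hMu r
    ((p ^ f + 1) * (N / r)) hr hrF hord hMpow hMs
  have hdetμ := singer_eigs_unitary_det (by omega) M μ _ hinj heigs hcardE
    (g : Matrix.SpecialLinearGroup (Fin (m + m)) F).2
  rw [geom_sum_add_self_int] at hdetμ
  set E : ℤ := ∑ i ∈ Finset.range m, (-((p ^ f : ℕ) : ℤ)) ^ i with hE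
  have hiff : ∀ t : ℕ, (QuotientGroup.mk g : Cfsg.PSU (m + m) F (p ^ f)) ^ t = 1 ↔
      μ ^ ((p ^ f + 1) * t) = 1 := by
    intro t
    rw [← singer_eigs_unitary_pow_scalar_iff (by omega) M μ (p ^ f) heigs hcardE t]
    have h0 : (QuotientGroup.mk g : Cfsg.PSU (m + m) F (p ^ f)) ^ t = 1 ↔
        g ^ t ∈ Subgroup.center ↥(Cfsg.SU (m + m) F (p ^ f)) := by
      rw [← QuotientGroup.mk_pow]
      exact QuotientGroup.eq_one_iff _
    rw [h0]
    constructor
    · intro h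
      obtain ⟨c, _, _, hcz⟩ := Cfsg.Agent.Lib.Helper16.SU_center_scalar hF (by omega) _ h
      refine ⟨c, ?_⟩
      rw [← hcoe, hcz]
    · rintro ⟨c₀, hc₀⟩
      apply mem_center_SU_of_scalar _ c₀
      rw [hcoe, hc₀]
  have ho0 : 0 < orderOf μ := by
    rw [orderOf_pos_iff, isOfFinOrder_iff_pow_eq_one]
    refine ⟨(p ^ f + 1) * N, Nat.mul_pos (by omega) hN0, ?_⟩
    rw [← hiff, ← hx]
    exact pow_orderOf_eq_one _
  obtain ⟨o', c, hcop, ho', hc⟩ := Nat.exists_coprime (orderOf μ) (p ^ f + 1)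
  set h' := Nat.gcd (orderOf μ) (p ^ f + 1) with hh'
  have hh'0 : 0 < h' := Nat.gcd_pos_of_pos_left _ ho0
  have hiff2 : ∀ t : ℕ, (QuotientGroup.mk g : Cfsg.PSU (m + m) F (p ^ f)) ^ t = 1 ↔ o' ∣ t := by
    intro t
    rw [hiff t, ← orderOf_dvd_iff_pow_eq_one]
    constructor
    · intro h
      rw [ho'] at h
      have h1 : o' * h' ∣ c * t * h' := by
        calc o' * h' ∣ (p ^ f + 1) * t := h
          _ = c * t * h' := by rw [hc]; ring
      have h2 : o' ∣ c * t := Nat.dvd_of_mul_dvd_mul_right hh'0 h1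
      exact hcop.dvd_of_dvd_mul_left h2
    · rintro ⟨k, rfl⟩
      rw [ho']
      refine ⟨c * k, ?_⟩
      calc (p ^ f + 1) * (o' * k) = c * h' * (o' * k) := by rw [← hc]
        _ = o' * h' * (c * k) := by ring
  have hoN : o' = N := by
    rw [← hx]
    apply Nat.dvd_antisymm
    · exact (hiff2 _).mp (pow_orderOf_eq_one _)
    · exact orderOf_dvd_of_pow_eq_one ((hiff2 o').mpr dvd_rfl)
  -- conclusion
  have ho : (orderOf μ : ℤ) ∣ (N : ℤ) * E := by
    have h1 : (orderOf μ : ℤ) ∣ (1 + (-((p ^ f : ℕ) : ℤ)) ^ m) * E :=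
      orderOf_dvd_iff_zpow_eq_one.mpr hdetμ
    rcases hNa with h | h
    · rw [h]; exact h1
    · rw [h, neg_mul, dvd_neg]; exact h1
  have hh'E : (h' : ℤ) ∣ E := by
    rw [ho', hoN] at ho
    push_cast at ho
    exact (mul_dvd_mul_iff_left (by exact_mod_cast hN0.ne')).mp ho
  have hh'q : h' ∣ p ^ f + 1 := Nat.gcd_dvd_right _ _
  have hh'm : h' ∣ m := by
    refine (dvd_geom_sum_int_iff _ m h' ?_).mp hh'E
    have : (-((p ^ f : ℕ) : ℤ)) - 1 = -(((p ^ f + 1 : ℕ)) : ℤ) := by push_cast; ring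
    rw [this, dvd_neg]
    exact Int.natCast_dvd_natCast.mpr hh'q
  have hc2 : ¬ 2 ∣ c := by
    intro h2
    rw [hoN] at hcop
    have := Nat.dvd_gcd hNeven h2
    rw [hcop.gcd_eq_one] at this
    omega
  have hc0 : c ≠ 0 := by
    rintro rfl
    exact hc2 (dvd_zero 2)
  calc padicValNat 2 (p ^ f + 1) = padicValNat 2 (c * h') := by rw [← hc]
    _ = padicValNat 2 c + padicValNat 2 h' := padicValNat.mul hc0 hh'0.ne'
    _ = padicValNat 2 h' := by rw [padicValNat.eq_zero_of_not_dvd hc2, zero_add]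
    _ ≤ padicValNat 2 m := by
      rw [← padicValNat_dvd_iff_le (by omega)]
      exact pow_padicValNat_dvd.trans hh'm

end Cfsg.Agent.Lib.Helper15.Eig
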