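import Mathlib
import Cfsg.Agent.Lib.Helper15.EigU3
import Cfsg.Agent.Lib.Helper15.EigF3
import Cfsg.Agent.S2904

/-!
# Elements of order `q ^ m + (-1) ^ m` in `PSU_{2m}(q)`: the necessary condition, assembled
-/

set_option autoImplicit false
set_option linter.unusedSectionVars false

namespace Cfsg.Agent.Lib.Helper15.Eig

open Matrix Module Cfsg

/-- the order of `-q` modulo `r` from that of `q` -/
theorem orderOf_neg_zmod (r q m : ℕ) (hr : r.Prime) (hr2 : r ≠ 2) (hm : 0 < m)
    (h1 : ((-(q : ℤ) : ℤ) : ZMod r) ^ m = -1)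
    (h2 : ∀ k : ℕ, ((q : ℕ) : ZMod r) ^ (2 * k) = 1 → m ∣ k) :
    orderOf ((-(q : ℤ) : ℤ) : ZMod r) = m + m := by
  rw [orderOf_eq_iff (by omega)]
  constructor
  · rw [pow_add, h1]
    ring
  · intro k hk hk0 hpow
    have h3 : ((q : ℕ) : ZMod r) ^ (2 * k) = 1 := by
      have : ((q : ℕ) : ZMod r) ^ (2 * k) = (((-(q : ℤ) : ℤ) : ZMod r) ^ k) ^ 2 := by
        rw [Int.cast_neg, Int.cast_natCast, neg_pow, mul_pow, ← pow_mul, ← pow_mul, mul_comm k 2,
          Even.neg_one_pow (even_two_mul k), one_mul]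
      rw [this, hpow, one_pow]
    obtain ⟨c, hc⟩ := h2 k h3
    have hc1 : c = 1 := by
      rcases Nat.lt_or_ge c 1 with h | h
      · have : c = 0 := by omega
        rw [this, mul_zero] at hc
        omega
      · rcases Nat.lt_or_ge c 2 with h' | h'
        · omega
        · have : m * 2 ≤ m * c := Nat.mul_le_mul_left m h'
          omega
    rw [hc1, mul_one] at hc
    rw [hc, h1] at hpow
    exact one_ne_neg_one_zmod r hr hr2 hpow.symm

variable {F : Type*} [Field F] [Fintype F]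

theorem natCast_ne_zero_of_dvd_pow_sub_one {q : ℕ} (hF : Fintype.card F = q ^ 2) (r : ℕ)
    (hr : r.Prime) (j : ℕ) (h : r ∣ q ^ j - 1) (hq : 2 ≤ q) (hj : 0 < j) : (r : F) ≠ 0 := by
  obtain ⟨p, hpc⟩ := CharP.exists F
  have : Fact p.Prime := ⟨CharP.char_is_prime F p⟩
  have hp := (Fact.out : p.Prime)
  obtain ⟨f, hf1, hqf⟩ := Cfsg.Agent.Lib.Helper6.AutPSU.q_eq_pow (p := p) hF
  intro h0
  have h1 : p ∣ r := (CharP.cast_eq_zero_iff F p r).mp h0
  have h2 : r = p := ((Nat.prime_dvd_prime_iff_eq hp hr).mp h1).symm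
  have h3 : p ∣ q ^ j := by
    rw [hqf, ← pow_mul]
    exact dvd_pow_self p (by
      have : 0 < f * j := Nat.mul_pos (by omega) hj
      omega)
  rw [h2] at h
  have h4 : 1 ≤ q ^ j := Nat.one_le_pow _ _ (by omega)
  have h5 : p ∣ 1 := by
    have := (Nat.dvd_sub h3 h)
    rwa [Nat.sub_sub_self h4] at this
  exact hp.one_lt.ne' (Nat.dvd_one.mp h5)

theorem half_torus_of_PSU_orderOf {q : ℕ} (hF : Fintype.card F = q ^ 2) (hodd : Odd q) {m : ℕ}
    (hm : 2 ≤ m) (x : Cfsg.PSU (m + m) F q)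
    (hx : orderOf x = if Even m then q ^ m + 1 else q ^ m - 1) :
    padicValNat 2 (q + 1) ≤ padicValNat 2 m := by
  have hq2 : 2 ≤ q := Cfsg.Agent.Lib.Helper6.two_le_q hF
  have hq3 : 3 ≤ q := by
    rcases Nat.lt_or_ge q 3 with h | h
    · have : q = 2 := by omega
      rw [this] at hodd
      exact absurd hodd (by decide)
    · exact h
  have hqm1 : 1 ≤ q ^ m := Nat.one_le_pow _ _ (by omega)
  have hqm3 : 3 ≤ q ^ m := by
    calc 3 ≤ q := hq3
      _ = q ^ 1 := (pow_one q).symm
      _ ≤ q ^ m := Nat.pow_le_pow_right (by omega) (by omega)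
  have hqmodd : Odd (q ^ m) := hodd.pow
  by_cases hme : Even m
  · rw [if_pos hme] at hx
    obtain ⟨r, hr, hrn, hrk⟩ := Cfsg.Agent.S2904.result q (m + m) (by omega) (by omega)
      (by
        rintro ⟨h2, -⟩
        omega)
      (by
        rintro ⟨h2, -⟩
        omega)
    have hqn : q ^ (m + m) - 1 = (q ^ m - 1) * (q ^ m + 1) := by
      obtain ⟨d, hd⟩ := Nat.exists_eq_add_of_le hqm1
      rw [pow_add, hd]
      have h1 : 1 + d - 1 = d := by omega
      have h2 : (1 + d) * (1 + d) - 1 = d * (1 + d + 1) := by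
        have : (1 + d) * (1 + d) = d * (1 + d + 1) + 1 := by ring
        omega
      rw [h1, h2]
    have hrN : r ∣ q ^ m + 1 := by
      rw [hqn] at hrn
      exact (hr.dvd_mul.mp hrn).resolve_left (hrk m (by omega) (by omega))
    have hr1 : ¬ r ∣ q - 1 := by
      have := hrk 1 one_pos (by omega)
      rwa [pow_one] at this
    have hr2 : r ≠ 2 := by
      rintro rfl
      apply hr1
      obtain ⟨k, hk⟩ := hodd
      exact ⟨k, by omega⟩
    have hordq : orderOf ((q : ℕ) : ZMod r) = m + m := by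
      rw [orderOf_eq_iff (by omega)]
      refine ⟨(zmod_pow_eq_one_iff r _ _ (by omega)).mpr hrn, ?_⟩
      intro k hk hk0 h
      exact hrk k hk0 hk ((zmod_pow_eq_one_iff r _ _ (by omega)).mp h)
    have hqm : ((q : ℕ) : ZMod r) ^ m = -1 := by
      have : (((q ^ m + 1 : ℕ)) : ZMod r) = 0 := (ZMod.natCast_eq_zero_iff _ _).mpr hrN
      push_cast at this
      linear_combination this
    apply half_torus_of_PSU_orderOf_aux hF hm x (q ^ m + 1) r hx (hqmodd.add_one).two_dvd
      (by omega) (Or.inl (by rw [hme.neg_pow]; push_cast; ring)) hr hrN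
      (natCast_ne_zero_of_dvd_pow_sub_one hF r hr (m + m) hrn hq2 (by omega))
    apply orderOf_neg_zmod r q m hr hr2 (by omega)
    · rw [Int.cast_neg, Int.cast_natCast, hme.neg_pow, hqm]
    · intro k hk
      have h1 := orderOf_dvd_of_pow_eq_one hk
      rw [hordq, ← two_mul] at h1
      exact Nat.dvd_of_mul_dvd_mul_left (by omega) h1
  · rw [if_neg hme] at hx
    have hmo : Odd m := Nat.not_even_iff_odd.mp hme
    have hm3 : 3 ≤ m := by
      rcases Nat.lt_or_ge m 3 with h | h
      · have : m = 2 := by omega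
        rw [this] at hme
        exact absurd (by decide : Even 2) hme
      · exact h
    obtain ⟨r, hr, hrn, hrk⟩ := Cfsg.Agent.S2904.result q m (by omega) (by omega)
      (by
        rintro ⟨h2, -⟩
        omega)
      (by
        rintro ⟨h2, -⟩
        omega)
    have hr1 : ¬ r ∣ q - 1 := by
      have := hrk 1 one_pos (by omega)
      rwa [pow_one] at this
    have hr2 : r ≠ 2 := by
      rintro rfl
      apply hr1
      obtain ⟨k, hk⟩ := hodd
      exact ⟨k, by omega⟩
    have hordq : orderOf ((q : ℕ) : ZMod r) = m := by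
      rw [orderOf_eq_iff (by omega)]
      refine ⟨(zmod_pow_eq_one_iff r _ _ (by omega)).mpr hrn, ?_⟩
      intro k hk hk0 h
      exact hrk k hk0 hk ((zmod_pow_eq_one_iff r _ _ (by omega)).mp h)
    have hqm : ((q : ℕ) : ZMod r) ^ m = 1 := (zmod_pow_eq_one_iff r _ _ (by omega)).mpr hrn
    have hNeven : 2 ∣ q ^ m - 1 := by
      obtain ⟨k, hk⟩ := hqmodd
      exact ⟨k, by omega⟩
    apply half_torus_of_PSU_orderOf_aux hF hm x (q ^ m - 1) r hx hNeven
      (by omega) (Or.inr (by rw [hmo.neg_pow, Nat.cast_sub hqm1]; push_cast; ring)) hr hrn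
      (natCast_ne_zero_of_dvd_pow_sub_one hF r hr m hrn hq2 (by omega))
    apply orderOf_neg_zmod r q m hr hr2 (by omega)
    · rw [Int.cast_neg, Int.cast_natCast, hmo.neg_pow, hqm]
    · intro k hk
      have h1 := orderOf_dvd_of_pow_eq_one hk
      rw [hordq] at h1
      have hc : Nat.Coprime m 2 := by
        rw [Nat.coprime_comm, Nat.Prime.coprime_iff_not_dvd Nat.prime_two]
        intro h2
        exact hme (even_iff_two_dvd.mpr h2)
      exact hc.dvd_of_dvd_mul_left h1

end Cfsg.Agent.Lib.Helper15.Eig
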