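import Mathlib
import Cfsg.Agent.Lib.Helper14.HCount2
import Cfsg.Agent.Lib.Helper14.GUConj2

/-!
# The embedding `GL_d(q²) → GU_{2d}(q)` as a stabiliser of a hyperbolic decomposition
-/

set_option autoImplicit false
set_option linter.unusedSectionVars false

namespace Cfsg.Agent.Lib.Helper15.Eig

open Matrix Module Cfsg Cfsg.Agent.Lib.Helper6 Cfsg.Agent.S0779
open Cfsg.Agent.Lib.Helper14.HSemi (sigQ sigQ_apply)
open Cfsg.Agent.Lib.Helper14.HCount (herm_mul_mul)

variable {F : Type*} [Field F] [Fintype F]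

theorem exists_hyp_embedding {q : ℕ} (hF : Fintype.card F = q ^ 2) (d : ℕ) :
    ∃ Ξ : (Matrix (Fin d) (Fin d) F × Matrix (Fin d) (Fin d) F) →*
        Matrix (Fin (d + d)) (Fin (d + d)) F,
      Function.Injective Ξ ∧ (∀ X, (Ξ X).det = X.1.det * X.2.det) ∧
      (∀ X : Matrix (Fin d) (Fin d) F × Matrix (Fin d) (Fin d) F,
        X.1ᵀ * X.2.map (sigQ hF) = 1 →
        ∀ u v, hermForm (d + d) F q (Ξ X *ᵥ u) (Ξ X *ᵥ v) = hermForm (d + d) F q u v) := by
  classical
  let B : ((Fin d → F) × (Fin d → F)) →ₛₗ[conjQ hF] ((Fin d → F) × (Fin d → F)) →ₗ[F] F :=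
    LinearMap.mk₂'ₛₗ (conjQ hF) (RingHom.id F)
      (fun x y => hermForm d F q y.1 x.2 + hermForm d F q y.2 x.1)
      (fun x x' y => by
        simp only [Prod.fst_add, Prod.snd_add, herm_add_right hF]; ring)
      (fun c x y => by
        simp only [Prod.smul_fst, Prod.smul_snd, herm_smul_right, smul_eq_mul, conjQ_apply]; ring)
      (fun x y y' => by
        simp only [Prod.fst_add, Prod.snd_add, herm_add_left]; ring)
      (fun c x y => by
        simp only [Prod.smul_fst, Prod.smul_snd, herm_smul_left, smul_eq_mul, RingHom.id_apply]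
        ring)
  have hB : ∀ x y, B x y = hermForm d F q y.1 x.2 + hermForm d F q y.2 x.1 := fun _ _ => rfl
  have hS : B.IsSymm := ⟨fun x y => by
    rw [hB, hB, map_add, conjQ_apply, conjQ_apply, herm_conj hF, herm_conj hF, add_comm]⟩
  have hN : ∀ u, (∀ v, B u v = 0) → u = 0 := by
    intro u hu
    apply Prod.ext
    · apply herm_nondeg hF
      intro y
      apply herm_swap_zero hF
      have := hu (0, y)
      rwa [hB, herm_zero_left, zero_add] at this
    · apply herm_nondeg hF
      intro y
      apply herm_swap_zero hF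
      have := hu (y, 0)
      rwa [hB, herm_zero_left, add_zero] at this
  have hk : finrank F ((Fin d → F) × (Fin d → F)) = d + d := by
    rw [Module.finrank_prod, Module.finrank_fin_fun]
  obtain ⟨φ, hφ⟩ := exists_std_herm hF B hS hN (d + d) hk
  let Ξ : (Matrix (Fin d) (Fin d) F × Matrix (Fin d) (Fin d) F) →*
      Matrix (Fin (d + d)) (Fin (d + d)) F :=
    { toFun := fun X =>
        LinearMap.toMatrix' (φ.conj ((Matrix.toLin' X.1).prodMap (Matrix.toLin' X.2)))
      map_one' := by
        simp only [Prod.fst_one, Prod.snd_one, Matrix.toLin'_one, LinearMap.prodMap_id,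
          LinearEquiv.conj_id, LinearMap.toMatrix'_id]
      map_mul' := by
        intro X Y
        simp only [Prod.fst_mul, Prod.snd_mul, Matrix.toLin'_mul]
        rw [← LinearMap.toMatrix'_comp, ← LinearEquiv.conj_comp, ← LinearMap.prodMap_comp] }
  have hΞ : ∀ X, Ξ X =
      LinearMap.toMatrix' (φ.conj ((Matrix.toLin' X.1).prodMap (Matrix.toLin' X.2))) := fun _ => rfl
  have hΞv : ∀ X x, Ξ X *ᵥ x = φ (((Matrix.toLin' X.1).prodMap (Matrix.toLin' X.2)) (φ.symm x)) := by
    intro X x
    rw [hΞ, LinearMap.toMatrix'_mulVec, LinearEquiv.conj_apply]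
    rfl
  refine ⟨Ξ, ?_, ?_, ?_⟩
  · intro X Y hXY
    have h1 : ∀ x, ((Matrix.toLin' X.1).prodMap (Matrix.toLin' X.2)) x
        = ((Matrix.toLin' Y.1).prodMap (Matrix.toLin' Y.2)) x := by
      intro x
      have := hΞv X (φ x)
      rw [hXY, hΞv Y (φ x), LinearEquiv.symm_apply_apply] at this
      exact (φ.injective this).symm
    apply Prod.ext
    · apply Matrix.toLin'.injective
      apply LinearMap.ext
      intro v
      have := congrArg Prod.fst (h1 (v, 0))
      simpa using this
    · apply Matrix.toLin'.injective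
      apply LinearMap.ext
      intro v
      have := congrArg Prod.snd (h1 (0, v))
      simpa using this
  · intro X
    rw [hΞ, LinearMap.det_toMatrix', LinearEquiv.conj_apply]
    rw [LinearMap.comp_assoc, LinearMap.det_conj, LinearMap.det_prodMap, LinearMap.det_toLin', LinearMap.det_toLin']
  · intro X hX u v
    rw [hΞv, hΞv, hφ]
    rw [hB]
    simp only [LinearMap.prodMap_apply, Matrix.toLin'_apply]
    rw [herm_mul_mul hF X.1 X.2 hX, ← herm_conj hF (X.1 *ᵥ (φ.symm v).1) (X.2 *ᵥ (φ.symm u).2),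
      herm_mul_mul hF X.1 X.2 hX, herm_conj hF, ← hB, ← hφ, LinearEquiv.apply_symm_apply,
      LinearEquiv.apply_symm_apply]

end Cfsg.Agent.Lib.Helper15.Eig
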