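import Mathlib
import Cfsg.Agent.Lib.Helper15.EigU5
import Cfsg.Agent.Lib.Helper15.EigU3
import Cfsg.Agent.Lib.Helper15.PGraph3

/-!
# Elements of order `q ^ m + (-1) ^ m` in `PSU_{2m}(q)`: existence
-/

set_option autoImplicit false
set_option linter.unusedSectionVars false

namespace Cfsg.Agent.Lib.Helper15.Eig

open Matrix Module Cfsg Cfsg.Agent.Lib.Helper6 Cfsg.Agent.S0779
open Cfsg.Agent.Lib.Helper14.HSemi (sigQ sigQ_apply)
open Cfsg.Agent.Lib.Helper14.GUConj (sharp sharp_mul sharp_one sharp_eq)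

variable {F : Type*} [Field F] [Fintype F]

/-- the arithmetic of `q ^ (2m) - 1` in terms of `a = -q` -/
theorem pow_add_self_sub_one_eq (q m : ℕ) (hq : 1 ≤ q) :
    q ^ (m + m) - 1 = (q + 1) * ((1 + (-(q : ℤ)) ^ m).natAbs *
      (∑ i ∈ Finset.range m, (-(q : ℤ)) ^ i).natAbs) := by
  have h1 : ((-(q : ℤ)) - 1) * ∑ i ∈ Finset.range (m + m), (-(q : ℤ)) ^ i
      = (-(q : ℤ)) ^ (m + m) - 1 := mul_geom_sum _ _
  have h2 : (-(q : ℤ)) ^ (m + m) = (q : ℤ) ^ (m + m) := by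
    rw [← two_mul, pow_mul, neg_pow_two, ← pow_mul]
  rw [geom_sum_add_self_int, h2] at h1
  have h3 : ((q ^ (m + m) - 1 : ℕ) : ℤ) = (q : ℤ) ^ (m + m) - 1 := by
    rw [Nat.cast_sub (Nat.one_le_pow _ _ hq)]
    push_cast
    ring
  have h4 : (q ^ (m + m) - 1 : ℕ) = ((q : ℤ) ^ (m + m) - 1).natAbs := by
    rw [← h3, Int.natAbs_natCast]
  rw [h4, ← h1, Int.natAbs_mul, Int.natAbs_mul]
  congr 1
  have : (-(q : ℤ)) - 1 = -(((q + 1 : ℕ)) : ℤ) := by push_cast; ring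
  rw [this, Int.natAbs_neg, Int.natAbs_natCast]

theorem natAbs_one_add_neg_pow (q m : ℕ) (hq : 1 ≤ q) :
    (1 + (-(q : ℤ)) ^ m).natAbs = if Even m then q ^ m + 1 else q ^ m - 1 := by
  have hqm1 : 1 ≤ q ^ m := Nat.one_le_pow _ _ hq
  by_cases hme : Even m
  · rw [if_pos hme, hme.neg_pow]
    have : (1 + (q : ℤ) ^ m) = ((q ^ m + 1 : ℕ) : ℤ) := by push_cast; ring
    rw [this, Int.natAbs_natCast]
  · rw [if_neg hme, (Nat.not_even_iff_odd.mp hme).neg_pow]
    have : (1 + -(q : ℤ) ^ m) = -((q ^ m - 1 : ℕ) : ℤ) := by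
      rw [Nat.cast_sub hqm1]
      push_cast
      ring
    rw [this, Int.natAbs_neg, Int.natAbs_natCast]

theorem exists_PSU_orderOf_half_torus {q : ℕ} (hF : Fintype.card F = q ^ 2) {m : ℕ} (hm : 0 < m)
    (hd : Nat.gcd (m + m) (q + 1) ∣ m) :
    ∃ x : Cfsg.PSU (m + m) F q, orderOf x = if Even m then q ^ m + 1 else q ^ m - 1 := by
  classical
  have hq2 : 2 ≤ q := two_le_q hF
  rw [← natAbs_one_add_neg_pow q m (by omega)]
  set N := (1 + (-(q : ℤ)) ^ m).natAbs with hN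
  set E₀ := (∑ i ∈ Finset.range m, (-(q : ℤ)) ^ i).natAbs with hE₀
  have harith : q ^ (m + m) - 1 = (q + 1) * (N * E₀) := pow_add_self_sub_one_eq q m (by omega)
  obtain ⟨Ξ, hΞinj, hΞdet, hΞpres⟩ := exists_hyp_embedding hF m
  obtain ⟨A, hA⟩ := PGraph.exists_GL_orderOf (F := F) m (by omega)
    (Fintype.card F ^ m - 1) dvd_rfl
  have hAord : orderOf A = q ^ (m + m) - 1 := by
    rw [hA, hF, ← pow_mul, two_mul]
  -- the homomorphism `GL_m → M_m × M_m`
  let Ψ : GL (Fin m) F →* Matrix (Fin m) (Fin m) F × Matrix (Fin m) (Fin m) F :=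
    { toFun := fun A => ((A : Matrix (Fin m) (Fin m) F),
        sharp hF ((A⁻¹ : GL (Fin m) F) : Matrix (Fin m) (Fin m) F))
      map_one' := by
        apply Prod.ext
        · rfl
        · show sharp hF (((1 : GL (Fin m) F)⁻¹ : GL (Fin m) F) : Matrix (Fin m) (Fin m) F) = 1
          rw [inv_one, Units.val_one, sharp_one]
      map_mul' := by
        intro A B
        apply Prod.ext
        · rfl
        · show sharp hF (((A * B)⁻¹ : GL (Fin m) F) : Matrix (Fin m) (Fin m) F)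
            = sharp hF ((A⁻¹ : GL (Fin m) F) : Matrix (Fin m) (Fin m) F)
              * sharp hF ((B⁻¹ : GL (Fin m) F) : Matrix (Fin m) (Fin m) F)
          rw [_root_.mul_inv_rev, Units.val_mul, sharp_mul] }
  have hΨ : ∀ A : GL (Fin m) F, Ψ A = ((A : Matrix (Fin m) (Fin m) F),
      sharp hF ((A⁻¹ : GL (Fin m) F) : Matrix (Fin m) (Fin m) F)) := fun _ => rfl
  have hΨinj : Function.Injective Ψ := by
    intro A B hAB
    have := congrArg Prod.fst hAB
    rw [hΨ, hΨ] at this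
    exact Units.ext this
  have hΨpres : ∀ A : GL (Fin m) F, (Ψ A).1ᵀ * (Ψ A).2.map (sigQ hF) = 1 := by
    intro A
    rw [hΨ]
    show (A : Matrix (Fin m) (Fin m) F)ᵀ *
      (sharp hF ((A⁻¹ : GL (Fin m) F) : Matrix (Fin m) (Fin m) F)).map (sigQ hF) = 1
    rw [sharp_eq, ← Matrix.transpose_map, Cfsg.Agent.Lib.Helper14.HCount.map_map_sigQ,
      ← Matrix.transpose_mul, ← Units.val_mul, inv_mul_cancel, Units.val_one,
      Matrix.transpose_one]
  let Θ : GL (Fin m) F →* Matrix (Fin (m + m)) (Fin (m + m)) F := Ξ.comp Ψ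
  have hΘinj : Function.Injective Θ := hΞinj.comp hΨinj
  have hΘpres : ∀ A : GL (Fin m) F, ∀ u v,
      hermForm (m + m) F q (Θ A *ᵥ u) (Θ A *ᵥ v) = hermForm (m + m) F q u v :=
    fun A => hΞpres (Ψ A) (hΨpres A)
  -- the element
  set M : Matrix (Fin (m + m)) (Fin (m + m)) F := Θ (A ^ (q + 1)) with hM
  have hMpres := hΘpres (A ^ (q + 1))
  have hMdet : M.det = 1 := by
    rw [hM, map_pow, Matrix.det_pow]
    exact det_norm_of_pres hF _ (hΘpres A)
  have hN0E : 0 < (q + 1) * (N * E₀) := by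
    rw [← harith]
    have : 2 ^ (m + m) ≤ q ^ (m + m) := Nat.pow_le_pow_left hq2 _
    have : 2 ^ 1 ≤ 2 ^ (m + m) := Nat.pow_le_pow_right (by omega) (by omega)
    omega
  have hNE0 : 0 < N * E₀ := Nat.pos_of_mul_pos_left hN0E
  have hMord : orderOf M = N * E₀ := by
    rw [hM, orderOf_injective Θ hΘinj,
      orderOf_pow_of_dvd (by omega) (by rw [hAord, harith]; exact dvd_mul_right _ _), hAord,
      harith]
    exact Nat.mul_div_cancel_left _ (by omega)
  let g : ↥(Cfsg.SU (m + m) F q) := ⟨⟨M, hMdet⟩, hMpres⟩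
  have hg : orderOf g = N * E₀ := by
    rw [← Subgroup.orderOf_coe, PGraph.orderOf_SL_eq]
    exact hMord
  let x : Cfsg.PSU (m + m) F q := QuotientGroup.mk g
  have hgfin : IsOfFinOrder g := by
    rw [← orderOf_pos_iff, hg]
    exact hNE0
  have hxfin : IsOfFinOrder x := by
    have : x = QuotientGroup.mk' _ g := rfl
    rw [this]
    exact (QuotientGroup.mk' _).isOfFinOrder hgfin
  have ht0 : 0 < orderOf x := orderOf_pos_iff.mpr hxfin
  have hz : g ^ orderOf x ∈ Subgroup.center ↥(Cfsg.SU (m + m) F q) := by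
    have h1 : x ^ orderOf x = 1 := pow_orderOf_eq_one x
    have h2 : ((g ^ orderOf x : ↥(Cfsg.SU (m + m) F q)) : Cfsg.PSU (m + m) F q) = 1 := h1
    exact (QuotientGroup.eq_one_iff _).mp h2
  have hz1 : (g ^ orderOf x) ^ (q + 1) = 1 :=
    Cfsg.Agent.Lib.Helper6.AutPSU.center_pow hF (by omega) _ hz
  have hz2 : (g ^ orderOf x) ^ (m + m) = 1 := by
    obtain ⟨c, _, hc, hcz⟩ := Cfsg.Agent.Lib.Helper16.SU_center_scalar hF (by omega) _ hz
    apply Subtype.ext
    apply Subtype.ext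
    rw [Subgroup.coe_pow, Matrix.SpecialLinearGroup.coe_pow, hcz, smul_pow, one_pow, hc, one_smul]
    rfl
  have hz3 := pow_gcd_eq_one.mpr ⟨hz2, hz1⟩
  rw [← pow_mul] at hz3
  have h3 := orderOf_dvd_of_pow_eq_one hz3
  rw [hg] at h3
  have hdE : Nat.gcd (m + m) (q + 1) ∣ E₀ := by
    rw [hE₀, ← Int.natCast_dvd_natCast, Int.natCast_natAbs, dvd_abs]
    refine (dvd_geom_sum_int_iff _ m _ ?_).mpr hd
    have : (-(q : ℤ)) - 1 = -(((q + 1 : ℕ)) : ℤ) := by push_cast; ring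
    rw [this, dvd_neg]
    exact Int.natCast_dvd_natCast.mpr (Nat.gcd_dvd_right _ _)
  have hE0 : 0 < E₀ := Nat.pos_of_mul_pos_left (by rwa [mul_comm] at hNE0)
  have h4 : N * E₀ ∣ orderOf x * E₀ := h3.trans (Nat.mul_dvd_mul_left _ hdE)
  have h5 : N ∣ orderOf x := Nat.dvd_of_mul_dvd_mul_right hE0 h4
  have hN0 : 0 < N := Nat.pos_of_mul_pos_right hNE0
  refine ⟨x ^ (orderOf x / N), ?_⟩
  rw [orderOf_pow_of_dvd]
  · exact Nat.div_div_self h5 ht0.ne'
  · have := Nat.div_pos (Nat.le_of_dvd ht0 h5) hN0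
    omega
  · exact Nat.div_dvd_of_dvd h5

end Cfsg.Agent.Lib.Helper15.Eig
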