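import Mathlib

/-!
# Concrete computable quadratic extensions of `ZMod p`  (helper15)

`QF p ν` is `ZMod p × ZMod p` with the multiplication of `ZMod p [√ν]`.  It is a commutative ring for all `p, ν`, a field
when `p` is prime and `ν` is a non-square, has decidable equality and is a `Fintype`, so identities between small matrices
over `K9 = QF 3 2` and `K25 = QF 5 2` can be proved by `decide`.  For every field `F` with `p ^ 2` elements there is a
ring isomorphism `QF p ν ≃+* F` (`QF.equivOfCard`).
-/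

set_option autoImplicit false

namespace Cfsg.Agent.Lib.Helper15.FQuad

/-- `ZMod p [√ν]`, elements `re + im √ν` -/
@[ext] structure QF (p : ℕ) (ν : ZMod p) where
  re : ZMod p
  im : ZMod p
  deriving DecidableEq

namespace QF

variable {p : ℕ} {ν : ZMod p}

instance : Zero (QF p ν) := ⟨⟨0, 0⟩⟩
instance : One (QF p ν) := ⟨⟨1, 0⟩⟩
instance : Add (QF p ν) := ⟨fun x y => ⟨x.re + y.re, x.im + y.im⟩⟩
instance : Neg (QF p ν) := ⟨fun x => ⟨-x.re, -x.im⟩⟩
instance : Sub (QF p ν) := ⟨fun x y => ⟨x.re - y.re, x.im - y.im⟩⟩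
instance : Mul (QF p ν) := ⟨fun x y => ⟨x.re * y.re + ν * x.im * y.im, x.re * y.im + x.im * y.re⟩⟩

@[simp] theorem zero_re : (0 : QF p ν).re = 0 := rfl
@[simp] theorem zero_im : (0 : QF p ν).im = 0 := rfl
@[simp] theorem one_re : (1 : QF p ν).re = 1 := rfl
@[simp] theorem one_im : (1 : QF p ν).im = 0 := rfl
@[simp] theorem add_re (x y : QF p ν) : (x + y).re = x.re + y.re := rfl
@[simp] theorem add_im (x y : QF p ν) : (x + y).im = x.im + y.im := rfl
@[simp] theorem neg_re (x : QF p ν) : (-x).re = -x.re := rfl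
@[simp] theorem neg_im (x : QF p ν) : (-x).im = -x.im := rfl
@[simp] theorem sub_re (x y : QF p ν) : (x - y).re = x.re - y.re := rfl
@[simp] theorem sub_im (x y : QF p ν) : (x - y).im = x.im - y.im := rfl
@[simp] theorem mul_re (x y : QF p ν) : (x * y).re = x.re * y.re + ν * x.im * y.im := rfl
@[simp] theorem mul_im (x y : QF p ν) : (x * y).im = x.re * y.im + x.im * y.re := rfl

instance : CommRing (QF p ν) where
  add_assoc x y z := by ext <;> simp [add_assoc]
  zero_add x := by ext <;> simp
  add_zero x := by ext <;> simp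
  add_comm x y := by ext <;> simp [add_comm]
  neg_add_cancel x := by ext <;> simp
  sub_eq_add_neg x y := by ext <;> simp [sub_eq_add_neg]
  left_distrib x y z := by ext <;> simp <;> ring
  right_distrib x y z := by ext <;> simp <;> ring
  zero_mul x := by ext <;> simp
  mul_zero x := by ext <;> simp
  mul_assoc x y z := by ext <;> simp <;> ring
  one_mul x := by ext <;> simp
  mul_one x := by ext <;> simp
  mul_comm x y := by ext <;> simp <;> ring
  nsmul := nsmulRec
  zsmul := zsmulRec

/-- the element `√ν` -/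
def sqrtν : QF p ν := ⟨0, 1⟩

/-- the embedding of `ZMod p` -/
def ofZ (a : ZMod p) : QF p ν := ⟨a, 0⟩

theorem sqrtν_mul_self : (sqrtν : QF p ν) * sqrtν = ofZ ν := by
  ext <;> simp [sqrtν, ofZ]

theorem eq_ofZ_add (x : QF p ν) : x = ofZ x.re + ofZ x.im * sqrtν := by
  ext <;> simp [sqrtν, ofZ]

instance [NeZero p] : Fintype (QF p ν) :=
  Fintype.ofEquiv (ZMod p × ZMod p)
    { toFun := fun x => ⟨x.1, x.2⟩
      invFun := fun x => (x.re, x.im)
      left_inv := fun _ => rfl
      right_inv := fun _ => rfl }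

theorem card_eq [NeZero p] : Fintype.card (QF p ν) = p ^ 2 := by
  rw [Fintype.card_congr (show QF p ν ≃ ZMod p × ZMod p from
    { toFun := fun x => (x.re, x.im)
      invFun := fun x => ⟨x.1, x.2⟩
      left_inv := fun _ => rfl
      right_inv := fun _ => rfl }), Fintype.card_prod, ZMod.card, sq]

/-- the norm `re² - ν im²` -/
def nrm (x : QF p ν) : ZMod p := x.re * x.re - ν * x.im * x.im

/-- the conjugate `re - im √ν` -/
def conj (x : QF p ν) : QF p ν := ⟨x.re, -x.im⟩

theorem mul_conj (x : QF p ν) : x * conj x = ofZ (nrm x) := by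
  ext <;> simp [conj, ofZ, nrm] <;> ring

instance : Inv (QF p ν) := ⟨fun x => ⟨x.re * (nrm x)⁻¹, -x.im * (nrm x)⁻¹⟩⟩

theorem inv_def (x : QF p ν) : x⁻¹ = ⟨x.re * (nrm x)⁻¹, -x.im * (nrm x)⁻¹⟩ := rfl

section field
variable [Fact p.Prime]

theorem nrm_ne_zero (hν : ∀ t : ZMod p, t * t ≠ ν) {x : QF p ν} (hx : x ≠ 0) : nrm x ≠ 0 := by
  intro h
  unfold nrm at h
  by_cases hb : x.im = 0
  · rw [hb] at h
    have : x.re = 0 := by simpa using h
    exact hx (by ext <;> simp [this, hb])
  · apply hν (x.re * x.im⁻¹)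
    field_simp
    linear_combination h

/-- `QF p ν` is a field when `ν` is a non-square modulo the prime `p` -/
abbrev instField (hν : ∀ t : ZMod p, t * t ≠ ν) : Field (QF p ν) where
  exists_pair_ne := ⟨0, 1, fun h => by
    have := congrArg QF.re h
    simp at this⟩
  mul_inv_cancel x hx := by
    have hn := nrm_ne_zero hν hx
    ext
    · simp only [mul_re, inv_def, one_re]
      have h : x.re * (x.re * (nrm x)⁻¹) + ν * x.im * (-x.im * (nrm x)⁻¹) = nrm x * (nrm x)⁻¹ := by
        unfold nrm
        ring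
      rw [h, mul_inv_cancel₀ hn]
    · simp only [mul_im, inv_def, one_im]
      ring
  inv_zero := by
    ext <;> simp [inv_def]
  nnqsmul := _
  nnqsmul_def := fun _ _ => rfl
  qsmul := _
  qsmul_def := fun _ _ => rfl

end field

/-! ### the homomorphism to a field with `p ^ 2` elements -/

section hom
variable {F : Type*} [Field F] [CharP F p]

/-- the ring homomorphism `QF p ν →+* F` attached to a square root `ι` of `ν` in `F` -/
def toF (ι : F) (hι : ι * ι = (ZMod.castHom (dvd_refl p) F) ν) : QF p ν →+* F where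
  toFun x := ZMod.castHom (dvd_refl p) F x.re + ZMod.castHom (dvd_refl p) F x.im * ι
  map_one' := by simp
  map_zero' := by simp
  map_mul' x y := by
    simp only [mul_re, mul_im, map_add, map_mul]
    linear_combination (ZMod.castHom (dvd_refl p) F x.im * ZMod.castHom (dvd_refl p) F y.im) * (-hι)
  map_add' x y := by
    simp only [add_re, add_im, map_add]
    ring

theorem toF_apply (ι : F) (hι : ι * ι = (ZMod.castHom (dvd_refl p) F) ν) (x : QF p ν) :
    toF ι hι x = ZMod.castHom (dvd_refl p) F x.re + ZMod.castHom (dvd_refl p) F x.im * ι := rfl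

theorem toF_sqrtν (ι : F) (hι : ι * ι = (ZMod.castHom (dvd_refl p) F) ν) : toF ι hι (sqrtν : QF p ν) = ι := by
  simp [toF_apply, sqrtν]

theorem toF_ofZ (ι : F) (hι : ι * ι = (ZMod.castHom (dvd_refl p) F) ν) (a : ZMod p) :
    toF ι hι (ofZ a : QF p ν) = ZMod.castHom (dvd_refl p) F a := by
  simp [toF_apply, ofZ]

end hom

end QF

/-! ### every field with `p ^ 2` elements is `QF p ν` -/

section equiv
variable {F : Type*} [Field F] [Fintype F] {p : ℕ}

/-- the characteristic of a field with `p ^ 2` elements -/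
theorem charP_of_card_sq (hp : p.Prime) (hF : Fintype.card F = p ^ 2) : CharP F p := by
  obtain ⟨p', hp'⟩ := CharP.exists F
  have hpp : p'.Prime := (CharP.char_is_prime_or_zero F p').resolve_right (by
    intro h0
    subst h0
    have : (Fintype.card F : F) = 0 := Nat.cast_card_eq_zero F
    rw [CharP.cast_eq_zero_iff F 0, zero_dvd_iff] at this
    exact Fintype.card_ne_zero this)
  have h1 : p' ∣ Fintype.card F := by
    rw [← CharP.cast_eq_zero_iff F p']
    exact Nat.cast_card_eq_zero F
  rw [hF] at h1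
  have h2 : p' = p := (Nat.prime_dvd_prime_iff_eq hpp hp).mp (hpp.dvd_of_dvd_pow h1)
  rw [← h2]
  exact hp'

/-- every element of the prime field is a square in the field with `p ^ 2` elements -/
theorem exists_sqrt [Fact p.Prime] [CharP F p] (hp2 : p ≠ 2) (hF : Fintype.card F = p ^ 2) (a : ZMod p) :
    ∃ ι : F, ι * ι = (ZMod.castHom (dvd_refl p) F) a := by
  have hp : p.Prime := Fact.out
  by_cases ha : a = 0
  · exact ⟨0, by simp [ha]⟩
  set x : F := (ZMod.castHom (dvd_refl p) F) a with hx
  have hx0 : x ≠ 0 := by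
    intro h
    exact ha ((map_eq_zero_iff _ (RingHom.injective _)).mp h)
  have h1 : x ^ (p - 1) = 1 := by
    rw [hx, ← map_pow, ZMod.pow_card_sub_one_eq_one ha, map_one]
  have hchar : ringChar F ≠ 2 := by
    rw [ringChar.eq F p]
    exact hp2
  have hodd : Odd p := hp.odd_of_ne_two hp2
  obtain ⟨k, hk⟩ := hodd
  have hcard : Fintype.card F / 2 = (p - 1) * (k + 1) := by
    rw [hF, hk]
    have : (2 * k + 1) ^ 2 = 2 * ((2 * k + 1 - 1) * (k + 1)) + 1 := by
      have : 2 * k + 1 - 1 = 2 * k := by omega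
      rw [this]
      ring
    rw [this]
    omega
  have h2 : x ^ (Fintype.card F / 2) = 1 := by
    rw [hcard, pow_mul, h1, one_pow]
  obtain ⟨ι, hι⟩ := (FiniteField.isSquare_iff hchar hx0).mpr h2
  exact ⟨ι, hι.symm⟩

/-- a field with `p ^ 2` elements is isomorphic to `QF p ν`, `ν` a non-square -/
theorem exists_ringEquiv [Fact p.Prime] [NeZero p] {ν : ZMod p} (hν : ∀ t : ZMod p, t * t ≠ ν) (hp2 : p ≠ 2)
    (hF : Fintype.card F = p ^ 2) :
    ∃ (_ : CharP F p) (φ : QF p ν →+* F), Function.Bijective φ := by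
  have hp : p.Prime := Fact.out
  have hch := charP_of_card_sq hp hF
  obtain ⟨ι, hι⟩ := exists_sqrt (F := F) hp2 hF ν
  refine ⟨hch, QF.toF ι hι, ?_⟩
  rw [Fintype.bijective_iff_injective_and_card]
  refine ⟨?_, by rw [QF.card_eq, hF]⟩
  letI := QF.instField hν
  exact RingHom.injective (QF.toF ι hι)

end equiv

/-- the field with nine elements `ZMod 3 [√2]` -/
abbrev K9 := QF 3 (2 : ZMod 3)

/-- the field with twenty-five elements `ZMod 5 [√2]` -/
abbrev K25 := QF 5 (2 : ZMod 5)

instance : Fact (Nat.Prime 3) := ⟨by norm_num⟩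
instance : Fact (Nat.Prime 5) := ⟨by norm_num⟩

theorem nonsq9 : ∀ t : ZMod 3, t * t ≠ 2 := by decide
theorem nonsq25 : ∀ t : ZMod 5, t * t ≠ 2 := by decide

instance : Field K9 := QF.instField nonsq9
instance : Field K25 := QF.instField nonsq25

/-- a field with nine elements is `K9` -/
theorem exists_equiv9 {F : Type*} [Field F] [Fintype F] (hF : Fintype.card F = 3 ^ 2) :
    ∃ (_ : CharP F 3) (φ : K9 →+* F), Function.Bijective φ :=
  exists_ringEquiv nonsq9 (by norm_num) hF

/-- a field with twenty-five elements is `K25` -/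
theorem exists_equiv25 {F : Type*} [Field F] [Fintype F] (hF : Fintype.card F = 5 ^ 2) :
    ∃ (_ : CharP F 5) (φ : K25 →+* F), Function.Bijective φ :=
  exists_ringEquiv nonsq25 (by norm_num) hF

end Cfsg.Agent.Lib.Helper15.FQuad
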