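import Cfsg.Agent.Lib.Helper15.Fi23ODefs
import Cfsg.Agent.Lib.Helper4.TC.Fi23Cod

set_option autoImplicit false
set_option maxRecDepth 100000
set_option maxHeartbeats 0

namespace Cfsg.Agent.Lib.Helper15.Fi23O

open Cfsg.Agent.Lib.Helper15.Walk Cfsg.Agent.Lib.Helper28.BSGS Cfsg.Agent.Lib.Helper22.SuzOut

/-- copy of helper4's list of relator words of the presentation -/
def myBases : List (List ℕ) := [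
  [0, 0],
  [2, 0, 2, 0, 2, 0],
  [4, 0, 4, 0],
  [6, 0, 6, 0],
  [8, 0, 8, 0],
  [10, 0, 10, 0],
  [12, 0, 12, 0],
  [16, 0, 16, 0],
  [14, 0, 14, 0],
  [18, 0, 18, 0],
  [0, 2, 0, 2, 0, 2],
  [2, 2],
  [4, 2, 4, 2, 4, 2],
  [6, 2, 6, 2],
  [8, 2, 8, 2],
  [10, 2, 10, 2],
  [12, 2, 12, 2],
  [16, 2, 16, 2],
  [14, 2, 14, 2],
  [18, 2, 18, 2],
  [0, 4, 0, 4],
  [2, 4, 2, 4, 2, 4],
  [4, 4],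
  [6, 4, 6, 4, 6, 4],
  [8, 4, 8, 4],
  [10, 4, 10, 4],
  [12, 4, 12, 4],
  [16, 4, 16, 4],
  [14, 4, 14, 4],
  [18, 4, 18, 4],
  [0, 6, 0, 6],
  [2, 6, 2, 6],
  [4, 6, 4, 6, 4, 6],
  [6, 6],
  [8, 6, 8, 6, 8, 6],
  [10, 6, 10, 6],
  [12, 6, 12, 6],
  [16, 6, 16, 6, 16, 6],
  [14, 6, 14, 6],
  [18, 6, 18, 6],
  [0, 8, 0, 8],
  [2, 8, 2, 8],
  [4, 8, 4, 8],
  [6, 8, 6, 8, 6, 8],
  [8, 8],
  [10, 8, 10, 8, 10, 8],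
  [12, 8, 12, 8],
  [16, 8, 16, 8],
  [14, 8, 14, 8],
  [18, 8, 18, 8],
  [0, 10, 0, 10],
  [2, 10, 2, 10],
  [4, 10, 4, 10],
  [6, 10, 6, 10],
  [8, 10, 8, 10, 8, 10],
  [10, 10],
  [12, 10, 12, 10, 12, 10],
  [16, 10, 16, 10],
  [14, 10, 14, 10],
  [18, 10, 18, 10],
  [0, 12, 0, 12],
  [2, 12, 2, 12],
  [4, 12, 4, 12],
  [6, 12, 6, 12],
  [8, 12, 8, 12],
  [10, 12, 10, 12, 10, 12],
  [12, 12],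
  [16, 12, 16, 12],
  [14, 12, 14, 12, 14, 12],
  [18, 12, 18, 12],
  [0, 16, 0, 16],
  [2, 16, 2, 16],
  [4, 16, 4, 16],
  [6, 16, 6, 16, 6, 16],
  [8, 16, 8, 16],
  [10, 16, 10, 16],
  [12, 16, 12, 16],
  [16, 16],
  [14, 16, 14, 16],
  [18, 16, 18, 16, 18, 16],
  [0, 14, 0, 14],
  [2, 14, 2, 14],
  [4, 14, 4, 14],
  [6, 14, 6, 14],
  [8, 14, 8, 14],
  [10, 14, 10, 14],
  [12, 14, 12, 14, 12, 14],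
  [16, 14, 16, 14],
  [14, 14],
  [18, 14, 18, 14],
  [0, 18, 0, 18],
  [2, 18, 2, 18],
  [4, 18, 4, 18],
  [6, 18, 6, 18],
  [8, 18, 8, 18],
  [10, 18, 10, 18],
  [12, 18, 12, 18],
  [16, 18, 16, 18, 16, 18],
  [14, 18, 14, 18],
  [18, 18],
  [18, 16, 6, 10, 8, 6, 2, 4, 6, 18, 16, 6, 10, 8, 6, 2, 4, 6, 18, 16, 6, 10, 8, 6, 2, 4, 6, 18, 16, 6, 10, 8, 6, 2, 4, 6, 18, 16, 6, 10, 8, 6, 2, 4, 6, 18, 16, 6, 10, 8, 6, 2, 4, 6, 18, 16, 6, 10, 8, 6, 2, 4, 6, 18, 16, 6, 10, 8, 6, 2, 4, 6, 18, 16, 6, 10, 8, 6, 2, 4, 6, 18, 16, 6, 10, 8, 6, 2, 4, 6],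
  [16, 10, 8, 6, 4, 2, 0, 16, 10, 8, 6, 4, 2, 0, 16, 10, 8, 6, 4, 2, 0, 16, 10, 8, 6, 4, 2, 0, 16, 10, 8, 6, 4, 2, 0, 16, 10, 8, 6, 4, 2, 0, 16, 10, 8, 6, 4, 2, 0, 16, 10, 8, 6, 4, 2, 0, 16, 10, 8, 6, 4, 2, 0]]

/-- the tables of a relator word -/
def relTabs (b : List ℕ) : List ℕ :=
  (b.map Cfsg.Agent.Helper4.TC.Fi23Cod.dec).reverse.map fun l => if l.2 then (T l.1).1 else (T l.1).2

end Cfsg.Agent.Lib.Helper15.Fi23O
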