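import Cfsg.Agent.Lib.Helper15.WalkFast

/-!
# Splitting the pointwise table checks into ranges

The kernel keeps every intermediate big number of an evaluation until the declaration is checked, so
a check over all points of a large domain is split into ranges, each checked by its own theorem,
and the pieces are glued together here.
-/

set_option autoImplicit false

namespace Cfsg.Agent.Lib.Helper15.Walk

open Cfsg.Agent.Lib.Helper28.BSGS Cfsg.Agent.Lib.Helper22.SuzOut MulAction

/-- check `f` on `lo, lo + 1, …, lo + len - 1` -/
noncomputable def allRange (f : ℕ → Bool) (lo len : ℕ) : Bool :=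
  Nat.rec (motive := fun _ => Bool) true (fun k ih => f (lo + k) && ih) len

theorem allRange_succ (f : ℕ → Bool) (lo len : ℕ) :
    allRange f lo (len + 1) = (f (lo + len) && allRange f lo len) := rfl

theorem allRange_spec {f : ℕ → Bool} {lo len : ℕ} (h : allRange f lo len = true) :
    ∀ k, lo ≤ k → k < lo + len → f k = true := by
  induction len with
  | zero => intro k h1 h2; omega
  | succ m ih =>
    rw [allRange_succ, Bool.and_eq_true] at h
    intro k h1 h2
    by_cases hk : k = lo + m
    · rw [hk]; exact h.1
    · exact ih h.2 k h1 (by omega)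

theorem allBelow_nil (f : ℕ → Bool) : allBelow f 0 = true := rfl

/-- gluing a range to an initial segment -/
theorem allBelow_append {f : ℕ → Bool} {m len m' : ℕ} (hm : m + len = m')
    (h1 : allBelow f m = true) (h2 : allRange f m len = true) : allBelow f m' = true := by
  subst hm
  apply allBelow_of
  intro k hk
  by_cases hlt : k < m
  · exact allBelow_spec h1 k hlt
  · exact allRange_spec h2 k (by omega) hk

/-! ## the pointwise checks -/

/-- the check of `pairOKf` at one point -/
noncomputable def pairPt (n w tu tv a : ℕ) : Bool :=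
  Nat.blt (look w tu a) n && Nat.beq (look w tv (look w tu a)) a &&
    Nat.blt (look w tv a) n && Nat.beq (look w tu (look w tv a)) a

theorem pairOKf_of_pts {n w tu tv : ℕ} (h : allBelow (pairPt n w tu tv) n = true) :
    pairOKf n w tu tv = true := h

/-- the check of `wordIdF` at one point -/
noncomputable def wordIdPt (w : ℕ) (ws : List ℕ) (a : ℕ) : Bool := Nat.beq (evalL w ws a) a

theorem wordIdF_of_pts {n w : ℕ} {ws : List ℕ} (h : allBelow (wordIdPt w ws) n = true) :
    wordIdF n w ws = true := h

/-- the check of `wordEqF` at one point -/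
noncomputable def wordEqPt (w : ℕ) (ws ws' : List ℕ) (a : ℕ) : Bool :=
  Nat.beq (evalL w ws a) (evalL w ws' a)

theorem wordEqF_of_pts {n w : ℕ} {ws ws' : List ℕ} (h : allBelow (wordEqPt w ws ws') n = true) :
    wordEqF n w ws ws' = true := h

/-- the check of a level at one point -/
noncomputable def lvlPt (w sw D : ℕ) (lv : WLevel) (x : ℕ) : Bool :=
  !(inOrb sw lv x) || walkOK w sw lv D x

theorem wlevelOK_of_pts {n w sw D : ℕ} {prev : List ℕ} {lv : WLevel}
    (h1 : Nat.blt lv.b n = true)
    (h2 : lv.gs.all (fun g => prev.all fun p => Nat.beq (look w g.1 p) p) = true)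
    (h3 : allBelow (lvlPt w sw D lv) n = true) : wlevelOK n w sw D prev lv = true := by
  unfold wlevelOK
  rw [h1, h2]
  exact h3

/-- the exclusion check at one point -/
noncomputable def exclPt (w sw D : ℕ) (levels : List WLevel) (F : ℕ → List ℕ) (good : ℕ → Bool)
    (u : ℕ) : Bool := !(wsift w sw D levels (F u)) || good u

/-- the forward check of a path at one point -/
noncomputable def pathPt (w : ℕ) (gens : List (ℕ × ℕ)) (t : ℕ) (cs : List ℕ) (a : ℕ) : Bool :=
  Nat.beq (look w t a) (evalF w gens cs a)

/-- a valid pair of tables which agrees with a path pointwise is the permutation of the path -/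
theorem path_sound_fwd (n w : ℕ) [NeZero n] (gens : List (ℕ × ℕ)) (hg : gensOK n w gens = true)
    (e : ℕ × ℕ) (he : pairOK n w e.1 e.2 = true) (cs : List ℕ)
    (hcs : cs.all (fun c => Nat.blt (c / 2) gens.length) = true)
    (h : allBelow (pathPt w gens e.1 cs) n = true) :
    permOf n w e.1 e.2 = pathPerm n w gens cs ∧ permOf n w e.1 e.2 ∈ genGroup n w gens := by
  have hcs' : ∀ c ∈ cs, c / 2 < gens.length := by
    intro c hc
    have := List.all_eq_true.mp hcs c hc
    exact Nat.blt_eq.mp this
  have heq : permOf n w e.1 e.2 = pathPerm n w gens cs := by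
    apply Equiv.ext
    intro a
    apply Fin.ext
    rw [permOf_apply he, (pathPerm_spec n w gens hg cs hcs' a).1]
    exact Nat.eq_of_beq_eq_true (allBelow_spec h a.val a.isLt)
  refine ⟨heq, ?_⟩
  rw [heq]
  exact pathPerm_mem n w gens cs hcs'

end Cfsg.Agent.Lib.Helper15.Walk
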