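import Cfsg.Agent.Lib.Helper15.Fi23ODefs2
import Cfsg.Agent.Lib.Helper15.Fi23ODefs3
import Cfsg.Agent.Lib.Helper15.WalkPieces

set_option autoImplicit false
set_option maxRecDepth 100000
set_option maxHeartbeats 0
set_option Elab.async false

namespace Cfsg.Agent.Lib.Helper15.Fi23O

open Cfsg.Agent.Lib.Helper15.Walk Cfsg.Agent.Lib.Helper28.BSGS Cfsg.Agent.Lib.Helper22.SuzOut

theorem pair_cx0_p0 : allRange (pairPt 31671 15 cx0 cx0) 0 25000 = true := by decide +kernel

theorem pair_cx0_p1 : allRange (pairPt 31671 15 cx0 cx0) 25000 6671 = true := by decide +kernel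

theorem pair_cx1_p0 : allRange (pairPt 31671 15 cx1 cx1) 0 25000 = true := by decide +kernel

theorem pair_cx1_p1 : allRange (pairPt 31671 15 cx1 cx1) 25000 6671 = true := by decide +kernel

theorem pair_cx2_p0 : allRange (pairPt 31671 15 cx2 cx2) 0 25000 = true := by decide +kernel

theorem pair_cx2_p1 : allRange (pairPt 31671 15 cx2 cx2) 25000 6671 = true := by decide +kernel

theorem pair_cx3_p0 : allRange (pairPt 31671 15 cx3 cx3) 0 25000 = true := by decide +kernel

theorem pair_cx3_p1 : allRange (pairPt 31671 15 cx3 cx3) 25000 6671 = true := by decide +kernel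

theorem pair_cx4_p0 : allRange (pairPt 31671 15 cx4 cx4) 0 25000 = true := by decide +kernel

theorem pair_cx4_p1 : allRange (pairPt 31671 15 cx4 cx4) 25000 6671 = true := by decide +kernel

theorem pair_cx5_p0 : allRange (pairPt 31671 15 cx5 cx5) 0 25000 = true := by decide +kernel

theorem pair_cx5_p1 : allRange (pairPt 31671 15 cx5 cx5) 25000 6671 = true := by decide +kernel

theorem pair_cx6_p0 : allRange (pairPt 31671 15 cx6 cx6) 0 25000 = true := by decide +kernel

theorem pair_cx6_p1 : allRange (pairPt 31671 15 cx6 cx6) 25000 6671 = true := by decide +kernel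

theorem pair_cx7_p0 : allRange (pairPt 31671 15 cx7 cx7) 0 25000 = true := by decide +kernel

theorem pair_cx7_p1 : allRange (pairPt 31671 15 cx7 cx7) 25000 6671 = true := by decide +kernel

theorem pair_cx8_p0 : allRange (pairPt 31671 15 cx8 cx8) 0 25000 = true := by decide +kernel

theorem pair_cx8_p1 : allRange (pairPt 31671 15 cx8 cx8) 25000 6671 = true := by decide +kernel

theorem pair_cx9_p0 : allRange (pairPt 31671 15 cx9 cx9) 0 25000 = true := by decide +kernel

theorem pair_cx9_p1 : allRange (pairPt 31671 15 cx9 cx9) 25000 6671 = true := by decide +kernel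

theorem pair_sg0_p0 : allRange (pairPt 31671 15 sg0 sgi0) 0 12500 = true := by decide +kernel

theorem pair_sg0_p1 : allRange (pairPt 31671 15 sg0 sgi0) 12500 12500 = true := by decide +kernel

theorem pair_sg0_p2 : allRange (pairPt 31671 15 sg0 sgi0) 25000 6671 = true := by decide +kernel

end Cfsg.Agent.Lib.Helper15.Fi23O
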