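import Cfsg.Agent.Lib.Helper15.Fi23ODefs2
import Cfsg.Agent.Lib.Helper15.Fi23ODefs3
import Cfsg.Agent.Lib.Helper15.WalkPieces
import Cfsg.Agent.Lib.Helper15.Fi23OQ0

set_option autoImplicit false
set_option maxRecDepth 100000
set_option maxHeartbeats 0
set_option Elab.async false

namespace Cfsg.Agent.Lib.Helper15.Fi23O

open Cfsg.Agent.Lib.Helper15.Walk Cfsg.Agent.Lib.Helper28.BSGS Cfsg.Agent.Lib.Helper22.SuzOut

theorem pth_fwd2_p0 : allRange (pathPt 15 (coxL ++ strongL.take 2) sg2 pth2) 0 1086 = true := by decide +kernel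

theorem pth_fwd2_p1 : allRange (pathPt 15 (coxL ++ strongL.take 2) sg2 pth2) 1086 1086 = true := by decide +kernel

theorem pth_fwd2_p2 : allRange (pathPt 15 (coxL ++ strongL.take 2) sg2 pth2) 2172 1086 = true := by decide +kernel

theorem pth_fwd2_p3 : allRange (pathPt 15 (coxL ++ strongL.take 2) sg2 pth2) 3258 1086 = true := by decide +kernel

theorem pth_fwd2_p4 : allRange (pathPt 15 (coxL ++ strongL.take 2) sg2 pth2) 4344 1086 = true := by decide +kernel

theorem pth_fwd2_p5 : allRange (pathPt 15 (coxL ++ strongL.take 2) sg2 pth2) 5430 1086 = true := by decide +kernel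

theorem pth_fwd2_p6 : allRange (pathPt 15 (coxL ++ strongL.take 2) sg2 pth2) 6516 1086 = true := by decide +kernel

theorem pth_fwd2_p7 : allRange (pathPt 15 (coxL ++ strongL.take 2) sg2 pth2) 7602 1086 = true := by decide +kernel

theorem pth_fwd2_p8 : allRange (pathPt 15 (coxL ++ strongL.take 2) sg2 pth2) 8688 1086 = true := by decide +kernel

theorem pth_fwd2_p9 : allRange (pathPt 15 (coxL ++ strongL.take 2) sg2 pth2) 9774 1086 = true := by decide +kernel

theorem pth_fwd2_p10 : allRange (pathPt 15 (coxL ++ strongL.take 2) sg2 pth2) 10860 1086 = true := by decide +kernel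

theorem pth_fwd2_p11 : allRange (pathPt 15 (coxL ++ strongL.take 2) sg2 pth2) 11946 1086 = true := by decide +kernel

theorem pth_fwd2_p12 : allRange (pathPt 15 (coxL ++ strongL.take 2) sg2 pth2) 13032 1086 = true := by decide +kernel

theorem pth_fwd2_p13 : allRange (pathPt 15 (coxL ++ strongL.take 2) sg2 pth2) 14118 1086 = true := by decide +kernel

theorem pth_fwd2_p14 : allRange (pathPt 15 (coxL ++ strongL.take 2) sg2 pth2) 15204 1086 = true := by decide +kernel

theorem pth_fwd2_p15 : allRange (pathPt 15 (coxL ++ strongL.take 2) sg2 pth2) 16290 1086 = true := by decide +kernel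

end Cfsg.Agent.Lib.Helper15.Fi23O
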