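import Cfsg.Agent.Lib.Helper15.Fi23ODefs2
import Cfsg.Agent.Lib.Helper15.Fi23ODefs3
import Cfsg.Agent.Lib.Helper15.WalkPieces
import Cfsg.Agent.Lib.Helper15.Fi23OQ5

set_option autoImplicit false
set_option maxRecDepth 100000
set_option maxHeartbeats 0
set_option Elab.async false

namespace Cfsg.Agent.Lib.Helper15.Fi23O

open Cfsg.Agent.Lib.Helper15.Walk Cfsg.Agent.Lib.Helper28.BSGS Cfsg.Agent.Lib.Helper22.SuzOut

theorem pth_fwd4_p25 : allRange (pathPt 15 (coxL ++ strongL.take 4) sg4 pth4) 29050 1162 = true := by decide +kernel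

theorem pth_fwd4_p26 : allRange (pathPt 15 (coxL ++ strongL.take 4) sg4 pth4) 30212 1162 = true := by decide +kernel

theorem pth_fwd4_p27 : allRange (pathPt 15 (coxL ++ strongL.take 4) sg4 pth4) 31374 297 = true := by decide +kernel

theorem pth_fwd5_p0 : allRange (pathPt 15 (coxL ++ strongL.take 5) sg5 pth5) 0 1190 = true := by decide +kernel

theorem pth_fwd5_p1 : allRange (pathPt 15 (coxL ++ strongL.take 5) sg5 pth5) 1190 1190 = true := by decide +kernel

theorem pth_fwd5_p2 : allRange (pathPt 15 (coxL ++ strongL.take 5) sg5 pth5) 2380 1190 = true := by decide +kernel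

theorem pth_fwd5_p3 : allRange (pathPt 15 (coxL ++ strongL.take 5) sg5 pth5) 3570 1190 = true := by decide +kernel

theorem pth_fwd5_p4 : allRange (pathPt 15 (coxL ++ strongL.take 5) sg5 pth5) 4760 1190 = true := by decide +kernel

theorem pth_fwd5_p5 : allRange (pathPt 15 (coxL ++ strongL.take 5) sg5 pth5) 5950 1190 = true := by decide +kernel

theorem pth_fwd5_p6 : allRange (pathPt 15 (coxL ++ strongL.take 5) sg5 pth5) 7140 1190 = true := by decide +kernel

theorem pth_fwd5_p7 : allRange (pathPt 15 (coxL ++ strongL.take 5) sg5 pth5) 8330 1190 = true := by decide +kernel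

theorem pth_fwd5_p8 : allRange (pathPt 15 (coxL ++ strongL.take 5) sg5 pth5) 9520 1190 = true := by decide +kernel

theorem pth_fwd5_p9 : allRange (pathPt 15 (coxL ++ strongL.take 5) sg5 pth5) 10710 1190 = true := by decide +kernel

theorem pth_fwd5_p10 : allRange (pathPt 15 (coxL ++ strongL.take 5) sg5 pth5) 11900 1190 = true := by decide +kernel

theorem pth_fwd5_p11 : allRange (pathPt 15 (coxL ++ strongL.take 5) sg5 pth5) 13090 1190 = true := by decide +kernel

theorem pth_fwd5_p12 : allRange (pathPt 15 (coxL ++ strongL.take 5) sg5 pth5) 14280 1190 = true := by decide +kernel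

end Cfsg.Agent.Lib.Helper15.Fi23O
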