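import Cfsg.Agent.Lib.Helper15.Fi23ODefs2
import Cfsg.Agent.Lib.Helper15.Fi23ODefs3
import Cfsg.Agent.Lib.Helper15.WalkPieces
import Cfsg.Agent.Lib.Helper15.Fi23OQ10

set_option autoImplicit false
set_option maxRecDepth 100000
set_option maxHeartbeats 0
set_option Elab.async false

namespace Cfsg.Agent.Lib.Helper15.Fi23O

open Cfsg.Agent.Lib.Helper15.Walk Cfsg.Agent.Lib.Helper28.BSGS Cfsg.Agent.Lib.Helper22.SuzOut

theorem pth_fwd7_p17 : allRange (pathPt 15 (coxL ++ strongL.take 7) sg7 pth7) 18071 1063 = true := by decide +kernel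

theorem pth_fwd7_p18 : allRange (pathPt 15 (coxL ++ strongL.take 7) sg7 pth7) 19134 1063 = true := by decide +kernel

theorem pth_fwd7_p19 : allRange (pathPt 15 (coxL ++ strongL.take 7) sg7 pth7) 20197 1063 = true := by decide +kernel

theorem pth_fwd7_p20 : allRange (pathPt 15 (coxL ++ strongL.take 7) sg7 pth7) 21260 1063 = true := by decide +kernel

theorem pth_fwd7_p21 : allRange (pathPt 15 (coxL ++ strongL.take 7) sg7 pth7) 22323 1063 = true := by decide +kernel

theorem pth_fwd7_p22 : allRange (pathPt 15 (coxL ++ strongL.take 7) sg7 pth7) 23386 1063 = true := by decide +kernel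

theorem pth_fwd7_p23 : allRange (pathPt 15 (coxL ++ strongL.take 7) sg7 pth7) 24449 1063 = true := by decide +kernel

theorem pth_fwd7_p24 : allRange (pathPt 15 (coxL ++ strongL.take 7) sg7 pth7) 25512 1063 = true := by decide +kernel

theorem pth_fwd7_p25 : allRange (pathPt 15 (coxL ++ strongL.take 7) sg7 pth7) 26575 1063 = true := by decide +kernel

theorem pth_fwd7_p26 : allRange (pathPt 15 (coxL ++ strongL.take 7) sg7 pth7) 27638 1063 = true := by decide +kernel

theorem pth_fwd7_p27 : allRange (pathPt 15 (coxL ++ strongL.take 7) sg7 pth7) 28701 1063 = true := by decide +kernel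

theorem pth_fwd7_p28 : allRange (pathPt 15 (coxL ++ strongL.take 7) sg7 pth7) 29764 1063 = true := by decide +kernel

theorem pth_fwd7_p29 : allRange (pathPt 15 (coxL ++ strongL.take 7) sg7 pth7) 30827 844 = true := by decide +kernel

theorem pth_fwd8_p0 : allRange (pathPt 15 (coxL ++ strongL.take 8) sg8 pth8) 0 1190 = true := by decide +kernel

theorem pth_fwd8_p1 : allRange (pathPt 15 (coxL ++ strongL.take 8) sg8 pth8) 1190 1190 = true := by decide +kernel

theorem pth_fwd8_p2 : allRange (pathPt 15 (coxL ++ strongL.take 8) sg8 pth8) 2380 1190 = true := by decide +kernel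

end Cfsg.Agent.Lib.Helper15.Fi23O
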