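import Cfsg.Agent.Lib.Helper15.Fi23ODefs2
import Cfsg.Agent.Lib.Helper15.Fi23ODefs3
import Cfsg.Agent.Lib.Helper15.WalkPieces
import Cfsg.Agent.Lib.Helper15.Fi23OQ15

set_option autoImplicit false
set_option maxRecDepth 100000
set_option maxHeartbeats 0
set_option Elab.async false

namespace Cfsg.Agent.Lib.Helper15.Fi23O

open Cfsg.Agent.Lib.Helper15.Walk Cfsg.Agent.Lib.Helper28.BSGS Cfsg.Agent.Lib.Helper22.SuzOut

theorem pthS_fwd_p13 : allRange (pathPt 15 allL tS pthS) 29536 2135 = true := by decide +kernel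

theorem gp_fwd0_p0 : allRange (pathPt 15 adsL cx0 gp0) 0 1785 = true := by decide +kernel

theorem gp_fwd0_p1 : allRange (pathPt 15 adsL cx0 gp0) 1785 1785 = true := by decide +kernel

theorem gp_fwd0_p2 : allRange (pathPt 15 adsL cx0 gp0) 3570 1785 = true := by decide +kernel

theorem gp_fwd0_p3 : allRange (pathPt 15 adsL cx0 gp0) 5355 1785 = true := by decide +kernel

theorem gp_fwd0_p4 : allRange (pathPt 15 adsL cx0 gp0) 7140 1785 = true := by decide +kernel

theorem gp_fwd0_p5 : allRange (pathPt 15 adsL cx0 gp0) 8925 1785 = true := by decide +kernel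

theorem gp_fwd0_p6 : allRange (pathPt 15 adsL cx0 gp0) 10710 1785 = true := by decide +kernel

theorem gp_fwd0_p7 : allRange (pathPt 15 adsL cx0 gp0) 12495 1785 = true := by decide +kernel

theorem gp_fwd0_p8 : allRange (pathPt 15 adsL cx0 gp0) 14280 1785 = true := by decide +kernel

theorem gp_fwd0_p9 : allRange (pathPt 15 adsL cx0 gp0) 16065 1785 = true := by decide +kernel

theorem gp_fwd0_p10 : allRange (pathPt 15 adsL cx0 gp0) 17850 1785 = true := by decide +kernel

theorem gp_fwd0_p11 : allRange (pathPt 15 adsL cx0 gp0) 19635 1785 = true := by decide +kernel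

theorem gp_fwd0_p12 : allRange (pathPt 15 adsL cx0 gp0) 21420 1785 = true := by decide +kernel

theorem gp_fwd0_p13 : allRange (pathPt 15 adsL cx0 gp0) 23205 1785 = true := by decide +kernel

theorem gp_fwd0_p14 : allRange (pathPt 15 adsL cx0 gp0) 24990 1785 = true := by decide +kernel

end Cfsg.Agent.Lib.Helper15.Fi23O
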