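import Cfsg.Agent.Lib.Helper15.Fi23ODefs2
import Cfsg.Agent.Lib.Helper15.Fi23ODefs3
import Cfsg.Agent.Lib.Helper15.WalkPieces
import Cfsg.Agent.Lib.Helper15.Fi23OQ20

set_option autoImplicit false
set_option maxRecDepth 100000
set_option maxHeartbeats 0
set_option Elab.async false

namespace Cfsg.Agent.Lib.Helper15.Fi23O

open Cfsg.Agent.Lib.Helper15.Walk Cfsg.Agent.Lib.Helper28.BSGS Cfsg.Agent.Lib.Helper22.SuzOut

theorem gp_fwd4_p6 : allRange (pathPt 15 adsL cx4 gp4) 10710 1785 = true := by decide +kernel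

theorem gp_fwd4_p7 : allRange (pathPt 15 adsL cx4 gp4) 12495 1785 = true := by decide +kernel

theorem gp_fwd4_p8 : allRange (pathPt 15 adsL cx4 gp4) 14280 1785 = true := by decide +kernel

theorem gp_fwd4_p9 : allRange (pathPt 15 adsL cx4 gp4) 16065 1785 = true := by decide +kernel

theorem gp_fwd4_p10 : allRange (pathPt 15 adsL cx4 gp4) 17850 1785 = true := by decide +kernel

theorem gp_fwd4_p11 : allRange (pathPt 15 adsL cx4 gp4) 19635 1785 = true := by decide +kernel

theorem gp_fwd4_p12 : allRange (pathPt 15 adsL cx4 gp4) 21420 1785 = true := by decide +kernel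

theorem gp_fwd4_p13 : allRange (pathPt 15 adsL cx4 gp4) 23205 1785 = true := by decide +kernel

theorem gp_fwd4_p14 : allRange (pathPt 15 adsL cx4 gp4) 24990 1785 = true := by decide +kernel

theorem gp_fwd4_p15 : allRange (pathPt 15 adsL cx4 gp4) 26775 1785 = true := by decide +kernel

theorem gp_fwd4_p16 : allRange (pathPt 15 adsL cx4 gp4) 28560 1785 = true := by decide +kernel

theorem gp_fwd4_p17 : allRange (pathPt 15 adsL cx4 gp4) 30345 1326 = true := by decide +kernel

theorem gp_fwd5_p0 : allRange (pathPt 15 adsL cx5 gp5) 0 1923 = true := by decide +kernel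

theorem gp_fwd5_p1 : allRange (pathPt 15 adsL cx5 gp5) 1923 1923 = true := by decide +kernel

theorem gp_fwd5_p2 : allRange (pathPt 15 adsL cx5 gp5) 3846 1923 = true := by decide +kernel

theorem gp_fwd5_p3 : allRange (pathPt 15 adsL cx5 gp5) 5769 1923 = true := by decide +kernel

end Cfsg.Agent.Lib.Helper15.Fi23O
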