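import Cfsg.Agent.Lib.Helper15.Fi23ODefs2
import Cfsg.Agent.Lib.Helper15.Fi23ODefs3
import Cfsg.Agent.Lib.Helper15.WalkPieces
import Cfsg.Agent.Lib.Helper15.Fi23OQ25

set_option autoImplicit false
set_option maxRecDepth 100000
set_option maxHeartbeats 0
set_option Elab.async false

namespace Cfsg.Agent.Lib.Helper15.Fi23O

open Cfsg.Agent.Lib.Helper15.Walk Cfsg.Agent.Lib.Helper28.BSGS Cfsg.Agent.Lib.Helper22.SuzOut

theorem gp_fwd8_p14 : allRange (pathPt 15 adsL cx8 gp8) 24990 1785 = true := by decide +kernel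

theorem gp_fwd8_p15 : allRange (pathPt 15 adsL cx8 gp8) 26775 1785 = true := by decide +kernel

theorem gp_fwd8_p16 : allRange (pathPt 15 adsL cx8 gp8) 28560 1785 = true := by decide +kernel

theorem gp_fwd8_p17 : allRange (pathPt 15 adsL cx8 gp8) 30345 1326 = true := by decide +kernel

theorem gp_fwd9_p0 : allRange (pathPt 15 adsL cx9 gp9) 0 1923 = true := by decide +kernel

theorem gp_fwd9_p1 : allRange (pathPt 15 adsL cx9 gp9) 1923 1923 = true := by decide +kernel

theorem gp_fwd9_p2 : allRange (pathPt 15 adsL cx9 gp9) 3846 1923 = true := by decide +kernel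

theorem gp_fwd9_p3 : allRange (pathPt 15 adsL cx9 gp9) 5769 1923 = true := by decide +kernel

theorem gp_fwd9_p4 : allRange (pathPt 15 adsL cx9 gp9) 7692 1923 = true := by decide +kernel

theorem gp_fwd9_p5 : allRange (pathPt 15 adsL cx9 gp9) 9615 1923 = true := by decide +kernel

theorem gp_fwd9_p6 : allRange (pathPt 15 adsL cx9 gp9) 11538 1923 = true := by decide +kernel

theorem gp_fwd9_p7 : allRange (pathPt 15 adsL cx9 gp9) 13461 1923 = true := by decide +kernel

theorem gp_fwd9_p8 : allRange (pathPt 15 adsL cx9 gp9) 15384 1923 = true := by decide +kernel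

theorem gp_fwd9_p9 : allRange (pathPt 15 adsL cx9 gp9) 17307 1923 = true := by decide +kernel

theorem gp_fwd9_p10 : allRange (pathPt 15 adsL cx9 gp9) 19230 1923 = true := by decide +kernel

theorem gp_fwd9_p11 : allRange (pathPt 15 adsL cx9 gp9) 21153 1923 = true := by decide +kernel

end Cfsg.Agent.Lib.Helper15.Fi23O
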