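import Cfsg.Agent.Lib.Helper15.Fi23ODefs2
import Cfsg.Agent.Lib.Helper15.Fi23ODefs3
import Cfsg.Agent.Lib.Helper15.WalkPieces
import Cfsg.Agent.Lib.Helper15.Fi23OQ40

set_option autoImplicit false
set_option maxRecDepth 100000
set_option maxHeartbeats 0
set_option Elab.async false

namespace Cfsg.Agent.Lib.Helper15.Fi23O

open Cfsg.Agent.Lib.Helper15.Walk Cfsg.Agent.Lib.Helper28.BSGS Cfsg.Agent.Lib.Helper22.SuzOut

theorem rel79_p3 : allRange (wordIdPt 15 (relTabs (myBases.getD 79 []))) 24999 6672 = true := by decide +kernel

theorem rel80_p0 : allRange (wordIdPt 15 (relTabs (myBases.getD 80 []))) 0 12500 = true := by decide +kernel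

theorem rel80_p1 : allRange (wordIdPt 15 (relTabs (myBases.getD 80 []))) 12500 12500 = true := by decide +kernel

theorem rel80_p2 : allRange (wordIdPt 15 (relTabs (myBases.getD 80 []))) 25000 6671 = true := by decide +kernel

theorem rel81_p0 : allRange (wordIdPt 15 (relTabs (myBases.getD 81 []))) 0 12500 = true := by decide +kernel

theorem rel81_p1 : allRange (wordIdPt 15 (relTabs (myBases.getD 81 []))) 12500 12500 = true := by decide +kernel

theorem rel81_p2 : allRange (wordIdPt 15 (relTabs (myBases.getD 81 []))) 25000 6671 = true := by decide +kernel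

theorem rel82_p0 : allRange (wordIdPt 15 (relTabs (myBases.getD 82 []))) 0 12500 = true := by decide +kernel

theorem rel82_p1 : allRange (wordIdPt 15 (relTabs (myBases.getD 82 []))) 12500 12500 = true := by decide +kernel

theorem rel82_p2 : allRange (wordIdPt 15 (relTabs (myBases.getD 82 []))) 25000 6671 = true := by decide +kernel

theorem rel83_p0 : allRange (wordIdPt 15 (relTabs (myBases.getD 83 []))) 0 12500 = true := by decide +kernel

theorem rel83_p1 : allRange (wordIdPt 15 (relTabs (myBases.getD 83 []))) 12500 12500 = true := by decide +kernel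

theorem rel83_p2 : allRange (wordIdPt 15 (relTabs (myBases.getD 83 []))) 25000 6671 = true := by decide +kernel

theorem rel84_p0 : allRange (wordIdPt 15 (relTabs (myBases.getD 84 []))) 0 12500 = true := by decide +kernel

theorem rel84_p1 : allRange (wordIdPt 15 (relTabs (myBases.getD 84 []))) 12500 12500 = true := by decide +kernel

theorem rel84_p2 : allRange (wordIdPt 15 (relTabs (myBases.getD 84 []))) 25000 6671 = true := by decide +kernel

theorem rel85_p0 : allRange (wordIdPt 15 (relTabs (myBases.getD 85 []))) 0 12500 = true := by decide +kernel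

theorem rel85_p1 : allRange (wordIdPt 15 (relTabs (myBases.getD 85 []))) 12500 12500 = true := by decide +kernel

end Cfsg.Agent.Lib.Helper15.Fi23O
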