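import Cfsg.Agent.Lib.Helper15.Fi23ODefs2
import Cfsg.Agent.Lib.Helper15.Fi23ODefs3
import Cfsg.Agent.Lib.Helper15.WalkPieces
import Cfsg.Agent.Lib.Helper15.Fi23OQ45

set_option autoImplicit false
set_option maxRecDepth 100000
set_option maxHeartbeats 0
set_option Elab.async false

namespace Cfsg.Agent.Lib.Helper15.Fi23O

open Cfsg.Agent.Lib.Helper15.Walk Cfsg.Agent.Lib.Helper28.BSGS Cfsg.Agent.Lib.Helper22.SuzOut

theorem rel100_p27 : allRange (wordIdPt 15 (relTabs (myBases.getD 100 []))) 14985 555 = true := by decide +kernel

theorem rel100_p28 : allRange (wordIdPt 15 (relTabs (myBases.getD 100 []))) 15540 555 = true := by decide +kernel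

theorem rel100_p29 : allRange (wordIdPt 15 (relTabs (myBases.getD 100 []))) 16095 555 = true := by decide +kernel

theorem rel100_p30 : allRange (wordIdPt 15 (relTabs (myBases.getD 100 []))) 16650 555 = true := by decide +kernel

theorem rel100_p31 : allRange (wordIdPt 15 (relTabs (myBases.getD 100 []))) 17205 555 = true := by decide +kernel

theorem rel100_p32 : allRange (wordIdPt 15 (relTabs (myBases.getD 100 []))) 17760 555 = true := by decide +kernel

theorem rel100_p33 : allRange (wordIdPt 15 (relTabs (myBases.getD 100 []))) 18315 555 = true := by decide +kernel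

theorem rel100_p34 : allRange (wordIdPt 15 (relTabs (myBases.getD 100 []))) 18870 555 = true := by decide +kernel

theorem rel100_p35 : allRange (wordIdPt 15 (relTabs (myBases.getD 100 []))) 19425 555 = true := by decide +kernel

theorem rel100_p36 : allRange (wordIdPt 15 (relTabs (myBases.getD 100 []))) 19980 555 = true := by decide +kernel

theorem rel100_p37 : allRange (wordIdPt 15 (relTabs (myBases.getD 100 []))) 20535 555 = true := by decide +kernel

theorem rel100_p38 : allRange (wordIdPt 15 (relTabs (myBases.getD 100 []))) 21090 555 = true := by decide +kernel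

theorem rel100_p39 : allRange (wordIdPt 15 (relTabs (myBases.getD 100 []))) 21645 555 = true := by decide +kernel

theorem rel100_p40 : allRange (wordIdPt 15 (relTabs (myBases.getD 100 []))) 22200 555 = true := by decide +kernel

theorem rel100_p41 : allRange (wordIdPt 15 (relTabs (myBases.getD 100 []))) 22755 555 = true := by decide +kernel

theorem rel100_p42 : allRange (wordIdPt 15 (relTabs (myBases.getD 100 []))) 23310 555 = true := by decide +kernel

end Cfsg.Agent.Lib.Helper15.Fi23O
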