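import Cfsg.Agent.Lib.Helper15.Fi23ODefs2
import Cfsg.Agent.Lib.Helper15.Fi23ODefs3
import Cfsg.Agent.Lib.Helper15.WalkPieces
import Cfsg.Agent.Lib.Helper15.Fi23OQ50

set_option autoImplicit false
set_option maxRecDepth 100000
set_option maxHeartbeats 0
set_option Elab.async false

namespace Cfsg.Agent.Lib.Helper15.Fi23O

open Cfsg.Agent.Lib.Helper15.Walk Cfsg.Agent.Lib.Helper28.BSGS Cfsg.Agent.Lib.Helper22.SuzOut

theorem rel_a17_p2 : allRange (wordIdPt 15 (List.replicate 17 tA)) 5882 2941 = true := by decide +kernel

theorem rel_a17_p3 : allRange (wordIdPt 15 (List.replicate 17 tA)) 8823 2941 = true := by decide +kernel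

theorem rel_a17_p4 : allRange (wordIdPt 15 (List.replicate 17 tA)) 11764 2941 = true := by decide +kernel

theorem rel_a17_p5 : allRange (wordIdPt 15 (List.replicate 17 tA)) 14705 2941 = true := by decide +kernel

theorem rel_a17_p6 : allRange (wordIdPt 15 (List.replicate 17 tA)) 17646 2941 = true := by decide +kernel

theorem rel_a17_p7 : allRange (wordIdPt 15 (List.replicate 17 tA)) 20587 2941 = true := by decide +kernel

theorem rel_a17_p8 : allRange (wordIdPt 15 (List.replicate 17 tA)) 23528 2941 = true := by decide +kernel

theorem rel_a17_p9 : allRange (wordIdPt 15 (List.replicate 17 tA)) 26469 2941 = true := by decide +kernel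

theorem rel_a17_p10 : allRange (wordIdPt 15 (List.replicate 17 tA)) 29410 2261 = true := by decide +kernel

theorem rel_d16_p0 : allRange (wordIdPt 15 (List.replicate 16 tD)) 0 3125 = true := by decide +kernel

theorem rel_d16_p1 : allRange (wordIdPt 15 (List.replicate 16 tD)) 3125 3125 = true := by decide +kernel

theorem rel_d16_p2 : allRange (wordIdPt 15 (List.replicate 16 tD)) 6250 3125 = true := by decide +kernel

theorem rel_d16_p3 : allRange (wordIdPt 15 (List.replicate 16 tD)) 9375 3125 = true := by decide +kernel

theorem rel_d16_p4 : allRange (wordIdPt 15 (List.replicate 16 tD)) 12500 3125 = true := by decide +kernel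

theorem rel_d16_p5 : allRange (wordIdPt 15 (List.replicate 16 tD)) 15625 3125 = true := by decide +kernel

theorem rel_d16_p6 : allRange (wordIdPt 15 (List.replicate 16 tD)) 18750 3125 = true := by decide +kernel

end Cfsg.Agent.Lib.Helper15.Fi23O
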