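import Cfsg.Agent.Lib.Helper15.Fi23ODefs2
import Cfsg.Agent.Lib.Helper15.Fi23ODefs3
import Cfsg.Agent.Lib.Helper15.WalkPieces
import Cfsg.Agent.Lib.Helper15.Fi23OQ55

set_option autoImplicit false
set_option maxRecDepth 100000
set_option maxHeartbeats 0
set_option Elab.async false

namespace Cfsg.Agent.Lib.Helper15.Fi23O

open Cfsg.Agent.Lib.Helper15.Walk Cfsg.Agent.Lib.Helper28.BSGS Cfsg.Agent.Lib.Helper22.SuzOut

theorem exclA_p27 : allRange (exclPt 15 8 8 levels FA goodA) 19278 714 = true := by decide +kernel

theorem exclA_p28 : allRange (exclPt 15 8 8 levels FA goodA) 19992 714 = true := by decide +kernel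

theorem exclA_p29 : allRange (exclPt 15 8 8 levels FA goodA) 20706 714 = true := by decide +kernel

theorem exclA_p30 : allRange (exclPt 15 8 8 levels FA goodA) 21420 714 = true := by decide +kernel

theorem exclA_p31 : allRange (exclPt 15 8 8 levels FA goodA) 22134 714 = true := by decide +kernel

theorem exclA_p32 : allRange (exclPt 15 8 8 levels FA goodA) 22848 714 = true := by decide +kernel

theorem exclA_p33 : allRange (exclPt 15 8 8 levels FA goodA) 23562 714 = true := by decide +kernel

theorem exclA_p34 : allRange (exclPt 15 8 8 levels FA goodA) 24276 714 = true := by decide +kernel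

theorem exclA_p35 : allRange (exclPt 15 8 8 levels FA goodA) 24990 714 = true := by decide +kernel

theorem exclA_p36 : allRange (exclPt 15 8 8 levels FA goodA) 25704 714 = true := by decide +kernel

theorem exclA_p37 : allRange (exclPt 15 8 8 levels FA goodA) 26418 714 = true := by decide +kernel

theorem exclA_p38 : allRange (exclPt 15 8 8 levels FA goodA) 27132 714 = true := by decide +kernel

theorem exclA_p39 : allRange (exclPt 15 8 8 levels FA goodA) 27846 714 = true := by decide +kernel

theorem exclA_p40 : allRange (exclPt 15 8 8 levels FA goodA) 28560 714 = true := by decide +kernel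

theorem exclA_p41 : allRange (exclPt 15 8 8 levels FA goodA) 29274 714 = true := by decide +kernel

theorem exclA_p42 : allRange (exclPt 15 8 8 levels FA goodA) 29988 714 = true := by decide +kernel

end Cfsg.Agent.Lib.Helper15.Fi23O
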