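import Cfsg.Agent.Lib.Helper15.Fi23ODefs2
import Cfsg.Agent.Lib.Helper15.Fi23ODefs3
import Cfsg.Agent.Lib.Helper15.WalkPieces

set_option autoImplicit false
set_option maxRecDepth 100000
set_option maxHeartbeats 0
set_option Elab.async false

namespace Cfsg.Agent.Lib.Helper15.Fi23O

open Cfsg.Agent.Lib.Helper15.Walk Cfsg.Agent.Lib.Helper28.BSGS Cfsg.Agent.Lib.Helper22.SuzOut

theorem pair_sg1_p0 : allRange (pairPt 31671 15 sg1 sgi1) 0 12500 = true := by decide +kernel

theorem pair_sg1_p1 : allRange (pairPt 31671 15 sg1 sgi1) 12500 12500 = true := by decide +kernel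

theorem pair_sg1_p2 : allRange (pairPt 31671 15 sg1 sgi1) 25000 6671 = true := by decide +kernel

theorem pair_sg2_p0 : allRange (pairPt 31671 15 sg2 sgi2) 0 12500 = true := by decide +kernel

theorem pair_sg2_p1 : allRange (pairPt 31671 15 sg2 sgi2) 12500 12500 = true := by decide +kernel

theorem pair_sg2_p2 : allRange (pairPt 31671 15 sg2 sgi2) 25000 6671 = true := by decide +kernel

theorem pair_sg3_p0 : allRange (pairPt 31671 15 sg3 sgi3) 0 12500 = true := by decide +kernel

theorem pair_sg3_p1 : allRange (pairPt 31671 15 sg3 sgi3) 12500 12500 = true := by decide +kernel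

theorem pair_sg3_p2 : allRange (pairPt 31671 15 sg3 sgi3) 25000 6671 = true := by decide +kernel

theorem pair_sg4_p0 : allRange (pairPt 31671 15 sg4 sgi4) 0 12500 = true := by decide +kernel

theorem pair_sg4_p1 : allRange (pairPt 31671 15 sg4 sgi4) 12500 12500 = true := by decide +kernel

theorem pair_sg4_p2 : allRange (pairPt 31671 15 sg4 sgi4) 25000 6671 = true := by decide +kernel

theorem pair_sg5_p0 : allRange (pairPt 31671 15 sg5 sgi5) 0 12500 = true := by decide +kernel

theorem pair_sg5_p1 : allRange (pairPt 31671 15 sg5 sgi5) 12500 12500 = true := by decide +kernel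

theorem pair_sg5_p2 : allRange (pairPt 31671 15 sg5 sgi5) 25000 6671 = true := by decide +kernel

theorem pair_sg6_p0 : allRange (pairPt 31671 15 sg6 sgi6) 0 12500 = true := by decide +kernel

theorem pair_sg6_p1 : allRange (pairPt 31671 15 sg6 sgi6) 12500 12500 = true := by decide +kernel

theorem pair_sg6_p2 : allRange (pairPt 31671 15 sg6 sgi6) 25000 6671 = true := by decide +kernel

end Cfsg.Agent.Lib.Helper15.Fi23O
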