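import Cfsg.Agent.Lib.Helper15.Fi23ODefs2
import Cfsg.Agent.Lib.Helper15.Fi23ODefs3
import Cfsg.Agent.Lib.Helper15.WalkPieces
import Cfsg.Agent.Lib.Helper15.Fi23OQ1

set_option autoImplicit false
set_option maxRecDepth 100000
set_option maxHeartbeats 0
set_option Elab.async false

namespace Cfsg.Agent.Lib.Helper15.Fi23O

open Cfsg.Agent.Lib.Helper15.Walk Cfsg.Agent.Lib.Helper28.BSGS Cfsg.Agent.Lib.Helper22.SuzOut

theorem pth_fwd2_p16 : allRange (pathPt 15 (coxL ++ strongL.take 2) sg2 pth2) 17376 1086 = true := by decide +kernel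

theorem pth_fwd2_p17 : allRange (pathPt 15 (coxL ++ strongL.take 2) sg2 pth2) 18462 1086 = true := by decide +kernel

theorem pth_fwd2_p18 : allRange (pathPt 15 (coxL ++ strongL.take 2) sg2 pth2) 19548 1086 = true := by decide +kernel

theorem pth_fwd2_p19 : allRange (pathPt 15 (coxL ++ strongL.take 2) sg2 pth2) 20634 1086 = true := by decide +kernel

theorem pth_fwd2_p20 : allRange (pathPt 15 (coxL ++ strongL.take 2) sg2 pth2) 21720 1086 = true := by decide +kernel

theorem pth_fwd2_p21 : allRange (pathPt 15 (coxL ++ strongL.take 2) sg2 pth2) 22806 1086 = true := by decide +kernel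

theorem pth_fwd2_p22 : allRange (pathPt 15 (coxL ++ strongL.take 2) sg2 pth2) 23892 1086 = true := by decide +kernel

theorem pth_fwd2_p23 : allRange (pathPt 15 (coxL ++ strongL.take 2) sg2 pth2) 24978 1086 = true := by decide +kernel

theorem pth_fwd2_p24 : allRange (pathPt 15 (coxL ++ strongL.take 2) sg2 pth2) 26064 1086 = true := by decide +kernel

theorem pth_fwd2_p25 : allRange (pathPt 15 (coxL ++ strongL.take 2) sg2 pth2) 27150 1086 = true := by decide +kernel

theorem pth_fwd2_p26 : allRange (pathPt 15 (coxL ++ strongL.take 2) sg2 pth2) 28236 1086 = true := by decide +kernel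

theorem pth_fwd2_p27 : allRange (pathPt 15 (coxL ++ strongL.take 2) sg2 pth2) 29322 1086 = true := by decide +kernel

theorem pth_fwd2_p28 : allRange (pathPt 15 (coxL ++ strongL.take 2) sg2 pth2) 30408 1086 = true := by decide +kernel

theorem pth_fwd2_p29 : allRange (pathPt 15 (coxL ++ strongL.take 2) sg2 pth2) 31494 177 = true := by decide +kernel

theorem pth_fwd3_p0 : allRange (pathPt 15 (coxL ++ strongL.take 3) sg3 pth3) 0 1282 = true := by decide +kernel

theorem pth_fwd3_p1 : allRange (pathPt 15 (coxL ++ strongL.take 3) sg3 pth3) 1282 1282 = true := by decide +kernel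

end Cfsg.Agent.Lib.Helper15.Fi23O
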