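import Cfsg.Agent.Lib.Helper15.Fi23ODefs2
import Cfsg.Agent.Lib.Helper15.Fi23ODefs3
import Cfsg.Agent.Lib.Helper15.WalkPieces
import Cfsg.Agent.Lib.Helper15.Fi23OQ6

set_option autoImplicit false
set_option maxRecDepth 100000
set_option maxHeartbeats 0
set_option Elab.async false

namespace Cfsg.Agent.Lib.Helper15.Fi23O

open Cfsg.Agent.Lib.Helper15.Walk Cfsg.Agent.Lib.Helper28.BSGS Cfsg.Agent.Lib.Helper22.SuzOut

theorem pth_fwd5_p13 : allRange (pathPt 15 (coxL ++ strongL.take 5) sg5 pth5) 15470 1190 = true := by decide +kernel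

theorem pth_fwd5_p14 : allRange (pathPt 15 (coxL ++ strongL.take 5) sg5 pth5) 16660 1190 = true := by decide +kernel

theorem pth_fwd5_p15 : allRange (pathPt 15 (coxL ++ strongL.take 5) sg5 pth5) 17850 1190 = true := by decide +kernel

theorem pth_fwd5_p16 : allRange (pathPt 15 (coxL ++ strongL.take 5) sg5 pth5) 19040 1190 = true := by decide +kernel

theorem pth_fwd5_p17 : allRange (pathPt 15 (coxL ++ strongL.take 5) sg5 pth5) 20230 1190 = true := by decide +kernel

theorem pth_fwd5_p18 : allRange (pathPt 15 (coxL ++ strongL.take 5) sg5 pth5) 21420 1190 = true := by decide +kernel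

theorem pth_fwd5_p19 : allRange (pathPt 15 (coxL ++ strongL.take 5) sg5 pth5) 22610 1190 = true := by decide +kernel

theorem pth_fwd5_p20 : allRange (pathPt 15 (coxL ++ strongL.take 5) sg5 pth5) 23800 1190 = true := by decide +kernel

theorem pth_fwd5_p21 : allRange (pathPt 15 (coxL ++ strongL.take 5) sg5 pth5) 24990 1190 = true := by decide +kernel

theorem pth_fwd5_p22 : allRange (pathPt 15 (coxL ++ strongL.take 5) sg5 pth5) 26180 1190 = true := by decide +kernel

theorem pth_fwd5_p23 : allRange (pathPt 15 (coxL ++ strongL.take 5) sg5 pth5) 27370 1190 = true := by decide +kernel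

theorem pth_fwd5_p24 : allRange (pathPt 15 (coxL ++ strongL.take 5) sg5 pth5) 28560 1190 = true := by decide +kernel

theorem pth_fwd5_p25 : allRange (pathPt 15 (coxL ++ strongL.take 5) sg5 pth5) 29750 1190 = true := by decide +kernel

theorem pth_fwd5_p26 : allRange (pathPt 15 (coxL ++ strongL.take 5) sg5 pth5) 30940 731 = true := by decide +kernel

theorem pth_fwd6_p0 : allRange (pathPt 15 (coxL ++ strongL.take 6) sg6 pth6) 0 961 = true := by decide +kernel

theorem pth_fwd6_p1 : allRange (pathPt 15 (coxL ++ strongL.take 6) sg6 pth6) 961 961 = true := by decide +kernel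

end Cfsg.Agent.Lib.Helper15.Fi23O
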