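import Cfsg.Agent.Lib.Helper15.Fi23ODefs2
import Cfsg.Agent.Lib.Helper15.Fi23ODefs3
import Cfsg.Agent.Lib.Helper15.WalkPieces
import Cfsg.Agent.Lib.Helper15.Fi23OQ11

set_option autoImplicit false
set_option maxRecDepth 100000
set_option maxHeartbeats 0
set_option Elab.async false

namespace Cfsg.Agent.Lib.Helper15.Fi23O

open Cfsg.Agent.Lib.Helper15.Walk Cfsg.Agent.Lib.Helper28.BSGS Cfsg.Agent.Lib.Helper22.SuzOut

theorem pth_fwd8_p3 : allRange (pathPt 15 (coxL ++ strongL.take 8) sg8 pth8) 3570 1190 = true := by decide +kernel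

theorem pth_fwd8_p4 : allRange (pathPt 15 (coxL ++ strongL.take 8) sg8 pth8) 4760 1190 = true := by decide +kernel

theorem pth_fwd8_p5 : allRange (pathPt 15 (coxL ++ strongL.take 8) sg8 pth8) 5950 1190 = true := by decide +kernel

theorem pth_fwd8_p6 : allRange (pathPt 15 (coxL ++ strongL.take 8) sg8 pth8) 7140 1190 = true := by decide +kernel

theorem pth_fwd8_p7 : allRange (pathPt 15 (coxL ++ strongL.take 8) sg8 pth8) 8330 1190 = true := by decide +kernel

theorem pth_fwd8_p8 : allRange (pathPt 15 (coxL ++ strongL.take 8) sg8 pth8) 9520 1190 = true := by decide +kernel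

theorem pth_fwd8_p9 : allRange (pathPt 15 (coxL ++ strongL.take 8) sg8 pth8) 10710 1190 = true := by decide +kernel

theorem pth_fwd8_p10 : allRange (pathPt 15 (coxL ++ strongL.take 8) sg8 pth8) 11900 1190 = true := by decide +kernel

theorem pth_fwd8_p11 : allRange (pathPt 15 (coxL ++ strongL.take 8) sg8 pth8) 13090 1190 = true := by decide +kernel

theorem pth_fwd8_p12 : allRange (pathPt 15 (coxL ++ strongL.take 8) sg8 pth8) 14280 1190 = true := by decide +kernel

theorem pth_fwd8_p13 : allRange (pathPt 15 (coxL ++ strongL.take 8) sg8 pth8) 15470 1190 = true := by decide +kernel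

theorem pth_fwd8_p14 : allRange (pathPt 15 (coxL ++ strongL.take 8) sg8 pth8) 16660 1190 = true := by decide +kernel

theorem pth_fwd8_p15 : allRange (pathPt 15 (coxL ++ strongL.take 8) sg8 pth8) 17850 1190 = true := by decide +kernel

theorem pth_fwd8_p16 : allRange (pathPt 15 (coxL ++ strongL.take 8) sg8 pth8) 19040 1190 = true := by decide +kernel

theorem pth_fwd8_p17 : allRange (pathPt 15 (coxL ++ strongL.take 8) sg8 pth8) 20230 1190 = true := by decide +kernel

theorem pth_fwd8_p18 : allRange (pathPt 15 (coxL ++ strongL.take 8) sg8 pth8) 21420 1190 = true := by decide +kernel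

end Cfsg.Agent.Lib.Helper15.Fi23O
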