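import Cfsg.Agent.Lib.Helper15.Fi23ODefs2
import Cfsg.Agent.Lib.Helper15.Fi23ODefs3
import Cfsg.Agent.Lib.Helper15.WalkPieces
import Cfsg.Agent.Lib.Helper15.Fi23OQ16

set_option autoImplicit false
set_option maxRecDepth 100000
set_option maxHeartbeats 0
set_option Elab.async false

namespace Cfsg.Agent.Lib.Helper15.Fi23O

open Cfsg.Agent.Lib.Helper15.Walk Cfsg.Agent.Lib.Helper28.BSGS Cfsg.Agent.Lib.Helper22.SuzOut

theorem gp_fwd0_p15 : allRange (pathPt 15 adsL cx0 gp0) 26775 1785 = true := by decide +kernel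

theorem gp_fwd0_p16 : allRange (pathPt 15 adsL cx0 gp0) 28560 1785 = true := by decide +kernel

theorem gp_fwd0_p17 : allRange (pathPt 15 adsL cx0 gp0) 30345 1326 = true := by decide +kernel

theorem gp_fwd1_p0 : allRange (pathPt 15 adsL cx1 gp1) 0 1785 = true := by decide +kernel

theorem gp_fwd1_p1 : allRange (pathPt 15 adsL cx1 gp1) 1785 1785 = true := by decide +kernel

theorem gp_fwd1_p2 : allRange (pathPt 15 adsL cx1 gp1) 3570 1785 = true := by decide +kernel

theorem gp_fwd1_p3 : allRange (pathPt 15 adsL cx1 gp1) 5355 1785 = true := by decide +kernel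

theorem gp_fwd1_p4 : allRange (pathPt 15 adsL cx1 gp1) 7140 1785 = true := by decide +kernel

theorem gp_fwd1_p5 : allRange (pathPt 15 adsL cx1 gp1) 8925 1785 = true := by decide +kernel

theorem gp_fwd1_p6 : allRange (pathPt 15 adsL cx1 gp1) 10710 1785 = true := by decide +kernel

theorem gp_fwd1_p7 : allRange (pathPt 15 adsL cx1 gp1) 12495 1785 = true := by decide +kernel

theorem gp_fwd1_p8 : allRange (pathPt 15 adsL cx1 gp1) 14280 1785 = true := by decide +kernel

theorem gp_fwd1_p9 : allRange (pathPt 15 adsL cx1 gp1) 16065 1785 = true := by decide +kernel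

theorem gp_fwd1_p10 : allRange (pathPt 15 adsL cx1 gp1) 17850 1785 = true := by decide +kernel

theorem gp_fwd1_p11 : allRange (pathPt 15 adsL cx1 gp1) 19635 1785 = true := by decide +kernel

theorem gp_fwd1_p12 : allRange (pathPt 15 adsL cx1 gp1) 21420 1785 = true := by decide +kernel

end Cfsg.Agent.Lib.Helper15.Fi23O
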