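import Cfsg.Agent.Lib.Helper15.Fi23ODefs2
import Cfsg.Agent.Lib.Helper15.Fi23ODefs3
import Cfsg.Agent.Lib.Helper15.WalkPieces
import Cfsg.Agent.Lib.Helper15.Fi23OQ26

set_option autoImplicit false
set_option maxRecDepth 100000
set_option maxHeartbeats 0
set_option Elab.async false

namespace Cfsg.Agent.Lib.Helper15.Fi23O

open Cfsg.Agent.Lib.Helper15.Walk Cfsg.Agent.Lib.Helper28.BSGS Cfsg.Agent.Lib.Helper22.SuzOut

theorem gp_fwd9_p12 : allRange (pathPt 15 adsL cx9 gp9) 23076 1923 = true := by decide +kernel

theorem gp_fwd9_p13 : allRange (pathPt 15 adsL cx9 gp9) 24999 1923 = true := by decide +kernel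

theorem gp_fwd9_p14 : allRange (pathPt 15 adsL cx9 gp9) 26922 1923 = true := by decide +kernel

theorem gp_fwd9_p15 : allRange (pathPt 15 adsL cx9 gp9) 28845 1923 = true := by decide +kernel

theorem gp_fwd9_p16 : allRange (pathPt 15 adsL cx9 gp9) 30768 903 = true := by decide +kernel

theorem rel0_p0 : allRange (wordIdPt 15 (relTabs (myBases.getD 0 []))) 0 25000 = true := by decide +kernel

theorem rel0_p1 : allRange (wordIdPt 15 (relTabs (myBases.getD 0 []))) 25000 6671 = true := by decide +kernel

theorem rel1_p0 : allRange (wordIdPt 15 (relTabs (myBases.getD 1 []))) 0 8333 = true := by decide +kernel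

theorem rel1_p1 : allRange (wordIdPt 15 (relTabs (myBases.getD 1 []))) 8333 8333 = true := by decide +kernel

theorem rel1_p2 : allRange (wordIdPt 15 (relTabs (myBases.getD 1 []))) 16666 8333 = true := by decide +kernel

theorem rel1_p3 : allRange (wordIdPt 15 (relTabs (myBases.getD 1 []))) 24999 6672 = true := by decide +kernel

theorem rel2_p0 : allRange (wordIdPt 15 (relTabs (myBases.getD 2 []))) 0 12500 = true := by decide +kernel

theorem rel2_p1 : allRange (wordIdPt 15 (relTabs (myBases.getD 2 []))) 12500 12500 = true := by decide +kernel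

theorem rel2_p2 : allRange (wordIdPt 15 (relTabs (myBases.getD 2 []))) 25000 6671 = true := by decide +kernel

theorem rel3_p0 : allRange (wordIdPt 15 (relTabs (myBases.getD 3 []))) 0 12500 = true := by decide +kernel

theorem rel3_p1 : allRange (wordIdPt 15 (relTabs (myBases.getD 3 []))) 12500 12500 = true := by decide +kernel

theorem rel3_p2 : allRange (wordIdPt 15 (relTabs (myBases.getD 3 []))) 25000 6671 = true := by decide +kernel

theorem rel4_p0 : allRange (wordIdPt 15 (relTabs (myBases.getD 4 []))) 0 12500 = true := by decide +kernel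

end Cfsg.Agent.Lib.Helper15.Fi23O
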