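import Cfsg.Agent.Lib.Helper15.Fi23ODefs2
import Cfsg.Agent.Lib.Helper15.Fi23ODefs3
import Cfsg.Agent.Lib.Helper15.WalkPieces
import Cfsg.Agent.Lib.Helper15.Fi23OQ36

set_option autoImplicit false
set_option maxRecDepth 100000
set_option maxHeartbeats 0
set_option Elab.async false

namespace Cfsg.Agent.Lib.Helper15.Fi23O

open Cfsg.Agent.Lib.Helper15.Walk Cfsg.Agent.Lib.Helper28.BSGS Cfsg.Agent.Lib.Helper22.SuzOut

theorem rel56_p2 : allRange (wordIdPt 15 (relTabs (myBases.getD 56 []))) 16666 8333 = true := by decide +kernel

theorem rel56_p3 : allRange (wordIdPt 15 (relTabs (myBases.getD 56 []))) 24999 6672 = true := by decide +kernel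

theorem rel57_p0 : allRange (wordIdPt 15 (relTabs (myBases.getD 57 []))) 0 12500 = true := by decide +kernel

theorem rel57_p1 : allRange (wordIdPt 15 (relTabs (myBases.getD 57 []))) 12500 12500 = true := by decide +kernel

theorem rel57_p2 : allRange (wordIdPt 15 (relTabs (myBases.getD 57 []))) 25000 6671 = true := by decide +kernel

theorem rel58_p0 : allRange (wordIdPt 15 (relTabs (myBases.getD 58 []))) 0 12500 = true := by decide +kernel

theorem rel58_p1 : allRange (wordIdPt 15 (relTabs (myBases.getD 58 []))) 12500 12500 = true := by decide +kernel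

theorem rel58_p2 : allRange (wordIdPt 15 (relTabs (myBases.getD 58 []))) 25000 6671 = true := by decide +kernel

theorem rel59_p0 : allRange (wordIdPt 15 (relTabs (myBases.getD 59 []))) 0 12500 = true := by decide +kernel

theorem rel59_p1 : allRange (wordIdPt 15 (relTabs (myBases.getD 59 []))) 12500 12500 = true := by decide +kernel

theorem rel59_p2 : allRange (wordIdPt 15 (relTabs (myBases.getD 59 []))) 25000 6671 = true := by decide +kernel

theorem rel60_p0 : allRange (wordIdPt 15 (relTabs (myBases.getD 60 []))) 0 12500 = true := by decide +kernel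

theorem rel60_p1 : allRange (wordIdPt 15 (relTabs (myBases.getD 60 []))) 12500 12500 = true := by decide +kernel

theorem rel60_p2 : allRange (wordIdPt 15 (relTabs (myBases.getD 60 []))) 25000 6671 = true := by decide +kernel

theorem rel61_p0 : allRange (wordIdPt 15 (relTabs (myBases.getD 61 []))) 0 12500 = true := by decide +kernel

theorem rel61_p1 : allRange (wordIdPt 15 (relTabs (myBases.getD 61 []))) 12500 12500 = true := by decide +kernel

theorem rel61_p2 : allRange (wordIdPt 15 (relTabs (myBases.getD 61 []))) 25000 6671 = true := by decide +kernel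

theorem rel62_p0 : allRange (wordIdPt 15 (relTabs (myBases.getD 62 []))) 0 12500 = true := by decide +kernel

end Cfsg.Agent.Lib.Helper15.Fi23O
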