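import Cfsg.Agent.Lib.Helper15.Fi23ODefs2
import Cfsg.Agent.Lib.Helper15.Fi23ODefs3
import Cfsg.Agent.Lib.Helper15.WalkPieces
import Cfsg.Agent.Lib.Helper15.Fi23OQ46

set_option autoImplicit false
set_option maxRecDepth 100000
set_option maxHeartbeats 0
set_option Elab.async false

namespace Cfsg.Agent.Lib.Helper15.Fi23O

open Cfsg.Agent.Lib.Helper15.Walk Cfsg.Agent.Lib.Helper28.BSGS Cfsg.Agent.Lib.Helper22.SuzOut

theorem rel100_p43 : allRange (wordIdPt 15 (relTabs (myBases.getD 100 []))) 23865 555 = true := by decide +kernel

theorem rel100_p44 : allRange (wordIdPt 15 (relTabs (myBases.getD 100 []))) 24420 555 = true := by decide +kernel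

theorem rel100_p45 : allRange (wordIdPt 15 (relTabs (myBases.getD 100 []))) 24975 555 = true := by decide +kernel

theorem rel100_p46 : allRange (wordIdPt 15 (relTabs (myBases.getD 100 []))) 25530 555 = true := by decide +kernel

theorem rel100_p47 : allRange (wordIdPt 15 (relTabs (myBases.getD 100 []))) 26085 555 = true := by decide +kernel

theorem rel100_p48 : allRange (wordIdPt 15 (relTabs (myBases.getD 100 []))) 26640 555 = true := by decide +kernel

theorem rel100_p49 : allRange (wordIdPt 15 (relTabs (myBases.getD 100 []))) 27195 555 = true := by decide +kernel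

theorem rel100_p50 : allRange (wordIdPt 15 (relTabs (myBases.getD 100 []))) 27750 555 = true := by decide +kernel

theorem rel100_p51 : allRange (wordIdPt 15 (relTabs (myBases.getD 100 []))) 28305 555 = true := by decide +kernel

theorem rel100_p52 : allRange (wordIdPt 15 (relTabs (myBases.getD 100 []))) 28860 555 = true := by decide +kernel

theorem rel100_p53 : allRange (wordIdPt 15 (relTabs (myBases.getD 100 []))) 29415 555 = true := by decide +kernel

theorem rel100_p54 : allRange (wordIdPt 15 (relTabs (myBases.getD 100 []))) 29970 555 = true := by decide +kernel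

theorem rel100_p55 : allRange (wordIdPt 15 (relTabs (myBases.getD 100 []))) 30525 555 = true := by decide +kernel

theorem rel100_p56 : allRange (wordIdPt 15 (relTabs (myBases.getD 100 []))) 31080 555 = true := by decide +kernel

theorem rel100_p57 : allRange (wordIdPt 15 (relTabs (myBases.getD 100 []))) 31635 36 = true := by decide +kernel

theorem rel101_p0 : allRange (wordIdPt 15 (relTabs (myBases.getD 101 []))) 0 793 = true := by decide +kernel

end Cfsg.Agent.Lib.Helper15.Fi23O
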