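import Cfsg.Agent.Lib.Helper15.Fi23ODefs2
import Cfsg.Agent.Lib.Helper15.Fi23ODefs3
import Cfsg.Agent.Lib.Helper15.WalkPieces
import Cfsg.Agent.Lib.Helper15.Fi23OQ51

set_option autoImplicit false
set_option maxRecDepth 100000
set_option maxHeartbeats 0
set_option Elab.async false

namespace Cfsg.Agent.Lib.Helper15.Fi23O

open Cfsg.Agent.Lib.Helper15.Walk Cfsg.Agent.Lib.Helper28.BSGS Cfsg.Agent.Lib.Helper22.SuzOut

theorem rel_d16_p7 : allRange (wordIdPt 15 (List.replicate 16 tD)) 21875 3125 = true := by decide +kernel

theorem rel_d16_p8 : allRange (wordIdPt 15 (List.replicate 16 tD)) 25000 3125 = true := by decide +kernel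

theorem rel_d16_p9 : allRange (wordIdPt 15 (List.replicate 16 tD)) 28125 3125 = true := by decide +kernel

theorem rel_d16_p10 : allRange (wordIdPt 15 (List.replicate 16 tD)) 31250 421 = true := by decide +kernel

theorem rel_as10_p0 : allRange (wordIdPt 15 (List.replicate 10 [tA, tS]).flatten) 0 2500 = true := by decide +kernel

theorem rel_as10_p1 : allRange (wordIdPt 15 (List.replicate 10 [tA, tS]).flatten) 2500 2500 = true := by decide +kernel

theorem rel_as10_p2 : allRange (wordIdPt 15 (List.replicate 10 [tA, tS]).flatten) 5000 2500 = true := by decide +kernel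

theorem rel_as10_p3 : allRange (wordIdPt 15 (List.replicate 10 [tA, tS]).flatten) 7500 2500 = true := by decide +kernel

theorem rel_as10_p4 : allRange (wordIdPt 15 (List.replicate 10 [tA, tS]).flatten) 10000 2500 = true := by decide +kernel

theorem rel_as10_p5 : allRange (wordIdPt 15 (List.replicate 10 [tA, tS]).flatten) 12500 2500 = true := by decide +kernel

theorem rel_as10_p6 : allRange (wordIdPt 15 (List.replicate 10 [tA, tS]).flatten) 15000 2500 = true := by decide +kernel

theorem rel_as10_p7 : allRange (wordIdPt 15 (List.replicate 10 [tA, tS]).flatten) 17500 2500 = true := by decide +kernel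

theorem rel_as10_p8 : allRange (wordIdPt 15 (List.replicate 10 [tA, tS]).flatten) 20000 2500 = true := by decide +kernel

theorem rel_as10_p9 : allRange (wordIdPt 15 (List.replicate 10 [tA, tS]).flatten) 22500 2500 = true := by decide +kernel

theorem rel_as10_p10 : allRange (wordIdPt 15 (List.replicate 10 [tA, tS]).flatten) 25000 2500 = true := by decide +kernel

theorem rel_as10_p11 : allRange (wordIdPt 15 (List.replicate 10 [tA, tS]).flatten) 27500 2500 = true := by decide +kernel

theorem rel_as10_p12 : allRange (wordIdPt 15 (List.replicate 10 [tA, tS]).flatten) 30000 1671 = true := by decide +kernel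

end Cfsg.Agent.Lib.Helper15.Fi23O
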