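import Cfsg.Agent.Lib.Helper15.Fi23ODefs2
import Cfsg.Agent.Lib.Helper15.Fi23ODefs3
import Cfsg.Agent.Lib.Helper15.WalkPieces
import Cfsg.Agent.Lib.Helper15.Fi23OQ56

set_option autoImplicit false
set_option maxRecDepth 100000
set_option maxHeartbeats 0
set_option Elab.async false

namespace Cfsg.Agent.Lib.Helper15.Fi23O

open Cfsg.Agent.Lib.Helper15.Walk Cfsg.Agent.Lib.Helper28.BSGS Cfsg.Agent.Lib.Helper22.SuzOut

theorem exclA_p43 : allRange (exclPt 15 8 8 levels FA goodA) 30702 714 = true := by decide +kernel

theorem exclA_p44 : allRange (exclPt 15 8 8 levels FA goodA) 31416 255 = true := by decide +kernel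

theorem exclD_p0 : allRange (exclPt 15 8 8 levels FD goodD) 0 714 = true := by decide +kernel

theorem exclD_p1 : allRange (exclPt 15 8 8 levels FD goodD) 714 714 = true := by decide +kernel

theorem exclD_p2 : allRange (exclPt 15 8 8 levels FD goodD) 1428 714 = true := by decide +kernel

theorem exclD_p3 : allRange (exclPt 15 8 8 levels FD goodD) 2142 714 = true := by decide +kernel

theorem exclD_p4 : allRange (exclPt 15 8 8 levels FD goodD) 2856 714 = true := by decide +kernel

theorem exclD_p5 : allRange (exclPt 15 8 8 levels FD goodD) 3570 714 = true := by decide +kernel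

theorem exclD_p6 : allRange (exclPt 15 8 8 levels FD goodD) 4284 714 = true := by decide +kernel

theorem exclD_p7 : allRange (exclPt 15 8 8 levels FD goodD) 4998 714 = true := by decide +kernel

theorem exclD_p8 : allRange (exclPt 15 8 8 levels FD goodD) 5712 714 = true := by decide +kernel

theorem exclD_p9 : allRange (exclPt 15 8 8 levels FD goodD) 6426 714 = true := by decide +kernel

theorem exclD_p10 : allRange (exclPt 15 8 8 levels FD goodD) 7140 714 = true := by decide +kernel

theorem exclD_p11 : allRange (exclPt 15 8 8 levels FD goodD) 7854 714 = true := by decide +kernel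

theorem exclD_p12 : allRange (exclPt 15 8 8 levels FD goodD) 8568 714 = true := by decide +kernel

theorem exclD_p13 : allRange (exclPt 15 8 8 levels FD goodD) 9282 714 = true := by decide +kernel

end Cfsg.Agent.Lib.Helper15.Fi23O
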