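import Cfsg.Agent.Lib.Helper15.Fi23ODefs2
import Cfsg.Agent.Lib.Helper15.Fi23ODefs3
import Cfsg.Agent.Lib.Helper15.WalkPieces

set_option autoImplicit false
set_option maxRecDepth 100000
set_option maxHeartbeats 0
set_option Elab.async false

namespace Cfsg.Agent.Lib.Helper15.Fi23O

open Cfsg.Agent.Lib.Helper15.Walk Cfsg.Agent.Lib.Helper28.BSGS Cfsg.Agent.Lib.Helper22.SuzOut

theorem pair_sg7_p0 : allRange (pairPt 31671 15 sg7 sgi7) 0 12500 = true := by decide +kernel

theorem pair_sg7_p1 : allRange (pairPt 31671 15 sg7 sgi7) 12500 12500 = true := by decide +kernel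

theorem pair_sg7_p2 : allRange (pairPt 31671 15 sg7 sgi7) 25000 6671 = true := by decide +kernel

theorem pair_sg8_p0 : allRange (pairPt 31671 15 sg8 sgi8) 0 12500 = true := by decide +kernel

theorem pair_sg8_p1 : allRange (pairPt 31671 15 sg8 sgi8) 12500 12500 = true := by decide +kernel

theorem pair_sg8_p2 : allRange (pairPt 31671 15 sg8 sgi8) 25000 6671 = true := by decide +kernel

theorem pair_A_p0 : allRange (pairPt 31671 15 tA tAi) 0 12500 = true := by decide +kernel

theorem pair_A_p1 : allRange (pairPt 31671 15 tA tAi) 12500 12500 = true := by decide +kernel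

theorem pair_A_p2 : allRange (pairPt 31671 15 tA tAi) 25000 6671 = true := by decide +kernel

theorem pair_D_p0 : allRange (pairPt 31671 15 tD tDi) 0 12500 = true := by decide +kernel

theorem pair_D_p1 : allRange (pairPt 31671 15 tD tDi) 12500 12500 = true := by decide +kernel

theorem pair_D_p2 : allRange (pairPt 31671 15 tD tDi) 25000 6671 = true := by decide +kernel

theorem pair_S_p0 : allRange (pairPt 31671 15 tS tS) 0 25000 = true := by decide +kernel

theorem pair_S_p1 : allRange (pairPt 31671 15 tS tS) 25000 6671 = true := by decide +kernel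

theorem pth_fwd0_p0 : allRange (pathPt 15 (coxL ++ strongL.take 0) sg0 pth0) 0 1612 = true := by decide +kernel

theorem pth_fwd0_p1 : allRange (pathPt 15 (coxL ++ strongL.take 0) sg0 pth0) 1612 1612 = true := by decide +kernel

theorem pth_fwd0_p2 : allRange (pathPt 15 (coxL ++ strongL.take 0) sg0 pth0) 3224 1612 = true := by decide +kernel

theorem pth_fwd0_p3 : allRange (pathPt 15 (coxL ++ strongL.take 0) sg0 pth0) 4836 1612 = true := by decide +kernel

end Cfsg.Agent.Lib.Helper15.Fi23O
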