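import Cfsg.Agent.Lib.Helper15.Fi23ODefs2
import Cfsg.Agent.Lib.Helper15.Fi23ODefs3
import Cfsg.Agent.Lib.Helper15.WalkPieces
import Cfsg.Agent.Lib.Helper15.Fi23OQ2

set_option autoImplicit false
set_option maxRecDepth 100000
set_option maxHeartbeats 0
set_option Elab.async false

namespace Cfsg.Agent.Lib.Helper15.Fi23O

open Cfsg.Agent.Lib.Helper15.Walk Cfsg.Agent.Lib.Helper28.BSGS Cfsg.Agent.Lib.Helper22.SuzOut

theorem pth_fwd3_p2 : allRange (pathPt 15 (coxL ++ strongL.take 3) sg3 pth3) 2564 1282 = true := by decide +kernel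

theorem pth_fwd3_p3 : allRange (pathPt 15 (coxL ++ strongL.take 3) sg3 pth3) 3846 1282 = true := by decide +kernel

theorem pth_fwd3_p4 : allRange (pathPt 15 (coxL ++ strongL.take 3) sg3 pth3) 5128 1282 = true := by decide +kernel

theorem pth_fwd3_p5 : allRange (pathPt 15 (coxL ++ strongL.take 3) sg3 pth3) 6410 1282 = true := by decide +kernel

theorem pth_fwd3_p6 : allRange (pathPt 15 (coxL ++ strongL.take 3) sg3 pth3) 7692 1282 = true := by decide +kernel

theorem pth_fwd3_p7 : allRange (pathPt 15 (coxL ++ strongL.take 3) sg3 pth3) 8974 1282 = true := by decide +kernel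

theorem pth_fwd3_p8 : allRange (pathPt 15 (coxL ++ strongL.take 3) sg3 pth3) 10256 1282 = true := by decide +kernel

theorem pth_fwd3_p9 : allRange (pathPt 15 (coxL ++ strongL.take 3) sg3 pth3) 11538 1282 = true := by decide +kernel

theorem pth_fwd3_p10 : allRange (pathPt 15 (coxL ++ strongL.take 3) sg3 pth3) 12820 1282 = true := by decide +kernel

theorem pth_fwd3_p11 : allRange (pathPt 15 (coxL ++ strongL.take 3) sg3 pth3) 14102 1282 = true := by decide +kernel

theorem pth_fwd3_p12 : allRange (pathPt 15 (coxL ++ strongL.take 3) sg3 pth3) 15384 1282 = true := by decide +kernel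

theorem pth_fwd3_p13 : allRange (pathPt 15 (coxL ++ strongL.take 3) sg3 pth3) 16666 1282 = true := by decide +kernel

theorem pth_fwd3_p14 : allRange (pathPt 15 (coxL ++ strongL.take 3) sg3 pth3) 17948 1282 = true := by decide +kernel

theorem pth_fwd3_p15 : allRange (pathPt 15 (coxL ++ strongL.take 3) sg3 pth3) 19230 1282 = true := by decide +kernel

theorem pth_fwd3_p16 : allRange (pathPt 15 (coxL ++ strongL.take 3) sg3 pth3) 20512 1282 = true := by decide +kernel

theorem pth_fwd3_p17 : allRange (pathPt 15 (coxL ++ strongL.take 3) sg3 pth3) 21794 1282 = true := by decide +kernel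

end Cfsg.Agent.Lib.Helper15.Fi23O
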