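import Cfsg.Agent.Lib.Helper15.Fi23ODefs2
import Cfsg.Agent.Lib.Helper15.Fi23ODefs3
import Cfsg.Agent.Lib.Helper15.WalkPieces
import Cfsg.Agent.Lib.Helper15.Fi23OQ7

set_option autoImplicit false
set_option maxRecDepth 100000
set_option maxHeartbeats 0
set_option Elab.async false

namespace Cfsg.Agent.Lib.Helper15.Fi23O

open Cfsg.Agent.Lib.Helper15.Walk Cfsg.Agent.Lib.Helper28.BSGS Cfsg.Agent.Lib.Helper22.SuzOut

theorem pth_fwd6_p2 : allRange (pathPt 15 (coxL ++ strongL.take 6) sg6 pth6) 1922 961 = true := by decide +kernel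

theorem pth_fwd6_p3 : allRange (pathPt 15 (coxL ++ strongL.take 6) sg6 pth6) 2883 961 = true := by decide +kernel

theorem pth_fwd6_p4 : allRange (pathPt 15 (coxL ++ strongL.take 6) sg6 pth6) 3844 961 = true := by decide +kernel

theorem pth_fwd6_p5 : allRange (pathPt 15 (coxL ++ strongL.take 6) sg6 pth6) 4805 961 = true := by decide +kernel

theorem pth_fwd6_p6 : allRange (pathPt 15 (coxL ++ strongL.take 6) sg6 pth6) 5766 961 = true := by decide +kernel

theorem pth_fwd6_p7 : allRange (pathPt 15 (coxL ++ strongL.take 6) sg6 pth6) 6727 961 = true := by decide +kernel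

theorem pth_fwd6_p8 : allRange (pathPt 15 (coxL ++ strongL.take 6) sg6 pth6) 7688 961 = true := by decide +kernel

theorem pth_fwd6_p9 : allRange (pathPt 15 (coxL ++ strongL.take 6) sg6 pth6) 8649 961 = true := by decide +kernel

theorem pth_fwd6_p10 : allRange (pathPt 15 (coxL ++ strongL.take 6) sg6 pth6) 9610 961 = true := by decide +kernel

theorem pth_fwd6_p11 : allRange (pathPt 15 (coxL ++ strongL.take 6) sg6 pth6) 10571 961 = true := by decide +kernel

theorem pth_fwd6_p12 : allRange (pathPt 15 (coxL ++ strongL.take 6) sg6 pth6) 11532 961 = true := by decide +kernel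

theorem pth_fwd6_p13 : allRange (pathPt 15 (coxL ++ strongL.take 6) sg6 pth6) 12493 961 = true := by decide +kernel

theorem pth_fwd6_p14 : allRange (pathPt 15 (coxL ++ strongL.take 6) sg6 pth6) 13454 961 = true := by decide +kernel

theorem pth_fwd6_p15 : allRange (pathPt 15 (coxL ++ strongL.take 6) sg6 pth6) 14415 961 = true := by decide +kernel

theorem pth_fwd6_p16 : allRange (pathPt 15 (coxL ++ strongL.take 6) sg6 pth6) 15376 961 = true := by decide +kernel

theorem pth_fwd6_p17 : allRange (pathPt 15 (coxL ++ strongL.take 6) sg6 pth6) 16337 961 = true := by decide +kernel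

end Cfsg.Agent.Lib.Helper15.Fi23O
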