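import Cfsg.Agent.Lib.Helper15.Fi23ODefs2
import Cfsg.Agent.Lib.Helper15.Fi23ODefs3
import Cfsg.Agent.Lib.Helper15.WalkPieces
import Cfsg.Agent.Lib.Helper15.Fi23OQ12

set_option autoImplicit false
set_option maxRecDepth 100000
set_option maxHeartbeats 0
set_option Elab.async false

namespace Cfsg.Agent.Lib.Helper15.Fi23O

open Cfsg.Agent.Lib.Helper15.Walk Cfsg.Agent.Lib.Helper28.BSGS Cfsg.Agent.Lib.Helper22.SuzOut

theorem pth_fwd8_p19 : allRange (pathPt 15 (coxL ++ strongL.take 8) sg8 pth8) 22610 1190 = true := by decide +kernel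

theorem pth_fwd8_p20 : allRange (pathPt 15 (coxL ++ strongL.take 8) sg8 pth8) 23800 1190 = true := by decide +kernel

theorem pth_fwd8_p21 : allRange (pathPt 15 (coxL ++ strongL.take 8) sg8 pth8) 24990 1190 = true := by decide +kernel

theorem pth_fwd8_p22 : allRange (pathPt 15 (coxL ++ strongL.take 8) sg8 pth8) 26180 1190 = true := by decide +kernel

theorem pth_fwd8_p23 : allRange (pathPt 15 (coxL ++ strongL.take 8) sg8 pth8) 27370 1190 = true := by decide +kernel

theorem pth_fwd8_p24 : allRange (pathPt 15 (coxL ++ strongL.take 8) sg8 pth8) 28560 1190 = true := by decide +kernel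

theorem pth_fwd8_p25 : allRange (pathPt 15 (coxL ++ strongL.take 8) sg8 pth8) 29750 1190 = true := by decide +kernel

theorem pth_fwd8_p26 : allRange (pathPt 15 (coxL ++ strongL.take 8) sg8 pth8) 30940 731 = true := by decide +kernel

theorem pthA_fwd_p0 : allRange (pathPt 15 allL tA pthA) 0 3125 = true := by decide +kernel

theorem pthA_fwd_p1 : allRange (pathPt 15 allL tA pthA) 3125 3125 = true := by decide +kernel

theorem pthA_fwd_p2 : allRange (pathPt 15 allL tA pthA) 6250 3125 = true := by decide +kernel

theorem pthA_fwd_p3 : allRange (pathPt 15 allL tA pthA) 9375 3125 = true := by decide +kernel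

theorem pthA_fwd_p4 : allRange (pathPt 15 allL tA pthA) 12500 3125 = true := by decide +kernel

theorem pthA_fwd_p5 : allRange (pathPt 15 allL tA pthA) 15625 3125 = true := by decide +kernel

theorem pthA_fwd_p6 : allRange (pathPt 15 allL tA pthA) 18750 3125 = true := by decide +kernel

theorem pthA_fwd_p7 : allRange (pathPt 15 allL tA pthA) 21875 3125 = true := by decide +kernel

end Cfsg.Agent.Lib.Helper15.Fi23O
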