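import Cfsg.Agent.Lib.Helper15.Fi23ODefs2
import Cfsg.Agent.Lib.Helper15.Fi23ODefs3
import Cfsg.Agent.Lib.Helper15.WalkPieces
import Cfsg.Agent.Lib.Helper15.Fi23OQ27

set_option autoImplicit false
set_option maxRecDepth 100000
set_option maxHeartbeats 0
set_option Elab.async false

namespace Cfsg.Agent.Lib.Helper15.Fi23O

open Cfsg.Agent.Lib.Helper15.Walk Cfsg.Agent.Lib.Helper28.BSGS Cfsg.Agent.Lib.Helper22.SuzOut

theorem rel4_p1 : allRange (wordIdPt 15 (relTabs (myBases.getD 4 []))) 12500 12500 = true := by decide +kernel

theorem rel4_p2 : allRange (wordIdPt 15 (relTabs (myBases.getD 4 []))) 25000 6671 = true := by decide +kernel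

theorem rel5_p0 : allRange (wordIdPt 15 (relTabs (myBases.getD 5 []))) 0 12500 = true := by decide +kernel

theorem rel5_p1 : allRange (wordIdPt 15 (relTabs (myBases.getD 5 []))) 12500 12500 = true := by decide +kernel

theorem rel5_p2 : allRange (wordIdPt 15 (relTabs (myBases.getD 5 []))) 25000 6671 = true := by decide +kernel

theorem rel6_p0 : allRange (wordIdPt 15 (relTabs (myBases.getD 6 []))) 0 12500 = true := by decide +kernel

theorem rel6_p1 : allRange (wordIdPt 15 (relTabs (myBases.getD 6 []))) 12500 12500 = true := by decide +kernel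

theorem rel6_p2 : allRange (wordIdPt 15 (relTabs (myBases.getD 6 []))) 25000 6671 = true := by decide +kernel

theorem rel7_p0 : allRange (wordIdPt 15 (relTabs (myBases.getD 7 []))) 0 12500 = true := by decide +kernel

theorem rel7_p1 : allRange (wordIdPt 15 (relTabs (myBases.getD 7 []))) 12500 12500 = true := by decide +kernel

theorem rel7_p2 : allRange (wordIdPt 15 (relTabs (myBases.getD 7 []))) 25000 6671 = true := by decide +kernel

theorem rel8_p0 : allRange (wordIdPt 15 (relTabs (myBases.getD 8 []))) 0 12500 = true := by decide +kernel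

theorem rel8_p1 : allRange (wordIdPt 15 (relTabs (myBases.getD 8 []))) 12500 12500 = true := by decide +kernel

theorem rel8_p2 : allRange (wordIdPt 15 (relTabs (myBases.getD 8 []))) 25000 6671 = true := by decide +kernel

theorem rel9_p0 : allRange (wordIdPt 15 (relTabs (myBases.getD 9 []))) 0 12500 = true := by decide +kernel

theorem rel9_p1 : allRange (wordIdPt 15 (relTabs (myBases.getD 9 []))) 12500 12500 = true := by decide +kernel

theorem rel9_p2 : allRange (wordIdPt 15 (relTabs (myBases.getD 9 []))) 25000 6671 = true := by decide +kernel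

theorem rel10_p0 : allRange (wordIdPt 15 (relTabs (myBases.getD 10 []))) 0 8333 = true := by decide +kernel

end Cfsg.Agent.Lib.Helper15.Fi23O
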