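import Cfsg.Agent.Lib.Helper15.Fi23ODefs2
import Cfsg.Agent.Lib.Helper15.Fi23ODefs3
import Cfsg.Agent.Lib.Helper15.WalkPieces
import Cfsg.Agent.Lib.Helper15.Fi23OQ47

set_option autoImplicit false
set_option maxRecDepth 100000
set_option maxHeartbeats 0
set_option Elab.async false

namespace Cfsg.Agent.Lib.Helper15.Fi23O

open Cfsg.Agent.Lib.Helper15.Walk Cfsg.Agent.Lib.Helper28.BSGS Cfsg.Agent.Lib.Helper22.SuzOut

theorem rel101_p1 : allRange (wordIdPt 15 (relTabs (myBases.getD 101 []))) 793 793 = true := by decide +kernel

theorem rel101_p2 : allRange (wordIdPt 15 (relTabs (myBases.getD 101 []))) 1586 793 = true := by decide +kernel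

theorem rel101_p3 : allRange (wordIdPt 15 (relTabs (myBases.getD 101 []))) 2379 793 = true := by decide +kernel

theorem rel101_p4 : allRange (wordIdPt 15 (relTabs (myBases.getD 101 []))) 3172 793 = true := by decide +kernel

theorem rel101_p5 : allRange (wordIdPt 15 (relTabs (myBases.getD 101 []))) 3965 793 = true := by decide +kernel

theorem rel101_p6 : allRange (wordIdPt 15 (relTabs (myBases.getD 101 []))) 4758 793 = true := by decide +kernel

theorem rel101_p7 : allRange (wordIdPt 15 (relTabs (myBases.getD 101 []))) 5551 793 = true := by decide +kernel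

theorem rel101_p8 : allRange (wordIdPt 15 (relTabs (myBases.getD 101 []))) 6344 793 = true := by decide +kernel

theorem rel101_p9 : allRange (wordIdPt 15 (relTabs (myBases.getD 101 []))) 7137 793 = true := by decide +kernel

theorem rel101_p10 : allRange (wordIdPt 15 (relTabs (myBases.getD 101 []))) 7930 793 = true := by decide +kernel

theorem rel101_p11 : allRange (wordIdPt 15 (relTabs (myBases.getD 101 []))) 8723 793 = true := by decide +kernel

theorem rel101_p12 : allRange (wordIdPt 15 (relTabs (myBases.getD 101 []))) 9516 793 = true := by decide +kernel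

theorem rel101_p13 : allRange (wordIdPt 15 (relTabs (myBases.getD 101 []))) 10309 793 = true := by decide +kernel

theorem rel101_p14 : allRange (wordIdPt 15 (relTabs (myBases.getD 101 []))) 11102 793 = true := by decide +kernel

theorem rel101_p15 : allRange (wordIdPt 15 (relTabs (myBases.getD 101 []))) 11895 793 = true := by decide +kernel

theorem rel101_p16 : allRange (wordIdPt 15 (relTabs (myBases.getD 101 []))) 12688 793 = true := by decide +kernel

end Cfsg.Agent.Lib.Helper15.Fi23O
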