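import Cfsg.Agent.Lib.Helper15.Fi23ODefs2
import Cfsg.Agent.Lib.Helper15.Fi23ODefs3
import Cfsg.Agent.Lib.Helper15.WalkPieces
import Cfsg.Agent.Lib.Helper15.Fi23OQ52

set_option autoImplicit false
set_option maxRecDepth 100000
set_option maxHeartbeats 0
set_option Elab.async false

namespace Cfsg.Agent.Lib.Helper15.Fi23O

open Cfsg.Agent.Lib.Helper15.Walk Cfsg.Agent.Lib.Helper28.BSGS Cfsg.Agent.Lib.Helper22.SuzOut

theorem lvl0_p0 : allRange (lvlPt 15 8 8 lv0) 0 6250 = true := by decide +kernel

theorem lvl0_p1 : allRange (lvlPt 15 8 8 lv0) 6250 6250 = true := by decide +kernel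

theorem lvl0_p2 : allRange (lvlPt 15 8 8 lv0) 12500 6250 = true := by decide +kernel

theorem lvl0_p3 : allRange (lvlPt 15 8 8 lv0) 18750 6250 = true := by decide +kernel

theorem lvl0_p4 : allRange (lvlPt 15 8 8 lv0) 25000 6250 = true := by decide +kernel

theorem lvl0_p5 : allRange (lvlPt 15 8 8 lv0) 31250 421 = true := by decide +kernel

theorem lvl1_p0 : allRange (lvlPt 15 8 8 lv1) 0 6250 = true := by decide +kernel

theorem lvl1_p1 : allRange (lvlPt 15 8 8 lv1) 6250 6250 = true := by decide +kernel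

theorem lvl1_p2 : allRange (lvlPt 15 8 8 lv1) 12500 6250 = true := by decide +kernel

theorem lvl1_p3 : allRange (lvlPt 15 8 8 lv1) 18750 6250 = true := by decide +kernel

theorem lvl1_p4 : allRange (lvlPt 15 8 8 lv1) 25000 6250 = true := by decide +kernel

theorem lvl1_p5 : allRange (lvlPt 15 8 8 lv1) 31250 421 = true := by decide +kernel

theorem lvl2_p0 : allRange (lvlPt 15 8 8 lv2) 0 6250 = true := by decide +kernel

theorem lvl2_p1 : allRange (lvlPt 15 8 8 lv2) 6250 6250 = true := by decide +kernel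

theorem lvl2_p2 : allRange (lvlPt 15 8 8 lv2) 12500 6250 = true := by decide +kernel

theorem lvl2_p3 : allRange (lvlPt 15 8 8 lv2) 18750 6250 = true := by decide +kernel

theorem lvl2_p4 : allRange (lvlPt 15 8 8 lv2) 25000 6250 = true := by decide +kernel

theorem lvl2_p5 : allRange (lvlPt 15 8 8 lv2) 31250 421 = true := by decide +kernel

end Cfsg.Agent.Lib.Helper15.Fi23O
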