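import Cfsg.Agent.Lib.Helper15.Fi23ODefs2
import Cfsg.Agent.Lib.Helper15.Fi23ODefs3
import Cfsg.Agent.Lib.Helper15.WalkPieces
import Cfsg.Agent.Lib.Helper15.Fi23OQ57

set_option autoImplicit false
set_option maxRecDepth 100000
set_option maxHeartbeats 0
set_option Elab.async false

namespace Cfsg.Agent.Lib.Helper15.Fi23O

open Cfsg.Agent.Lib.Helper15.Walk Cfsg.Agent.Lib.Helper28.BSGS Cfsg.Agent.Lib.Helper22.SuzOut

theorem exclD_p14 : allRange (exclPt 15 8 8 levels FD goodD) 9996 714 = true := by decide +kernel

theorem exclD_p15 : allRange (exclPt 15 8 8 levels FD goodD) 10710 714 = true := by decide +kernel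

theorem exclD_p16 : allRange (exclPt 15 8 8 levels FD goodD) 11424 714 = true := by decide +kernel

theorem exclD_p17 : allRange (exclPt 15 8 8 levels FD goodD) 12138 714 = true := by decide +kernel

theorem exclD_p18 : allRange (exclPt 15 8 8 levels FD goodD) 12852 714 = true := by decide +kernel

theorem exclD_p19 : allRange (exclPt 15 8 8 levels FD goodD) 13566 714 = true := by decide +kernel

theorem exclD_p20 : allRange (exclPt 15 8 8 levels FD goodD) 14280 714 = true := by decide +kernel

theorem exclD_p21 : allRange (exclPt 15 8 8 levels FD goodD) 14994 714 = true := by decide +kernel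

theorem exclD_p22 : allRange (exclPt 15 8 8 levels FD goodD) 15708 714 = true := by decide +kernel

theorem exclD_p23 : allRange (exclPt 15 8 8 levels FD goodD) 16422 714 = true := by decide +kernel

theorem exclD_p24 : allRange (exclPt 15 8 8 levels FD goodD) 17136 714 = true := by decide +kernel

theorem exclD_p25 : allRange (exclPt 15 8 8 levels FD goodD) 17850 714 = true := by decide +kernel

theorem exclD_p26 : allRange (exclPt 15 8 8 levels FD goodD) 18564 714 = true := by decide +kernel

theorem exclD_p27 : allRange (exclPt 15 8 8 levels FD goodD) 19278 714 = true := by decide +kernel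

theorem exclD_p28 : allRange (exclPt 15 8 8 levels FD goodD) 19992 714 = true := by decide +kernel

theorem exclD_p29 : allRange (exclPt 15 8 8 levels FD goodD) 20706 714 = true := by decide +kernel

end Cfsg.Agent.Lib.Helper15.Fi23O
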