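import Cfsg.Agent.Lib.Helper15.Fi23ODefs2
import Cfsg.Agent.Lib.Helper15.Fi23ODefs3
import Cfsg.Agent.Lib.Helper15.WalkPieces

set_option autoImplicit false
set_option maxRecDepth 100000
set_option maxHeartbeats 0
set_option Elab.async false

namespace Cfsg.Agent.Lib.Helper15.Fi23O

open Cfsg.Agent.Lib.Helper15.Walk Cfsg.Agent.Lib.Helper28.BSGS Cfsg.Agent.Lib.Helper22.SuzOut

theorem pth_fwd0_p4 : allRange (pathPt 15 (coxL ++ strongL.take 0) sg0 pth0) 6448 1612 = true := by decide +kernel

theorem pth_fwd0_p5 : allRange (pathPt 15 (coxL ++ strongL.take 0) sg0 pth0) 8060 1612 = true := by decide +kernel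

theorem pth_fwd0_p6 : allRange (pathPt 15 (coxL ++ strongL.take 0) sg0 pth0) 9672 1612 = true := by decide +kernel

theorem pth_fwd0_p7 : allRange (pathPt 15 (coxL ++ strongL.take 0) sg0 pth0) 11284 1612 = true := by decide +kernel

theorem pth_fwd0_p8 : allRange (pathPt 15 (coxL ++ strongL.take 0) sg0 pth0) 12896 1612 = true := by decide +kernel

theorem pth_fwd0_p9 : allRange (pathPt 15 (coxL ++ strongL.take 0) sg0 pth0) 14508 1612 = true := by decide +kernel

theorem pth_fwd0_p10 : allRange (pathPt 15 (coxL ++ strongL.take 0) sg0 pth0) 16120 1612 = true := by decide +kernel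

theorem pth_fwd0_p11 : allRange (pathPt 15 (coxL ++ strongL.take 0) sg0 pth0) 17732 1612 = true := by decide +kernel

theorem pth_fwd0_p12 : allRange (pathPt 15 (coxL ++ strongL.take 0) sg0 pth0) 19344 1612 = true := by decide +kernel

theorem pth_fwd0_p13 : allRange (pathPt 15 (coxL ++ strongL.take 0) sg0 pth0) 20956 1612 = true := by decide +kernel

theorem pth_fwd0_p14 : allRange (pathPt 15 (coxL ++ strongL.take 0) sg0 pth0) 22568 1612 = true := by decide +kernel

theorem pth_fwd0_p15 : allRange (pathPt 15 (coxL ++ strongL.take 0) sg0 pth0) 24180 1612 = true := by decide +kernel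

theorem pth_fwd0_p16 : allRange (pathPt 15 (coxL ++ strongL.take 0) sg0 pth0) 25792 1612 = true := by decide +kernel

theorem pth_fwd0_p17 : allRange (pathPt 15 (coxL ++ strongL.take 0) sg0 pth0) 27404 1612 = true := by decide +kernel

theorem pth_fwd0_p18 : allRange (pathPt 15 (coxL ++ strongL.take 0) sg0 pth0) 29016 1612 = true := by decide +kernel

theorem pth_fwd0_p19 : allRange (pathPt 15 (coxL ++ strongL.take 0) sg0 pth0) 30628 1043 = true := by decide +kernel

end Cfsg.Agent.Lib.Helper15.Fi23O
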