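import Cfsg.Agent.Lib.Helper15.Fi23ODefs2
import Cfsg.Agent.Lib.Helper15.Fi23ODefs3
import Cfsg.Agent.Lib.Helper15.WalkPieces
import Cfsg.Agent.Lib.Helper15.Fi23OQ3

set_option autoImplicit false
set_option maxRecDepth 100000
set_option maxHeartbeats 0
set_option Elab.async false

namespace Cfsg.Agent.Lib.Helper15.Fi23O

open Cfsg.Agent.Lib.Helper15.Walk Cfsg.Agent.Lib.Helper28.BSGS Cfsg.Agent.Lib.Helper22.SuzOut

theorem pth_fwd3_p18 : allRange (pathPt 15 (coxL ++ strongL.take 3) sg3 pth3) 23076 1282 = true := by decide +kernel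

theorem pth_fwd3_p19 : allRange (pathPt 15 (coxL ++ strongL.take 3) sg3 pth3) 24358 1282 = true := by decide +kernel

theorem pth_fwd3_p20 : allRange (pathPt 15 (coxL ++ strongL.take 3) sg3 pth3) 25640 1282 = true := by decide +kernel

theorem pth_fwd3_p21 : allRange (pathPt 15 (coxL ++ strongL.take 3) sg3 pth3) 26922 1282 = true := by decide +kernel

theorem pth_fwd3_p22 : allRange (pathPt 15 (coxL ++ strongL.take 3) sg3 pth3) 28204 1282 = true := by decide +kernel

theorem pth_fwd3_p23 : allRange (pathPt 15 (coxL ++ strongL.take 3) sg3 pth3) 29486 1282 = true := by decide +kernel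

theorem pth_fwd3_p24 : allRange (pathPt 15 (coxL ++ strongL.take 3) sg3 pth3) 30768 903 = true := by decide +kernel

theorem pth_fwd4_p0 : allRange (pathPt 15 (coxL ++ strongL.take 4) sg4 pth4) 0 1162 = true := by decide +kernel

theorem pth_fwd4_p1 : allRange (pathPt 15 (coxL ++ strongL.take 4) sg4 pth4) 1162 1162 = true := by decide +kernel

theorem pth_fwd4_p2 : allRange (pathPt 15 (coxL ++ strongL.take 4) sg4 pth4) 2324 1162 = true := by decide +kernel

theorem pth_fwd4_p3 : allRange (pathPt 15 (coxL ++ strongL.take 4) sg4 pth4) 3486 1162 = true := by decide +kernel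

theorem pth_fwd4_p4 : allRange (pathPt 15 (coxL ++ strongL.take 4) sg4 pth4) 4648 1162 = true := by decide +kernel

theorem pth_fwd4_p5 : allRange (pathPt 15 (coxL ++ strongL.take 4) sg4 pth4) 5810 1162 = true := by decide +kernel

theorem pth_fwd4_p6 : allRange (pathPt 15 (coxL ++ strongL.take 4) sg4 pth4) 6972 1162 = true := by decide +kernel

theorem pth_fwd4_p7 : allRange (pathPt 15 (coxL ++ strongL.take 4) sg4 pth4) 8134 1162 = true := by decide +kernel

theorem pth_fwd4_p8 : allRange (pathPt 15 (coxL ++ strongL.take 4) sg4 pth4) 9296 1162 = true := by decide +kernel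

end Cfsg.Agent.Lib.Helper15.Fi23O
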