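import Cfsg.Agent.Lib.Helper15.Fi23ODefs2
import Cfsg.Agent.Lib.Helper15.Fi23ODefs3
import Cfsg.Agent.Lib.Helper15.WalkPieces
import Cfsg.Agent.Lib.Helper15.Fi23OQ8

set_option autoImplicit false
set_option maxRecDepth 100000
set_option maxHeartbeats 0
set_option Elab.async false

namespace Cfsg.Agent.Lib.Helper15.Fi23O

open Cfsg.Agent.Lib.Helper15.Walk Cfsg.Agent.Lib.Helper28.BSGS Cfsg.Agent.Lib.Helper22.SuzOut

theorem pth_fwd6_p18 : allRange (pathPt 15 (coxL ++ strongL.take 6) sg6 pth6) 17298 961 = true := by decide +kernel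

theorem pth_fwd6_p19 : allRange (pathPt 15 (coxL ++ strongL.take 6) sg6 pth6) 18259 961 = true := by decide +kernel

theorem pth_fwd6_p20 : allRange (pathPt 15 (coxL ++ strongL.take 6) sg6 pth6) 19220 961 = true := by decide +kernel

theorem pth_fwd6_p21 : allRange (pathPt 15 (coxL ++ strongL.take 6) sg6 pth6) 20181 961 = true := by decide +kernel

theorem pth_fwd6_p22 : allRange (pathPt 15 (coxL ++ strongL.take 6) sg6 pth6) 21142 961 = true := by decide +kernel

theorem pth_fwd6_p23 : allRange (pathPt 15 (coxL ++ strongL.take 6) sg6 pth6) 22103 961 = true := by decide +kernel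

theorem pth_fwd6_p24 : allRange (pathPt 15 (coxL ++ strongL.take 6) sg6 pth6) 23064 961 = true := by decide +kernel

theorem pth_fwd6_p25 : allRange (pathPt 15 (coxL ++ strongL.take 6) sg6 pth6) 24025 961 = true := by decide +kernel

theorem pth_fwd6_p26 : allRange (pathPt 15 (coxL ++ strongL.take 6) sg6 pth6) 24986 961 = true := by decide +kernel

theorem pth_fwd6_p27 : allRange (pathPt 15 (coxL ++ strongL.take 6) sg6 pth6) 25947 961 = true := by decide +kernel

theorem pth_fwd6_p28 : allRange (pathPt 15 (coxL ++ strongL.take 6) sg6 pth6) 26908 961 = true := by decide +kernel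

theorem pth_fwd6_p29 : allRange (pathPt 15 (coxL ++ strongL.take 6) sg6 pth6) 27869 961 = true := by decide +kernel

theorem pth_fwd6_p30 : allRange (pathPt 15 (coxL ++ strongL.take 6) sg6 pth6) 28830 961 = true := by decide +kernel

theorem pth_fwd6_p31 : allRange (pathPt 15 (coxL ++ strongL.take 6) sg6 pth6) 29791 961 = true := by decide +kernel

theorem pth_fwd6_p32 : allRange (pathPt 15 (coxL ++ strongL.take 6) sg6 pth6) 30752 919 = true := by decide +kernel

theorem pth_fwd7_p0 : allRange (pathPt 15 (coxL ++ strongL.take 7) sg7 pth7) 0 1063 = true := by decide +kernel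

end Cfsg.Agent.Lib.Helper15.Fi23O
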