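import Cfsg.Agent.Lib.Helper15.Fi23ODefs2
import Cfsg.Agent.Lib.Helper15.Fi23ODefs3
import Cfsg.Agent.Lib.Helper15.WalkPieces
import Cfsg.Agent.Lib.Helper15.Fi23OQ13

set_option autoImplicit false
set_option maxRecDepth 100000
set_option maxHeartbeats 0
set_option Elab.async false

namespace Cfsg.Agent.Lib.Helper15.Fi23O

open Cfsg.Agent.Lib.Helper15.Walk Cfsg.Agent.Lib.Helper28.BSGS Cfsg.Agent.Lib.Helper22.SuzOut

theorem pthA_fwd_p8 : allRange (pathPt 15 allL tA pthA) 25000 3125 = true := by decide +kernel

theorem pthA_fwd_p9 : allRange (pathPt 15 allL tA pthA) 28125 3125 = true := by decide +kernel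

theorem pthA_fwd_p10 : allRange (pathPt 15 allL tA pthA) 31250 421 = true := by decide +kernel

theorem pthD_fwd_p0 : allRange (pathPt 15 allL tD pthD) 0 2000 = true := by decide +kernel

theorem pthD_fwd_p1 : allRange (pathPt 15 allL tD pthD) 2000 2000 = true := by decide +kernel

theorem pthD_fwd_p2 : allRange (pathPt 15 allL tD pthD) 4000 2000 = true := by decide +kernel

theorem pthD_fwd_p3 : allRange (pathPt 15 allL tD pthD) 6000 2000 = true := by decide +kernel

theorem pthD_fwd_p4 : allRange (pathPt 15 allL tD pthD) 8000 2000 = true := by decide +kernel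

theorem pthD_fwd_p5 : allRange (pathPt 15 allL tD pthD) 10000 2000 = true := by decide +kernel

theorem pthD_fwd_p6 : allRange (pathPt 15 allL tD pthD) 12000 2000 = true := by decide +kernel

theorem pthD_fwd_p7 : allRange (pathPt 15 allL tD pthD) 14000 2000 = true := by decide +kernel

theorem pthD_fwd_p8 : allRange (pathPt 15 allL tD pthD) 16000 2000 = true := by decide +kernel

theorem pthD_fwd_p9 : allRange (pathPt 15 allL tD pthD) 18000 2000 = true := by decide +kernel

theorem pthD_fwd_p10 : allRange (pathPt 15 allL tD pthD) 20000 2000 = true := by decide +kernel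

theorem pthD_fwd_p11 : allRange (pathPt 15 allL tD pthD) 22000 2000 = true := by decide +kernel

theorem pthD_fwd_p12 : allRange (pathPt 15 allL tD pthD) 24000 2000 = true := by decide +kernel

end Cfsg.Agent.Lib.Helper15.Fi23O
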