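import Cfsg.Agent.Lib.Helper15.Fi23ODefs2
import Cfsg.Agent.Lib.Helper15.Fi23ODefs3
import Cfsg.Agent.Lib.Helper15.WalkPieces
import Cfsg.Agent.Lib.Helper15.Fi23OQ18

set_option autoImplicit false
set_option maxRecDepth 100000
set_option maxHeartbeats 0
set_option Elab.async false

namespace Cfsg.Agent.Lib.Helper15.Fi23O

open Cfsg.Agent.Lib.Helper15.Walk Cfsg.Agent.Lib.Helper28.BSGS Cfsg.Agent.Lib.Helper22.SuzOut

theorem gp_fwd2_p11 : allRange (pathPt 15 adsL cx2 gp2) 21153 1923 = true := by decide +kernel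

theorem gp_fwd2_p12 : allRange (pathPt 15 adsL cx2 gp2) 23076 1923 = true := by decide +kernel

theorem gp_fwd2_p13 : allRange (pathPt 15 adsL cx2 gp2) 24999 1923 = true := by decide +kernel

theorem gp_fwd2_p14 : allRange (pathPt 15 adsL cx2 gp2) 26922 1923 = true := by decide +kernel

theorem gp_fwd2_p15 : allRange (pathPt 15 adsL cx2 gp2) 28845 1923 = true := by decide +kernel

theorem gp_fwd2_p16 : allRange (pathPt 15 adsL cx2 gp2) 30768 903 = true := by decide +kernel

theorem gp_fwd3_p0 : allRange (pathPt 15 adsL cx3 gp3) 0 1666 = true := by decide +kernel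

theorem gp_fwd3_p1 : allRange (pathPt 15 adsL cx3 gp3) 1666 1666 = true := by decide +kernel

theorem gp_fwd3_p2 : allRange (pathPt 15 adsL cx3 gp3) 3332 1666 = true := by decide +kernel

theorem gp_fwd3_p3 : allRange (pathPt 15 adsL cx3 gp3) 4998 1666 = true := by decide +kernel

theorem gp_fwd3_p4 : allRange (pathPt 15 adsL cx3 gp3) 6664 1666 = true := by decide +kernel

theorem gp_fwd3_p5 : allRange (pathPt 15 adsL cx3 gp3) 8330 1666 = true := by decide +kernel

theorem gp_fwd3_p6 : allRange (pathPt 15 adsL cx3 gp3) 9996 1666 = true := by decide +kernel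

theorem gp_fwd3_p7 : allRange (pathPt 15 adsL cx3 gp3) 11662 1666 = true := by decide +kernel

theorem gp_fwd3_p8 : allRange (pathPt 15 adsL cx3 gp3) 13328 1666 = true := by decide +kernel

theorem gp_fwd3_p9 : allRange (pathPt 15 adsL cx3 gp3) 14994 1666 = true := by decide +kernel

end Cfsg.Agent.Lib.Helper15.Fi23O
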