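import Cfsg.Agent.Lib.Helper15.Fi23ODefs2
import Cfsg.Agent.Lib.Helper15.Fi23ODefs3
import Cfsg.Agent.Lib.Helper15.WalkPieces
import Cfsg.Agent.Lib.Helper15.Fi23OQ23

set_option autoImplicit false
set_option maxRecDepth 100000
set_option maxHeartbeats 0
set_option Elab.async false

namespace Cfsg.Agent.Lib.Helper15.Fi23O

open Cfsg.Agent.Lib.Helper15.Walk Cfsg.Agent.Lib.Helper28.BSGS Cfsg.Agent.Lib.Helper22.SuzOut

theorem gp_fwd7_p2 : allRange (pathPt 15 adsL cx7 gp7) 3332 1666 = true := by decide +kernel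

theorem gp_fwd7_p3 : allRange (pathPt 15 adsL cx7 gp7) 4998 1666 = true := by decide +kernel

theorem gp_fwd7_p4 : allRange (pathPt 15 adsL cx7 gp7) 6664 1666 = true := by decide +kernel

theorem gp_fwd7_p5 : allRange (pathPt 15 adsL cx7 gp7) 8330 1666 = true := by decide +kernel

theorem gp_fwd7_p6 : allRange (pathPt 15 adsL cx7 gp7) 9996 1666 = true := by decide +kernel

theorem gp_fwd7_p7 : allRange (pathPt 15 adsL cx7 gp7) 11662 1666 = true := by decide +kernel

theorem gp_fwd7_p8 : allRange (pathPt 15 adsL cx7 gp7) 13328 1666 = true := by decide +kernel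

theorem gp_fwd7_p9 : allRange (pathPt 15 adsL cx7 gp7) 14994 1666 = true := by decide +kernel

theorem gp_fwd7_p10 : allRange (pathPt 15 adsL cx7 gp7) 16660 1666 = true := by decide +kernel

theorem gp_fwd7_p11 : allRange (pathPt 15 adsL cx7 gp7) 18326 1666 = true := by decide +kernel

theorem gp_fwd7_p12 : allRange (pathPt 15 adsL cx7 gp7) 19992 1666 = true := by decide +kernel

theorem gp_fwd7_p13 : allRange (pathPt 15 adsL cx7 gp7) 21658 1666 = true := by decide +kernel

theorem gp_fwd7_p14 : allRange (pathPt 15 adsL cx7 gp7) 23324 1666 = true := by decide +kernel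

theorem gp_fwd7_p15 : allRange (pathPt 15 adsL cx7 gp7) 24990 1666 = true := by decide +kernel

theorem gp_fwd7_p16 : allRange (pathPt 15 adsL cx7 gp7) 26656 1666 = true := by decide +kernel

theorem gp_fwd7_p17 : allRange (pathPt 15 adsL cx7 gp7) 28322 1666 = true := by decide +kernel

end Cfsg.Agent.Lib.Helper15.Fi23O
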