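import Cfsg.Agent.Lib.Helper15.Fi23ODefs2
import Cfsg.Agent.Lib.Helper15.Fi23ODefs3
import Cfsg.Agent.Lib.Helper15.WalkPieces
import Cfsg.Agent.Lib.Helper15.Fi23OQ33

set_option autoImplicit false
set_option maxRecDepth 100000
set_option maxHeartbeats 0
set_option Elab.async false

namespace Cfsg.Agent.Lib.Helper15.Fi23O

open Cfsg.Agent.Lib.Helper15.Walk Cfsg.Agent.Lib.Helper28.BSGS Cfsg.Agent.Lib.Helper22.SuzOut

theorem rel39_p0 : allRange (wordIdPt 15 (relTabs (myBases.getD 39 []))) 0 12500 = true := by decide +kernel

theorem rel39_p1 : allRange (wordIdPt 15 (relTabs (myBases.getD 39 []))) 12500 12500 = true := by decide +kernel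

theorem rel39_p2 : allRange (wordIdPt 15 (relTabs (myBases.getD 39 []))) 25000 6671 = true := by decide +kernel

theorem rel40_p0 : allRange (wordIdPt 15 (relTabs (myBases.getD 40 []))) 0 12500 = true := by decide +kernel

theorem rel40_p1 : allRange (wordIdPt 15 (relTabs (myBases.getD 40 []))) 12500 12500 = true := by decide +kernel

theorem rel40_p2 : allRange (wordIdPt 15 (relTabs (myBases.getD 40 []))) 25000 6671 = true := by decide +kernel

theorem rel41_p0 : allRange (wordIdPt 15 (relTabs (myBases.getD 41 []))) 0 12500 = true := by decide +kernel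

theorem rel41_p1 : allRange (wordIdPt 15 (relTabs (myBases.getD 41 []))) 12500 12500 = true := by decide +kernel

theorem rel41_p2 : allRange (wordIdPt 15 (relTabs (myBases.getD 41 []))) 25000 6671 = true := by decide +kernel

theorem rel42_p0 : allRange (wordIdPt 15 (relTabs (myBases.getD 42 []))) 0 12500 = true := by decide +kernel

theorem rel42_p1 : allRange (wordIdPt 15 (relTabs (myBases.getD 42 []))) 12500 12500 = true := by decide +kernel

theorem rel42_p2 : allRange (wordIdPt 15 (relTabs (myBases.getD 42 []))) 25000 6671 = true := by decide +kernel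

theorem rel43_p0 : allRange (wordIdPt 15 (relTabs (myBases.getD 43 []))) 0 8333 = true := by decide +kernel

theorem rel43_p1 : allRange (wordIdPt 15 (relTabs (myBases.getD 43 []))) 8333 8333 = true := by decide +kernel

theorem rel43_p2 : allRange (wordIdPt 15 (relTabs (myBases.getD 43 []))) 16666 8333 = true := by decide +kernel

theorem rel43_p3 : allRange (wordIdPt 15 (relTabs (myBases.getD 43 []))) 24999 6672 = true := by decide +kernel

theorem rel44_p0 : allRange (wordIdPt 15 (relTabs (myBases.getD 44 []))) 0 25000 = true := by decide +kernel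

theorem rel44_p1 : allRange (wordIdPt 15 (relTabs (myBases.getD 44 []))) 25000 6671 = true := by decide +kernel

end Cfsg.Agent.Lib.Helper15.Fi23O
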