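import Cfsg.Agent.Lib.Helper15.Fi23ODefs2
import Cfsg.Agent.Lib.Helper15.Fi23ODefs3
import Cfsg.Agent.Lib.Helper15.WalkPieces
import Cfsg.Agent.Lib.Helper15.Fi23OQ43

set_option autoImplicit false
set_option maxRecDepth 100000
set_option maxHeartbeats 0
set_option Elab.async false

namespace Cfsg.Agent.Lib.Helper15.Fi23O

open Cfsg.Agent.Lib.Helper15.Walk Cfsg.Agent.Lib.Helper28.BSGS Cfsg.Agent.Lib.Helper22.SuzOut

theorem rel97_p3 : allRange (wordIdPt 15 (relTabs (myBases.getD 97 []))) 24999 6672 = true := by decide +kernel

theorem rel98_p0 : allRange (wordIdPt 15 (relTabs (myBases.getD 98 []))) 0 12500 = true := by decide +kernel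

theorem rel98_p1 : allRange (wordIdPt 15 (relTabs (myBases.getD 98 []))) 12500 12500 = true := by decide +kernel

theorem rel98_p2 : allRange (wordIdPt 15 (relTabs (myBases.getD 98 []))) 25000 6671 = true := by decide +kernel

theorem rel99_p0 : allRange (wordIdPt 15 (relTabs (myBases.getD 99 []))) 0 25000 = true := by decide +kernel

theorem rel99_p1 : allRange (wordIdPt 15 (relTabs (myBases.getD 99 []))) 25000 6671 = true := by decide +kernel

theorem rel100_p0 : allRange (wordIdPt 15 (relTabs (myBases.getD 100 []))) 0 555 = true := by decide +kernel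

theorem rel100_p1 : allRange (wordIdPt 15 (relTabs (myBases.getD 100 []))) 555 555 = true := by decide +kernel

theorem rel100_p2 : allRange (wordIdPt 15 (relTabs (myBases.getD 100 []))) 1110 555 = true := by decide +kernel

theorem rel100_p3 : allRange (wordIdPt 15 (relTabs (myBases.getD 100 []))) 1665 555 = true := by decide +kernel

theorem rel100_p4 : allRange (wordIdPt 15 (relTabs (myBases.getD 100 []))) 2220 555 = true := by decide +kernel

theorem rel100_p5 : allRange (wordIdPt 15 (relTabs (myBases.getD 100 []))) 2775 555 = true := by decide +kernel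

theorem rel100_p6 : allRange (wordIdPt 15 (relTabs (myBases.getD 100 []))) 3330 555 = true := by decide +kernel

theorem rel100_p7 : allRange (wordIdPt 15 (relTabs (myBases.getD 100 []))) 3885 555 = true := by decide +kernel

theorem rel100_p8 : allRange (wordIdPt 15 (relTabs (myBases.getD 100 []))) 4440 555 = true := by decide +kernel

theorem rel100_p9 : allRange (wordIdPt 15 (relTabs (myBases.getD 100 []))) 4995 555 = true := by decide +kernel

theorem rel100_p10 : allRange (wordIdPt 15 (relTabs (myBases.getD 100 []))) 5550 555 = true := by decide +kernel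

end Cfsg.Agent.Lib.Helper15.Fi23O
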