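import Cfsg.Agent.Lib.Helper15.Fi23ODefs2
import Cfsg.Agent.Lib.Helper15.Fi23ODefs3
import Cfsg.Agent.Lib.Helper15.WalkPieces
import Cfsg.Agent.Lib.Helper15.Fi23OQ48

set_option autoImplicit false
set_option maxRecDepth 100000
set_option maxHeartbeats 0
set_option Elab.async false

namespace Cfsg.Agent.Lib.Helper15.Fi23O

open Cfsg.Agent.Lib.Helper15.Walk Cfsg.Agent.Lib.Helper28.BSGS Cfsg.Agent.Lib.Helper22.SuzOut

theorem rel101_p17 : allRange (wordIdPt 15 (relTabs (myBases.getD 101 []))) 13481 793 = true := by decide +kernel

theorem rel101_p18 : allRange (wordIdPt 15 (relTabs (myBases.getD 101 []))) 14274 793 = true := by decide +kernel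

theorem rel101_p19 : allRange (wordIdPt 15 (relTabs (myBases.getD 101 []))) 15067 793 = true := by decide +kernel

theorem rel101_p20 : allRange (wordIdPt 15 (relTabs (myBases.getD 101 []))) 15860 793 = true := by decide +kernel

theorem rel101_p21 : allRange (wordIdPt 15 (relTabs (myBases.getD 101 []))) 16653 793 = true := by decide +kernel

theorem rel101_p22 : allRange (wordIdPt 15 (relTabs (myBases.getD 101 []))) 17446 793 = true := by decide +kernel

theorem rel101_p23 : allRange (wordIdPt 15 (relTabs (myBases.getD 101 []))) 18239 793 = true := by decide +kernel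

theorem rel101_p24 : allRange (wordIdPt 15 (relTabs (myBases.getD 101 []))) 19032 793 = true := by decide +kernel

theorem rel101_p25 : allRange (wordIdPt 15 (relTabs (myBases.getD 101 []))) 19825 793 = true := by decide +kernel

theorem rel101_p26 : allRange (wordIdPt 15 (relTabs (myBases.getD 101 []))) 20618 793 = true := by decide +kernel

theorem rel101_p27 : allRange (wordIdPt 15 (relTabs (myBases.getD 101 []))) 21411 793 = true := by decide +kernel

theorem rel101_p28 : allRange (wordIdPt 15 (relTabs (myBases.getD 101 []))) 22204 793 = true := by decide +kernel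

theorem rel101_p29 : allRange (wordIdPt 15 (relTabs (myBases.getD 101 []))) 22997 793 = true := by decide +kernel

theorem rel101_p30 : allRange (wordIdPt 15 (relTabs (myBases.getD 101 []))) 23790 793 = true := by decide +kernel

theorem rel101_p31 : allRange (wordIdPt 15 (relTabs (myBases.getD 101 []))) 24583 793 = true := by decide +kernel

theorem rel101_p32 : allRange (wordIdPt 15 (relTabs (myBases.getD 101 []))) 25376 793 = true := by decide +kernel

end Cfsg.Agent.Lib.Helper15.Fi23O
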