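import Cfsg.Agent.Lib.Helper15.Fi23ODefs2
import Cfsg.Agent.Lib.Helper15.Fi23ODefs3
import Cfsg.Agent.Lib.Helper15.WalkPieces
import Cfsg.Agent.Lib.Helper15.Fi23OQ53

set_option autoImplicit false
set_option maxRecDepth 100000
set_option maxHeartbeats 0
set_option Elab.async false

namespace Cfsg.Agent.Lib.Helper15.Fi23O

open Cfsg.Agent.Lib.Helper15.Walk Cfsg.Agent.Lib.Helper28.BSGS Cfsg.Agent.Lib.Helper22.SuzOut

theorem lvl3_p0 : allRange (lvlPt 15 8 8 lv3) 0 31671 = true := by decide +kernel

theorem lvl4_p0 : allRange (lvlPt 15 8 8 lv4) 0 31671 = true := by decide +kernel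

theorem lvl5_p0 : allRange (lvlPt 15 8 8 lv5) 0 31671 = true := by decide +kernel

theorem lvl6_p0 : allRange (lvlPt 15 8 8 lv6) 0 31671 = true := by decide +kernel

theorem lvl7_p0 : allRange (lvlPt 15 8 8 lv7) 0 31671 = true := by decide +kernel

theorem lvl8_p0 : allRange (lvlPt 15 8 8 lv8) 0 31671 = true := by decide +kernel

theorem exclA_p0 : allRange (exclPt 15 8 8 levels FA goodA) 0 714 = true := by decide +kernel

theorem exclA_p1 : allRange (exclPt 15 8 8 levels FA goodA) 714 714 = true := by decide +kernel

theorem exclA_p2 : allRange (exclPt 15 8 8 levels FA goodA) 1428 714 = true := by decide +kernel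

theorem exclA_p3 : allRange (exclPt 15 8 8 levels FA goodA) 2142 714 = true := by decide +kernel

theorem exclA_p4 : allRange (exclPt 15 8 8 levels FA goodA) 2856 714 = true := by decide +kernel

theorem exclA_p5 : allRange (exclPt 15 8 8 levels FA goodA) 3570 714 = true := by decide +kernel

theorem exclA_p6 : allRange (exclPt 15 8 8 levels FA goodA) 4284 714 = true := by decide +kernel

theorem exclA_p7 : allRange (exclPt 15 8 8 levels FA goodA) 4998 714 = true := by decide +kernel

theorem exclA_p8 : allRange (exclPt 15 8 8 levels FA goodA) 5712 714 = true := by decide +kernel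

theorem exclA_p9 : allRange (exclPt 15 8 8 levels FA goodA) 6426 714 = true := by decide +kernel

theorem exclA_p10 : allRange (exclPt 15 8 8 levels FA goodA) 7140 714 = true := by decide +kernel

end Cfsg.Agent.Lib.Helper15.Fi23O
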