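import Cfsg.Agent.Lib.Helper15.Fi23ODefs2
import Cfsg.Agent.Lib.Helper15.Fi23ODefs3
import Cfsg.Agent.Lib.Helper15.WalkPieces
import Cfsg.Agent.Lib.Helper15.Fi23OQ58

set_option autoImplicit false
set_option maxRecDepth 100000
set_option maxHeartbeats 0
set_option Elab.async false

namespace Cfsg.Agent.Lib.Helper15.Fi23O

open Cfsg.Agent.Lib.Helper15.Walk Cfsg.Agent.Lib.Helper28.BSGS Cfsg.Agent.Lib.Helper22.SuzOut

theorem exclD_p30 : allRange (exclPt 15 8 8 levels FD goodD) 21420 714 = true := by decide +kernel

theorem exclD_p31 : allRange (exclPt 15 8 8 levels FD goodD) 22134 714 = true := by decide +kernel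

theorem exclD_p32 : allRange (exclPt 15 8 8 levels FD goodD) 22848 714 = true := by decide +kernel

theorem exclD_p33 : allRange (exclPt 15 8 8 levels FD goodD) 23562 714 = true := by decide +kernel

theorem exclD_p34 : allRange (exclPt 15 8 8 levels FD goodD) 24276 714 = true := by decide +kernel

theorem exclD_p35 : allRange (exclPt 15 8 8 levels FD goodD) 24990 714 = true := by decide +kernel

theorem exclD_p36 : allRange (exclPt 15 8 8 levels FD goodD) 25704 714 = true := by decide +kernel

theorem exclD_p37 : allRange (exclPt 15 8 8 levels FD goodD) 26418 714 = true := by decide +kernel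

theorem exclD_p38 : allRange (exclPt 15 8 8 levels FD goodD) 27132 714 = true := by decide +kernel

theorem exclD_p39 : allRange (exclPt 15 8 8 levels FD goodD) 27846 714 = true := by decide +kernel

theorem exclD_p40 : allRange (exclPt 15 8 8 levels FD goodD) 28560 714 = true := by decide +kernel

theorem exclD_p41 : allRange (exclPt 15 8 8 levels FD goodD) 29274 714 = true := by decide +kernel

theorem exclD_p42 : allRange (exclPt 15 8 8 levels FD goodD) 29988 714 = true := by decide +kernel

theorem exclD_p43 : allRange (exclPt 15 8 8 levels FD goodD) 30702 714 = true := by decide +kernel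

theorem exclD_p44 : allRange (exclPt 15 8 8 levels FD goodD) 31416 255 = true := by decide +kernel

end Cfsg.Agent.Lib.Helper15.Fi23O
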