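import Cfsg.Agent.Lib.Helper15.Fi23OQ59
import Cfsg.Agent.Lib.Helper15.Fi23OQ60
import Cfsg.Agent.Lib.Helper15.Fi23OQ61
import Cfsg.Agent.Lib.Helper15.Fi23OQ62
import Cfsg.Agent.Lib.Helper15.Fi23OQ63

set_option autoImplicit false
set_option maxRecDepth 100000
set_option maxHeartbeats 0
set_option Elab.async false

namespace Cfsg.Agent.Lib.Helper15.Fi23O

open Cfsg.Agent.Lib.Helper15.Walk Cfsg.Agent.Lib.Helper28.BSGS Cfsg.Agent.Lib.Helper22.SuzOut

theorem pair_cx0_a0 : allBelow (pairPt 31671 15 cx0 cx0) 25000 = true :=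
  allBelow_append (m := 0) (len := 25000) rfl (allBelow_nil _) pair_cx0_p0

theorem pair_cx0_pts : allBelow (pairPt 31671 15 cx0 cx0) 31671 = true :=
  allBelow_append (m := 25000) (len := 6671) rfl (pair_cx0_a0) pair_cx0_p1

theorem pair_cx1_a0 : allBelow (pairPt 31671 15 cx1 cx1) 25000 = true :=
  allBelow_append (m := 0) (len := 25000) rfl (allBelow_nil _) pair_cx1_p0

theorem pair_cx1_pts : allBelow (pairPt 31671 15 cx1 cx1) 31671 = true :=
  allBelow_append (m := 25000) (len := 6671) rfl (pair_cx1_a0) pair_cx1_p1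

theorem pair_cx2_a0 : allBelow (pairPt 31671 15 cx2 cx2) 25000 = true :=
  allBelow_append (m := 0) (len := 25000) rfl (allBelow_nil _) pair_cx2_p0

theorem pair_cx2_pts : allBelow (pairPt 31671 15 cx2 cx2) 31671 = true :=
  allBelow_append (m := 25000) (len := 6671) rfl (pair_cx2_a0) pair_cx2_p1

theorem pair_cx3_a0 : allBelow (pairPt 31671 15 cx3 cx3) 25000 = true :=
  allBelow_append (m := 0) (len := 25000) rfl (allBelow_nil _) pair_cx3_p0

theorem pair_cx3_pts : allBelow (pairPt 31671 15 cx3 cx3) 31671 = true :=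
  allBelow_append (m := 25000) (len := 6671) rfl (pair_cx3_a0) pair_cx3_p1

theorem pair_cx4_a0 : allBelow (pairPt 31671 15 cx4 cx4) 25000 = true :=
  allBelow_append (m := 0) (len := 25000) rfl (allBelow_nil _) pair_cx4_p0

theorem pair_cx4_pts : allBelow (pairPt 31671 15 cx4 cx4) 31671 = true :=
  allBelow_append (m := 25000) (len := 6671) rfl (pair_cx4_a0) pair_cx4_p1

theorem pair_cx5_a0 : allBelow (pairPt 31671 15 cx5 cx5) 25000 = true :=
  allBelow_append (m := 0) (len := 25000) rfl (allBelow_nil _) pair_cx5_p0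

theorem pair_cx5_pts : allBelow (pairPt 31671 15 cx5 cx5) 31671 = true :=
  allBelow_append (m := 25000) (len := 6671) rfl (pair_cx5_a0) pair_cx5_p1

theorem pair_cx6_a0 : allBelow (pairPt 31671 15 cx6 cx6) 25000 = true :=
  allBelow_append (m := 0) (len := 25000) rfl (allBelow_nil _) pair_cx6_p0

theorem pair_cx6_pts : allBelow (pairPt 31671 15 cx6 cx6) 31671 = true :=
  allBelow_append (m := 25000) (len := 6671) rfl (pair_cx6_a0) pair_cx6_p1

theorem pair_cx7_a0 : allBelow (pairPt 31671 15 cx7 cx7) 25000 = true :=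
  allBelow_append (m := 0) (len := 25000) rfl (allBelow_nil _) pair_cx7_p0

theorem pair_cx7_pts : allBelow (pairPt 31671 15 cx7 cx7) 31671 = true :=
  allBelow_append (m := 25000) (len := 6671) rfl (pair_cx7_a0) pair_cx7_p1

theorem pair_cx8_a0 : allBelow (pairPt 31671 15 cx8 cx8) 25000 = true :=
  allBelow_append (m := 0) (len := 25000) rfl (allBelow_nil _) pair_cx8_p0

theorem pair_cx8_pts : allBelow (pairPt 31671 15 cx8 cx8) 31671 = true :=
  allBelow_append (m := 25000) (len := 6671) rfl (pair_cx8_a0) pair_cx8_p1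

theorem pair_cx9_a0 : allBelow (pairPt 31671 15 cx9 cx9) 25000 = true :=
  allBelow_append (m := 0) (len := 25000) rfl (allBelow_nil _) pair_cx9_p0

theorem pair_cx9_pts : allBelow (pairPt 31671 15 cx9 cx9) 31671 = true :=
  allBelow_append (m := 25000) (len := 6671) rfl (pair_cx9_a0) pair_cx9_p1

theorem pair_sg0_a0 : allBelow (pairPt 31671 15 sg0 sgi0) 12500 = true :=
  allBelow_append (m := 0) (len := 12500) rfl (allBelow_nil _) pair_sg0_p0

theorem pair_sg0_a1 : allBelow (pairPt 31671 15 sg0 sgi0) 25000 = true :=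
  allBelow_append (m := 12500) (len := 12500) rfl (pair_sg0_a0) pair_sg0_p1

theorem pair_sg0_pts : allBelow (pairPt 31671 15 sg0 sgi0) 31671 = true :=
  allBelow_append (m := 25000) (len := 6671) rfl (pair_sg0_a1) pair_sg0_p2

theorem pair_sg1_a0 : allBelow (pairPt 31671 15 sg1 sgi1) 12500 = true :=
  allBelow_append (m := 0) (len := 12500) rfl (allBelow_nil _) pair_sg1_p0

theorem pair_sg1_a1 : allBelow (pairPt 31671 15 sg1 sgi1) 25000 = true :=
  allBelow_append (m := 12500) (len := 12500) rfl (pair_sg1_a0) pair_sg1_p1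

theorem pair_sg1_pts : allBelow (pairPt 31671 15 sg1 sgi1) 31671 = true :=
  allBelow_append (m := 25000) (len := 6671) rfl (pair_sg1_a1) pair_sg1_p2

theorem pair_sg2_a0 : allBelow (pairPt 31671 15 sg2 sgi2) 12500 = true :=
  allBelow_append (m := 0) (len := 12500) rfl (allBelow_nil _) pair_sg2_p0

theorem pair_sg2_a1 : allBelow (pairPt 31671 15 sg2 sgi2) 25000 = true :=
  allBelow_append (m := 12500) (len := 12500) rfl (pair_sg2_a0) pair_sg2_p1

theorem pair_sg2_pts : allBelow (pairPt 31671 15 sg2 sgi2) 31671 = true :=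
  allBelow_append (m := 25000) (len := 6671) rfl (pair_sg2_a1) pair_sg2_p2

theorem pair_sg3_a0 : allBelow (pairPt 31671 15 sg3 sgi3) 12500 = true :=
  allBelow_append (m := 0) (len := 12500) rfl (allBelow_nil _) pair_sg3_p0

theorem pair_sg3_a1 : allBelow (pairPt 31671 15 sg3 sgi3) 25000 = true :=
  allBelow_append (m := 12500) (len := 12500) rfl (pair_sg3_a0) pair_sg3_p1

theorem pair_sg3_pts : allBelow (pairPt 31671 15 sg3 sgi3) 31671 = true :=
  allBelow_append (m := 25000) (len := 6671) rfl (pair_sg3_a1) pair_sg3_p2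

theorem pair_sg4_a0 : allBelow (pairPt 31671 15 sg4 sgi4) 12500 = true :=
  allBelow_append (m := 0) (len := 12500) rfl (allBelow_nil _) pair_sg4_p0

theorem pair_sg4_a1 : allBelow (pairPt 31671 15 sg4 sgi4) 25000 = true :=
  allBelow_append (m := 12500) (len := 12500) rfl (pair_sg4_a0) pair_sg4_p1

theorem pair_sg4_pts : allBelow (pairPt 31671 15 sg4 sgi4) 31671 = true :=
  allBelow_append (m := 25000) (len := 6671) rfl (pair_sg4_a1) pair_sg4_p2

theorem pair_sg5_a0 : allBelow (pairPt 31671 15 sg5 sgi5) 12500 = true :=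
  allBelow_append (m := 0) (len := 12500) rfl (allBelow_nil _) pair_sg5_p0

theorem pair_sg5_a1 : allBelow (pairPt 31671 15 sg5 sgi5) 25000 = true :=
  allBelow_append (m := 12500) (len := 12500) rfl (pair_sg5_a0) pair_sg5_p1

theorem pair_sg5_pts : allBelow (pairPt 31671 15 sg5 sgi5) 31671 = true :=
  allBelow_append (m := 25000) (len := 6671) rfl (pair_sg5_a1) pair_sg5_p2

theorem pair_sg6_a0 : allBelow (pairPt 31671 15 sg6 sgi6) 12500 = true :=
  allBelow_append (m := 0) (len := 12500) rfl (allBelow_nil _) pair_sg6_p0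

theorem pair_sg6_a1 : allBelow (pairPt 31671 15 sg6 sgi6) 25000 = true :=
  allBelow_append (m := 12500) (len := 12500) rfl (pair_sg6_a0) pair_sg6_p1

theorem pair_sg6_pts : allBelow (pairPt 31671 15 sg6 sgi6) 31671 = true :=
  allBelow_append (m := 25000) (len := 6671) rfl (pair_sg6_a1) pair_sg6_p2

theorem pair_sg7_a0 : allBelow (pairPt 31671 15 sg7 sgi7) 12500 = true :=
  allBelow_append (m := 0) (len := 12500) rfl (allBelow_nil _) pair_sg7_p0

theorem pair_sg7_a1 : allBelow (pairPt 31671 15 sg7 sgi7) 25000 = true :=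
  allBelow_append (m := 12500) (len := 12500) rfl (pair_sg7_a0) pair_sg7_p1

theorem pair_sg7_pts : allBelow (pairPt 31671 15 sg7 sgi7) 31671 = true :=
  allBelow_append (m := 25000) (len := 6671) rfl (pair_sg7_a1) pair_sg7_p2

theorem pair_sg8_a0 : allBelow (pairPt 31671 15 sg8 sgi8) 12500 = true :=
  allBelow_append (m := 0) (len := 12500) rfl (allBelow_nil _) pair_sg8_p0

theorem pair_sg8_a1 : allBelow (pairPt 31671 15 sg8 sgi8) 25000 = true :=
  allBelow_append (m := 12500) (len := 12500) rfl (pair_sg8_a0) pair_sg8_p1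

theorem pair_sg8_pts : allBelow (pairPt 31671 15 sg8 sgi8) 31671 = true :=
  allBelow_append (m := 25000) (len := 6671) rfl (pair_sg8_a1) pair_sg8_p2

theorem pair_A_a0 : allBelow (pairPt 31671 15 tA tAi) 12500 = true :=
  allBelow_append (m := 0) (len := 12500) rfl (allBelow_nil _) pair_A_p0

theorem pair_A_a1 : allBelow (pairPt 31671 15 tA tAi) 25000 = true :=
  allBelow_append (m := 12500) (len := 12500) rfl (pair_A_a0) pair_A_p1

theorem pair_A_pts : allBelow (pairPt 31671 15 tA tAi) 31671 = true :=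
  allBelow_append (m := 25000) (len := 6671) rfl (pair_A_a1) pair_A_p2

theorem pair_D_a0 : allBelow (pairPt 31671 15 tD tDi) 12500 = true :=
  allBelow_append (m := 0) (len := 12500) rfl (allBelow_nil _) pair_D_p0

theorem pair_D_a1 : allBelow (pairPt 31671 15 tD tDi) 25000 = true :=
  allBelow_append (m := 12500) (len := 12500) rfl (pair_D_a0) pair_D_p1

theorem pair_D_pts : allBelow (pairPt 31671 15 tD tDi) 31671 = true :=
  allBelow_append (m := 25000) (len := 6671) rfl (pair_D_a1) pair_D_p2

theorem pair_S_a0 : allBelow (pairPt 31671 15 tS tS) 25000 = true :=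
  allBelow_append (m := 0) (len := 25000) rfl (allBelow_nil _) pair_S_p0

theorem pair_S_pts : allBelow (pairPt 31671 15 tS tS) 31671 = true :=
  allBelow_append (m := 25000) (len := 6671) rfl (pair_S_a0) pair_S_p1

theorem pth_fwd0_a0 : allBelow (pathPt 15 (coxL ++ strongL.take 0) sg0 pth0) 1612 = true :=
  allBelow_append (m := 0) (len := 1612) rfl (allBelow_nil _) pth_fwd0_p0

theorem pth_fwd0_a1 : allBelow (pathPt 15 (coxL ++ strongL.take 0) sg0 pth0) 3224 = true :=
  allBelow_append (m := 1612) (len := 1612) rfl (pth_fwd0_a0) pth_fwd0_p1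

theorem pth_fwd0_a2 : allBelow (pathPt 15 (coxL ++ strongL.take 0) sg0 pth0) 4836 = true :=
  allBelow_append (m := 3224) (len := 1612) rfl (pth_fwd0_a1) pth_fwd0_p2

theorem pth_fwd0_a3 : allBelow (pathPt 15 (coxL ++ strongL.take 0) sg0 pth0) 6448 = true :=
  allBelow_append (m := 4836) (len := 1612) rfl (pth_fwd0_a2) pth_fwd0_p3

theorem pth_fwd0_a4 : allBelow (pathPt 15 (coxL ++ strongL.take 0) sg0 pth0) 8060 = true :=
  allBelow_append (m := 6448) (len := 1612) rfl (pth_fwd0_a3) pth_fwd0_p4

theorem pth_fwd0_a5 : allBelow (pathPt 15 (coxL ++ strongL.take 0) sg0 pth0) 9672 = true :=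
  allBelow_append (m := 8060) (len := 1612) rfl (pth_fwd0_a4) pth_fwd0_p5

theorem pth_fwd0_a6 : allBelow (pathPt 15 (coxL ++ strongL.take 0) sg0 pth0) 11284 = true :=
  allBelow_append (m := 9672) (len := 1612) rfl (pth_fwd0_a5) pth_fwd0_p6

theorem pth_fwd0_a7 : allBelow (pathPt 15 (coxL ++ strongL.take 0) sg0 pth0) 12896 = true :=
  allBelow_append (m := 11284) (len := 1612) rfl (pth_fwd0_a6) pth_fwd0_p7

theorem pth_fwd0_a8 : allBelow (pathPt 15 (coxL ++ strongL.take 0) sg0 pth0) 14508 = true :=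
  allBelow_append (m := 12896) (len := 1612) rfl (pth_fwd0_a7) pth_fwd0_p8

theorem pth_fwd0_a9 : allBelow (pathPt 15 (coxL ++ strongL.take 0) sg0 pth0) 16120 = true :=
  allBelow_append (m := 14508) (len := 1612) rfl (pth_fwd0_a8) pth_fwd0_p9

theorem pth_fwd0_a10 : allBelow (pathPt 15 (coxL ++ strongL.take 0) sg0 pth0) 17732 = true :=
  allBelow_append (m := 16120) (len := 1612) rfl (pth_fwd0_a9) pth_fwd0_p10

theorem pth_fwd0_a11 : allBelow (pathPt 15 (coxL ++ strongL.take 0) sg0 pth0) 19344 = true :=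
  allBelow_append (m := 17732) (len := 1612) rfl (pth_fwd0_a10) pth_fwd0_p11

theorem pth_fwd0_a12 : allBelow (pathPt 15 (coxL ++ strongL.take 0) sg0 pth0) 20956 = true :=
  allBelow_append (m := 19344) (len := 1612) rfl (pth_fwd0_a11) pth_fwd0_p12

theorem pth_fwd0_a13 : allBelow (pathPt 15 (coxL ++ strongL.take 0) sg0 pth0) 22568 = true :=
  allBelow_append (m := 20956) (len := 1612) rfl (pth_fwd0_a12) pth_fwd0_p13

theorem pth_fwd0_a14 : allBelow (pathPt 15 (coxL ++ strongL.take 0) sg0 pth0) 24180 = true :=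
  allBelow_append (m := 22568) (len := 1612) rfl (pth_fwd0_a13) pth_fwd0_p14

theorem pth_fwd0_a15 : allBelow (pathPt 15 (coxL ++ strongL.take 0) sg0 pth0) 25792 = true :=
  allBelow_append (m := 24180) (len := 1612) rfl (pth_fwd0_a14) pth_fwd0_p15

theorem pth_fwd0_a16 : allBelow (pathPt 15 (coxL ++ strongL.take 0) sg0 pth0) 27404 = true :=
  allBelow_append (m := 25792) (len := 1612) rfl (pth_fwd0_a15) pth_fwd0_p16

theorem pth_fwd0_a17 : allBelow (pathPt 15 (coxL ++ strongL.take 0) sg0 pth0) 29016 = true :=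
  allBelow_append (m := 27404) (len := 1612) rfl (pth_fwd0_a16) pth_fwd0_p17

theorem pth_fwd0_a18 : allBelow (pathPt 15 (coxL ++ strongL.take 0) sg0 pth0) 30628 = true :=
  allBelow_append (m := 29016) (len := 1612) rfl (pth_fwd0_a17) pth_fwd0_p18

theorem pth_fwd0_pts : allBelow (pathPt 15 (coxL ++ strongL.take 0) sg0 pth0) 31671 = true :=
  allBelow_append (m := 30628) (len := 1043) rfl (pth_fwd0_a18) pth_fwd0_p19

theorem pth_fwd1_a0 : allBelow (pathPt 15 (coxL ++ strongL.take 1) sg1 pth1) 2000 = true :=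
  allBelow_append (m := 0) (len := 2000) rfl (allBelow_nil _) pth_fwd1_p0

theorem pth_fwd1_a1 : allBelow (pathPt 15 (coxL ++ strongL.take 1) sg1 pth1) 4000 = true :=
  allBelow_append (m := 2000) (len := 2000) rfl (pth_fwd1_a0) pth_fwd1_p1

theorem pth_fwd1_a2 : allBelow (pathPt 15 (coxL ++ strongL.take 1) sg1 pth1) 6000 = true :=
  allBelow_append (m := 4000) (len := 2000) rfl (pth_fwd1_a1) pth_fwd1_p2

theorem pth_fwd1_a3 : allBelow (pathPt 15 (coxL ++ strongL.take 1) sg1 pth1) 8000 = true :=
  allBelow_append (m := 6000) (len := 2000) rfl (pth_fwd1_a2) pth_fwd1_p3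

theorem pth_fwd1_a4 : allBelow (pathPt 15 (coxL ++ strongL.take 1) sg1 pth1) 10000 = true :=
  allBelow_append (m := 8000) (len := 2000) rfl (pth_fwd1_a3) pth_fwd1_p4

theorem pth_fwd1_a5 : allBelow (pathPt 15 (coxL ++ strongL.take 1) sg1 pth1) 12000 = true :=
  allBelow_append (m := 10000) (len := 2000) rfl (pth_fwd1_a4) pth_fwd1_p5

theorem pth_fwd1_a6 : allBelow (pathPt 15 (coxL ++ strongL.take 1) sg1 pth1) 14000 = true :=
  allBelow_append (m := 12000) (len := 2000) rfl (pth_fwd1_a5) pth_fwd1_p6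

theorem pth_fwd1_a7 : allBelow (pathPt 15 (coxL ++ strongL.take 1) sg1 pth1) 16000 = true :=
  allBelow_append (m := 14000) (len := 2000) rfl (pth_fwd1_a6) pth_fwd1_p7

theorem pth_fwd1_a8 : allBelow (pathPt 15 (coxL ++ strongL.take 1) sg1 pth1) 18000 = true :=
  allBelow_append (m := 16000) (len := 2000) rfl (pth_fwd1_a7) pth_fwd1_p8

theorem pth_fwd1_a9 : allBelow (pathPt 15 (coxL ++ strongL.take 1) sg1 pth1) 20000 = true :=
  allBelow_append (m := 18000) (len := 2000) rfl (pth_fwd1_a8) pth_fwd1_p9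

theorem pth_fwd1_a10 : allBelow (pathPt 15 (coxL ++ strongL.take 1) sg1 pth1) 22000 = true :=
  allBelow_append (m := 20000) (len := 2000) rfl (pth_fwd1_a9) pth_fwd1_p10

theorem pth_fwd1_a11 : allBelow (pathPt 15 (coxL ++ strongL.take 1) sg1 pth1) 24000 = true :=
  allBelow_append (m := 22000) (len := 2000) rfl (pth_fwd1_a10) pth_fwd1_p11

theorem pth_fwd1_a12 : allBelow (pathPt 15 (coxL ++ strongL.take 1) sg1 pth1) 26000 = true :=
  allBelow_append (m := 24000) (len := 2000) rfl (pth_fwd1_a11) pth_fwd1_p12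

theorem pth_fwd1_a13 : allBelow (pathPt 15 (coxL ++ strongL.take 1) sg1 pth1) 28000 = true :=
  allBelow_append (m := 26000) (len := 2000) rfl (pth_fwd1_a12) pth_fwd1_p13

theorem pth_fwd1_a14 : allBelow (pathPt 15 (coxL ++ strongL.take 1) sg1 pth1) 30000 = true :=
  allBelow_append (m := 28000) (len := 2000) rfl (pth_fwd1_a13) pth_fwd1_p14

theorem pth_fwd1_pts : allBelow (pathPt 15 (coxL ++ strongL.take 1) sg1 pth1) 31671 = true :=
  allBelow_append (m := 30000) (len := 1671) rfl (pth_fwd1_a14) pth_fwd1_p15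

theorem pth_fwd2_a0 : allBelow (pathPt 15 (coxL ++ strongL.take 2) sg2 pth2) 1086 = true :=
  allBelow_append (m := 0) (len := 1086) rfl (allBelow_nil _) pth_fwd2_p0

theorem pth_fwd2_a1 : allBelow (pathPt 15 (coxL ++ strongL.take 2) sg2 pth2) 2172 = true :=
  allBelow_append (m := 1086) (len := 1086) rfl (pth_fwd2_a0) pth_fwd2_p1

theorem pth_fwd2_a2 : allBelow (pathPt 15 (coxL ++ strongL.take 2) sg2 pth2) 3258 = true :=
  allBelow_append (m := 2172) (len := 1086) rfl (pth_fwd2_a1) pth_fwd2_p2

theorem pth_fwd2_a3 : allBelow (pathPt 15 (coxL ++ strongL.take 2) sg2 pth2) 4344 = true :=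
  allBelow_append (m := 3258) (len := 1086) rfl (pth_fwd2_a2) pth_fwd2_p3

theorem pth_fwd2_a4 : allBelow (pathPt 15 (coxL ++ strongL.take 2) sg2 pth2) 5430 = true :=
  allBelow_append (m := 4344) (len := 1086) rfl (pth_fwd2_a3) pth_fwd2_p4

theorem pth_fwd2_a5 : allBelow (pathPt 15 (coxL ++ strongL.take 2) sg2 pth2) 6516 = true :=
  allBelow_append (m := 5430) (len := 1086) rfl (pth_fwd2_a4) pth_fwd2_p5

theorem pth_fwd2_a6 : allBelow (pathPt 15 (coxL ++ strongL.take 2) sg2 pth2) 7602 = true :=
  allBelow_append (m := 6516) (len := 1086) rfl (pth_fwd2_a5) pth_fwd2_p6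

theorem pth_fwd2_a7 : allBelow (pathPt 15 (coxL ++ strongL.take 2) sg2 pth2) 8688 = true :=
  allBelow_append (m := 7602) (len := 1086) rfl (pth_fwd2_a6) pth_fwd2_p7

theorem pth_fwd2_a8 : allBelow (pathPt 15 (coxL ++ strongL.take 2) sg2 pth2) 9774 = true :=
  allBelow_append (m := 8688) (len := 1086) rfl (pth_fwd2_a7) pth_fwd2_p8

theorem pth_fwd2_a9 : allBelow (pathPt 15 (coxL ++ strongL.take 2) sg2 pth2) 10860 = true :=
  allBelow_append (m := 9774) (len := 1086) rfl (pth_fwd2_a8) pth_fwd2_p9

theorem pth_fwd2_a10 : allBelow (pathPt 15 (coxL ++ strongL.take 2) sg2 pth2) 11946 = true :=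
  allBelow_append (m := 10860) (len := 1086) rfl (pth_fwd2_a9) pth_fwd2_p10

theorem pth_fwd2_a11 : allBelow (pathPt 15 (coxL ++ strongL.take 2) sg2 pth2) 13032 = true :=
  allBelow_append (m := 11946) (len := 1086) rfl (pth_fwd2_a10) pth_fwd2_p11

theorem pth_fwd2_a12 : allBelow (pathPt 15 (coxL ++ strongL.take 2) sg2 pth2) 14118 = true :=
  allBelow_append (m := 13032) (len := 1086) rfl (pth_fwd2_a11) pth_fwd2_p12

theorem pth_fwd2_a13 : allBelow (pathPt 15 (coxL ++ strongL.take 2) sg2 pth2) 15204 = true :=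
  allBelow_append (m := 14118) (len := 1086) rfl (pth_fwd2_a12) pth_fwd2_p13

theorem pth_fwd2_a14 : allBelow (pathPt 15 (coxL ++ strongL.take 2) sg2 pth2) 16290 = true :=
  allBelow_append (m := 15204) (len := 1086) rfl (pth_fwd2_a13) pth_fwd2_p14

theorem pth_fwd2_a15 : allBelow (pathPt 15 (coxL ++ strongL.take 2) sg2 pth2) 17376 = true :=
  allBelow_append (m := 16290) (len := 1086) rfl (pth_fwd2_a14) pth_fwd2_p15

theorem pth_fwd2_a16 : allBelow (pathPt 15 (coxL ++ strongL.take 2) sg2 pth2) 18462 = true :=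
  allBelow_append (m := 17376) (len := 1086) rfl (pth_fwd2_a15) pth_fwd2_p16

theorem pth_fwd2_a17 : allBelow (pathPt 15 (coxL ++ strongL.take 2) sg2 pth2) 19548 = true :=
  allBelow_append (m := 18462) (len := 1086) rfl (pth_fwd2_a16) pth_fwd2_p17

theorem pth_fwd2_a18 : allBelow (pathPt 15 (coxL ++ strongL.take 2) sg2 pth2) 20634 = true :=
  allBelow_append (m := 19548) (len := 1086) rfl (pth_fwd2_a17) pth_fwd2_p18

theorem pth_fwd2_a19 : allBelow (pathPt 15 (coxL ++ strongL.take 2) sg2 pth2) 21720 = true :=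
  allBelow_append (m := 20634) (len := 1086) rfl (pth_fwd2_a18) pth_fwd2_p19

theorem pth_fwd2_a20 : allBelow (pathPt 15 (coxL ++ strongL.take 2) sg2 pth2) 22806 = true :=
  allBelow_append (m := 21720) (len := 1086) rfl (pth_fwd2_a19) pth_fwd2_p20

theorem pth_fwd2_a21 : allBelow (pathPt 15 (coxL ++ strongL.take 2) sg2 pth2) 23892 = true :=
  allBelow_append (m := 22806) (len := 1086) rfl (pth_fwd2_a20) pth_fwd2_p21

theorem pth_fwd2_a22 : allBelow (pathPt 15 (coxL ++ strongL.take 2) sg2 pth2) 24978 = true :=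
  allBelow_append (m := 23892) (len := 1086) rfl (pth_fwd2_a21) pth_fwd2_p22

theorem pth_fwd2_a23 : allBelow (pathPt 15 (coxL ++ strongL.take 2) sg2 pth2) 26064 = true :=
  allBelow_append (m := 24978) (len := 1086) rfl (pth_fwd2_a22) pth_fwd2_p23

theorem pth_fwd2_a24 : allBelow (pathPt 15 (coxL ++ strongL.take 2) sg2 pth2) 27150 = true :=
  allBelow_append (m := 26064) (len := 1086) rfl (pth_fwd2_a23) pth_fwd2_p24

theorem pth_fwd2_a25 : allBelow (pathPt 15 (coxL ++ strongL.take 2) sg2 pth2) 28236 = true :=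
  allBelow_append (m := 27150) (len := 1086) rfl (pth_fwd2_a24) pth_fwd2_p25

theorem pth_fwd2_a26 : allBelow (pathPt 15 (coxL ++ strongL.take 2) sg2 pth2) 29322 = true :=
  allBelow_append (m := 28236) (len := 1086) rfl (pth_fwd2_a25) pth_fwd2_p26

theorem pth_fwd2_a27 : allBelow (pathPt 15 (coxL ++ strongL.take 2) sg2 pth2) 30408 = true :=
  allBelow_append (m := 29322) (len := 1086) rfl (pth_fwd2_a26) pth_fwd2_p27

theorem pth_fwd2_a28 : allBelow (pathPt 15 (coxL ++ strongL.take 2) sg2 pth2) 31494 = true :=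
  allBelow_append (m := 30408) (len := 1086) rfl (pth_fwd2_a27) pth_fwd2_p28

theorem pth_fwd2_pts : allBelow (pathPt 15 (coxL ++ strongL.take 2) sg2 pth2) 31671 = true :=
  allBelow_append (m := 31494) (len := 177) rfl (pth_fwd2_a28) pth_fwd2_p29

theorem pth_fwd3_a0 : allBelow (pathPt 15 (coxL ++ strongL.take 3) sg3 pth3) 1282 = true :=
  allBelow_append (m := 0) (len := 1282) rfl (allBelow_nil _) pth_fwd3_p0

theorem pth_fwd3_a1 : allBelow (pathPt 15 (coxL ++ strongL.take 3) sg3 pth3) 2564 = true :=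
  allBelow_append (m := 1282) (len := 1282) rfl (pth_fwd3_a0) pth_fwd3_p1

theorem pth_fwd3_a2 : allBelow (pathPt 15 (coxL ++ strongL.take 3) sg3 pth3) 3846 = true :=
  allBelow_append (m := 2564) (len := 1282) rfl (pth_fwd3_a1) pth_fwd3_p2

theorem pth_fwd3_a3 : allBelow (pathPt 15 (coxL ++ strongL.take 3) sg3 pth3) 5128 = true :=
  allBelow_append (m := 3846) (len := 1282) rfl (pth_fwd3_a2) pth_fwd3_p3

theorem pth_fwd3_a4 : allBelow (pathPt 15 (coxL ++ strongL.take 3) sg3 pth3) 6410 = true :=
  allBelow_append (m := 5128) (len := 1282) rfl (pth_fwd3_a3) pth_fwd3_p4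

theorem pth_fwd3_a5 : allBelow (pathPt 15 (coxL ++ strongL.take 3) sg3 pth3) 7692 = true :=
  allBelow_append (m := 6410) (len := 1282) rfl (pth_fwd3_a4) pth_fwd3_p5

theorem pth_fwd3_a6 : allBelow (pathPt 15 (coxL ++ strongL.take 3) sg3 pth3) 8974 = true :=
  allBelow_append (m := 7692) (len := 1282) rfl (pth_fwd3_a5) pth_fwd3_p6

theorem pth_fwd3_a7 : allBelow (pathPt 15 (coxL ++ strongL.take 3) sg3 pth3) 10256 = true :=
  allBelow_append (m := 8974) (len := 1282) rfl (pth_fwd3_a6) pth_fwd3_p7

theorem pth_fwd3_a8 : allBelow (pathPt 15 (coxL ++ strongL.take 3) sg3 pth3) 11538 = true :=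
  allBelow_append (m := 10256) (len := 1282) rfl (pth_fwd3_a7) pth_fwd3_p8

theorem pth_fwd3_a9 : allBelow (pathPt 15 (coxL ++ strongL.take 3) sg3 pth3) 12820 = true :=
  allBelow_append (m := 11538) (len := 1282) rfl (pth_fwd3_a8) pth_fwd3_p9

theorem pth_fwd3_a10 : allBelow (pathPt 15 (coxL ++ strongL.take 3) sg3 pth3) 14102 = true :=
  allBelow_append (m := 12820) (len := 1282) rfl (pth_fwd3_a9) pth_fwd3_p10

theorem pth_fwd3_a11 : allBelow (pathPt 15 (coxL ++ strongL.take 3) sg3 pth3) 15384 = true :=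
  allBelow_append (m := 14102) (len := 1282) rfl (pth_fwd3_a10) pth_fwd3_p11

theorem pth_fwd3_a12 : allBelow (pathPt 15 (coxL ++ strongL.take 3) sg3 pth3) 16666 = true :=
  allBelow_append (m := 15384) (len := 1282) rfl (pth_fwd3_a11) pth_fwd3_p12

theorem pth_fwd3_a13 : allBelow (pathPt 15 (coxL ++ strongL.take 3) sg3 pth3) 17948 = true :=
  allBelow_append (m := 16666) (len := 1282) rfl (pth_fwd3_a12) pth_fwd3_p13

theorem pth_fwd3_a14 : allBelow (pathPt 15 (coxL ++ strongL.take 3) sg3 pth3) 19230 = true :=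
  allBelow_append (m := 17948) (len := 1282) rfl (pth_fwd3_a13) pth_fwd3_p14

theorem pth_fwd3_a15 : allBelow (pathPt 15 (coxL ++ strongL.take 3) sg3 pth3) 20512 = true :=
  allBelow_append (m := 19230) (len := 1282) rfl (pth_fwd3_a14) pth_fwd3_p15

theorem pth_fwd3_a16 : allBelow (pathPt 15 (coxL ++ strongL.take 3) sg3 pth3) 21794 = true :=
  allBelow_append (m := 20512) (len := 1282) rfl (pth_fwd3_a15) pth_fwd3_p16

theorem pth_fwd3_a17 : allBelow (pathPt 15 (coxL ++ strongL.take 3) sg3 pth3) 23076 = true :=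
  allBelow_append (m := 21794) (len := 1282) rfl (pth_fwd3_a16) pth_fwd3_p17

theorem pth_fwd3_a18 : allBelow (pathPt 15 (coxL ++ strongL.take 3) sg3 pth3) 24358 = true :=
  allBelow_append (m := 23076) (len := 1282) rfl (pth_fwd3_a17) pth_fwd3_p18

theorem pth_fwd3_a19 : allBelow (pathPt 15 (coxL ++ strongL.take 3) sg3 pth3) 25640 = true :=
  allBelow_append (m := 24358) (len := 1282) rfl (pth_fwd3_a18) pth_fwd3_p19

theorem pth_fwd3_a20 : allBelow (pathPt 15 (coxL ++ strongL.take 3) sg3 pth3) 26922 = true :=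
  allBelow_append (m := 25640) (len := 1282) rfl (pth_fwd3_a19) pth_fwd3_p20

theorem pth_fwd3_a21 : allBelow (pathPt 15 (coxL ++ strongL.take 3) sg3 pth3) 28204 = true :=
  allBelow_append (m := 26922) (len := 1282) rfl (pth_fwd3_a20) pth_fwd3_p21

theorem pth_fwd3_a22 : allBelow (pathPt 15 (coxL ++ strongL.take 3) sg3 pth3) 29486 = true :=
  allBelow_append (m := 28204) (len := 1282) rfl (pth_fwd3_a21) pth_fwd3_p22

theorem pth_fwd3_a23 : allBelow (pathPt 15 (coxL ++ strongL.take 3) sg3 pth3) 30768 = true :=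
  allBelow_append (m := 29486) (len := 1282) rfl (pth_fwd3_a22) pth_fwd3_p23

theorem pth_fwd3_pts : allBelow (pathPt 15 (coxL ++ strongL.take 3) sg3 pth3) 31671 = true :=
  allBelow_append (m := 30768) (len := 903) rfl (pth_fwd3_a23) pth_fwd3_p24

theorem pth_fwd4_a0 : allBelow (pathPt 15 (coxL ++ strongL.take 4) sg4 pth4) 1162 = true :=
  allBelow_append (m := 0) (len := 1162) rfl (allBelow_nil _) pth_fwd4_p0

theorem pth_fwd4_a1 : allBelow (pathPt 15 (coxL ++ strongL.take 4) sg4 pth4) 2324 = true :=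
  allBelow_append (m := 1162) (len := 1162) rfl (pth_fwd4_a0) pth_fwd4_p1

theorem pth_fwd4_a2 : allBelow (pathPt 15 (coxL ++ strongL.take 4) sg4 pth4) 3486 = true :=
  allBelow_append (m := 2324) (len := 1162) rfl (pth_fwd4_a1) pth_fwd4_p2

theorem pth_fwd4_a3 : allBelow (pathPt 15 (coxL ++ strongL.take 4) sg4 pth4) 4648 = true :=
  allBelow_append (m := 3486) (len := 1162) rfl (pth_fwd4_a2) pth_fwd4_p3

theorem pth_fwd4_a4 : allBelow (pathPt 15 (coxL ++ strongL.take 4) sg4 pth4) 5810 = true :=
  allBelow_append (m := 4648) (len := 1162) rfl (pth_fwd4_a3) pth_fwd4_p4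

theorem pth_fwd4_a5 : allBelow (pathPt 15 (coxL ++ strongL.take 4) sg4 pth4) 6972 = true :=
  allBelow_append (m := 5810) (len := 1162) rfl (pth_fwd4_a4) pth_fwd4_p5

theorem pth_fwd4_a6 : allBelow (pathPt 15 (coxL ++ strongL.take 4) sg4 pth4) 8134 = true :=
  allBelow_append (m := 6972) (len := 1162) rfl (pth_fwd4_a5) pth_fwd4_p6

theorem pth_fwd4_a7 : allBelow (pathPt 15 (coxL ++ strongL.take 4) sg4 pth4) 9296 = true :=
  allBelow_append (m := 8134) (len := 1162) rfl (pth_fwd4_a6) pth_fwd4_p7

theorem pth_fwd4_a8 : allBelow (pathPt 15 (coxL ++ strongL.take 4) sg4 pth4) 10458 = true :=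
  allBelow_append (m := 9296) (len := 1162) rfl (pth_fwd4_a7) pth_fwd4_p8

theorem pth_fwd4_a9 : allBelow (pathPt 15 (coxL ++ strongL.take 4) sg4 pth4) 11620 = true :=
  allBelow_append (m := 10458) (len := 1162) rfl (pth_fwd4_a8) pth_fwd4_p9

theorem pth_fwd4_a10 : allBelow (pathPt 15 (coxL ++ strongL.take 4) sg4 pth4) 12782 = true :=
  allBelow_append (m := 11620) (len := 1162) rfl (pth_fwd4_a9) pth_fwd4_p10

theorem pth_fwd4_a11 : allBelow (pathPt 15 (coxL ++ strongL.take 4) sg4 pth4) 13944 = true :=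
  allBelow_append (m := 12782) (len := 1162) rfl (pth_fwd4_a10) pth_fwd4_p11

theorem pth_fwd4_a12 : allBelow (pathPt 15 (coxL ++ strongL.take 4) sg4 pth4) 15106 = true :=
  allBelow_append (m := 13944) (len := 1162) rfl (pth_fwd4_a11) pth_fwd4_p12

theorem pth_fwd4_a13 : allBelow (pathPt 15 (coxL ++ strongL.take 4) sg4 pth4) 16268 = true :=
  allBelow_append (m := 15106) (len := 1162) rfl (pth_fwd4_a12) pth_fwd4_p13

theorem pth_fwd4_a14 : allBelow (pathPt 15 (coxL ++ strongL.take 4) sg4 pth4) 17430 = true :=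
  allBelow_append (m := 16268) (len := 1162) rfl (pth_fwd4_a13) pth_fwd4_p14

theorem pth_fwd4_a15 : allBelow (pathPt 15 (coxL ++ strongL.take 4) sg4 pth4) 18592 = true :=
  allBelow_append (m := 17430) (len := 1162) rfl (pth_fwd4_a14) pth_fwd4_p15

theorem pth_fwd4_a16 : allBelow (pathPt 15 (coxL ++ strongL.take 4) sg4 pth4) 19754 = true :=
  allBelow_append (m := 18592) (len := 1162) rfl (pth_fwd4_a15) pth_fwd4_p16

theorem pth_fwd4_a17 : allBelow (pathPt 15 (coxL ++ strongL.take 4) sg4 pth4) 20916 = true :=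
  allBelow_append (m := 19754) (len := 1162) rfl (pth_fwd4_a16) pth_fwd4_p17

theorem pth_fwd4_a18 : allBelow (pathPt 15 (coxL ++ strongL.take 4) sg4 pth4) 22078 = true :=
  allBelow_append (m := 20916) (len := 1162) rfl (pth_fwd4_a17) pth_fwd4_p18

theorem pth_fwd4_a19 : allBelow (pathPt 15 (coxL ++ strongL.take 4) sg4 pth4) 23240 = true :=
  allBelow_append (m := 22078) (len := 1162) rfl (pth_fwd4_a18) pth_fwd4_p19

theorem pth_fwd4_a20 : allBelow (pathPt 15 (coxL ++ strongL.take 4) sg4 pth4) 24402 = true :=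
  allBelow_append (m := 23240) (len := 1162) rfl (pth_fwd4_a19) pth_fwd4_p20

theorem pth_fwd4_a21 : allBelow (pathPt 15 (coxL ++ strongL.take 4) sg4 pth4) 25564 = true :=
  allBelow_append (m := 24402) (len := 1162) rfl (pth_fwd4_a20) pth_fwd4_p21

theorem pth_fwd4_a22 : allBelow (pathPt 15 (coxL ++ strongL.take 4) sg4 pth4) 26726 = true :=
  allBelow_append (m := 25564) (len := 1162) rfl (pth_fwd4_a21) pth_fwd4_p22

theorem pth_fwd4_a23 : allBelow (pathPt 15 (coxL ++ strongL.take 4) sg4 pth4) 27888 = true :=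
  allBelow_append (m := 26726) (len := 1162) rfl (pth_fwd4_a22) pth_fwd4_p23

theorem pth_fwd4_a24 : allBelow (pathPt 15 (coxL ++ strongL.take 4) sg4 pth4) 29050 = true :=
  allBelow_append (m := 27888) (len := 1162) rfl (pth_fwd4_a23) pth_fwd4_p24

theorem pth_fwd4_a25 : allBelow (pathPt 15 (coxL ++ strongL.take 4) sg4 pth4) 30212 = true :=
  allBelow_append (m := 29050) (len := 1162) rfl (pth_fwd4_a24) pth_fwd4_p25

theorem pth_fwd4_a26 : allBelow (pathPt 15 (coxL ++ strongL.take 4) sg4 pth4) 31374 = true :=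
  allBelow_append (m := 30212) (len := 1162) rfl (pth_fwd4_a25) pth_fwd4_p26

theorem pth_fwd4_pts : allBelow (pathPt 15 (coxL ++ strongL.take 4) sg4 pth4) 31671 = true :=
  allBelow_append (m := 31374) (len := 297) rfl (pth_fwd4_a26) pth_fwd4_p27

theorem pth_fwd5_a0 : allBelow (pathPt 15 (coxL ++ strongL.take 5) sg5 pth5) 1190 = true :=
  allBelow_append (m := 0) (len := 1190) rfl (allBelow_nil _) pth_fwd5_p0

theorem pth_fwd5_a1 : allBelow (pathPt 15 (coxL ++ strongL.take 5) sg5 pth5) 2380 = true :=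
  allBelow_append (m := 1190) (len := 1190) rfl (pth_fwd5_a0) pth_fwd5_p1

theorem pth_fwd5_a2 : allBelow (pathPt 15 (coxL ++ strongL.take 5) sg5 pth5) 3570 = true :=
  allBelow_append (m := 2380) (len := 1190) rfl (pth_fwd5_a1) pth_fwd5_p2

theorem pth_fwd5_a3 : allBelow (pathPt 15 (coxL ++ strongL.take 5) sg5 pth5) 4760 = true :=
  allBelow_append (m := 3570) (len := 1190) rfl (pth_fwd5_a2) pth_fwd5_p3

theorem pth_fwd5_a4 : allBelow (pathPt 15 (coxL ++ strongL.take 5) sg5 pth5) 5950 = true :=
  allBelow_append (m := 4760) (len := 1190) rfl (pth_fwd5_a3) pth_fwd5_p4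

theorem pth_fwd5_a5 : allBelow (pathPt 15 (coxL ++ strongL.take 5) sg5 pth5) 7140 = true :=
  allBelow_append (m := 5950) (len := 1190) rfl (pth_fwd5_a4) pth_fwd5_p5

theorem pth_fwd5_a6 : allBelow (pathPt 15 (coxL ++ strongL.take 5) sg5 pth5) 8330 = true :=
  allBelow_append (m := 7140) (len := 1190) rfl (pth_fwd5_a5) pth_fwd5_p6

theorem pth_fwd5_a7 : allBelow (pathPt 15 (coxL ++ strongL.take 5) sg5 pth5) 9520 = true :=
  allBelow_append (m := 8330) (len := 1190) rfl (pth_fwd5_a6) pth_fwd5_p7

theorem pth_fwd5_a8 : allBelow (pathPt 15 (coxL ++ strongL.take 5) sg5 pth5) 10710 = true :=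
  allBelow_append (m := 9520) (len := 1190) rfl (pth_fwd5_a7) pth_fwd5_p8

theorem pth_fwd5_a9 : allBelow (pathPt 15 (coxL ++ strongL.take 5) sg5 pth5) 11900 = true :=
  allBelow_append (m := 10710) (len := 1190) rfl (pth_fwd5_a8) pth_fwd5_p9

theorem pth_fwd5_a10 : allBelow (pathPt 15 (coxL ++ strongL.take 5) sg5 pth5) 13090 = true :=
  allBelow_append (m := 11900) (len := 1190) rfl (pth_fwd5_a9) pth_fwd5_p10

theorem pth_fwd5_a11 : allBelow (pathPt 15 (coxL ++ strongL.take 5) sg5 pth5) 14280 = true :=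
  allBelow_append (m := 13090) (len := 1190) rfl (pth_fwd5_a10) pth_fwd5_p11

theorem pth_fwd5_a12 : allBelow (pathPt 15 (coxL ++ strongL.take 5) sg5 pth5) 15470 = true :=
  allBelow_append (m := 14280) (len := 1190) rfl (pth_fwd5_a11) pth_fwd5_p12

theorem pth_fwd5_a13 : allBelow (pathPt 15 (coxL ++ strongL.take 5) sg5 pth5) 16660 = true :=
  allBelow_append (m := 15470) (len := 1190) rfl (pth_fwd5_a12) pth_fwd5_p13

theorem pth_fwd5_a14 : allBelow (pathPt 15 (coxL ++ strongL.take 5) sg5 pth5) 17850 = true :=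
  allBelow_append (m := 16660) (len := 1190) rfl (pth_fwd5_a13) pth_fwd5_p14

theorem pth_fwd5_a15 : allBelow (pathPt 15 (coxL ++ strongL.take 5) sg5 pth5) 19040 = true :=
  allBelow_append (m := 17850) (len := 1190) rfl (pth_fwd5_a14) pth_fwd5_p15

theorem pth_fwd5_a16 : allBelow (pathPt 15 (coxL ++ strongL.take 5) sg5 pth5) 20230 = true :=
  allBelow_append (m := 19040) (len := 1190) rfl (pth_fwd5_a15) pth_fwd5_p16

theorem pth_fwd5_a17 : allBelow (pathPt 15 (coxL ++ strongL.take 5) sg5 pth5) 21420 = true :=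
  allBelow_append (m := 20230) (len := 1190) rfl (pth_fwd5_a16) pth_fwd5_p17

theorem pth_fwd5_a18 : allBelow (pathPt 15 (coxL ++ strongL.take 5) sg5 pth5) 22610 = true :=
  allBelow_append (m := 21420) (len := 1190) rfl (pth_fwd5_a17) pth_fwd5_p18

theorem pth_fwd5_a19 : allBelow (pathPt 15 (coxL ++ strongL.take 5) sg5 pth5) 23800 = true :=
  allBelow_append (m := 22610) (len := 1190) rfl (pth_fwd5_a18) pth_fwd5_p19

theorem pth_fwd5_a20 : allBelow (pathPt 15 (coxL ++ strongL.take 5) sg5 pth5) 24990 = true :=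
  allBelow_append (m := 23800) (len := 1190) rfl (pth_fwd5_a19) pth_fwd5_p20

theorem pth_fwd5_a21 : allBelow (pathPt 15 (coxL ++ strongL.take 5) sg5 pth5) 26180 = true :=
  allBelow_append (m := 24990) (len := 1190) rfl (pth_fwd5_a20) pth_fwd5_p21

theorem pth_fwd5_a22 : allBelow (pathPt 15 (coxL ++ strongL.take 5) sg5 pth5) 27370 = true :=
  allBelow_append (m := 26180) (len := 1190) rfl (pth_fwd5_a21) pth_fwd5_p22

theorem pth_fwd5_a23 : allBelow (pathPt 15 (coxL ++ strongL.take 5) sg5 pth5) 28560 = true :=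
  allBelow_append (m := 27370) (len := 1190) rfl (pth_fwd5_a22) pth_fwd5_p23

theorem pth_fwd5_a24 : allBelow (pathPt 15 (coxL ++ strongL.take 5) sg5 pth5) 29750 = true :=
  allBelow_append (m := 28560) (len := 1190) rfl (pth_fwd5_a23) pth_fwd5_p24

theorem pth_fwd5_a25 : allBelow (pathPt 15 (coxL ++ strongL.take 5) sg5 pth5) 30940 = true :=
  allBelow_append (m := 29750) (len := 1190) rfl (pth_fwd5_a24) pth_fwd5_p25

theorem pth_fwd5_pts : allBelow (pathPt 15 (coxL ++ strongL.take 5) sg5 pth5) 31671 = true :=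
  allBelow_append (m := 30940) (len := 731) rfl (pth_fwd5_a25) pth_fwd5_p26

theorem pth_fwd6_a0 : allBelow (pathPt 15 (coxL ++ strongL.take 6) sg6 pth6) 961 = true :=
  allBelow_append (m := 0) (len := 961) rfl (allBelow_nil _) pth_fwd6_p0

theorem pth_fwd6_a1 : allBelow (pathPt 15 (coxL ++ strongL.take 6) sg6 pth6) 1922 = true :=
  allBelow_append (m := 961) (len := 961) rfl (pth_fwd6_a0) pth_fwd6_p1

theorem pth_fwd6_a2 : allBelow (pathPt 15 (coxL ++ strongL.take 6) sg6 pth6) 2883 = true :=
  allBelow_append (m := 1922) (len := 961) rfl (pth_fwd6_a1) pth_fwd6_p2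

theorem pth_fwd6_a3 : allBelow (pathPt 15 (coxL ++ strongL.take 6) sg6 pth6) 3844 = true :=
  allBelow_append (m := 2883) (len := 961) rfl (pth_fwd6_a2) pth_fwd6_p3

theorem pth_fwd6_a4 : allBelow (pathPt 15 (coxL ++ strongL.take 6) sg6 pth6) 4805 = true :=
  allBelow_append (m := 3844) (len := 961) rfl (pth_fwd6_a3) pth_fwd6_p4

theorem pth_fwd6_a5 : allBelow (pathPt 15 (coxL ++ strongL.take 6) sg6 pth6) 5766 = true :=
  allBelow_append (m := 4805) (len := 961) rfl (pth_fwd6_a4) pth_fwd6_p5

theorem pth_fwd6_a6 : allBelow (pathPt 15 (coxL ++ strongL.take 6) sg6 pth6) 6727 = true :=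
  allBelow_append (m := 5766) (len := 961) rfl (pth_fwd6_a5) pth_fwd6_p6

theorem pth_fwd6_a7 : allBelow (pathPt 15 (coxL ++ strongL.take 6) sg6 pth6) 7688 = true :=
  allBelow_append (m := 6727) (len := 961) rfl (pth_fwd6_a6) pth_fwd6_p7

theorem pth_fwd6_a8 : allBelow (pathPt 15 (coxL ++ strongL.take 6) sg6 pth6) 8649 = true :=
  allBelow_append (m := 7688) (len := 961) rfl (pth_fwd6_a7) pth_fwd6_p8

theorem pth_fwd6_a9 : allBelow (pathPt 15 (coxL ++ strongL.take 6) sg6 pth6) 9610 = true :=
  allBelow_append (m := 8649) (len := 961) rfl (pth_fwd6_a8) pth_fwd6_p9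

theorem pth_fwd6_a10 : allBelow (pathPt 15 (coxL ++ strongL.take 6) sg6 pth6) 10571 = true :=
  allBelow_append (m := 9610) (len := 961) rfl (pth_fwd6_a9) pth_fwd6_p10

theorem pth_fwd6_a11 : allBelow (pathPt 15 (coxL ++ strongL.take 6) sg6 pth6) 11532 = true :=
  allBelow_append (m := 10571) (len := 961) rfl (pth_fwd6_a10) pth_fwd6_p11

theorem pth_fwd6_a12 : allBelow (pathPt 15 (coxL ++ strongL.take 6) sg6 pth6) 12493 = true :=
  allBelow_append (m := 11532) (len := 961) rfl (pth_fwd6_a11) pth_fwd6_p12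

theorem pth_fwd6_a13 : allBelow (pathPt 15 (coxL ++ strongL.take 6) sg6 pth6) 13454 = true :=
  allBelow_append (m := 12493) (len := 961) rfl (pth_fwd6_a12) pth_fwd6_p13

theorem pth_fwd6_a14 : allBelow (pathPt 15 (coxL ++ strongL.take 6) sg6 pth6) 14415 = true :=
  allBelow_append (m := 13454) (len := 961) rfl (pth_fwd6_a13) pth_fwd6_p14

theorem pth_fwd6_a15 : allBelow (pathPt 15 (coxL ++ strongL.take 6) sg6 pth6) 15376 = true :=
  allBelow_append (m := 14415) (len := 961) rfl (pth_fwd6_a14) pth_fwd6_p15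

theorem pth_fwd6_a16 : allBelow (pathPt 15 (coxL ++ strongL.take 6) sg6 pth6) 16337 = true :=
  allBelow_append (m := 15376) (len := 961) rfl (pth_fwd6_a15) pth_fwd6_p16

theorem pth_fwd6_a17 : allBelow (pathPt 15 (coxL ++ strongL.take 6) sg6 pth6) 17298 = true :=
  allBelow_append (m := 16337) (len := 961) rfl (pth_fwd6_a16) pth_fwd6_p17

theorem pth_fwd6_a18 : allBelow (pathPt 15 (coxL ++ strongL.take 6) sg6 pth6) 18259 = true :=
  allBelow_append (m := 17298) (len := 961) rfl (pth_fwd6_a17) pth_fwd6_p18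

theorem pth_fwd6_a19 : allBelow (pathPt 15 (coxL ++ strongL.take 6) sg6 pth6) 19220 = true :=
  allBelow_append (m := 18259) (len := 961) rfl (pth_fwd6_a18) pth_fwd6_p19

theorem pth_fwd6_a20 : allBelow (pathPt 15 (coxL ++ strongL.take 6) sg6 pth6) 20181 = true :=
  allBelow_append (m := 19220) (len := 961) rfl (pth_fwd6_a19) pth_fwd6_p20

theorem pth_fwd6_a21 : allBelow (pathPt 15 (coxL ++ strongL.take 6) sg6 pth6) 21142 = true :=
  allBelow_append (m := 20181) (len := 961) rfl (pth_fwd6_a20) pth_fwd6_p21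

theorem pth_fwd6_a22 : allBelow (pathPt 15 (coxL ++ strongL.take 6) sg6 pth6) 22103 = true :=
  allBelow_append (m := 21142) (len := 961) rfl (pth_fwd6_a21) pth_fwd6_p22

theorem pth_fwd6_a23 : allBelow (pathPt 15 (coxL ++ strongL.take 6) sg6 pth6) 23064 = true :=
  allBelow_append (m := 22103) (len := 961) rfl (pth_fwd6_a22) pth_fwd6_p23

theorem pth_fwd6_a24 : allBelow (pathPt 15 (coxL ++ strongL.take 6) sg6 pth6) 24025 = true :=
  allBelow_append (m := 23064) (len := 961) rfl (pth_fwd6_a23) pth_fwd6_p24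

theorem pth_fwd6_a25 : allBelow (pathPt 15 (coxL ++ strongL.take 6) sg6 pth6) 24986 = true :=
  allBelow_append (m := 24025) (len := 961) rfl (pth_fwd6_a24) pth_fwd6_p25

theorem pth_fwd6_a26 : allBelow (pathPt 15 (coxL ++ strongL.take 6) sg6 pth6) 25947 = true :=
  allBelow_append (m := 24986) (len := 961) rfl (pth_fwd6_a25) pth_fwd6_p26

theorem pth_fwd6_a27 : allBelow (pathPt 15 (coxL ++ strongL.take 6) sg6 pth6) 26908 = true :=
  allBelow_append (m := 25947) (len := 961) rfl (pth_fwd6_a26) pth_fwd6_p27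

theorem pth_fwd6_a28 : allBelow (pathPt 15 (coxL ++ strongL.take 6) sg6 pth6) 27869 = true :=
  allBelow_append (m := 26908) (len := 961) rfl (pth_fwd6_a27) pth_fwd6_p28

theorem pth_fwd6_a29 : allBelow (pathPt 15 (coxL ++ strongL.take 6) sg6 pth6) 28830 = true :=
  allBelow_append (m := 27869) (len := 961) rfl (pth_fwd6_a28) pth_fwd6_p29

theorem pth_fwd6_a30 : allBelow (pathPt 15 (coxL ++ strongL.take 6) sg6 pth6) 29791 = true :=
  allBelow_append (m := 28830) (len := 961) rfl (pth_fwd6_a29) pth_fwd6_p30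

theorem pth_fwd6_a31 : allBelow (pathPt 15 (coxL ++ strongL.take 6) sg6 pth6) 30752 = true :=
  allBelow_append (m := 29791) (len := 961) rfl (pth_fwd6_a30) pth_fwd6_p31

theorem pth_fwd6_pts : allBelow (pathPt 15 (coxL ++ strongL.take 6) sg6 pth6) 31671 = true :=
  allBelow_append (m := 30752) (len := 919) rfl (pth_fwd6_a31) pth_fwd6_p32

theorem pth_fwd7_a0 : allBelow (pathPt 15 (coxL ++ strongL.take 7) sg7 pth7) 1063 = true :=
  allBelow_append (m := 0) (len := 1063) rfl (allBelow_nil _) pth_fwd7_p0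

theorem pth_fwd7_a1 : allBelow (pathPt 15 (coxL ++ strongL.take 7) sg7 pth7) 2126 = true :=
  allBelow_append (m := 1063) (len := 1063) rfl (pth_fwd7_a0) pth_fwd7_p1

theorem pth_fwd7_a2 : allBelow (pathPt 15 (coxL ++ strongL.take 7) sg7 pth7) 3189 = true :=
  allBelow_append (m := 2126) (len := 1063) rfl (pth_fwd7_a1) pth_fwd7_p2

theorem pth_fwd7_a3 : allBelow (pathPt 15 (coxL ++ strongL.take 7) sg7 pth7) 4252 = true :=
  allBelow_append (m := 3189) (len := 1063) rfl (pth_fwd7_a2) pth_fwd7_p3

theorem pth_fwd7_a4 : allBelow (pathPt 15 (coxL ++ strongL.take 7) sg7 pth7) 5315 = true :=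
  allBelow_append (m := 4252) (len := 1063) rfl (pth_fwd7_a3) pth_fwd7_p4

theorem pth_fwd7_a5 : allBelow (pathPt 15 (coxL ++ strongL.take 7) sg7 pth7) 6378 = true :=
  allBelow_append (m := 5315) (len := 1063) rfl (pth_fwd7_a4) pth_fwd7_p5

theorem pth_fwd7_a6 : allBelow (pathPt 15 (coxL ++ strongL.take 7) sg7 pth7) 7441 = true :=
  allBelow_append (m := 6378) (len := 1063) rfl (pth_fwd7_a5) pth_fwd7_p6

theorem pth_fwd7_a7 : allBelow (pathPt 15 (coxL ++ strongL.take 7) sg7 pth7) 8504 = true :=
  allBelow_append (m := 7441) (len := 1063) rfl (pth_fwd7_a6) pth_fwd7_p7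

theorem pth_fwd7_a8 : allBelow (pathPt 15 (coxL ++ strongL.take 7) sg7 pth7) 9567 = true :=
  allBelow_append (m := 8504) (len := 1063) rfl (pth_fwd7_a7) pth_fwd7_p8

theorem pth_fwd7_a9 : allBelow (pathPt 15 (coxL ++ strongL.take 7) sg7 pth7) 10630 = true :=
  allBelow_append (m := 9567) (len := 1063) rfl (pth_fwd7_a8) pth_fwd7_p9

theorem pth_fwd7_a10 : allBelow (pathPt 15 (coxL ++ strongL.take 7) sg7 pth7) 11693 = true :=
  allBelow_append (m := 10630) (len := 1063) rfl (pth_fwd7_a9) pth_fwd7_p10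

theorem pth_fwd7_a11 : allBelow (pathPt 15 (coxL ++ strongL.take 7) sg7 pth7) 12756 = true :=
  allBelow_append (m := 11693) (len := 1063) rfl (pth_fwd7_a10) pth_fwd7_p11

theorem pth_fwd7_a12 : allBelow (pathPt 15 (coxL ++ strongL.take 7) sg7 pth7) 13819 = true :=
  allBelow_append (m := 12756) (len := 1063) rfl (pth_fwd7_a11) pth_fwd7_p12

theorem pth_fwd7_a13 : allBelow (pathPt 15 (coxL ++ strongL.take 7) sg7 pth7) 14882 = true :=
  allBelow_append (m := 13819) (len := 1063) rfl (pth_fwd7_a12) pth_fwd7_p13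

theorem pth_fwd7_a14 : allBelow (pathPt 15 (coxL ++ strongL.take 7) sg7 pth7) 15945 = true :=
  allBelow_append (m := 14882) (len := 1063) rfl (pth_fwd7_a13) pth_fwd7_p14

theorem pth_fwd7_a15 : allBelow (pathPt 15 (coxL ++ strongL.take 7) sg7 pth7) 17008 = true :=
  allBelow_append (m := 15945) (len := 1063) rfl (pth_fwd7_a14) pth_fwd7_p15

theorem pth_fwd7_a16 : allBelow (pathPt 15 (coxL ++ strongL.take 7) sg7 pth7) 18071 = true :=
  allBelow_append (m := 17008) (len := 1063) rfl (pth_fwd7_a15) pth_fwd7_p16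

theorem pth_fwd7_a17 : allBelow (pathPt 15 (coxL ++ strongL.take 7) sg7 pth7) 19134 = true :=
  allBelow_append (m := 18071) (len := 1063) rfl (pth_fwd7_a16) pth_fwd7_p17

theorem pth_fwd7_a18 : allBelow (pathPt 15 (coxL ++ strongL.take 7) sg7 pth7) 20197 = true :=
  allBelow_append (m := 19134) (len := 1063) rfl (pth_fwd7_a17) pth_fwd7_p18

theorem pth_fwd7_a19 : allBelow (pathPt 15 (coxL ++ strongL.take 7) sg7 pth7) 21260 = true :=
  allBelow_append (m := 20197) (len := 1063) rfl (pth_fwd7_a18) pth_fwd7_p19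

theorem pth_fwd7_a20 : allBelow (pathPt 15 (coxL ++ strongL.take 7) sg7 pth7) 22323 = true :=
  allBelow_append (m := 21260) (len := 1063) rfl (pth_fwd7_a19) pth_fwd7_p20

theorem pth_fwd7_a21 : allBelow (pathPt 15 (coxL ++ strongL.take 7) sg7 pth7) 23386 = true :=
  allBelow_append (m := 22323) (len := 1063) rfl (pth_fwd7_a20) pth_fwd7_p21

theorem pth_fwd7_a22 : allBelow (pathPt 15 (coxL ++ strongL.take 7) sg7 pth7) 24449 = true :=
  allBelow_append (m := 23386) (len := 1063) rfl (pth_fwd7_a21) pth_fwd7_p22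

theorem pth_fwd7_a23 : allBelow (pathPt 15 (coxL ++ strongL.take 7) sg7 pth7) 25512 = true :=
  allBelow_append (m := 24449) (len := 1063) rfl (pth_fwd7_a22) pth_fwd7_p23

theorem pth_fwd7_a24 : allBelow (pathPt 15 (coxL ++ strongL.take 7) sg7 pth7) 26575 = true :=
  allBelow_append (m := 25512) (len := 1063) rfl (pth_fwd7_a23) pth_fwd7_p24

theorem pth_fwd7_a25 : allBelow (pathPt 15 (coxL ++ strongL.take 7) sg7 pth7) 27638 = true :=
  allBelow_append (m := 26575) (len := 1063) rfl (pth_fwd7_a24) pth_fwd7_p25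

theorem pth_fwd7_a26 : allBelow (pathPt 15 (coxL ++ strongL.take 7) sg7 pth7) 28701 = true :=
  allBelow_append (m := 27638) (len := 1063) rfl (pth_fwd7_a25) pth_fwd7_p26

theorem pth_fwd7_a27 : allBelow (pathPt 15 (coxL ++ strongL.take 7) sg7 pth7) 29764 = true :=
  allBelow_append (m := 28701) (len := 1063) rfl (pth_fwd7_a26) pth_fwd7_p27

theorem pth_fwd7_a28 : allBelow (pathPt 15 (coxL ++ strongL.take 7) sg7 pth7) 30827 = true :=
  allBelow_append (m := 29764) (len := 1063) rfl (pth_fwd7_a27) pth_fwd7_p28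

theorem pth_fwd7_pts : allBelow (pathPt 15 (coxL ++ strongL.take 7) sg7 pth7) 31671 = true :=
  allBelow_append (m := 30827) (len := 844) rfl (pth_fwd7_a28) pth_fwd7_p29

theorem pth_fwd8_a0 : allBelow (pathPt 15 (coxL ++ strongL.take 8) sg8 pth8) 1190 = true :=
  allBelow_append (m := 0) (len := 1190) rfl (allBelow_nil _) pth_fwd8_p0

theorem pth_fwd8_a1 : allBelow (pathPt 15 (coxL ++ strongL.take 8) sg8 pth8) 2380 = true :=
  allBelow_append (m := 1190) (len := 1190) rfl (pth_fwd8_a0) pth_fwd8_p1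

theorem pth_fwd8_a2 : allBelow (pathPt 15 (coxL ++ strongL.take 8) sg8 pth8) 3570 = true :=
  allBelow_append (m := 2380) (len := 1190) rfl (pth_fwd8_a1) pth_fwd8_p2

theorem pth_fwd8_a3 : allBelow (pathPt 15 (coxL ++ strongL.take 8) sg8 pth8) 4760 = true :=
  allBelow_append (m := 3570) (len := 1190) rfl (pth_fwd8_a2) pth_fwd8_p3

theorem pth_fwd8_a4 : allBelow (pathPt 15 (coxL ++ strongL.take 8) sg8 pth8) 5950 = true :=
  allBelow_append (m := 4760) (len := 1190) rfl (pth_fwd8_a3) pth_fwd8_p4

theorem pth_fwd8_a5 : allBelow (pathPt 15 (coxL ++ strongL.take 8) sg8 pth8) 7140 = true :=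
  allBelow_append (m := 5950) (len := 1190) rfl (pth_fwd8_a4) pth_fwd8_p5

theorem pth_fwd8_a6 : allBelow (pathPt 15 (coxL ++ strongL.take 8) sg8 pth8) 8330 = true :=
  allBelow_append (m := 7140) (len := 1190) rfl (pth_fwd8_a5) pth_fwd8_p6

theorem pth_fwd8_a7 : allBelow (pathPt 15 (coxL ++ strongL.take 8) sg8 pth8) 9520 = true :=
  allBelow_append (m := 8330) (len := 1190) rfl (pth_fwd8_a6) pth_fwd8_p7

theorem pth_fwd8_a8 : allBelow (pathPt 15 (coxL ++ strongL.take 8) sg8 pth8) 10710 = true :=
  allBelow_append (m := 9520) (len := 1190) rfl (pth_fwd8_a7) pth_fwd8_p8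

theorem pth_fwd8_a9 : allBelow (pathPt 15 (coxL ++ strongL.take 8) sg8 pth8) 11900 = true :=
  allBelow_append (m := 10710) (len := 1190) rfl (pth_fwd8_a8) pth_fwd8_p9

theorem pth_fwd8_a10 : allBelow (pathPt 15 (coxL ++ strongL.take 8) sg8 pth8) 13090 = true :=
  allBelow_append (m := 11900) (len := 1190) rfl (pth_fwd8_a9) pth_fwd8_p10

theorem pth_fwd8_a11 : allBelow (pathPt 15 (coxL ++ strongL.take 8) sg8 pth8) 14280 = true :=
  allBelow_append (m := 13090) (len := 1190) rfl (pth_fwd8_a10) pth_fwd8_p11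

theorem pth_fwd8_a12 : allBelow (pathPt 15 (coxL ++ strongL.take 8) sg8 pth8) 15470 = true :=
  allBelow_append (m := 14280) (len := 1190) rfl (pth_fwd8_a11) pth_fwd8_p12

theorem pth_fwd8_a13 : allBelow (pathPt 15 (coxL ++ strongL.take 8) sg8 pth8) 16660 = true :=
  allBelow_append (m := 15470) (len := 1190) rfl (pth_fwd8_a12) pth_fwd8_p13

theorem pth_fwd8_a14 : allBelow (pathPt 15 (coxL ++ strongL.take 8) sg8 pth8) 17850 = true :=
  allBelow_append (m := 16660) (len := 1190) rfl (pth_fwd8_a13) pth_fwd8_p14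

theorem pth_fwd8_a15 : allBelow (pathPt 15 (coxL ++ strongL.take 8) sg8 pth8) 19040 = true :=
  allBelow_append (m := 17850) (len := 1190) rfl (pth_fwd8_a14) pth_fwd8_p15

theorem pth_fwd8_a16 : allBelow (pathPt 15 (coxL ++ strongL.take 8) sg8 pth8) 20230 = true :=
  allBelow_append (m := 19040) (len := 1190) rfl (pth_fwd8_a15) pth_fwd8_p16

theorem pth_fwd8_a17 : allBelow (pathPt 15 (coxL ++ strongL.take 8) sg8 pth8) 21420 = true :=
  allBelow_append (m := 20230) (len := 1190) rfl (pth_fwd8_a16) pth_fwd8_p17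

theorem pth_fwd8_a18 : allBelow (pathPt 15 (coxL ++ strongL.take 8) sg8 pth8) 22610 = true :=
  allBelow_append (m := 21420) (len := 1190) rfl (pth_fwd8_a17) pth_fwd8_p18

theorem pth_fwd8_a19 : allBelow (pathPt 15 (coxL ++ strongL.take 8) sg8 pth8) 23800 = true :=
  allBelow_append (m := 22610) (len := 1190) rfl (pth_fwd8_a18) pth_fwd8_p19

theorem pth_fwd8_a20 : allBelow (pathPt 15 (coxL ++ strongL.take 8) sg8 pth8) 24990 = true :=
  allBelow_append (m := 23800) (len := 1190) rfl (pth_fwd8_a19) pth_fwd8_p20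

theorem pth_fwd8_a21 : allBelow (pathPt 15 (coxL ++ strongL.take 8) sg8 pth8) 26180 = true :=
  allBelow_append (m := 24990) (len := 1190) rfl (pth_fwd8_a20) pth_fwd8_p21

theorem pth_fwd8_a22 : allBelow (pathPt 15 (coxL ++ strongL.take 8) sg8 pth8) 27370 = true :=
  allBelow_append (m := 26180) (len := 1190) rfl (pth_fwd8_a21) pth_fwd8_p22

theorem pth_fwd8_a23 : allBelow (pathPt 15 (coxL ++ strongL.take 8) sg8 pth8) 28560 = true :=
  allBelow_append (m := 27370) (len := 1190) rfl (pth_fwd8_a22) pth_fwd8_p23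

theorem pth_fwd8_a24 : allBelow (pathPt 15 (coxL ++ strongL.take 8) sg8 pth8) 29750 = true :=
  allBelow_append (m := 28560) (len := 1190) rfl (pth_fwd8_a23) pth_fwd8_p24

theorem pth_fwd8_a25 : allBelow (pathPt 15 (coxL ++ strongL.take 8) sg8 pth8) 30940 = true :=
  allBelow_append (m := 29750) (len := 1190) rfl (pth_fwd8_a24) pth_fwd8_p25

theorem pth_fwd8_pts : allBelow (pathPt 15 (coxL ++ strongL.take 8) sg8 pth8) 31671 = true :=
  allBelow_append (m := 30940) (len := 731) rfl (pth_fwd8_a25) pth_fwd8_p26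

theorem pthA_fwd_a0 : allBelow (pathPt 15 allL tA pthA) 3125 = true :=
  allBelow_append (m := 0) (len := 3125) rfl (allBelow_nil _) pthA_fwd_p0

theorem pthA_fwd_a1 : allBelow (pathPt 15 allL tA pthA) 6250 = true :=
  allBelow_append (m := 3125) (len := 3125) rfl (pthA_fwd_a0) pthA_fwd_p1

theorem pthA_fwd_a2 : allBelow (pathPt 15 allL tA pthA) 9375 = true :=
  allBelow_append (m := 6250) (len := 3125) rfl (pthA_fwd_a1) pthA_fwd_p2

theorem pthA_fwd_a3 : allBelow (pathPt 15 allL tA pthA) 12500 = true :=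
  allBelow_append (m := 9375) (len := 3125) rfl (pthA_fwd_a2) pthA_fwd_p3

theorem pthA_fwd_a4 : allBelow (pathPt 15 allL tA pthA) 15625 = true :=
  allBelow_append (m := 12500) (len := 3125) rfl (pthA_fwd_a3) pthA_fwd_p4

theorem pthA_fwd_a5 : allBelow (pathPt 15 allL tA pthA) 18750 = true :=
  allBelow_append (m := 15625) (len := 3125) rfl (pthA_fwd_a4) pthA_fwd_p5

theorem pthA_fwd_a6 : allBelow (pathPt 15 allL tA pthA) 21875 = true :=
  allBelow_append (m := 18750) (len := 3125) rfl (pthA_fwd_a5) pthA_fwd_p6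

theorem pthA_fwd_a7 : allBelow (pathPt 15 allL tA pthA) 25000 = true :=
  allBelow_append (m := 21875) (len := 3125) rfl (pthA_fwd_a6) pthA_fwd_p7

theorem pthA_fwd_a8 : allBelow (pathPt 15 allL tA pthA) 28125 = true :=
  allBelow_append (m := 25000) (len := 3125) rfl (pthA_fwd_a7) pthA_fwd_p8

theorem pthA_fwd_a9 : allBelow (pathPt 15 allL tA pthA) 31250 = true :=
  allBelow_append (m := 28125) (len := 3125) rfl (pthA_fwd_a8) pthA_fwd_p9

theorem pthA_fwd_pts : allBelow (pathPt 15 allL tA pthA) 31671 = true :=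
  allBelow_append (m := 31250) (len := 421) rfl (pthA_fwd_a9) pthA_fwd_p10

theorem pthD_fwd_a0 : allBelow (pathPt 15 allL tD pthD) 2000 = true :=
  allBelow_append (m := 0) (len := 2000) rfl (allBelow_nil _) pthD_fwd_p0

theorem pthD_fwd_a1 : allBelow (pathPt 15 allL tD pthD) 4000 = true :=
  allBelow_append (m := 2000) (len := 2000) rfl (pthD_fwd_a0) pthD_fwd_p1

theorem pthD_fwd_a2 : allBelow (pathPt 15 allL tD pthD) 6000 = true :=
  allBelow_append (m := 4000) (len := 2000) rfl (pthD_fwd_a1) pthD_fwd_p2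

theorem pthD_fwd_a3 : allBelow (pathPt 15 allL tD pthD) 8000 = true :=
  allBelow_append (m := 6000) (len := 2000) rfl (pthD_fwd_a2) pthD_fwd_p3

theorem pthD_fwd_a4 : allBelow (pathPt 15 allL tD pthD) 10000 = true :=
  allBelow_append (m := 8000) (len := 2000) rfl (pthD_fwd_a3) pthD_fwd_p4

theorem pthD_fwd_a5 : allBelow (pathPt 15 allL tD pthD) 12000 = true :=
  allBelow_append (m := 10000) (len := 2000) rfl (pthD_fwd_a4) pthD_fwd_p5

theorem pthD_fwd_a6 : allBelow (pathPt 15 allL tD pthD) 14000 = true :=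
  allBelow_append (m := 12000) (len := 2000) rfl (pthD_fwd_a5) pthD_fwd_p6

theorem pthD_fwd_a7 : allBelow (pathPt 15 allL tD pthD) 16000 = true :=
  allBelow_append (m := 14000) (len := 2000) rfl (pthD_fwd_a6) pthD_fwd_p7

theorem pthD_fwd_a8 : allBelow (pathPt 15 allL tD pthD) 18000 = true :=
  allBelow_append (m := 16000) (len := 2000) rfl (pthD_fwd_a7) pthD_fwd_p8

theorem pthD_fwd_a9 : allBelow (pathPt 15 allL tD pthD) 20000 = true :=
  allBelow_append (m := 18000) (len := 2000) rfl (pthD_fwd_a8) pthD_fwd_p9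

theorem pthD_fwd_a10 : allBelow (pathPt 15 allL tD pthD) 22000 = true :=
  allBelow_append (m := 20000) (len := 2000) rfl (pthD_fwd_a9) pthD_fwd_p10

theorem pthD_fwd_a11 : allBelow (pathPt 15 allL tD pthD) 24000 = true :=
  allBelow_append (m := 22000) (len := 2000) rfl (pthD_fwd_a10) pthD_fwd_p11

theorem pthD_fwd_a12 : allBelow (pathPt 15 allL tD pthD) 26000 = true :=
  allBelow_append (m := 24000) (len := 2000) rfl (pthD_fwd_a11) pthD_fwd_p12

theorem pthD_fwd_a13 : allBelow (pathPt 15 allL tD pthD) 28000 = true :=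
  allBelow_append (m := 26000) (len := 2000) rfl (pthD_fwd_a12) pthD_fwd_p13

theorem pthD_fwd_a14 : allBelow (pathPt 15 allL tD pthD) 30000 = true :=
  allBelow_append (m := 28000) (len := 2000) rfl (pthD_fwd_a13) pthD_fwd_p14

theorem pthD_fwd_pts : allBelow (pathPt 15 allL tD pthD) 31671 = true :=
  allBelow_append (m := 30000) (len := 1671) rfl (pthD_fwd_a14) pthD_fwd_p15

theorem pthS_fwd_a0 : allBelow (pathPt 15 allL tS pthS) 2272 = true :=
  allBelow_append (m := 0) (len := 2272) rfl (allBelow_nil _) pthS_fwd_p0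

theorem pthS_fwd_a1 : allBelow (pathPt 15 allL tS pthS) 4544 = true :=
  allBelow_append (m := 2272) (len := 2272) rfl (pthS_fwd_a0) pthS_fwd_p1

theorem pthS_fwd_a2 : allBelow (pathPt 15 allL tS pthS) 6816 = true :=
  allBelow_append (m := 4544) (len := 2272) rfl (pthS_fwd_a1) pthS_fwd_p2

theorem pthS_fwd_a3 : allBelow (pathPt 15 allL tS pthS) 9088 = true :=
  allBelow_append (m := 6816) (len := 2272) rfl (pthS_fwd_a2) pthS_fwd_p3

theorem pthS_fwd_a4 : allBelow (pathPt 15 allL tS pthS) 11360 = true :=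
  allBelow_append (m := 9088) (len := 2272) rfl (pthS_fwd_a3) pthS_fwd_p4

theorem pthS_fwd_a5 : allBelow (pathPt 15 allL tS pthS) 13632 = true :=
  allBelow_append (m := 11360) (len := 2272) rfl (pthS_fwd_a4) pthS_fwd_p5

theorem pthS_fwd_a6 : allBelow (pathPt 15 allL tS pthS) 15904 = true :=
  allBelow_append (m := 13632) (len := 2272) rfl (pthS_fwd_a5) pthS_fwd_p6

theorem pthS_fwd_a7 : allBelow (pathPt 15 allL tS pthS) 18176 = true :=
  allBelow_append (m := 15904) (len := 2272) rfl (pthS_fwd_a6) pthS_fwd_p7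

theorem pthS_fwd_a8 : allBelow (pathPt 15 allL tS pthS) 20448 = true :=
  allBelow_append (m := 18176) (len := 2272) rfl (pthS_fwd_a7) pthS_fwd_p8

theorem pthS_fwd_a9 : allBelow (pathPt 15 allL tS pthS) 22720 = true :=
  allBelow_append (m := 20448) (len := 2272) rfl (pthS_fwd_a8) pthS_fwd_p9

theorem pthS_fwd_a10 : allBelow (pathPt 15 allL tS pthS) 24992 = true :=
  allBelow_append (m := 22720) (len := 2272) rfl (pthS_fwd_a9) pthS_fwd_p10

theorem pthS_fwd_a11 : allBelow (pathPt 15 allL tS pthS) 27264 = true :=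
  allBelow_append (m := 24992) (len := 2272) rfl (pthS_fwd_a10) pthS_fwd_p11

theorem pthS_fwd_a12 : allBelow (pathPt 15 allL tS pthS) 29536 = true :=
  allBelow_append (m := 27264) (len := 2272) rfl (pthS_fwd_a11) pthS_fwd_p12

theorem pthS_fwd_pts : allBelow (pathPt 15 allL tS pthS) 31671 = true :=
  allBelow_append (m := 29536) (len := 2135) rfl (pthS_fwd_a12) pthS_fwd_p13

theorem gp_fwd0_a0 : allBelow (pathPt 15 adsL cx0 gp0) 1785 = true :=
  allBelow_append (m := 0) (len := 1785) rfl (allBelow_nil _) gp_fwd0_p0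

theorem gp_fwd0_a1 : allBelow (pathPt 15 adsL cx0 gp0) 3570 = true :=
  allBelow_append (m := 1785) (len := 1785) rfl (gp_fwd0_a0) gp_fwd0_p1

theorem gp_fwd0_a2 : allBelow (pathPt 15 adsL cx0 gp0) 5355 = true :=
  allBelow_append (m := 3570) (len := 1785) rfl (gp_fwd0_a1) gp_fwd0_p2

theorem gp_fwd0_a3 : allBelow (pathPt 15 adsL cx0 gp0) 7140 = true :=
  allBelow_append (m := 5355) (len := 1785) rfl (gp_fwd0_a2) gp_fwd0_p3

theorem gp_fwd0_a4 : allBelow (pathPt 15 adsL cx0 gp0) 8925 = true :=
  allBelow_append (m := 7140) (len := 1785) rfl (gp_fwd0_a3) gp_fwd0_p4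

theorem gp_fwd0_a5 : allBelow (pathPt 15 adsL cx0 gp0) 10710 = true :=
  allBelow_append (m := 8925) (len := 1785) rfl (gp_fwd0_a4) gp_fwd0_p5

theorem gp_fwd0_a6 : allBelow (pathPt 15 adsL cx0 gp0) 12495 = true :=
  allBelow_append (m := 10710) (len := 1785) rfl (gp_fwd0_a5) gp_fwd0_p6

theorem gp_fwd0_a7 : allBelow (pathPt 15 adsL cx0 gp0) 14280 = true :=
  allBelow_append (m := 12495) (len := 1785) rfl (gp_fwd0_a6) gp_fwd0_p7

theorem gp_fwd0_a8 : allBelow (pathPt 15 adsL cx0 gp0) 16065 = true :=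
  allBelow_append (m := 14280) (len := 1785) rfl (gp_fwd0_a7) gp_fwd0_p8

theorem gp_fwd0_a9 : allBelow (pathPt 15 adsL cx0 gp0) 17850 = true :=
  allBelow_append (m := 16065) (len := 1785) rfl (gp_fwd0_a8) gp_fwd0_p9

theorem gp_fwd0_a10 : allBelow (pathPt 15 adsL cx0 gp0) 19635 = true :=
  allBelow_append (m := 17850) (len := 1785) rfl (gp_fwd0_a9) gp_fwd0_p10

theorem gp_fwd0_a11 : allBelow (pathPt 15 adsL cx0 gp0) 21420 = true :=
  allBelow_append (m := 19635) (len := 1785) rfl (gp_fwd0_a10) gp_fwd0_p11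

theorem gp_fwd0_a12 : allBelow (pathPt 15 adsL cx0 gp0) 23205 = true :=
  allBelow_append (m := 21420) (len := 1785) rfl (gp_fwd0_a11) gp_fwd0_p12

theorem gp_fwd0_a13 : allBelow (pathPt 15 adsL cx0 gp0) 24990 = true :=
  allBelow_append (m := 23205) (len := 1785) rfl (gp_fwd0_a12) gp_fwd0_p13

theorem gp_fwd0_a14 : allBelow (pathPt 15 adsL cx0 gp0) 26775 = true :=
  allBelow_append (m := 24990) (len := 1785) rfl (gp_fwd0_a13) gp_fwd0_p14

theorem gp_fwd0_a15 : allBelow (pathPt 15 adsL cx0 gp0) 28560 = true :=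
  allBelow_append (m := 26775) (len := 1785) rfl (gp_fwd0_a14) gp_fwd0_p15

theorem gp_fwd0_a16 : allBelow (pathPt 15 adsL cx0 gp0) 30345 = true :=
  allBelow_append (m := 28560) (len := 1785) rfl (gp_fwd0_a15) gp_fwd0_p16

theorem gp_fwd0_pts : allBelow (pathPt 15 adsL cx0 gp0) 31671 = true :=
  allBelow_append (m := 30345) (len := 1326) rfl (gp_fwd0_a16) gp_fwd0_p17

theorem gp_fwd1_a0 : allBelow (pathPt 15 adsL cx1 gp1) 1785 = true :=
  allBelow_append (m := 0) (len := 1785) rfl (allBelow_nil _) gp_fwd1_p0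

theorem gp_fwd1_a1 : allBelow (pathPt 15 adsL cx1 gp1) 3570 = true :=
  allBelow_append (m := 1785) (len := 1785) rfl (gp_fwd1_a0) gp_fwd1_p1

theorem gp_fwd1_a2 : allBelow (pathPt 15 adsL cx1 gp1) 5355 = true :=
  allBelow_append (m := 3570) (len := 1785) rfl (gp_fwd1_a1) gp_fwd1_p2

theorem gp_fwd1_a3 : allBelow (pathPt 15 adsL cx1 gp1) 7140 = true :=
  allBelow_append (m := 5355) (len := 1785) rfl (gp_fwd1_a2) gp_fwd1_p3

theorem gp_fwd1_a4 : allBelow (pathPt 15 adsL cx1 gp1) 8925 = true :=
  allBelow_append (m := 7140) (len := 1785) rfl (gp_fwd1_a3) gp_fwd1_p4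

theorem gp_fwd1_a5 : allBelow (pathPt 15 adsL cx1 gp1) 10710 = true :=
  allBelow_append (m := 8925) (len := 1785) rfl (gp_fwd1_a4) gp_fwd1_p5

theorem gp_fwd1_a6 : allBelow (pathPt 15 adsL cx1 gp1) 12495 = true :=
  allBelow_append (m := 10710) (len := 1785) rfl (gp_fwd1_a5) gp_fwd1_p6

theorem gp_fwd1_a7 : allBelow (pathPt 15 adsL cx1 gp1) 14280 = true :=
  allBelow_append (m := 12495) (len := 1785) rfl (gp_fwd1_a6) gp_fwd1_p7

theorem gp_fwd1_a8 : allBelow (pathPt 15 adsL cx1 gp1) 16065 = true :=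
  allBelow_append (m := 14280) (len := 1785) rfl (gp_fwd1_a7) gp_fwd1_p8

theorem gp_fwd1_a9 : allBelow (pathPt 15 adsL cx1 gp1) 17850 = true :=
  allBelow_append (m := 16065) (len := 1785) rfl (gp_fwd1_a8) gp_fwd1_p9

theorem gp_fwd1_a10 : allBelow (pathPt 15 adsL cx1 gp1) 19635 = true :=
  allBelow_append (m := 17850) (len := 1785) rfl (gp_fwd1_a9) gp_fwd1_p10

theorem gp_fwd1_a11 : allBelow (pathPt 15 adsL cx1 gp1) 21420 = true :=
  allBelow_append (m := 19635) (len := 1785) rfl (gp_fwd1_a10) gp_fwd1_p11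

theorem gp_fwd1_a12 : allBelow (pathPt 15 adsL cx1 gp1) 23205 = true :=
  allBelow_append (m := 21420) (len := 1785) rfl (gp_fwd1_a11) gp_fwd1_p12

theorem gp_fwd1_a13 : allBelow (pathPt 15 adsL cx1 gp1) 24990 = true :=
  allBelow_append (m := 23205) (len := 1785) rfl (gp_fwd1_a12) gp_fwd1_p13

theorem gp_fwd1_a14 : allBelow (pathPt 15 adsL cx1 gp1) 26775 = true :=
  allBelow_append (m := 24990) (len := 1785) rfl (gp_fwd1_a13) gp_fwd1_p14

theorem gp_fwd1_a15 : allBelow (pathPt 15 adsL cx1 gp1) 28560 = true :=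
  allBelow_append (m := 26775) (len := 1785) rfl (gp_fwd1_a14) gp_fwd1_p15

theorem gp_fwd1_a16 : allBelow (pathPt 15 adsL cx1 gp1) 30345 = true :=
  allBelow_append (m := 28560) (len := 1785) rfl (gp_fwd1_a15) gp_fwd1_p16

theorem gp_fwd1_pts : allBelow (pathPt 15 adsL cx1 gp1) 31671 = true :=
  allBelow_append (m := 30345) (len := 1326) rfl (gp_fwd1_a16) gp_fwd1_p17

theorem gp_fwd2_a0 : allBelow (pathPt 15 adsL cx2 gp2) 1923 = true :=
  allBelow_append (m := 0) (len := 1923) rfl (allBelow_nil _) gp_fwd2_p0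

theorem gp_fwd2_a1 : allBelow (pathPt 15 adsL cx2 gp2) 3846 = true :=
  allBelow_append (m := 1923) (len := 1923) rfl (gp_fwd2_a0) gp_fwd2_p1

theorem gp_fwd2_a2 : allBelow (pathPt 15 adsL cx2 gp2) 5769 = true :=
  allBelow_append (m := 3846) (len := 1923) rfl (gp_fwd2_a1) gp_fwd2_p2

theorem gp_fwd2_a3 : allBelow (pathPt 15 adsL cx2 gp2) 7692 = true :=
  allBelow_append (m := 5769) (len := 1923) rfl (gp_fwd2_a2) gp_fwd2_p3

theorem gp_fwd2_a4 : allBelow (pathPt 15 adsL cx2 gp2) 9615 = true :=
  allBelow_append (m := 7692) (len := 1923) rfl (gp_fwd2_a3) gp_fwd2_p4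

theorem gp_fwd2_a5 : allBelow (pathPt 15 adsL cx2 gp2) 11538 = true :=
  allBelow_append (m := 9615) (len := 1923) rfl (gp_fwd2_a4) gp_fwd2_p5

theorem gp_fwd2_a6 : allBelow (pathPt 15 adsL cx2 gp2) 13461 = true :=
  allBelow_append (m := 11538) (len := 1923) rfl (gp_fwd2_a5) gp_fwd2_p6

theorem gp_fwd2_a7 : allBelow (pathPt 15 adsL cx2 gp2) 15384 = true :=
  allBelow_append (m := 13461) (len := 1923) rfl (gp_fwd2_a6) gp_fwd2_p7

theorem gp_fwd2_a8 : allBelow (pathPt 15 adsL cx2 gp2) 17307 = true :=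
  allBelow_append (m := 15384) (len := 1923) rfl (gp_fwd2_a7) gp_fwd2_p8

theorem gp_fwd2_a9 : allBelow (pathPt 15 adsL cx2 gp2) 19230 = true :=
  allBelow_append (m := 17307) (len := 1923) rfl (gp_fwd2_a8) gp_fwd2_p9

theorem gp_fwd2_a10 : allBelow (pathPt 15 adsL cx2 gp2) 21153 = true :=
  allBelow_append (m := 19230) (len := 1923) rfl (gp_fwd2_a9) gp_fwd2_p10

theorem gp_fwd2_a11 : allBelow (pathPt 15 adsL cx2 gp2) 23076 = true :=
  allBelow_append (m := 21153) (len := 1923) rfl (gp_fwd2_a10) gp_fwd2_p11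

theorem gp_fwd2_a12 : allBelow (pathPt 15 adsL cx2 gp2) 24999 = true :=
  allBelow_append (m := 23076) (len := 1923) rfl (gp_fwd2_a11) gp_fwd2_p12

theorem gp_fwd2_a13 : allBelow (pathPt 15 adsL cx2 gp2) 26922 = true :=
  allBelow_append (m := 24999) (len := 1923) rfl (gp_fwd2_a12) gp_fwd2_p13

theorem gp_fwd2_a14 : allBelow (pathPt 15 adsL cx2 gp2) 28845 = true :=
  allBelow_append (m := 26922) (len := 1923) rfl (gp_fwd2_a13) gp_fwd2_p14

theorem gp_fwd2_a15 : allBelow (pathPt 15 adsL cx2 gp2) 30768 = true :=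
  allBelow_append (m := 28845) (len := 1923) rfl (gp_fwd2_a14) gp_fwd2_p15

theorem gp_fwd2_pts : allBelow (pathPt 15 adsL cx2 gp2) 31671 = true :=
  allBelow_append (m := 30768) (len := 903) rfl (gp_fwd2_a15) gp_fwd2_p16

theorem gp_fwd3_a0 : allBelow (pathPt 15 adsL cx3 gp3) 1666 = true :=
  allBelow_append (m := 0) (len := 1666) rfl (allBelow_nil _) gp_fwd3_p0

theorem gp_fwd3_a1 : allBelow (pathPt 15 adsL cx3 gp3) 3332 = true :=
  allBelow_append (m := 1666) (len := 1666) rfl (gp_fwd3_a0) gp_fwd3_p1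

theorem gp_fwd3_a2 : allBelow (pathPt 15 adsL cx3 gp3) 4998 = true :=
  allBelow_append (m := 3332) (len := 1666) rfl (gp_fwd3_a1) gp_fwd3_p2

theorem gp_fwd3_a3 : allBelow (pathPt 15 adsL cx3 gp3) 6664 = true :=
  allBelow_append (m := 4998) (len := 1666) rfl (gp_fwd3_a2) gp_fwd3_p3

theorem gp_fwd3_a4 : allBelow (pathPt 15 adsL cx3 gp3) 8330 = true :=
  allBelow_append (m := 6664) (len := 1666) rfl (gp_fwd3_a3) gp_fwd3_p4

theorem gp_fwd3_a5 : allBelow (pathPt 15 adsL cx3 gp3) 9996 = true :=
  allBelow_append (m := 8330) (len := 1666) rfl (gp_fwd3_a4) gp_fwd3_p5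

theorem gp_fwd3_a6 : allBelow (pathPt 15 adsL cx3 gp3) 11662 = true :=
  allBelow_append (m := 9996) (len := 1666) rfl (gp_fwd3_a5) gp_fwd3_p6

theorem gp_fwd3_a7 : allBelow (pathPt 15 adsL cx3 gp3) 13328 = true :=
  allBelow_append (m := 11662) (len := 1666) rfl (gp_fwd3_a6) gp_fwd3_p7

theorem gp_fwd3_a8 : allBelow (pathPt 15 adsL cx3 gp3) 14994 = true :=
  allBelow_append (m := 13328) (len := 1666) rfl (gp_fwd3_a7) gp_fwd3_p8

theorem gp_fwd3_a9 : allBelow (pathPt 15 adsL cx3 gp3) 16660 = true :=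
  allBelow_append (m := 14994) (len := 1666) rfl (gp_fwd3_a8) gp_fwd3_p9

theorem gp_fwd3_a10 : allBelow (pathPt 15 adsL cx3 gp3) 18326 = true :=
  allBelow_append (m := 16660) (len := 1666) rfl (gp_fwd3_a9) gp_fwd3_p10

theorem gp_fwd3_a11 : allBelow (pathPt 15 adsL cx3 gp3) 19992 = true :=
  allBelow_append (m := 18326) (len := 1666) rfl (gp_fwd3_a10) gp_fwd3_p11

theorem gp_fwd3_a12 : allBelow (pathPt 15 adsL cx3 gp3) 21658 = true :=
  allBelow_append (m := 19992) (len := 1666) rfl (gp_fwd3_a11) gp_fwd3_p12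

theorem gp_fwd3_a13 : allBelow (pathPt 15 adsL cx3 gp3) 23324 = true :=
  allBelow_append (m := 21658) (len := 1666) rfl (gp_fwd3_a12) gp_fwd3_p13

theorem gp_fwd3_a14 : allBelow (pathPt 15 adsL cx3 gp3) 24990 = true :=
  allBelow_append (m := 23324) (len := 1666) rfl (gp_fwd3_a13) gp_fwd3_p14

theorem gp_fwd3_a15 : allBelow (pathPt 15 adsL cx3 gp3) 26656 = true :=
  allBelow_append (m := 24990) (len := 1666) rfl (gp_fwd3_a14) gp_fwd3_p15

theorem gp_fwd3_a16 : allBelow (pathPt 15 adsL cx3 gp3) 28322 = true :=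
  allBelow_append (m := 26656) (len := 1666) rfl (gp_fwd3_a15) gp_fwd3_p16

theorem gp_fwd3_a17 : allBelow (pathPt 15 adsL cx3 gp3) 29988 = true :=
  allBelow_append (m := 28322) (len := 1666) rfl (gp_fwd3_a16) gp_fwd3_p17

theorem gp_fwd3_a18 : allBelow (pathPt 15 adsL cx3 gp3) 31654 = true :=
  allBelow_append (m := 29988) (len := 1666) rfl (gp_fwd3_a17) gp_fwd3_p18

theorem gp_fwd3_pts : allBelow (pathPt 15 adsL cx3 gp3) 31671 = true :=
  allBelow_append (m := 31654) (len := 17) rfl (gp_fwd3_a18) gp_fwd3_p19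

theorem gp_fwd4_a0 : allBelow (pathPt 15 adsL cx4 gp4) 1785 = true :=
  allBelow_append (m := 0) (len := 1785) rfl (allBelow_nil _) gp_fwd4_p0

theorem gp_fwd4_a1 : allBelow (pathPt 15 adsL cx4 gp4) 3570 = true :=
  allBelow_append (m := 1785) (len := 1785) rfl (gp_fwd4_a0) gp_fwd4_p1

theorem gp_fwd4_a2 : allBelow (pathPt 15 adsL cx4 gp4) 5355 = true :=
  allBelow_append (m := 3570) (len := 1785) rfl (gp_fwd4_a1) gp_fwd4_p2

theorem gp_fwd4_a3 : allBelow (pathPt 15 adsL cx4 gp4) 7140 = true :=
  allBelow_append (m := 5355) (len := 1785) rfl (gp_fwd4_a2) gp_fwd4_p3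

theorem gp_fwd4_a4 : allBelow (pathPt 15 adsL cx4 gp4) 8925 = true :=
  allBelow_append (m := 7140) (len := 1785) rfl (gp_fwd4_a3) gp_fwd4_p4

theorem gp_fwd4_a5 : allBelow (pathPt 15 adsL cx4 gp4) 10710 = true :=
  allBelow_append (m := 8925) (len := 1785) rfl (gp_fwd4_a4) gp_fwd4_p5

theorem gp_fwd4_a6 : allBelow (pathPt 15 adsL cx4 gp4) 12495 = true :=
  allBelow_append (m := 10710) (len := 1785) rfl (gp_fwd4_a5) gp_fwd4_p6

theorem gp_fwd4_a7 : allBelow (pathPt 15 adsL cx4 gp4) 14280 = true :=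
  allBelow_append (m := 12495) (len := 1785) rfl (gp_fwd4_a6) gp_fwd4_p7

theorem gp_fwd4_a8 : allBelow (pathPt 15 adsL cx4 gp4) 16065 = true :=
  allBelow_append (m := 14280) (len := 1785) rfl (gp_fwd4_a7) gp_fwd4_p8

theorem gp_fwd4_a9 : allBelow (pathPt 15 adsL cx4 gp4) 17850 = true :=
  allBelow_append (m := 16065) (len := 1785) rfl (gp_fwd4_a8) gp_fwd4_p9

theorem gp_fwd4_a10 : allBelow (pathPt 15 adsL cx4 gp4) 19635 = true :=
  allBelow_append (m := 17850) (len := 1785) rfl (gp_fwd4_a9) gp_fwd4_p10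

theorem gp_fwd4_a11 : allBelow (pathPt 15 adsL cx4 gp4) 21420 = true :=
  allBelow_append (m := 19635) (len := 1785) rfl (gp_fwd4_a10) gp_fwd4_p11

theorem gp_fwd4_a12 : allBelow (pathPt 15 adsL cx4 gp4) 23205 = true :=
  allBelow_append (m := 21420) (len := 1785) rfl (gp_fwd4_a11) gp_fwd4_p12

theorem gp_fwd4_a13 : allBelow (pathPt 15 adsL cx4 gp4) 24990 = true :=
  allBelow_append (m := 23205) (len := 1785) rfl (gp_fwd4_a12) gp_fwd4_p13

theorem gp_fwd4_a14 : allBelow (pathPt 15 adsL cx4 gp4) 26775 = true :=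
  allBelow_append (m := 24990) (len := 1785) rfl (gp_fwd4_a13) gp_fwd4_p14

theorem gp_fwd4_a15 : allBelow (pathPt 15 adsL cx4 gp4) 28560 = true :=
  allBelow_append (m := 26775) (len := 1785) rfl (gp_fwd4_a14) gp_fwd4_p15

theorem gp_fwd4_a16 : allBelow (pathPt 15 adsL cx4 gp4) 30345 = true :=
  allBelow_append (m := 28560) (len := 1785) rfl (gp_fwd4_a15) gp_fwd4_p16

theorem gp_fwd4_pts : allBelow (pathPt 15 adsL cx4 gp4) 31671 = true :=
  allBelow_append (m := 30345) (len := 1326) rfl (gp_fwd4_a16) gp_fwd4_p17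

theorem gp_fwd5_a0 : allBelow (pathPt 15 adsL cx5 gp5) 1923 = true :=
  allBelow_append (m := 0) (len := 1923) rfl (allBelow_nil _) gp_fwd5_p0

theorem gp_fwd5_a1 : allBelow (pathPt 15 adsL cx5 gp5) 3846 = true :=
  allBelow_append (m := 1923) (len := 1923) rfl (gp_fwd5_a0) gp_fwd5_p1

theorem gp_fwd5_a2 : allBelow (pathPt 15 adsL cx5 gp5) 5769 = true :=
  allBelow_append (m := 3846) (len := 1923) rfl (gp_fwd5_a1) gp_fwd5_p2

theorem gp_fwd5_a3 : allBelow (pathPt 15 adsL cx5 gp5) 7692 = true :=
  allBelow_append (m := 5769) (len := 1923) rfl (gp_fwd5_a2) gp_fwd5_p3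

theorem gp_fwd5_a4 : allBelow (pathPt 15 adsL cx5 gp5) 9615 = true :=
  allBelow_append (m := 7692) (len := 1923) rfl (gp_fwd5_a3) gp_fwd5_p4

theorem gp_fwd5_a5 : allBelow (pathPt 15 adsL cx5 gp5) 11538 = true :=
  allBelow_append (m := 9615) (len := 1923) rfl (gp_fwd5_a4) gp_fwd5_p5

theorem gp_fwd5_a6 : allBelow (pathPt 15 adsL cx5 gp5) 13461 = true :=
  allBelow_append (m := 11538) (len := 1923) rfl (gp_fwd5_a5) gp_fwd5_p6

theorem gp_fwd5_a7 : allBelow (pathPt 15 adsL cx5 gp5) 15384 = true :=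
  allBelow_append (m := 13461) (len := 1923) rfl (gp_fwd5_a6) gp_fwd5_p7

theorem gp_fwd5_a8 : allBelow (pathPt 15 adsL cx5 gp5) 17307 = true :=
  allBelow_append (m := 15384) (len := 1923) rfl (gp_fwd5_a7) gp_fwd5_p8

theorem gp_fwd5_a9 : allBelow (pathPt 15 adsL cx5 gp5) 19230 = true :=
  allBelow_append (m := 17307) (len := 1923) rfl (gp_fwd5_a8) gp_fwd5_p9

theorem gp_fwd5_a10 : allBelow (pathPt 15 adsL cx5 gp5) 21153 = true :=
  allBelow_append (m := 19230) (len := 1923) rfl (gp_fwd5_a9) gp_fwd5_p10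

theorem gp_fwd5_a11 : allBelow (pathPt 15 adsL cx5 gp5) 23076 = true :=
  allBelow_append (m := 21153) (len := 1923) rfl (gp_fwd5_a10) gp_fwd5_p11

theorem gp_fwd5_a12 : allBelow (pathPt 15 adsL cx5 gp5) 24999 = true :=
  allBelow_append (m := 23076) (len := 1923) rfl (gp_fwd5_a11) gp_fwd5_p12

theorem gp_fwd5_a13 : allBelow (pathPt 15 adsL cx5 gp5) 26922 = true :=
  allBelow_append (m := 24999) (len := 1923) rfl (gp_fwd5_a12) gp_fwd5_p13

theorem gp_fwd5_a14 : allBelow (pathPt 15 adsL cx5 gp5) 28845 = true :=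
  allBelow_append (m := 26922) (len := 1923) rfl (gp_fwd5_a13) gp_fwd5_p14

theorem gp_fwd5_a15 : allBelow (pathPt 15 adsL cx5 gp5) 30768 = true :=
  allBelow_append (m := 28845) (len := 1923) rfl (gp_fwd5_a14) gp_fwd5_p15

theorem gp_fwd5_pts : allBelow (pathPt 15 adsL cx5 gp5) 31671 = true :=
  allBelow_append (m := 30768) (len := 903) rfl (gp_fwd5_a15) gp_fwd5_p16

theorem gp_fwd6_a0 : allBelow (pathPt 15 adsL cx6 gp6) 1923 = true :=
  allBelow_append (m := 0) (len := 1923) rfl (allBelow_nil _) gp_fwd6_p0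

theorem gp_fwd6_a1 : allBelow (pathPt 15 adsL cx6 gp6) 3846 = true :=
  allBelow_append (m := 1923) (len := 1923) rfl (gp_fwd6_a0) gp_fwd6_p1

theorem gp_fwd6_a2 : allBelow (pathPt 15 adsL cx6 gp6) 5769 = true :=
  allBelow_append (m := 3846) (len := 1923) rfl (gp_fwd6_a1) gp_fwd6_p2

theorem gp_fwd6_a3 : allBelow (pathPt 15 adsL cx6 gp6) 7692 = true :=
  allBelow_append (m := 5769) (len := 1923) rfl (gp_fwd6_a2) gp_fwd6_p3

theorem gp_fwd6_a4 : allBelow (pathPt 15 adsL cx6 gp6) 9615 = true :=
  allBelow_append (m := 7692) (len := 1923) rfl (gp_fwd6_a3) gp_fwd6_p4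

theorem gp_fwd6_a5 : allBelow (pathPt 15 adsL cx6 gp6) 11538 = true :=
  allBelow_append (m := 9615) (len := 1923) rfl (gp_fwd6_a4) gp_fwd6_p5

theorem gp_fwd6_a6 : allBelow (pathPt 15 adsL cx6 gp6) 13461 = true :=
  allBelow_append (m := 11538) (len := 1923) rfl (gp_fwd6_a5) gp_fwd6_p6

theorem gp_fwd6_a7 : allBelow (pathPt 15 adsL cx6 gp6) 15384 = true :=
  allBelow_append (m := 13461) (len := 1923) rfl (gp_fwd6_a6) gp_fwd6_p7

theorem gp_fwd6_a8 : allBelow (pathPt 15 adsL cx6 gp6) 17307 = true :=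
  allBelow_append (m := 15384) (len := 1923) rfl (gp_fwd6_a7) gp_fwd6_p8

theorem gp_fwd6_a9 : allBelow (pathPt 15 adsL cx6 gp6) 19230 = true :=
  allBelow_append (m := 17307) (len := 1923) rfl (gp_fwd6_a8) gp_fwd6_p9

theorem gp_fwd6_a10 : allBelow (pathPt 15 adsL cx6 gp6) 21153 = true :=
  allBelow_append (m := 19230) (len := 1923) rfl (gp_fwd6_a9) gp_fwd6_p10

theorem gp_fwd6_a11 : allBelow (pathPt 15 adsL cx6 gp6) 23076 = true :=
  allBelow_append (m := 21153) (len := 1923) rfl (gp_fwd6_a10) gp_fwd6_p11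

theorem gp_fwd6_a12 : allBelow (pathPt 15 adsL cx6 gp6) 24999 = true :=
  allBelow_append (m := 23076) (len := 1923) rfl (gp_fwd6_a11) gp_fwd6_p12

theorem gp_fwd6_a13 : allBelow (pathPt 15 adsL cx6 gp6) 26922 = true :=
  allBelow_append (m := 24999) (len := 1923) rfl (gp_fwd6_a12) gp_fwd6_p13

theorem gp_fwd6_a14 : allBelow (pathPt 15 adsL cx6 gp6) 28845 = true :=
  allBelow_append (m := 26922) (len := 1923) rfl (gp_fwd6_a13) gp_fwd6_p14

theorem gp_fwd6_a15 : allBelow (pathPt 15 adsL cx6 gp6) 30768 = true :=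
  allBelow_append (m := 28845) (len := 1923) rfl (gp_fwd6_a14) gp_fwd6_p15

theorem gp_fwd6_pts : allBelow (pathPt 15 adsL cx6 gp6) 31671 = true :=
  allBelow_append (m := 30768) (len := 903) rfl (gp_fwd6_a15) gp_fwd6_p16

theorem gp_fwd7_a0 : allBelow (pathPt 15 adsL cx7 gp7) 1666 = true :=
  allBelow_append (m := 0) (len := 1666) rfl (allBelow_nil _) gp_fwd7_p0

theorem gp_fwd7_a1 : allBelow (pathPt 15 adsL cx7 gp7) 3332 = true :=
  allBelow_append (m := 1666) (len := 1666) rfl (gp_fwd7_a0) gp_fwd7_p1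

theorem gp_fwd7_a2 : allBelow (pathPt 15 adsL cx7 gp7) 4998 = true :=
  allBelow_append (m := 3332) (len := 1666) rfl (gp_fwd7_a1) gp_fwd7_p2

theorem gp_fwd7_a3 : allBelow (pathPt 15 adsL cx7 gp7) 6664 = true :=
  allBelow_append (m := 4998) (len := 1666) rfl (gp_fwd7_a2) gp_fwd7_p3

theorem gp_fwd7_a4 : allBelow (pathPt 15 adsL cx7 gp7) 8330 = true :=
  allBelow_append (m := 6664) (len := 1666) rfl (gp_fwd7_a3) gp_fwd7_p4

theorem gp_fwd7_a5 : allBelow (pathPt 15 adsL cx7 gp7) 9996 = true :=
  allBelow_append (m := 8330) (len := 1666) rfl (gp_fwd7_a4) gp_fwd7_p5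

theorem gp_fwd7_a6 : allBelow (pathPt 15 adsL cx7 gp7) 11662 = true :=
  allBelow_append (m := 9996) (len := 1666) rfl (gp_fwd7_a5) gp_fwd7_p6

theorem gp_fwd7_a7 : allBelow (pathPt 15 adsL cx7 gp7) 13328 = true :=
  allBelow_append (m := 11662) (len := 1666) rfl (gp_fwd7_a6) gp_fwd7_p7

theorem gp_fwd7_a8 : allBelow (pathPt 15 adsL cx7 gp7) 14994 = true :=
  allBelow_append (m := 13328) (len := 1666) rfl (gp_fwd7_a7) gp_fwd7_p8

theorem gp_fwd7_a9 : allBelow (pathPt 15 adsL cx7 gp7) 16660 = true :=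
  allBelow_append (m := 14994) (len := 1666) rfl (gp_fwd7_a8) gp_fwd7_p9

theorem gp_fwd7_a10 : allBelow (pathPt 15 adsL cx7 gp7) 18326 = true :=
  allBelow_append (m := 16660) (len := 1666) rfl (gp_fwd7_a9) gp_fwd7_p10

theorem gp_fwd7_a11 : allBelow (pathPt 15 adsL cx7 gp7) 19992 = true :=
  allBelow_append (m := 18326) (len := 1666) rfl (gp_fwd7_a10) gp_fwd7_p11

theorem gp_fwd7_a12 : allBelow (pathPt 15 adsL cx7 gp7) 21658 = true :=
  allBelow_append (m := 19992) (len := 1666) rfl (gp_fwd7_a11) gp_fwd7_p12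

theorem gp_fwd7_a13 : allBelow (pathPt 15 adsL cx7 gp7) 23324 = true :=
  allBelow_append (m := 21658) (len := 1666) rfl (gp_fwd7_a12) gp_fwd7_p13

theorem gp_fwd7_a14 : allBelow (pathPt 15 adsL cx7 gp7) 24990 = true :=
  allBelow_append (m := 23324) (len := 1666) rfl (gp_fwd7_a13) gp_fwd7_p14

theorem gp_fwd7_a15 : allBelow (pathPt 15 adsL cx7 gp7) 26656 = true :=
  allBelow_append (m := 24990) (len := 1666) rfl (gp_fwd7_a14) gp_fwd7_p15

theorem gp_fwd7_a16 : allBelow (pathPt 15 adsL cx7 gp7) 28322 = true :=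
  allBelow_append (m := 26656) (len := 1666) rfl (gp_fwd7_a15) gp_fwd7_p16

theorem gp_fwd7_a17 : allBelow (pathPt 15 adsL cx7 gp7) 29988 = true :=
  allBelow_append (m := 28322) (len := 1666) rfl (gp_fwd7_a16) gp_fwd7_p17

theorem gp_fwd7_a18 : allBelow (pathPt 15 adsL cx7 gp7) 31654 = true :=
  allBelow_append (m := 29988) (len := 1666) rfl (gp_fwd7_a17) gp_fwd7_p18

theorem gp_fwd7_pts : allBelow (pathPt 15 adsL cx7 gp7) 31671 = true :=
  allBelow_append (m := 31654) (len := 17) rfl (gp_fwd7_a18) gp_fwd7_p19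

theorem gp_fwd8_a0 : allBelow (pathPt 15 adsL cx8 gp8) 1785 = true :=
  allBelow_append (m := 0) (len := 1785) rfl (allBelow_nil _) gp_fwd8_p0

theorem gp_fwd8_a1 : allBelow (pathPt 15 adsL cx8 gp8) 3570 = true :=
  allBelow_append (m := 1785) (len := 1785) rfl (gp_fwd8_a0) gp_fwd8_p1

theorem gp_fwd8_a2 : allBelow (pathPt 15 adsL cx8 gp8) 5355 = true :=
  allBelow_append (m := 3570) (len := 1785) rfl (gp_fwd8_a1) gp_fwd8_p2

theorem gp_fwd8_a3 : allBelow (pathPt 15 adsL cx8 gp8) 7140 = true :=
  allBelow_append (m := 5355) (len := 1785) rfl (gp_fwd8_a2) gp_fwd8_p3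

theorem gp_fwd8_a4 : allBelow (pathPt 15 adsL cx8 gp8) 8925 = true :=
  allBelow_append (m := 7140) (len := 1785) rfl (gp_fwd8_a3) gp_fwd8_p4

theorem gp_fwd8_a5 : allBelow (pathPt 15 adsL cx8 gp8) 10710 = true :=
  allBelow_append (m := 8925) (len := 1785) rfl (gp_fwd8_a4) gp_fwd8_p5

theorem gp_fwd8_a6 : allBelow (pathPt 15 adsL cx8 gp8) 12495 = true :=
  allBelow_append (m := 10710) (len := 1785) rfl (gp_fwd8_a5) gp_fwd8_p6

theorem gp_fwd8_a7 : allBelow (pathPt 15 adsL cx8 gp8) 14280 = true :=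
  allBelow_append (m := 12495) (len := 1785) rfl (gp_fwd8_a6) gp_fwd8_p7

theorem gp_fwd8_a8 : allBelow (pathPt 15 adsL cx8 gp8) 16065 = true :=
  allBelow_append (m := 14280) (len := 1785) rfl (gp_fwd8_a7) gp_fwd8_p8

theorem gp_fwd8_a9 : allBelow (pathPt 15 adsL cx8 gp8) 17850 = true :=
  allBelow_append (m := 16065) (len := 1785) rfl (gp_fwd8_a8) gp_fwd8_p9

theorem gp_fwd8_a10 : allBelow (pathPt 15 adsL cx8 gp8) 19635 = true :=
  allBelow_append (m := 17850) (len := 1785) rfl (gp_fwd8_a9) gp_fwd8_p10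

theorem gp_fwd8_a11 : allBelow (pathPt 15 adsL cx8 gp8) 21420 = true :=
  allBelow_append (m := 19635) (len := 1785) rfl (gp_fwd8_a10) gp_fwd8_p11

theorem gp_fwd8_a12 : allBelow (pathPt 15 adsL cx8 gp8) 23205 = true :=
  allBelow_append (m := 21420) (len := 1785) rfl (gp_fwd8_a11) gp_fwd8_p12

theorem gp_fwd8_a13 : allBelow (pathPt 15 adsL cx8 gp8) 24990 = true :=
  allBelow_append (m := 23205) (len := 1785) rfl (gp_fwd8_a12) gp_fwd8_p13

theorem gp_fwd8_a14 : allBelow (pathPt 15 adsL cx8 gp8) 26775 = true :=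
  allBelow_append (m := 24990) (len := 1785) rfl (gp_fwd8_a13) gp_fwd8_p14

theorem gp_fwd8_a15 : allBelow (pathPt 15 adsL cx8 gp8) 28560 = true :=
  allBelow_append (m := 26775) (len := 1785) rfl (gp_fwd8_a14) gp_fwd8_p15

theorem gp_fwd8_a16 : allBelow (pathPt 15 adsL cx8 gp8) 30345 = true :=
  allBelow_append (m := 28560) (len := 1785) rfl (gp_fwd8_a15) gp_fwd8_p16

theorem gp_fwd8_pts : allBelow (pathPt 15 adsL cx8 gp8) 31671 = true :=
  allBelow_append (m := 30345) (len := 1326) rfl (gp_fwd8_a16) gp_fwd8_p17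

theorem gp_fwd9_a0 : allBelow (pathPt 15 adsL cx9 gp9) 1923 = true :=
  allBelow_append (m := 0) (len := 1923) rfl (allBelow_nil _) gp_fwd9_p0

theorem gp_fwd9_a1 : allBelow (pathPt 15 adsL cx9 gp9) 3846 = true :=
  allBelow_append (m := 1923) (len := 1923) rfl (gp_fwd9_a0) gp_fwd9_p1

theorem gp_fwd9_a2 : allBelow (pathPt 15 adsL cx9 gp9) 5769 = true :=
  allBelow_append (m := 3846) (len := 1923) rfl (gp_fwd9_a1) gp_fwd9_p2

theorem gp_fwd9_a3 : allBelow (pathPt 15 adsL cx9 gp9) 7692 = true :=
  allBelow_append (m := 5769) (len := 1923) rfl (gp_fwd9_a2) gp_fwd9_p3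

theorem gp_fwd9_a4 : allBelow (pathPt 15 adsL cx9 gp9) 9615 = true :=
  allBelow_append (m := 7692) (len := 1923) rfl (gp_fwd9_a3) gp_fwd9_p4

theorem gp_fwd9_a5 : allBelow (pathPt 15 adsL cx9 gp9) 11538 = true :=
  allBelow_append (m := 9615) (len := 1923) rfl (gp_fwd9_a4) gp_fwd9_p5

theorem gp_fwd9_a6 : allBelow (pathPt 15 adsL cx9 gp9) 13461 = true :=
  allBelow_append (m := 11538) (len := 1923) rfl (gp_fwd9_a5) gp_fwd9_p6

theorem gp_fwd9_a7 : allBelow (pathPt 15 adsL cx9 gp9) 15384 = true :=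
  allBelow_append (m := 13461) (len := 1923) rfl (gp_fwd9_a6) gp_fwd9_p7

theorem gp_fwd9_a8 : allBelow (pathPt 15 adsL cx9 gp9) 17307 = true :=
  allBelow_append (m := 15384) (len := 1923) rfl (gp_fwd9_a7) gp_fwd9_p8

theorem gp_fwd9_a9 : allBelow (pathPt 15 adsL cx9 gp9) 19230 = true :=
  allBelow_append (m := 17307) (len := 1923) rfl (gp_fwd9_a8) gp_fwd9_p9

theorem gp_fwd9_a10 : allBelow (pathPt 15 adsL cx9 gp9) 21153 = true :=
  allBelow_append (m := 19230) (len := 1923) rfl (gp_fwd9_a9) gp_fwd9_p10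

theorem gp_fwd9_a11 : allBelow (pathPt 15 adsL cx9 gp9) 23076 = true :=
  allBelow_append (m := 21153) (len := 1923) rfl (gp_fwd9_a10) gp_fwd9_p11

theorem gp_fwd9_a12 : allBelow (pathPt 15 adsL cx9 gp9) 24999 = true :=
  allBelow_append (m := 23076) (len := 1923) rfl (gp_fwd9_a11) gp_fwd9_p12

theorem gp_fwd9_a13 : allBelow (pathPt 15 adsL cx9 gp9) 26922 = true :=
  allBelow_append (m := 24999) (len := 1923) rfl (gp_fwd9_a12) gp_fwd9_p13

theorem gp_fwd9_a14 : allBelow (pathPt 15 adsL cx9 gp9) 28845 = true :=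
  allBelow_append (m := 26922) (len := 1923) rfl (gp_fwd9_a13) gp_fwd9_p14

theorem gp_fwd9_a15 : allBelow (pathPt 15 adsL cx9 gp9) 30768 = true :=
  allBelow_append (m := 28845) (len := 1923) rfl (gp_fwd9_a14) gp_fwd9_p15

theorem gp_fwd9_pts : allBelow (pathPt 15 adsL cx9 gp9) 31671 = true :=
  allBelow_append (m := 30768) (len := 903) rfl (gp_fwd9_a15) gp_fwd9_p16

theorem rel0_a0 : allBelow (wordIdPt 15 (relTabs (myBases.getD 0 []))) 25000 = true :=
  allBelow_append (m := 0) (len := 25000) rfl (allBelow_nil _) rel0_p0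

theorem rel0_pts : allBelow (wordIdPt 15 (relTabs (myBases.getD 0 []))) 31671 = true :=
  allBelow_append (m := 25000) (len := 6671) rfl (rel0_a0) rel0_p1

theorem rel1_a0 : allBelow (wordIdPt 15 (relTabs (myBases.getD 1 []))) 8333 = true :=
  allBelow_append (m := 0) (len := 8333) rfl (allBelow_nil _) rel1_p0

theorem rel1_a1 : allBelow (wordIdPt 15 (relTabs (myBases.getD 1 []))) 16666 = true :=
  allBelow_append (m := 8333) (len := 8333) rfl (rel1_a0) rel1_p1

theorem rel1_a2 : allBelow (wordIdPt 15 (relTabs (myBases.getD 1 []))) 24999 = true :=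
  allBelow_append (m := 16666) (len := 8333) rfl (rel1_a1) rel1_p2

theorem rel1_pts : allBelow (wordIdPt 15 (relTabs (myBases.getD 1 []))) 31671 = true :=
  allBelow_append (m := 24999) (len := 6672) rfl (rel1_a2) rel1_p3

theorem rel2_a0 : allBelow (wordIdPt 15 (relTabs (myBases.getD 2 []))) 12500 = true :=
  allBelow_append (m := 0) (len := 12500) rfl (allBelow_nil _) rel2_p0

theorem rel2_a1 : allBelow (wordIdPt 15 (relTabs (myBases.getD 2 []))) 25000 = true :=
  allBelow_append (m := 12500) (len := 12500) rfl (rel2_a0) rel2_p1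

theorem rel2_pts : allBelow (wordIdPt 15 (relTabs (myBases.getD 2 []))) 31671 = true :=
  allBelow_append (m := 25000) (len := 6671) rfl (rel2_a1) rel2_p2

theorem rel3_a0 : allBelow (wordIdPt 15 (relTabs (myBases.getD 3 []))) 12500 = true :=
  allBelow_append (m := 0) (len := 12500) rfl (allBelow_nil _) rel3_p0

theorem rel3_a1 : allBelow (wordIdPt 15 (relTabs (myBases.getD 3 []))) 25000 = true :=
  allBelow_append (m := 12500) (len := 12500) rfl (rel3_a0) rel3_p1

theorem rel3_pts : allBelow (wordIdPt 15 (relTabs (myBases.getD 3 []))) 31671 = true :=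
  allBelow_append (m := 25000) (len := 6671) rfl (rel3_a1) rel3_p2

theorem rel4_a0 : allBelow (wordIdPt 15 (relTabs (myBases.getD 4 []))) 12500 = true :=
  allBelow_append (m := 0) (len := 12500) rfl (allBelow_nil _) rel4_p0

theorem rel4_a1 : allBelow (wordIdPt 15 (relTabs (myBases.getD 4 []))) 25000 = true :=
  allBelow_append (m := 12500) (len := 12500) rfl (rel4_a0) rel4_p1

theorem rel4_pts : allBelow (wordIdPt 15 (relTabs (myBases.getD 4 []))) 31671 = true :=
  allBelow_append (m := 25000) (len := 6671) rfl (rel4_a1) rel4_p2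

theorem rel5_a0 : allBelow (wordIdPt 15 (relTabs (myBases.getD 5 []))) 12500 = true :=
  allBelow_append (m := 0) (len := 12500) rfl (allBelow_nil _) rel5_p0

theorem rel5_a1 : allBelow (wordIdPt 15 (relTabs (myBases.getD 5 []))) 25000 = true :=
  allBelow_append (m := 12500) (len := 12500) rfl (rel5_a0) rel5_p1

theorem rel5_pts : allBelow (wordIdPt 15 (relTabs (myBases.getD 5 []))) 31671 = true :=
  allBelow_append (m := 25000) (len := 6671) rfl (rel5_a1) rel5_p2

theorem rel6_a0 : allBelow (wordIdPt 15 (relTabs (myBases.getD 6 []))) 12500 = true :=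
  allBelow_append (m := 0) (len := 12500) rfl (allBelow_nil _) rel6_p0

theorem rel6_a1 : allBelow (wordIdPt 15 (relTabs (myBases.getD 6 []))) 25000 = true :=
  allBelow_append (m := 12500) (len := 12500) rfl (rel6_a0) rel6_p1

theorem rel6_pts : allBelow (wordIdPt 15 (relTabs (myBases.getD 6 []))) 31671 = true :=
  allBelow_append (m := 25000) (len := 6671) rfl (rel6_a1) rel6_p2

theorem rel7_a0 : allBelow (wordIdPt 15 (relTabs (myBases.getD 7 []))) 12500 = true :=
  allBelow_append (m := 0) (len := 12500) rfl (allBelow_nil _) rel7_p0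

theorem rel7_a1 : allBelow (wordIdPt 15 (relTabs (myBases.getD 7 []))) 25000 = true :=
  allBelow_append (m := 12500) (len := 12500) rfl (rel7_a0) rel7_p1

theorem rel7_pts : allBelow (wordIdPt 15 (relTabs (myBases.getD 7 []))) 31671 = true :=
  allBelow_append (m := 25000) (len := 6671) rfl (rel7_a1) rel7_p2

theorem rel8_a0 : allBelow (wordIdPt 15 (relTabs (myBases.getD 8 []))) 12500 = true :=
  allBelow_append (m := 0) (len := 12500) rfl (allBelow_nil _) rel8_p0

theorem rel8_a1 : allBelow (wordIdPt 15 (relTabs (myBases.getD 8 []))) 25000 = true :=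
  allBelow_append (m := 12500) (len := 12500) rfl (rel8_a0) rel8_p1

theorem rel8_pts : allBelow (wordIdPt 15 (relTabs (myBases.getD 8 []))) 31671 = true :=
  allBelow_append (m := 25000) (len := 6671) rfl (rel8_a1) rel8_p2

theorem rel9_a0 : allBelow (wordIdPt 15 (relTabs (myBases.getD 9 []))) 12500 = true :=
  allBelow_append (m := 0) (len := 12500) rfl (allBelow_nil _) rel9_p0

theorem rel9_a1 : allBelow (wordIdPt 15 (relTabs (myBases.getD 9 []))) 25000 = true :=
  allBelow_append (m := 12500) (len := 12500) rfl (rel9_a0) rel9_p1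

theorem rel9_pts : allBelow (wordIdPt 15 (relTabs (myBases.getD 9 []))) 31671 = true :=
  allBelow_append (m := 25000) (len := 6671) rfl (rel9_a1) rel9_p2

theorem rel10_a0 : allBelow (wordIdPt 15 (relTabs (myBases.getD 10 []))) 8333 = true :=
  allBelow_append (m := 0) (len := 8333) rfl (allBelow_nil _) rel10_p0

theorem rel10_a1 : allBelow (wordIdPt 15 (relTabs (myBases.getD 10 []))) 16666 = true :=
  allBelow_append (m := 8333) (len := 8333) rfl (rel10_a0) rel10_p1

theorem rel10_a2 : allBelow (wordIdPt 15 (relTabs (myBases.getD 10 []))) 24999 = true :=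
  allBelow_append (m := 16666) (len := 8333) rfl (rel10_a1) rel10_p2

theorem rel10_pts : allBelow (wordIdPt 15 (relTabs (myBases.getD 10 []))) 31671 = true :=
  allBelow_append (m := 24999) (len := 6672) rfl (rel10_a2) rel10_p3

theorem rel11_a0 : allBelow (wordIdPt 15 (relTabs (myBases.getD 11 []))) 25000 = true :=
  allBelow_append (m := 0) (len := 25000) rfl (allBelow_nil _) rel11_p0

theorem rel11_pts : allBelow (wordIdPt 15 (relTabs (myBases.getD 11 []))) 31671 = true :=
  allBelow_append (m := 25000) (len := 6671) rfl (rel11_a0) rel11_p1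

theorem rel12_a0 : allBelow (wordIdPt 15 (relTabs (myBases.getD 12 []))) 8333 = true :=
  allBelow_append (m := 0) (len := 8333) rfl (allBelow_nil _) rel12_p0

theorem rel12_a1 : allBelow (wordIdPt 15 (relTabs (myBases.getD 12 []))) 16666 = true :=
  allBelow_append (m := 8333) (len := 8333) rfl (rel12_a0) rel12_p1

theorem rel12_a2 : allBelow (wordIdPt 15 (relTabs (myBases.getD 12 []))) 24999 = true :=
  allBelow_append (m := 16666) (len := 8333) rfl (rel12_a1) rel12_p2

theorem rel12_pts : allBelow (wordIdPt 15 (relTabs (myBases.getD 12 []))) 31671 = true :=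
  allBelow_append (m := 24999) (len := 6672) rfl (rel12_a2) rel12_p3

theorem rel13_a0 : allBelow (wordIdPt 15 (relTabs (myBases.getD 13 []))) 12500 = true :=
  allBelow_append (m := 0) (len := 12500) rfl (allBelow_nil _) rel13_p0

theorem rel13_a1 : allBelow (wordIdPt 15 (relTabs (myBases.getD 13 []))) 25000 = true :=
  allBelow_append (m := 12500) (len := 12500) rfl (rel13_a0) rel13_p1

theorem rel13_pts : allBelow (wordIdPt 15 (relTabs (myBases.getD 13 []))) 31671 = true :=
  allBelow_append (m := 25000) (len := 6671) rfl (rel13_a1) rel13_p2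

theorem rel14_a0 : allBelow (wordIdPt 15 (relTabs (myBases.getD 14 []))) 12500 = true :=
  allBelow_append (m := 0) (len := 12500) rfl (allBelow_nil _) rel14_p0

theorem rel14_a1 : allBelow (wordIdPt 15 (relTabs (myBases.getD 14 []))) 25000 = true :=
  allBelow_append (m := 12500) (len := 12500) rfl (rel14_a0) rel14_p1

theorem rel14_pts : allBelow (wordIdPt 15 (relTabs (myBases.getD 14 []))) 31671 = true :=
  allBelow_append (m := 25000) (len := 6671) rfl (rel14_a1) rel14_p2

theorem rel15_a0 : allBelow (wordIdPt 15 (relTabs (myBases.getD 15 []))) 12500 = true :=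
  allBelow_append (m := 0) (len := 12500) rfl (allBelow_nil _) rel15_p0

theorem rel15_a1 : allBelow (wordIdPt 15 (relTabs (myBases.getD 15 []))) 25000 = true :=
  allBelow_append (m := 12500) (len := 12500) rfl (rel15_a0) rel15_p1

theorem rel15_pts : allBelow (wordIdPt 15 (relTabs (myBases.getD 15 []))) 31671 = true :=
  allBelow_append (m := 25000) (len := 6671) rfl (rel15_a1) rel15_p2

theorem rel16_a0 : allBelow (wordIdPt 15 (relTabs (myBases.getD 16 []))) 12500 = true :=
  allBelow_append (m := 0) (len := 12500) rfl (allBelow_nil _) rel16_p0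

theorem rel16_a1 : allBelow (wordIdPt 15 (relTabs (myBases.getD 16 []))) 25000 = true :=
  allBelow_append (m := 12500) (len := 12500) rfl (rel16_a0) rel16_p1

theorem rel16_pts : allBelow (wordIdPt 15 (relTabs (myBases.getD 16 []))) 31671 = true :=
  allBelow_append (m := 25000) (len := 6671) rfl (rel16_a1) rel16_p2

theorem rel17_a0 : allBelow (wordIdPt 15 (relTabs (myBases.getD 17 []))) 12500 = true :=
  allBelow_append (m := 0) (len := 12500) rfl (allBelow_nil _) rel17_p0

theorem rel17_a1 : allBelow (wordIdPt 15 (relTabs (myBases.getD 17 []))) 25000 = true :=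
  allBelow_append (m := 12500) (len := 12500) rfl (rel17_a0) rel17_p1

theorem rel17_pts : allBelow (wordIdPt 15 (relTabs (myBases.getD 17 []))) 31671 = true :=
  allBelow_append (m := 25000) (len := 6671) rfl (rel17_a1) rel17_p2

theorem rel18_a0 : allBelow (wordIdPt 15 (relTabs (myBases.getD 18 []))) 12500 = true :=
  allBelow_append (m := 0) (len := 12500) rfl (allBelow_nil _) rel18_p0

theorem rel18_a1 : allBelow (wordIdPt 15 (relTabs (myBases.getD 18 []))) 25000 = true :=
  allBelow_append (m := 12500) (len := 12500) rfl (rel18_a0) rel18_p1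

theorem rel18_pts : allBelow (wordIdPt 15 (relTabs (myBases.getD 18 []))) 31671 = true :=
  allBelow_append (m := 25000) (len := 6671) rfl (rel18_a1) rel18_p2

theorem rel19_a0 : allBelow (wordIdPt 15 (relTabs (myBases.getD 19 []))) 12500 = true :=
  allBelow_append (m := 0) (len := 12500) rfl (allBelow_nil _) rel19_p0

theorem rel19_a1 : allBelow (wordIdPt 15 (relTabs (myBases.getD 19 []))) 25000 = true :=
  allBelow_append (m := 12500) (len := 12500) rfl (rel19_a0) rel19_p1

theorem rel19_pts : allBelow (wordIdPt 15 (relTabs (myBases.getD 19 []))) 31671 = true :=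
  allBelow_append (m := 25000) (len := 6671) rfl (rel19_a1) rel19_p2

theorem rel20_a0 : allBelow (wordIdPt 15 (relTabs (myBases.getD 20 []))) 12500 = true :=
  allBelow_append (m := 0) (len := 12500) rfl (allBelow_nil _) rel20_p0

theorem rel20_a1 : allBelow (wordIdPt 15 (relTabs (myBases.getD 20 []))) 25000 = true :=
  allBelow_append (m := 12500) (len := 12500) rfl (rel20_a0) rel20_p1

theorem rel20_pts : allBelow (wordIdPt 15 (relTabs (myBases.getD 20 []))) 31671 = true :=
  allBelow_append (m := 25000) (len := 6671) rfl (rel20_a1) rel20_p2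

theorem rel21_a0 : allBelow (wordIdPt 15 (relTabs (myBases.getD 21 []))) 8333 = true :=
  allBelow_append (m := 0) (len := 8333) rfl (allBelow_nil _) rel21_p0

theorem rel21_a1 : allBelow (wordIdPt 15 (relTabs (myBases.getD 21 []))) 16666 = true :=
  allBelow_append (m := 8333) (len := 8333) rfl (rel21_a0) rel21_p1

theorem rel21_a2 : allBelow (wordIdPt 15 (relTabs (myBases.getD 21 []))) 24999 = true :=
  allBelow_append (m := 16666) (len := 8333) rfl (rel21_a1) rel21_p2

theorem rel21_pts : allBelow (wordIdPt 15 (relTabs (myBases.getD 21 []))) 31671 = true :=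
  allBelow_append (m := 24999) (len := 6672) rfl (rel21_a2) rel21_p3

theorem rel22_a0 : allBelow (wordIdPt 15 (relTabs (myBases.getD 22 []))) 25000 = true :=
  allBelow_append (m := 0) (len := 25000) rfl (allBelow_nil _) rel22_p0

theorem rel22_pts : allBelow (wordIdPt 15 (relTabs (myBases.getD 22 []))) 31671 = true :=
  allBelow_append (m := 25000) (len := 6671) rfl (rel22_a0) rel22_p1

theorem rel23_a0 : allBelow (wordIdPt 15 (relTabs (myBases.getD 23 []))) 8333 = true :=
  allBelow_append (m := 0) (len := 8333) rfl (allBelow_nil _) rel23_p0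

theorem rel23_a1 : allBelow (wordIdPt 15 (relTabs (myBases.getD 23 []))) 16666 = true :=
  allBelow_append (m := 8333) (len := 8333) rfl (rel23_a0) rel23_p1

theorem rel23_a2 : allBelow (wordIdPt 15 (relTabs (myBases.getD 23 []))) 24999 = true :=
  allBelow_append (m := 16666) (len := 8333) rfl (rel23_a1) rel23_p2

theorem rel23_pts : allBelow (wordIdPt 15 (relTabs (myBases.getD 23 []))) 31671 = true :=
  allBelow_append (m := 24999) (len := 6672) rfl (rel23_a2) rel23_p3

theorem rel24_a0 : allBelow (wordIdPt 15 (relTabs (myBases.getD 24 []))) 12500 = true :=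
  allBelow_append (m := 0) (len := 12500) rfl (allBelow_nil _) rel24_p0

theorem rel24_a1 : allBelow (wordIdPt 15 (relTabs (myBases.getD 24 []))) 25000 = true :=
  allBelow_append (m := 12500) (len := 12500) rfl (rel24_a0) rel24_p1

theorem rel24_pts : allBelow (wordIdPt 15 (relTabs (myBases.getD 24 []))) 31671 = true :=
  allBelow_append (m := 25000) (len := 6671) rfl (rel24_a1) rel24_p2

theorem rel25_a0 : allBelow (wordIdPt 15 (relTabs (myBases.getD 25 []))) 12500 = true :=
  allBelow_append (m := 0) (len := 12500) rfl (allBelow_nil _) rel25_p0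

theorem rel25_a1 : allBelow (wordIdPt 15 (relTabs (myBases.getD 25 []))) 25000 = true :=
  allBelow_append (m := 12500) (len := 12500) rfl (rel25_a0) rel25_p1

theorem rel25_pts : allBelow (wordIdPt 15 (relTabs (myBases.getD 25 []))) 31671 = true :=
  allBelow_append (m := 25000) (len := 6671) rfl (rel25_a1) rel25_p2

theorem rel26_a0 : allBelow (wordIdPt 15 (relTabs (myBases.getD 26 []))) 12500 = true :=
  allBelow_append (m := 0) (len := 12500) rfl (allBelow_nil _) rel26_p0

theorem rel26_a1 : allBelow (wordIdPt 15 (relTabs (myBases.getD 26 []))) 25000 = true :=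
  allBelow_append (m := 12500) (len := 12500) rfl (rel26_a0) rel26_p1

theorem rel26_pts : allBelow (wordIdPt 15 (relTabs (myBases.getD 26 []))) 31671 = true :=
  allBelow_append (m := 25000) (len := 6671) rfl (rel26_a1) rel26_p2

theorem rel27_a0 : allBelow (wordIdPt 15 (relTabs (myBases.getD 27 []))) 12500 = true :=
  allBelow_append (m := 0) (len := 12500) rfl (allBelow_nil _) rel27_p0

theorem rel27_a1 : allBelow (wordIdPt 15 (relTabs (myBases.getD 27 []))) 25000 = true :=
  allBelow_append (m := 12500) (len := 12500) rfl (rel27_a0) rel27_p1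

theorem rel27_pts : allBelow (wordIdPt 15 (relTabs (myBases.getD 27 []))) 31671 = true :=
  allBelow_append (m := 25000) (len := 6671) rfl (rel27_a1) rel27_p2

theorem rel28_a0 : allBelow (wordIdPt 15 (relTabs (myBases.getD 28 []))) 12500 = true :=
  allBelow_append (m := 0) (len := 12500) rfl (allBelow_nil _) rel28_p0

theorem rel28_a1 : allBelow (wordIdPt 15 (relTabs (myBases.getD 28 []))) 25000 = true :=
  allBelow_append (m := 12500) (len := 12500) rfl (rel28_a0) rel28_p1

theorem rel28_pts : allBelow (wordIdPt 15 (relTabs (myBases.getD 28 []))) 31671 = true :=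
  allBelow_append (m := 25000) (len := 6671) rfl (rel28_a1) rel28_p2

theorem rel29_a0 : allBelow (wordIdPt 15 (relTabs (myBases.getD 29 []))) 12500 = true :=
  allBelow_append (m := 0) (len := 12500) rfl (allBelow_nil _) rel29_p0

theorem rel29_a1 : allBelow (wordIdPt 15 (relTabs (myBases.getD 29 []))) 25000 = true :=
  allBelow_append (m := 12500) (len := 12500) rfl (rel29_a0) rel29_p1

theorem rel29_pts : allBelow (wordIdPt 15 (relTabs (myBases.getD 29 []))) 31671 = true :=
  allBelow_append (m := 25000) (len := 6671) rfl (rel29_a1) rel29_p2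

theorem rel30_a0 : allBelow (wordIdPt 15 (relTabs (myBases.getD 30 []))) 12500 = true :=
  allBelow_append (m := 0) (len := 12500) rfl (allBelow_nil _) rel30_p0

theorem rel30_a1 : allBelow (wordIdPt 15 (relTabs (myBases.getD 30 []))) 25000 = true :=
  allBelow_append (m := 12500) (len := 12500) rfl (rel30_a0) rel30_p1

theorem rel30_pts : allBelow (wordIdPt 15 (relTabs (myBases.getD 30 []))) 31671 = true :=
  allBelow_append (m := 25000) (len := 6671) rfl (rel30_a1) rel30_p2

theorem rel31_a0 : allBelow (wordIdPt 15 (relTabs (myBases.getD 31 []))) 12500 = true :=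
  allBelow_append (m := 0) (len := 12500) rfl (allBelow_nil _) rel31_p0

theorem rel31_a1 : allBelow (wordIdPt 15 (relTabs (myBases.getD 31 []))) 25000 = true :=
  allBelow_append (m := 12500) (len := 12500) rfl (rel31_a0) rel31_p1

theorem rel31_pts : allBelow (wordIdPt 15 (relTabs (myBases.getD 31 []))) 31671 = true :=
  allBelow_append (m := 25000) (len := 6671) rfl (rel31_a1) rel31_p2

theorem rel32_a0 : allBelow (wordIdPt 15 (relTabs (myBases.getD 32 []))) 8333 = true :=
  allBelow_append (m := 0) (len := 8333) rfl (allBelow_nil _) rel32_p0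

theorem rel32_a1 : allBelow (wordIdPt 15 (relTabs (myBases.getD 32 []))) 16666 = true :=
  allBelow_append (m := 8333) (len := 8333) rfl (rel32_a0) rel32_p1

theorem rel32_a2 : allBelow (wordIdPt 15 (relTabs (myBases.getD 32 []))) 24999 = true :=
  allBelow_append (m := 16666) (len := 8333) rfl (rel32_a1) rel32_p2

theorem rel32_pts : allBelow (wordIdPt 15 (relTabs (myBases.getD 32 []))) 31671 = true :=
  allBelow_append (m := 24999) (len := 6672) rfl (rel32_a2) rel32_p3

theorem rel33_a0 : allBelow (wordIdPt 15 (relTabs (myBases.getD 33 []))) 25000 = true :=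
  allBelow_append (m := 0) (len := 25000) rfl (allBelow_nil _) rel33_p0

theorem rel33_pts : allBelow (wordIdPt 15 (relTabs (myBases.getD 33 []))) 31671 = true :=
  allBelow_append (m := 25000) (len := 6671) rfl (rel33_a0) rel33_p1

theorem rel34_a0 : allBelow (wordIdPt 15 (relTabs (myBases.getD 34 []))) 8333 = true :=
  allBelow_append (m := 0) (len := 8333) rfl (allBelow_nil _) rel34_p0

theorem rel34_a1 : allBelow (wordIdPt 15 (relTabs (myBases.getD 34 []))) 16666 = true :=
  allBelow_append (m := 8333) (len := 8333) rfl (rel34_a0) rel34_p1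

theorem rel34_a2 : allBelow (wordIdPt 15 (relTabs (myBases.getD 34 []))) 24999 = true :=
  allBelow_append (m := 16666) (len := 8333) rfl (rel34_a1) rel34_p2

theorem rel34_pts : allBelow (wordIdPt 15 (relTabs (myBases.getD 34 []))) 31671 = true :=
  allBelow_append (m := 24999) (len := 6672) rfl (rel34_a2) rel34_p3

theorem rel35_a0 : allBelow (wordIdPt 15 (relTabs (myBases.getD 35 []))) 12500 = true :=
  allBelow_append (m := 0) (len := 12500) rfl (allBelow_nil _) rel35_p0

theorem rel35_a1 : allBelow (wordIdPt 15 (relTabs (myBases.getD 35 []))) 25000 = true :=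
  allBelow_append (m := 12500) (len := 12500) rfl (rel35_a0) rel35_p1

theorem rel35_pts : allBelow (wordIdPt 15 (relTabs (myBases.getD 35 []))) 31671 = true :=
  allBelow_append (m := 25000) (len := 6671) rfl (rel35_a1) rel35_p2

theorem rel36_a0 : allBelow (wordIdPt 15 (relTabs (myBases.getD 36 []))) 12500 = true :=
  allBelow_append (m := 0) (len := 12500) rfl (allBelow_nil _) rel36_p0

theorem rel36_a1 : allBelow (wordIdPt 15 (relTabs (myBases.getD 36 []))) 25000 = true :=
  allBelow_append (m := 12500) (len := 12500) rfl (rel36_a0) rel36_p1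

theorem rel36_pts : allBelow (wordIdPt 15 (relTabs (myBases.getD 36 []))) 31671 = true :=
  allBelow_append (m := 25000) (len := 6671) rfl (rel36_a1) rel36_p2

theorem rel37_a0 : allBelow (wordIdPt 15 (relTabs (myBases.getD 37 []))) 8333 = true :=
  allBelow_append (m := 0) (len := 8333) rfl (allBelow_nil _) rel37_p0

theorem rel37_a1 : allBelow (wordIdPt 15 (relTabs (myBases.getD 37 []))) 16666 = true :=
  allBelow_append (m := 8333) (len := 8333) rfl (rel37_a0) rel37_p1

theorem rel37_a2 : allBelow (wordIdPt 15 (relTabs (myBases.getD 37 []))) 24999 = true :=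
  allBelow_append (m := 16666) (len := 8333) rfl (rel37_a1) rel37_p2

theorem rel37_pts : allBelow (wordIdPt 15 (relTabs (myBases.getD 37 []))) 31671 = true :=
  allBelow_append (m := 24999) (len := 6672) rfl (rel37_a2) rel37_p3

theorem rel38_a0 : allBelow (wordIdPt 15 (relTabs (myBases.getD 38 []))) 12500 = true :=
  allBelow_append (m := 0) (len := 12500) rfl (allBelow_nil _) rel38_p0

theorem rel38_a1 : allBelow (wordIdPt 15 (relTabs (myBases.getD 38 []))) 25000 = true :=
  allBelow_append (m := 12500) (len := 12500) rfl (rel38_a0) rel38_p1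

theorem rel38_pts : allBelow (wordIdPt 15 (relTabs (myBases.getD 38 []))) 31671 = true :=
  allBelow_append (m := 25000) (len := 6671) rfl (rel38_a1) rel38_p2

theorem rel39_a0 : allBelow (wordIdPt 15 (relTabs (myBases.getD 39 []))) 12500 = true :=
  allBelow_append (m := 0) (len := 12500) rfl (allBelow_nil _) rel39_p0

theorem rel39_a1 : allBelow (wordIdPt 15 (relTabs (myBases.getD 39 []))) 25000 = true :=
  allBelow_append (m := 12500) (len := 12500) rfl (rel39_a0) rel39_p1

theorem rel39_pts : allBelow (wordIdPt 15 (relTabs (myBases.getD 39 []))) 31671 = true :=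
  allBelow_append (m := 25000) (len := 6671) rfl (rel39_a1) rel39_p2

theorem rel40_a0 : allBelow (wordIdPt 15 (relTabs (myBases.getD 40 []))) 12500 = true :=
  allBelow_append (m := 0) (len := 12500) rfl (allBelow_nil _) rel40_p0

theorem rel40_a1 : allBelow (wordIdPt 15 (relTabs (myBases.getD 40 []))) 25000 = true :=
  allBelow_append (m := 12500) (len := 12500) rfl (rel40_a0) rel40_p1

theorem rel40_pts : allBelow (wordIdPt 15 (relTabs (myBases.getD 40 []))) 31671 = true :=
  allBelow_append (m := 25000) (len := 6671) rfl (rel40_a1) rel40_p2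

theorem rel41_a0 : allBelow (wordIdPt 15 (relTabs (myBases.getD 41 []))) 12500 = true :=
  allBelow_append (m := 0) (len := 12500) rfl (allBelow_nil _) rel41_p0

theorem rel41_a1 : allBelow (wordIdPt 15 (relTabs (myBases.getD 41 []))) 25000 = true :=
  allBelow_append (m := 12500) (len := 12500) rfl (rel41_a0) rel41_p1

theorem rel41_pts : allBelow (wordIdPt 15 (relTabs (myBases.getD 41 []))) 31671 = true :=
  allBelow_append (m := 25000) (len := 6671) rfl (rel41_a1) rel41_p2

theorem rel42_a0 : allBelow (wordIdPt 15 (relTabs (myBases.getD 42 []))) 12500 = true :=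
  allBelow_append (m := 0) (len := 12500) rfl (allBelow_nil _) rel42_p0

theorem rel42_a1 : allBelow (wordIdPt 15 (relTabs (myBases.getD 42 []))) 25000 = true :=
  allBelow_append (m := 12500) (len := 12500) rfl (rel42_a0) rel42_p1

theorem rel42_pts : allBelow (wordIdPt 15 (relTabs (myBases.getD 42 []))) 31671 = true :=
  allBelow_append (m := 25000) (len := 6671) rfl (rel42_a1) rel42_p2

theorem rel43_a0 : allBelow (wordIdPt 15 (relTabs (myBases.getD 43 []))) 8333 = true :=
  allBelow_append (m := 0) (len := 8333) rfl (allBelow_nil _) rel43_p0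

theorem rel43_a1 : allBelow (wordIdPt 15 (relTabs (myBases.getD 43 []))) 16666 = true :=
  allBelow_append (m := 8333) (len := 8333) rfl (rel43_a0) rel43_p1

theorem rel43_a2 : allBelow (wordIdPt 15 (relTabs (myBases.getD 43 []))) 24999 = true :=
  allBelow_append (m := 16666) (len := 8333) rfl (rel43_a1) rel43_p2

theorem rel43_pts : allBelow (wordIdPt 15 (relTabs (myBases.getD 43 []))) 31671 = true :=
  allBelow_append (m := 24999) (len := 6672) rfl (rel43_a2) rel43_p3

theorem rel44_a0 : allBelow (wordIdPt 15 (relTabs (myBases.getD 44 []))) 25000 = true :=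
  allBelow_append (m := 0) (len := 25000) rfl (allBelow_nil _) rel44_p0

theorem rel44_pts : allBelow (wordIdPt 15 (relTabs (myBases.getD 44 []))) 31671 = true :=
  allBelow_append (m := 25000) (len := 6671) rfl (rel44_a0) rel44_p1

theorem rel45_a0 : allBelow (wordIdPt 15 (relTabs (myBases.getD 45 []))) 8333 = true :=
  allBelow_append (m := 0) (len := 8333) rfl (allBelow_nil _) rel45_p0

theorem rel45_a1 : allBelow (wordIdPt 15 (relTabs (myBases.getD 45 []))) 16666 = true :=
  allBelow_append (m := 8333) (len := 8333) rfl (rel45_a0) rel45_p1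

theorem rel45_a2 : allBelow (wordIdPt 15 (relTabs (myBases.getD 45 []))) 24999 = true :=
  allBelow_append (m := 16666) (len := 8333) rfl (rel45_a1) rel45_p2

theorem rel45_pts : allBelow (wordIdPt 15 (relTabs (myBases.getD 45 []))) 31671 = true :=
  allBelow_append (m := 24999) (len := 6672) rfl (rel45_a2) rel45_p3

theorem rel46_a0 : allBelow (wordIdPt 15 (relTabs (myBases.getD 46 []))) 12500 = true :=
  allBelow_append (m := 0) (len := 12500) rfl (allBelow_nil _) rel46_p0

theorem rel46_a1 : allBelow (wordIdPt 15 (relTabs (myBases.getD 46 []))) 25000 = true :=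
  allBelow_append (m := 12500) (len := 12500) rfl (rel46_a0) rel46_p1

theorem rel46_pts : allBelow (wordIdPt 15 (relTabs (myBases.getD 46 []))) 31671 = true :=
  allBelow_append (m := 25000) (len := 6671) rfl (rel46_a1) rel46_p2

theorem rel47_a0 : allBelow (wordIdPt 15 (relTabs (myBases.getD 47 []))) 12500 = true :=
  allBelow_append (m := 0) (len := 12500) rfl (allBelow_nil _) rel47_p0

theorem rel47_a1 : allBelow (wordIdPt 15 (relTabs (myBases.getD 47 []))) 25000 = true :=
  allBelow_append (m := 12500) (len := 12500) rfl (rel47_a0) rel47_p1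

theorem rel47_pts : allBelow (wordIdPt 15 (relTabs (myBases.getD 47 []))) 31671 = true :=
  allBelow_append (m := 25000) (len := 6671) rfl (rel47_a1) rel47_p2

theorem rel48_a0 : allBelow (wordIdPt 15 (relTabs (myBases.getD 48 []))) 12500 = true :=
  allBelow_append (m := 0) (len := 12500) rfl (allBelow_nil _) rel48_p0

theorem rel48_a1 : allBelow (wordIdPt 15 (relTabs (myBases.getD 48 []))) 25000 = true :=
  allBelow_append (m := 12500) (len := 12500) rfl (rel48_a0) rel48_p1

theorem rel48_pts : allBelow (wordIdPt 15 (relTabs (myBases.getD 48 []))) 31671 = true :=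
  allBelow_append (m := 25000) (len := 6671) rfl (rel48_a1) rel48_p2

theorem rel49_a0 : allBelow (wordIdPt 15 (relTabs (myBases.getD 49 []))) 12500 = true :=
  allBelow_append (m := 0) (len := 12500) rfl (allBelow_nil _) rel49_p0

theorem rel49_a1 : allBelow (wordIdPt 15 (relTabs (myBases.getD 49 []))) 25000 = true :=
  allBelow_append (m := 12500) (len := 12500) rfl (rel49_a0) rel49_p1

theorem rel49_pts : allBelow (wordIdPt 15 (relTabs (myBases.getD 49 []))) 31671 = true :=
  allBelow_append (m := 25000) (len := 6671) rfl (rel49_a1) rel49_p2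

theorem rel50_a0 : allBelow (wordIdPt 15 (relTabs (myBases.getD 50 []))) 12500 = true :=
  allBelow_append (m := 0) (len := 12500) rfl (allBelow_nil _) rel50_p0

theorem rel50_a1 : allBelow (wordIdPt 15 (relTabs (myBases.getD 50 []))) 25000 = true :=
  allBelow_append (m := 12500) (len := 12500) rfl (rel50_a0) rel50_p1

theorem rel50_pts : allBelow (wordIdPt 15 (relTabs (myBases.getD 50 []))) 31671 = true :=
  allBelow_append (m := 25000) (len := 6671) rfl (rel50_a1) rel50_p2

theorem rel51_a0 : allBelow (wordIdPt 15 (relTabs (myBases.getD 51 []))) 12500 = true :=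
  allBelow_append (m := 0) (len := 12500) rfl (allBelow_nil _) rel51_p0

theorem rel51_a1 : allBelow (wordIdPt 15 (relTabs (myBases.getD 51 []))) 25000 = true :=
  allBelow_append (m := 12500) (len := 12500) rfl (rel51_a0) rel51_p1

theorem rel51_pts : allBelow (wordIdPt 15 (relTabs (myBases.getD 51 []))) 31671 = true :=
  allBelow_append (m := 25000) (len := 6671) rfl (rel51_a1) rel51_p2

theorem rel52_a0 : allBelow (wordIdPt 15 (relTabs (myBases.getD 52 []))) 12500 = true :=
  allBelow_append (m := 0) (len := 12500) rfl (allBelow_nil _) rel52_p0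

theorem rel52_a1 : allBelow (wordIdPt 15 (relTabs (myBases.getD 52 []))) 25000 = true :=
  allBelow_append (m := 12500) (len := 12500) rfl (rel52_a0) rel52_p1

theorem rel52_pts : allBelow (wordIdPt 15 (relTabs (myBases.getD 52 []))) 31671 = true :=
  allBelow_append (m := 25000) (len := 6671) rfl (rel52_a1) rel52_p2

theorem rel53_a0 : allBelow (wordIdPt 15 (relTabs (myBases.getD 53 []))) 12500 = true :=
  allBelow_append (m := 0) (len := 12500) rfl (allBelow_nil _) rel53_p0

theorem rel53_a1 : allBelow (wordIdPt 15 (relTabs (myBases.getD 53 []))) 25000 = true :=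
  allBelow_append (m := 12500) (len := 12500) rfl (rel53_a0) rel53_p1

theorem rel53_pts : allBelow (wordIdPt 15 (relTabs (myBases.getD 53 []))) 31671 = true :=
  allBelow_append (m := 25000) (len := 6671) rfl (rel53_a1) rel53_p2

theorem rel54_a0 : allBelow (wordIdPt 15 (relTabs (myBases.getD 54 []))) 8333 = true :=
  allBelow_append (m := 0) (len := 8333) rfl (allBelow_nil _) rel54_p0

theorem rel54_a1 : allBelow (wordIdPt 15 (relTabs (myBases.getD 54 []))) 16666 = true :=
  allBelow_append (m := 8333) (len := 8333) rfl (rel54_a0) rel54_p1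

theorem rel54_a2 : allBelow (wordIdPt 15 (relTabs (myBases.getD 54 []))) 24999 = true :=
  allBelow_append (m := 16666) (len := 8333) rfl (rel54_a1) rel54_p2

theorem rel54_pts : allBelow (wordIdPt 15 (relTabs (myBases.getD 54 []))) 31671 = true :=
  allBelow_append (m := 24999) (len := 6672) rfl (rel54_a2) rel54_p3

theorem rel55_a0 : allBelow (wordIdPt 15 (relTabs (myBases.getD 55 []))) 25000 = true :=
  allBelow_append (m := 0) (len := 25000) rfl (allBelow_nil _) rel55_p0

theorem rel55_pts : allBelow (wordIdPt 15 (relTabs (myBases.getD 55 []))) 31671 = true :=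
  allBelow_append (m := 25000) (len := 6671) rfl (rel55_a0) rel55_p1

theorem rel56_a0 : allBelow (wordIdPt 15 (relTabs (myBases.getD 56 []))) 8333 = true :=
  allBelow_append (m := 0) (len := 8333) rfl (allBelow_nil _) rel56_p0

theorem rel56_a1 : allBelow (wordIdPt 15 (relTabs (myBases.getD 56 []))) 16666 = true :=
  allBelow_append (m := 8333) (len := 8333) rfl (rel56_a0) rel56_p1

theorem rel56_a2 : allBelow (wordIdPt 15 (relTabs (myBases.getD 56 []))) 24999 = true :=
  allBelow_append (m := 16666) (len := 8333) rfl (rel56_a1) rel56_p2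

theorem rel56_pts : allBelow (wordIdPt 15 (relTabs (myBases.getD 56 []))) 31671 = true :=
  allBelow_append (m := 24999) (len := 6672) rfl (rel56_a2) rel56_p3

theorem rel57_a0 : allBelow (wordIdPt 15 (relTabs (myBases.getD 57 []))) 12500 = true :=
  allBelow_append (m := 0) (len := 12500) rfl (allBelow_nil _) rel57_p0

theorem rel57_a1 : allBelow (wordIdPt 15 (relTabs (myBases.getD 57 []))) 25000 = true :=
  allBelow_append (m := 12500) (len := 12500) rfl (rel57_a0) rel57_p1

theorem rel57_pts : allBelow (wordIdPt 15 (relTabs (myBases.getD 57 []))) 31671 = true :=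
  allBelow_append (m := 25000) (len := 6671) rfl (rel57_a1) rel57_p2

theorem rel58_a0 : allBelow (wordIdPt 15 (relTabs (myBases.getD 58 []))) 12500 = true :=
  allBelow_append (m := 0) (len := 12500) rfl (allBelow_nil _) rel58_p0

theorem rel58_a1 : allBelow (wordIdPt 15 (relTabs (myBases.getD 58 []))) 25000 = true :=
  allBelow_append (m := 12500) (len := 12500) rfl (rel58_a0) rel58_p1

theorem rel58_pts : allBelow (wordIdPt 15 (relTabs (myBases.getD 58 []))) 31671 = true :=
  allBelow_append (m := 25000) (len := 6671) rfl (rel58_a1) rel58_p2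

theorem rel59_a0 : allBelow (wordIdPt 15 (relTabs (myBases.getD 59 []))) 12500 = true :=
  allBelow_append (m := 0) (len := 12500) rfl (allBelow_nil _) rel59_p0

theorem rel59_a1 : allBelow (wordIdPt 15 (relTabs (myBases.getD 59 []))) 25000 = true :=
  allBelow_append (m := 12500) (len := 12500) rfl (rel59_a0) rel59_p1

theorem rel59_pts : allBelow (wordIdPt 15 (relTabs (myBases.getD 59 []))) 31671 = true :=
  allBelow_append (m := 25000) (len := 6671) rfl (rel59_a1) rel59_p2

theorem rel60_a0 : allBelow (wordIdPt 15 (relTabs (myBases.getD 60 []))) 12500 = true :=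
  allBelow_append (m := 0) (len := 12500) rfl (allBelow_nil _) rel60_p0

theorem rel60_a1 : allBelow (wordIdPt 15 (relTabs (myBases.getD 60 []))) 25000 = true :=
  allBelow_append (m := 12500) (len := 12500) rfl (rel60_a0) rel60_p1

theorem rel60_pts : allBelow (wordIdPt 15 (relTabs (myBases.getD 60 []))) 31671 = true :=
  allBelow_append (m := 25000) (len := 6671) rfl (rel60_a1) rel60_p2

theorem rel61_a0 : allBelow (wordIdPt 15 (relTabs (myBases.getD 61 []))) 12500 = true :=
  allBelow_append (m := 0) (len := 12500) rfl (allBelow_nil _) rel61_p0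

theorem rel61_a1 : allBelow (wordIdPt 15 (relTabs (myBases.getD 61 []))) 25000 = true :=
  allBelow_append (m := 12500) (len := 12500) rfl (rel61_a0) rel61_p1

theorem rel61_pts : allBelow (wordIdPt 15 (relTabs (myBases.getD 61 []))) 31671 = true :=
  allBelow_append (m := 25000) (len := 6671) rfl (rel61_a1) rel61_p2

theorem rel62_a0 : allBelow (wordIdPt 15 (relTabs (myBases.getD 62 []))) 12500 = true :=
  allBelow_append (m := 0) (len := 12500) rfl (allBelow_nil _) rel62_p0

theorem rel62_a1 : allBelow (wordIdPt 15 (relTabs (myBases.getD 62 []))) 25000 = true :=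
  allBelow_append (m := 12500) (len := 12500) rfl (rel62_a0) rel62_p1

theorem rel62_pts : allBelow (wordIdPt 15 (relTabs (myBases.getD 62 []))) 31671 = true :=
  allBelow_append (m := 25000) (len := 6671) rfl (rel62_a1) rel62_p2

theorem rel63_a0 : allBelow (wordIdPt 15 (relTabs (myBases.getD 63 []))) 12500 = true :=
  allBelow_append (m := 0) (len := 12500) rfl (allBelow_nil _) rel63_p0

theorem rel63_a1 : allBelow (wordIdPt 15 (relTabs (myBases.getD 63 []))) 25000 = true :=
  allBelow_append (m := 12500) (len := 12500) rfl (rel63_a0) rel63_p1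

theorem rel63_pts : allBelow (wordIdPt 15 (relTabs (myBases.getD 63 []))) 31671 = true :=
  allBelow_append (m := 25000) (len := 6671) rfl (rel63_a1) rel63_p2

theorem rel64_a0 : allBelow (wordIdPt 15 (relTabs (myBases.getD 64 []))) 12500 = true :=
  allBelow_append (m := 0) (len := 12500) rfl (allBelow_nil _) rel64_p0

theorem rel64_a1 : allBelow (wordIdPt 15 (relTabs (myBases.getD 64 []))) 25000 = true :=
  allBelow_append (m := 12500) (len := 12500) rfl (rel64_a0) rel64_p1

theorem rel64_pts : allBelow (wordIdPt 15 (relTabs (myBases.getD 64 []))) 31671 = true :=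
  allBelow_append (m := 25000) (len := 6671) rfl (rel64_a1) rel64_p2

theorem rel65_a0 : allBelow (wordIdPt 15 (relTabs (myBases.getD 65 []))) 8333 = true :=
  allBelow_append (m := 0) (len := 8333) rfl (allBelow_nil _) rel65_p0

theorem rel65_a1 : allBelow (wordIdPt 15 (relTabs (myBases.getD 65 []))) 16666 = true :=
  allBelow_append (m := 8333) (len := 8333) rfl (rel65_a0) rel65_p1

theorem rel65_a2 : allBelow (wordIdPt 15 (relTabs (myBases.getD 65 []))) 24999 = true :=
  allBelow_append (m := 16666) (len := 8333) rfl (rel65_a1) rel65_p2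

theorem rel65_pts : allBelow (wordIdPt 15 (relTabs (myBases.getD 65 []))) 31671 = true :=
  allBelow_append (m := 24999) (len := 6672) rfl (rel65_a2) rel65_p3

theorem rel66_a0 : allBelow (wordIdPt 15 (relTabs (myBases.getD 66 []))) 25000 = true :=
  allBelow_append (m := 0) (len := 25000) rfl (allBelow_nil _) rel66_p0

theorem rel66_pts : allBelow (wordIdPt 15 (relTabs (myBases.getD 66 []))) 31671 = true :=
  allBelow_append (m := 25000) (len := 6671) rfl (rel66_a0) rel66_p1

theorem rel67_a0 : allBelow (wordIdPt 15 (relTabs (myBases.getD 67 []))) 12500 = true :=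
  allBelow_append (m := 0) (len := 12500) rfl (allBelow_nil _) rel67_p0

theorem rel67_a1 : allBelow (wordIdPt 15 (relTabs (myBases.getD 67 []))) 25000 = true :=
  allBelow_append (m := 12500) (len := 12500) rfl (rel67_a0) rel67_p1

theorem rel67_pts : allBelow (wordIdPt 15 (relTabs (myBases.getD 67 []))) 31671 = true :=
  allBelow_append (m := 25000) (len := 6671) rfl (rel67_a1) rel67_p2

theorem rel68_a0 : allBelow (wordIdPt 15 (relTabs (myBases.getD 68 []))) 8333 = true :=
  allBelow_append (m := 0) (len := 8333) rfl (allBelow_nil _) rel68_p0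

theorem rel68_a1 : allBelow (wordIdPt 15 (relTabs (myBases.getD 68 []))) 16666 = true :=
  allBelow_append (m := 8333) (len := 8333) rfl (rel68_a0) rel68_p1

theorem rel68_a2 : allBelow (wordIdPt 15 (relTabs (myBases.getD 68 []))) 24999 = true :=
  allBelow_append (m := 16666) (len := 8333) rfl (rel68_a1) rel68_p2

theorem rel68_pts : allBelow (wordIdPt 15 (relTabs (myBases.getD 68 []))) 31671 = true :=
  allBelow_append (m := 24999) (len := 6672) rfl (rel68_a2) rel68_p3

theorem rel69_a0 : allBelow (wordIdPt 15 (relTabs (myBases.getD 69 []))) 12500 = true :=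
  allBelow_append (m := 0) (len := 12500) rfl (allBelow_nil _) rel69_p0

theorem rel69_a1 : allBelow (wordIdPt 15 (relTabs (myBases.getD 69 []))) 25000 = true :=
  allBelow_append (m := 12500) (len := 12500) rfl (rel69_a0) rel69_p1

theorem rel69_pts : allBelow (wordIdPt 15 (relTabs (myBases.getD 69 []))) 31671 = true :=
  allBelow_append (m := 25000) (len := 6671) rfl (rel69_a1) rel69_p2

theorem rel70_a0 : allBelow (wordIdPt 15 (relTabs (myBases.getD 70 []))) 12500 = true :=
  allBelow_append (m := 0) (len := 12500) rfl (allBelow_nil _) rel70_p0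

theorem rel70_a1 : allBelow (wordIdPt 15 (relTabs (myBases.getD 70 []))) 25000 = true :=
  allBelow_append (m := 12500) (len := 12500) rfl (rel70_a0) rel70_p1

theorem rel70_pts : allBelow (wordIdPt 15 (relTabs (myBases.getD 70 []))) 31671 = true :=
  allBelow_append (m := 25000) (len := 6671) rfl (rel70_a1) rel70_p2

theorem rel71_a0 : allBelow (wordIdPt 15 (relTabs (myBases.getD 71 []))) 12500 = true :=
  allBelow_append (m := 0) (len := 12500) rfl (allBelow_nil _) rel71_p0

theorem rel71_a1 : allBelow (wordIdPt 15 (relTabs (myBases.getD 71 []))) 25000 = true :=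
  allBelow_append (m := 12500) (len := 12500) rfl (rel71_a0) rel71_p1

theorem rel71_pts : allBelow (wordIdPt 15 (relTabs (myBases.getD 71 []))) 31671 = true :=
  allBelow_append (m := 25000) (len := 6671) rfl (rel71_a1) rel71_p2

theorem rel72_a0 : allBelow (wordIdPt 15 (relTabs (myBases.getD 72 []))) 12500 = true :=
  allBelow_append (m := 0) (len := 12500) rfl (allBelow_nil _) rel72_p0

theorem rel72_a1 : allBelow (wordIdPt 15 (relTabs (myBases.getD 72 []))) 25000 = true :=
  allBelow_append (m := 12500) (len := 12500) rfl (rel72_a0) rel72_p1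

theorem rel72_pts : allBelow (wordIdPt 15 (relTabs (myBases.getD 72 []))) 31671 = true :=
  allBelow_append (m := 25000) (len := 6671) rfl (rel72_a1) rel72_p2

theorem rel73_a0 : allBelow (wordIdPt 15 (relTabs (myBases.getD 73 []))) 8333 = true :=
  allBelow_append (m := 0) (len := 8333) rfl (allBelow_nil _) rel73_p0

theorem rel73_a1 : allBelow (wordIdPt 15 (relTabs (myBases.getD 73 []))) 16666 = true :=
  allBelow_append (m := 8333) (len := 8333) rfl (rel73_a0) rel73_p1

theorem rel73_a2 : allBelow (wordIdPt 15 (relTabs (myBases.getD 73 []))) 24999 = true :=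
  allBelow_append (m := 16666) (len := 8333) rfl (rel73_a1) rel73_p2

theorem rel73_pts : allBelow (wordIdPt 15 (relTabs (myBases.getD 73 []))) 31671 = true :=
  allBelow_append (m := 24999) (len := 6672) rfl (rel73_a2) rel73_p3

theorem rel74_a0 : allBelow (wordIdPt 15 (relTabs (myBases.getD 74 []))) 12500 = true :=
  allBelow_append (m := 0) (len := 12500) rfl (allBelow_nil _) rel74_p0

theorem rel74_a1 : allBelow (wordIdPt 15 (relTabs (myBases.getD 74 []))) 25000 = true :=
  allBelow_append (m := 12500) (len := 12500) rfl (rel74_a0) rel74_p1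

theorem rel74_pts : allBelow (wordIdPt 15 (relTabs (myBases.getD 74 []))) 31671 = true :=
  allBelow_append (m := 25000) (len := 6671) rfl (rel74_a1) rel74_p2

theorem rel75_a0 : allBelow (wordIdPt 15 (relTabs (myBases.getD 75 []))) 12500 = true :=
  allBelow_append (m := 0) (len := 12500) rfl (allBelow_nil _) rel75_p0

theorem rel75_a1 : allBelow (wordIdPt 15 (relTabs (myBases.getD 75 []))) 25000 = true :=
  allBelow_append (m := 12500) (len := 12500) rfl (rel75_a0) rel75_p1

theorem rel75_pts : allBelow (wordIdPt 15 (relTabs (myBases.getD 75 []))) 31671 = true :=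
  allBelow_append (m := 25000) (len := 6671) rfl (rel75_a1) rel75_p2

theorem rel76_a0 : allBelow (wordIdPt 15 (relTabs (myBases.getD 76 []))) 12500 = true :=
  allBelow_append (m := 0) (len := 12500) rfl (allBelow_nil _) rel76_p0

theorem rel76_a1 : allBelow (wordIdPt 15 (relTabs (myBases.getD 76 []))) 25000 = true :=
  allBelow_append (m := 12500) (len := 12500) rfl (rel76_a0) rel76_p1

theorem rel76_pts : allBelow (wordIdPt 15 (relTabs (myBases.getD 76 []))) 31671 = true :=
  allBelow_append (m := 25000) (len := 6671) rfl (rel76_a1) rel76_p2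

theorem rel77_a0 : allBelow (wordIdPt 15 (relTabs (myBases.getD 77 []))) 25000 = true :=
  allBelow_append (m := 0) (len := 25000) rfl (allBelow_nil _) rel77_p0

theorem rel77_pts : allBelow (wordIdPt 15 (relTabs (myBases.getD 77 []))) 31671 = true :=
  allBelow_append (m := 25000) (len := 6671) rfl (rel77_a0) rel77_p1

theorem rel78_a0 : allBelow (wordIdPt 15 (relTabs (myBases.getD 78 []))) 12500 = true :=
  allBelow_append (m := 0) (len := 12500) rfl (allBelow_nil _) rel78_p0

theorem rel78_a1 : allBelow (wordIdPt 15 (relTabs (myBases.getD 78 []))) 25000 = true :=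
  allBelow_append (m := 12500) (len := 12500) rfl (rel78_a0) rel78_p1

theorem rel78_pts : allBelow (wordIdPt 15 (relTabs (myBases.getD 78 []))) 31671 = true :=
  allBelow_append (m := 25000) (len := 6671) rfl (rel78_a1) rel78_p2

theorem rel79_a0 : allBelow (wordIdPt 15 (relTabs (myBases.getD 79 []))) 8333 = true :=
  allBelow_append (m := 0) (len := 8333) rfl (allBelow_nil _) rel79_p0

theorem rel79_a1 : allBelow (wordIdPt 15 (relTabs (myBases.getD 79 []))) 16666 = true :=
  allBelow_append (m := 8333) (len := 8333) rfl (rel79_a0) rel79_p1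

theorem rel79_a2 : allBelow (wordIdPt 15 (relTabs (myBases.getD 79 []))) 24999 = true :=
  allBelow_append (m := 16666) (len := 8333) rfl (rel79_a1) rel79_p2

theorem rel79_pts : allBelow (wordIdPt 15 (relTabs (myBases.getD 79 []))) 31671 = true :=
  allBelow_append (m := 24999) (len := 6672) rfl (rel79_a2) rel79_p3

theorem rel80_a0 : allBelow (wordIdPt 15 (relTabs (myBases.getD 80 []))) 12500 = true :=
  allBelow_append (m := 0) (len := 12500) rfl (allBelow_nil _) rel80_p0

theorem rel80_a1 : allBelow (wordIdPt 15 (relTabs (myBases.getD 80 []))) 25000 = true :=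
  allBelow_append (m := 12500) (len := 12500) rfl (rel80_a0) rel80_p1

theorem rel80_pts : allBelow (wordIdPt 15 (relTabs (myBases.getD 80 []))) 31671 = true :=
  allBelow_append (m := 25000) (len := 6671) rfl (rel80_a1) rel80_p2

theorem rel81_a0 : allBelow (wordIdPt 15 (relTabs (myBases.getD 81 []))) 12500 = true :=
  allBelow_append (m := 0) (len := 12500) rfl (allBelow_nil _) rel81_p0

theorem rel81_a1 : allBelow (wordIdPt 15 (relTabs (myBases.getD 81 []))) 25000 = true :=
  allBelow_append (m := 12500) (len := 12500) rfl (rel81_a0) rel81_p1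

theorem rel81_pts : allBelow (wordIdPt 15 (relTabs (myBases.getD 81 []))) 31671 = true :=
  allBelow_append (m := 25000) (len := 6671) rfl (rel81_a1) rel81_p2

theorem rel82_a0 : allBelow (wordIdPt 15 (relTabs (myBases.getD 82 []))) 12500 = true :=
  allBelow_append (m := 0) (len := 12500) rfl (allBelow_nil _) rel82_p0

theorem rel82_a1 : allBelow (wordIdPt 15 (relTabs (myBases.getD 82 []))) 25000 = true :=
  allBelow_append (m := 12500) (len := 12500) rfl (rel82_a0) rel82_p1

theorem rel82_pts : allBelow (wordIdPt 15 (relTabs (myBases.getD 82 []))) 31671 = true :=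
  allBelow_append (m := 25000) (len := 6671) rfl (rel82_a1) rel82_p2

theorem rel83_a0 : allBelow (wordIdPt 15 (relTabs (myBases.getD 83 []))) 12500 = true :=
  allBelow_append (m := 0) (len := 12500) rfl (allBelow_nil _) rel83_p0

theorem rel83_a1 : allBelow (wordIdPt 15 (relTabs (myBases.getD 83 []))) 25000 = true :=
  allBelow_append (m := 12500) (len := 12500) rfl (rel83_a0) rel83_p1

theorem rel83_pts : allBelow (wordIdPt 15 (relTabs (myBases.getD 83 []))) 31671 = true :=
  allBelow_append (m := 25000) (len := 6671) rfl (rel83_a1) rel83_p2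

theorem rel84_a0 : allBelow (wordIdPt 15 (relTabs (myBases.getD 84 []))) 12500 = true :=
  allBelow_append (m := 0) (len := 12500) rfl (allBelow_nil _) rel84_p0

theorem rel84_a1 : allBelow (wordIdPt 15 (relTabs (myBases.getD 84 []))) 25000 = true :=
  allBelow_append (m := 12500) (len := 12500) rfl (rel84_a0) rel84_p1

theorem rel84_pts : allBelow (wordIdPt 15 (relTabs (myBases.getD 84 []))) 31671 = true :=
  allBelow_append (m := 25000) (len := 6671) rfl (rel84_a1) rel84_p2

theorem rel85_a0 : allBelow (wordIdPt 15 (relTabs (myBases.getD 85 []))) 12500 = true :=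
  allBelow_append (m := 0) (len := 12500) rfl (allBelow_nil _) rel85_p0

theorem rel85_a1 : allBelow (wordIdPt 15 (relTabs (myBases.getD 85 []))) 25000 = true :=
  allBelow_append (m := 12500) (len := 12500) rfl (rel85_a0) rel85_p1

theorem rel85_pts : allBelow (wordIdPt 15 (relTabs (myBases.getD 85 []))) 31671 = true :=
  allBelow_append (m := 25000) (len := 6671) rfl (rel85_a1) rel85_p2

theorem rel86_a0 : allBelow (wordIdPt 15 (relTabs (myBases.getD 86 []))) 8333 = true :=
  allBelow_append (m := 0) (len := 8333) rfl (allBelow_nil _) rel86_p0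

theorem rel86_a1 : allBelow (wordIdPt 15 (relTabs (myBases.getD 86 []))) 16666 = true :=
  allBelow_append (m := 8333) (len := 8333) rfl (rel86_a0) rel86_p1

theorem rel86_a2 : allBelow (wordIdPt 15 (relTabs (myBases.getD 86 []))) 24999 = true :=
  allBelow_append (m := 16666) (len := 8333) rfl (rel86_a1) rel86_p2

theorem rel86_pts : allBelow (wordIdPt 15 (relTabs (myBases.getD 86 []))) 31671 = true :=
  allBelow_append (m := 24999) (len := 6672) rfl (rel86_a2) rel86_p3

theorem rel87_a0 : allBelow (wordIdPt 15 (relTabs (myBases.getD 87 []))) 12500 = true :=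
  allBelow_append (m := 0) (len := 12500) rfl (allBelow_nil _) rel87_p0

theorem rel87_a1 : allBelow (wordIdPt 15 (relTabs (myBases.getD 87 []))) 25000 = true :=
  allBelow_append (m := 12500) (len := 12500) rfl (rel87_a0) rel87_p1

theorem rel87_pts : allBelow (wordIdPt 15 (relTabs (myBases.getD 87 []))) 31671 = true :=
  allBelow_append (m := 25000) (len := 6671) rfl (rel87_a1) rel87_p2

theorem rel88_a0 : allBelow (wordIdPt 15 (relTabs (myBases.getD 88 []))) 25000 = true :=
  allBelow_append (m := 0) (len := 25000) rfl (allBelow_nil _) rel88_p0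

theorem rel88_pts : allBelow (wordIdPt 15 (relTabs (myBases.getD 88 []))) 31671 = true :=
  allBelow_append (m := 25000) (len := 6671) rfl (rel88_a0) rel88_p1

theorem rel89_a0 : allBelow (wordIdPt 15 (relTabs (myBases.getD 89 []))) 12500 = true :=
  allBelow_append (m := 0) (len := 12500) rfl (allBelow_nil _) rel89_p0

theorem rel89_a1 : allBelow (wordIdPt 15 (relTabs (myBases.getD 89 []))) 25000 = true :=
  allBelow_append (m := 12500) (len := 12500) rfl (rel89_a0) rel89_p1

theorem rel89_pts : allBelow (wordIdPt 15 (relTabs (myBases.getD 89 []))) 31671 = true :=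
  allBelow_append (m := 25000) (len := 6671) rfl (rel89_a1) rel89_p2

theorem rel90_a0 : allBelow (wordIdPt 15 (relTabs (myBases.getD 90 []))) 12500 = true :=
  allBelow_append (m := 0) (len := 12500) rfl (allBelow_nil _) rel90_p0

theorem rel90_a1 : allBelow (wordIdPt 15 (relTabs (myBases.getD 90 []))) 25000 = true :=
  allBelow_append (m := 12500) (len := 12500) rfl (rel90_a0) rel90_p1

theorem rel90_pts : allBelow (wordIdPt 15 (relTabs (myBases.getD 90 []))) 31671 = true :=
  allBelow_append (m := 25000) (len := 6671) rfl (rel90_a1) rel90_p2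

theorem rel91_a0 : allBelow (wordIdPt 15 (relTabs (myBases.getD 91 []))) 12500 = true :=
  allBelow_append (m := 0) (len := 12500) rfl (allBelow_nil _) rel91_p0

theorem rel91_a1 : allBelow (wordIdPt 15 (relTabs (myBases.getD 91 []))) 25000 = true :=
  allBelow_append (m := 12500) (len := 12500) rfl (rel91_a0) rel91_p1

theorem rel91_pts : allBelow (wordIdPt 15 (relTabs (myBases.getD 91 []))) 31671 = true :=
  allBelow_append (m := 25000) (len := 6671) rfl (rel91_a1) rel91_p2

theorem rel92_a0 : allBelow (wordIdPt 15 (relTabs (myBases.getD 92 []))) 12500 = true :=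
  allBelow_append (m := 0) (len := 12500) rfl (allBelow_nil _) rel92_p0

theorem rel92_a1 : allBelow (wordIdPt 15 (relTabs (myBases.getD 92 []))) 25000 = true :=
  allBelow_append (m := 12500) (len := 12500) rfl (rel92_a0) rel92_p1

theorem rel92_pts : allBelow (wordIdPt 15 (relTabs (myBases.getD 92 []))) 31671 = true :=
  allBelow_append (m := 25000) (len := 6671) rfl (rel92_a1) rel92_p2

theorem rel93_a0 : allBelow (wordIdPt 15 (relTabs (myBases.getD 93 []))) 12500 = true :=
  allBelow_append (m := 0) (len := 12500) rfl (allBelow_nil _) rel93_p0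

theorem rel93_a1 : allBelow (wordIdPt 15 (relTabs (myBases.getD 93 []))) 25000 = true :=
  allBelow_append (m := 12500) (len := 12500) rfl (rel93_a0) rel93_p1

theorem rel93_pts : allBelow (wordIdPt 15 (relTabs (myBases.getD 93 []))) 31671 = true :=
  allBelow_append (m := 25000) (len := 6671) rfl (rel93_a1) rel93_p2

theorem rel94_a0 : allBelow (wordIdPt 15 (relTabs (myBases.getD 94 []))) 12500 = true :=
  allBelow_append (m := 0) (len := 12500) rfl (allBelow_nil _) rel94_p0

theorem rel94_a1 : allBelow (wordIdPt 15 (relTabs (myBases.getD 94 []))) 25000 = true :=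
  allBelow_append (m := 12500) (len := 12500) rfl (rel94_a0) rel94_p1

theorem rel94_pts : allBelow (wordIdPt 15 (relTabs (myBases.getD 94 []))) 31671 = true :=
  allBelow_append (m := 25000) (len := 6671) rfl (rel94_a1) rel94_p2

theorem rel95_a0 : allBelow (wordIdPt 15 (relTabs (myBases.getD 95 []))) 12500 = true :=
  allBelow_append (m := 0) (len := 12500) rfl (allBelow_nil _) rel95_p0

theorem rel95_a1 : allBelow (wordIdPt 15 (relTabs (myBases.getD 95 []))) 25000 = true :=
  allBelow_append (m := 12500) (len := 12500) rfl (rel95_a0) rel95_p1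

theorem rel95_pts : allBelow (wordIdPt 15 (relTabs (myBases.getD 95 []))) 31671 = true :=
  allBelow_append (m := 25000) (len := 6671) rfl (rel95_a1) rel95_p2

theorem rel96_a0 : allBelow (wordIdPt 15 (relTabs (myBases.getD 96 []))) 12500 = true :=
  allBelow_append (m := 0) (len := 12500) rfl (allBelow_nil _) rel96_p0

theorem rel96_a1 : allBelow (wordIdPt 15 (relTabs (myBases.getD 96 []))) 25000 = true :=
  allBelow_append (m := 12500) (len := 12500) rfl (rel96_a0) rel96_p1

theorem rel96_pts : allBelow (wordIdPt 15 (relTabs (myBases.getD 96 []))) 31671 = true :=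
  allBelow_append (m := 25000) (len := 6671) rfl (rel96_a1) rel96_p2

theorem rel97_a0 : allBelow (wordIdPt 15 (relTabs (myBases.getD 97 []))) 8333 = true :=
  allBelow_append (m := 0) (len := 8333) rfl (allBelow_nil _) rel97_p0

theorem rel97_a1 : allBelow (wordIdPt 15 (relTabs (myBases.getD 97 []))) 16666 = true :=
  allBelow_append (m := 8333) (len := 8333) rfl (rel97_a0) rel97_p1

theorem rel97_a2 : allBelow (wordIdPt 15 (relTabs (myBases.getD 97 []))) 24999 = true :=
  allBelow_append (m := 16666) (len := 8333) rfl (rel97_a1) rel97_p2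

theorem rel97_pts : allBelow (wordIdPt 15 (relTabs (myBases.getD 97 []))) 31671 = true :=
  allBelow_append (m := 24999) (len := 6672) rfl (rel97_a2) rel97_p3

theorem rel98_a0 : allBelow (wordIdPt 15 (relTabs (myBases.getD 98 []))) 12500 = true :=
  allBelow_append (m := 0) (len := 12500) rfl (allBelow_nil _) rel98_p0

theorem rel98_a1 : allBelow (wordIdPt 15 (relTabs (myBases.getD 98 []))) 25000 = true :=
  allBelow_append (m := 12500) (len := 12500) rfl (rel98_a0) rel98_p1

theorem rel98_pts : allBelow (wordIdPt 15 (relTabs (myBases.getD 98 []))) 31671 = true :=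
  allBelow_append (m := 25000) (len := 6671) rfl (rel98_a1) rel98_p2

theorem rel99_a0 : allBelow (wordIdPt 15 (relTabs (myBases.getD 99 []))) 25000 = true :=
  allBelow_append (m := 0) (len := 25000) rfl (allBelow_nil _) rel99_p0

theorem rel99_pts : allBelow (wordIdPt 15 (relTabs (myBases.getD 99 []))) 31671 = true :=
  allBelow_append (m := 25000) (len := 6671) rfl (rel99_a0) rel99_p1

theorem rel100_a0 : allBelow (wordIdPt 15 (relTabs (myBases.getD 100 []))) 555 = true :=
  allBelow_append (m := 0) (len := 555) rfl (allBelow_nil _) rel100_p0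

theorem rel100_a1 : allBelow (wordIdPt 15 (relTabs (myBases.getD 100 []))) 1110 = true :=
  allBelow_append (m := 555) (len := 555) rfl (rel100_a0) rel100_p1

theorem rel100_a2 : allBelow (wordIdPt 15 (relTabs (myBases.getD 100 []))) 1665 = true :=
  allBelow_append (m := 1110) (len := 555) rfl (rel100_a1) rel100_p2

theorem rel100_a3 : allBelow (wordIdPt 15 (relTabs (myBases.getD 100 []))) 2220 = true :=
  allBelow_append (m := 1665) (len := 555) rfl (rel100_a2) rel100_p3

theorem rel100_a4 : allBelow (wordIdPt 15 (relTabs (myBases.getD 100 []))) 2775 = true :=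
  allBelow_append (m := 2220) (len := 555) rfl (rel100_a3) rel100_p4

theorem rel100_a5 : allBelow (wordIdPt 15 (relTabs (myBases.getD 100 []))) 3330 = true :=
  allBelow_append (m := 2775) (len := 555) rfl (rel100_a4) rel100_p5

theorem rel100_a6 : allBelow (wordIdPt 15 (relTabs (myBases.getD 100 []))) 3885 = true :=
  allBelow_append (m := 3330) (len := 555) rfl (rel100_a5) rel100_p6

theorem rel100_a7 : allBelow (wordIdPt 15 (relTabs (myBases.getD 100 []))) 4440 = true :=
  allBelow_append (m := 3885) (len := 555) rfl (rel100_a6) rel100_p7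

theorem rel100_a8 : allBelow (wordIdPt 15 (relTabs (myBases.getD 100 []))) 4995 = true :=
  allBelow_append (m := 4440) (len := 555) rfl (rel100_a7) rel100_p8

theorem rel100_a9 : allBelow (wordIdPt 15 (relTabs (myBases.getD 100 []))) 5550 = true :=
  allBelow_append (m := 4995) (len := 555) rfl (rel100_a8) rel100_p9

theorem rel100_a10 : allBelow (wordIdPt 15 (relTabs (myBases.getD 100 []))) 6105 = true :=
  allBelow_append (m := 5550) (len := 555) rfl (rel100_a9) rel100_p10

theorem rel100_a11 : allBelow (wordIdPt 15 (relTabs (myBases.getD 100 []))) 6660 = true :=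
  allBelow_append (m := 6105) (len := 555) rfl (rel100_a10) rel100_p11

theorem rel100_a12 : allBelow (wordIdPt 15 (relTabs (myBases.getD 100 []))) 7215 = true :=
  allBelow_append (m := 6660) (len := 555) rfl (rel100_a11) rel100_p12

theorem rel100_a13 : allBelow (wordIdPt 15 (relTabs (myBases.getD 100 []))) 7770 = true :=
  allBelow_append (m := 7215) (len := 555) rfl (rel100_a12) rel100_p13

theorem rel100_a14 : allBelow (wordIdPt 15 (relTabs (myBases.getD 100 []))) 8325 = true :=
  allBelow_append (m := 7770) (len := 555) rfl (rel100_a13) rel100_p14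

theorem rel100_a15 : allBelow (wordIdPt 15 (relTabs (myBases.getD 100 []))) 8880 = true :=
  allBelow_append (m := 8325) (len := 555) rfl (rel100_a14) rel100_p15

theorem rel100_a16 : allBelow (wordIdPt 15 (relTabs (myBases.getD 100 []))) 9435 = true :=
  allBelow_append (m := 8880) (len := 555) rfl (rel100_a15) rel100_p16

theorem rel100_a17 : allBelow (wordIdPt 15 (relTabs (myBases.getD 100 []))) 9990 = true :=
  allBelow_append (m := 9435) (len := 555) rfl (rel100_a16) rel100_p17

theorem rel100_a18 : allBelow (wordIdPt 15 (relTabs (myBases.getD 100 []))) 10545 = true :=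
  allBelow_append (m := 9990) (len := 555) rfl (rel100_a17) rel100_p18

theorem rel100_a19 : allBelow (wordIdPt 15 (relTabs (myBases.getD 100 []))) 11100 = true :=
  allBelow_append (m := 10545) (len := 555) rfl (rel100_a18) rel100_p19

theorem rel100_a20 : allBelow (wordIdPt 15 (relTabs (myBases.getD 100 []))) 11655 = true :=
  allBelow_append (m := 11100) (len := 555) rfl (rel100_a19) rel100_p20

theorem rel100_a21 : allBelow (wordIdPt 15 (relTabs (myBases.getD 100 []))) 12210 = true :=
  allBelow_append (m := 11655) (len := 555) rfl (rel100_a20) rel100_p21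

theorem rel100_a22 : allBelow (wordIdPt 15 (relTabs (myBases.getD 100 []))) 12765 = true :=
  allBelow_append (m := 12210) (len := 555) rfl (rel100_a21) rel100_p22

theorem rel100_a23 : allBelow (wordIdPt 15 (relTabs (myBases.getD 100 []))) 13320 = true :=
  allBelow_append (m := 12765) (len := 555) rfl (rel100_a22) rel100_p23

theorem rel100_a24 : allBelow (wordIdPt 15 (relTabs (myBases.getD 100 []))) 13875 = true :=
  allBelow_append (m := 13320) (len := 555) rfl (rel100_a23) rel100_p24

theorem rel100_a25 : allBelow (wordIdPt 15 (relTabs (myBases.getD 100 []))) 14430 = true :=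
  allBelow_append (m := 13875) (len := 555) rfl (rel100_a24) rel100_p25

theorem rel100_a26 : allBelow (wordIdPt 15 (relTabs (myBases.getD 100 []))) 14985 = true :=
  allBelow_append (m := 14430) (len := 555) rfl (rel100_a25) rel100_p26

theorem rel100_a27 : allBelow (wordIdPt 15 (relTabs (myBases.getD 100 []))) 15540 = true :=
  allBelow_append (m := 14985) (len := 555) rfl (rel100_a26) rel100_p27

theorem rel100_a28 : allBelow (wordIdPt 15 (relTabs (myBases.getD 100 []))) 16095 = true :=
  allBelow_append (m := 15540) (len := 555) rfl (rel100_a27) rel100_p28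

theorem rel100_a29 : allBelow (wordIdPt 15 (relTabs (myBases.getD 100 []))) 16650 = true :=
  allBelow_append (m := 16095) (len := 555) rfl (rel100_a28) rel100_p29

theorem rel100_a30 : allBelow (wordIdPt 15 (relTabs (myBases.getD 100 []))) 17205 = true :=
  allBelow_append (m := 16650) (len := 555) rfl (rel100_a29) rel100_p30

theorem rel100_a31 : allBelow (wordIdPt 15 (relTabs (myBases.getD 100 []))) 17760 = true :=
  allBelow_append (m := 17205) (len := 555) rfl (rel100_a30) rel100_p31

theorem rel100_a32 : allBelow (wordIdPt 15 (relTabs (myBases.getD 100 []))) 18315 = true :=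
  allBelow_append (m := 17760) (len := 555) rfl (rel100_a31) rel100_p32

theorem rel100_a33 : allBelow (wordIdPt 15 (relTabs (myBases.getD 100 []))) 18870 = true :=
  allBelow_append (m := 18315) (len := 555) rfl (rel100_a32) rel100_p33

theorem rel100_a34 : allBelow (wordIdPt 15 (relTabs (myBases.getD 100 []))) 19425 = true :=
  allBelow_append (m := 18870) (len := 555) rfl (rel100_a33) rel100_p34

theorem rel100_a35 : allBelow (wordIdPt 15 (relTabs (myBases.getD 100 []))) 19980 = true :=
  allBelow_append (m := 19425) (len := 555) rfl (rel100_a34) rel100_p35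

theorem rel100_a36 : allBelow (wordIdPt 15 (relTabs (myBases.getD 100 []))) 20535 = true :=
  allBelow_append (m := 19980) (len := 555) rfl (rel100_a35) rel100_p36

theorem rel100_a37 : allBelow (wordIdPt 15 (relTabs (myBases.getD 100 []))) 21090 = true :=
  allBelow_append (m := 20535) (len := 555) rfl (rel100_a36) rel100_p37

theorem rel100_a38 : allBelow (wordIdPt 15 (relTabs (myBases.getD 100 []))) 21645 = true :=
  allBelow_append (m := 21090) (len := 555) rfl (rel100_a37) rel100_p38

theorem rel100_a39 : allBelow (wordIdPt 15 (relTabs (myBases.getD 100 []))) 22200 = true :=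
  allBelow_append (m := 21645) (len := 555) rfl (rel100_a38) rel100_p39

theorem rel100_a40 : allBelow (wordIdPt 15 (relTabs (myBases.getD 100 []))) 22755 = true :=
  allBelow_append (m := 22200) (len := 555) rfl (rel100_a39) rel100_p40

theorem rel100_a41 : allBelow (wordIdPt 15 (relTabs (myBases.getD 100 []))) 23310 = true :=
  allBelow_append (m := 22755) (len := 555) rfl (rel100_a40) rel100_p41

theorem rel100_a42 : allBelow (wordIdPt 15 (relTabs (myBases.getD 100 []))) 23865 = true :=
  allBelow_append (m := 23310) (len := 555) rfl (rel100_a41) rel100_p42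

theorem rel100_a43 : allBelow (wordIdPt 15 (relTabs (myBases.getD 100 []))) 24420 = true :=
  allBelow_append (m := 23865) (len := 555) rfl (rel100_a42) rel100_p43

theorem rel100_a44 : allBelow (wordIdPt 15 (relTabs (myBases.getD 100 []))) 24975 = true :=
  allBelow_append (m := 24420) (len := 555) rfl (rel100_a43) rel100_p44

theorem rel100_a45 : allBelow (wordIdPt 15 (relTabs (myBases.getD 100 []))) 25530 = true :=
  allBelow_append (m := 24975) (len := 555) rfl (rel100_a44) rel100_p45

theorem rel100_a46 : allBelow (wordIdPt 15 (relTabs (myBases.getD 100 []))) 26085 = true :=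
  allBelow_append (m := 25530) (len := 555) rfl (rel100_a45) rel100_p46

theorem rel100_a47 : allBelow (wordIdPt 15 (relTabs (myBases.getD 100 []))) 26640 = true :=
  allBelow_append (m := 26085) (len := 555) rfl (rel100_a46) rel100_p47

theorem rel100_a48 : allBelow (wordIdPt 15 (relTabs (myBases.getD 100 []))) 27195 = true :=
  allBelow_append (m := 26640) (len := 555) rfl (rel100_a47) rel100_p48

theorem rel100_a49 : allBelow (wordIdPt 15 (relTabs (myBases.getD 100 []))) 27750 = true :=
  allBelow_append (m := 27195) (len := 555) rfl (rel100_a48) rel100_p49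

theorem rel100_a50 : allBelow (wordIdPt 15 (relTabs (myBases.getD 100 []))) 28305 = true :=
  allBelow_append (m := 27750) (len := 555) rfl (rel100_a49) rel100_p50

theorem rel100_a51 : allBelow (wordIdPt 15 (relTabs (myBases.getD 100 []))) 28860 = true :=
  allBelow_append (m := 28305) (len := 555) rfl (rel100_a50) rel100_p51

theorem rel100_a52 : allBelow (wordIdPt 15 (relTabs (myBases.getD 100 []))) 29415 = true :=
  allBelow_append (m := 28860) (len := 555) rfl (rel100_a51) rel100_p52

theorem rel100_a53 : allBelow (wordIdPt 15 (relTabs (myBases.getD 100 []))) 29970 = true :=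
  allBelow_append (m := 29415) (len := 555) rfl (rel100_a52) rel100_p53

theorem rel100_a54 : allBelow (wordIdPt 15 (relTabs (myBases.getD 100 []))) 30525 = true :=
  allBelow_append (m := 29970) (len := 555) rfl (rel100_a53) rel100_p54

theorem rel100_a55 : allBelow (wordIdPt 15 (relTabs (myBases.getD 100 []))) 31080 = true :=
  allBelow_append (m := 30525) (len := 555) rfl (rel100_a54) rel100_p55

theorem rel100_a56 : allBelow (wordIdPt 15 (relTabs (myBases.getD 100 []))) 31635 = true :=
  allBelow_append (m := 31080) (len := 555) rfl (rel100_a55) rel100_p56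

theorem rel100_pts : allBelow (wordIdPt 15 (relTabs (myBases.getD 100 []))) 31671 = true :=
  allBelow_append (m := 31635) (len := 36) rfl (rel100_a56) rel100_p57

theorem rel101_a0 : allBelow (wordIdPt 15 (relTabs (myBases.getD 101 []))) 793 = true :=
  allBelow_append (m := 0) (len := 793) rfl (allBelow_nil _) rel101_p0

theorem rel101_a1 : allBelow (wordIdPt 15 (relTabs (myBases.getD 101 []))) 1586 = true :=
  allBelow_append (m := 793) (len := 793) rfl (rel101_a0) rel101_p1

theorem rel101_a2 : allBelow (wordIdPt 15 (relTabs (myBases.getD 101 []))) 2379 = true :=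
  allBelow_append (m := 1586) (len := 793) rfl (rel101_a1) rel101_p2

theorem rel101_a3 : allBelow (wordIdPt 15 (relTabs (myBases.getD 101 []))) 3172 = true :=
  allBelow_append (m := 2379) (len := 793) rfl (rel101_a2) rel101_p3

theorem rel101_a4 : allBelow (wordIdPt 15 (relTabs (myBases.getD 101 []))) 3965 = true :=
  allBelow_append (m := 3172) (len := 793) rfl (rel101_a3) rel101_p4

theorem rel101_a5 : allBelow (wordIdPt 15 (relTabs (myBases.getD 101 []))) 4758 = true :=
  allBelow_append (m := 3965) (len := 793) rfl (rel101_a4) rel101_p5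

theorem rel101_a6 : allBelow (wordIdPt 15 (relTabs (myBases.getD 101 []))) 5551 = true :=
  allBelow_append (m := 4758) (len := 793) rfl (rel101_a5) rel101_p6

theorem rel101_a7 : allBelow (wordIdPt 15 (relTabs (myBases.getD 101 []))) 6344 = true :=
  allBelow_append (m := 5551) (len := 793) rfl (rel101_a6) rel101_p7

theorem rel101_a8 : allBelow (wordIdPt 15 (relTabs (myBases.getD 101 []))) 7137 = true :=
  allBelow_append (m := 6344) (len := 793) rfl (rel101_a7) rel101_p8

theorem rel101_a9 : allBelow (wordIdPt 15 (relTabs (myBases.getD 101 []))) 7930 = true :=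
  allBelow_append (m := 7137) (len := 793) rfl (rel101_a8) rel101_p9

theorem rel101_a10 : allBelow (wordIdPt 15 (relTabs (myBases.getD 101 []))) 8723 = true :=
  allBelow_append (m := 7930) (len := 793) rfl (rel101_a9) rel101_p10

theorem rel101_a11 : allBelow (wordIdPt 15 (relTabs (myBases.getD 101 []))) 9516 = true :=
  allBelow_append (m := 8723) (len := 793) rfl (rel101_a10) rel101_p11

theorem rel101_a12 : allBelow (wordIdPt 15 (relTabs (myBases.getD 101 []))) 10309 = true :=
  allBelow_append (m := 9516) (len := 793) rfl (rel101_a11) rel101_p12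

theorem rel101_a13 : allBelow (wordIdPt 15 (relTabs (myBases.getD 101 []))) 11102 = true :=
  allBelow_append (m := 10309) (len := 793) rfl (rel101_a12) rel101_p13

theorem rel101_a14 : allBelow (wordIdPt 15 (relTabs (myBases.getD 101 []))) 11895 = true :=
  allBelow_append (m := 11102) (len := 793) rfl (rel101_a13) rel101_p14

theorem rel101_a15 : allBelow (wordIdPt 15 (relTabs (myBases.getD 101 []))) 12688 = true :=
  allBelow_append (m := 11895) (len := 793) rfl (rel101_a14) rel101_p15

theorem rel101_a16 : allBelow (wordIdPt 15 (relTabs (myBases.getD 101 []))) 13481 = true :=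
  allBelow_append (m := 12688) (len := 793) rfl (rel101_a15) rel101_p16

theorem rel101_a17 : allBelow (wordIdPt 15 (relTabs (myBases.getD 101 []))) 14274 = true :=
  allBelow_append (m := 13481) (len := 793) rfl (rel101_a16) rel101_p17

theorem rel101_a18 : allBelow (wordIdPt 15 (relTabs (myBases.getD 101 []))) 15067 = true :=
  allBelow_append (m := 14274) (len := 793) rfl (rel101_a17) rel101_p18

theorem rel101_a19 : allBelow (wordIdPt 15 (relTabs (myBases.getD 101 []))) 15860 = true :=
  allBelow_append (m := 15067) (len := 793) rfl (rel101_a18) rel101_p19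

theorem rel101_a20 : allBelow (wordIdPt 15 (relTabs (myBases.getD 101 []))) 16653 = true :=
  allBelow_append (m := 15860) (len := 793) rfl (rel101_a19) rel101_p20

theorem rel101_a21 : allBelow (wordIdPt 15 (relTabs (myBases.getD 101 []))) 17446 = true :=
  allBelow_append (m := 16653) (len := 793) rfl (rel101_a20) rel101_p21

theorem rel101_a22 : allBelow (wordIdPt 15 (relTabs (myBases.getD 101 []))) 18239 = true :=
  allBelow_append (m := 17446) (len := 793) rfl (rel101_a21) rel101_p22

theorem rel101_a23 : allBelow (wordIdPt 15 (relTabs (myBases.getD 101 []))) 19032 = true :=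
  allBelow_append (m := 18239) (len := 793) rfl (rel101_a22) rel101_p23

theorem rel101_a24 : allBelow (wordIdPt 15 (relTabs (myBases.getD 101 []))) 19825 = true :=
  allBelow_append (m := 19032) (len := 793) rfl (rel101_a23) rel101_p24

theorem rel101_a25 : allBelow (wordIdPt 15 (relTabs (myBases.getD 101 []))) 20618 = true :=
  allBelow_append (m := 19825) (len := 793) rfl (rel101_a24) rel101_p25

theorem rel101_a26 : allBelow (wordIdPt 15 (relTabs (myBases.getD 101 []))) 21411 = true :=
  allBelow_append (m := 20618) (len := 793) rfl (rel101_a25) rel101_p26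

theorem rel101_a27 : allBelow (wordIdPt 15 (relTabs (myBases.getD 101 []))) 22204 = true :=
  allBelow_append (m := 21411) (len := 793) rfl (rel101_a26) rel101_p27

theorem rel101_a28 : allBelow (wordIdPt 15 (relTabs (myBases.getD 101 []))) 22997 = true :=
  allBelow_append (m := 22204) (len := 793) rfl (rel101_a27) rel101_p28

theorem rel101_a29 : allBelow (wordIdPt 15 (relTabs (myBases.getD 101 []))) 23790 = true :=
  allBelow_append (m := 22997) (len := 793) rfl (rel101_a28) rel101_p29

theorem rel101_a30 : allBelow (wordIdPt 15 (relTabs (myBases.getD 101 []))) 24583 = true :=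
  allBelow_append (m := 23790) (len := 793) rfl (rel101_a29) rel101_p30

theorem rel101_a31 : allBelow (wordIdPt 15 (relTabs (myBases.getD 101 []))) 25376 = true :=
  allBelow_append (m := 24583) (len := 793) rfl (rel101_a30) rel101_p31

theorem rel101_a32 : allBelow (wordIdPt 15 (relTabs (myBases.getD 101 []))) 26169 = true :=
  allBelow_append (m := 25376) (len := 793) rfl (rel101_a31) rel101_p32

theorem rel101_a33 : allBelow (wordIdPt 15 (relTabs (myBases.getD 101 []))) 26962 = true :=
  allBelow_append (m := 26169) (len := 793) rfl (rel101_a32) rel101_p33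

theorem rel101_a34 : allBelow (wordIdPt 15 (relTabs (myBases.getD 101 []))) 27755 = true :=
  allBelow_append (m := 26962) (len := 793) rfl (rel101_a33) rel101_p34

theorem rel101_a35 : allBelow (wordIdPt 15 (relTabs (myBases.getD 101 []))) 28548 = true :=
  allBelow_append (m := 27755) (len := 793) rfl (rel101_a34) rel101_p35

theorem rel101_a36 : allBelow (wordIdPt 15 (relTabs (myBases.getD 101 []))) 29341 = true :=
  allBelow_append (m := 28548) (len := 793) rfl (rel101_a35) rel101_p36

theorem rel101_a37 : allBelow (wordIdPt 15 (relTabs (myBases.getD 101 []))) 30134 = true :=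
  allBelow_append (m := 29341) (len := 793) rfl (rel101_a36) rel101_p37

theorem rel101_a38 : allBelow (wordIdPt 15 (relTabs (myBases.getD 101 []))) 30927 = true :=
  allBelow_append (m := 30134) (len := 793) rfl (rel101_a37) rel101_p38

theorem rel101_pts : allBelow (wordIdPt 15 (relTabs (myBases.getD 101 []))) 31671 = true :=
  allBelow_append (m := 30927) (len := 744) rfl (rel101_a38) rel101_p39

theorem rel_da_a0 : allBelow (wordEqPt 15 [tD, tA] [tA, tA, tA, tD]) 8333 = true :=
  allBelow_append (m := 0) (len := 8333) rfl (allBelow_nil _) rel_da_p0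

theorem rel_da_a1 : allBelow (wordEqPt 15 [tD, tA] [tA, tA, tA, tD]) 16666 = true :=
  allBelow_append (m := 8333) (len := 8333) rfl (rel_da_a0) rel_da_p1

theorem rel_da_a2 : allBelow (wordEqPt 15 [tD, tA] [tA, tA, tA, tD]) 24999 = true :=
  allBelow_append (m := 16666) (len := 8333) rfl (rel_da_a1) rel_da_p2

theorem rel_da_pts : allBelow (wordEqPt 15 [tD, tA] [tA, tA, tA, tD]) 31671 = true :=
  allBelow_append (m := 24999) (len := 6672) rfl (rel_da_a2) rel_da_p3

theorem rel_sd_a0 : allBelow (wordEqPt 15 [tS, tD] [tD, tS]) 12500 = true :=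
  allBelow_append (m := 0) (len := 12500) rfl (allBelow_nil _) rel_sd_p0

theorem rel_sd_a1 : allBelow (wordEqPt 15 [tS, tD] [tD, tS]) 25000 = true :=
  allBelow_append (m := 12500) (len := 12500) rfl (rel_sd_a0) rel_sd_p1

theorem rel_sd_pts : allBelow (wordEqPt 15 [tS, tD] [tD, tS]) 31671 = true :=
  allBelow_append (m := 25000) (len := 6671) rfl (rel_sd_a1) rel_sd_p2

theorem rel_a17_a0 : allBelow (wordIdPt 15 (List.replicate 17 tA)) 2941 = true :=
  allBelow_append (m := 0) (len := 2941) rfl (allBelow_nil _) rel_a17_p0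

theorem rel_a17_a1 : allBelow (wordIdPt 15 (List.replicate 17 tA)) 5882 = true :=
  allBelow_append (m := 2941) (len := 2941) rfl (rel_a17_a0) rel_a17_p1

theorem rel_a17_a2 : allBelow (wordIdPt 15 (List.replicate 17 tA)) 8823 = true :=
  allBelow_append (m := 5882) (len := 2941) rfl (rel_a17_a1) rel_a17_p2

theorem rel_a17_a3 : allBelow (wordIdPt 15 (List.replicate 17 tA)) 11764 = true :=
  allBelow_append (m := 8823) (len := 2941) rfl (rel_a17_a2) rel_a17_p3

theorem rel_a17_a4 : allBelow (wordIdPt 15 (List.replicate 17 tA)) 14705 = true :=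
  allBelow_append (m := 11764) (len := 2941) rfl (rel_a17_a3) rel_a17_p4

theorem rel_a17_a5 : allBelow (wordIdPt 15 (List.replicate 17 tA)) 17646 = true :=
  allBelow_append (m := 14705) (len := 2941) rfl (rel_a17_a4) rel_a17_p5

theorem rel_a17_a6 : allBelow (wordIdPt 15 (List.replicate 17 tA)) 20587 = true :=
  allBelow_append (m := 17646) (len := 2941) rfl (rel_a17_a5) rel_a17_p6

theorem rel_a17_a7 : allBelow (wordIdPt 15 (List.replicate 17 tA)) 23528 = true :=
  allBelow_append (m := 20587) (len := 2941) rfl (rel_a17_a6) rel_a17_p7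

theorem rel_a17_a8 : allBelow (wordIdPt 15 (List.replicate 17 tA)) 26469 = true :=
  allBelow_append (m := 23528) (len := 2941) rfl (rel_a17_a7) rel_a17_p8

theorem rel_a17_a9 : allBelow (wordIdPt 15 (List.replicate 17 tA)) 29410 = true :=
  allBelow_append (m := 26469) (len := 2941) rfl (rel_a17_a8) rel_a17_p9

theorem rel_a17_pts : allBelow (wordIdPt 15 (List.replicate 17 tA)) 31671 = true :=
  allBelow_append (m := 29410) (len := 2261) rfl (rel_a17_a9) rel_a17_p10

theorem rel_d16_a0 : allBelow (wordIdPt 15 (List.replicate 16 tD)) 3125 = true :=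
  allBelow_append (m := 0) (len := 3125) rfl (allBelow_nil _) rel_d16_p0

theorem rel_d16_a1 : allBelow (wordIdPt 15 (List.replicate 16 tD)) 6250 = true :=
  allBelow_append (m := 3125) (len := 3125) rfl (rel_d16_a0) rel_d16_p1

theorem rel_d16_a2 : allBelow (wordIdPt 15 (List.replicate 16 tD)) 9375 = true :=
  allBelow_append (m := 6250) (len := 3125) rfl (rel_d16_a1) rel_d16_p2

theorem rel_d16_a3 : allBelow (wordIdPt 15 (List.replicate 16 tD)) 12500 = true :=
  allBelow_append (m := 9375) (len := 3125) rfl (rel_d16_a2) rel_d16_p3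

theorem rel_d16_a4 : allBelow (wordIdPt 15 (List.replicate 16 tD)) 15625 = true :=
  allBelow_append (m := 12500) (len := 3125) rfl (rel_d16_a3) rel_d16_p4

theorem rel_d16_a5 : allBelow (wordIdPt 15 (List.replicate 16 tD)) 18750 = true :=
  allBelow_append (m := 15625) (len := 3125) rfl (rel_d16_a4) rel_d16_p5

theorem rel_d16_a6 : allBelow (wordIdPt 15 (List.replicate 16 tD)) 21875 = true :=
  allBelow_append (m := 18750) (len := 3125) rfl (rel_d16_a5) rel_d16_p6

theorem rel_d16_a7 : allBelow (wordIdPt 15 (List.replicate 16 tD)) 25000 = true :=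
  allBelow_append (m := 21875) (len := 3125) rfl (rel_d16_a6) rel_d16_p7

theorem rel_d16_a8 : allBelow (wordIdPt 15 (List.replicate 16 tD)) 28125 = true :=
  allBelow_append (m := 25000) (len := 3125) rfl (rel_d16_a7) rel_d16_p8

theorem rel_d16_a9 : allBelow (wordIdPt 15 (List.replicate 16 tD)) 31250 = true :=
  allBelow_append (m := 28125) (len := 3125) rfl (rel_d16_a8) rel_d16_p9

theorem rel_d16_pts : allBelow (wordIdPt 15 (List.replicate 16 tD)) 31671 = true :=
  allBelow_append (m := 31250) (len := 421) rfl (rel_d16_a9) rel_d16_p10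

theorem rel_as10_a0 : allBelow (wordIdPt 15 (List.replicate 10 [tA, tS]).flatten) 2500 = true :=
  allBelow_append (m := 0) (len := 2500) rfl (allBelow_nil _) rel_as10_p0

theorem rel_as10_a1 : allBelow (wordIdPt 15 (List.replicate 10 [tA, tS]).flatten) 5000 = true :=
  allBelow_append (m := 2500) (len := 2500) rfl (rel_as10_a0) rel_as10_p1

theorem rel_as10_a2 : allBelow (wordIdPt 15 (List.replicate 10 [tA, tS]).flatten) 7500 = true :=
  allBelow_append (m := 5000) (len := 2500) rfl (rel_as10_a1) rel_as10_p2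

theorem rel_as10_a3 : allBelow (wordIdPt 15 (List.replicate 10 [tA, tS]).flatten) 10000 = true :=
  allBelow_append (m := 7500) (len := 2500) rfl (rel_as10_a2) rel_as10_p3

theorem rel_as10_a4 : allBelow (wordIdPt 15 (List.replicate 10 [tA, tS]).flatten) 12500 = true :=
  allBelow_append (m := 10000) (len := 2500) rfl (rel_as10_a3) rel_as10_p4

theorem rel_as10_a5 : allBelow (wordIdPt 15 (List.replicate 10 [tA, tS]).flatten) 15000 = true :=
  allBelow_append (m := 12500) (len := 2500) rfl (rel_as10_a4) rel_as10_p5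

theorem rel_as10_a6 : allBelow (wordIdPt 15 (List.replicate 10 [tA, tS]).flatten) 17500 = true :=
  allBelow_append (m := 15000) (len := 2500) rfl (rel_as10_a5) rel_as10_p6

theorem rel_as10_a7 : allBelow (wordIdPt 15 (List.replicate 10 [tA, tS]).flatten) 20000 = true :=
  allBelow_append (m := 17500) (len := 2500) rfl (rel_as10_a6) rel_as10_p7

theorem rel_as10_a8 : allBelow (wordIdPt 15 (List.replicate 10 [tA, tS]).flatten) 22500 = true :=
  allBelow_append (m := 20000) (len := 2500) rfl (rel_as10_a7) rel_as10_p8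

theorem rel_as10_a9 : allBelow (wordIdPt 15 (List.replicate 10 [tA, tS]).flatten) 25000 = true :=
  allBelow_append (m := 22500) (len := 2500) rfl (rel_as10_a8) rel_as10_p9

theorem rel_as10_a10 : allBelow (wordIdPt 15 (List.replicate 10 [tA, tS]).flatten) 27500 = true :=
  allBelow_append (m := 25000) (len := 2500) rfl (rel_as10_a9) rel_as10_p10

theorem rel_as10_a11 : allBelow (wordIdPt 15 (List.replicate 10 [tA, tS]).flatten) 30000 = true :=
  allBelow_append (m := 27500) (len := 2500) rfl (rel_as10_a10) rel_as10_p11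

theorem rel_as10_pts : allBelow (wordIdPt 15 (List.replicate 10 [tA, tS]).flatten) 31671 = true :=
  allBelow_append (m := 30000) (len := 1671) rfl (rel_as10_a11) rel_as10_p12

theorem lvl0_a0 : allBelow (lvlPt 15 8 8 lv0) 6250 = true :=
  allBelow_append (m := 0) (len := 6250) rfl (allBelow_nil _) lvl0_p0

theorem lvl0_a1 : allBelow (lvlPt 15 8 8 lv0) 12500 = true :=
  allBelow_append (m := 6250) (len := 6250) rfl (lvl0_a0) lvl0_p1

theorem lvl0_a2 : allBelow (lvlPt 15 8 8 lv0) 18750 = true :=
  allBelow_append (m := 12500) (len := 6250) rfl (lvl0_a1) lvl0_p2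

theorem lvl0_a3 : allBelow (lvlPt 15 8 8 lv0) 25000 = true :=
  allBelow_append (m := 18750) (len := 6250) rfl (lvl0_a2) lvl0_p3

theorem lvl0_a4 : allBelow (lvlPt 15 8 8 lv0) 31250 = true :=
  allBelow_append (m := 25000) (len := 6250) rfl (lvl0_a3) lvl0_p4

theorem lvl0_pts : allBelow (lvlPt 15 8 8 lv0) 31671 = true :=
  allBelow_append (m := 31250) (len := 421) rfl (lvl0_a4) lvl0_p5

theorem lvl1_a0 : allBelow (lvlPt 15 8 8 lv1) 6250 = true :=
  allBelow_append (m := 0) (len := 6250) rfl (allBelow_nil _) lvl1_p0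

theorem lvl1_a1 : allBelow (lvlPt 15 8 8 lv1) 12500 = true :=
  allBelow_append (m := 6250) (len := 6250) rfl (lvl1_a0) lvl1_p1

theorem lvl1_a2 : allBelow (lvlPt 15 8 8 lv1) 18750 = true :=
  allBelow_append (m := 12500) (len := 6250) rfl (lvl1_a1) lvl1_p2

theorem lvl1_a3 : allBelow (lvlPt 15 8 8 lv1) 25000 = true :=
  allBelow_append (m := 18750) (len := 6250) rfl (lvl1_a2) lvl1_p3

theorem lvl1_a4 : allBelow (lvlPt 15 8 8 lv1) 31250 = true :=
  allBelow_append (m := 25000) (len := 6250) rfl (lvl1_a3) lvl1_p4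

theorem lvl1_pts : allBelow (lvlPt 15 8 8 lv1) 31671 = true :=
  allBelow_append (m := 31250) (len := 421) rfl (lvl1_a4) lvl1_p5

theorem lvl2_a0 : allBelow (lvlPt 15 8 8 lv2) 6250 = true :=
  allBelow_append (m := 0) (len := 6250) rfl (allBelow_nil _) lvl2_p0

theorem lvl2_a1 : allBelow (lvlPt 15 8 8 lv2) 12500 = true :=
  allBelow_append (m := 6250) (len := 6250) rfl (lvl2_a0) lvl2_p1

theorem lvl2_a2 : allBelow (lvlPt 15 8 8 lv2) 18750 = true :=
  allBelow_append (m := 12500) (len := 6250) rfl (lvl2_a1) lvl2_p2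

theorem lvl2_a3 : allBelow (lvlPt 15 8 8 lv2) 25000 = true :=
  allBelow_append (m := 18750) (len := 6250) rfl (lvl2_a2) lvl2_p3

theorem lvl2_a4 : allBelow (lvlPt 15 8 8 lv2) 31250 = true :=
  allBelow_append (m := 25000) (len := 6250) rfl (lvl2_a3) lvl2_p4

theorem lvl2_pts : allBelow (lvlPt 15 8 8 lv2) 31671 = true :=
  allBelow_append (m := 31250) (len := 421) rfl (lvl2_a4) lvl2_p5

theorem lvl3_pts : allBelow (lvlPt 15 8 8 lv3) 31671 = true :=
  allBelow_append (m := 0) (len := 31671) rfl (allBelow_nil _) lvl3_p0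

theorem lvl4_pts : allBelow (lvlPt 15 8 8 lv4) 31671 = true :=
  allBelow_append (m := 0) (len := 31671) rfl (allBelow_nil _) lvl4_p0

theorem lvl5_pts : allBelow (lvlPt 15 8 8 lv5) 31671 = true :=
  allBelow_append (m := 0) (len := 31671) rfl (allBelow_nil _) lvl5_p0

theorem lvl6_pts : allBelow (lvlPt 15 8 8 lv6) 31671 = true :=
  allBelow_append (m := 0) (len := 31671) rfl (allBelow_nil _) lvl6_p0

theorem lvl7_pts : allBelow (lvlPt 15 8 8 lv7) 31671 = true :=
  allBelow_append (m := 0) (len := 31671) rfl (allBelow_nil _) lvl7_p0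

theorem lvl8_pts : allBelow (lvlPt 15 8 8 lv8) 31671 = true :=
  allBelow_append (m := 0) (len := 31671) rfl (allBelow_nil _) lvl8_p0

theorem exclA_a0 : allBelow (exclPt 15 8 8 levels FA goodA) 714 = true :=
  allBelow_append (m := 0) (len := 714) rfl (allBelow_nil _) exclA_p0

theorem exclA_a1 : allBelow (exclPt 15 8 8 levels FA goodA) 1428 = true :=
  allBelow_append (m := 714) (len := 714) rfl (exclA_a0) exclA_p1

theorem exclA_a2 : allBelow (exclPt 15 8 8 levels FA goodA) 2142 = true :=
  allBelow_append (m := 1428) (len := 714) rfl (exclA_a1) exclA_p2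

theorem exclA_a3 : allBelow (exclPt 15 8 8 levels FA goodA) 2856 = true :=
  allBelow_append (m := 2142) (len := 714) rfl (exclA_a2) exclA_p3

theorem exclA_a4 : allBelow (exclPt 15 8 8 levels FA goodA) 3570 = true :=
  allBelow_append (m := 2856) (len := 714) rfl (exclA_a3) exclA_p4

theorem exclA_a5 : allBelow (exclPt 15 8 8 levels FA goodA) 4284 = true :=
  allBelow_append (m := 3570) (len := 714) rfl (exclA_a4) exclA_p5

theorem exclA_a6 : allBelow (exclPt 15 8 8 levels FA goodA) 4998 = true :=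
  allBelow_append (m := 4284) (len := 714) rfl (exclA_a5) exclA_p6

theorem exclA_a7 : allBelow (exclPt 15 8 8 levels FA goodA) 5712 = true :=
  allBelow_append (m := 4998) (len := 714) rfl (exclA_a6) exclA_p7

theorem exclA_a8 : allBelow (exclPt 15 8 8 levels FA goodA) 6426 = true :=
  allBelow_append (m := 5712) (len := 714) rfl (exclA_a7) exclA_p8

theorem exclA_a9 : allBelow (exclPt 15 8 8 levels FA goodA) 7140 = true :=
  allBelow_append (m := 6426) (len := 714) rfl (exclA_a8) exclA_p9

theorem exclA_a10 : allBelow (exclPt 15 8 8 levels FA goodA) 7854 = true :=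
  allBelow_append (m := 7140) (len := 714) rfl (exclA_a9) exclA_p10

theorem exclA_a11 : allBelow (exclPt 15 8 8 levels FA goodA) 8568 = true :=
  allBelow_append (m := 7854) (len := 714) rfl (exclA_a10) exclA_p11

theorem exclA_a12 : allBelow (exclPt 15 8 8 levels FA goodA) 9282 = true :=
  allBelow_append (m := 8568) (len := 714) rfl (exclA_a11) exclA_p12

theorem exclA_a13 : allBelow (exclPt 15 8 8 levels FA goodA) 9996 = true :=
  allBelow_append (m := 9282) (len := 714) rfl (exclA_a12) exclA_p13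

theorem exclA_a14 : allBelow (exclPt 15 8 8 levels FA goodA) 10710 = true :=
  allBelow_append (m := 9996) (len := 714) rfl (exclA_a13) exclA_p14

theorem exclA_a15 : allBelow (exclPt 15 8 8 levels FA goodA) 11424 = true :=
  allBelow_append (m := 10710) (len := 714) rfl (exclA_a14) exclA_p15

theorem exclA_a16 : allBelow (exclPt 15 8 8 levels FA goodA) 12138 = true :=
  allBelow_append (m := 11424) (len := 714) rfl (exclA_a15) exclA_p16

theorem exclA_a17 : allBelow (exclPt 15 8 8 levels FA goodA) 12852 = true :=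
  allBelow_append (m := 12138) (len := 714) rfl (exclA_a16) exclA_p17

theorem exclA_a18 : allBelow (exclPt 15 8 8 levels FA goodA) 13566 = true :=
  allBelow_append (m := 12852) (len := 714) rfl (exclA_a17) exclA_p18

theorem exclA_a19 : allBelow (exclPt 15 8 8 levels FA goodA) 14280 = true :=
  allBelow_append (m := 13566) (len := 714) rfl (exclA_a18) exclA_p19

theorem exclA_a20 : allBelow (exclPt 15 8 8 levels FA goodA) 14994 = true :=
  allBelow_append (m := 14280) (len := 714) rfl (exclA_a19) exclA_p20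

theorem exclA_a21 : allBelow (exclPt 15 8 8 levels FA goodA) 15708 = true :=
  allBelow_append (m := 14994) (len := 714) rfl (exclA_a20) exclA_p21

theorem exclA_a22 : allBelow (exclPt 15 8 8 levels FA goodA) 16422 = true :=
  allBelow_append (m := 15708) (len := 714) rfl (exclA_a21) exclA_p22

theorem exclA_a23 : allBelow (exclPt 15 8 8 levels FA goodA) 17136 = true :=
  allBelow_append (m := 16422) (len := 714) rfl (exclA_a22) exclA_p23

theorem exclA_a24 : allBelow (exclPt 15 8 8 levels FA goodA) 17850 = true :=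
  allBelow_append (m := 17136) (len := 714) rfl (exclA_a23) exclA_p24

theorem exclA_a25 : allBelow (exclPt 15 8 8 levels FA goodA) 18564 = true :=
  allBelow_append (m := 17850) (len := 714) rfl (exclA_a24) exclA_p25

theorem exclA_a26 : allBelow (exclPt 15 8 8 levels FA goodA) 19278 = true :=
  allBelow_append (m := 18564) (len := 714) rfl (exclA_a25) exclA_p26

theorem exclA_a27 : allBelow (exclPt 15 8 8 levels FA goodA) 19992 = true :=
  allBelow_append (m := 19278) (len := 714) rfl (exclA_a26) exclA_p27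

theorem exclA_a28 : allBelow (exclPt 15 8 8 levels FA goodA) 20706 = true :=
  allBelow_append (m := 19992) (len := 714) rfl (exclA_a27) exclA_p28

theorem exclA_a29 : allBelow (exclPt 15 8 8 levels FA goodA) 21420 = true :=
  allBelow_append (m := 20706) (len := 714) rfl (exclA_a28) exclA_p29

theorem exclA_a30 : allBelow (exclPt 15 8 8 levels FA goodA) 22134 = true :=
  allBelow_append (m := 21420) (len := 714) rfl (exclA_a29) exclA_p30

theorem exclA_a31 : allBelow (exclPt 15 8 8 levels FA goodA) 22848 = true :=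
  allBelow_append (m := 22134) (len := 714) rfl (exclA_a30) exclA_p31

theorem exclA_a32 : allBelow (exclPt 15 8 8 levels FA goodA) 23562 = true :=
  allBelow_append (m := 22848) (len := 714) rfl (exclA_a31) exclA_p32

theorem exclA_a33 : allBelow (exclPt 15 8 8 levels FA goodA) 24276 = true :=
  allBelow_append (m := 23562) (len := 714) rfl (exclA_a32) exclA_p33

theorem exclA_a34 : allBelow (exclPt 15 8 8 levels FA goodA) 24990 = true :=
  allBelow_append (m := 24276) (len := 714) rfl (exclA_a33) exclA_p34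

theorem exclA_a35 : allBelow (exclPt 15 8 8 levels FA goodA) 25704 = true :=
  allBelow_append (m := 24990) (len := 714) rfl (exclA_a34) exclA_p35

theorem exclA_a36 : allBelow (exclPt 15 8 8 levels FA goodA) 26418 = true :=
  allBelow_append (m := 25704) (len := 714) rfl (exclA_a35) exclA_p36

theorem exclA_a37 : allBelow (exclPt 15 8 8 levels FA goodA) 27132 = true :=
  allBelow_append (m := 26418) (len := 714) rfl (exclA_a36) exclA_p37

theorem exclA_a38 : allBelow (exclPt 15 8 8 levels FA goodA) 27846 = true :=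
  allBelow_append (m := 27132) (len := 714) rfl (exclA_a37) exclA_p38

theorem exclA_a39 : allBelow (exclPt 15 8 8 levels FA goodA) 28560 = true :=
  allBelow_append (m := 27846) (len := 714) rfl (exclA_a38) exclA_p39

theorem exclA_a40 : allBelow (exclPt 15 8 8 levels FA goodA) 29274 = true :=
  allBelow_append (m := 28560) (len := 714) rfl (exclA_a39) exclA_p40

theorem exclA_a41 : allBelow (exclPt 15 8 8 levels FA goodA) 29988 = true :=
  allBelow_append (m := 29274) (len := 714) rfl (exclA_a40) exclA_p41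

theorem exclA_a42 : allBelow (exclPt 15 8 8 levels FA goodA) 30702 = true :=
  allBelow_append (m := 29988) (len := 714) rfl (exclA_a41) exclA_p42

theorem exclA_a43 : allBelow (exclPt 15 8 8 levels FA goodA) 31416 = true :=
  allBelow_append (m := 30702) (len := 714) rfl (exclA_a42) exclA_p43

theorem exclA_pts : allBelow (exclPt 15 8 8 levels FA goodA) 31671 = true :=
  allBelow_append (m := 31416) (len := 255) rfl (exclA_a43) exclA_p44

theorem exclD_a0 : allBelow (exclPt 15 8 8 levels FD goodD) 714 = true :=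
  allBelow_append (m := 0) (len := 714) rfl (allBelow_nil _) exclD_p0

theorem exclD_a1 : allBelow (exclPt 15 8 8 levels FD goodD) 1428 = true :=
  allBelow_append (m := 714) (len := 714) rfl (exclD_a0) exclD_p1

theorem exclD_a2 : allBelow (exclPt 15 8 8 levels FD goodD) 2142 = true :=
  allBelow_append (m := 1428) (len := 714) rfl (exclD_a1) exclD_p2

theorem exclD_a3 : allBelow (exclPt 15 8 8 levels FD goodD) 2856 = true :=
  allBelow_append (m := 2142) (len := 714) rfl (exclD_a2) exclD_p3

theorem exclD_a4 : allBelow (exclPt 15 8 8 levels FD goodD) 3570 = true :=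
  allBelow_append (m := 2856) (len := 714) rfl (exclD_a3) exclD_p4

theorem exclD_a5 : allBelow (exclPt 15 8 8 levels FD goodD) 4284 = true :=
  allBelow_append (m := 3570) (len := 714) rfl (exclD_a4) exclD_p5

theorem exclD_a6 : allBelow (exclPt 15 8 8 levels FD goodD) 4998 = true :=
  allBelow_append (m := 4284) (len := 714) rfl (exclD_a5) exclD_p6

theorem exclD_a7 : allBelow (exclPt 15 8 8 levels FD goodD) 5712 = true :=
  allBelow_append (m := 4998) (len := 714) rfl (exclD_a6) exclD_p7

theorem exclD_a8 : allBelow (exclPt 15 8 8 levels FD goodD) 6426 = true :=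
  allBelow_append (m := 5712) (len := 714) rfl (exclD_a7) exclD_p8

theorem exclD_a9 : allBelow (exclPt 15 8 8 levels FD goodD) 7140 = true :=
  allBelow_append (m := 6426) (len := 714) rfl (exclD_a8) exclD_p9

theorem exclD_a10 : allBelow (exclPt 15 8 8 levels FD goodD) 7854 = true :=
  allBelow_append (m := 7140) (len := 714) rfl (exclD_a9) exclD_p10

theorem exclD_a11 : allBelow (exclPt 15 8 8 levels FD goodD) 8568 = true :=
  allBelow_append (m := 7854) (len := 714) rfl (exclD_a10) exclD_p11

theorem exclD_a12 : allBelow (exclPt 15 8 8 levels FD goodD) 9282 = true :=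
  allBelow_append (m := 8568) (len := 714) rfl (exclD_a11) exclD_p12

theorem exclD_a13 : allBelow (exclPt 15 8 8 levels FD goodD) 9996 = true :=
  allBelow_append (m := 9282) (len := 714) rfl (exclD_a12) exclD_p13

theorem exclD_a14 : allBelow (exclPt 15 8 8 levels FD goodD) 10710 = true :=
  allBelow_append (m := 9996) (len := 714) rfl (exclD_a13) exclD_p14

theorem exclD_a15 : allBelow (exclPt 15 8 8 levels FD goodD) 11424 = true :=
  allBelow_append (m := 10710) (len := 714) rfl (exclD_a14) exclD_p15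

theorem exclD_a16 : allBelow (exclPt 15 8 8 levels FD goodD) 12138 = true :=
  allBelow_append (m := 11424) (len := 714) rfl (exclD_a15) exclD_p16

theorem exclD_a17 : allBelow (exclPt 15 8 8 levels FD goodD) 12852 = true :=
  allBelow_append (m := 12138) (len := 714) rfl (exclD_a16) exclD_p17

theorem exclD_a18 : allBelow (exclPt 15 8 8 levels FD goodD) 13566 = true :=
  allBelow_append (m := 12852) (len := 714) rfl (exclD_a17) exclD_p18

theorem exclD_a19 : allBelow (exclPt 15 8 8 levels FD goodD) 14280 = true :=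
  allBelow_append (m := 13566) (len := 714) rfl (exclD_a18) exclD_p19

theorem exclD_a20 : allBelow (exclPt 15 8 8 levels FD goodD) 14994 = true :=
  allBelow_append (m := 14280) (len := 714) rfl (exclD_a19) exclD_p20

theorem exclD_a21 : allBelow (exclPt 15 8 8 levels FD goodD) 15708 = true :=
  allBelow_append (m := 14994) (len := 714) rfl (exclD_a20) exclD_p21

theorem exclD_a22 : allBelow (exclPt 15 8 8 levels FD goodD) 16422 = true :=
  allBelow_append (m := 15708) (len := 714) rfl (exclD_a21) exclD_p22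

theorem exclD_a23 : allBelow (exclPt 15 8 8 levels FD goodD) 17136 = true :=
  allBelow_append (m := 16422) (len := 714) rfl (exclD_a22) exclD_p23

theorem exclD_a24 : allBelow (exclPt 15 8 8 levels FD goodD) 17850 = true :=
  allBelow_append (m := 17136) (len := 714) rfl (exclD_a23) exclD_p24

theorem exclD_a25 : allBelow (exclPt 15 8 8 levels FD goodD) 18564 = true :=
  allBelow_append (m := 17850) (len := 714) rfl (exclD_a24) exclD_p25

theorem exclD_a26 : allBelow (exclPt 15 8 8 levels FD goodD) 19278 = true :=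
  allBelow_append (m := 18564) (len := 714) rfl (exclD_a25) exclD_p26

theorem exclD_a27 : allBelow (exclPt 15 8 8 levels FD goodD) 19992 = true :=
  allBelow_append (m := 19278) (len := 714) rfl (exclD_a26) exclD_p27

theorem exclD_a28 : allBelow (exclPt 15 8 8 levels FD goodD) 20706 = true :=
  allBelow_append (m := 19992) (len := 714) rfl (exclD_a27) exclD_p28

theorem exclD_a29 : allBelow (exclPt 15 8 8 levels FD goodD) 21420 = true :=
  allBelow_append (m := 20706) (len := 714) rfl (exclD_a28) exclD_p29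

theorem exclD_a30 : allBelow (exclPt 15 8 8 levels FD goodD) 22134 = true :=
  allBelow_append (m := 21420) (len := 714) rfl (exclD_a29) exclD_p30

theorem exclD_a31 : allBelow (exclPt 15 8 8 levels FD goodD) 22848 = true :=
  allBelow_append (m := 22134) (len := 714) rfl (exclD_a30) exclD_p31

theorem exclD_a32 : allBelow (exclPt 15 8 8 levels FD goodD) 23562 = true :=
  allBelow_append (m := 22848) (len := 714) rfl (exclD_a31) exclD_p32

theorem exclD_a33 : allBelow (exclPt 15 8 8 levels FD goodD) 24276 = true :=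
  allBelow_append (m := 23562) (len := 714) rfl (exclD_a32) exclD_p33

theorem exclD_a34 : allBelow (exclPt 15 8 8 levels FD goodD) 24990 = true :=
  allBelow_append (m := 24276) (len := 714) rfl (exclD_a33) exclD_p34

theorem exclD_a35 : allBelow (exclPt 15 8 8 levels FD goodD) 25704 = true :=
  allBelow_append (m := 24990) (len := 714) rfl (exclD_a34) exclD_p35

theorem exclD_a36 : allBelow (exclPt 15 8 8 levels FD goodD) 26418 = true :=
  allBelow_append (m := 25704) (len := 714) rfl (exclD_a35) exclD_p36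

theorem exclD_a37 : allBelow (exclPt 15 8 8 levels FD goodD) 27132 = true :=
  allBelow_append (m := 26418) (len := 714) rfl (exclD_a36) exclD_p37

theorem exclD_a38 : allBelow (exclPt 15 8 8 levels FD goodD) 27846 = true :=
  allBelow_append (m := 27132) (len := 714) rfl (exclD_a37) exclD_p38

theorem exclD_a39 : allBelow (exclPt 15 8 8 levels FD goodD) 28560 = true :=
  allBelow_append (m := 27846) (len := 714) rfl (exclD_a38) exclD_p39

theorem exclD_a40 : allBelow (exclPt 15 8 8 levels FD goodD) 29274 = true :=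
  allBelow_append (m := 28560) (len := 714) rfl (exclD_a39) exclD_p40

theorem exclD_a41 : allBelow (exclPt 15 8 8 levels FD goodD) 29988 = true :=
  allBelow_append (m := 29274) (len := 714) rfl (exclD_a40) exclD_p41

theorem exclD_a42 : allBelow (exclPt 15 8 8 levels FD goodD) 30702 = true :=
  allBelow_append (m := 29988) (len := 714) rfl (exclD_a41) exclD_p42

theorem exclD_a43 : allBelow (exclPt 15 8 8 levels FD goodD) 31416 = true :=
  allBelow_append (m := 30702) (len := 714) rfl (exclD_a42) exclD_p43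

theorem exclD_pts : allBelow (exclPt 15 8 8 levels FD goodD) 31671 = true :=
  allBelow_append (m := 31416) (len := 255) rfl (exclD_a43) exclD_p44

end Cfsg.Agent.Lib.Helper15.Fi23O
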