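import Cfsg.Agent.Lib.Helper15.Fi23OAsm

set_option autoImplicit false
set_option maxRecDepth 100000
set_option maxHeartbeats 0
set_option Elab.async false

namespace Cfsg.Agent.Lib.Helper15.Fi23O

open Cfsg.Agent.Lib.Helper15.Walk Cfsg.Agent.Lib.Helper28.BSGS Cfsg.Agent.Lib.Helper22.SuzOut

theorem pair_cx0 : pairOKf 31671 15 cx0 cx0 = true := pairOKf_of_pts pair_cx0_pts

theorem pair_cx1 : pairOKf 31671 15 cx1 cx1 = true := pairOKf_of_pts pair_cx1_pts

theorem pair_cx2 : pairOKf 31671 15 cx2 cx2 = true := pairOKf_of_pts pair_cx2_pts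

theorem pair_cx3 : pairOKf 31671 15 cx3 cx3 = true := pairOKf_of_pts pair_cx3_pts

theorem pair_cx4 : pairOKf 31671 15 cx4 cx4 = true := pairOKf_of_pts pair_cx4_pts

theorem pair_cx5 : pairOKf 31671 15 cx5 cx5 = true := pairOKf_of_pts pair_cx5_pts

theorem pair_cx6 : pairOKf 31671 15 cx6 cx6 = true := pairOKf_of_pts pair_cx6_pts

theorem pair_cx7 : pairOKf 31671 15 cx7 cx7 = true := pairOKf_of_pts pair_cx7_pts

theorem pair_cx8 : pairOKf 31671 15 cx8 cx8 = true := pairOKf_of_pts pair_cx8_pts

theorem pair_cx9 : pairOKf 31671 15 cx9 cx9 = true := pairOKf_of_pts pair_cx9_pts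

theorem pair_sg0 : pairOKf 31671 15 sg0 sgi0 = true := pairOKf_of_pts pair_sg0_pts

theorem pair_sg1 : pairOKf 31671 15 sg1 sgi1 = true := pairOKf_of_pts pair_sg1_pts

theorem pair_sg2 : pairOKf 31671 15 sg2 sgi2 = true := pairOKf_of_pts pair_sg2_pts

theorem pair_sg3 : pairOKf 31671 15 sg3 sgi3 = true := pairOKf_of_pts pair_sg3_pts

theorem pair_sg4 : pairOKf 31671 15 sg4 sgi4 = true := pairOKf_of_pts pair_sg4_pts

theorem pair_sg5 : pairOKf 31671 15 sg5 sgi5 = true := pairOKf_of_pts pair_sg5_pts

theorem pair_sg6 : pairOKf 31671 15 sg6 sgi6 = true := pairOKf_of_pts pair_sg6_pts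

theorem pair_sg7 : pairOKf 31671 15 sg7 sgi7 = true := pairOKf_of_pts pair_sg7_pts

theorem pair_sg8 : pairOKf 31671 15 sg8 sgi8 = true := pairOKf_of_pts pair_sg8_pts

theorem pair_A : pairOKf 31671 15 tA tAi = true := pairOKf_of_pts pair_A_pts

theorem pair_D : pairOKf 31671 15 tD tDi = true := pairOKf_of_pts pair_D_pts

theorem pair_S : pairOKf 31671 15 tS tS = true := pairOKf_of_pts pair_S_pts

theorem pth_cs0 : pth0.all (fun c => Nat.blt (c / 2) (coxL ++ strongL.take 0).length) = true := by decide +kernel

theorem pth_cs1 : pth1.all (fun c => Nat.blt (c / 2) (coxL ++ strongL.take 1).length) = true := by decide +kernel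

theorem pth_cs2 : pth2.all (fun c => Nat.blt (c / 2) (coxL ++ strongL.take 2).length) = true := by decide +kernel

theorem pth_cs3 : pth3.all (fun c => Nat.blt (c / 2) (coxL ++ strongL.take 3).length) = true := by decide +kernel

theorem pth_cs4 : pth4.all (fun c => Nat.blt (c / 2) (coxL ++ strongL.take 4).length) = true := by decide +kernel

theorem pth_cs5 : pth5.all (fun c => Nat.blt (c / 2) (coxL ++ strongL.take 5).length) = true := by decide +kernel

theorem pth_cs6 : pth6.all (fun c => Nat.blt (c / 2) (coxL ++ strongL.take 6).length) = true := by decide +kernel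

theorem pth_cs7 : pth7.all (fun c => Nat.blt (c / 2) (coxL ++ strongL.take 7).length) = true := by decide +kernel

theorem pth_cs8 : pth8.all (fun c => Nat.blt (c / 2) (coxL ++ strongL.take 8).length) = true := by decide +kernel

theorem pthA_cs : pthA.all (fun c => Nat.blt (c / 2) allL.length) = true := by decide +kernel

theorem pthD_cs : pthD.all (fun c => Nat.blt (c / 2) allL.length) = true := by decide +kernel

theorem pthS_cs : pthS.all (fun c => Nat.blt (c / 2) allL.length) = true := by decide +kernel

theorem gp_cs0 : gp0.all (fun c => Nat.blt (c / 2) adsL.length) = true := by decide +kernel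

theorem gp_cs1 : gp1.all (fun c => Nat.blt (c / 2) adsL.length) = true := by decide +kernel

theorem gp_cs2 : gp2.all (fun c => Nat.blt (c / 2) adsL.length) = true := by decide +kernel

theorem gp_cs3 : gp3.all (fun c => Nat.blt (c / 2) adsL.length) = true := by decide +kernel

theorem gp_cs4 : gp4.all (fun c => Nat.blt (c / 2) adsL.length) = true := by decide +kernel

theorem gp_cs5 : gp5.all (fun c => Nat.blt (c / 2) adsL.length) = true := by decide +kernel

theorem gp_cs6 : gp6.all (fun c => Nat.blt (c / 2) adsL.length) = true := by decide +kernel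

theorem gp_cs7 : gp7.all (fun c => Nat.blt (c / 2) adsL.length) = true := by decide +kernel

theorem gp_cs8 : gp8.all (fun c => Nat.blt (c / 2) adsL.length) = true := by decide +kernel

theorem gp_cs9 : gp9.all (fun c => Nat.blt (c / 2) adsL.length) = true := by decide +kernel

theorem lvl_ok0 : wlevelOK 31671 15 8 8 [] lv0 = true :=
  wlevelOK_of_pts (by decide +kernel) (by decide +kernel) lvl0_pts

theorem len0 : (orbList 31671 8 lv0).length = 31671 := by decide +kernel

theorem sub0 : (lv0.gs.all fun g => allL.contains g) = true := by decide +kernel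

theorem lvl_ok1 : wlevelOK 31671 15 8 8 [lv0.b] lv1 = true :=
  wlevelOK_of_pts (by decide +kernel) (by decide +kernel) lvl1_pts

theorem len1 : (orbList 31671 8 lv1).length = 28160 := by decide +kernel

theorem sub1 : (lv1.gs.all fun g => allL.contains g) = true := by decide +kernel

theorem lvl_ok2 : wlevelOK 31671 15 8 8 [lv1.b, lv0.b] lv2 = true :=
  wlevelOK_of_pts (by decide +kernel) (by decide +kernel) lvl2_pts

theorem len2 : (orbList 31671 8 lv2).length = 21840 := by decide +kernel

theorem sub2 : (lv2.gs.all fun g => allL.contains g) = true := by decide +kernel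

theorem lvl_ok3 : wlevelOK 31671 15 8 8 [lv2.b, lv1.b, lv0.b] lv3 = true :=
  wlevelOK_of_pts (by decide +kernel) (by decide +kernel) lvl3_pts

theorem len3 : (orbList 31671 8 lv3).length = 2187 := by decide +kernel

theorem sub3 : (lv3.gs.all fun g => allL.contains g) = true := by decide +kernel

theorem lvl_ok4 : wlevelOK 31671 15 8 8 [lv3.b, lv2.b, lv1.b, lv0.b] lv4 = true :=
  wlevelOK_of_pts (by decide +kernel) (by decide +kernel) lvl4_pts

theorem len4 : (orbList 31671 8 lv4).length = 96 := by decide +kernel

theorem sub4 : (lv4.gs.all fun g => allL.contains g) = true := by decide +kernel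

theorem lvl_ok5 : wlevelOK 31671 15 8 8 [lv4.b, lv3.b, lv2.b, lv1.b, lv0.b] lv5 = true :=
  wlevelOK_of_pts (by decide +kernel) (by decide +kernel) lvl5_pts

theorem len5 : (orbList 31671 8 lv5).length = 1 := by decide +kernel

theorem sub5 : (lv5.gs.all fun g => allL.contains g) = true := by decide +kernel

theorem lvl_ok6 : wlevelOK 31671 15 8 8 [lv5.b, lv4.b, lv3.b, lv2.b, lv1.b, lv0.b] lv6 = true :=
  wlevelOK_of_pts (by decide +kernel) (by decide +kernel) lvl6_pts

theorem len6 : (orbList 31671 8 lv6).length = 1 := by decide +kernel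

theorem sub6 : (lv6.gs.all fun g => allL.contains g) = true := by decide +kernel

theorem lvl_ok7 : wlevelOK 31671 15 8 8 [lv6.b, lv5.b, lv4.b, lv3.b, lv2.b, lv1.b, lv0.b] lv7 = true :=
  wlevelOK_of_pts (by decide +kernel) (by decide +kernel) lvl7_pts

theorem len7 : (orbList 31671 8 lv7).length = 1 := by decide +kernel

theorem sub7 : (lv7.gs.all fun g => allL.contains g) = true := by decide +kernel

theorem lvl_ok8 : wlevelOK 31671 15 8 8 [lv7.b, lv6.b, lv5.b, lv4.b, lv3.b, lv2.b, lv1.b, lv0.b] lv8 = true :=
  wlevelOK_of_pts (by decide +kernel) (by decide +kernel) lvl8_pts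

theorem len8 : (orbList 31671 8 lv8).length = 1 := by decide +kernel

theorem sub8 : (lv8.gs.all fun g => allL.contains g) = true := by decide +kernel

theorem rel_da : wordEqF 31671 15 [tD, tA] [tA, tA, tA, tD] = true := wordEqF_of_pts rel_da_pts

theorem rel_sd : wordEqF 31671 15 [tS, tD] [tD, tS] = true := wordEqF_of_pts rel_sd_pts

theorem rel_a17 : wordIdF 31671 15 (List.replicate 17 tA) = true := wordIdF_of_pts rel_a17_pts

theorem rel_d16 : wordIdF 31671 15 (List.replicate 16 tD) = true := wordIdF_of_pts rel_d16_pts

theorem rel_as10 : wordIdF 31671 15 (List.replicate 10 [tA, tS]).flatten = true := wordIdF_of_pts rel_as10_pts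

theorem fixD : allBelow (fun x => Nat.beq x 28847 || !(Nat.beq (look 15 tD x) x)) 31671 = true := by decide +kernel

theorem exclA : allBelow (fun u => !(wsift 15 8 8 levels (FA u)) || goodA u) 31671 = true := exclA_pts

theorem exclD : allBelow (fun u => !(wsift 15 8 8 levels (FD u)) || goodD u) 31671 = true := exclD_pts

/-- the relator number `i` is the identity on all points -/
def RelAt (i : ℕ) : Prop := wordIdF 31671 15 (relTabs (myBases.getD i [])) = true

theorem rel_upto0 : ∀ i, i < 0 → RelAt i := fun i hi => absurd hi (Nat.not_lt_zero i)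

theorem rel_upto1 : ∀ i, i < 1 → RelAt i := by
  intro i hi
  rcases Nat.lt_or_ge i 0 with h | h
  · exact rel_upto0 i h
  · have : i = 0 := by omega
    subst this
    exact wordIdF_of_pts rel0_pts

theorem rel_upto2 : ∀ i, i < 2 → RelAt i := by
  intro i hi
  rcases Nat.lt_or_ge i 1 with h | h
  · exact rel_upto1 i h
  · have : i = 1 := by omega
    subst this
    exact wordIdF_of_pts rel1_pts

theorem rel_upto3 : ∀ i, i < 3 → RelAt i := by
  intro i hi
  rcases Nat.lt_or_ge i 2 with h | h
  · exact rel_upto2 i h
  · have : i = 2 := by omega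
    subst this
    exact wordIdF_of_pts rel2_pts

theorem rel_upto4 : ∀ i, i < 4 → RelAt i := by
  intro i hi
  rcases Nat.lt_or_ge i 3 with h | h
  · exact rel_upto3 i h
  · have : i = 3 := by omega
    subst this
    exact wordIdF_of_pts rel3_pts

theorem rel_upto5 : ∀ i, i < 5 → RelAt i := by
  intro i hi
  rcases Nat.lt_or_ge i 4 with h | h
  · exact rel_upto4 i h
  · have : i = 4 := by omega
    subst this
    exact wordIdF_of_pts rel4_pts

theorem rel_upto6 : ∀ i, i < 6 → RelAt i := by
  intro i hi
  rcases Nat.lt_or_ge i 5 with h | h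
  · exact rel_upto5 i h
  · have : i = 5 := by omega
    subst this
    exact wordIdF_of_pts rel5_pts

theorem rel_upto7 : ∀ i, i < 7 → RelAt i := by
  intro i hi
  rcases Nat.lt_or_ge i 6 with h | h
  · exact rel_upto6 i h
  · have : i = 6 := by omega
    subst this
    exact wordIdF_of_pts rel6_pts

theorem rel_upto8 : ∀ i, i < 8 → RelAt i := by
  intro i hi
  rcases Nat.lt_or_ge i 7 with h | h
  · exact rel_upto7 i h
  · have : i = 7 := by omega
    subst this
    exact wordIdF_of_pts rel7_pts

theorem rel_upto9 : ∀ i, i < 9 → RelAt i := by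
  intro i hi
  rcases Nat.lt_or_ge i 8 with h | h
  · exact rel_upto8 i h
  · have : i = 8 := by omega
    subst this
    exact wordIdF_of_pts rel8_pts

theorem rel_upto10 : ∀ i, i < 10 → RelAt i := by
  intro i hi
  rcases Nat.lt_or_ge i 9 with h | h
  · exact rel_upto9 i h
  · have : i = 9 := by omega
    subst this
    exact wordIdF_of_pts rel9_pts

theorem rel_upto11 : ∀ i, i < 11 → RelAt i := by
  intro i hi
  rcases Nat.lt_or_ge i 10 with h | h
  · exact rel_upto10 i h
  · have : i = 10 := by omega
    subst this
    exact wordIdF_of_pts rel10_pts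

theorem rel_upto12 : ∀ i, i < 12 → RelAt i := by
  intro i hi
  rcases Nat.lt_or_ge i 11 with h | h
  · exact rel_upto11 i h
  · have : i = 11 := by omega
    subst this
    exact wordIdF_of_pts rel11_pts

theorem rel_upto13 : ∀ i, i < 13 → RelAt i := by
  intro i hi
  rcases Nat.lt_or_ge i 12 with h | h
  · exact rel_upto12 i h
  · have : i = 12 := by omega
    subst this
    exact wordIdF_of_pts rel12_pts

theorem rel_upto14 : ∀ i, i < 14 → RelAt i := by
  intro i hi
  rcases Nat.lt_or_ge i 13 with h | h
  · exact rel_upto13 i h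
  · have : i = 13 := by omega
    subst this
    exact wordIdF_of_pts rel13_pts

theorem rel_upto15 : ∀ i, i < 15 → RelAt i := by
  intro i hi
  rcases Nat.lt_or_ge i 14 with h | h
  · exact rel_upto14 i h
  · have : i = 14 := by omega
    subst this
    exact wordIdF_of_pts rel14_pts

theorem rel_upto16 : ∀ i, i < 16 → RelAt i := by
  intro i hi
  rcases Nat.lt_or_ge i 15 with h | h
  · exact rel_upto15 i h
  · have : i = 15 := by omega
    subst this
    exact wordIdF_of_pts rel15_pts

theorem rel_upto17 : ∀ i, i < 17 → RelAt i := by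
  intro i hi
  rcases Nat.lt_or_ge i 16 with h | h
  · exact rel_upto16 i h
  · have : i = 16 := by omega
    subst this
    exact wordIdF_of_pts rel16_pts

theorem rel_upto18 : ∀ i, i < 18 → RelAt i := by
  intro i hi
  rcases Nat.lt_or_ge i 17 with h | h
  · exact rel_upto17 i h
  · have : i = 17 := by omega
    subst this
    exact wordIdF_of_pts rel17_pts

theorem rel_upto19 : ∀ i, i < 19 → RelAt i := by
  intro i hi
  rcases Nat.lt_or_ge i 18 with h | h
  · exact rel_upto18 i h
  · have : i = 18 := by omega
    subst this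
    exact wordIdF_of_pts rel18_pts

theorem rel_upto20 : ∀ i, i < 20 → RelAt i := by
  intro i hi
  rcases Nat.lt_or_ge i 19 with h | h
  · exact rel_upto19 i h
  · have : i = 19 := by omega
    subst this
    exact wordIdF_of_pts rel19_pts

theorem rel_upto21 : ∀ i, i < 21 → RelAt i := by
  intro i hi
  rcases Nat.lt_or_ge i 20 with h | h
  · exact rel_upto20 i h
  · have : i = 20 := by omega
    subst this
    exact wordIdF_of_pts rel20_pts

theorem rel_upto22 : ∀ i, i < 22 → RelAt i := by
  intro i hi
  rcases Nat.lt_or_ge i 21 with h | h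
  · exact rel_upto21 i h
  · have : i = 21 := by omega
    subst this
    exact wordIdF_of_pts rel21_pts

theorem rel_upto23 : ∀ i, i < 23 → RelAt i := by
  intro i hi
  rcases Nat.lt_or_ge i 22 with h | h
  · exact rel_upto22 i h
  · have : i = 22 := by omega
    subst this
    exact wordIdF_of_pts rel22_pts

theorem rel_upto24 : ∀ i, i < 24 → RelAt i := by
  intro i hi
  rcases Nat.lt_or_ge i 23 with h | h
  · exact rel_upto23 i h
  · have : i = 23 := by omega
    subst this
    exact wordIdF_of_pts rel23_pts

theorem rel_upto25 : ∀ i, i < 25 → RelAt i := by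
  intro i hi
  rcases Nat.lt_or_ge i 24 with h | h
  · exact rel_upto24 i h
  · have : i = 24 := by omega
    subst this
    exact wordIdF_of_pts rel24_pts

theorem rel_upto26 : ∀ i, i < 26 → RelAt i := by
  intro i hi
  rcases Nat.lt_or_ge i 25 with h | h
  · exact rel_upto25 i h
  · have : i = 25 := by omega
    subst this
    exact wordIdF_of_pts rel25_pts

theorem rel_upto27 : ∀ i, i < 27 → RelAt i := by
  intro i hi
  rcases Nat.lt_or_ge i 26 with h | h
  · exact rel_upto26 i h
  · have : i = 26 := by omega
    subst this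
    exact wordIdF_of_pts rel26_pts

theorem rel_upto28 : ∀ i, i < 28 → RelAt i := by
  intro i hi
  rcases Nat.lt_or_ge i 27 with h | h
  · exact rel_upto27 i h
  · have : i = 27 := by omega
    subst this
    exact wordIdF_of_pts rel27_pts

theorem rel_upto29 : ∀ i, i < 29 → RelAt i := by
  intro i hi
  rcases Nat.lt_or_ge i 28 with h | h
  · exact rel_upto28 i h
  · have : i = 28 := by omega
    subst this
    exact wordIdF_of_pts rel28_pts

theorem rel_upto30 : ∀ i, i < 30 → RelAt i := by
  intro i hi
  rcases Nat.lt_or_ge i 29 with h | h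
  · exact rel_upto29 i h
  · have : i = 29 := by omega
    subst this
    exact wordIdF_of_pts rel29_pts

theorem rel_upto31 : ∀ i, i < 31 → RelAt i := by
  intro i hi
  rcases Nat.lt_or_ge i 30 with h | h
  · exact rel_upto30 i h
  · have : i = 30 := by omega
    subst this
    exact wordIdF_of_pts rel30_pts

theorem rel_upto32 : ∀ i, i < 32 → RelAt i := by
  intro i hi
  rcases Nat.lt_or_ge i 31 with h | h
  · exact rel_upto31 i h
  · have : i = 31 := by omega
    subst this
    exact wordIdF_of_pts rel31_pts

theorem rel_upto33 : ∀ i, i < 33 → RelAt i := by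
  intro i hi
  rcases Nat.lt_or_ge i 32 with h | h
  · exact rel_upto32 i h
  · have : i = 32 := by omega
    subst this
    exact wordIdF_of_pts rel32_pts

theorem rel_upto34 : ∀ i, i < 34 → RelAt i := by
  intro i hi
  rcases Nat.lt_or_ge i 33 with h | h
  · exact rel_upto33 i h
  · have : i = 33 := by omega
    subst this
    exact wordIdF_of_pts rel33_pts

theorem rel_upto35 : ∀ i, i < 35 → RelAt i := by
  intro i hi
  rcases Nat.lt_or_ge i 34 with h | h
  · exact rel_upto34 i h
  · have : i = 34 := by omega
    subst this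
    exact wordIdF_of_pts rel34_pts

theorem rel_upto36 : ∀ i, i < 36 → RelAt i := by
  intro i hi
  rcases Nat.lt_or_ge i 35 with h | h
  · exact rel_upto35 i h
  · have : i = 35 := by omega
    subst this
    exact wordIdF_of_pts rel35_pts

theorem rel_upto37 : ∀ i, i < 37 → RelAt i := by
  intro i hi
  rcases Nat.lt_or_ge i 36 with h | h
  · exact rel_upto36 i h
  · have : i = 36 := by omega
    subst this
    exact wordIdF_of_pts rel36_pts

theorem rel_upto38 : ∀ i, i < 38 → RelAt i := by
  intro i hi
  rcases Nat.lt_or_ge i 37 with h | h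
  · exact rel_upto37 i h
  · have : i = 37 := by omega
    subst this
    exact wordIdF_of_pts rel37_pts

theorem rel_upto39 : ∀ i, i < 39 → RelAt i := by
  intro i hi
  rcases Nat.lt_or_ge i 38 with h | h
  · exact rel_upto38 i h
  · have : i = 38 := by omega
    subst this
    exact wordIdF_of_pts rel38_pts

theorem rel_upto40 : ∀ i, i < 40 → RelAt i := by
  intro i hi
  rcases Nat.lt_or_ge i 39 with h | h
  · exact rel_upto39 i h
  · have : i = 39 := by omega
    subst this
    exact wordIdF_of_pts rel39_pts

theorem rel_upto41 : ∀ i, i < 41 → RelAt i := by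
  intro i hi
  rcases Nat.lt_or_ge i 40 with h | h
  · exact rel_upto40 i h
  · have : i = 40 := by omega
    subst this
    exact wordIdF_of_pts rel40_pts

theorem rel_upto42 : ∀ i, i < 42 → RelAt i := by
  intro i hi
  rcases Nat.lt_or_ge i 41 with h | h
  · exact rel_upto41 i h
  · have : i = 41 := by omega
    subst this
    exact wordIdF_of_pts rel41_pts

theorem rel_upto43 : ∀ i, i < 43 → RelAt i := by
  intro i hi
  rcases Nat.lt_or_ge i 42 with h | h
  · exact rel_upto42 i h
  · have : i = 42 := by omega
    subst this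
    exact wordIdF_of_pts rel42_pts

theorem rel_upto44 : ∀ i, i < 44 → RelAt i := by
  intro i hi
  rcases Nat.lt_or_ge i 43 with h | h
  · exact rel_upto43 i h
  · have : i = 43 := by omega
    subst this
    exact wordIdF_of_pts rel43_pts

theorem rel_upto45 : ∀ i, i < 45 → RelAt i := by
  intro i hi
  rcases Nat.lt_or_ge i 44 with h | h
  · exact rel_upto44 i h
  · have : i = 44 := by omega
    subst this
    exact wordIdF_of_pts rel44_pts

theorem rel_upto46 : ∀ i, i < 46 → RelAt i := by
  intro i hi
  rcases Nat.lt_or_ge i 45 with h | h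
  · exact rel_upto45 i h
  · have : i = 45 := by omega
    subst this
    exact wordIdF_of_pts rel45_pts

theorem rel_upto47 : ∀ i, i < 47 → RelAt i := by
  intro i hi
  rcases Nat.lt_or_ge i 46 with h | h
  · exact rel_upto46 i h
  · have : i = 46 := by omega
    subst this
    exact wordIdF_of_pts rel46_pts

theorem rel_upto48 : ∀ i, i < 48 → RelAt i := by
  intro i hi
  rcases Nat.lt_or_ge i 47 with h | h
  · exact rel_upto47 i h
  · have : i = 47 := by omega
    subst this
    exact wordIdF_of_pts rel47_pts

theorem rel_upto49 : ∀ i, i < 49 → RelAt i := by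
  intro i hi
  rcases Nat.lt_or_ge i 48 with h | h
  · exact rel_upto48 i h
  · have : i = 48 := by omega
    subst this
    exact wordIdF_of_pts rel48_pts

theorem rel_upto50 : ∀ i, i < 50 → RelAt i := by
  intro i hi
  rcases Nat.lt_or_ge i 49 with h | h
  · exact rel_upto49 i h
  · have : i = 49 := by omega
    subst this
    exact wordIdF_of_pts rel49_pts

theorem rel_upto51 : ∀ i, i < 51 → RelAt i := by
  intro i hi
  rcases Nat.lt_or_ge i 50 with h | h
  · exact rel_upto50 i h
  · have : i = 50 := by omega
    subst this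
    exact wordIdF_of_pts rel50_pts

theorem rel_upto52 : ∀ i, i < 52 → RelAt i := by
  intro i hi
  rcases Nat.lt_or_ge i 51 with h | h
  · exact rel_upto51 i h
  · have : i = 51 := by omega
    subst this
    exact wordIdF_of_pts rel51_pts

theorem rel_upto53 : ∀ i, i < 53 → RelAt i := by
  intro i hi
  rcases Nat.lt_or_ge i 52 with h | h
  · exact rel_upto52 i h
  · have : i = 52 := by omega
    subst this
    exact wordIdF_of_pts rel52_pts

theorem rel_upto54 : ∀ i, i < 54 → RelAt i := by
  intro i hi
  rcases Nat.lt_or_ge i 53 with h | h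
  · exact rel_upto53 i h
  · have : i = 53 := by omega
    subst this
    exact wordIdF_of_pts rel53_pts

theorem rel_upto55 : ∀ i, i < 55 → RelAt i := by
  intro i hi
  rcases Nat.lt_or_ge i 54 with h | h
  · exact rel_upto54 i h
  · have : i = 54 := by omega
    subst this
    exact wordIdF_of_pts rel54_pts

theorem rel_upto56 : ∀ i, i < 56 → RelAt i := by
  intro i hi
  rcases Nat.lt_or_ge i 55 with h | h
  · exact rel_upto55 i h
  · have : i = 55 := by omega
    subst this
    exact wordIdF_of_pts rel55_pts

theorem rel_upto57 : ∀ i, i < 57 → RelAt i := by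
  intro i hi
  rcases Nat.lt_or_ge i 56 with h | h
  · exact rel_upto56 i h
  · have : i = 56 := by omega
    subst this
    exact wordIdF_of_pts rel56_pts

theorem rel_upto58 : ∀ i, i < 58 → RelAt i := by
  intro i hi
  rcases Nat.lt_or_ge i 57 with h | h
  · exact rel_upto57 i h
  · have : i = 57 := by omega
    subst this
    exact wordIdF_of_pts rel57_pts

theorem rel_upto59 : ∀ i, i < 59 → RelAt i := by
  intro i hi
  rcases Nat.lt_or_ge i 58 with h | h
  · exact rel_upto58 i h
  · have : i = 58 := by omega
    subst this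
    exact wordIdF_of_pts rel58_pts

theorem rel_upto60 : ∀ i, i < 60 → RelAt i := by
  intro i hi
  rcases Nat.lt_or_ge i 59 with h | h
  · exact rel_upto59 i h
  · have : i = 59 := by omega
    subst this
    exact wordIdF_of_pts rel59_pts

theorem rel_upto61 : ∀ i, i < 61 → RelAt i := by
  intro i hi
  rcases Nat.lt_or_ge i 60 with h | h
  · exact rel_upto60 i h
  · have : i = 60 := by omega
    subst this
    exact wordIdF_of_pts rel60_pts

theorem rel_upto62 : ∀ i, i < 62 → RelAt i := by
  intro i hi
  rcases Nat.lt_or_ge i 61 with h | h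
  · exact rel_upto61 i h
  · have : i = 61 := by omega
    subst this
    exact wordIdF_of_pts rel61_pts

theorem rel_upto63 : ∀ i, i < 63 → RelAt i := by
  intro i hi
  rcases Nat.lt_or_ge i 62 with h | h
  · exact rel_upto62 i h
  · have : i = 62 := by omega
    subst this
    exact wordIdF_of_pts rel62_pts

theorem rel_upto64 : ∀ i, i < 64 → RelAt i := by
  intro i hi
  rcases Nat.lt_or_ge i 63 with h | h
  · exact rel_upto63 i h
  · have : i = 63 := by omega
    subst this
    exact wordIdF_of_pts rel63_pts

theorem rel_upto65 : ∀ i, i < 65 → RelAt i := by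
  intro i hi
  rcases Nat.lt_or_ge i 64 with h | h
  · exact rel_upto64 i h
  · have : i = 64 := by omega
    subst this
    exact wordIdF_of_pts rel64_pts

theorem rel_upto66 : ∀ i, i < 66 → RelAt i := by
  intro i hi
  rcases Nat.lt_or_ge i 65 with h | h
  · exact rel_upto65 i h
  · have : i = 65 := by omega
    subst this
    exact wordIdF_of_pts rel65_pts

theorem rel_upto67 : ∀ i, i < 67 → RelAt i := by
  intro i hi
  rcases Nat.lt_or_ge i 66 with h | h
  · exact rel_upto66 i h
  · have : i = 66 := by omega
    subst this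
    exact wordIdF_of_pts rel66_pts

theorem rel_upto68 : ∀ i, i < 68 → RelAt i := by
  intro i hi
  rcases Nat.lt_or_ge i 67 with h | h
  · exact rel_upto67 i h
  · have : i = 67 := by omega
    subst this
    exact wordIdF_of_pts rel67_pts

theorem rel_upto69 : ∀ i, i < 69 → RelAt i := by
  intro i hi
  rcases Nat.lt_or_ge i 68 with h | h
  · exact rel_upto68 i h
  · have : i = 68 := by omega
    subst this
    exact wordIdF_of_pts rel68_pts

theorem rel_upto70 : ∀ i, i < 70 → RelAt i := by
  intro i hi
  rcases Nat.lt_or_ge i 69 with h | h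
  · exact rel_upto69 i h
  · have : i = 69 := by omega
    subst this
    exact wordIdF_of_pts rel69_pts

theorem rel_upto71 : ∀ i, i < 71 → RelAt i := by
  intro i hi
  rcases Nat.lt_or_ge i 70 with h | h
  · exact rel_upto70 i h
  · have : i = 70 := by omega
    subst this
    exact wordIdF_of_pts rel70_pts

theorem rel_upto72 : ∀ i, i < 72 → RelAt i := by
  intro i hi
  rcases Nat.lt_or_ge i 71 with h | h
  · exact rel_upto71 i h
  · have : i = 71 := by omega
    subst this
    exact wordIdF_of_pts rel71_pts

theorem rel_upto73 : ∀ i, i < 73 → RelAt i := by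
  intro i hi
  rcases Nat.lt_or_ge i 72 with h | h
  · exact rel_upto72 i h
  · have : i = 72 := by omega
    subst this
    exact wordIdF_of_pts rel72_pts

theorem rel_upto74 : ∀ i, i < 74 → RelAt i := by
  intro i hi
  rcases Nat.lt_or_ge i 73 with h | h
  · exact rel_upto73 i h
  · have : i = 73 := by omega
    subst this
    exact wordIdF_of_pts rel73_pts

theorem rel_upto75 : ∀ i, i < 75 → RelAt i := by
  intro i hi
  rcases Nat.lt_or_ge i 74 with h | h
  · exact rel_upto74 i h
  · have : i = 74 := by omega
    subst this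
    exact wordIdF_of_pts rel74_pts

theorem rel_upto76 : ∀ i, i < 76 → RelAt i := by
  intro i hi
  rcases Nat.lt_or_ge i 75 with h | h
  · exact rel_upto75 i h
  · have : i = 75 := by omega
    subst this
    exact wordIdF_of_pts rel75_pts

theorem rel_upto77 : ∀ i, i < 77 → RelAt i := by
  intro i hi
  rcases Nat.lt_or_ge i 76 with h | h
  · exact rel_upto76 i h
  · have : i = 76 := by omega
    subst this
    exact wordIdF_of_pts rel76_pts

theorem rel_upto78 : ∀ i, i < 78 → RelAt i := by
  intro i hi
  rcases Nat.lt_or_ge i 77 with h | h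
  · exact rel_upto77 i h
  · have : i = 77 := by omega
    subst this
    exact wordIdF_of_pts rel77_pts

theorem rel_upto79 : ∀ i, i < 79 → RelAt i := by
  intro i hi
  rcases Nat.lt_or_ge i 78 with h | h
  · exact rel_upto78 i h
  · have : i = 78 := by omega
    subst this
    exact wordIdF_of_pts rel78_pts

theorem rel_upto80 : ∀ i, i < 80 → RelAt i := by
  intro i hi
  rcases Nat.lt_or_ge i 79 with h | h
  · exact rel_upto79 i h
  · have : i = 79 := by omega
    subst this
    exact wordIdF_of_pts rel79_pts

theorem rel_upto81 : ∀ i, i < 81 → RelAt i := by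
  intro i hi
  rcases Nat.lt_or_ge i 80 with h | h
  · exact rel_upto80 i h
  · have : i = 80 := by omega
    subst this
    exact wordIdF_of_pts rel80_pts

theorem rel_upto82 : ∀ i, i < 82 → RelAt i := by
  intro i hi
  rcases Nat.lt_or_ge i 81 with h | h
  · exact rel_upto81 i h
  · have : i = 81 := by omega
    subst this
    exact wordIdF_of_pts rel81_pts

theorem rel_upto83 : ∀ i, i < 83 → RelAt i := by
  intro i hi
  rcases Nat.lt_or_ge i 82 with h | h
  · exact rel_upto82 i h
  · have : i = 82 := by omega
    subst this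
    exact wordIdF_of_pts rel82_pts

theorem rel_upto84 : ∀ i, i < 84 → RelAt i := by
  intro i hi
  rcases Nat.lt_or_ge i 83 with h | h
  · exact rel_upto83 i h
  · have : i = 83 := by omega
    subst this
    exact wordIdF_of_pts rel83_pts

theorem rel_upto85 : ∀ i, i < 85 → RelAt i := by
  intro i hi
  rcases Nat.lt_or_ge i 84 with h | h
  · exact rel_upto84 i h
  · have : i = 84 := by omega
    subst this
    exact wordIdF_of_pts rel84_pts

theorem rel_upto86 : ∀ i, i < 86 → RelAt i := by
  intro i hi
  rcases Nat.lt_or_ge i 85 with h | h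
  · exact rel_upto85 i h
  · have : i = 85 := by omega
    subst this
    exact wordIdF_of_pts rel85_pts

theorem rel_upto87 : ∀ i, i < 87 → RelAt i := by
  intro i hi
  rcases Nat.lt_or_ge i 86 with h | h
  · exact rel_upto86 i h
  · have : i = 86 := by omega
    subst this
    exact wordIdF_of_pts rel86_pts

theorem rel_upto88 : ∀ i, i < 88 → RelAt i := by
  intro i hi
  rcases Nat.lt_or_ge i 87 with h | h
  · exact rel_upto87 i h
  · have : i = 87 := by omega
    subst this
    exact wordIdF_of_pts rel87_pts

theorem rel_upto89 : ∀ i, i < 89 → RelAt i := by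
  intro i hi
  rcases Nat.lt_or_ge i 88 with h | h
  · exact rel_upto88 i h
  · have : i = 88 := by omega
    subst this
    exact wordIdF_of_pts rel88_pts

theorem rel_upto90 : ∀ i, i < 90 → RelAt i := by
  intro i hi
  rcases Nat.lt_or_ge i 89 with h | h
  · exact rel_upto89 i h
  · have : i = 89 := by omega
    subst this
    exact wordIdF_of_pts rel89_pts

theorem rel_upto91 : ∀ i, i < 91 → RelAt i := by
  intro i hi
  rcases Nat.lt_or_ge i 90 with h | h
  · exact rel_upto90 i h
  · have : i = 90 := by omega
    subst this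
    exact wordIdF_of_pts rel90_pts

theorem rel_upto92 : ∀ i, i < 92 → RelAt i := by
  intro i hi
  rcases Nat.lt_or_ge i 91 with h | h
  · exact rel_upto91 i h
  · have : i = 91 := by omega
    subst this
    exact wordIdF_of_pts rel91_pts

theorem rel_upto93 : ∀ i, i < 93 → RelAt i := by
  intro i hi
  rcases Nat.lt_or_ge i 92 with h | h
  · exact rel_upto92 i h
  · have : i = 92 := by omega
    subst this
    exact wordIdF_of_pts rel92_pts

theorem rel_upto94 : ∀ i, i < 94 → RelAt i := by
  intro i hi
  rcases Nat.lt_or_ge i 93 with h | h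
  · exact rel_upto93 i h
  · have : i = 93 := by omega
    subst this
    exact wordIdF_of_pts rel93_pts

theorem rel_upto95 : ∀ i, i < 95 → RelAt i := by
  intro i hi
  rcases Nat.lt_or_ge i 94 with h | h
  · exact rel_upto94 i h
  · have : i = 94 := by omega
    subst this
    exact wordIdF_of_pts rel94_pts

theorem rel_upto96 : ∀ i, i < 96 → RelAt i := by
  intro i hi
  rcases Nat.lt_or_ge i 95 with h | h
  · exact rel_upto95 i h
  · have : i = 95 := by omega
    subst this
    exact wordIdF_of_pts rel95_pts

theorem rel_upto97 : ∀ i, i < 97 → RelAt i := by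
  intro i hi
  rcases Nat.lt_or_ge i 96 with h | h
  · exact rel_upto96 i h
  · have : i = 96 := by omega
    subst this
    exact wordIdF_of_pts rel96_pts

theorem rel_upto98 : ∀ i, i < 98 → RelAt i := by
  intro i hi
  rcases Nat.lt_or_ge i 97 with h | h
  · exact rel_upto97 i h
  · have : i = 97 := by omega
    subst this
    exact wordIdF_of_pts rel97_pts

theorem rel_upto99 : ∀ i, i < 99 → RelAt i := by
  intro i hi
  rcases Nat.lt_or_ge i 98 with h | h
  · exact rel_upto98 i h
  · have : i = 98 := by omega
    subst this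
    exact wordIdF_of_pts rel98_pts

theorem rel_upto100 : ∀ i, i < 100 → RelAt i := by
  intro i hi
  rcases Nat.lt_or_ge i 99 with h | h
  · exact rel_upto99 i h
  · have : i = 99 := by omega
    subst this
    exact wordIdF_of_pts rel99_pts

theorem rel_upto101 : ∀ i, i < 101 → RelAt i := by
  intro i hi
  rcases Nat.lt_or_ge i 100 with h | h
  · exact rel_upto100 i h
  · have : i = 100 := by omega
    subst this
    exact wordIdF_of_pts rel100_pts

theorem rel_upto102 : ∀ i, i < 102 → RelAt i := by
  intro i hi
  rcases Nat.lt_or_ge i 101 with h | h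
  · exact rel_upto101 i h
  · have : i = 101 := by omega
    subst this
    exact wordIdF_of_pts rel101_pts

end Cfsg.Agent.Lib.Helper15.Fi23O
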