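import Cfsg.Agent.Lib.Helper15.WalkChain

/-!
# Kernel-friendly versions of the table checks, and the exclusion lemma for walk chains
-/

set_option autoImplicit false

namespace Cfsg.Agent.Lib.Helper15.Walk

open Cfsg.Agent.Lib.Helper28.BSGS Cfsg.Agent.Lib.Helper22.SuzOut MulAction

/-- `pairOK` with a direct loop -/
noncomputable def pairOKf (n w tu tv : ℕ) : Bool :=
  allBelow (fun a => Nat.blt (look w tu a) n && Nat.beq (look w tv (look w tu a)) a &&
    Nat.blt (look w tv a) n && Nat.beq (look w tu (look w tv a)) a) n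

theorem pairOK_of_fast {n w tu tv : ℕ} (h : pairOKf n w tu tv = true) : pairOK n w tu tv = true := by
  unfold pairOK
  rw [List.all_eq_true]
  intro a ha
  have := allBelow_spec h a (List.mem_range.mp ha)
  simp only [Bool.and_eq_true, Nat.blt_eq] at this
  obtain ⟨⟨⟨h1, h2⟩, h3⟩, h4⟩ := this
  simp only [Bool.and_eq_true, decide_eq_true_eq, beq_iff_eq]
  exact ⟨⟨⟨h1, Nat.eq_of_beq_eq_true h2⟩, h3⟩, Nat.eq_of_beq_eq_true h4⟩

/-- `evalW` with a direct recursor -/
noncomputable def evalL (w : ℕ) (ws : List ℕ) (a : ℕ) : ℕ :=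
  List.rec (motive := fun _ => ℕ) a (fun t _ ih => look w t ih) ws

theorem evalL_eq (w : ℕ) (ws : List ℕ) (a : ℕ) : evalL w ws a = evalW w ws a := by
  induction ws with
  | nil => rfl
  | cons t ts ih =>
    show look w t (evalL w ts a) = look w t (evalW w ts a)
    rw [ih]

/-- `wordId` with direct loops -/
noncomputable def wordIdF (n w : ℕ) (ws : List ℕ) : Bool :=
  allBelow (fun a => Nat.beq (evalL w ws a) a) n

theorem wordId_of_fast {n w : ℕ} {ws : List ℕ} (h : wordIdF n w ws = true) :
    wordId n w ws = true := by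
  unfold wordId
  rw [List.all_eq_true]
  intro a ha
  have := Nat.eq_of_beq_eq_true (allBelow_spec h a (List.mem_range.mp ha))
  rw [evalL_eq] at this
  rw [this]
  exact beq_self_eq_true a

/-- `wordEq` with direct loops -/
noncomputable def wordEqF (n w : ℕ) (ws ws' : List ℕ) : Bool :=
  allBelow (fun a => Nat.beq (evalL w ws a) (evalL w ws' a)) n

theorem wordEq_of_fast {n w : ℕ} {ws ws' : List ℕ} (h : wordEqF n w ws ws' = true) :
    wordEq n w ws ws' = true := by
  unfold wordEq
  rw [List.all_eq_true]
  intro a ha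
  have := Nat.eq_of_beq_eq_true (allBelow_spec h a (List.mem_range.mp ha))
  rw [evalL_eq, evalL_eq] at this
  rw [this]
  exact beq_self_eq_true _

/-- iterated table lookup -/
noncomputable def iterT (w t : ℕ) (k : ℕ) (x : ℕ) : ℕ :=
  Nat.rec (motive := fun _ => ℕ) x (fun _ ih => look w t ih) k

theorem iterT_zero (w t x : ℕ) : iterT w t 0 x = x := rfl

theorem iterT_succ (w t k x : ℕ) : iterT w t (k + 1) x = look w t (iterT w t k x) := rfl

theorem iterT_spec {n w tu tv : ℕ} (h : pairOK n w tu tv = true) (k : ℕ) (a : Fin n) :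
    ((permOf n w tu tv ^ k) a).val = iterT w tu k a.val := by
  induction k with
  | zero => rfl
  | succ k ih =>
    rw [pow_succ', Equiv.Perm.mul_apply, permOf_apply h, ih, iterT_succ]

section excl

variable (n w sw D : ℕ) [NeZero n]

/-- EXCLUSION: if every tuple `F u` of candidate base images that sifts satisfies `good u`, and the
base images of `z` are `F u`, then `good u` -/
theorem excl (levels : List WLevel) (hwf : WalkWF n w sw D levels)
    (F : ℕ → List ℕ) (good : ℕ → Bool)
    (hchk : allBelow (fun u => !(wsift w sw D levels (F u)) || good u) n = true)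
    (z : Equiv.Perm (Fin n)) (hs : Sifts (levels.map (semW n w sw D)) z) (u : ℕ) (hu : u < n)
    (himg : List.Forall₂ (fun (lv : WLevel) (y : ℕ) => (z (pt n lv.b)).val = y) levels (F u)) :
    good u = true := by
  have h1 := wsift_sound n w sw D levels hwf z hs (F u) himg
  have h2 := allBelow_spec hchk u hu
  rw [h1] at h2
  simpa using h2

/-- two sifting elements with the same base images are equal -/
theorem eq_of_base (levels : List WLevel) (z z' : Equiv.Perm (Fin n))
    (hs : Sifts (levels.map (semW n w sw D)) z) (hs' : Sifts (levels.map (semW n w sw D)) z')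
    (h : ∀ lv ∈ levels, z (pt n lv.b) = z' (pt n lv.b)) : z = z' := by
  apply eq_of_sifts _ z z' hs hs'
  intro lv hlv
  rw [List.mem_map] at hlv
  obtain ⟨lv', hlv', rfl⟩ := hlv
  exact h lv' hlv'

end excl

end Cfsg.Agent.Lib.Helper15.Walk
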