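import Cfsg.Agent.Lib.Helper15.Fi23OT0
import Cfsg.Agent.Lib.Helper15.Fi23OT1
import Cfsg.Agent.Lib.Helper15.Fi23OT2
import Cfsg.Agent.Lib.Helper15.WalkFast
import Cfsg.Prelude.Def_Spor_Fi23

/-! # Fi23 on 31671 points: generators, chain levels, paths -/

set_option autoImplicit false

namespace Cfsg.Agent.Lib.Helper15.Fi23O

open Cfsg.Agent.Lib.Helper15.Walk

def coxL : List (ℕ × ℕ) := [(cx0, cx0), (cx1, cx1), (cx2, cx2), (cx3, cx3), (cx4, cx4), (cx5, cx5), (cx6, cx6), (cx7, cx7), (cx8, cx8), (cx9, cx9)]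

def strongL : List (ℕ × ℕ) := [(sg0, sgi0), (sg1, sgi1), (sg2, sgi2), (sg3, sgi3), (sg4, sgi4), (sg5, sgi5), (sg6, sgi6), (sg7, sgi7), (sg8, sgi8)]

def allL : List (ℕ × ℕ) := coxL ++ strongL

def adsL : List (ℕ × ℕ) := [(tA, tAi), (tD, tDi), (tS, tS)]

def lv0 : WLevel := ⟨28847, [(cx0, cx0), (cx1, cx1), (cx2, cx2), (cx3, cx3), (cx4, cx4), (cx5, cx5), (cx6, cx6), (cx7, cx7), (cx8, cx8), (cx9, cx9), (sg0, sgi0), (sg1, sgi1), (sg2, sgi2), (sg3, sgi3), (sg4, sgi4), (sg5, sgi5), (sg6, sgi6), (sg7, sgi7), (sg8, sgi8)], sv0⟩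

def lv1 : WLevel := ⟨6572, [(sg0, sgi0), (sg1, sgi1), (sg2, sgi2), (sg3, sgi3), (sg4, sgi4), (sg5, sgi5), (sg6, sgi6), (sg7, sgi7), (sg8, sgi8)], sv1⟩

def lv2 : WLevel := ⟨29554, [(sg2, sgi2), (sg3, sgi3), (sg4, sgi4), (sg5, sgi5), (sg6, sgi6), (sg7, sgi7), (sg8, sgi8)], sv2⟩

def lv3 : WLevel := ⟨13897, [(sg4, sgi4), (sg5, sgi5), (sg6, sgi6), (sg7, sgi7), (sg8, sgi8)], sv3⟩

def lv4 : WLevel := ⟨25165, [(sg6, sgi6), (sg7, sgi7), (sg8, sgi8)], sv4⟩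

def lv5 : WLevel := ⟨21966, [], sv5⟩

def lv6 : WLevel := ⟨1395, [], sv6⟩

def lv7 : WLevel := ⟨12824, [], sv7⟩

def lv8 : WLevel := ⟨31193, [], sv8⟩

def levels : List WLevel := [lv0, lv1, lv2, lv3, lv4, lv5, lv6, lv7, lv8]

def pth0 : List ℕ := [1, 17, 19, 17, 7, 5, 3, 1, 9, 11, 12, 3, 18, 12, 10, 8, 1, 3, 17, 6, 8, 4, 11, 4, 13, 17, 18, 2, 17, 6]

def pth1 : List ℕ := [1, 5, 15, 17, 12, 17, 11, 12, 11, 18, 5, 11, 10, 8, 0, 0, 8, 8, 11, 5, 10, 9, 13, 0]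

def pth2 : List ℕ := [21, 21, 21, 23, 21, 21, 21, 21, 23, 21, 23, 21, 21, 21, 23, 21, 23, 21, 21, 21, 7, 9, 11, 23, 13, 5, 6, 9, 4, 3, 10, 7, 5, 6, 15, 3, 7, 19, 9, 2, 10, 13, 9, 13, 19]

def pth3 : List ℕ := [21, 21, 25, 21, 23, 21, 21, 21, 23, 25, 23, 21, 1, 17, 25, 25, 9, 7, 5, 17, 1, 7, 3, 8, 4, 1, 18, 0, 7, 16, 1, 0, 5, 1, 0, 2, 15, 11]

def pth4 : List ℕ := [25, 27, 25, 25, 27, 25, 27, 25, 25, 21, 25, 21, 27, 25, 25, 21, 25, 25, 9, 15, 13, 17, 12, 19, 9, 11, 4, 12, 19, 11, 17, 0, 13, 14, 11, 13, 7, 8, 2, 7, 0, 10]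

def pth5 : List ℕ := [25, 25, 27, 25, 29, 27, 27, 27, 29, 25, 21, 27, 29, 25, 21, 27, 29, 19, 25, 25, 17, 17, 6, 16, 8, 12, 18, 8, 9, 14, 7, 11, 14, 5, 14, 7, 17, 2, 12, 1, 6]

def pth6 : List ℕ := [29, 29, 29, 29, 31, 29, 31, 31, 31, 31, 31, 29, 25, 31, 27, 29, 25, 29, 25, 31, 23, 31, 27, 23, 25, 31, 1, 11, 17, 21, 17, 2, 9, 6, 5, 0, 9, 1, 13, 3, 8, 9, 14, 11, 11, 13, 6, 15, 17, 9, 13]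

def pth7 : List ℕ := [29, 31, 33, 33, 31, 33, 31, 33, 27, 27, 25, 29, 25, 27, 29, 21, 27, 33, 33, 23, 25, 1, 19, 29, 11, 19, 16, 2, 10, 10, 8, 9, 10, 16, 14, 0, 18, 5, 15, 17, 10, 19, 8, 15, 4, 2]

def pth8 : List ℕ := [31, 29, 33, 33, 31, 29, 35, 25, 25, 35, 29, 35, 35, 23, 27, 23, 29, 25, 33, 1, 19, 16, 13, 9, 0, 1, 9, 17, 10, 14, 3, 3, 19, 2, 3, 6, 12, 4, 4, 6, 4]

def pthA : List ℕ := [10, 14, 4, 2, 16, 18, 8, 16, 12, 6, 10, 8, 0, 6, 8]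

def pthD : List ℕ := [26, 28, 30, 26, 20, 20, 20, 28, 26, 26, 26, 24, 28, 24, 30, 30, 28, 30, 28, 36, 34, 36, 34, 34]

def pthS : List ℕ := [22, 36, 34, 32, 20, 24, 20, 28, 26, 26, 30, 26, 28, 32, 36, 30, 28, 30, 36, 34, 32]

def gp0 : List ℕ := [1, 4, 2, 0, 4, 0, 0, 4, 0, 4, 3, 0, 0, 4, 1, 1, 2, 4, 1, 4, 1, 1, 4, 1, 3, 4, 0]

def gp1 : List ℕ := [2, 0, 4, 0, 4, 1, 4, 3, 0, 0, 4, 2, 0, 4, 1, 3, 4, 1, 1, 2, 4, 0, 4, 1, 4, 1, 3]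

def gp2 : List ℕ := [4, 3, 0, 4, 0, 0, 4, 0, 4, 3, 0, 0, 4, 1, 1, 2, 4, 1, 4, 1, 1, 4, 1, 2, 4]

def gp3 : List ℕ := [4, 2, 1, 4, 0, 0, 3, 0, 4, 2, 0, 4, 0, 0, 4, 1, 1, 4, 1, 3, 4, 1, 2, 1, 1, 4, 0, 3, 4]

def gp4 : List ℕ := [4, 1, 3, 1, 4, 1, 4, 3, 1, 4, 3, 0, 0, 4, 1, 1, 2, 4, 0, 2, 4, 0, 4, 0, 2, 0, 4]

def gp5 : List ℕ := [1, 4, 1, 4, 0, 4, 0, 0, 4, 3, 0, 0, 4, 1, 1, 2, 4, 1, 1, 4, 1, 4, 0, 4, 0]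

def gp6 : List ℕ := [4, 0, 4, 1, 1, 4, 1, 2, 1, 4, 2, 0, 4, 1, 3, 4, 0, 3, 0, 4, 0, 0, 4, 1, 4]

def gp7 : List ℕ := [2, 1, 4, 3, 1, 4, 0, 4, 0, 0, 4, 3, 0, 0, 4, 1, 1, 2, 4, 1, 1, 4, 1, 4, 0, 2, 4, 0, 3]

def gp8 : List ℕ := [0, 4, 0, 4, 3, 3, 1, 4, 0, 0, 4, 3, 1, 4, 0, 2, 4, 1, 1, 4, 0, 2, 2, 4, 1, 4, 1]

def gp9 : List ℕ := [4, 0, 4, 3, 3, 1, 4, 0, 0, 4, 3, 1, 4, 0, 2, 4, 1, 1, 4, 0, 2, 2, 4, 1, 4]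

/-- the tables of the presentation generators -/
def T : Cfsg.Spor.Fi23.Gen → ℕ × ℕ
  | .a => (cx0, cx0)
  | .b => (cx1, cx1)
  | .c => (cx2, cx2)
  | .d => (cx3, cx3)
  | .e => (cx4, cx4)
  | .f => (cx5, cx5)
  | .g => (cx6, cx6)
  | .j => (cx7, cx7)
  | .h => (cx8, cx8)
  | .i => (cx9, cx9)

end Cfsg.Agent.Lib.Helper15.Fi23O
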