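import Cfsg.Agent.Lib.Helper15.Fi23ODefs

set_option autoImplicit false
set_option maxRecDepth 100000
set_option maxHeartbeats 0

namespace Cfsg.Agent.Lib.Helper15.Fi23O

open Cfsg.Agent.Lib.Helper15.Walk Cfsg.Agent.Lib.Helper28.BSGS Cfsg.Agent.Lib.Helper22.SuzOut

/-- candidate base images for an element commuting with `a` -/
noncomputable def FA (u : ℕ) : List ℕ := u :: [1, 3, 9, 10, 13, 5, 15, 11].map fun e => iterT 15 tA e u

noncomputable def goodA (u : ℕ) : Bool := (List.range 17).any fun k => Nat.beq (iterT 15 tA k 28847) u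

/-- candidate base images for an element commuting with `d` -/
noncomputable def FD (u : ℕ) : List ℕ := 28847 :: (List.range 8).map fun j => iterT 15 tD j u

noncomputable def goodD (u : ℕ) : Bool := (List.range 16).any fun i => Nat.beq (iterT 15 tD i 6572) u || Nat.beq (iterT 15 tD i (look 15 tS 6572)) u

end Cfsg.Agent.Lib.Helper15.Fi23O
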