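import Cfsg.Agent.Lib.Helper15.Fi23OCert

/-!
# The outer automorphism group of Fi23: the permutation group side

`K` is the group generated by the ten presentation generators on 31671 points.  Assuming
`|K| ≤ |Fi23|`, every element of `K` sifts through the table-free chain; the centralizers of `a`
(order 17) and `d` (order 16, normalizing `⟨a⟩`) are computed by base-image exclusion.
-/

set_option autoImplicit false
set_option maxRecDepth 100000

namespace Cfsg.Agent.Lib.Helper15.Fi23O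

open Cfsg.Agent.Lib.Helper15.Walk Cfsg.Agent.Lib.Helper28.BSGS Cfsg.Agent.Lib.Helper22.SuzOut MulAction

instance neZeroN : NeZero 31671 := ⟨by norm_num⟩

/-- the group generated by the presentation generators -/
abbrev K : Subgroup (Equiv.Perm (Fin 31671)) := genGroup 31671 15 coxL

theorem coxL_ok : gensOK 31671 15 coxL = true := by
  unfold gensOK coxL
  simp only [List.all_cons, List.all_nil, Bool.and_true, Bool.and_eq_true]
  exact ⟨pairOK_of_fast pair_cx0, pairOK_of_fast pair_cx1, pairOK_of_fast pair_cx2, pairOK_of_fast pair_cx3, pairOK_of_fast pair_cx4, pairOK_of_fast pair_cx5, pairOK_of_fast pair_cx6, pairOK_of_fast pair_cx7, pairOK_of_fast pair_cx8, pairOK_of_fast pair_cx9⟩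

theorem K0 : gensOK 31671 15 (coxL ++ strongL.take 0) = true ∧
    genGroup 31671 15 (coxL ++ strongL.take 0) = K := by
  have : coxL ++ strongL.take 0 = coxL := by rw [List.take_zero, List.append_nil]
  rw [this]
  exact ⟨coxL_ok, rfl⟩

theorem K1 : gensOK 31671 15 (coxL ++ strongL.take 1) = true ∧
    genGroup 31671 15 (coxL ++ strongL.take 1) = K := by
  have hps := path_sound_fwd 31671 15 _ K0.1 (sg0, sgi0) (pairOK_of_fast pair_sg0) pth0 pth_cs0 pth_fwd0_pts
  have hsn := genGroup_snoc 31671 15 (coxL ++ strongL.take 0) (sg0, sgi0) K0.1 (pairOK_of_fast pair_sg0) hps.2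
  have e : coxL ++ strongL.take 1 = (coxL ++ strongL.take 0) ++ [(sg0, sgi0)] := by
    rw [List.append_assoc]; rfl
  rw [e]
  exact ⟨hsn.1, hsn.2.trans K0.2⟩

theorem K2 : gensOK 31671 15 (coxL ++ strongL.take 2) = true ∧
    genGroup 31671 15 (coxL ++ strongL.take 2) = K := by
  have hps := path_sound_fwd 31671 15 _ K1.1 (sg1, sgi1) (pairOK_of_fast pair_sg1) pth1 pth_cs1 pth_fwd1_pts
  have hsn := genGroup_snoc 31671 15 (coxL ++ strongL.take 1) (sg1, sgi1) K1.1 (pairOK_of_fast pair_sg1) hps.2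
  have e : coxL ++ strongL.take 2 = (coxL ++ strongL.take 1) ++ [(sg1, sgi1)] := by
    rw [List.append_assoc]; rfl
  rw [e]
  exact ⟨hsn.1, hsn.2.trans K1.2⟩

theorem K3 : gensOK 31671 15 (coxL ++ strongL.take 3) = true ∧
    genGroup 31671 15 (coxL ++ strongL.take 3) = K := by
  have hps := path_sound_fwd 31671 15 _ K2.1 (sg2, sgi2) (pairOK_of_fast pair_sg2) pth2 pth_cs2 pth_fwd2_pts
  have hsn := genGroup_snoc 31671 15 (coxL ++ strongL.take 2) (sg2, sgi2) K2.1 (pairOK_of_fast pair_sg2) hps.2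
  have e : coxL ++ strongL.take 3 = (coxL ++ strongL.take 2) ++ [(sg2, sgi2)] := by
    rw [List.append_assoc]; rfl
  rw [e]
  exact ⟨hsn.1, hsn.2.trans K2.2⟩

theorem K4 : gensOK 31671 15 (coxL ++ strongL.take 4) = true ∧
    genGroup 31671 15 (coxL ++ strongL.take 4) = K := by
  have hps := path_sound_fwd 31671 15 _ K3.1 (sg3, sgi3) (pairOK_of_fast pair_sg3) pth3 pth_cs3 pth_fwd3_pts
  have hsn := genGroup_snoc 31671 15 (coxL ++ strongL.take 3) (sg3, sgi3) K3.1 (pairOK_of_fast pair_sg3) hps.2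
  have e : coxL ++ strongL.take 4 = (coxL ++ strongL.take 3) ++ [(sg3, sgi3)] := by
    rw [List.append_assoc]; rfl
  rw [e]
  exact ⟨hsn.1, hsn.2.trans K3.2⟩

theorem K5 : gensOK 31671 15 (coxL ++ strongL.take 5) = true ∧
    genGroup 31671 15 (coxL ++ strongL.take 5) = K := by
  have hps := path_sound_fwd 31671 15 _ K4.1 (sg4, sgi4) (pairOK_of_fast pair_sg4) pth4 pth_cs4 pth_fwd4_pts
  have hsn := genGroup_snoc 31671 15 (coxL ++ strongL.take 4) (sg4, sgi4) K4.1 (pairOK_of_fast pair_sg4) hps.2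
  have e : coxL ++ strongL.take 5 = (coxL ++ strongL.take 4) ++ [(sg4, sgi4)] := by
    rw [List.append_assoc]; rfl
  rw [e]
  exact ⟨hsn.1, hsn.2.trans K4.2⟩

theorem K6 : gensOK 31671 15 (coxL ++ strongL.take 6) = true ∧
    genGroup 31671 15 (coxL ++ strongL.take 6) = K := by
  have hps := path_sound_fwd 31671 15 _ K5.1 (sg5, sgi5) (pairOK_of_fast pair_sg5) pth5 pth_cs5 pth_fwd5_pts
  have hsn := genGroup_snoc 31671 15 (coxL ++ strongL.take 5) (sg5, sgi5) K5.1 (pairOK_of_fast pair_sg5) hps.2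
  have e : coxL ++ strongL.take 6 = (coxL ++ strongL.take 5) ++ [(sg5, sgi5)] := by
    rw [List.append_assoc]; rfl
  rw [e]
  exact ⟨hsn.1, hsn.2.trans K5.2⟩

theorem K7 : gensOK 31671 15 (coxL ++ strongL.take 7) = true ∧
    genGroup 31671 15 (coxL ++ strongL.take 7) = K := by
  have hps := path_sound_fwd 31671 15 _ K6.1 (sg6, sgi6) (pairOK_of_fast pair_sg6) pth6 pth_cs6 pth_fwd6_pts
  have hsn := genGroup_snoc 31671 15 (coxL ++ strongL.take 6) (sg6, sgi6) K6.1 (pairOK_of_fast pair_sg6) hps.2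
  have e : coxL ++ strongL.take 7 = (coxL ++ strongL.take 6) ++ [(sg6, sgi6)] := by
    rw [List.append_assoc]; rfl
  rw [e]
  exact ⟨hsn.1, hsn.2.trans K6.2⟩

theorem K8 : gensOK 31671 15 (coxL ++ strongL.take 8) = true ∧
    genGroup 31671 15 (coxL ++ strongL.take 8) = K := by
  have hps := path_sound_fwd 31671 15 _ K7.1 (sg7, sgi7) (pairOK_of_fast pair_sg7) pth7 pth_cs7 pth_fwd7_pts
  have hsn := genGroup_snoc 31671 15 (coxL ++ strongL.take 7) (sg7, sgi7) K7.1 (pairOK_of_fast pair_sg7) hps.2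
  have e : coxL ++ strongL.take 8 = (coxL ++ strongL.take 7) ++ [(sg7, sgi7)] := by
    rw [List.append_assoc]; rfl
  rw [e]
  exact ⟨hsn.1, hsn.2.trans K7.2⟩

theorem K9 : gensOK 31671 15 (coxL ++ strongL.take 9) = true ∧
    genGroup 31671 15 (coxL ++ strongL.take 9) = K := by
  have hps := path_sound_fwd 31671 15 _ K8.1 (sg8, sgi8) (pairOK_of_fast pair_sg8) pth8 pth_cs8 pth_fwd8_pts
  have hsn := genGroup_snoc 31671 15 (coxL ++ strongL.take 8) (sg8, sgi8) K8.1 (pairOK_of_fast pair_sg8) hps.2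
  have e : coxL ++ strongL.take 9 = (coxL ++ strongL.take 8) ++ [(sg8, sgi8)] := by
    rw [List.append_assoc]; rfl
  rw [e]
  exact ⟨hsn.1, hsn.2.trans K8.2⟩

theorem allL_eq : allL = coxL ++ strongL.take 9 := by
  unfold allL; rw [List.take_of_length_le (by decide)]

theorem allL_ok : gensOK 31671 15 allL = true := by rw [allL_eq]; exact K9.1

theorem allL_grp : genGroup 31671 15 allL = K := by rw [allL_eq]; exact K9.2

theorem mem_allL {g : ℕ × ℕ} (hg : g ∈ allL) :
    pairOK 31671 15 g.1 g.2 = true ∧ permOf 31671 15 g.1 g.2 ∈ K := by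
  refine ⟨gensOK_spec 31671 15 allL_ok g hg, ?_⟩
  rw [← allL_grp]
  exact Subgroup.subset_closure (mem_semGens 31671 15 hg)

theorem sub_mem {lv : WLevel} (h : (lv.gs.all fun g => allL.contains g) = true) :
    ∀ g ∈ lv.gs, pairOK 31671 15 g.1 g.2 = true ∧ permOf 31671 15 g.1 g.2 ∈ K := by
  intro g hg
  rw [List.all_eq_true] at h
  have := h g hg
  rw [List.contains_iff_mem] at this
  exact mem_allL this

theorem levels_gs : ∀ lv ∈ levels, ∀ g ∈ lv.gs,
    pairOK 31671 15 g.1 g.2 = true ∧ permOf 31671 15 g.1 g.2 ∈ K := by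
  intro lv hlv
  unfold levels at hlv
  simp only [List.mem_cons, List.not_mem_nil, or_false] at hlv
  rcases hlv with rfl | rfl | rfl | rfl | rfl | rfl | rfl | rfl | rfl
  · exact sub_mem sub0
  · exact sub_mem sub1
  · exact sub_mem sub2
  · exact sub_mem sub3
  · exact sub_mem sub4
  · exact sub_mem sub5
  · exact sub_mem sub6
  · exact sub_mem sub7
  · exact sub_mem sub8

theorem chain_ok : wchainOK 31671 15 8 8 [] levels = true := by
  show (wlevelOK 31671 15 8 8 [] lv0 && (wlevelOK 31671 15 8 8 [lv0.b] lv1 && (wlevelOK 31671 15 8 8 [lv1.b, lv0.b] lv2 && (wlevelOK 31671 15 8 8 [lv2.b, lv1.b, lv0.b] lv3 && (wlevelOK 31671 15 8 8 [lv3.b, lv2.b, lv1.b, lv0.b] lv4 && (wlevelOK 31671 15 8 8 [lv4.b, lv3.b, lv2.b, lv1.b, lv0.b] lv5 && (wlevelOK 31671 15 8 8 [lv5.b, lv4.b, lv3.b, lv2.b, lv1.b, lv0.b] lv6 && (wlevelOK 31671 15 8 8 [lv6.b, lv5.b, lv4.b, lv3.b, lv2.b, lv1.b, lv0.b] lv7 && (wlevelOK 31671 15 8 8 [lv7.b, lv6.b, lv5.b, lv4.b, lv3.b, lv2.b,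 lv1.b, lv0.b] lv8 && true))))))))) = true
  rw [lvl_ok0, lvl_ok1, lvl_ok2, lvl_ok3, lvl_ok4, lvl_ok5, lvl_ok6, lvl_ok7, lvl_ok8]
  rfl

theorem size_ok : wsize 31671 8 levels = 4089470473293004800 := by
  unfold levels
  simp only [wsize, len0, len1, len2, len3, len4, len5, len6, len7, len8]

theorem wwf : WalkWF 31671 15 8 8 levels :=
  walkWF_of_chainOK 31671 15 8 8 levels [] (fun lv hlv g hg => (levels_gs lv hlv g hg).1) chain_ok

end Cfsg.Agent.Lib.Helper15.Fi23O
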