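import Cfsg.Agent.Lib.Helper15.Fi23OMainA

/-!
# The outer automorphism group of Fi23: elements, relations, centralizers
-/

set_option autoImplicit false
set_option maxRecDepth 100000

namespace Cfsg.Agent.Lib.Helper15.Fi23O

open Cfsg.Agent.Lib.Helper15.Walk Cfsg.Agent.Lib.Helper28.BSGS Cfsg.Agent.Lib.Helper22.SuzOut MulAction

instance fact17 : Fact (Nat.Prime 17) := ⟨by norm_num⟩

/-- the element of order 17 -/
noncomputable def pA : Equiv.Perm (Fin 31671) := permOf 31671 15 tA tAi
/-- the element of order 16 normalizing `⟨a⟩` -/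
noncomputable def pD : Equiv.Perm (Fin 31671) := permOf 31671 15 tD tDi
/-- the transposition centralizing `d` -/
noncomputable def pS : Equiv.Perm (Fin 31671) := permOf 31671 15 tS tS

theorem hA : pairOK 31671 15 tA tAi = true := pairOK_of_fast pair_A
theorem hD : pairOK 31671 15 tD tDi = true := pairOK_of_fast pair_D
theorem hS : pairOK 31671 15 tS tS = true := pairOK_of_fast pair_S

theorem A_apply (x : Fin 31671) : (pA x).val = look 15 tA x.val := by
  unfold pA; exact permOf_apply hA x
theorem D_apply (x : Fin 31671) : (pD x).val = look 15 tD x.val := by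
  unfold pD; exact permOf_apply hD x
theorem S_apply (x : Fin 31671) : (pS x).val = look 15 tS x.val := by
  unfold pS; exact permOf_apply hS x

theorem A_pow (k : ℕ) (x : Fin 31671) : ((pA ^ k) x).val = iterT 15 tA k x.val := by
  unfold pA; exact iterT_spec hA k x
theorem D_pow (k : ℕ) (x : Fin 31671) : ((pD ^ k) x).val = iterT 15 tD k x.val := by
  unfold pD; exact iterT_spec hD k x

theorem A_mem : pA ∈ K := by
  have := (path_sound_fwd 31671 15 allL allL_ok (tA, tAi) hA pthA pthA_cs pthA_fwd_pts).2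
  rw [allL_grp] at this
  unfold pA
  exact this

theorem D_mem : pD ∈ K := by
  have := (path_sound_fwd 31671 15 allL allL_ok (tD, tDi) hD pthD pthD_cs pthD_fwd_pts).2
  rw [allL_grp] at this
  unfold pD
  exact this

theorem S_mem : pS ∈ K := by
  have := (path_sound_fwd 31671 15 allL allL_ok (tS, tS) hS pthS pthS_cs pthS_fwd_pts).2
  rw [allL_grp] at this
  unfold pS
  exact this

/-! ### relations -/

theorem DA : pD * pA = pA ^ 3 * pD := by
  have hg : ActsByW 31671 15 (pD * pA) [tD, tA] := actsByW_cons D_apply (actsByW_single A_apply)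
  have hh : ActsByW 31671 15 (pA * (pA * (pA * pD))) [tA, tA, tA, tD] :=
    actsByW_cons A_apply (actsByW_cons A_apply (actsByW_cons A_apply (actsByW_single D_apply)))
  have := eq_of_wordEq 31671 15 hg hh (wordEq_of_fast rel_da)
  rw [this, pow_succ, pow_succ, pow_one, mul_assoc, mul_assoc]

theorem DA_conj : pD * pA * pD⁻¹ = pA ^ 3 := by
  rw [DA, mul_inv_cancel_right]

theorem SD : pS * pD = pD * pS := by
  have hg : ActsByW 31671 15 (pS * pD) [tS, tD] := actsByW_cons S_apply (actsByW_single D_apply)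
  have hh : ActsByW 31671 15 (pD * pS) [tD, tS] := actsByW_cons D_apply (actsByW_single S_apply)
  exact eq_of_wordEq 31671 15 hg hh (wordEq_of_fast rel_sd)

theorem SS : pS * pS = 1 := by
  apply Equiv.ext
  intro x
  apply Fin.ext
  rw [Equiv.Perm.mul_apply, S_apply, S_apply]
  exact (pairOK_spec hS x.isLt).2.1

theorem A17 : pA ^ 17 = 1 :=
  eq_one_of_wordId 31671 15 (actsByW_pow 31671 15 A_apply 17) (wordId_of_fast rel_a17)

theorem D16 : pD ^ 16 = 1 :=
  eq_one_of_wordId 31671 15 (actsByW_pow 31671 15 D_apply 16) (wordId_of_fast rel_d16)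

theorem num_A0 : look 15 tA 0 ≠ 0 := by decide +kernel

theorem num_D8 : iterT 15 tD (2 ^ 3) 0 ≠ 0 := by decide +kernel

theorem A_ne : pA ≠ 1 := by
  intro h
  have h2 := A_apply ⟨0, by norm_num⟩
  rw [h] at h2
  exact num_A0 h2.symm

theorem D8_ne : ¬ pD ^ 2 ^ 3 = 1 := by
  intro h
  have h2 := D_pow (2 ^ 3) ⟨0, by norm_num⟩
  rw [h] at h2
  exact num_D8 h2.symm

theorem orderA : orderOf pA = 17 := orderOf_eq_prime A17 A_ne

theorem orderD : orderOf pD = 16 := orderOf_eq_prime_pow (p := 2) (n := 3) D8_ne D16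

attribute [irreducible] pA pD pS

end Cfsg.Agent.Lib.Helper15.Fi23O
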