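import Cfsg.Agent.Lib.Helper15.Fi23OMainB

/-!
# The outer automorphism group of Fi23: centralizers by base-image exclusion
-/

set_option autoImplicit false
set_option maxRecDepth 100000

namespace Cfsg.Agent.Lib.Helper15.Fi23O

open Cfsg.Agent.Lib.Helper15.Walk Cfsg.Agent.Lib.Helper28.BSGS Cfsg.Agent.Lib.Helper22.SuzOut MulAction

section

variable (hcard : Nat.card K ≤ 4089470473293004800)

include hcard

theorem sifts : ∀ z ∈ K, Sifts (levels.map (semW 31671 15 8 8)) z :=
  (walk_main 31671 15 8 8 K levels levels_gs chain_ok (by rw [size_ok]; exact hcard)).2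

theorem card_K : Nat.card K = 4089470473293004800 := by
  have := (walk_main 31671 15 8 8 K levels levels_gs chain_ok (by rw [size_ok]; exact hcard)).1
  rw [size_ok] at this
  exact this

omit hcard

/-- the base points are `a ^ e` applied to the fixed point of `d` -/
theorem base_a : (levels.all fun lv => [0, 1, 3, 9, 10, 13, 5, 15, 11].any fun e =>
    Nat.beq (iterT 15 tA e 28847) lv.b) = true := by decide +kernel

theorem base_a' {lv : WLevel} (hlv : lv ∈ levels) :
    ∃ e : ℕ, pt 31671 lv.b = (pA ^ e) (pt 31671 28847) := by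
  have h := List.all_eq_true.mp base_a lv hlv
  rw [List.any_eq_true] at h
  obtain ⟨e, _, he⟩ := h
  refine ⟨e, ?_⟩
  apply Fin.ext
  rw [A_pow, pt_val 31671 (by norm_num : 28847 < 31671), Nat.eq_of_beq_eq_true he]
  have hb : lv.b < 31671 := by
    have := (pairOK_spec hA (by norm_num : 28847 < 31671)).1
    rw [← Nat.eq_of_beq_eq_true he]
    have h2 := A_pow e (pt 31671 28847)
    rw [pt_val 31671 (by norm_num : 28847 < 31671)] at h2
    rw [← h2]
    exact Fin.isLt _
  exact pt_val 31671 hb

theorem key_a {c : Equiv.Perm (Fin 31671)} (hca : c * pA = pA * c) (e b : ℕ)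
    (hb : iterT 15 tA e 28847 = b) :
    (c (pt 31671 b)).val = iterT 15 tA e (c (pt 31671 28847)).val := by
  have h1 : pt 31671 b = (pA ^ e) (pt 31671 28847) := by
    apply Fin.ext
    rw [A_pow, pt_val 31671 (by norm_num : 28847 < 31671), hb]
    have h2 := A_pow e (pt 31671 28847)
    rw [pt_val 31671 (by norm_num : 28847 < 31671), hb] at h2
    have hb' : b < 31671 := by rw [← h2]; exact Fin.isLt _
    exact pt_val 31671 hb'
  have hc : Commute c pA := hca
  have h2 : c ((pA ^ e) (pt 31671 28847)) = (pA ^ e) (c (pt 31671 28847)) := by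
    have := (hc.pow_right e).eq
    exact congrFun (congrArg DFunLike.coe this) _
  rw [h1, h2, A_pow]

include hcard in
/-- the centralizer of `a` -/
theorem cent_a (c : Equiv.Perm (Fin 31671)) (hc : c ∈ K) (hca : c * pA = pA * c) :
    c ∈ Subgroup.zpowers pA := by
  have hs := sifts hcard c hc
  have hu : (c (pt 31671 28847)).val < 31671 := Fin.isLt _
  have himg : List.Forall₂ (fun (lv : WLevel) (y : ℕ) => (c (pt 31671 lv.b)).val = y) levels
      (FA (c (pt 31671 28847)).val) := by
    show List.Forall₂ _ [lv0, lv1, lv2, lv3, lv4, lv5, lv6, lv7, lv8]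
      [(c (pt 31671 28847)).val, iterT 15 tA 1 (c (pt 31671 28847)).val,
        iterT 15 tA 3 (c (pt 31671 28847)).val, iterT 15 tA 9 (c (pt 31671 28847)).val,
        iterT 15 tA 10 (c (pt 31671 28847)).val, iterT 15 tA 13 (c (pt 31671 28847)).val,
        iterT 15 tA 5 (c (pt 31671 28847)).val, iterT 15 tA 15 (c (pt 31671 28847)).val,
        iterT 15 tA 11 (c (pt 31671 28847)).val]
    refine List.Forall₂.cons rfl (List.Forall₂.cons ?_ (List.Forall₂.cons ?_ (List.Forall₂.cons ?_
      (List.Forall₂.cons ?_ (List.Forall₂.cons ?_ (List.Forall₂.cons ?_ (List.Forall₂.cons ?_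
      (List.Forall₂.cons ?_ List.Forall₂.nil))))))))
    · exact key_a hca 1 6572 (by decide +kernel)
    · exact key_a hca 3 29554 (by decide +kernel)
    · exact key_a hca 9 13897 (by decide +kernel)
    · exact key_a hca 10 25165 (by decide +kernel)
    · exact key_a hca 13 21966 (by decide +kernel)
    · exact key_a hca 5 1395 (by decide +kernel)
    · exact key_a hca 15 12824 (by decide +kernel)
    · exact key_a hca 11 31193 (by decide +kernel)
  have hg := excl 31671 15 8 8 levels wwf FA goodA exclA c hs _ hu himg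
  unfold goodA at hg
  rw [List.any_eq_true] at hg
  obtain ⟨k, _, hk⟩ := hg
  have hk' : iterT 15 tA k 28847 = (c (pt 31671 28847)).val := Nat.eq_of_beq_eq_true hk
  have h0 : c (pt 31671 28847) = (pA ^ k) (pt 31671 28847) := by
    apply Fin.ext
    rw [A_pow, pt_val 31671 (by norm_num : 28847 < 31671), hk']
  have hck : Commute c pA := hca
  have : c = pA ^ k := by
    apply eq_of_base 31671 15 8 8 levels c (pA ^ k) hs (sifts hcard _ (K.pow_mem A_mem k))
    intro lv hlv
    obtain ⟨e, he⟩ := base_a' hlv
    rw [he]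
    have h1 : c ((pA ^ e) (pt 31671 28847)) = (pA ^ e) (c (pt 31671 28847)) :=
      congrFun (congrArg DFunLike.coe (hck.pow_right e).eq) _
    rw [h1, h0, ← Equiv.Perm.mul_apply, ← Equiv.Perm.mul_apply, ← pow_add, ← pow_add, add_comm]
  rw [this]
  exact Subgroup.npow_mem_zpowers pA k

end

end Cfsg.Agent.Lib.Helper15.Fi23O
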