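import Cfsg.Agent.Lib.Helper15.Fi23OMainC

/-!
# The outer automorphism group of Fi23: the centralizer of `d`
-/

set_option autoImplicit false
set_option maxRecDepth 100000

namespace Cfsg.Agent.Lib.Helper15.Fi23O

open Cfsg.Agent.Lib.Helper15.Walk Cfsg.Agent.Lib.Helper28.BSGS Cfsg.Agent.Lib.Helper22.SuzOut MulAction

theorem num_Dfix : look 15 tD 28847 = 28847 := by decide +kernel

theorem num_Sfix : look 15 tS 28847 = 28847 := by decide +kernel

theorem v0_lt : 28847 < 31671 := by norm_num

theorem b1_lt : 6572 < 31671 := by norm_num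

theorem D_fix : pD (pt 31671 28847) = pt 31671 28847 := by
  apply Fin.ext
  rw [D_apply, pt_val 31671 v0_lt, num_Dfix]

theorem S_fix : pS (pt 31671 28847) = pt 31671 28847 := by
  apply Fin.ext
  rw [S_apply, pt_val 31671 v0_lt, num_Sfix]

theorem Dpow_fix (k : ℕ) : (pD ^ k) (pt 31671 28847) = pt 31671 28847 := by
  induction k with
  | zero => rfl
  | succ k ih => rw [pow_succ, Equiv.Perm.mul_apply, D_fix, ih]

theorem Spow_fix (k : ℕ) : (pS ^ k) (pt 31671 28847) = pt 31671 28847 := by
  induction k with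
  | zero => rfl
  | succ k ih => rw [pow_succ, Equiv.Perm.mul_apply, S_fix, ih]

/-- the base points after the first are `d ^ j` applied to the second one -/
theorem base_d : (levels.tail.all fun lv => (List.range 8).any fun j =>
    Nat.beq (iterT 15 tD j 6572) lv.b) = true := by decide +kernel

theorem base_d' {lv : WLevel} (hlv : lv ∈ levels) :
    lv.b = 28847 ∨ ∃ j : ℕ, pt 31671 lv.b = (pD ^ j) (pt 31671 6572) := by
  have hl : levels = lv0 :: levels.tail := rfl
  rw [hl] at hlv
  rcases List.mem_cons.mp hlv with rfl | hlv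
  · left; rfl
  · right
    have h := List.all_eq_true.mp base_d lv hlv
    rw [List.any_eq_true] at h
    obtain ⟨j, _, hj⟩ := h
    refine ⟨j, ?_⟩
    have h2 := D_pow j (pt 31671 6572)
    rw [pt_val 31671 b1_lt, Nat.eq_of_beq_eq_true hj] at h2
    have hb : lv.b < 31671 := by rw [← h2]; exact Fin.isLt _
    apply Fin.ext
    rw [h2, pt_val 31671 hb]

theorem key_d {c : Equiv.Perm (Fin 31671)} (hcd : c * pD = pD * c) (j b : ℕ)
    (hb : iterT 15 tD j 6572 = b) :
    (c (pt 31671 b)).val = iterT 15 tD j (c (pt 31671 6572)).val := by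
  have h2 := D_pow j (pt 31671 6572)
  rw [pt_val 31671 b1_lt, hb] at h2
  have hb' : b < 31671 := by rw [← h2]; exact Fin.isLt _
  have h1 : pt 31671 b = (pD ^ j) (pt 31671 6572) := by
    apply Fin.ext
    rw [h2, pt_val 31671 hb']
  have hc : Commute c pD := hcd
  have h3 : c ((pD ^ j) (pt 31671 6572)) = (pD ^ j) (c (pt 31671 6572)) :=
    congrFun (congrArg DFunLike.coe (hc.pow_right j).eq) _
  rw [h1, h3, D_pow]

section

variable (hcard : Nat.card K ≤ 4089470473293004800)

include hcard

/-- the centralizer of `d` -/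
theorem cent_d (c : Equiv.Perm (Fin 31671)) (hc : c ∈ K) (hcd : c * pD = pD * c) :
    ∃ i : ℕ, ∃ e : ℕ, e < 2 ∧ c = pD ^ i * pS ^ e := by
  have hs := sifts hcard c hc
  have hcD : Commute c pD := hcd
  -- `c` fixes the fixed point of `d`
  have h0 : c (pt 31671 28847) = pt 31671 28847 := by
    have h1 : pD (c (pt 31671 28847)) = c (pt 31671 28847) := by
      have := congrFun (congrArg DFunLike.coe hcd) (pt 31671 28847)
      rw [Equiv.Perm.mul_apply, Equiv.Perm.mul_apply, D_fix] at this
      exact this.symm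
    have h2 := D_apply (c (pt 31671 28847))
    rw [h1] at h2
    have h3 := allBelow_spec fixD _ (Fin.isLt (c (pt 31671 28847)))
    rw [← h2, Nat.beq_refl, Bool.not_true, Bool.or_false] at h3
    apply Fin.ext
    rw [Nat.eq_of_beq_eq_true h3, pt_val 31671 v0_lt]
  have hu : (c (pt 31671 6572)).val < 31671 := Fin.isLt _
  have himg : List.Forall₂ (fun (lv : WLevel) (y : ℕ) => (c (pt 31671 lv.b)).val = y) levels
      (FD (c (pt 31671 6572)).val) := by
    show List.Forall₂ _ [lv0, lv1, lv2, lv3, lv4, lv5, lv6, lv7, lv8]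
      [28847, iterT 15 tD 0 (c (pt 31671 6572)).val, iterT 15 tD 1 (c (pt 31671 6572)).val,
        iterT 15 tD 2 (c (pt 31671 6572)).val, iterT 15 tD 3 (c (pt 31671 6572)).val,
        iterT 15 tD 4 (c (pt 31671 6572)).val, iterT 15 tD 5 (c (pt 31671 6572)).val,
        iterT 15 tD 6 (c (pt 31671 6572)).val, iterT 15 tD 7 (c (pt 31671 6572)).val]
    refine List.Forall₂.cons ?_ (List.Forall₂.cons ?_ (List.Forall₂.cons ?_ (List.Forall₂.cons ?_
      (List.Forall₂.cons ?_ (List.Forall₂.cons ?_ (List.Forall₂.cons ?_ (List.Forall₂.cons ?_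
      (List.Forall₂.cons ?_ List.Forall₂.nil))))))))
    · show (c (pt 31671 28847)).val = 28847
      rw [h0, pt_val 31671 v0_lt]
    · exact key_d hcd 0 6572 (by decide +kernel)
    · exact key_d hcd 1 29554 (by decide +kernel)
    · exact key_d hcd 2 13897 (by decide +kernel)
    · exact key_d hcd 3 25165 (by decide +kernel)
    · exact key_d hcd 4 21966 (by decide +kernel)
    · exact key_d hcd 5 1395 (by decide +kernel)
    · exact key_d hcd 6 12824 (by decide +kernel)
    · exact key_d hcd 7 31193 (by decide +kernel)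
  have hg := excl 31671 15 8 8 levels wwf FD goodD exclD c hs _ hu himg
  unfold goodD at hg
  rw [List.any_eq_true] at hg
  obtain ⟨i, _, hi⟩ := hg
  rw [Bool.or_eq_true] at hi
  -- the candidate
  have hcand : ∃ e : ℕ, e < 2 ∧ ((pD ^ i * pS ^ e) (pt 31671 6572)) = c (pt 31671 6572) := by
    rcases hi with hi | hi
    · refine ⟨0, by norm_num, ?_⟩
      apply Fin.ext
      rw [pow_zero, mul_one, D_pow, pt_val 31671 b1_lt]
      exact Nat.eq_of_beq_eq_true hi
    · refine ⟨1, by norm_num, ?_⟩
      apply Fin.ext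
      rw [pow_one, Equiv.Perm.mul_apply, D_pow, S_apply, pt_val 31671 b1_lt]
      exact Nat.eq_of_beq_eq_true hi
  obtain ⟨e, he, hce⟩ := hcand
  refine ⟨i, e, he, ?_⟩
  have hmem : pD ^ i * pS ^ e ∈ K := K.mul_mem (K.pow_mem D_mem i) (K.pow_mem S_mem e)
  have hcomm : Commute (pD ^ i * pS ^ e) pD := by
    apply Commute.mul_left
    · exact (Commute.refl pD).pow_left i
    · exact (show Commute pS pD from SD).pow_left e
  apply eq_of_base 31671 15 8 8 levels c _ hs (sifts hcard _ hmem)
  intro lv hlv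
  rcases base_d' hlv with hb | ⟨j, hj⟩
  · have hpt : pt 31671 lv.b = pt 31671 28847 := by rw [hb]
    rw [hpt, h0]
    exact ((congrArg (pD ^ i) (Spow_fix e)).trans (Dpow_fix i)).symm
  · rw [hj]
    have h1 : c ((pD ^ j) (pt 31671 6572)) = (pD ^ j) (c (pt 31671 6572)) :=
      congrFun (congrArg DFunLike.coe (hcD.pow_right j).eq) _
    have h2 : (pD ^ i * pS ^ e) ((pD ^ j) (pt 31671 6572)) =
        (pD ^ j) ((pD ^ i * pS ^ e) (pt 31671 6572)) := by
      rw [← Equiv.Perm.mul_apply (pD ^ i * pS ^ e) (pD ^ j) (pt 31671 6572),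
        ← Equiv.Perm.mul_apply (pD ^ j) (pD ^ i * pS ^ e) (pt 31671 6572), (hcomm.pow_right j).eq]
    rw [h1, h2, hce]

end

end Cfsg.Agent.Lib.Helper15.Fi23O
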