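import Cfsg.Agent.Lib.Helper15.Fi23OMainD
import Cfsg.Agent.Lib.Helper17.OutOneRigid

/-!
# The outer automorphism group of Fi23: generation, rigidity, and `|Out K| = 1`
-/

set_option autoImplicit false
set_option maxRecDepth 100000

namespace Cfsg.Agent.Lib.Helper15.Fi23O

open Cfsg.Agent.Lib.Helper15.Walk Cfsg.Agent.Lib.Helper28.BSGS Cfsg.Agent.Lib.Helper22.SuzOut MulAction

/-! ### generation by `a`, `d`, `s` -/

theorem adsL_ok : gensOK 31671 15 adsL = true := by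
  unfold gensOK adsL
  simp only [List.all_cons, List.all_nil, Bool.and_true, Bool.and_eq_true]
  exact ⟨hA, hD, hS⟩

theorem adsL_grp : genGroup 31671 15 adsL = Subgroup.closure {pA, pD, pS} := by
  unfold genGroup pA pD pS
  congr 1
  ext s
  show s ∈ [permOf 31671 15 tA tAi, permOf 31671 15 tD tDi, permOf 31671 15 tS tS] ↔ _
  simp only [List.mem_cons, List.not_mem_nil, or_false, Set.mem_insert_iff, Set.mem_singleton_iff]

theorem cox_mem (g : ℕ × ℕ) (hg : pairOKf 31671 15 g.1 g.2 = true) {cs : List ℕ}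
    (hcs : cs.all (fun c => Nat.blt (c / 2) adsL.length) = true)
    (h : allBelow (pathPt 15 adsL g.1 cs) 31671 = true) :
    permOf 31671 15 g.1 g.2 ∈ Subgroup.closure {pA, pD, pS} := by
  have := (path_sound_fwd 31671 15 adsL adsL_ok g (pairOK_of_fast hg) cs hcs h).2
  rw [adsL_grp] at this
  exact this

theorem cox_all : ∀ g ∈ coxL, permOf 31671 15 g.1 g.2 ∈ Subgroup.closure {pA, pD, pS} := by
  unfold coxL
  simp only [List.forall_mem_cons]
  exact ⟨cox_mem (cx0, cx0) pair_cx0 gp_cs0 gp_fwd0_pts, cox_mem (cx1, cx1) pair_cx1 gp_cs1 gp_fwd1_pts, cox_mem (cx2, cx2) pair_cx2 gp_cs2 gp_fwd2_pts, cox_mem (cx3, cx3) pair_cx3 gp_cs3 gp_fwd3_pts, cox_mem (cx4, cx4) pair_cx4 gp_cs4 gp_fwd4_pts, cox_mem (cx5, cx5) pair_cx5 gp_cs5 gp_fwd5_pts, cox_mem (cx6, cx6) pair_cx6 gp_cs6 gp_fwd6_pts, cox_mem (cx7, cx7) pair_cx7 gp_cs7 gp_fwd7_pts, cox_mem (cx8, cx8) pair_cx8 gp_cs8 gp_fwd8_pts, cox_mem (cx9, cx9) pair_cx9 gp_cs9 gp_fwd9_pts,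
    fun _ h => absurd h List.not_mem_nil⟩

theorem gen_le : K ≤ Subgroup.closure {pA, pD, pS} := by
  show Subgroup.closure {s | s ∈ semGens 31671 15 coxL} ≤ _
  rw [Subgroup.closure_le]
  intro s hs
  obtain ⟨g, hg, rfl⟩ := List.mem_map.mp hs
  exact cox_all g hg

/-! ### words of tables -/

theorem actsByW_app {g h : Equiv.Perm (Fin 31671)} {ws ws' : List ℕ}
    (hg : ActsByW 31671 15 g ws) (hh : ActsByW 31671 15 h ws') :
    ActsByW 31671 15 (g * h) (ws ++ ws') := by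
  intro a
  show (g (h a)).val = evalW 15 (ws ++ ws') a.val
  rw [hg, hh]
  unfold evalW
  rw [List.foldr_append]

theorem actsByW_powW {g : Equiv.Perm (Fin 31671)} {ws : List ℕ} (hg : ActsByW 31671 15 g ws)
    (k : ℕ) : ActsByW 31671 15 (g ^ k) (List.replicate k ws).flatten := by
  induction k with
  | zero => rw [pow_zero]; exact actsByW_one 31671 15
  | succ k ih =>
    rw [pow_succ', List.replicate_succ, List.flatten_cons]
    exact actsByW_app hg ih

theorem AS_acts : ActsByW 31671 15 (pA * pS) [tA, tS] :=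
  actsByW_cons A_apply (actsByW_single S_apply)

theorem AS10 : (pA * pS) ^ 10 = 1 :=
  eq_one_of_wordId 31671 15 (actsByW_powW AS_acts 10) (wordId_of_fast rel_as10)

theorem AD8S_acts : ActsByW 31671 15 (pA * (pD ^ 8 * pS)) ([tA] ++ (List.replicate 8 tD ++ [tS])) :=
  actsByW_app (actsByW_single A_apply)
    (actsByW_app (actsByW_pow 31671 15 D_apply 8) (actsByW_single S_apply))

theorem num_AD8S : evalW 15 (List.replicate 10 ([tA] ++ (List.replicate 8 tD ++ [tS]))).flatten 0 ≠ 0 := by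
  decide +kernel

theorem AD8S10 : (pA * (pD ^ 8 * pS)) ^ 10 ≠ 1 := by
  intro h
  have := actsByW_powW AD8S_acts 10 ⟨0, by norm_num⟩
  rw [h] at this
  exact num_AD8S this.symm

theorem num_S0 : look 15 tS 0 ≠ 0 := by decide +kernel

theorem num_SD8 : look 15 tS 0 ≠ iterT 15 tD 8 0 := by decide +kernel

theorem S_ne_one : pS ≠ 1 := by
  intro h
  have := S_apply ⟨0, by norm_num⟩
  rw [h] at this
  exact num_S0 this.symm

theorem S_ne_D8 : pS ≠ pD ^ 8 := by
  intro h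
  have h1 := S_apply ⟨0, by norm_num⟩
  have h2 := D_pow 8 ⟨0, by norm_num⟩
  rw [h, h2] at h1
  exact num_SD8 h1.symm

/-! ### rigidity -/

theorem hr17 : ∀ k : ℕ, 1 ≤ k → k < 17 → ∃ i : ℕ, k * 3 ^ i % 17 = 1 := by
  have h : ∀ k : ℕ, k < 17 → 1 ≤ k → ∃ i : ℕ, i < 16 ∧ k * 3 ^ i % 17 = 1 := by decide
  intro k h1 h2
  obtain ⟨i, _, hi⟩ := h k h2 h1
  exact ⟨i, hi⟩


section

variable (hcard : Nat.card K ≤ 4089470473293004800)

include hcard

theorem rigid (ψ : MulAut K) (ha : ψ ⟨pA, A_mem⟩ = ⟨pA, A_mem⟩)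
    (hd : ψ ⟨pD, D_mem⟩ = ⟨pD, D_mem⟩) : ψ ⟨pS, S_mem⟩ = ⟨pS, S_mem⟩ := by
  -- the image commutes with `d`
  have hsd : (⟨pS, S_mem⟩ : K) * ⟨pD, D_mem⟩ = ⟨pD, D_mem⟩ * ⟨pS, S_mem⟩ := by
    apply Subtype.ext
    rw [Subgroup.coe_mul, Subgroup.coe_mul]
    exact SD
  have h1 := congrArg ψ hsd
  rw [map_mul, map_mul, hd] at h1
  have h2 : (ψ ⟨pS, S_mem⟩ : K).1 * pD = pD * (ψ ⟨pS, S_mem⟩ : K).1 := by
    have := congrArg Subtype.val h1
    rw [Subgroup.coe_mul, Subgroup.coe_mul] at this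
    exact this
  obtain ⟨i, e, he, hz⟩ := cent_d hcard _ (ψ ⟨pS, S_mem⟩ : K).2 h2
  -- its square is trivial
  have hss : (⟨pS, S_mem⟩ : K) * ⟨pS, S_mem⟩ = 1 := by
    apply Subtype.ext
    rw [Subgroup.coe_mul, Subgroup.coe_one]
    exact SS
  have h3 := congrArg ψ hss
  rw [map_mul, map_one] at h3
  have h4 : (ψ ⟨pS, S_mem⟩ : K).1 * (ψ ⟨pS, S_mem⟩ : K).1 = 1 := by
    have := congrArg Subtype.val h3
    rw [Subgroup.coe_mul, Subgroup.coe_one] at this
    exact this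
  have hcomm : Commute (pD ^ i) (pS ^ e) :=
    ((show Commute pD pS from SD.symm).pow_left i).pow_right e
  have hS2 : (pS ^ e) ^ 2 = 1 := by
    rw [← pow_mul, mul_comm, pow_mul, pow_two, SS, one_pow]
  have h5 : pD ^ (2 * i) = 1 := by
    rw [hz, ← pow_two, hcomm.mul_pow, hS2, mul_one, ← pow_mul, mul_comm] at h4
    exact h4
  have h6 : 16 ∣ 2 * i := by
    rw [← orderD]; exact orderOf_dvd_of_pow_eq_one h5
  have hi : pD ^ i = pD ^ (i % 16) := by
    rw [← orderD]; exact (pow_mod_orderOf pD i).symm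
  have hi' : i % 16 = 0 ∨ i % 16 = 8 := by omega
  have he' : e = 0 ∨ e = 1 := by omega
  have hinj := ψ.injective
  rcases hi' with hi' | hi' <;> rcases he' with he' | he'
  · -- the image is trivial
    exfalso
    rw [hi, hi', he', pow_zero, pow_zero, mul_one] at hz
    have : ψ ⟨pS, S_mem⟩ = ψ 1 := by rw [map_one]; exact Subtype.ext hz
    have h7 := congrArg Subtype.val (hinj this)
    rw [Subgroup.coe_one] at h7
    exact S_ne_one h7
  · rw [hi, hi', he', pow_zero, pow_one, one_mul] at hz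
    exact Subtype.ext hz
  · -- the image is `d ^ 8`
    exfalso
    rw [hi, hi', he', pow_zero, mul_one] at hz
    have h7 : ψ (⟨pD, D_mem⟩ ^ 8) = ⟨pD, D_mem⟩ ^ 8 := by rw [map_pow, hd]
    have : ψ ⟨pS, S_mem⟩ = ψ (⟨pD, D_mem⟩ ^ 8) := by
      rw [h7]; apply Subtype.ext; rw [Subgroup.coe_pow]; exact hz
    have h8 := congrArg Subtype.val (hinj this)
    rw [Subgroup.coe_pow] at h8
    exact S_ne_D8 h8
  · -- the image is `d ^ 8 * s`
    exfalso
    rw [hi, hi', he', pow_one] at hz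
    have h8 : ((⟨pA, A_mem⟩ : K) * ⟨pS, S_mem⟩) ^ 10 = 1 := by
      apply Subtype.ext
      rw [Subgroup.coe_pow, Subgroup.coe_mul, Subgroup.coe_one]
      exact AS10
    have h9 := congrArg ψ h8
    rw [map_pow, map_mul, map_one, ha] at h9
    have h10 : (pA * (ψ ⟨pS, S_mem⟩ : K).1) ^ 10 = 1 := by
      have := congrArg Subtype.val h9
      rw [Subgroup.coe_pow, Subgroup.coe_mul, Subgroup.coe_one] at this
      exact this
    rw [hz] at h10
    exact AD8S10 h10

theorem hfac17 : (Nat.card K).factorization 17 = 1 := by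
  rw [card_K hcard]
  have h : (4089470473293004800 : ℕ) = 17 * 240557086664294400 := by norm_num
  rw [h, Nat.factorization_mul (by norm_num) (by norm_num), Finsupp.add_apply,
    Nat.Prime.factorization_self (by norm_num),
    Nat.factorization_eq_zero_of_not_dvd (by norm_num)]

/-- `|Out K| = 1` -/
theorem out_one : Nat.card (Cfsg.Out K) = 1 :=
  Cfsg.Agent.Lib.Helper15.OutOne.out_card_one_of_rigid_sub K (p := 17) (r := 3) A_mem D_mem S_mem
    orderA (hfac17 hcard) DA_conj (by norm_num) hr17 (cent_a hcard) gen_le (rigid hcard)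

end

end Cfsg.Agent.Lib.Helper15.Fi23O
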