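import Cfsg.Agent.Lib.Helper28.BSGSPerm
import Cfsg.Agent.Lib.Helper4.TC.Perm

/-!
# Piece C of S5514 (helper15 for helper2): a homomorphism from a presented group to permutations
given by tables, the relators being checked on the tables
-/

set_option autoImplicit false

namespace Cfsg.Agent.Lib.Helper2.O73Cls

open Cfsg.Agent.Lib.Helper28.BSGS

namespace Helper15

theorem actsByW_append {n w : ℕ} {g h : Equiv.Perm (Fin n)} {ws ws' : List ℕ}
    (hg : ActsByW n w g ws) (hh : ActsByW n w h ws') : ActsByW n w (g * h) (ws ++ ws') := by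
  intro a
  show (g (h a)).val = evalW w (ws ++ ws') a.val
  unfold evalW
  rw [List.foldr_append]
  have h1 := hg (h a)
  have h2 := hh a
  unfold evalW at h1 h2
  rw [h1, h2]

open Cfsg.Agent.Helper4.TC in
/-- the table of a letter -/
def ltab {α : Type} (T : α → ℕ × ℕ) (l : Letter α) : ℕ := if l.2 then (T l.1).1 else (T l.1).2

open Cfsg.Agent.Helper4.TC in
theorem gl_acts {α : Type} {n w : ℕ} (T : α → ℕ × ℕ)
    (hT : ∀ x, pairOK n w (T x).1 (T x).2 = true) (l : Letter α) :
    ActsByW n w (gl (fun x => permOf n w (T x).1 (T x).2) l) [ltab T l] := by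
  apply actsByW_single
  intro a
  unfold gl ltab
  by_cases hl : l.2 = true
  · rw [if_pos hl, if_pos hl]
    exact permOf_apply (hT l.1) a
  · rw [if_neg hl, if_neg hl]
    exact permOf_inv_apply (hT l.1) a

open Cfsg.Agent.Helper4.TC in
theorem ev_acts {α : Type} {n w : ℕ} (T : α → ℕ × ℕ)
    (hT : ∀ x, pairOK n w (T x).1 (T x).2 = true) (ls : List (Letter α)) :
    ActsByW n w (ev (fun x => permOf n w (T x).1 (T x).2) ls) (ls.reverse.map (ltab T)) := by
  induction ls with
  | nil => exact actsByW_one n w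
  | cons l ls ih =>
    rw [List.reverse_cons, List.map_append]
    show ActsByW n w (ev (fun x => permOf n w (T x).1 (T x).2) ls *
      gl (fun x => permOf n w (T x).1 (T x).2) l) _
    exact actsByW_append ih (gl_acts T hT l)

theorem eq_one_of_wordId' {n w : ℕ} {g : Equiv.Perm (Fin n)} {ws : List ℕ}
    (hg : ActsByW n w g ws)
    (h : ((List.range n).all fun a => evalW w ws a == a) = true) : g = 1 := by
  rw [List.all_eq_true] at h
  apply Equiv.ext
  intro a
  apply Fin.ext
  rw [hg a]
  exact beq_iff_eq.mp (h a.val (List.mem_range.mpr a.isLt))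

end Helper15

open Cfsg.Agent.Helper4.TC in
theorem exists_hom_perm {α : Type} (Rs : Set (FreeGroup α)) (dec : ℕ → Letter α) (bases : List (List ℕ)) (hR1 : ∀ r ∈ Rs, ∃ b ∈ bases, r = wordF dec b) (n w : ℕ) (T : α → ℕ × ℕ) (hT : ∀ x, pairOK n w (T x).1 (T x).2 = true) (hchk : ∀ b ∈ bases, wordId n w ((b.map dec).reverse.map fun l => if l.2 then (T l.1).1 else (T l.1).2) = true) : ∃ φ : PresentedGroup Rs →* Equiv.Perm (Fin n), ∀ x, φ (PresentedGroup.of x) = permOf n w (T x).1 (T x).2 := by
  have hf : ∀ r ∈ Rs, FreeGroup.lift (fun x => permOf n w (T x).1 (T x).2) r = 1 := by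
    intro r hr
    obtain ⟨b, hb, rfl⟩ := hR1 r hr
    rw [lift_wordF]
    have h1 := Helper15.ev_acts (n := n) (w := w) T hT (b.map dec)
    have h2 := hchk b hb
    exact Helper15.eq_one_of_wordId' h1 h2
  exact ⟨PresentedGroup.toGroup hf, fun x => PresentedGroup.toGroup.of hf⟩

end Cfsg.Agent.Lib.Helper2.O73Cls
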