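import Cfsg.Agent.Lib.Helper15.Fi23OMainE
import Cfsg.Agent.Lib.Helper21.OutPermModel
import Cfsg.Agent.Lib.Helper15.O73ClsC
import Cfsg.Agent.Lib.Helper4.TC.Fi23SMain

/-!
# The outer automorphism group of Fi23: the bridge to the presented group
-/

set_option autoImplicit false
set_option maxRecDepth 100000

namespace Cfsg.Agent.Lib.Helper15.Fi23O

open Cfsg.Agent.Lib.Helper15.Walk Cfsg.Agent.Lib.Helper28.BSGS Cfsg.Agent.Lib.Helper22.SuzOut MulAction
open Cfsg.Agent.Helper4.TC

theorem hT : ∀ x, pairOK 31671 15 (T x).1 (T x).2 = true := by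
  intro x
  cases x
  · exact pairOK_of_fast pair_cx0
  · exact pairOK_of_fast pair_cx1
  · exact pairOK_of_fast pair_cx2
  · exact pairOK_of_fast pair_cx3
  · exact pairOK_of_fast pair_cx4
  · exact pairOK_of_fast pair_cx5
  · exact pairOK_of_fast pair_cx6
  · exact pairOK_of_fast pair_cx7
  · exact pairOK_of_fast pair_cx8
  · exact pairOK_of_fast pair_cx9

theorem bases_eq : Fi23Fi22.bases = myBases := by decide +kernel

theorem myBases_len : myBases.length = 102 := by decide +kernel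

theorem rel_all : ∀ b ∈ myBases, wordIdF 31671 15 (relTabs b) = true := by
  intro b hb
  obtain ⟨i, hi, rfl⟩ := List.getElem_of_mem hb
  have h := rel_upto102 i (by rw [← myBases_len]; exact hi)
  unfold RelAt at h
  rwa [List.getD_eq_getElem _ _ hi] at h

theorem hchk : ∀ b ∈ Fi23Fi22.bases, wordId 31671 15 ((b.map Fi23Fi22.dec).reverse.map fun l =>
    if l.2 then (T l.1).1 else (T l.1).2) = true := by
  intro b hb
  rw [bases_eq] at hb
  exact wordId_of_fast (rel_all b hb)

theorem num_cx0 : look 15 cx0 9 ≠ 9 := by decide +kernel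

theorem T_ne : permOf 31671 15 (T Cfsg.Spor.Fi23.Gen.a).1 (T Cfsg.Spor.Fi23.Gen.a).2 ≠ 1 := by
  intro h
  have := permOf_apply (hT Cfsg.Spor.Fi23.Gen.a) ⟨9, by norm_num⟩
  rw [h] at this
  exact num_cx0 this.symm

theorem map_T : [Cfsg.Spor.Fi23.Gen.a, .b, .c, .d, .e, .f, .g, .j, .h, .i].map T = coxL := rfl

/-- the presented group is isomorphic to the permutation group -/
theorem nonempty_equiv : Nonempty (PresentedGroup Fi23S.Rset ≃* K) := by
  obtain ⟨φ, hφ⟩ := Cfsg.Agent.Lib.Helper2.O73Cls.exists_hom_perm Fi23S.Rset Fi23Fi22.dec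
    Fi23Fi22.bases Fi23Fi22.hR1 31671 15 T hT hchk
  have : IsSimpleGroup (PresentedGroup Fi23S.Rset) := Fi23S.main.1
  have := Cfsg.Agent.Lib.Helper15.OutOne.nonempty_equiv_genGroup Fi23S.Rset 31671 15 T φ hφ
    [Cfsg.Spor.Fi23.Gen.a, .b, .c, .d, .e, .f, .g, .j, .h, .i] (by intro x; cases x <;> simp)
    Cfsg.Spor.Fi23.Gen.a T_ne
  rw [map_T] at this
  exact this

theorem out_presented : Nat.card (Cfsg.Out (PresentedGroup Fi23S.Rset)) = 1 := by
  obtain ⟨e⟩ := nonempty_equiv
  have hcard : Nat.card K ≤ 4089470473293004800 := by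
    rw [← Nat.card_congr e.toEquiv, Fi23S.main.2]
  rw [Cfsg.Agent.Lib.Helper15.OutOne.out_card_congr' e]
  exact out_one hcard

/-- the outer automorphism group of the Fischer group `Fi₂₃` is trivial -/
theorem out_Fi23 : Nat.card (Cfsg.Out Cfsg.Spor.Fi23) = 1 := out_presented

end Cfsg.Agent.Lib.Helper15.Fi23O
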