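import Cfsg.Agent.Lib.Helper15.Fi23OMainF

/-!
# The permutation model of Fi23 on 31671 points: unconditional order and sifting

For reuse by other statements about `Fi₂₃`: the hypothesis `|K| ≤ |Fi₂₃|` of `Fi23OMainC` is discharged
through the isomorphism with the presented group.
-/

set_option autoImplicit false
set_option maxRecDepth 100000

namespace Cfsg.Agent.Lib.Helper15.Fi23O

open Cfsg.Agent.Lib.Helper15.Walk Cfsg.Agent.Lib.Helper28.BSGS Cfsg.Agent.Lib.Helper22.SuzOut MulAction
open Cfsg.Agent.Helper4.TC

theorem hcard_K : Nat.card K ≤ 4089470473293004800 := by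
  obtain ⟨e⟩ := nonempty_equiv
  rw [← Nat.card_congr e.toEquiv, Fi23S.main.2]

/-- the order of the permutation group -/
theorem card_K' : Nat.card K = 4089470473293004800 := card_K hcard_K

/-- every element of the permutation group sifts through the chain -/
theorem sifts' : ∀ z ∈ K, Sifts (levels.map (semW 31671 15 8 8)) z := sifts hcard_K

/-- two elements of the permutation group which agree on the nine base points are equal -/
theorem eq_of_base' (z z' : Equiv.Perm (Fin 31671)) (hz : z ∈ K) (hz' : z' ∈ K)
    (h : ∀ lv ∈ levels, z (pt 31671 lv.b) = z' (pt 31671 lv.b)) : z = z' :=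
  eq_of_base 31671 15 8 8 levels z z' (sifts' z hz) (sifts' z' hz') h

/-- the base images of an element of the permutation group pass the sifting test -/
theorem wsift_of_mem (z : Equiv.Perm (Fin 31671)) (hz : z ∈ K) (imgs : List ℕ)
    (himg : List.Forall₂ (fun (lv : WLevel) (y : ℕ) => (z (pt 31671 lv.b)).val = y) levels imgs) :
    wsift 15 8 8 levels imgs = true :=
  wsift_sound 31671 15 8 8 levels wwf z (sifts' z hz) imgs himg

end Cfsg.Agent.Lib.Helper15.Fi23O
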