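import Cfsg.Agent.Lib.Helper15.Fi23ODefs2
import Cfsg.Agent.Lib.Helper15.Fi23ODefs3
import Cfsg.Agent.Lib.Helper15.WalkPieces

set_option autoImplicit false
set_option maxRecDepth 100000
set_option maxHeartbeats 0
set_option Elab.async false

namespace Cfsg.Agent.Lib.Helper15.Fi23O

open Cfsg.Agent.Lib.Helper15.Walk Cfsg.Agent.Lib.Helper28.BSGS Cfsg.Agent.Lib.Helper22.SuzOut

theorem pth_fwd1_p0 : allRange (pathPt 15 (coxL ++ strongL.take 1) sg1 pth1) 0 2000 = true := by decide +kernel

theorem pth_fwd1_p1 : allRange (pathPt 15 (coxL ++ strongL.take 1) sg1 pth1) 2000 2000 = true := by decide +kernel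

theorem pth_fwd1_p2 : allRange (pathPt 15 (coxL ++ strongL.take 1) sg1 pth1) 4000 2000 = true := by decide +kernel

theorem pth_fwd1_p3 : allRange (pathPt 15 (coxL ++ strongL.take 1) sg1 pth1) 6000 2000 = true := by decide +kernel

theorem pth_fwd1_p4 : allRange (pathPt 15 (coxL ++ strongL.take 1) sg1 pth1) 8000 2000 = true := by decide +kernel

theorem pth_fwd1_p5 : allRange (pathPt 15 (coxL ++ strongL.take 1) sg1 pth1) 10000 2000 = true := by decide +kernel

theorem pth_fwd1_p6 : allRange (pathPt 15 (coxL ++ strongL.take 1) sg1 pth1) 12000 2000 = true := by decide +kernel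

theorem pth_fwd1_p7 : allRange (pathPt 15 (coxL ++ strongL.take 1) sg1 pth1) 14000 2000 = true := by decide +kernel

theorem pth_fwd1_p8 : allRange (pathPt 15 (coxL ++ strongL.take 1) sg1 pth1) 16000 2000 = true := by decide +kernel

theorem pth_fwd1_p9 : allRange (pathPt 15 (coxL ++ strongL.take 1) sg1 pth1) 18000 2000 = true := by decide +kernel

theorem pth_fwd1_p10 : allRange (pathPt 15 (coxL ++ strongL.take 1) sg1 pth1) 20000 2000 = true := by decide +kernel

theorem pth_fwd1_p11 : allRange (pathPt 15 (coxL ++ strongL.take 1) sg1 pth1) 22000 2000 = true := by decide +kernel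

theorem pth_fwd1_p12 : allRange (pathPt 15 (coxL ++ strongL.take 1) sg1 pth1) 24000 2000 = true := by decide +kernel

theorem pth_fwd1_p13 : allRange (pathPt 15 (coxL ++ strongL.take 1) sg1 pth1) 26000 2000 = true := by decide +kernel

theorem pth_fwd1_p14 : allRange (pathPt 15 (coxL ++ strongL.take 1) sg1 pth1) 28000 2000 = true := by decide +kernel

theorem pth_fwd1_p15 : allRange (pathPt 15 (coxL ++ strongL.take 1) sg1 pth1) 30000 1671 = true := by decide +kernel

end Cfsg.Agent.Lib.Helper15.Fi23O
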