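import Cfsg.Agent.Lib.Helper15.Fi23ODefs2
import Cfsg.Agent.Lib.Helper15.Fi23ODefs3
import Cfsg.Agent.Lib.Helper15.WalkPieces
import Cfsg.Agent.Lib.Helper15.Fi23OQ4

set_option autoImplicit false
set_option maxRecDepth 100000
set_option maxHeartbeats 0
set_option Elab.async false

namespace Cfsg.Agent.Lib.Helper15.Fi23O

open Cfsg.Agent.Lib.Helper15.Walk Cfsg.Agent.Lib.Helper28.BSGS Cfsg.Agent.Lib.Helper22.SuzOut

theorem pth_fwd4_p9 : allRange (pathPt 15 (coxL ++ strongL.take 4) sg4 pth4) 10458 1162 = true := by decide +kernel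

theorem pth_fwd4_p10 : allRange (pathPt 15 (coxL ++ strongL.take 4) sg4 pth4) 11620 1162 = true := by decide +kernel

theorem pth_fwd4_p11 : allRange (pathPt 15 (coxL ++ strongL.take 4) sg4 pth4) 12782 1162 = true := by decide +kernel

theorem pth_fwd4_p12 : allRange (pathPt 15 (coxL ++ strongL.take 4) sg4 pth4) 13944 1162 = true := by decide +kernel

theorem pth_fwd4_p13 : allRange (pathPt 15 (coxL ++ strongL.take 4) sg4 pth4) 15106 1162 = true := by decide +kernel

theorem pth_fwd4_p14 : allRange (pathPt 15 (coxL ++ strongL.take 4) sg4 pth4) 16268 1162 = true := by decide +kernel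

theorem pth_fwd4_p15 : allRange (pathPt 15 (coxL ++ strongL.take 4) sg4 pth4) 17430 1162 = true := by decide +kernel

theorem pth_fwd4_p16 : allRange (pathPt 15 (coxL ++ strongL.take 4) sg4 pth4) 18592 1162 = true := by decide +kernel

theorem pth_fwd4_p17 : allRange (pathPt 15 (coxL ++ strongL.take 4) sg4 pth4) 19754 1162 = true := by decide +kernel

theorem pth_fwd4_p18 : allRange (pathPt 15 (coxL ++ strongL.take 4) sg4 pth4) 20916 1162 = true := by decide +kernel

theorem pth_fwd4_p19 : allRange (pathPt 15 (coxL ++ strongL.take 4) sg4 pth4) 22078 1162 = true := by decide +kernel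

theorem pth_fwd4_p20 : allRange (pathPt 15 (coxL ++ strongL.take 4) sg4 pth4) 23240 1162 = true := by decide +kernel

theorem pth_fwd4_p21 : allRange (pathPt 15 (coxL ++ strongL.take 4) sg4 pth4) 24402 1162 = true := by decide +kernel

theorem pth_fwd4_p22 : allRange (pathPt 15 (coxL ++ strongL.take 4) sg4 pth4) 25564 1162 = true := by decide +kernel

theorem pth_fwd4_p23 : allRange (pathPt 15 (coxL ++ strongL.take 4) sg4 pth4) 26726 1162 = true := by decide +kernel

theorem pth_fwd4_p24 : allRange (pathPt 15 (coxL ++ strongL.take 4) sg4 pth4) 27888 1162 = true := by decide +kernel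

end Cfsg.Agent.Lib.Helper15.Fi23O
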