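import Cfsg.Agent.Lib.Helper15.Fi23ODefs2
import Cfsg.Agent.Lib.Helper15.Fi23ODefs3
import Cfsg.Agent.Lib.Helper15.WalkPieces
import Cfsg.Agent.Lib.Helper15.Fi23OQ9

set_option autoImplicit false
set_option maxRecDepth 100000
set_option maxHeartbeats 0
set_option Elab.async false

namespace Cfsg.Agent.Lib.Helper15.Fi23O

open Cfsg.Agent.Lib.Helper15.Walk Cfsg.Agent.Lib.Helper28.BSGS Cfsg.Agent.Lib.Helper22.SuzOut

theorem pth_fwd7_p1 : allRange (pathPt 15 (coxL ++ strongL.take 7) sg7 pth7) 1063 1063 = true := by decide +kernel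

theorem pth_fwd7_p2 : allRange (pathPt 15 (coxL ++ strongL.take 7) sg7 pth7) 2126 1063 = true := by decide +kernel

theorem pth_fwd7_p3 : allRange (pathPt 15 (coxL ++ strongL.take 7) sg7 pth7) 3189 1063 = true := by decide +kernel

theorem pth_fwd7_p4 : allRange (pathPt 15 (coxL ++ strongL.take 7) sg7 pth7) 4252 1063 = true := by decide +kernel

theorem pth_fwd7_p5 : allRange (pathPt 15 (coxL ++ strongL.take 7) sg7 pth7) 5315 1063 = true := by decide +kernel

theorem pth_fwd7_p6 : allRange (pathPt 15 (coxL ++ strongL.take 7) sg7 pth7) 6378 1063 = true := by decide +kernel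

theorem pth_fwd7_p7 : allRange (pathPt 15 (coxL ++ strongL.take 7) sg7 pth7) 7441 1063 = true := by decide +kernel

theorem pth_fwd7_p8 : allRange (pathPt 15 (coxL ++ strongL.take 7) sg7 pth7) 8504 1063 = true := by decide +kernel

theorem pth_fwd7_p9 : allRange (pathPt 15 (coxL ++ strongL.take 7) sg7 pth7) 9567 1063 = true := by decide +kernel

theorem pth_fwd7_p10 : allRange (pathPt 15 (coxL ++ strongL.take 7) sg7 pth7) 10630 1063 = true := by decide +kernel

theorem pth_fwd7_p11 : allRange (pathPt 15 (coxL ++ strongL.take 7) sg7 pth7) 11693 1063 = true := by decide +kernel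

theorem pth_fwd7_p12 : allRange (pathPt 15 (coxL ++ strongL.take 7) sg7 pth7) 12756 1063 = true := by decide +kernel

theorem pth_fwd7_p13 : allRange (pathPt 15 (coxL ++ strongL.take 7) sg7 pth7) 13819 1063 = true := by decide +kernel

theorem pth_fwd7_p14 : allRange (pathPt 15 (coxL ++ strongL.take 7) sg7 pth7) 14882 1063 = true := by decide +kernel

theorem pth_fwd7_p15 : allRange (pathPt 15 (coxL ++ strongL.take 7) sg7 pth7) 15945 1063 = true := by decide +kernel

theorem pth_fwd7_p16 : allRange (pathPt 15 (coxL ++ strongL.take 7) sg7 pth7) 17008 1063 = true := by decide +kernel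

end Cfsg.Agent.Lib.Helper15.Fi23O
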