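import Cfsg.Agent.Lib.Helper15.Fi23ODefs2
import Cfsg.Agent.Lib.Helper15.Fi23ODefs3
import Cfsg.Agent.Lib.Helper15.WalkPieces
import Cfsg.Agent.Lib.Helper15.Fi23OQ19

set_option autoImplicit false
set_option maxRecDepth 100000
set_option maxHeartbeats 0
set_option Elab.async false

namespace Cfsg.Agent.Lib.Helper15.Fi23O

open Cfsg.Agent.Lib.Helper15.Walk Cfsg.Agent.Lib.Helper28.BSGS Cfsg.Agent.Lib.Helper22.SuzOut

theorem gp_fwd3_p10 : allRange (pathPt 15 adsL cx3 gp3) 16660 1666 = true := by decide +kernel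

theorem gp_fwd3_p11 : allRange (pathPt 15 adsL cx3 gp3) 18326 1666 = true := by decide +kernel

theorem gp_fwd3_p12 : allRange (pathPt 15 adsL cx3 gp3) 19992 1666 = true := by decide +kernel

theorem gp_fwd3_p13 : allRange (pathPt 15 adsL cx3 gp3) 21658 1666 = true := by decide +kernel

theorem gp_fwd3_p14 : allRange (pathPt 15 adsL cx3 gp3) 23324 1666 = true := by decide +kernel

theorem gp_fwd3_p15 : allRange (pathPt 15 adsL cx3 gp3) 24990 1666 = true := by decide +kernel

theorem gp_fwd3_p16 : allRange (pathPt 15 adsL cx3 gp3) 26656 1666 = true := by decide +kernel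

theorem gp_fwd3_p17 : allRange (pathPt 15 adsL cx3 gp3) 28322 1666 = true := by decide +kernel

theorem gp_fwd3_p18 : allRange (pathPt 15 adsL cx3 gp3) 29988 1666 = true := by decide +kernel

theorem gp_fwd3_p19 : allRange (pathPt 15 adsL cx3 gp3) 31654 17 = true := by decide +kernel

theorem gp_fwd4_p0 : allRange (pathPt 15 adsL cx4 gp4) 0 1785 = true := by decide +kernel

theorem gp_fwd4_p1 : allRange (pathPt 15 adsL cx4 gp4) 1785 1785 = true := by decide +kernel

theorem gp_fwd4_p2 : allRange (pathPt 15 adsL cx4 gp4) 3570 1785 = true := by decide +kernel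

theorem gp_fwd4_p3 : allRange (pathPt 15 adsL cx4 gp4) 5355 1785 = true := by decide +kernel

theorem gp_fwd4_p4 : allRange (pathPt 15 adsL cx4 gp4) 7140 1785 = true := by decide +kernel

theorem gp_fwd4_p5 : allRange (pathPt 15 adsL cx4 gp4) 8925 1785 = true := by decide +kernel

end Cfsg.Agent.Lib.Helper15.Fi23O
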