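import Cfsg.Agent.Lib.Helper15.Fi23ODefs2
import Cfsg.Agent.Lib.Helper15.Fi23ODefs3
import Cfsg.Agent.Lib.Helper15.WalkPieces
import Cfsg.Agent.Lib.Helper15.Fi23OQ24

set_option autoImplicit false
set_option maxRecDepth 100000
set_option maxHeartbeats 0
set_option Elab.async false

namespace Cfsg.Agent.Lib.Helper15.Fi23O

open Cfsg.Agent.Lib.Helper15.Walk Cfsg.Agent.Lib.Helper28.BSGS Cfsg.Agent.Lib.Helper22.SuzOut

theorem gp_fwd7_p18 : allRange (pathPt 15 adsL cx7 gp7) 29988 1666 = true := by decide +kernel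

theorem gp_fwd7_p19 : allRange (pathPt 15 adsL cx7 gp7) 31654 17 = true := by decide +kernel

theorem gp_fwd8_p0 : allRange (pathPt 15 adsL cx8 gp8) 0 1785 = true := by decide +kernel

theorem gp_fwd8_p1 : allRange (pathPt 15 adsL cx8 gp8) 1785 1785 = true := by decide +kernel

theorem gp_fwd8_p2 : allRange (pathPt 15 adsL cx8 gp8) 3570 1785 = true := by decide +kernel

theorem gp_fwd8_p3 : allRange (pathPt 15 adsL cx8 gp8) 5355 1785 = true := by decide +kernel

theorem gp_fwd8_p4 : allRange (pathPt 15 adsL cx8 gp8) 7140 1785 = true := by decide +kernel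

theorem gp_fwd8_p5 : allRange (pathPt 15 adsL cx8 gp8) 8925 1785 = true := by decide +kernel

theorem gp_fwd8_p6 : allRange (pathPt 15 adsL cx8 gp8) 10710 1785 = true := by decide +kernel

theorem gp_fwd8_p7 : allRange (pathPt 15 adsL cx8 gp8) 12495 1785 = true := by decide +kernel

theorem gp_fwd8_p8 : allRange (pathPt 15 adsL cx8 gp8) 14280 1785 = true := by decide +kernel

theorem gp_fwd8_p9 : allRange (pathPt 15 adsL cx8 gp8) 16065 1785 = true := by decide +kernel

theorem gp_fwd8_p10 : allRange (pathPt 15 adsL cx8 gp8) 17850 1785 = true := by decide +kernel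

theorem gp_fwd8_p11 : allRange (pathPt 15 adsL cx8 gp8) 19635 1785 = true := by decide +kernel

theorem gp_fwd8_p12 : allRange (pathPt 15 adsL cx8 gp8) 21420 1785 = true := by decide +kernel

theorem gp_fwd8_p13 : allRange (pathPt 15 adsL cx8 gp8) 23205 1785 = true := by decide +kernel

end Cfsg.Agent.Lib.Helper15.Fi23O
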