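import Cfsg.Agent.Lib.Helper15.Fi23ODefs2
import Cfsg.Agent.Lib.Helper15.Fi23ODefs3
import Cfsg.Agent.Lib.Helper15.WalkPieces
import Cfsg.Agent.Lib.Helper15.Fi23OQ29

set_option autoImplicit false
set_option maxRecDepth 100000
set_option maxHeartbeats 0
set_option Elab.async false

namespace Cfsg.Agent.Lib.Helper15.Fi23O

open Cfsg.Agent.Lib.Helper15.Walk Cfsg.Agent.Lib.Helper28.BSGS Cfsg.Agent.Lib.Helper22.SuzOut

theorem rel16_p0 : allRange (wordIdPt 15 (relTabs (myBases.getD 16 []))) 0 12500 = true := by decide +kernel

theorem rel16_p1 : allRange (wordIdPt 15 (relTabs (myBases.getD 16 []))) 12500 12500 = true := by decide +kernel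

theorem rel16_p2 : allRange (wordIdPt 15 (relTabs (myBases.getD 16 []))) 25000 6671 = true := by decide +kernel

theorem rel17_p0 : allRange (wordIdPt 15 (relTabs (myBases.getD 17 []))) 0 12500 = true := by decide +kernel

theorem rel17_p1 : allRange (wordIdPt 15 (relTabs (myBases.getD 17 []))) 12500 12500 = true := by decide +kernel

theorem rel17_p2 : allRange (wordIdPt 15 (relTabs (myBases.getD 17 []))) 25000 6671 = true := by decide +kernel

theorem rel18_p0 : allRange (wordIdPt 15 (relTabs (myBases.getD 18 []))) 0 12500 = true := by decide +kernel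

theorem rel18_p1 : allRange (wordIdPt 15 (relTabs (myBases.getD 18 []))) 12500 12500 = true := by decide +kernel

theorem rel18_p2 : allRange (wordIdPt 15 (relTabs (myBases.getD 18 []))) 25000 6671 = true := by decide +kernel

theorem rel19_p0 : allRange (wordIdPt 15 (relTabs (myBases.getD 19 []))) 0 12500 = true := by decide +kernel

theorem rel19_p1 : allRange (wordIdPt 15 (relTabs (myBases.getD 19 []))) 12500 12500 = true := by decide +kernel

theorem rel19_p2 : allRange (wordIdPt 15 (relTabs (myBases.getD 19 []))) 25000 6671 = true := by decide +kernel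

theorem rel20_p0 : allRange (wordIdPt 15 (relTabs (myBases.getD 20 []))) 0 12500 = true := by decide +kernel

theorem rel20_p1 : allRange (wordIdPt 15 (relTabs (myBases.getD 20 []))) 12500 12500 = true := by decide +kernel

theorem rel20_p2 : allRange (wordIdPt 15 (relTabs (myBases.getD 20 []))) 25000 6671 = true := by decide +kernel

theorem rel21_p0 : allRange (wordIdPt 15 (relTabs (myBases.getD 21 []))) 0 8333 = true := by decide +kernel

theorem rel21_p1 : allRange (wordIdPt 15 (relTabs (myBases.getD 21 []))) 8333 8333 = true := by decide +kernel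

theorem rel21_p2 : allRange (wordIdPt 15 (relTabs (myBases.getD 21 []))) 16666 8333 = true := by decide +kernel

end Cfsg.Agent.Lib.Helper15.Fi23O
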