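import Cfsg.Agent.Lib.Helper15.Fi23ODefs2
import Cfsg.Agent.Lib.Helper15.Fi23ODefs3
import Cfsg.Agent.Lib.Helper15.WalkPieces
import Cfsg.Agent.Lib.Helper15.Fi23OQ34

set_option autoImplicit false
set_option maxRecDepth 100000
set_option maxHeartbeats 0
set_option Elab.async false

namespace Cfsg.Agent.Lib.Helper15.Fi23O

open Cfsg.Agent.Lib.Helper15.Walk Cfsg.Agent.Lib.Helper28.BSGS Cfsg.Agent.Lib.Helper22.SuzOut

theorem rel45_p0 : allRange (wordIdPt 15 (relTabs (myBases.getD 45 []))) 0 8333 = true := by decide +kernel

theorem rel45_p1 : allRange (wordIdPt 15 (relTabs (myBases.getD 45 []))) 8333 8333 = true := by decide +kernel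

theorem rel45_p2 : allRange (wordIdPt 15 (relTabs (myBases.getD 45 []))) 16666 8333 = true := by decide +kernel

theorem rel45_p3 : allRange (wordIdPt 15 (relTabs (myBases.getD 45 []))) 24999 6672 = true := by decide +kernel

theorem rel46_p0 : allRange (wordIdPt 15 (relTabs (myBases.getD 46 []))) 0 12500 = true := by decide +kernel

theorem rel46_p1 : allRange (wordIdPt 15 (relTabs (myBases.getD 46 []))) 12500 12500 = true := by decide +kernel

theorem rel46_p2 : allRange (wordIdPt 15 (relTabs (myBases.getD 46 []))) 25000 6671 = true := by decide +kernel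

theorem rel47_p0 : allRange (wordIdPt 15 (relTabs (myBases.getD 47 []))) 0 12500 = true := by decide +kernel

theorem rel47_p1 : allRange (wordIdPt 15 (relTabs (myBases.getD 47 []))) 12500 12500 = true := by decide +kernel

theorem rel47_p2 : allRange (wordIdPt 15 (relTabs (myBases.getD 47 []))) 25000 6671 = true := by decide +kernel

theorem rel48_p0 : allRange (wordIdPt 15 (relTabs (myBases.getD 48 []))) 0 12500 = true := by decide +kernel

theorem rel48_p1 : allRange (wordIdPt 15 (relTabs (myBases.getD 48 []))) 12500 12500 = true := by decide +kernel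

theorem rel48_p2 : allRange (wordIdPt 15 (relTabs (myBases.getD 48 []))) 25000 6671 = true := by decide +kernel

theorem rel49_p0 : allRange (wordIdPt 15 (relTabs (myBases.getD 49 []))) 0 12500 = true := by decide +kernel

theorem rel49_p1 : allRange (wordIdPt 15 (relTabs (myBases.getD 49 []))) 12500 12500 = true := by decide +kernel

theorem rel49_p2 : allRange (wordIdPt 15 (relTabs (myBases.getD 49 []))) 25000 6671 = true := by decide +kernel

theorem rel50_p0 : allRange (wordIdPt 15 (relTabs (myBases.getD 50 []))) 0 12500 = true := by decide +kernel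

theorem rel50_p1 : allRange (wordIdPt 15 (relTabs (myBases.getD 50 []))) 12500 12500 = true := by decide +kernel

end Cfsg.Agent.Lib.Helper15.Fi23O
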