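import Cfsg.Agent.Lib.Helper15.Fi23ODefs2
import Cfsg.Agent.Lib.Helper15.Fi23ODefs3
import Cfsg.Agent.Lib.Helper15.WalkPieces
import Cfsg.Agent.Lib.Helper15.Fi23OQ44

set_option autoImplicit false
set_option maxRecDepth 100000
set_option maxHeartbeats 0
set_option Elab.async false

namespace Cfsg.Agent.Lib.Helper15.Fi23O

open Cfsg.Agent.Lib.Helper15.Walk Cfsg.Agent.Lib.Helper28.BSGS Cfsg.Agent.Lib.Helper22.SuzOut

theorem rel100_p11 : allRange (wordIdPt 15 (relTabs (myBases.getD 100 []))) 6105 555 = true := by decide +kernel

theorem rel100_p12 : allRange (wordIdPt 15 (relTabs (myBases.getD 100 []))) 6660 555 = true := by decide +kernel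

theorem rel100_p13 : allRange (wordIdPt 15 (relTabs (myBases.getD 100 []))) 7215 555 = true := by decide +kernel

theorem rel100_p14 : allRange (wordIdPt 15 (relTabs (myBases.getD 100 []))) 7770 555 = true := by decide +kernel

theorem rel100_p15 : allRange (wordIdPt 15 (relTabs (myBases.getD 100 []))) 8325 555 = true := by decide +kernel

theorem rel100_p16 : allRange (wordIdPt 15 (relTabs (myBases.getD 100 []))) 8880 555 = true := by decide +kernel

theorem rel100_p17 : allRange (wordIdPt 15 (relTabs (myBases.getD 100 []))) 9435 555 = true := by decide +kernel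

theorem rel100_p18 : allRange (wordIdPt 15 (relTabs (myBases.getD 100 []))) 9990 555 = true := by decide +kernel

theorem rel100_p19 : allRange (wordIdPt 15 (relTabs (myBases.getD 100 []))) 10545 555 = true := by decide +kernel

theorem rel100_p20 : allRange (wordIdPt 15 (relTabs (myBases.getD 100 []))) 11100 555 = true := by decide +kernel

theorem rel100_p21 : allRange (wordIdPt 15 (relTabs (myBases.getD 100 []))) 11655 555 = true := by decide +kernel

theorem rel100_p22 : allRange (wordIdPt 15 (relTabs (myBases.getD 100 []))) 12210 555 = true := by decide +kernel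

theorem rel100_p23 : allRange (wordIdPt 15 (relTabs (myBases.getD 100 []))) 12765 555 = true := by decide +kernel

theorem rel100_p24 : allRange (wordIdPt 15 (relTabs (myBases.getD 100 []))) 13320 555 = true := by decide +kernel

theorem rel100_p25 : allRange (wordIdPt 15 (relTabs (myBases.getD 100 []))) 13875 555 = true := by decide +kernel

theorem rel100_p26 : allRange (wordIdPt 15 (relTabs (myBases.getD 100 []))) 14430 555 = true := by decide +kernel

end Cfsg.Agent.Lib.Helper15.Fi23O
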