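import Cfsg.Agent.Lib.Helper15.Fi23ODefs2
import Cfsg.Agent.Lib.Helper15.Fi23ODefs3
import Cfsg.Agent.Lib.Helper15.WalkPieces
import Cfsg.Agent.Lib.Helper15.Fi23OQ49

set_option autoImplicit false
set_option maxRecDepth 100000
set_option maxHeartbeats 0
set_option Elab.async false

namespace Cfsg.Agent.Lib.Helper15.Fi23O

open Cfsg.Agent.Lib.Helper15.Walk Cfsg.Agent.Lib.Helper28.BSGS Cfsg.Agent.Lib.Helper22.SuzOut

theorem rel101_p33 : allRange (wordIdPt 15 (relTabs (myBases.getD 101 []))) 26169 793 = true := by decide +kernel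

theorem rel101_p34 : allRange (wordIdPt 15 (relTabs (myBases.getD 101 []))) 26962 793 = true := by decide +kernel

theorem rel101_p35 : allRange (wordIdPt 15 (relTabs (myBases.getD 101 []))) 27755 793 = true := by decide +kernel

theorem rel101_p36 : allRange (wordIdPt 15 (relTabs (myBases.getD 101 []))) 28548 793 = true := by decide +kernel

theorem rel101_p37 : allRange (wordIdPt 15 (relTabs (myBases.getD 101 []))) 29341 793 = true := by decide +kernel

theorem rel101_p38 : allRange (wordIdPt 15 (relTabs (myBases.getD 101 []))) 30134 793 = true := by decide +kernel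

theorem rel101_p39 : allRange (wordIdPt 15 (relTabs (myBases.getD 101 []))) 30927 744 = true := by decide +kernel

theorem rel_da_p0 : allRange (wordEqPt 15 [tD, tA] [tA, tA, tA, tD]) 0 8333 = true := by decide +kernel

theorem rel_da_p1 : allRange (wordEqPt 15 [tD, tA] [tA, tA, tA, tD]) 8333 8333 = true := by decide +kernel

theorem rel_da_p2 : allRange (wordEqPt 15 [tD, tA] [tA, tA, tA, tD]) 16666 8333 = true := by decide +kernel

theorem rel_da_p3 : allRange (wordEqPt 15 [tD, tA] [tA, tA, tA, tD]) 24999 6672 = true := by decide +kernel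

theorem rel_sd_p0 : allRange (wordEqPt 15 [tS, tD] [tD, tS]) 0 12500 = true := by decide +kernel

theorem rel_sd_p1 : allRange (wordEqPt 15 [tS, tD] [tD, tS]) 12500 12500 = true := by decide +kernel

theorem rel_sd_p2 : allRange (wordEqPt 15 [tS, tD] [tD, tS]) 25000 6671 = true := by decide +kernel

theorem rel_a17_p0 : allRange (wordIdPt 15 (List.replicate 17 tA)) 0 2941 = true := by decide +kernel

theorem rel_a17_p1 : allRange (wordIdPt 15 (List.replicate 17 tA)) 2941 2941 = true := by decide +kernel

end Cfsg.Agent.Lib.Helper15.Fi23O
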