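import Cfsg.Agent.Lib.Helper15.Fi23ODefs2
import Cfsg.Agent.Lib.Helper15.Fi23ODefs3
import Cfsg.Agent.Lib.Helper15.WalkPieces
import Cfsg.Agent.Lib.Helper15.Fi23OQ54

set_option autoImplicit false
set_option maxRecDepth 100000
set_option maxHeartbeats 0
set_option Elab.async false

namespace Cfsg.Agent.Lib.Helper15.Fi23O

open Cfsg.Agent.Lib.Helper15.Walk Cfsg.Agent.Lib.Helper28.BSGS Cfsg.Agent.Lib.Helper22.SuzOut

theorem exclA_p11 : allRange (exclPt 15 8 8 levels FA goodA) 7854 714 = true := by decide +kernel

theorem exclA_p12 : allRange (exclPt 15 8 8 levels FA goodA) 8568 714 = true := by decide +kernel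

theorem exclA_p13 : allRange (exclPt 15 8 8 levels FA goodA) 9282 714 = true := by decide +kernel

theorem exclA_p14 : allRange (exclPt 15 8 8 levels FA goodA) 9996 714 = true := by decide +kernel

theorem exclA_p15 : allRange (exclPt 15 8 8 levels FA goodA) 10710 714 = true := by decide +kernel

theorem exclA_p16 : allRange (exclPt 15 8 8 levels FA goodA) 11424 714 = true := by decide +kernel

theorem exclA_p17 : allRange (exclPt 15 8 8 levels FA goodA) 12138 714 = true := by decide +kernel

theorem exclA_p18 : allRange (exclPt 15 8 8 levels FA goodA) 12852 714 = true := by decide +kernel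

theorem exclA_p19 : allRange (exclPt 15 8 8 levels FA goodA) 13566 714 = true := by decide +kernel

theorem exclA_p20 : allRange (exclPt 15 8 8 levels FA goodA) 14280 714 = true := by decide +kernel

theorem exclA_p21 : allRange (exclPt 15 8 8 levels FA goodA) 14994 714 = true := by decide +kernel

theorem exclA_p22 : allRange (exclPt 15 8 8 levels FA goodA) 15708 714 = true := by decide +kernel

theorem exclA_p23 : allRange (exclPt 15 8 8 levels FA goodA) 16422 714 = true := by decide +kernel

theorem exclA_p24 : allRange (exclPt 15 8 8 levels FA goodA) 17136 714 = true := by decide +kernel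

theorem exclA_p25 : allRange (exclPt 15 8 8 levels FA goodA) 17850 714 = true := by decide +kernel

theorem exclA_p26 : allRange (exclPt 15 8 8 levels FA goodA) 18564 714 = true := by decide +kernel

end Cfsg.Agent.Lib.Helper15.Fi23O
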