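import Mathlib

set_option autoImplicit false

namespace Cfsg.Agent.Lib.Helper15

open Matrix

/-- Determinant of a Gram matrix with respect to an arbitrary basis: it is the determinant of the Gram matrix in the
standard basis times a non-zero square. -/
theorem gram_det {F : Type*} [Field F] {n : Type*} [Fintype n] [DecidableEq n] {ι : Type*} [Fintype ι]
    [DecidableEq ι] (G : Matrix n n F) (b : Module.Basis ι F (n → F)) :
    ∃ d : F, d ≠ 0 ∧ (Matrix.of fun i j : ι => (b i) ⬝ᵥ (G *ᵥ (b j))).det = d ^ 2 * G.det := by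
  classical
  let e : ι ≃ n := b.indexEquiv (Pi.basisFun F n)
  let b' : Module.Basis n F (n → F) := b.reindex e
  let P : Matrix n n F := (Pi.basisFun F n).toMatrix b'
  have hP : ∀ k l, P k l = b (e.symm l) k := by
    intro k l
    simp [P, b', Module.Basis.toMatrix_apply]
  have hPdet : IsUnit P.det := by
    have : Invertible P := Module.Basis.invertibleToMatrix (Pi.basisFun F n) b'
    exact Matrix.isUnit_det_of_invertible P
  refine ⟨P.det, hPdet.ne_zero, ?_⟩
  have h1 : (Matrix.of fun i j : ι => (b i) ⬝ᵥ (G *ᵥ (b j))).submatrix e.symm e.symm = Pᵀ * G * P := by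
    ext k l
    simp only [Matrix.submatrix_apply, Matrix.of_apply, Matrix.mul_apply, Matrix.transpose_apply, hP,
      dotProduct, Matrix.mulVec, Finset.sum_mul, Finset.mul_sum]
    rw [Finset.sum_comm]
    refine Finset.sum_congr rfl fun x _ => Finset.sum_congr rfl fun y _ => ?_
    ring
  rw [← Matrix.det_submatrix_equiv_self e.symm, h1, Matrix.det_mul, Matrix.det_mul, Matrix.det_transpose]
  ring

/-- The determinant of the block matrix `[[0, 1], [1, 0]]`. -/
theorem det_swapBlocks {F : Type*} [Field F] (m : ℕ) :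
    (Matrix.fromBlocks (0 : Matrix (Fin m) (Fin m) F) (1 : Matrix (Fin m) (Fin m) F) (1 : Matrix (Fin m) (Fin m) F) (0 : Matrix (Fin m) (Fin m) F)).det = (-1) ^ m := by
  have h1 : Matrix.fromBlocks (1 : Matrix (Fin m) (Fin m) F) (1 : Matrix (Fin m) (Fin m) F) (0 : Matrix (Fin m) (Fin m) F) (1 : Matrix (Fin m) (Fin m) F) * Matrix.fromBlocks (0 : Matrix (Fin m) (Fin m) F) (1 : Matrix (Fin m) (Fin m) F) (1 : Matrix (Fin m) (Fin m) F) (0 : Matrix (Fin m) (Fin m) F)
      = Matrix.fromBlocks (1 : Matrix (Fin m) (Fin m) F) (1 : Matrix (Fin m) (Fin m) F) (1 : Matrix (Fin m) (Fin m) F) (0 : Matrix (Fin m) (Fin m) F) := by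
    rw [Matrix.fromBlocks_multiply]
    simp
  have h2 : (Matrix.fromBlocks (1 : Matrix (Fin m) (Fin m) F) (1 : Matrix (Fin m) (Fin m) F) (0 : Matrix (Fin m) (Fin m) F) (1 : Matrix (Fin m) (Fin m) F)).det = 1 := by
    rw [Matrix.det_fromBlocks_zero₂₁]; simp
  have h3 : (Matrix.fromBlocks (1 : Matrix (Fin m) (Fin m) F) (1 : Matrix (Fin m) (Fin m) F) (1 : Matrix (Fin m) (Fin m) F) (0 : Matrix (Fin m) (Fin m) F)).det = (-1) ^ m := by
    rw [Matrix.det_fromBlocks_one₁₁]
    simp [Matrix.det_neg]
  have := congrArg Matrix.det h1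
  rw [Matrix.det_mul, h2, one_mul, h3] at this
  exact this

/-- In a finite field of odd order, `(-1)^m` is a square iff `m (q-1)/2` is even. -/
theorem isSquare_neg_one_pow_iff {F : Type*} [Field F] [Fintype F] {q : ℕ} (hF : Fintype.card F = q) (hq : Odd q)
    (m : ℕ) : IsSquare ((-1 : F) ^ m) ↔ Even (m * (q - 1) / 2) := by
  obtain ⟨k, hk⟩ := hq
  have hq1 : q - 1 = 2 * k := by omega
  have hdiv : m * (q - 1) / 2 = m * k := by
    rw [hq1, ← mul_assoc, mul_comm m 2, mul_assoc, Nat.mul_div_cancel_left _ (by norm_num : 0 < 2)]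
  rw [hdiv]
  rcases Nat.even_or_odd m with hm | hm
  · have : ((-1 : F)) ^ m = 1 := hm.neg_one_pow
    rw [this]
    simp only [IsSquare.one, true_iff]
    exact hm.mul_right k
  · have : ((-1 : F)) ^ m = -1 := hm.neg_one_pow
    rw [this, FiniteField.isSquare_neg_one_iff, hF]
    rw [Nat.even_mul]
    have hmne : ¬ Even m := Nat.not_even_iff_odd.mpr hm
    simp only [hmne, false_or]
    constructor
    · intro h
      rw [Nat.even_iff]
      omega
    · intro h
      rw [Nat.even_iff] at h
      omega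

end Cfsg.Agent.Lib.Helper15
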