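import Mathlib
import Cfsg.Prelude.Def_Classical

/-!
# The action of `SL₂(F[ω])` on Hermitian matrices

For an anisotropic binary form `x² + a x y + b y²` over `F`, let `F[ω]` be the quadratic algebra
with `ω² = -b + a ω` (Mathlib's `QuadraticAlgebra F (-b) a`), whose norm form is that form.  The
group `SL₂(F[ω])` acts on the Hermitian matrices `[[-x, z], [z̄, y]]` by `X ↦ A X A^*`, preserving
`-det = x y + N(z)`, which is the minus type form in dimension four.

* `rho4`, `rho4_one`, `rho4_mul`, `rho4_form`: the explicit `4 × 4` matrices.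
* `rho4_eq_one`: the kernel is `±1`.
* `rhoMinus : SL₂(F[ω]) →* O(quadFormMinus 1 F a b)` and `rhoMinus_eq_one`.
-/

set_option autoImplicit false

namespace Cfsg.Agent.Lib.Helper15

open Matrix QuadraticAlgebra

section algebra
variable {F : Type*} [Field F] (a b : F)

/-- the quadratic extension with `ω² = -b + a ω`; its norm form is `x² + a x y + b y²` -/
abbrev QE : Type _ := QuadraticAlgebra F (-b) a

/-- the norm form -/
def nmQ (z : QE a b) : F := z.re * z.re + a * z.re * z.im + b * z.im * z.im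

/-- the trace -/
def trQ (z : QE a b) : F := 2 * z.re + a * z.im

/-- the generator -/
def omQ : QE a b := ⟨0, 1⟩

/-- the matrix of `X ↦ A X A^*` on Hermitian matrices `X = [[-x, z], [z̄, y]]`,
  in the coordinates `(x, y, re z, im z)` -/
def rho4 (A : Matrix (Fin 2) (Fin 2) (QE a b)) : Matrix (Fin 4) (Fin 4) F :=
  !![nmQ a b (A 0 0), -nmQ a b (A 0 1), -trQ a b (A 0 0 * star (A 0 1)),
      -trQ a b (A 0 0 * star (A 0 1) * omQ a b);
     -nmQ a b (A 1 0), nmQ a b (A 1 1), trQ a b (A 1 0 * star (A 1 1)),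
      trQ a b (A 1 0 * star (A 1 1) * omQ a b);
     -(A 0 0 * star (A 1 0)).re, (A 0 1 * star (A 1 1)).re,
      (A 0 0 * star (A 1 1) + A 0 1 * star (A 1 0)).re,
      (A 0 0 * star (A 1 1) * omQ a b + A 0 1 * star (A 1 0) * star (omQ a b)).re;
     -(A 0 0 * star (A 1 0)).im, (A 0 1 * star (A 1 1)).im,
      (A 0 0 * star (A 1 1) + A 0 1 * star (A 1 0)).im,
      (A 0 0 * star (A 1 1) * omQ a b + A 0 1 * star (A 1 0) * star (omQ a b)).im]

theorem rho4_one : rho4 a b (1 : Matrix (Fin 2) (Fin 2) (QE a b)) = 1 := by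
  ext i j
  fin_cases i <;> fin_cases j <;> simp [rho4, nmQ, trQ, omQ]

set_option maxHeartbeats 4000000 in
theorem rho4_mul (A B : Matrix (Fin 2) (Fin 2) (QE a b)) :
    rho4 a b (A * B) = rho4 a b A * rho4 a b B := by
  ext i j
  fin_cases i <;> fin_cases j <;>
    simp only [rho4, nmQ, trQ, omQ, Matrix.mul_apply, Fin.sum_univ_two, Fin.sum_univ_four,
      re_mul, im_mul, re_add, im_add, re_star, im_star, Matrix.of_apply, Matrix.cons_val',
      Matrix.cons_val_zero, Matrix.cons_val_one, Matrix.cons_val_fin_one, Fin.zero_eta, Fin.mk_one,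
      Fin.reduceFinMk, Matrix.cons_val] <;> ring

/-- the form `x y + N(z)` on `F⁴` -/
def Q4 (v : Fin 4 → F) : F := v 0 * v 1 + (v 2 ^ 2 + a * v 2 * v 3 + b * v 3 ^ 2)

set_option maxHeartbeats 4000000 in
theorem rho4_form (A : Matrix (Fin 2) (Fin 2) (QE a b)) (v : Fin 4 → F) :
    Q4 a b (rho4 a b A *ᵥ v) = nmQ a b (A 0 0 * A 1 1 - A 0 1 * A 1 0) * Q4 a b v := by
  simp only [Q4, rho4, nmQ, trQ, omQ, Matrix.mulVec, dotProduct, Fin.sum_univ_four,
      re_mul, im_mul, re_add, im_add, re_sub, im_sub, re_star, im_star, Matrix.of_apply,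
      Matrix.cons_val', Matrix.cons_val_zero, Matrix.cons_val_one, Matrix.cons_val_fin_one,
      Matrix.cons_val]
  ring

/-- anisotropy of the norm form -/
theorem nmQ_eq_zero (hab : ∀ z₁ z₂ : F, z₁ ^ 2 + a * z₁ * z₂ + b * z₂ ^ 2 = 0 → z₁ = 0 ∧ z₂ = 0)
    (z : QE a b) (hz : nmQ a b z = 0) : z = 0 := by
  have := hab z.re z.im (by rw [← hz, nmQ]; ring)
  exact QuadraticAlgebra.ext this.1 this.2

/-- elements fixed by the conjugation have no `ω`-part (finite fields) -/
theorem im_eq_zero_of_star_eq [Finite F]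
    (hab : ∀ z₁ z₂ : F, z₁ ^ 2 + a * z₁ * z₂ + b * z₂ ^ 2 = 0 → z₁ = 0 ∧ z₂ = 0)
    (z : QE a b) (hz : star z = z) : z.im = 0 := by
  by_contra him
  have h1 := congrArg QuadraticAlgebra.re hz
  have h2 := congrArg QuadraticAlgebra.im hz
  rw [re_star] at h1
  rw [im_star] at h2
  have ha : a = 0 := by
    have : a * z.im = 0 := by linear_combination h1
    rcases mul_eq_zero.mp this with h | h
    · exact h
    · exact absurd h him
  have h2' : (2 : F) = 0 := by
    have : (2 : F) * z.im = 0 := by linear_combination -h2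
    rcases mul_eq_zero.mp this with h | h
    · exact h
    · exact absurd h him
  have : CharP F 2 := by
    refine CharTwo.of_one_ne_zero_of_two_eq_zero one_ne_zero h2'
  obtain ⟨r, hr⟩ := FiniteField.isSquare_of_char_two (F := F) (by exact ringChar.eq F 2) b
  have := hab r 1 (by rw [ha, hr]; linear_combination (r * r) * h2')
  exact one_ne_zero this.2

/-- the kernel of `rho4` on matrices of determinant one -/
theorem rho4_eq_one [Finite F]
    (hab : ∀ z₁ z₂ : F, z₁ ^ 2 + a * z₁ * z₂ + b * z₂ ^ 2 = 0 → z₁ = 0 ∧ z₂ = 0)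
    (A : Matrix (Fin 2) (Fin 2) (QE a b)) (hdet : A 0 0 * A 1 1 - A 0 1 * A 1 0 = 1)
    (h : rho4 a b A = 1) : A = 1 ∨ A = -1 := by
  have e01 := congrFun (congrFun h 0) 1
  have e10 := congrFun (congrFun h 1) 0
  have e11 := congrFun (congrFun h 1) 1
  have e22 := congrFun (congrFun h 2) 2
  have e32 := congrFun (congrFun h 3) 2
  simp only [rho4, Matrix.of_apply, Matrix.cons_val', Matrix.cons_val_zero, Matrix.cons_val_one,
    Matrix.cons_val_fin_one, Matrix.cons_val, Matrix.one_apply_eq] at e01 e10 e11 e22 e32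
  have e01' : -nmQ a b (A 0 1) = 0 := by simpa using e01
  have e10' : -nmQ a b (A 1 0) = 0 := by simpa using e10
  have e32' : (A 0 0 * star (A 1 1) + A 0 1 * star (A 1 0)).im = 0 := by simpa using e32
  have hβ : A 0 1 = 0 := nmQ_eq_zero a b hab _ (neg_eq_zero.mp e01')
  have hγ : A 1 0 = 0 := nmQ_eq_zero a b hab _ (neg_eq_zero.mp e10')
  rw [hβ, zero_mul, add_zero] at e22 e32'
  rw [hβ, zero_mul, sub_zero] at hdet
  have h1 : A 0 0 * star (A 1 1) = 1 := QuadraticAlgebra.ext e22 e32'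
  have hs : star (A 1 1) = A 1 1 := by
    calc star (A 1 1) = (A 0 0 * star (A 1 1)) * A 1 1 := by
          rw [mul_comm (A 0 0), mul_assoc, hdet, mul_one]
      _ = A 1 1 := by rw [h1, one_mul]
  have him := im_eq_zero_of_star_eq a b hab _ hs
  have hre : (A 1 1).re * (A 1 1).re = 1 := by
    rw [nmQ, him] at e11
    linear_combination e11
  have hδ : A 1 1 * A 1 1 = 1 := by
    ext
    · rw [re_mul, him]; simp only [re_one]; linear_combination hre
    · rw [im_mul, him]; simp
  have hα : A 0 0 = A 1 1 := by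
    calc A 0 0 = (A 0 0 * A 1 1) * A 1 1 := by rw [mul_assoc, hδ, mul_one]
      _ = A 1 1 := by rw [hdet, one_mul]
  have hcase : (A 1 1).re = 1 ∨ (A 1 1).re = -1 := by
    have : ((A 1 1).re - 1) * ((A 1 1).re + 1) = 0 := by linear_combination hre
    rcases mul_eq_zero.mp this with h | h
    · left; linear_combination h
    · right; linear_combination h
  rcases hcase with hc | hc
  · left
    have hd1 : A 1 1 = 1 := QuadraticAlgebra.ext (by rw [hc]; rfl) (by rw [him]; rfl)
    ext i j : 1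
    fin_cases i <;> fin_cases j
    · simpa [hd1] using hα
    · simpa using hβ
    · simpa using hγ
    · simpa using hd1
  · right
    have hd1 : A 1 1 = -1 := QuadraticAlgebra.ext (by rw [hc]; rfl) (by rw [him]; simp)
    ext i j : 1
    fin_cases i <;> fin_cases j
    · simpa [hd1] using hα
    · simpa using hβ
    · simpa using hγ
    · simpa using hd1

theorem rho4_neg_one : rho4 a b (-1 : Matrix (Fin 2) (Fin 2) (QE a b)) = 1 := by
  ext i j
  fin_cases i <;> fin_cases j <;> simp [rho4, nmQ, trQ, omQ]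

/-- index type of the four-dimensional minus type form -/
abbrev I4m : Type := (Fin 1 ⊕ Fin 1) ⊕ Fin 2

/-- identification of the index types -/
def e4m : I4m ≃ Fin 4 where
  toFun i := match i with
    | .inl (.inl _) => 0
    | .inl (.inr _) => 1
    | .inr 0 => 2
    | .inr 1 => 3
  invFun k := match k with
    | 0 => .inl (.inl 0)
    | 1 => .inl (.inr 0)
    | 2 => .inr 0
    | 3 => .inr 1
  left_inv := by
    rintro ((i | i) | i)
    · have : i = 0 := Subsingleton.elim _ _
      subst this; rfl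
    · have : i = 0 := Subsingleton.elim _ _
      subst this; rfl
    · fin_cases i <;> rfl
  right_inv := by
    intro k
    fin_cases k <;> rfl

theorem quadFormMinus_eq (v : I4m → F) : Cfsg.quadFormMinus 1 F a b v = Q4 a b (v ∘ e4m.symm) := by
  unfold Cfsg.quadFormMinus Q4
  rw [Fin.sum_univ_one]
  rfl

/-- the action on `F^I4m` -/
def rhoM (A : Matrix (Fin 2) (Fin 2) (QE a b)) : Matrix I4m I4m F := (rho4 a b A).submatrix e4m e4m

theorem rhoM_one : rhoM a b (1 : Matrix (Fin 2) (Fin 2) (QE a b)) = 1 := by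
  unfold rhoM
  rw [rho4_one, Matrix.submatrix_one_equiv]

theorem rhoM_mul (A B : Matrix (Fin 2) (Fin 2) (QE a b)) :
    rhoM a b (A * B) = rhoM a b A * rhoM a b B := by
  unfold rhoM
  rw [rho4_mul, Matrix.submatrix_mul_equiv]

theorem rhoM_form (A : Matrix (Fin 2) (Fin 2) (QE a b)) (v : I4m → F) :
    Cfsg.quadFormMinus 1 F a b (rhoM a b A *ᵥ v) =
      nmQ a b (A 0 0 * A 1 1 - A 0 1 * A 1 0) * Cfsg.quadFormMinus 1 F a b v := by
  rw [quadFormMinus_eq, quadFormMinus_eq]
  unfold rhoM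
  rw [Matrix.submatrix_mulVec_equiv]
  have : ((rho4 a b A *ᵥ (v ∘ ⇑e4m.symm)) ∘ ⇑e4m) ∘ ⇑e4m.symm = rho4 a b A *ᵥ (v ∘ ⇑e4m.symm) := by
    funext k
    simp
  rw [this, rho4_form]

theorem rhoM_injective (A B : Matrix (Fin 2) (Fin 2) (QE a b)) (h : rhoM a b A = rhoM a b B) :
    rho4 a b A = rho4 a b B := by
  unfold rhoM at h
  ext i j
  have := congrFun (congrFun h (e4m.symm i)) (e4m.symm j)
  simpa using this

theorem nmQ_one : nmQ a b (1 : QE a b) = 1 := by
  simp [nmQ]

/-- the homomorphism `SL₂(F[ω]) → O⁻₄(F)` -/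
def rhoMinus : Matrix.SpecialLinearGroup (Fin 2) (QE a b) →*
    ↥(Cfsg.isometryGroup F (Cfsg.quadFormMinus 1 F a b)) where
  toFun g := ⟨⟨rhoM a b g.1, rhoM a b (g⁻¹).1, by
      rw [← rhoM_mul, ← Matrix.SpecialLinearGroup.coe_mul, mul_inv_cancel,
        Matrix.SpecialLinearGroup.coe_one, rhoM_one], by
      rw [← rhoM_mul, ← Matrix.SpecialLinearGroup.coe_mul, inv_mul_cancel,
        Matrix.SpecialLinearGroup.coe_one, rhoM_one]⟩, by
    intro u _
    change Cfsg.quadFormMinus 1 F a b (rhoM a b g.1 *ᵥ u) = Cfsg.quadFormMinus 1 F a b u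
    have hdet : g.1 0 0 * g.1 1 1 - g.1 0 1 * g.1 1 0 = 1 := by
      have := g.2
      rwa [Matrix.det_fin_two] at this
    rw [rhoM_form, hdet, nmQ_one, one_mul]⟩
  map_one' := by
    apply Subtype.ext
    apply Units.ext
    exact rhoM_one a b
  map_mul' g h := by
    apply Subtype.ext
    apply Units.ext
    exact rhoM_mul a b g.1 h.1

theorem rhoMinus_val (g : Matrix.SpecialLinearGroup (Fin 2) (QE a b)) :
    (((rhoMinus a b g).1 : GL I4m F) : Matrix I4m I4m F) = rhoM a b g.1 := rfl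

/-- the kernel of `rhoMinus` -/
theorem rhoMinus_eq_one [Finite F]
    (hab : ∀ z₁ z₂ : F, z₁ ^ 2 + a * z₁ * z₂ + b * z₂ ^ 2 = 0 → z₁ = 0 ∧ z₂ = 0)
    (g : Matrix.SpecialLinearGroup (Fin 2) (QE a b)) (hg : rhoMinus a b g = 1) :
    g = 1 ∨ g = -1 := by
  have h1 : rho4 a b g.1 = 1 := by
    have := congrArg (fun y : ↥(Cfsg.isometryGroup F (Cfsg.quadFormMinus 1 F a b)) =>
      (((y.1 : GL I4m F) : Matrix I4m I4m F))) hg
    simp only [rhoMinus_val] at this
    rw [← rho4_one]
    apply rhoM_injective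
    rw [this, rhoM_one]
    rfl
  have hdet : g.1 0 0 * g.1 1 1 - g.1 0 1 * g.1 1 0 = 1 := by
    have := g.2
    rwa [Matrix.det_fin_two] at this
  rcases rho4_eq_one a b hab g.1 hdet h1 with h | h
  · left
    exact Subtype.ext h
  · right
    apply Subtype.ext
    rw [h]
    simp

end algebra

end Cfsg.Agent.Lib.Helper15
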