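import Mathlib
import Cfsg.Agent.Lib.Helper29.IcoEnum

/-!
# Norm shapes of the minimal vectors of the icosian Leech lattice  (helper15)

`shapes : isMin v = true → (nrm v.x, nrm v.y, nrm v.z) ∈ shapeList` (15 triples).
-/

set_option autoImplicit false
set_option maxRecDepth 100000

namespace Cfsg.Agent.Lib.Helper15.IcoCls

open Cfsg.Agent.Lib.Helper11.Ico Cfsg.Agent.Lib.Helper29.IcoEnum

/-- the norm of `A + Bτ` (from `ℤ[τ]` to `ℤ`) of the quaternion norm is non-negative -/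
theorem nrm_form_nonneg (x : Q8) :
    0 ≤ (Q8.nrm x).1 * (Q8.nrm x).1 + (Q8.nrm x).1 * (Q8.nrm x).2 - (Q8.nrm x).2 * (Q8.nrm x).2 := by
  obtain ⟨a0, b0, a1, b1, a2, b2, a3, b3⟩ := x
  simp only [Q8.nrm]
  have key : (a0 * a0 + b0 * b0 + a1 * a1 + b1 * b1 + a2 * a2 + b2 * b2 + a3 * a3 + b3 * b3) *
        (a0 * a0 + b0 * b0 + a1 * a1 + b1 * b1 + a2 * a2 + b2 * b2 + a3 * a3 + b3 * b3) +
      (a0 * a0 + b0 * b0 + a1 * a1 + b1 * b1 + a2 * a2 + b2 * b2 + a3 * a3 + b3 * b3) *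
        (2 * a0 * b0 + b0 * b0 + 2 * a1 * b1 + b1 * b1 + 2 * a2 * b2 + b2 * b2 + 2 * a3 * b3 + b3 * b3) -
      (2 * a0 * b0 + b0 * b0 + 2 * a1 * b1 + b1 * b1 + 2 * a2 * b2 + b2 * b2 + 2 * a3 * b3 + b3 * b3) *
        (2 * a0 * b0 + b0 * b0 + 2 * a1 * b1 + b1 * b1 + 2 * a2 * b2 + b2 * b2 + 2 * a3 * b3 + b3 * b3) =
      (a0 * a0 + a0 * b0 - b0 * b0) ^ 2 + (a1 * a1 + a1 * b1 - b1 * b1) ^ 2 + (a2 * a2 + a2 * b2 - b2 * b2) ^ 2 +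
      (a3 * a3 + a3 * b3 - b3 * b3) ^ 2 +
      ((a0 * a1 + a0 * b1 - b0 * b1) ^ 2 + (a0 * a1 + a0 * b1 - b0 * b1 + (b0 * a1 - a0 * b1)) ^ 2 + 2 * (b0 * a1 - a0 * b1) ^ 2) +
      ((a0 * a2 + a0 * b2 - b0 * b2) ^ 2 + (a0 * a2 + a0 * b2 - b0 * b2 + (b0 * a2 - a0 * b2)) ^ 2 + 2 * (b0 * a2 - a0 * b2) ^ 2) +
      ((a0 * a3 + a0 * b3 - b0 * b3) ^ 2 + (a0 * a3 + a0 * b3 - b0 * b3 + (b0 * a3 - a0 * b3)) ^ 2 + 2 * (b0 * a3 - a0 * b3) ^ 2) +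
      ((a1 * a2 + a1 * b2 - b1 * b2) ^ 2 + (a1 * a2 + a1 * b2 - b1 * b2 + (b1 * a2 - a1 * b2)) ^ 2 + 2 * (b1 * a2 - a1 * b2) ^ 2) +
      ((a1 * a3 + a1 * b3 - b1 * b3) ^ 2 + (a1 * a3 + a1 * b3 - b1 * b3 + (b1 * a3 - a1 * b3)) ^ 2 + 2 * (b1 * a3 - a1 * b3) ^ 2) +
      ((a2 * a3 + a2 * b3 - b2 * b3) ^ 2 + (a2 * a3 + a2 * b3 - b2 * b3 + (b2 * a3 - a2 * b3)) ^ 2 + 2 * (b2 * a3 - a2 * b3) ^ 2) := by
    ring
  rw [key]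
  positivity

/-- multiplication in `ℤ[τ]` on pairs -/
def zmul (p q : ℤ × ℤ) : ℤ × ℤ := (p.1 * q.1 + p.2 * q.2, p.1 * q.2 + p.2 * q.1 + p.2 * q.2)

theorem nrm_mulRaw (x y : Q8) : Q8.nrm (Q8.mulRaw x y) = zmul (Q8.nrm x) (Q8.nrm y) := by
  obtain ⟨a0, b0, a1, b1, a2, b2, a3, b3⟩ := x
  obtain ⟨c0, d0, c1, d1, c2, d2, c3, d3⟩ := y
  simp only [Q8.nrm, Q8.mulRaw, zmul, Prod.mk.injEq]
  constructor <;> ring

theorem nrm_dbl (x : Q8) : Q8.nrm (Q8.dbl x) = (4 * (Q8.nrm x).1, 4 * (Q8.nrm x).2) := by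
  obtain ⟨a0, b0, a1, b1, a2, b2, a3, b3⟩ := x
  simp only [Q8.nrm, Q8.dbl, Q8.zs, Prod.mk.injEq]
  constructor <;> ring

theorem nrm_conj (x : Q8) : Q8.nrm (Q8.conj x) = Q8.nrm x := by
  obtain ⟨a0, b0, a1, b1, a2, b2, a3, b3⟩ := x
  simp only [Q8.nrm, Q8.conj, Prod.mk.injEq]
  constructor <;> ring

/-- elements of `I q` for `q` of norm `2` have norm divisible by `2` -/
theorem nrm_of_inIq {q w : Q8} (hq : Q8.nrm q = (8, 0)) (h : Q8.inIq q w = true) :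
    8 ∣ (Q8.nrm w).1 ∧ 8 ∣ (Q8.nrm w).2 := by
  simp only [Q8.inIq, Bool.and_eq_true] at h
  obtain ⟨h4, hI⟩ := h
  have h1 := Q8.dbl_dbl_quarter h4
  have h2 := congrArg Q8.nrm h1
  rw [nrm_dbl, nrm_dbl, nrm_mulRaw, nrm_conj, hq] at h2
  simp only [zmul, Prod.mk.injEq] at h2
  obtain ⟨d1, d2⟩ := four_dvd_nrm hI
  obtain ⟨e1, e2⟩ := h2
  constructor <;> omega

theorem hQ_nrm : Q8.nrm Q8.hQ = (8, 0) := by decide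

/-! ### closure of `inIq` -/

theorem mulRaw_sub_left (a b c : Q8) : Q8.mulRaw (Q8.sub a b) c = Q8.sub (Q8.mulRaw a c) (Q8.mulRaw b c) := by
  ext <;> simp only [Q8.mulRaw, Q8.sub] <;> ring

theorem inIq_sub {q a b : Q8} (ha : Q8.inIq q a = true) (hb : Q8.inIq q b = true) :
    Q8.inIq q (Q8.sub a b) = true := by
  simp only [Q8.inIq, Bool.and_eq_true] at ha hb ⊢
  obtain ⟨ha4, haI⟩ := ha
  obtain ⟨hb4, hbI⟩ := hb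
  rw [mulRaw_sub_left]
  have e1 := Q8.dbl_dbl_quarter ha4
  have e2 := Q8.dbl_dbl_quarter hb4
  have e3 : Q8.sub (Q8.mulRaw a (Q8.conj q)) (Q8.mulRaw b (Q8.conj q)) =
      Q8.dbl (Q8.dbl (Q8.sub (Q8.quarter (Q8.mulRaw a (Q8.conj q))) (Q8.quarter (Q8.mulRaw b (Q8.conj q))))) := by
    conv_lhs => rw [← e1, ← e2]
    ext <;> simp only [Q8.sub, Q8.dbl, Q8.zs] <;> ring
  rw [e3]
  obtain ⟨h1, h2⟩ := Q8.div4_dbl_dbl (Q8.sub (Q8.quarter (Q8.mulRaw a (Q8.conj q))) (Q8.quarter (Q8.mulRaw b (Q8.conj q))))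
  rw [h2]
  exact ⟨h1, Q8.inI_sub haI hbI⟩

theorem inIq_zero (q : Q8) : Q8.inIq q Q8.zero = true := by
  have : Q8.mulRaw Q8.zero (Q8.conj q) = Q8.zero := by
    ext <;> simp [Q8.mulRaw, Q8.zero]
  simp only [Q8.inIq, this]
  decide

theorem sub_zero_right (a : Q8) : Q8.sub a Q8.zero = a := by
  ext <;> simp [Q8.sub, Q8.zero]

theorem sub_zero_sub (a : Q8) : Q8.sub Q8.zero (Q8.sub Q8.zero a) = a := by
  ext <;> simp [Q8.sub, Q8.zero]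

theorem sub_sub_self (a b : Q8) : Q8.sub a (Q8.sub a b) = b := by
  ext <;> simp [Q8.sub]

theorem sub_sub_neg (a b : Q8) : Q8.sub (Q8.sub a b) (Q8.sub Q8.zero b) = a := by
  ext <;> simp [Q8.sub, Q8.zero]

theorem inIq_of_neg {q a : Q8} (h : Q8.inIq q (Q8.sub Q8.zero a) = true) : Q8.inIq q a = true := by
  have := inIq_sub (inIq_zero q) h
  rwa [sub_zero_sub] at this

/-- if one coordinate of a lattice vector vanishes, all coordinates lie in `I h` -/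
theorem all_inIq_of_zero {v : V3} (hL : V3.inLeech v = true)
    (h0 : v.x = Q8.zero ∨ v.y = Q8.zero ∨ v.z = Q8.zero) :
    Q8.inIq Q8.hQ v.x = true ∧ Q8.inIq Q8.hQ v.y = true ∧ Q8.inIq Q8.hQ v.z = true := by
  simp only [V3.inLeech, Bool.and_eq_true] at hL
  obtain ⟨⟨⟨⟨⟨hx, hy⟩, hz⟩, h1⟩, h2⟩, h3⟩ := hL
  rcases h0 with h0 | h0 | h0
  · rw [h0] at h1
    have hy' := inIq_of_neg h1
    have hz' : Q8.inIq Q8.hQ v.z = true := by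
      have := inIq_sub hy' h2
      rwa [sub_sub_self] at this
    rw [h0]
    exact ⟨inIq_zero _, hy', hz'⟩
  · rw [h0] at h1 h2
    rw [sub_zero_right] at h1
    rw [h0]
    exact ⟨h1, inIq_zero _, inIq_of_neg h2⟩
  · rw [h0] at h2
    rw [sub_zero_right] at h2
    have hx' : Q8.inIq Q8.hQ v.x = true := by
      have := inIq_sub h1 (inIq_sub (inIq_zero _) h2)
      rwa [sub_sub_neg] at this
    rw [h0]
    exact ⟨hx', h2, inIq_zero _⟩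

/-! ### the shapes -/

/-- the norm triples of the minimal vectors -/
def shapeList : List ((ℤ × ℤ) × (ℤ × ℤ) × (ℤ × ℤ)) :=
  [((16, 0), (0, 0), (0, 0)), ((0, 0), (16, 0), (0, 0)), ((0, 0), (0, 0), (16, 0)),
   ((8, 0), (8, 0), (0, 0)), ((8, 0), (0, 0), (8, 0)), ((0, 0), (8, 0), (8, 0)),
   ((8, 0), (4, 0), (4, 0)), ((4, 0), (8, 0), (4, 0)), ((4, 0), (4, 0), (8, 0)),
   ((4, 0), (4, 4), (8, -4)), ((4, 0), (8, -4), (4, 4)), ((4, 4), (4, 0), (8, -4)),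
   ((4, 4), (8, -4), (4, 0)), ((8, -4), (4, 0), (4, 4)), ((8, -4), (4, 4), (4, 0))]

/-- admissibility of a norm `4 (a + bτ)` -/
def adm (a b : ℤ) : Prop := 0 ≤ a ∧ -a ≤ b ∧ b ≤ 2 * a ∧ 0 ≤ a * a + a * b - b * b

instance (a b : ℤ) : Decidable (adm a b) := by unfold adm; infer_instance

theorem box_shapes : ∀ a1 ∈ Finset.Icc (0 : ℤ) 4, ∀ a2 ∈ Finset.Icc (0 : ℤ) 4,
    ∀ b1 ∈ Finset.Icc (-4 : ℤ) 8, ∀ b2 ∈ Finset.Icc (-4 : ℤ) 8,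
    adm a1 b1 → adm a2 b2 → adm (4 - a1 - a2) (-b1 - b2) →
    ((a1 = 0 ∨ a2 = 0 ∨ 4 - a1 - a2 = 0) →
      (2 ∣ a1 ∧ 2 ∣ b1) ∧ (2 ∣ a2 ∧ 2 ∣ b2) ∧ (2 ∣ (4 - a1 - a2) ∧ 2 ∣ (-b1 - b2))) →
    ((4 * a1, 4 * b1), (4 * a2, 4 * b2), (4 * (4 - a1 - a2), 4 * (-b1 - b2))) ∈ shapeList := by
  decide +kernel

theorem adm_of (x : Q8) (a b : ℤ) (ha : (Q8.nrm x).1 = 4 * a) (hb : (Q8.nrm x).2 = 4 * b) : adm a b := by
  have h1 := nrm_fst_nonneg x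
  have h2 := neg_fst_le_snd x
  have h3 := snd_le_two_fst x
  have h4 := nrm_form_nonneg x
  rw [ha, hb] at h4
  rw [ha] at h1
  rw [ha, hb] at h2 h3
  refine ⟨by omega, by omega, by omega, ?_⟩
  have : 4 * a * (4 * a) + 4 * a * (4 * b) - 4 * b * (4 * b) = 16 * (a * a + a * b - b * b) := by ring
  rw [this] at h4
  omega

theorem shapes (v : V3) (h : V3.isMin v = true) :
    (Q8.nrm v.x, Q8.nrm v.y, Q8.nrm v.z) ∈ shapeList := by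
  obtain ⟨hL, hn⟩ := (V3.isMin_iff v).mp h
  have hL' := hL
  simp only [V3.inLeech, Bool.and_eq_true] at hL'
  obtain ⟨⟨⟨⟨⟨hx, hy⟩, hz⟩, -⟩, -⟩, -⟩ := hL'
  obtain ⟨⟨a1, ea1⟩, ⟨b1, eb1⟩⟩ := four_dvd_nrm hx
  obtain ⟨⟨a2, ea2⟩, ⟨b2, eb2⟩⟩ := four_dvd_nrm hy
  obtain ⟨⟨a3, ea3⟩, ⟨b3, eb3⟩⟩ := four_dvd_nrm hz
  simp only [V3.nrm3, Prod.mk.injEq] at hn
  obtain ⟨hn1, hn2⟩ := hn
  have A1 := adm_of v.x a1 b1 ea1 eb1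
  have A2 := adm_of v.y a2 b2 ea2 eb2
  have A3 := adm_of v.z a3 b3 ea3 eb3
  have e3 : a3 = 4 - a1 - a2 := by omega
  have f3 : b3 = -b1 - b2 := by omega
  subst e3 f3
  have hev : (a1 = 0 ∨ a2 = 0 ∨ 4 - a1 - a2 = 0) →
      (2 ∣ a1 ∧ 2 ∣ b1) ∧ (2 ∣ a2 ∧ 2 ∣ b2) ∧ (2 ∣ (4 - a1 - a2) ∧ 2 ∣ (-b1 - b2)) := by
    intro h0
    have hz0 : v.x = Q8.zero ∨ v.y = Q8.zero ∨ v.z = Q8.zero := by
      rcases h0 with h0 | h0 | h0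
      · exact Or.inl (eq_zero_of_nrm_fst _ (by rw [ea1, h0]; rfl))
      · exact Or.inr (Or.inl (eq_zero_of_nrm_fst _ (by rw [ea2, h0]; rfl)))
      · exact Or.inr (Or.inr (eq_zero_of_nrm_fst _ (by rw [ea3, h0]; rfl)))
    obtain ⟨q1, q2, q3⟩ := all_inIq_of_zero hL hz0
    obtain ⟨d1, d1'⟩ := nrm_of_inIq hQ_nrm q1
    obtain ⟨d2, d2'⟩ := nrm_of_inIq hQ_nrm q2
    obtain ⟨d3, d3'⟩ := nrm_of_inIq hQ_nrm q3
    rw [ea1] at d1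
    rw [eb1] at d1'
    rw [ea2] at d2
    rw [eb2] at d2'
    rw [ea3] at d3
    rw [eb3] at d3'
    refine ⟨⟨?_, ?_⟩, ⟨?_, ?_⟩, ⟨?_, ?_⟩⟩ <;> omega
  obtain ⟨p1, p2, p3, p4⟩ := A1
  obtain ⟨r1, r2, r3, r4⟩ := A2
  obtain ⟨s1, s2, s3, s4⟩ := A3
  have := box_shapes a1 (Finset.mem_Icc.mpr ⟨by omega, by omega⟩) a2 (Finset.mem_Icc.mpr ⟨by omega, by omega⟩)
    b1 (Finset.mem_Icc.mpr ⟨by omega, by omega⟩) b2 (Finset.mem_Icc.mpr ⟨by omega, by omega⟩)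
    ⟨p1, p2, p3, p4⟩ ⟨r1, r2, r3, r4⟩ ⟨s1, s2, s3, s4⟩ hev
  have e1 : Q8.nrm v.x = (4 * a1, 4 * b1) := Prod.ext ea1 eb1
  have e2 : Q8.nrm v.y = (4 * a2, 4 * b2) := Prod.ext ea2 eb2
  have e3 : Q8.nrm v.z = (4 * (4 - a1 - a2), 4 * (-b1 - b2)) := Prod.ext ea3 eb3
  rw [e1, e2, e3]
  exact this

end Cfsg.Agent.Lib.Helper15.IcoCls
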