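import Cfsg.Agent.Lib.Helper29.IcoEnum

/-!
# Candidate lists for the classification of the minimal vectors of the icosian Leech lattice  (helper15)

`UHL` = the 600 products `u * h` (`u ∈ U`, `h ∈ H5`), `UtL` = the 120 products `u * τ`, `UsL` = the 120 products `u * σ`,
as literals (so that the kernel does not recompute them inside the loops of `IcoClsB`).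
-/

set_option autoImplicit false
set_option maxRecDepth 100000

namespace Cfsg.Agent.Lib.Helper15.IcoCls

open Cfsg.Agent.Lib.Helper11.Ico Cfsg.Agent.Lib.Helper29.IcoEnum

def UHL : List Q8 :=
  [⟨2, 0, 2, 0, 0, 0, 0, 0⟩, ⟨2, 0, 1, 0, 1, -1, 0, 1⟩,
   ⟨2, 0, 1, 0, 1, -1, 0, -1⟩, ⟨2, 0, 1, 0, -1, 1, 0, 1⟩,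
   ⟨2, 0, 1, 0, -1, 1, 0, -1⟩, ⟨0, 0, 2, 0, 2, 0, 0, 0⟩,
   ⟨0, 0, 1, 1, 2, -1, 1, 0⟩, ⟨0, 1, 1, 0, 2, 0, 1, -1⟩,
   ⟨1, -1, 2, 0, 1, 0, 0, 1⟩, ⟨1, 0, 2, -1, 1, 1, 0, 0⟩,
   ⟨0, 0, 2, 0, 0, 0, -2, 0⟩, ⟨0, 1, 2, 0, 1, -1, -1, 0⟩,
   ⟨0, 0, 2, -1, 1, 0, -1, -1⟩, ⟨1, 0, 1, 1, 0, 0, -2, 1⟩,
   ⟨1, -1, 1, 0, 0, 1, -2, 0⟩, ⟨0, 0, 2, 0, 0, 0, 2, 0⟩,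
   ⟨1, -1, 1, 0, 0, -1, 2, 0⟩, ⟨1, 0, 1, 1, 0, 0, 2, -1⟩,
   ⟨0, 0, 2, -1, -1, 0, 1, 1⟩, ⟨0, 1, 2, 0, -1, 1, 1, 0⟩,
   ⟨0, 0, 2, 0, -2, 0, 0, 0⟩, ⟨1, 0, 2, -1, -1, -1, 0, 0⟩,
   ⟨1, -1, 2, 0, -1, 0, 0, -1⟩, ⟨0, 1, 1, 0, -2, 0, -1, 1⟩,
   ⟨0, 0, 1, 1, -2, 1, -1, 0⟩, ⟨0, 1, 2, -1, 0, 1, 0, 1⟩,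
   ⟨0, 0, 2, -1, 1, 0, 1, 1⟩, ⟨1, 1, 2, -1, 0, 0, 1, 0⟩,
   ⟨0, 0, 1, -1, 0, 1, -1, 2⟩, ⟨1, 1, 1, -1, -1, 1, -1, 1⟩,
   ⟨0, 1, 2, -1, 0, -1, 0, -1⟩, ⟨1, 1, 1, -1, 1, -1, 1, -1⟩,
   ⟨0, 0, 1, -1, 0, -1, 1, -2⟩, ⟨1, 1, 2, -1, 0, 0, -1, 0⟩,
   ⟨0, 0, 2, -1, -1, 0, -1, -1⟩, ⟨1, -1, 1, 1, 1, -1, -1, 1⟩,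
   ⟨0, 0, 0, 1, 1, -2, -1, 1⟩, ⟨0, 0, 1, 1, 2, -1, -1, 0⟩,
   ⟨2, -1, 0, 1, 0, -1, 0, 1⟩, ⟨2, -1, 1, 1, 1, 0, 0, 0⟩,
   ⟨1, -1, 1, 1, -1, 1, 1, -1⟩, ⟨2, -1, 1, 1, -1, 0, 0, 0⟩,
   ⟨2, -1, 0, 1, 0, 1, 0, -1⟩, ⟨0, 0, 1, 1, -2, 1, 1, 0⟩,
   ⟨0, 0, 0, 1, -1, 2, 1, -1⟩, ⟨1, 0, 1, 0, 1, 0, 1, -2⟩,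
   ⟨2, 0, 0, 1, 1, 0, 1, -1⟩, ⟨1, 0, -1, 0, 1, 0, 1, -2⟩,
   ⟨1, 0, 2, 0, 0, 1, 1, -1⟩, ⟨0, 0, 1, -1, 0, 1, 1, -2⟩,
   ⟨1, 0, 1, 0, -1, 2, -1, 0⟩, ⟨1, 0, 2, 0, 0, 1, -1, 1⟩,
   ⟨2, 0, 1, -1, 0, 1, -1, 0⟩, ⟨0, 0, 0, 1, -1, 2, -1, 1⟩,
   ⟨1, 0, -1, 0, -1, 2, -1, 0⟩, ⟨1, 0, 1, 0, 1, -2, 1, 0⟩,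
   ⟨1, 0, -1, 0, 1, -2, 1, 0⟩, ⟨0, 0, 0, 1, 1, -2, 1, -1⟩,
   ⟨2, 0, 1, -1, 0, -1, 1, 0⟩, ⟨1, 0, 2, 0, 0, -1, 1, -1⟩,
   ⟨1, 0, 1, 0, -1, 0, -1, 2⟩, ⟨0, 0, 1, -1, 0, -1, -1, 2⟩,
   ⟨1, 0, 2, 0, 0, -1, -1, 1⟩, ⟨1, 0, -1, 0, -1, 0, -1, 2⟩,
   ⟨2, 0, 0, 1, -1, 0, -1, 1⟩, ⟨1, 1, 1, -1, 1, -1, -1, 1⟩,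
   ⟨0, 1, 0, -1, 2, -1, 0, 1⟩, ⟨0, 1, 1, -1, 1, -2, 0, 0⟩,
   ⟨2, 0, 0, -1, 1, 0, -1, 1⟩, ⟨2, 0, 1, -1, 0, -1, -1, 0⟩,
   ⟨1, 1, 1, -1, -1, 1, 1, -1⟩, ⟨2, 0, 1, -1, 0, 1, 1, 0⟩,
   ⟨2, 0, 0, -1, -1, 0, 1, -1⟩, ⟨0, 1, 1, -1, -1, 2, 0, 0⟩,
   ⟨0, 1, 0, -1, -2, 1, 0, -1⟩, ⟨2, -1, 0, 1, 0, 1, 0, 1⟩,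
   ⟨1, -1, 0, 1, 0, 0, -1, 2⟩, ⟨2, 0, 0, 1, 1, 0, -1, 1⟩,
   ⟨1, -1, -1, 1, -1, 1, 1, 1⟩, ⟨2, 0, -1, 1, 0, 1, 1, 0⟩,
   ⟨2, -1, 0, 1, 0, -1, 0, -1⟩, ⟨2, 0, -1, 1, 0, -1, -1, 0⟩,
   ⟨1, -1, -1, 1, 1, -1, -1, -1⟩, ⟨2, 0, 0, 1, -1, 0, 1, -1⟩,
   ⟨1, -1, 0, 1, 0, 0, 1, -2⟩, ⟨2, 0, 0, 0, 2, 0, 0, 0⟩,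
   ⟨1, 0, -1, 1, 2, 0, 0, 1⟩, ⟨1, 1, -1, 0, 2, -1, 0, 0⟩,
   ⟨2, -1, 0, 0, 1, 1, 1, 0⟩, ⟨2, 0, 0, -1, 1, 0, 1, -1⟩,
   ⟨2, 0, 0, 0, 0, 0, -2, 0⟩, ⟨1, 1, 0, 0, 1, 0, -2, 1⟩,
   ⟨1, 0, 0, -1, 1, -1, -2, 0⟩, ⟨2, 0, -1, 1, 0, 1, -1, 0⟩,
   ⟨2, -1, -1, 0, 0, 0, -1, -1⟩, ⟨2, 0, 0, 0, 0, 0, 2, 0⟩,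
   ⟨2, -1, -1, 0, 0, 0, 1, 1⟩, ⟨2, 0, -1, 1, 0, -1, 1, 0⟩,
   ⟨1, 0, 0, -1, -1, 1, 2, 0⟩, ⟨1, 1, 0, 0, -1, 0, 2, -1⟩,
   ⟨2, 0, 0, 0, -2, 0, 0, 0⟩, ⟨2, 0, 0, -1, -1, 0, -1, 1⟩,
   ⟨2, -1, 0, 0, -1, -1, -1, 0⟩, ⟨1, 1, -1, 0, -2, 1, 0, 0⟩,
   ⟨1, 0, -1, 1, -2, 0, 0, -1⟩, ⟨0, -1, 2, -1, 0, 1, 0, -1⟩,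
   ⟨1, -1, 2, 0, 1, 0, 0, -1⟩, ⟨1, -1, 1, -1, 1, 1, 1, -1⟩,
   ⟨0, -1, 2, 0, -1, 1, -1, 0⟩, ⟨0, -1, 1, -1, -1, 2, 0, 0⟩,
   ⟨0, -1, 2, -1, 0, -1, 0, 1⟩, ⟨0, -1, 1, -1, 1, -2, 0, 0⟩,
   ⟨0, -1, 2, 0, 1, -1, 1, 0⟩, ⟨1, -1, 1, -1, -1, -1, -1, 1⟩,
   ⟨1, -1, 2, 0, -1, 0, 0, 1⟩, ⟨1, -2, 1, 0, 1, 0, 1, 0⟩,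
   ⟨1, -2, 0, 1, 1, -1, 0, 0⟩, ⟨1, -1, 0, 1, 2, 0, 1, 0⟩,
   ⟨1, -2, 1, 0, -1, 0, 1, 0⟩, ⟨1, -1, 1, 0, 0, 1, 2, 0⟩,
   ⟨1, -2, 1, 0, -1, 0, -1, 0⟩, ⟨1, -1, 1, 0, 0, -1, -2, 0⟩,
   ⟨1, -2, 1, 0, 1, 0, -1, 0⟩, ⟨1, -1, 0, 1, -2, 0, -1, 0⟩,
   ⟨1, -2, 0, 1, -1, 1, 0, 0⟩, ⟨1, -1, 1, -1, 1, 1, -1, 1⟩,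
   ⟨0, -1, 1, 0, 2, 0, -1, 1⟩, ⟨1, 0, 1, -1, 2, 0, 0, 1⟩,
   ⟨1, -2, 0, 0, 0, 1, -1, 1⟩, ⟨2, -1, 0, -1, 0, 1, 0, 1⟩,
   ⟨1, -1, 1, -1, 1, -1, -1, -1⟩, ⟨1, 0, 0, 0, 2, -1, -1, -1⟩,
   ⟨0, -1, 0, -1, 2, -1, 0, -1⟩, ⟨2, -1, 1, 0, 0, 0, -1, -1⟩,
   ⟨1, -2, 1, -1, 0, 0, 0, -1⟩, ⟨1, -1, 1, -1, -1, 1, 1, 1⟩,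
   ⟨1, -2, 1, -1, 0, 0, 0, 1⟩, ⟨2, -1, 1, 0, 0, 0, 1, 1⟩,
   ⟨0, -1, 0, -1, -2, 1, 0, 1⟩, ⟨1, 0, 0, 0, -2, 1, 1, 1⟩,
   ⟨1, -1, 1, -1, -1, -1, 1, -1⟩, ⟨2, -1, 0, -1, 0, -1, 0, -1⟩,
   ⟨1, -2, 0, 0, 0, -1, 1, -1⟩, ⟨1, 0, 1, -1, -2, 0, 0, -1⟩,
   ⟨0, -1, 1, 0, -2, 0, 1, -1⟩, ⟨1, 0, 1, -2, 1, 0, 1, 0⟩,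
   ⟨1, -1, 0, -1, 2, 0, 1, 0⟩, ⟨1, 0, 0, -1, 1, -1, 2, 0⟩,
   ⟨1, -1, 1, -2, 0, 1, 0, 0⟩, ⟨1, 0, 1, -2, -1, 0, 1, 0⟩,
   ⟨1, 0, 1, -2, -1, 0, -1, 0⟩, ⟨1, 0, 1, -2, 1, 0, -1, 0⟩,
   ⟨1, -1, 1, -2, 0, -1, 0, 0⟩, ⟨1, 0, 0, -1, -1, 1, -2, 0⟩,
   ⟨1, -1, 0, -1, -2, 0, -1, 0⟩, ⟨2, -1, 0, -1, 0, 1, 0, -1⟩,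
   ⟨2, -1, 0, 0, 1, 1, -1, 0⟩, ⟨2, -1, -1, -1, 1, 0, 0, 0⟩,
   ⟨1, -1, 0, 0, -1, 2, 0, -1⟩, ⟨1, -1, -1, -1, -1, 1, 1, -1⟩,
   ⟨2, -1, 0, -1, 0, -1, 0, 1⟩, ⟨1, -1, -1, -1, 1, -1, -1, 1⟩,
   ⟨1, -1, 0, 0, 1, -2, 0, 1⟩, ⟨2, -1, -1, -1, -1, 0, 0, 0⟩,
   ⟨2, -1, 0, 0, -1, -1, 1, 0⟩, ⟨-1, 1, 1, 1, 1, -1, 1, -1⟩,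
   ⟨0, 1, 0, 1, 0, -1, 2, -1⟩, ⟨-1, 1, 0, 1, 0, 0, 1, -2⟩,
   ⟨0, 1, 2, 0, 1, -1, 1, 0⟩, ⟨-1, 1, 2, 0, 1, 0, 0, -1⟩,
   ⟨-1, 1, 1, 1, -1, 1, -1, 1⟩, ⟨-1, 1, 2, 0, -1, 0, 0, 1⟩,
   ⟨0, 1, 2, 0, -1, 1, -1, 0⟩, ⟨-1, 1, 0, 1, 0, 0, -1, 2⟩,
   ⟨0, 1, 0, 1, 0, 1, -2, 1⟩, ⟨-1, 2, 1, 0, 1, 0, -1, 0⟩,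
   ⟨-1, 2, 1, 0, 1, 0, 1, 0⟩, ⟨-1, 2, 1, -1, 0, 0, 0, -1⟩,
   ⟨0, 1, 1, 0, 2, 0, -1, 1⟩, ⟨0, 1, 1, -1, 1, 0, -2, 0⟩,
   ⟨-1, 2, 1, 0, -1, 0, 1, 0⟩, ⟨0, 1, 1, -1, -1, 0, 2, 0⟩,
   ⟨0, 1, 1, 0, -2, 0, 1, -1⟩, ⟨-1, 2, 1, -1, 0, 0, 0, 1⟩,
   ⟨-1, 2, 1, 0, -1, 0, -1, 0⟩, ⟨0, 1, 0, 1, 2, -1, 0, 1⟩,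
   ⟨-1, 1, -1, 1, 1, -1, 1, 1⟩, ⟨-1, 2, 0, 1, 1, -1, 0, 0⟩,
   ⟨1, 0, 0, 0, 2, -1, 1, 1⟩, ⟨1, 1, 1, 0, 2, -1, 0, 0⟩,
   ⟨0, 1, 0, 1, 0, -1, -2, 1⟩, ⟨-1, 2, 0, 0, 0, -1, -1, 1⟩,
   ⟨-1, 1, 1, 0, 0, -1, -2, 0⟩, ⟨1, 1, -1, 1, 1, -1, -1, 1⟩,
   ⟨1, 0, 0, 1, 1, -1, -2, 0⟩, ⟨0, 1, 0, 1, 0, 1, 2, -1⟩,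
   ⟨1, 0, 0, 1, -1, 1, 2, 0⟩, ⟨1, 1, -1, 1, -1, 1, 1, -1⟩,
   ⟨-1, 1, 1, 0, 0, 1, 2, 0⟩, ⟨-1, 2, 0, 0, 0, 1, 1, -1⟩,
   ⟨0, 1, 0, 1, -2, 1, 0, -1⟩, ⟨1, 1, 1, 0, -2, 1, 0, 0⟩,
   ⟨1, 0, 0, 0, -2, 1, -1, -1⟩, ⟨-1, 2, 0, 1, -1, 1, 0, 0⟩,
   ⟨-1, 1, -1, 1, -1, 1, -1, -1⟩, ⟨1, 0, -1, 2, 1, 0, -1, 0⟩,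
   ⟨0, 1, -1, 2, 0, 0, -1, 1⟩, ⟨0, 1, -1, 1, 1, 0, -2, 0⟩,
   ⟨1, 0, -1, 2, 1, 0, 1, 0⟩, ⟨1, 0, -1, 1, 2, 0, 0, -1⟩,
   ⟨1, 0, -1, 2, -1, 0, 1, 0⟩, ⟨1, 0, -1, 1, -2, 0, 0, 1⟩,
   ⟨1, 0, -1, 2, -1, 0, -1, 0⟩, ⟨0, 1, -1, 1, -1, 0, 2, 0⟩,
   ⟨0, 1, -1, 2, 0, 0, 1, -1⟩, ⟨1, 1, -1, 1, 1, -1, 1, -1⟩,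
   ⟨1, 1, -2, 1, 0, 0, 1, 0⟩, ⟨0, 1, -2, 1, 0, -1, 0, -1⟩,
   ⟨1, 1, 0, 0, 1, 0, 2, -1⟩, ⟨0, 1, 0, 0, 1, -1, 1, -2⟩,
   ⟨1, 1, -1, 1, -1, 1, -1, 1⟩, ⟨0, 1, 0, 0, -1, 1, -1, 2⟩,
   ⟨1, 1, 0, 0, -1, 0, -2, 1⟩, ⟨0, 1, -2, 1, 0, 1, 0, 1⟩,
   ⟨1, 1, -2, 1, 0, 0, -1, 0⟩, ⟨-2, 0, 2, 0, 0, 0, 0, 0⟩,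
   ⟨-1, 0, 2, 0, 0, -1, 1, -1⟩, ⟨-1, 0, 2, 0, 0, 1, 1, -1⟩,
   ⟨-1, 0, 2, 0, 0, -1, -1, 1⟩, ⟨-1, 0, 2, 0, 0, 1, -1, 1⟩,
   ⟨-1, 0, 1, 0, 1, 0, -1, 2⟩, ⟨-2, 0, 1, 0, 1, -1, 0, 1⟩,
   ⟨-1, 1, 2, 0, 1, 0, 0, 1⟩, ⟨0, -1, 0, 0, 1, -1, -1, 2⟩,
   ⟨1, 0, 1, 0, 1, 0, -1, 2⟩, ⟨-1, 0, 1, 0, 1, -2, -1, 0⟩,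
   ⟨-1, 1, 0, 0, 1, -2, 0, -1⟩, ⟨-2, 0, 1, 0, 1, -1, 0, -1⟩,
   ⟨1, 0, 1, 0, 1, -2, -1, 0⟩, ⟨0, -1, 2, 0, 1, -1, -1, 0⟩,
   ⟨-1, 0, 1, 0, -1, 2, 1, 0⟩, ⟨0, -1, 2, 0, -1, 1, 1, 0⟩,
   ⟨1, 0, 1, 0, -1, 2, 1, 0⟩, ⟨-2, 0, 1, 0, -1, 1, 0, 1⟩,
   ⟨-1, 1, 0, 0, -1, 2, 0, 1⟩, ⟨-1, 0, 1, 0, -1, 0, 1, -2⟩,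
   ⟨1, 0, 1, 0, -1, 0, 1, -2⟩, ⟨0, -1, 0, 0, -1, 1, 1, -2⟩,
   ⟨-1, 1, 2, 0, -1, 0, 0, -1⟩, ⟨-2, 0, 1, 0, -1, 1, 0, -1⟩,
   ⟨-1, 1, 1, -1, 1, 1, 1, -1⟩, ⟨0, 0, 1, 0, 1, 1, 2, -1⟩,
   ⟨0, 1, 0, -1, 0, 1, 2, -1⟩, ⟨-1, 0, 2, -1, 1, 1, 0, 0⟩,
   ⟨-1, 1, 1, -2, 0, 1, 0, 0⟩, ⟨-1, 1, 1, -1, -1, 1, -1, -1⟩,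
   ⟨0, 1, 2, -1, 0, 1, 0, -1⟩, ⟨0, 0, 1, -2, -1, 1, 0, -1⟩,
   ⟨-1, 1, 1, 0, 0, 1, -2, 0⟩, ⟨-1, 0, 0, -1, -1, 1, -2, 0⟩,
   ⟨-1, 1, 1, -1, 1, -1, 1, 1⟩, ⟨-1, 0, 0, -1, 1, -1, 2, 0⟩,
   ⟨-1, 1, 1, 0, 0, -1, 2, 0⟩, ⟨0, 0, 1, -2, 1, -1, 0, 1⟩,
   ⟨0, 1, 2, -1, 0, -1, 0, 1⟩, ⟨-1, 1, 1, -1, -1, -1, -1, 1⟩,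
   ⟨-1, 1, 1, -2, 0, -1, 0, 0⟩, ⟨-1, 0, 2, -1, -1, -1, 0, 0⟩,
   ⟨0, 1, 0, -1, 0, -1, -2, 1⟩, ⟨0, 0, 1, 0, -1, -1, -2, 1⟩,
   ⟨0, -1, 0, 1, 2, -1, 0, -1⟩, ⟨0, 0, -1, 2, 1, -1, 0, -1⟩,
   ⟨-1, 0, -1, 1, 2, 0, 0, -1⟩, ⟨1, -1, 1, 1, 1, -1, 1, -1⟩,
   ⟨0, -1, 1, 0, 2, 0, 1, -1⟩, ⟨0, -1, 0, 1, 0, 1, -2, 1⟩,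
   ⟨-1, 0, 1, 1, 0, 0, -2, 1⟩, ⟨0, 0, 1, 0, 1, 1, -2, 1⟩,
   ⟨0, -1, -1, 2, 0, 0, -1, 1⟩, ⟨1, -1, -1, 1, 1, 1, -1, 1⟩,
   ⟨0, -1, 0, 1, 0, -1, 2, -1⟩, ⟨1, -1, -1, 1, -1, -1, 1, -1⟩,
   ⟨0, -1, -1, 2, 0, 0, 1, -1⟩, ⟨0, 0, 1, 0, -1, -1, 2, -1⟩,
   ⟨-1, 0, 1, 1, 0, 0, 2, -1⟩, ⟨0, -1, 0, 1, -2, 1, 0, 1⟩,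
   ⟨0, -1, 1, 0, -2, 0, -1, 1⟩, ⟨1, -1, 1, 1, -1, 1, -1, 1⟩,
   ⟨-1, 0, -1, 1, -2, 0, 0, 1⟩, ⟨0, 0, -1, 2, -1, 1, 0, 1⟩,
   ⟨0, 0, 0, 0, 2, 0, -2, 0⟩, ⟨-1, 1, 0, 1, 2, 0, -1, 0⟩,
   ⟨-1, 1, 0, -1, 2, 0, -1, 0⟩, ⟨1, -1, 0, 1, 2, 0, -1, 0⟩,
   ⟨1, -1, 0, -1, 2, 0, -1, 0⟩, ⟨0, 0, 0, 0, 2, 0, 2, 0⟩,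
   ⟨0, -1, -1, 1, 1, 0, 2, 0⟩, ⟨0, 1, -1, 1, 1, 0, 2, 0⟩,
   ⟨0, -1, 1, -1, 1, 0, 2, 0⟩, ⟨0, 1, 1, -1, 1, 0, 2, 0⟩,
   ⟨0, 0, 0, 0, -2, 0, -2, 0⟩, ⟨0, 1, 1, -1, -1, 0, -2, 0⟩,
   ⟨0, -1, 1, -1, -1, 0, -2, 0⟩, ⟨0, 1, -1, 1, -1, 0, -2, 0⟩,
   ⟨0, -1, -1, 1, -1, 0, -2, 0⟩, ⟨0, 0, 0, 0, -2, 0, 2, 0⟩,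
   ⟨1, -1, 0, -1, -2, 0, 1, 0⟩, ⟨1, -1, 0, 1, -2, 0, 1, 0⟩,
   ⟨-1, 1, 0, -1, -2, 0, 1, 0⟩, ⟨-1, 1, 0, 1, -2, 0, 1, 0⟩,
   ⟨0, 1, 0, -1, 2, -1, 0, -1⟩, ⟨0, 1, -1, 0, 2, 0, 1, -1⟩,
   ⟨-1, 1, -1, -1, 1, -1, 1, -1⟩, ⟨1, 0, 1, -1, 2, 0, 0, -1⟩,
   ⟨0, 0, 1, -2, 1, -1, 0, -1⟩, ⟨0, 1, 0, -1, 0, 1, -2, 1⟩,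
   ⟨-1, 1, 1, -1, 1, 1, -1, 1⟩, ⟨0, 1, 1, -2, 0, 0, -1, 1⟩,
   ⟨0, 0, -1, 0, 1, 1, -2, 1⟩, ⟨1, 0, -1, -1, 0, 0, -2, 1⟩,
   ⟨0, 1, 0, -1, 0, -1, 2, -1⟩, ⟨1, 0, -1, -1, 0, 0, 2, -1⟩,
   ⟨0, 0, -1, 0, -1, -1, 2, -1⟩, ⟨0, 1, 1, -2, 0, 0, 1, -1⟩,
   ⟨-1, 1, 1, -1, -1, -1, 1, -1⟩, ⟨0, 1, 0, -1, -2, 1, 0, 1⟩,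
   ⟨0, 0, 1, -2, -1, 1, 0, 1⟩, ⟨1, 0, 1, -1, -2, 0, 0, 1⟩,
   ⟨-1, 1, -1, -1, -1, 1, -1, 1⟩, ⟨0, 1, -1, 0, -2, 0, -1, 1⟩,
   ⟨1, -1, -1, 1, 1, 1, 1, -1⟩, ⟨1, -1, -1, 2, 0, 1, 0, 0⟩,
   ⟨1, 0, -2, 1, 1, 1, 0, 0⟩, ⟨0, -1, 0, 1, 0, 1, 2, -1⟩,
   ⟨0, 0, -1, 0, 1, 1, 2, -1⟩, ⟨1, -1, -1, 1, -1, 1, -1, -1⟩,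
   ⟨1, 0, 0, 1, -1, 1, -2, 0⟩, ⟨1, -1, -1, 0, 0, 1, -2, 0⟩,
   ⟨0, 0, -1, 2, -1, 1, 0, -1⟩, ⟨0, -1, -2, 1, 0, 1, 0, -1⟩,
   ⟨1, -1, -1, 1, 1, -1, 1, 1⟩, ⟨0, -1, -2, 1, 0, -1, 0, 1⟩,
   ⟨0, 0, -1, 2, 1, -1, 0, 1⟩, ⟨1, -1, -1, 0, 0, -1, 2, 0⟩,
   ⟨1, 0, 0, 1, 1, -1, 2, 0⟩, ⟨1, -1, -1, 1, -1, -1, -1, 1⟩,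
   ⟨0, 0, -1, 0, -1, -1, -2, 1⟩, ⟨0, -1, 0, 1, 0, -1, -2, 1⟩,
   ⟨1, 0, -2, 1, -1, -1, 0, 0⟩, ⟨1, -1, -1, 2, 0, -1, 0, 0⟩,
   ⟨1, 0, -1, 0, 1, 0, -1, 2⟩, ⟨-1, 0, -1, 0, 1, 0, -1, 2⟩,
   ⟨0, 1, 0, 0, 1, -1, -1, 2⟩, ⟨1, -1, -2, 0, 1, 0, 0, 1⟩,
   ⟨2, 0, -1, 0, 1, -1, 0, 1⟩, ⟨1, 0, -1, 0, 1, -2, -1, 0⟩,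
   ⟨0, 1, -2, 0, 1, -1, -1, 0⟩, ⟨-1, 0, -1, 0, 1, -2, -1, 0⟩,
   ⟨2, 0, -1, 0, 1, -1, 0, -1⟩, ⟨1, -1, 0, 0, 1, -2, 0, -1⟩,
   ⟨1, 0, -1, 0, -1, 2, 1, 0⟩, ⟨1, -1, 0, 0, -1, 2, 0, 1⟩,
   ⟨2, 0, -1, 0, -1, 1, 0, 1⟩, ⟨-1, 0, -1, 0, -1, 2, 1, 0⟩,
   ⟨0, 1, -2, 0, -1, 1, 1, 0⟩, ⟨1, 0, -1, 0, -1, 0, 1, -2⟩,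
   ⟨2, 0, -1, 0, -1, 1, 0, -1⟩, ⟨1, -1, -2, 0, -1, 0, 0, -1⟩,
   ⟨0, 1, 0, 0, -1, 1, 1, -2⟩, ⟨-1, 0, -1, 0, -1, 0, 1, -2⟩,
   ⟨2, 0, -2, 0, 0, 0, 0, 0⟩, ⟨1, 0, -2, 0, 0, 1, -1, 1⟩,
   ⟨1, 0, -2, 0, 0, -1, -1, 1⟩, ⟨1, 0, -2, 0, 0, 1, 1, -1⟩,
   ⟨1, 0, -2, 0, 0, -1, 1, -1⟩, ⟨-1, -1, 1, -1, 1, -1, 1, -1⟩,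
   ⟨0, -1, 0, 0, 1, -1, 1, -2⟩, ⟨-1, -1, 0, 0, 1, 0, 2, -1⟩,
   ⟨0, -1, 2, -1, 0, -1, 0, -1⟩, ⟨-1, -1, 2, -1, 0, 0, 1, 0⟩,
   ⟨-1, -1, 1, -1, -1, 1, -1, 1⟩, ⟨-1, -1, 2, -1, 0, 0, -1, 0⟩,
   ⟨0, -1, 2, -1, 0, 1, 0, 1⟩, ⟨-1, -1, 0, 0, -1, 0, -2, 1⟩,
   ⟨0, -1, 0, 0, -1, 1, -1, 2⟩, ⟨-1, 0, 1, -2, 1, 0, -1, 0⟩,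
   ⟨-1, 0, 1, -1, 2, 0, 0, -1⟩, ⟨-1, 0, 1, -2, 1, 0, 1, 0⟩,
   ⟨0, -1, 1, -1, 1, 0, -2, 0⟩, ⟨0, -1, 1, -2, 0, 0, -1, 1⟩,
   ⟨-1, 0, 1, -2, -1, 0, 1, 0⟩, ⟨0, -1, 1, -2, 0, 0, 1, -1⟩,
   ⟨0, -1, 1, -1, -1, 0, 2, 0⟩, ⟨-1, 0, 1, -2, -1, 0, -1, 0⟩,
   ⟨-1, 0, 1, -1, -2, 0, 0, 1⟩, ⟨0, -1, 0, -1, 2, -1, 0, 1⟩,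
   ⟨-1, -1, -1, 0, 2, -1, 0, 0⟩, ⟨-1, 0, 0, 0, 2, -1, 1, 1⟩,
   ⟨1, -2, 0, -1, 1, -1, 0, 0⟩, ⟨1, -1, 1, -1, 1, -1, 1, 1⟩,
   ⟨0, -1, 0, -1, 0, -1, -2, 1⟩, ⟨-1, 0, 0, -1, 1, -1, -2, 0⟩,
   ⟨-1, -1, 1, -1, 1, -1, -1, 1⟩, ⟨1, -1, -1, 0, 0, -1, -2, 0⟩,
   ⟨1, -2, 0, 0, 0, -1, -1, 1⟩, ⟨0, -1, 0, -1, 0, 1, 2, -1⟩,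
   ⟨1, -2, 0, 0, 0, 1, 1, -1⟩, ⟨1, -1, -1, 0, 0, 1, 2, 0⟩,
   ⟨-1, -1, 1, -1, -1, 1, 1, -1⟩, ⟨-1, 0, 0, -1, -1, 1, 2, 0⟩,
   ⟨0, -1, 0, -1, -2, 1, 0, -1⟩, ⟨1, -1, 1, -1, -1, 1, -1, -1⟩,
   ⟨1, -2, 0, -1, -1, 1, 0, 0⟩, ⟨-1, 0, 0, 0, -2, 1, -1, -1⟩,
   ⟨-1, -1, -1, 0, -2, 1, 0, 0⟩, ⟨1, -2, -1, 0, 1, 0, -1, 0⟩,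
   ⟨0, -1, -1, 1, 1, 0, -2, 0⟩, ⟨0, -1, -1, 0, 2, 0, -1, 1⟩,
   ⟨1, -2, -1, 1, 0, 0, 0, -1⟩, ⟨1, -2, -1, 0, 1, 0, 1, 0⟩,
   ⟨1, -2, -1, 0, -1, 0, 1, 0⟩, ⟨1, -2, -1, 0, -1, 0, -1, 0⟩,
   ⟨1, -2, -1, 1, 0, 0, 0, 1⟩, ⟨0, -1, -1, 0, -2, 0, 1, -1⟩,
   ⟨0, -1, -1, 1, -1, 0, 2, 0⟩, ⟨1, -1, -1, -1, 1, -1, 1, -1⟩,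
   ⟨1, -1, -2, 0, 1, 0, 0, -1⟩, ⟨0, -1, -2, 0, 1, -1, 1, 0⟩,
   ⟨1, -1, 0, -1, 0, 0, 1, -2⟩, ⟨0, -1, 0, -1, 0, -1, 2, -1⟩,
   ⟨1, -1, -1, -1, -1, 1, -1, 1⟩, ⟨0, -1, 0, -1, 0, 1, -2, 1⟩,
   ⟨1, -1, 0, -1, 0, 0, -1, 2⟩, ⟨0, -1, -2, 0, -1, 1, -1, 0⟩,
   ⟨1, -1, -2, 0, -1, 0, 0, 1⟩, ⟨-2, 1, 0, 1, 0, 1, 0, -1⟩,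
   ⟨-1, 1, 1, 1, -1, 1, 1, -1⟩, ⟨-1, 1, 0, 0, -1, 2, 0, -1⟩,
   ⟨-2, 1, 1, 1, 1, 0, 0, 0⟩, ⟨-2, 1, 0, 0, 1, 1, -1, 0⟩,
   ⟨-2, 1, 0, 1, 0, -1, 0, 1⟩, ⟨-2, 1, 0, 0, -1, -1, 1, 0⟩,
   ⟨-2, 1, 1, 1, -1, 0, 0, 0⟩, ⟨-1, 1, 0, 0, 1, -2, 0, 1⟩,
   ⟨-1, 1, 1, 1, 1, -1, -1, 1⟩, ⟨-1, 0, -1, 2, 1, 0, 1, 0⟩,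
   ⟨-1, 0, -1, 2, -1, 0, 1, 0⟩, ⟨-1, 1, -1, 2, 0, 1, 0, 0⟩,
   ⟨-1, 0, 0, 1, 1, -1, 2, 0⟩, ⟨-1, 1, 0, 1, 2, 0, 1, 0⟩,
   ⟨-1, 0, -1, 2, -1, 0, -1, 0⟩, ⟨-1, 1, 0, 1, -2, 0, -1, 0⟩,
   ⟨-1, 0, 0, 1, -1, 1, -2, 0⟩, ⟨-1, 1, -1, 2, 0, -1, 0, 0⟩,
   ⟨-1, 0, -1, 2, 1, 0, -1, 0⟩, ⟨-1, 1, -1, 1, 1, 1, -1, 1⟩,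
   ⟨-2, 1, 0, 1, 0, 1, 0, 1⟩, ⟨-1, 2, 0, 0, 0, 1, -1, 1⟩,
   ⟨-1, 0, -1, 1, 2, 0, 0, 1⟩, ⟨0, 1, -1, 0, 2, 0, -1, 1⟩,
   ⟨-1, 1, -1, 1, 1, -1, -1, -1⟩, ⟨-1, 2, -1, 1, 0, 0, 0, -1⟩,
   ⟨-2, 1, -1, 0, 0, 0, -1, -1⟩, ⟨0, 1, 0, 1, 2, -1, 0, -1⟩,
   ⟨-1, 0, 0, 0, 2, -1, -1, -1⟩, ⟨-1, 1, -1, 1, -1, 1, 1, 1⟩,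
   ⟨-1, 0, 0, 0, -2, 1, 1, 1⟩, ⟨0, 1, 0, 1, -2, 1, 0, 1⟩,
   ⟨-2, 1, -1, 0, 0, 0, 1, 1⟩, ⟨-1, 2, -1, 1, 0, 0, 0, 1⟩,
   ⟨-1, 1, -1, 1, -1, -1, 1, -1⟩, ⟨0, 1, -1, 0, -2, 0, 1, -1⟩,
   ⟨-1, 0, -1, 1, -2, 0, 0, -1⟩, ⟨-1, 2, 0, 0, 0, -1, 1, -1⟩,
   ⟨-2, 1, 0, 1, 0, -1, 0, -1⟩, ⟨-1, 2, -1, 0, 1, 0, 1, 0⟩,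
   ⟨-1, 1, -1, 0, 0, 1, 2, 0⟩, ⟨-1, 2, -1, 0, -1, 0, 1, 0⟩,
   ⟨-1, 1, 0, -1, 2, 0, 1, 0⟩, ⟨-1, 2, 0, -1, 1, -1, 0, 0⟩,
   ⟨-1, 2, -1, 0, -1, 0, -1, 0⟩, ⟨-1, 2, 0, -1, -1, 1, 0, 0⟩,
   ⟨-1, 1, 0, -1, -2, 0, -1, 0⟩, ⟨-1, 2, -1, 0, 1, 0, -1, 0⟩,
   ⟨-1, 1, -1, 0, 0, -1, -2, 0⟩, ⟨0, 1, -2, 1, 0, 1, 0, -1⟩,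
   ⟨0, 1, -1, 1, -1, 2, 0, 0⟩, ⟨0, 1, -2, 0, -1, 1, -1, 0⟩,
   ⟨-1, 1, -1, 1, 1, 1, 1, -1⟩, ⟨-1, 1, -2, 0, 1, 0, 0, -1⟩,
   ⟨0, 1, -2, 1, 0, -1, 0, 1⟩, ⟨-1, 1, -2, 0, -1, 0, 0, 1⟩,
   ⟨-1, 1, -1, 1, -1, -1, -1, 1⟩, ⟨0, 1, -2, 0, 1, -1, 1, 0⟩,
   ⟨0, 1, -1, 1, 1, -2, 0, 0⟩, ⟨-2, 0, 0, 0, 2, 0, 0, 0⟩,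
   ⟨-2, 0, 0, 1, 1, 0, 1, -1⟩, ⟨-2, 1, 0, 0, 1, 1, 1, 0⟩,
   ⟨-1, -1, 1, 0, 2, -1, 0, 0⟩, ⟨-1, 0, 1, -1, 2, 0, 0, 1⟩,
   ⟨-2, 0, 0, 0, 0, 0, -2, 0⟩, ⟨-2, 1, 1, 0, 0, 0, -1, -1⟩,
   ⟨-2, 0, 1, -1, 0, 1, -1, 0⟩, ⟨-1, 0, 0, 1, 1, -1, -2, 0⟩,
   ⟨-1, -1, 0, 0, 1, 0, -2, 1⟩, ⟨-2, 0, 0, 0, 0, 0, 2, 0⟩,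
   ⟨-1, -1, 0, 0, -1, 0, 2, -1⟩, ⟨-1, 0, 0, 1, -1, 1, 2, 0⟩,
   ⟨-2, 0, 1, -1, 0, -1, 1, 0⟩, ⟨-2, 1, 1, 0, 0, 0, 1, 1⟩,
   ⟨-2, 0, 0, 0, -2, 0, 0, 0⟩, ⟨-1, 0, 1, -1, -2, 0, 0, -1⟩,
   ⟨-1, -1, 1, 0, -2, 1, 0, 0⟩, ⟨-2, 1, 0, 0, -1, -1, -1, 0⟩,
   ⟨-2, 0, 0, 1, -1, 0, -1, 1⟩, ⟨-2, 1, 0, -1, 0, 1, 0, 1⟩,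
   ⟨-2, 0, 1, -1, 0, 1, 1, 0⟩, ⟨-1, 1, 1, -1, -1, 1, 1, 1⟩,
   ⟨-2, 0, 0, -1, 1, 0, -1, 1⟩, ⟨-1, 1, 0, -1, 0, 0, -1, 2⟩,
   ⟨-2, 1, 0, -1, 0, -1, 0, -1⟩, ⟨-1, 1, 0, -1, 0, 0, 1, -2⟩,
   ⟨-2, 0, 0, -1, -1, 0, 1, -1⟩, ⟨-1, 1, 1, -1, 1, -1, -1, -1⟩,
   ⟨-2, 0, 1, -1, 0, -1, -1, 0⟩, ⟨-1, -1, -1, 1, 1, -1, -1, 1⟩,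
   ⟨-2, 0, -1, 1, 0, -1, -1, 0⟩, ⟨-2, 0, 0, 1, 1, 0, -1, 1⟩,
   ⟨0, -1, -1, 1, 1, -2, 0, 0⟩, ⟨0, -1, 0, 1, 2, -1, 0, 1⟩,
   ⟨-1, -1, -1, 1, -1, 1, 1, -1⟩, ⟨0, -1, 0, 1, -2, 1, 0, -1⟩,
   ⟨0, -1, -1, 1, -1, 2, 0, 0⟩, ⟨-2, 0, 0, 1, -1, 0, 1, -1⟩,
   ⟨-2, 0, -1, 1, 0, 1, 1, 0⟩, ⟨-1, 0, -1, 0, 1, 0, 1, -2⟩,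
   ⟨0, 0, -1, 1, 0, 1, 1, -2⟩, ⟨-1, 0, -2, 0, 0, 1, 1, -1⟩,
   ⟨-1, 0, 1, 0, 1, 0, 1, -2⟩, ⟨-2, 0, 0, -1, 1, 0, 1, -1⟩,
   ⟨-1, 0, -1, 0, -1, 2, -1, 0⟩, ⟨-1, 0, 1, 0, -1, 2, -1, 0⟩,
   ⟨0, 0, 0, -1, -1, 2, -1, 1⟩, ⟨-2, 0, -1, 1, 0, 1, -1, 0⟩,
   ⟨-1, 0, -2, 0, 0, 1, -1, 1⟩, ⟨-1, 0, -1, 0, 1, -2, 1, 0⟩,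
   ⟨-1, 0, -2, 0, 0, -1, 1, -1⟩, ⟨-2, 0, -1, 1, 0, -1, 1, 0⟩,
   ⟨0, 0, 0, -1, 1, -2, 1, -1⟩, ⟨-1, 0, 1, 0, 1, -2, 1, 0⟩,
   ⟨-1, 0, -1, 0, -1, 0, -1, 2⟩, ⟨-2, 0, 0, -1, -1, 0, -1, 1⟩,
   ⟨-1, 0, 1, 0, -1, 0, -1, 2⟩, ⟨-1, 0, -2, 0, 0, -1, -1, 1⟩,
   ⟨0, 0, -1, 1, 0, -1, -1, 2⟩, ⟨-1, 1, -1, -1, 1, -1, -1, 1⟩,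
   ⟨-2, 1, -1, -1, 1, 0, 0, 0⟩, ⟨-2, 1, 0, -1, 0, -1, 0, 1⟩,
   ⟨0, 0, -1, -1, 2, -1, -1, 0⟩, ⟨0, 0, 0, -1, 1, -2, -1, 1⟩,
   ⟨-1, 1, -1, -1, -1, 1, 1, -1⟩, ⟨0, 0, 0, -1, -1, 2, 1, -1⟩,
   ⟨0, 0, -1, -1, -2, 1, 1, 0⟩, ⟨-2, 1, 0, -1, 0, 1, 0, -1⟩,
   ⟨-2, 1, -1, -1, -1, 0, 0, 0⟩, ⟨0, -1, -2, 1, 0, 1, 0, 1⟩,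
   ⟨-1, -1, -1, 1, -1, 1, -1, 1⟩, ⟨0, 0, -1, 1, 0, 1, -1, 2⟩,
   ⟨-1, -1, -2, 1, 0, 0, 1, 0⟩, ⟨0, 0, -2, 1, 1, 0, 1, 1⟩,
   ⟨0, -1, -2, 1, 0, -1, 0, -1⟩, ⟨0, 0, -2, 1, -1, 0, -1, -1⟩,
   ⟨-1, -1, -2, 1, 0, 0, -1, 0⟩, ⟨0, 0, -1, 1, 0, -1, 1, -2⟩,
   ⟨-1, -1, -1, 1, 1, -1, 1, -1⟩, ⟨0, 0, -2, 0, 2, 0, 0, 0⟩,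
   ⟨-1, 0, -2, 1, 1, 1, 0, 0⟩, ⟨-1, 1, -2, 0, 1, 0, 0, 1⟩,
   ⟨0, -1, -1, 0, 2, 0, 1, -1⟩, ⟨0, 0, -1, -1, 2, -1, 1, 0⟩,
   ⟨0, 0, -2, 0, 0, 0, -2, 0⟩, ⟨-1, 1, -1, 0, 0, 1, -2, 0⟩,
   ⟨-1, 0, -1, -1, 0, 0, -2, 1⟩, ⟨0, 0, -2, 1, 1, 0, -1, -1⟩,
   ⟨0, -1, -2, 0, 1, -1, -1, 0⟩, ⟨0, 0, -2, 0, 0, 0, 2, 0⟩,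
   ⟨0, -1, -2, 0, -1, 1, 1, 0⟩, ⟨0, 0, -2, 1, -1, 0, 1, 1⟩,
   ⟨-1, 0, -1, -1, 0, 0, 2, -1⟩, ⟨-1, 1, -1, 0, 0, -1, 2, 0⟩,
   ⟨0, 0, -2, 0, -2, 0, 0, 0⟩, ⟨0, 0, -1, -1, -2, 1, -1, 0⟩,
   ⟨0, -1, -1, 0, -2, 0, -1, 1⟩, ⟨-1, 1, -2, 0, -1, 0, 0, -1⟩,
   ⟨-1, 0, -2, 1, -1, -1, 0, 0⟩, ⟨-2, 0, -2, 0, 0, 0, 0, 0⟩,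
   ⟨-2, 0, -1, 0, -1, 1, 0, -1⟩, ⟨-2, 0, -1, 0, -1, 1, 0, 1⟩,
   ⟨-2, 0, -1, 0, 1, -1, 0, -1⟩, ⟨-2, 0, -1, 0, 1, -1, 0, 1⟩]

def UtL : List Q8 :=
  [⟨0, -2, 0, 0, 0, 0, 0, 0⟩, ⟨0, -1, 0, -1, 0, -1, 0, -1⟩,
   ⟨0, -1, 0, -1, 0, -1, 0, 1⟩, ⟨0, -1, 0, -1, 0, 1, 0, -1⟩,
   ⟨0, -1, 0, -1, 0, 1, 0, 1⟩, ⟨0, -1, 1, 0, 0, 0, -1, -1⟩,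
   ⟨0, -1, 1, 0, 0, 0, 1, 1⟩, ⟨0, -1, -1, -1, 1, 0, 0, 0⟩,
   ⟨0, -1, -1, -1, -1, 0, 0, 0⟩, ⟨0, -1, 0, 0, -1, -1, 1, 0⟩,
   ⟨0, -1, 0, 0, -1, -1, -1, 0⟩, ⟨0, -1, 0, 0, 1, 1, 1, 0⟩,
   ⟨0, -1, 0, 0, 1, 1, -1, 0⟩, ⟨0, -1, 1, 1, 1, 0, 0, 0⟩,
   ⟨0, -1, 1, 1, -1, 0, 0, 0⟩, ⟨0, -1, -1, 0, 0, 0, -1, -1⟩,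
   ⟨0, -1, -1, 0, 0, 0, 1, 1⟩, ⟨0, -1, 0, 1, 0, -1, 0, -1⟩,
   ⟨0, -1, 0, 1, 0, -1, 0, 1⟩, ⟨0, -1, 0, 1, 0, 1, 0, -1⟩,
   ⟨0, -1, 0, 1, 0, 1, 0, 1⟩, ⟨1, 0, 0, -1, -1, -1, 0, 0⟩,
   ⟨1, 0, 0, -1, 1, 1, 0, 0⟩, ⟨1, 0, -1, -1, 0, 0, 0, -1⟩,
   ⟨1, 0, -1, -1, 0, 0, 0, 1⟩, ⟨1, 0, 0, 0, 0, -1, -1, -1⟩,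
   ⟨1, 0, 0, 0, 0, -1, 1, 1⟩, ⟨1, 0, 0, 0, 0, 1, -1, -1⟩,
   ⟨1, 0, 0, 0, 0, 1, 1, 1⟩, ⟨1, 0, 1, 1, 0, 0, 0, -1⟩,
   ⟨1, 0, 1, 1, 0, 0, 0, 1⟩, ⟨1, 0, 0, 1, -1, -1, 0, 0⟩,
   ⟨1, 0, 0, 1, 1, 1, 0, 0⟩, ⟨-1, -1, 0, -1, 0, 0, 1, 0⟩,
   ⟨-1, -1, 0, -1, 0, 0, -1, 0⟩, ⟨-1, -1, 1, 0, 0, -1, 0, 0⟩,
   ⟨-1, -1, 1, 0, 0, 1, 0, 0⟩, ⟨-1, -1, 0, 0, 1, 0, 0, -1⟩,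
   ⟨-1, -1, 0, 0, 1, 0, 0, 1⟩, ⟨-1, -1, 0, 0, -1, 0, 0, -1⟩,
   ⟨-1, -1, 0, 0, -1, 0, 0, 1⟩, ⟨-1, -1, -1, 0, 0, -1, 0, 0⟩,
   ⟨-1, -1, -1, 0, 0, 1, 0, 0⟩, ⟨-1, -1, 0, 1, 0, 0, 1, 0⟩,
   ⟨-1, -1, 0, 1, 0, 0, -1, 0⟩, ⟨0, 0, 0, -2, 0, 0, 0, 0⟩,
   ⟨0, 0, 0, -1, 1, 0, -1, -1⟩, ⟨0, 0, 0, -1, 1, 0, 1, 1⟩,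
   ⟨0, 0, 0, -1, -1, 0, -1, -1⟩, ⟨0, 0, 0, -1, -1, 0, 1, 1⟩,
   ⟨0, 0, 1, 0, -1, -1, 0, -1⟩, ⟨0, 0, 1, 0, -1, -1, 0, 1⟩,
   ⟨0, 0, 1, 0, 1, 1, 0, -1⟩, ⟨0, 0, 1, 0, 1, 1, 0, 1⟩,
   ⟨0, 0, -1, -1, 0, -1, 1, 0⟩, ⟨0, 0, -1, -1, 0, -1, -1, 0⟩,
   ⟨0, 0, -1, -1, 0, 1, 1, 0⟩, ⟨0, 0, -1, -1, 0, 1, -1, 0⟩,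
   ⟨0, 0, 0, 0, 0, -2, 0, 0⟩, ⟨0, 0, 0, 0, 0, 0, 0, -2⟩,
   ⟨0, 0, 0, 0, 0, 0, 0, 2⟩, ⟨0, 0, 0, 0, 0, 2, 0, 0⟩,
   ⟨0, 0, 1, 1, 0, -1, 1, 0⟩, ⟨0, 0, 1, 1, 0, -1, -1, 0⟩,
   ⟨0, 0, 1, 1, 0, 1, 1, 0⟩, ⟨0, 0, 1, 1, 0, 1, -1, 0⟩,
   ⟨0, 0, -1, 0, -1, -1, 0, -1⟩, ⟨0, 0, -1, 0, -1, -1, 0, 1⟩,
   ⟨0, 0, -1, 0, 1, 1, 0, -1⟩, ⟨0, 0, -1, 0, 1, 1, 0, 1⟩,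
   ⟨0, 0, 0, 1, 1, 0, -1, -1⟩, ⟨0, 0, 0, 1, 1, 0, 1, 1⟩,
   ⟨0, 0, 0, 1, -1, 0, -1, -1⟩, ⟨0, 0, 0, 1, -1, 0, 1, 1⟩,
   ⟨0, 0, 0, 2, 0, 0, 0, 0⟩, ⟨1, 1, 0, -1, 0, 0, 1, 0⟩,
   ⟨1, 1, 0, -1, 0, 0, -1, 0⟩, ⟨1, 1, 1, 0, 0, -1, 0, 0⟩,
   ⟨1, 1, 1, 0, 0, 1, 0, 0⟩, ⟨1, 1, 0, 0, 1, 0, 0, -1⟩,
   ⟨1, 1, 0, 0, 1, 0, 0, 1⟩, ⟨1, 1, 0, 0, -1, 0, 0, -1⟩,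
   ⟨1, 1, 0, 0, -1, 0, 0, 1⟩, ⟨1, 1, -1, 0, 0, -1, 0, 0⟩,
   ⟨1, 1, -1, 0, 0, 1, 0, 0⟩, ⟨1, 1, 0, 1, 0, 0, 1, 0⟩,
   ⟨1, 1, 0, 1, 0, 0, -1, 0⟩, ⟨-1, 0, 0, -1, -1, -1, 0, 0⟩,
   ⟨-1, 0, 0, -1, 1, 1, 0, 0⟩, ⟨-1, 0, -1, -1, 0, 0, 0, -1⟩,
   ⟨-1, 0, -1, -1, 0, 0, 0, 1⟩, ⟨-1, 0, 0, 0, 0, -1, -1, -1⟩,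
   ⟨-1, 0, 0, 0, 0, -1, 1, 1⟩, ⟨-1, 0, 0, 0, 0, 1, -1, -1⟩,
   ⟨-1, 0, 0, 0, 0, 1, 1, 1⟩, ⟨-1, 0, 1, 1, 0, 0, 0, -1⟩,
   ⟨-1, 0, 1, 1, 0, 0, 0, 1⟩, ⟨-1, 0, 0, 1, -1, -1, 0, 0⟩,
   ⟨-1, 0, 0, 1, 1, 1, 0, 0⟩, ⟨0, 1, 0, -1, 0, -1, 0, -1⟩,
   ⟨0, 1, 0, -1, 0, -1, 0, 1⟩, ⟨0, 1, 0, -1, 0, 1, 0, -1⟩,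
   ⟨0, 1, 0, -1, 0, 1, 0, 1⟩, ⟨0, 1, 1, 0, 0, 0, -1, -1⟩,
   ⟨0, 1, 1, 0, 0, 0, 1, 1⟩, ⟨0, 1, -1, -1, 1, 0, 0, 0⟩,
   ⟨0, 1, -1, -1, -1, 0, 0, 0⟩, ⟨0, 1, 0, 0, -1, -1, 1, 0⟩,
   ⟨0, 1, 0, 0, -1, -1, -1, 0⟩, ⟨0, 1, 0, 0, 1, 1, 1, 0⟩,
   ⟨0, 1, 0, 0, 1, 1, -1, 0⟩, ⟨0, 1, 1, 1, 1, 0, 0, 0⟩,
   ⟨0, 1, 1, 1, -1, 0, 0, 0⟩, ⟨0, 1, -1, 0, 0, 0, -1, -1⟩,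
   ⟨0, 1, -1, 0, 0, 0, 1, 1⟩, ⟨0, 1, 0, 1, 0, -1, 0, -1⟩,
   ⟨0, 1, 0, 1, 0, -1, 0, 1⟩, ⟨0, 1, 0, 1, 0, 1, 0, -1⟩,
   ⟨0, 1, 0, 1, 0, 1, 0, 1⟩, ⟨0, 2, 0, 0, 0, 0, 0, 0⟩]

def UsL : List Q8 :=
  [⟨-2, 2, 0, 0, 0, 0, 0, 0⟩, ⟨-1, 1, -1, 1, -1, 1, -1, 1⟩,
   ⟨-1, 1, -1, 1, -1, 1, 1, -1⟩, ⟨-1, 1, -1, 1, 1, -1, -1, 1⟩,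
   ⟨-1, 1, -1, 1, 1, -1, 1, -1⟩, ⟨-1, 1, -2, 1, 0, 0, 1, 0⟩,
   ⟨-1, 1, -2, 1, 0, 0, -1, 0⟩, ⟨-1, 1, 1, 0, -2, 1, 0, 0⟩,
   ⟨-1, 1, 1, 0, 2, -1, 0, 0⟩, ⟨-1, 1, 0, 0, 1, 0, -2, 1⟩,
   ⟨-1, 1, 0, 0, 1, 0, 2, -1⟩, ⟨-1, 1, 0, 0, -1, 0, -2, 1⟩,
   ⟨-1, 1, 0, 0, -1, 0, 2, -1⟩, ⟨-1, 1, -1, 0, -2, 1, 0, 0⟩,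
   ⟨-1, 1, -1, 0, 2, -1, 0, 0⟩, ⟨-1, 1, 2, -1, 0, 0, 1, 0⟩,
   ⟨-1, 1, 2, -1, 0, 0, -1, 0⟩, ⟨-1, 1, 1, -1, -1, 1, -1, 1⟩,
   ⟨-1, 1, 1, -1, -1, 1, 1, -1⟩, ⟨-1, 1, 1, -1, 1, -1, -1, 1⟩,
   ⟨-1, 1, 1, -1, 1, -1, 1, -1⟩, ⟨-2, 1, -1, 1, 1, 0, 0, 0⟩,
   ⟨-2, 1, -1, 1, -1, 0, 0, 0⟩, ⟨-2, 1, 1, 0, 0, 0, -1, 1⟩,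
   ⟨-2, 1, 1, 0, 0, 0, 1, -1⟩, ⟨-2, 1, 0, 0, -1, 1, 1, 0⟩,
   ⟨-2, 1, 0, 0, -1, 1, -1, 0⟩, ⟨-2, 1, 0, 0, 1, -1, 1, 0⟩,
   ⟨-2, 1, 0, 0, 1, -1, -1, 0⟩, ⟨-2, 1, -1, 0, 0, 0, -1, 1⟩,
   ⟨-2, 1, -1, 0, 0, 0, 1, -1⟩, ⟨-2, 1, 1, -1, 1, 0, 0, 0⟩,
   ⟨-2, 1, 1, -1, -1, 0, 0, 0⟩, ⟨1, 0, -1, 1, 0, 0, -2, 1⟩,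
   ⟨1, 0, -1, 1, 0, 0, 2, -1⟩, ⟨1, 0, -2, 1, -1, 1, 0, 0⟩,
   ⟨1, 0, -2, 1, 1, -1, 0, 0⟩, ⟨1, 0, 0, 0, -2, 1, -1, 1⟩,
   ⟨1, 0, 0, 0, -2, 1, 1, -1⟩, ⟨1, 0, 0, 0, 2, -1, -1, 1⟩,
   ⟨1, 0, 0, 0, 2, -1, 1, -1⟩, ⟨1, 0, 2, -1, -1, 1, 0, 0⟩,
   ⟨1, 0, 2, -1, 1, -1, 0, 0⟩, ⟨1, 0, 1, -1, 0, 0, -2, 1⟩,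
   ⟨1, 0, 1, -1, 0, 0, 2, -1⟩, ⟨0, 0, -2, 2, 0, 0, 0, 0⟩,
   ⟨0, 0, -1, 1, -2, 1, 1, 0⟩, ⟨0, 0, -1, 1, -2, 1, -1, 0⟩,
   ⟨0, 0, -1, 1, 2, -1, 1, 0⟩, ⟨0, 0, -1, 1, 2, -1, -1, 0⟩,
   ⟨0, 0, -2, 1, 1, 0, -1, 1⟩, ⟨0, 0, -2, 1, 1, 0, 1, -1⟩,
   ⟨0, 0, -2, 1, -1, 0, -1, 1⟩, ⟨0, 0, -2, 1, -1, 0, 1, -1⟩,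
   ⟨0, 0, 1, 0, -1, 1, -2, 1⟩, ⟨0, 0, 1, 0, -1, 1, 2, -1⟩,
   ⟨0, 0, 1, 0, 1, -1, -2, 1⟩, ⟨0, 0, 1, 0, 1, -1, 2, -1⟩,
   ⟨0, 0, 0, 0, -2, 2, 0, 0⟩, ⟨0, 0, 0, 0, 0, 0, -2, 2⟩,
   ⟨0, 0, 0, 0, 0, 0, 2, -2⟩, ⟨0, 0, 0, 0, 2, -2, 0, 0⟩,
   ⟨0, 0, -1, 0, -1, 1, -2, 1⟩, ⟨0, 0, -1, 0, -1, 1, 2, -1⟩,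
   ⟨0, 0, -1, 0, 1, -1, -2, 1⟩, ⟨0, 0, -1, 0, 1, -1, 2, -1⟩,
   ⟨0, 0, 2, -1, 1, 0, -1, 1⟩, ⟨0, 0, 2, -1, 1, 0, 1, -1⟩,
   ⟨0, 0, 2, -1, -1, 0, -1, 1⟩, ⟨0, 0, 2, -1, -1, 0, 1, -1⟩,
   ⟨0, 0, 1, -1, -2, 1, 1, 0⟩, ⟨0, 0, 1, -1, -2, 1, -1, 0⟩,
   ⟨0, 0, 1, -1, 2, -1, 1, 0⟩, ⟨0, 0, 1, -1, 2, -1, -1, 0⟩,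
   ⟨0, 0, 2, -2, 0, 0, 0, 0⟩, ⟨-1, 0, -1, 1, 0, 0, -2, 1⟩,
   ⟨-1, 0, -1, 1, 0, 0, 2, -1⟩, ⟨-1, 0, -2, 1, -1, 1, 0, 0⟩,
   ⟨-1, 0, -2, 1, 1, -1, 0, 0⟩, ⟨-1, 0, 0, 0, -2, 1, -1, 1⟩,
   ⟨-1, 0, 0, 0, -2, 1, 1, -1⟩, ⟨-1, 0, 0, 0, 2, -1, -1, 1⟩,
   ⟨-1, 0, 0, 0, 2, -1, 1, -1⟩, ⟨-1, 0, 2, -1, -1, 1, 0, 0⟩,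
   ⟨-1, 0, 2, -1, 1, -1, 0, 0⟩, ⟨-1, 0, 1, -1, 0, 0, -2, 1⟩,
   ⟨-1, 0, 1, -1, 0, 0, 2, -1⟩, ⟨2, -1, -1, 1, 1, 0, 0, 0⟩,
   ⟨2, -1, -1, 1, -1, 0, 0, 0⟩, ⟨2, -1, 1, 0, 0, 0, -1, 1⟩,
   ⟨2, -1, 1, 0, 0, 0, 1, -1⟩, ⟨2, -1, 0, 0, -1, 1, 1, 0⟩,
   ⟨2, -1, 0, 0, -1, 1, -1, 0⟩, ⟨2, -1, 0, 0, 1, -1, 1, 0⟩,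
   ⟨2, -1, 0, 0, 1, -1, -1, 0⟩, ⟨2, -1, -1, 0, 0, 0, -1, 1⟩,
   ⟨2, -1, -1, 0, 0, 0, 1, -1⟩, ⟨2, -1, 1, -1, 1, 0, 0, 0⟩,
   ⟨2, -1, 1, -1, -1, 0, 0, 0⟩, ⟨1, -1, -1, 1, -1, 1, -1, 1⟩,
   ⟨1, -1, -1, 1, -1, 1, 1, -1⟩, ⟨1, -1, -1, 1, 1, -1, -1, 1⟩,
   ⟨1, -1, -1, 1, 1, -1, 1, -1⟩, ⟨1, -1, -2, 1, 0, 0, 1, 0⟩,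
   ⟨1, -1, -2, 1, 0, 0, -1, 0⟩, ⟨1, -1, 1, 0, -2, 1, 0, 0⟩,
   ⟨1, -1, 1, 0, 2, -1, 0, 0⟩, ⟨1, -1, 0, 0, 1, 0, -2, 1⟩,
   ⟨1, -1, 0, 0, 1, 0, 2, -1⟩, ⟨1, -1, 0, 0, -1, 0, -2, 1⟩,
   ⟨1, -1, 0, 0, -1, 0, 2, -1⟩, ⟨1, -1, -1, 0, -2, 1, 0, 0⟩,
   ⟨1, -1, -1, 0, 2, -1, 0, 0⟩, ⟨1, -1, 2, -1, 0, 0, 1, 0⟩,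
   ⟨1, -1, 2, -1, 0, 0, -1, 0⟩, ⟨1, -1, 1, -1, -1, 1, -1, 1⟩,
   ⟨1, -1, 1, -1, -1, 1, 1, -1⟩, ⟨1, -1, 1, -1, 1, -1, -1, 1⟩,
   ⟨1, -1, 1, -1, 1, -1, 1, -1⟩, ⟨2, -2, 0, 0, 0, 0, 0, 0⟩]

theorem UHL_eq : UHL = U.flatMap (fun u => H5.map (fun h => Q8.mul u h)) := by decide +kernel
theorem UtL_eq : UtL = U.map (fun u => Q8.mul u tauQ) := by decide +kernel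
theorem UsL_eq : UsL = U.map (fun u => Q8.mul u sigQ) := by decide +kernel

end Cfsg.Agent.Lib.Helper15.IcoCls
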