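import Mathlib
import Cfsg.Agent.Lib.Helper28.CentShape

/-!
# S1623 (centraliser of a reflection in `J₂`): the abstract criterion  (helper15)

`data_of_tables`: a finite group `G` of order 1920 containing 32 elements `elt i` with an explicit multiplication table `mt`
satisfying the table conditions of an extraspecial group `2^{1+4}_-`, and two elements `u, v` with `u³ = v⁵ = (uv)² = 1`, `u ≠ 1`,
normalising the set of the `elt i`, carries helper28's `CentShape.Data` (hence has `Shape` `2^{1+4}_- : A₅`).
-/

set_option autoImplicit false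

namespace Cfsg.Agent.Lib.Helper15.J2CentA

open Cfsg.Agent.Lib.Helper28.CentShape

/-- a group generated by `u`, `v` with `u³ = v⁵ = (uv)² = 1`, `u ≠ 1` is isomorphic to `A₅` -/
theorem a5_of_closure {K : Type*} [Group K] (u v : K) (hgen : Subgroup.closure ({u, v} : Set K) = ⊤)
    (hu : u ^ 3 = 1) (hv : v ^ 5 = 1) (huv : (u * v) ^ 2 = 1) (hu1 : u ≠ 1) :
    Nonempty (K ≃* alternatingGroup (Fin 5)) := by
  obtain ⟨e⟩ := Cfsg.Agent.S3377.result
  have hrel : ∀ r ∈ ({FreeGroup.of (0 : Fin 2) ^ 3, FreeGroup.of (1 : Fin 2) ^ 5,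
      (FreeGroup.of (0 : Fin 2) * FreeGroup.of 1) ^ 2} : Set (FreeGroup (Fin 2))),
      FreeGroup.lift (![u, v] : Fin 2 → K) r = 1 := by
    intro r hr
    rcases hr with rfl | rfl | rfl
    · rw [map_pow, FreeGroup.lift_apply_of]
      exact hu
    · rw [map_pow, FreeGroup.lift_apply_of]
      exact hv
    · rw [map_pow, map_mul, FreeGroup.lift_apply_of, FreeGroup.lift_apply_of]
      exact huv
  let ψ : alternatingGroup (Fin 5) →* K := (PresentedGroup.toGroup hrel).comp e.symm.toMonoidHom
  have h0 : ψ (e (PresentedGroup.of 0)) = u := by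
    show PresentedGroup.toGroup hrel (e.symm (e (PresentedGroup.of 0))) = u
    rw [MulEquiv.symm_apply_apply, PresentedGroup.toGroup.of]
    rfl
  have h1 : ψ (e (PresentedGroup.of 1)) = v := by
    show PresentedGroup.toGroup hrel (e.symm (e (PresentedGroup.of 1))) = v
    rw [MulEquiv.symm_apply_apply, PresentedGroup.toGroup.of]
    rfl
  have hker : ψ.ker = ⊥ := by
    rcases (MonoidHom.normal_ker ψ).eq_bot_or_eq_top with h | h
    · exact h
    · exfalso
      have h2 : e (PresentedGroup.of 0) ∈ ψ.ker := by rw [h]; exact Subgroup.mem_top _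
      rw [MonoidHom.mem_ker, h0] at h2
      exact hu1 h2
  have hinj : Function.Injective ψ := (MonoidHom.ker_eq_bot_iff ψ).1 hker
  have hsurj : Function.Surjective ψ := by
    rw [← MonoidHom.range_eq_top, eq_top_iff, ← hgen, Subgroup.closure_le]
    intro x hx
    rcases hx with rfl | rfl
    · exact ⟨_, h0⟩
    · exact ⟨_, h1⟩
  exact ⟨(MulEquiv.ofBijective ψ ⟨hinj, hsurj⟩).symm⟩

section main

variable {G : Type*} [Group G]

/-- the subgroup given by a multiplication table -/
def tableSubgroup (elt : Fin 32 → G) (mt : Fin 32 → Fin 32 → Fin 32) (hmul : ∀ i j, elt i * elt j = elt (mt i j))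
    (hone : elt 0 = 1) (inv : Fin 32 → Fin 32) (hinv : ∀ i, mt i (inv i) = 0) : Subgroup G where
  carrier := Set.range elt
  mul_mem' := by
    rintro _ _ ⟨i, rfl⟩ ⟨j, rfl⟩
    exact ⟨mt i j, (hmul i j).symm⟩
  one_mem' := ⟨0, hone⟩
  inv_mem' := by
    rintro _ ⟨i, rfl⟩
    refine ⟨inv i, ?_⟩
    have h : elt i * elt (inv i) = 1 := by rw [hmul, hinv, hone]
    exact (eq_inv_of_mul_eq_one_right h)

theorem data_of_tables [Finite G] (hcard : Nat.card G = 1920)
    (elt : Fin 32 → G) (mt : Fin 32 → Fin 32 → Fin 32) (hmul : ∀ i j, elt i * elt j = elt (mt i j))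
    (hone : elt 0 = 1) (hinj : Function.Injective elt)
    (inv : Fin 32 → Fin 32) (hinv : ∀ i, mt i (inv i) = 0)
    (zi : Fin 32) (hz0 : zi ≠ 0)
    (t_cent : ∀ i, mt i zi = mt zi i)
    (t_sq : ∀ i, mt i i = 0 ∨ mt i i = zi)
    (t_comm : ∀ i j, mt i j = mt j i ∨ mt i j = mt zi (mt j i))
    (t_centre : ∀ j, (∀ i, mt i j = mt j i) → j = 0 ∨ j = zi)
    (t_ex : ∃ i j, mt i j = mt zi (mt j i))
    (t_ea : ∀ i j, mt i i = 0 → mt j j = 0 → mt i j = mt j i →
      i = 0 ∨ j = 0 ∨ i = j ∨ i = zi ∨ j = zi ∨ mt i j = zi)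
    (u v : G) (hu3 : u ^ 3 = 1) (hv5 : v ^ 5 = 1) (huv : (u * v) ^ 2 = 1) (hu1 : u ≠ 1)
    (cu cv : Fin 32 → Fin 32) (hcu : ∀ i, u * elt i = elt (cu i) * u) (hcv : ∀ i, v * elt i = elt (cv i) * v) :
    ∃ (Q H : Subgroup G) (z : G), Data G Q H z := by
  classical
  set Q : Subgroup G := tableSubgroup elt mt hmul hone inv hinv with hQ
  have hmemQ : ∀ g, g ∈ Q ↔ ∃ i, elt i = g := fun g => Iff.rfl
  set H : Subgroup G := Subgroup.closure ({u, v} : Set G) with hH
  -- cardinalities
  have hcardQ : Nat.card Q = 32 := by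
    have e : Fin 32 ≃ Q := Equiv.ofBijective (fun i => ⟨elt i, ⟨i, rfl⟩⟩)
      ⟨fun i j h => hinj (congrArg Subtype.val h), fun ⟨g, i, hi⟩ => ⟨i, Subtype.ext hi⟩⟩
    rw [← Nat.card_congr e, Nat.card_eq_fintype_card, Fintype.card_fin]
  -- `H ≃* A₅`
  have hu' : u ∈ H := Subgroup.subset_closure (by simp)
  have hv' : v ∈ H := Subgroup.subset_closure (by simp)
  have halt : Nonempty (H ≃* alternatingGroup (Fin 5)) := by
    apply a5_of_closure (⟨u, hu'⟩ : H) ⟨v, hv'⟩
    · have h1 : Subgroup.closure (((↑) : H → G) ⁻¹' ({u, v} : Set G)) = ⊤ := Subgroup.closure_closure_coe_preimage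
      rw [← h1]
      congr 1
      ext x
      simp only [Set.mem_insert_iff, Set.mem_singleton_iff, Set.mem_preimage]
      constructor
      · rintro (rfl | rfl)
        · left; rfl
        · right; rfl
      · rintro (h | h)
        · left; exact Subtype.ext h
        · right; exact Subtype.ext h
    · exact Subtype.ext (by rw [Subgroup.coe_pow]; exact hu3)
    · exact Subtype.ext (by rw [Subgroup.coe_pow]; exact hv5)
    · exact Subtype.ext (by rw [Subgroup.coe_pow, Subgroup.coe_mul]; exact huv)
    · intro h
      exact hu1 (congrArg Subtype.val h)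
  obtain ⟨f⟩ := halt
  have hcardH : Nat.card H = 60 := by
    rw [Nat.card_congr f.toEquiv, Cfsg.Agent.S3377.card_A5]
  -- `H` normalises `Q`
  have hnorm : ∀ h ∈ H, ∀ a ∈ Q, h * a * h⁻¹ ∈ Q ∧ h⁻¹ * a * h ∈ Q := by
    intro h hh
    induction hh using Subgroup.closure_induction with
    | mem x hx =>
      have key : ∀ (x : G) (c : Fin 32 → Fin 32), (∀ i, x * elt i = elt (c i) * x) →
          ∀ a ∈ Q, x * a * x⁻¹ ∈ Q ∧ x⁻¹ * a * x ∈ Q := by
        intro x c hc
        have hcinj : Function.Injective c := by
          intro i j hij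
          apply hinj
          have h1 := hc i
          have h2 := hc j
          rw [hij] at h1
          exact mul_left_cancel (h1.trans h2.symm)
        have hcsurj : Function.Surjective c := Finite.surjective_of_injective hcinj
        rintro a ⟨i, rfl⟩
        constructor
        · refine ⟨c i, ?_⟩
          rw [hc i]
          group
        · obtain ⟨k, hk⟩ := hcsurj i
          refine ⟨k, ?_⟩
          have := hc k
          rw [hk] at this
          rw [mul_assoc, ← this]
          group
      rcases hx with rfl | rfl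
      · exact key _ cu hcu
      · exact key _ cv hcv
    | one =>
      intro a ha
      simpa using ha
    | mul x y _ _ hx hy =>
      intro a ha
      constructor
      · have := (hx _ (hy a ha).1).1
        convert this using 1
        group
      · have := (hy _ (hx a ha).2).2
        convert this using 1
        group
    | inv x _ hx =>
      intro a ha
      constructor
      · have := (hx a ha).2
        simpa using this
      · have := (hx a ha).1
        simpa using this
  -- `Q ∩ H = 1`
  have hsimple : IsSimpleGroup H := by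
    have : IsSimpleGroup (alternatingGroup (Fin 5)) := alternatingGroup.isSimpleGroup (by simp)
    haveI : Nontrivial H := by
      refine ⟨⟨⟨u, hu'⟩, 1, fun h => hu1 (congrArg Subtype.val h)⟩⟩
    exact IsSimpleGroup.isSimpleGroup_of_surjective f.symm.toMonoidHom f.symm.surjective
  have hdisj : ∀ g ∈ Q, g ∈ H → g = 1 := by
    let N : Subgroup H := Q.subgroupOf H
    have hN : N.Normal := by
      refine ⟨fun x hx h => ?_⟩
      rw [Subgroup.mem_subgroupOf] at hx ⊢
      simp only [Subgroup.coe_mul, Subgroup.coe_inv]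
      exact (hnorm h h.2 x hx).1
    rcases hN.eq_bot_or_eq_top with h | h
    · intro g hgQ hgH
      have : (⟨g, hgH⟩ : H) ∈ N := Subgroup.mem_subgroupOf.2 hgQ
      rw [h, Subgroup.mem_bot] at this
      exact congrArg Subtype.val this
    · exfalso
      have hle : H ≤ Q := by
        intro g hg
        have : (⟨g, hg⟩ : H) ∈ N := by rw [h]; exact Subgroup.mem_top _
        exact Subgroup.mem_subgroupOf.1 this
      have := Subgroup.card_le_of_le hle
      rw [hcardQ, hcardH] at this
      omega
  -- complement, hence `Q` normal in `G`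
  have hcompl : Q.IsComplement' H := by
    apply Subgroup.isComplement'_of_card_mul_and_disjoint
    · rw [hcardQ, hcardH, hcard]
    · rw [Subgroup.disjoint_def]
      intro x hx hx'
      exact hdisj x hx hx'
  have hnormal : ∀ g : G, ∀ a ∈ Q, g * a * g⁻¹ ∈ Q := by
    intro g a ha
    obtain ⟨⟨⟨q, hq⟩, ⟨h, hh⟩⟩, hqh⟩ := hcompl.existsUnique g |>.exists
    simp only at hqh
    subst hqh
    have h1 := (hnorm h hh a ha).1
    have h2 : q * (h * a * h⁻¹) * q⁻¹ ∈ Q := Q.mul_mem (Q.mul_mem hq h1) (Q.inv_mem hq)
    convert h2 using 1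
    group
  -- the data
  have hne : ∀ i j, elt i = elt j → i = j := fun i j h => hinj h
  have data : Data G Q H (elt zi) :=
    { normal := hnormal
      z_mem := ⟨zi, rfl⟩
      z_ne := by
        intro h
        rw [← hone] at h
        exact hz0 (hinj h)
      z_cent := by
        rintro a ⟨i, rfl⟩
        rw [hmul, hmul, t_cent]
      sq := by
        rintro a ⟨i, rfl⟩
        rw [hmul]
        rcases t_sq i with h | h
        · left; rw [h, hone]
        · right; rw [h]
      comm := by
        rintro a ⟨i, rfl⟩ b ⟨j, rfl⟩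
        rw [hmul, hmul, hmul]
        rcases t_comm i j with h | h
        · left; rw [h]
        · right; rw [h]
      cent := by
        rintro b ⟨j, rfl⟩ hb
        have : ∀ i, mt i j = mt j i := by
          intro i
          apply hinj
          rw [← hmul, ← hmul]
          exact hb (elt i) ⟨i, rfl⟩
        rcases t_centre j this with h | h
        · left; rw [h, hone]
        · right; rw [h]
      ex := by
        obtain ⟨i, j, h⟩ := t_ex
        refine ⟨elt i, ⟨i, rfl⟩, elt j, ⟨j, rfl⟩, ?_⟩
        rw [hmul, hmul, hmul, h]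
      ea := by
        rintro a ⟨i, rfl⟩ b ⟨j, rfl⟩ haa hbb hab
        rw [hmul, ← hone] at haa hbb
        rw [hmul, hmul] at hab
        rcases t_ea i j (hinj haa) (hinj hbb) (hinj hab) with h | h | h | h | h | h
        · left; rw [h, hone]
        · right; left; rw [h, hone]
        · right; right; left; rw [h]
        · right; right; right; left; rw [h]
        · right; right; right; right; left; rw [h]
        · right; right; right; right; right; rw [hmul, h]
      cardQ := hcardQ
      cardH := hcardH
      cardG := hcard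
      disj := hdisj
      alt := ⟨f⟩ }
  exact ⟨Q, H, elt zi, data⟩

end main

end Cfsg.Agent.Lib.Helper15.J2CentA
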