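import Mathlib
import Cfsg.Agent.Lib.Helper16.IcoLines
import Cfsg.Agent.Lib.Helper28.CentShape

/-!
# S1623 (centraliser of a reflection in `J₂`): reduction to the point stabiliser of the action on the lines  (helper15)

For `D : LineData L` (helper16): `j ↦ alpha D (reflJ D j)` is injective (`alpha_reflJ_injective`), so the centraliser in
`J₂` of the image of the reflection in line `j` corresponds under `J2EquivRange` to the stabiliser of `j` in
`(alpha D).range`.  `S1623_of`: if the action is transitive and the stabiliser `stabP D j0` carries helper28's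
`CentShape.Data`, then the conclusion of S1623 holds for every reflection.
-/

set_option autoImplicit false

namespace Cfsg.Agent.Lib.Helper15.J2CentB

open Cfsg.Spor Quaternion Cfsg.Agent.Lib.Helper16.IcoLin Cfsg.Agent.Lib.Helper16.IcoNeg
  Cfsg.Agent.Lib.Helper16.IcoKer Cfsg.Agent.Lib.Helper16.IcoLines Cfsg.Agent.Lib.Helper28.CentShape

variable {L : Type} (D : LineData L)

theorem qip_ev_left (r : Fin 3 → ℍ[ℝ]) (i : Fin 3) : qip (ev i) r = 2 * star (r i) := by
  rw [← star_qip, qip_ev_right, star_mul]
  have h2 : star (2 : ℍ[ℝ]) = 2 := by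
    have : (2 : ℍ[ℝ]) = ((2 : ℝ) : ℍ[ℝ]) := by norm_cast
    rw [this, Quaternion.star_coe]
  rw [h2]
  have : (2 : ℍ[ℝ]) = ((2 : ℝ) : ℍ[ℝ]) := by norm_cast
  rw [this, Quaternion.coe_commutes]

theorem qrefl_ev_diag (r : Fin 3 → ℍ[ℝ]) (i : Fin 3) : qrefl r (ev i) i = 2 - star (r i) * r i := by
  unfold qrefl
  rw [qip_ev_left]
  have h1 : ev i i = 2 := by simp [ev]
  rw [h1]
  congr 1
  have : ((1 / 2 : ℝ) • (2 * star (r i)) : ℍ[ℝ]) = star (r i) := by
    rw [← smul_mul_assoc]
    have h2 : ((1 / 2 : ℝ) • (2 : ℍ[ℝ])) = 1 := by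
      have : (2 : ℍ[ℝ]) = ((2 : ℝ) : ℍ[ℝ]) := by norm_cast
      rw [this, ← Quaternion.coe_smul]
      norm_num
    rw [h2, one_mul]
  rw [this]

theorem sum_star_mul (r : Fin 3 → ℍ[ℝ]) : ∑ t, star (r t) * r t = qip r r := by
  unfold qip
  apply Finset.sum_congr rfl
  intro t _
  rw [Quaternion.star_mul_self, Quaternion.self_mul_star]

/-- the images of the reflections in distinct lines are distinct permutations of the lines -/
theorem alpha_reflJ_injective : Function.Injective (fun j => alpha D (reflJ D j)) := by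
  intro j j' h
  simp only at h
  have h1 : alpha D (reflJ D j * (reflJ D j')⁻¹) = 1 := by
    rw [map_mul, map_inv, h, mul_inv_cancel]
  rcases (alpha_eq_one_iff D _).mp h1 with h2 | h2
  · have h3 : reflJ D j = reflJ D j' := by
      have := congrArg (· * reflJ D j') h2
      simpa using this
    exact refl_injective D (congrArg Subtype.val h3)
  · exfalso
    have h3 : reflJ D j = negJ * reflJ D j' := by
      have := congrArg (· * reflJ D j') h2
      simpa using this
    have h4 : ∀ x : icoLeech, qrefl (D.rep j) x = -qrefl (D.rep j') x := by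
      intro x
      have h5 : (reflJ D j : Equiv.Perm icoLeech) x = (negJ * reflJ D j' : twoJ2).1 x := by rw [h3]
      have h6 := congrArg (fun y : icoLeech => (y : Fin 3 → ℍ[ℝ])) h5
      simp only [reflJ, negJ, Subgroup.coe_mul, Equiv.Perm.coe_mul, Function.comp_apply, refl_apply,
        negPerm_apply] at h6
      exact h6
    have h7 : ∀ i : Fin 3, star (D.rep j i) * D.rep j i + star (D.rep j' i) * D.rep j' i = 4 := by
      intro i
      have := congrFun (h4 ⟨ev i, ev_mem i⟩) i
      simp only [Pi.neg_apply] at this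
      rw [qrefl_ev_diag, qrefl_ev_diag] at this
      have h0 := eq_neg_iff_add_eq_zero.mp this
      have h8 : star (D.rep j i) * D.rep j i + star (D.rep j' i) * D.rep j' i =
          (2 + 2) - (2 - star (D.rep j i) * D.rep j i + (2 - star (D.rep j' i) * D.rep j' i)) := by abel
      rw [h8, h0, sub_zero]; norm_num
    have h9 : (∑ i, star (D.rep j i) * D.rep j i) + ∑ i, star (D.rep j' i) * D.rep j' i = ∑ _i : Fin 3, (4 : ℍ[ℝ]) := by
      rw [← Finset.sum_add_distrib]
      exact Finset.sum_congr rfl fun i _ => h7 i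
    rw [sum_star_mul, sum_star_mul, D.min, D.min] at h9
    simp only [Finset.sum_const, Finset.card_univ, Fintype.card_fin] at h9
    have h10 : (8 : ℍ[ℝ]) = 12 := by
      calc (8 : ℍ[ℝ]) = 4 + 4 := by norm_num
        _ = 3 • 4 := h9
        _ = 12 := by rw [nsmul_eq_mul]; norm_num
    have h11 : ((8 : ℝ) : ℍ[ℝ]) = ((12 : ℝ) : ℍ[ℝ]) := by exact_mod_cast h10
    have := Quaternion.coe_injective h11
    norm_num at this

/-- the stabiliser of the line `j` in the image of the action on the lines -/
noncomputable def stabP (j : L) : Subgroup (Equiv.Perm L) := (alpha D).range ⊓ MulAction.stabilizer (Equiv.Perm L) j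

theorem mem_stabP (j : L) (q : Equiv.Perm L) : q ∈ stabP D j ↔ q ∈ (alpha D).range ∧ q j = j := by
  unfold stabP
  rw [Subgroup.mem_inf, MulAction.mem_stabilizer_iff, Equiv.Perm.smul_def]

/-- an element of the image commutes with the image of the reflection in line `j` iff it fixes `j` -/
theorem comm_iff (g : twoJ2) (j : L) :
    alpha D g * alpha D (reflJ D j) = alpha D (reflJ D j) * alpha D g ↔ alpha D g j = j := by
  have hc : g * reflJ D j * g⁻¹ = reflJ D (alpha D g j) := Subtype.ext (conj_refl D g j)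
  constructor
  · intro h
    have : alpha D (reflJ D (alpha D g j)) = alpha D (reflJ D j) := by
      rw [← hc, map_mul, map_mul, map_inv, h, mul_inv_cancel_right]
    exact alpha_reflJ_injective D this
  · intro h
    have : alpha D (g * reflJ D j * g⁻¹) = alpha D (reflJ D j) := by rw [hc, h]
    rw [map_mul, map_mul, map_inv] at this
    exact mul_inv_eq_iff_eq_mul.mp this

/-- orbit-stabiliser for the transitive action on the lines -/
theorem card_stabP [Finite L] (j0 : L) (htr : ∀ j, ∃ g : twoJ2, alpha D g j0 = j) :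
    Nat.card (stabP D j0) * Nat.card L = Nat.card (alpha D).range := by
  have h1 : (MulAction.stabilizer (alpha D).range j0).index = Nat.card L := by
    rw [MulAction.index_stabilizer]
    have : MulAction.orbit (alpha D).range j0 = Set.univ := by
      ext j
      simp only [Set.mem_univ, iff_true]
      obtain ⟨g, hg⟩ := htr j
      exact ⟨⟨alpha D g, g, rfl⟩, hg⟩
    rw [this, Set.ncard_univ]
  have h2 := Subgroup.card_mul_index (MulAction.stabilizer (alpha D).range j0)
  rw [h1] at h2
  have h3 : MulAction.stabilizer (alpha D).range j0 = (stabP D j0).subgroupOf (alpha D).range := by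
    ext ⟨q, hq⟩
    rw [MulAction.mem_stabilizer_iff, Subgroup.mem_subgroupOf, mem_stabP]
    constructor
    · intro h
      exact ⟨hq, h⟩
    · intro h
      exact h.2
  have hle : stabP D j0 ≤ (alpha D).range := inf_le_left
  rw [h3, Nat.card_congr (Subgroup.subgroupOfEquivOfLe hle).toEquiv] at h2
  exact h2

/-- **S1623 from the data of the stabiliser of one line.** -/
theorem S1623_of [Finite L] (j0 : L) (htr : ∀ j, ∃ g : twoJ2, alpha D g j0 = j)
    (hdata : ∃ (Q H : Subgroup (stabP D j0)) (z : stabP D j0), Data (stabP D j0) Q H z)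
    (f : Equiv.Perm icoLeech) (hf : IsIcoReflection f) (hfm : f ∈ twoJ2) :
    ∃ (Q : Subgroup ↥(Subgroup.centralizer {(QuotientGroup.mk ⟨f, hfm⟩ : J2)})) (_ : Q.Normal),
      Nat.card Q = 32 ∧ Cfsg.IsExtraspecial 2 Q ∧
      Nonempty (↥(Subgroup.centralizer {(QuotientGroup.mk ⟨f, hfm⟩ : J2)}) ⧸ Q ≃* alternatingGroup (Fin 5)) := by
  classical
  obtain ⟨j, rfl⟩ := exists_refl_eq D hf
  have hx : (⟨refl D j, hfm⟩ : twoJ2) = reflJ D j := rfl
  rw [hx]
  set x : J2 := QuotientGroup.mk (reflJ D j) with hxdef
  let ψ : J2 →* Equiv.Perm L := (alpha D).range.subtype.comp (J2EquivRange D).toMonoidHom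
  have hψ_mk : ∀ g : twoJ2, ψ (QuotientGroup.mk g) = alpha D g := fun g => rfl
  have hψ_inj : Function.Injective ψ := by
    intro y y' h
    exact (J2EquivRange D).injective (Subtype.ext h)
  obtain ⟨g0, hg0⟩ := htr j
  set a : Equiv.Perm L := alpha D g0 with ha
  have key : (Subgroup.centralizer {x}).map ψ = (stabP D j0).map (MulAut.conj a).toMonoidHom := by
    ext q
    constructor
    · rintro ⟨y, hy, rfl⟩
      obtain ⟨g, rfl⟩ := QuotientGroup.mk_surjective y
      have h1 : x * QuotientGroup.mk g = QuotientGroup.mk g * x :=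
        (Subgroup.mem_centralizer_iff.mp hy) x (Set.mem_singleton x)
      have h2 := congrArg ψ h1
      rw [map_mul, map_mul, hψ_mk, hψ_mk] at h2
      have h3 : alpha D g j = j := (comm_iff D g j).mp h2.symm
      refine ⟨a⁻¹ * alpha D g * a, (mem_stabP D j0 _).mpr ⟨?_, ?_⟩, ?_⟩
      · exact ⟨g0⁻¹ * g * g0, by rw [map_mul, map_mul, map_inv]⟩
      · show a⁻¹ (alpha D g (a j0)) = j0
        rw [ha, hg0, h3, ← hg0]
        exact Equiv.symm_apply_apply _ _
      · show a * (a⁻¹ * alpha D g * a) * a⁻¹ = ψ (QuotientGroup.mk g)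
        rw [hψ_mk]
        group
    · rintro ⟨p, hp, rfl⟩
      obtain ⟨⟨g, rfl⟩, hp2⟩ := (mem_stabP D j0 _).mp hp
      have h1 : (MulAut.conj a).toMonoidHom (alpha D g) = alpha D (g0 * g * g0⁻¹) := by
        show a * alpha D g * a⁻¹ = _
        rw [map_mul, map_mul, map_inv]
      rw [h1]
      refine ⟨QuotientGroup.mk (g0 * g * g0⁻¹), ?_, hψ_mk _⟩
      show _ ∈ Subgroup.centralizer {x}
      rw [Subgroup.mem_centralizer_iff]
      intro h hh
      rw [Set.mem_singleton_iff] at hh
      subst hh
      apply hψ_inj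
      rw [map_mul, map_mul, hψ_mk, hψ_mk]
      refine ((comm_iff D (g0 * g * g0⁻¹) j).mpr ?_).symm
      rw [map_mul, map_mul, map_inv]
      show a (alpha D g (a⁻¹ j)) = j
      have h2 : a⁻¹ j = j0 := by
        rw [← hg0]
        exact Equiv.symm_apply_apply _ _
      rw [h2, hp2, ha, hg0]
  let e1 : Subgroup.centralizer {x} ≃* (Subgroup.centralizer {x}).map ψ :=
    (Subgroup.centralizer {x}).equivMapOfInjective ψ hψ_inj
  let e2 : stabP D j0 ≃* (stabP D j0).map (MulAut.conj a).toMonoidHom :=
    (stabP D j0).equivMapOfInjective _ (MulAut.conj a).injective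
  let e : stabP D j0 ≃* Subgroup.centralizer {x} := e2.trans ((MulEquiv.subgroupCongr key.symm).trans e1.symm)
  obtain ⟨Q, H, z, hd⟩ := hdata
  haveI : Finite J2 := Finite.of_injective ψ hψ_inj
  obtain ⟨Q', hQn, hext, hcard, _, _, hquot⟩ := (hd.map e).shape
  exact ⟨Q', hQn, hcard, hext, hquot⟩

end Cfsg.Agent.Lib.Helper15.J2CentB
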