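import Mathlib
import Cfsg.Agent.Lib.Helper28.BSGSPerm
import Cfsg.Agent.Lib.Helper15.J2CentA
import Cfsg.Agent.Lib.Helper15.J2CentData

/-!
# S1623 (centraliser of a reflection in `J₂`): the checks on the tables  (helper15)

`data_of`: a subgroup `S0` of order 1920 of `Perm (Fin 315)` containing the 34 permutations of `J2CentData` carries helper28's
`CentShape.Data` (so it has shape `2^{1+4}_- : A₅`).
-/

set_option autoImplicit false
set_option maxRecDepth 100000

namespace Cfsg.Agent.Lib.Helper15.J2CentC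

open Cfsg.Agent.Lib.Helper28.BSGS Cfsg.Agent.Lib.Helper28.CentShape Cfsg.Agent.Lib.Helper15.J2CentData

def tu (i : Fin 32) : ℕ := TU.getD i.val 0
def tv (i : Fin 32) : ℕ := TV.getD i.val 0
def mt (i j : Fin 32) : Fin 32 := ⟨(MT.getD i.val []).getD j.val 0 % 32, Nat.mod_lt _ (by norm_num)⟩
def inv (i : Fin 32) : Fin 32 := ⟨INVT.getD i.val 0 % 32, Nat.mod_lt _ (by norm_num)⟩
def cu (i : Fin 32) : Fin 32 := ⟨CUT.getD i.val 0 % 32, Nat.mod_lt _ (by norm_num)⟩
def cv (i : Fin 32) : Fin 32 := ⟨CVT.getD i.val 0 % 32, Nat.mod_lt _ (by norm_num)⟩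

/-! ### the kernel checks -/

theorem ok_q : ∀ i : Fin 32, pairOK 315 9 (tu i) (tv i) = true := by decide +kernel
theorem ok_u : pairOK 315 9 uU uV = true := by decide +kernel
theorem ok_v : pairOK 315 9 vU vV = true := by decide +kernel

theorem chk_mul : ∀ i j : Fin 32, wordEq 315 9 [tu i, tu j] [tu (mt i j)] = true := by decide +kernel
theorem chk_one : wordId 315 9 [tu 0] = true := by decide +kernel
theorem chk_inj : ∀ i j : Fin 32, look 9 (tu i) 20 = look 9 (tu j) 20 → i = j := by decide +kernel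
theorem chk_u3 : wordId 315 9 (List.replicate 3 uU) = true := by decide +kernel
theorem chk_v5 : wordId 315 9 (List.replicate 5 vU) = true := by decide +kernel
theorem chk_uv : wordId 315 9 [uU, vU, uU, vU] = true := by decide +kernel
theorem chk_u1 : look 9 uU 2 ≠ 2 := by decide +kernel
theorem chk_cu : ∀ i : Fin 32, wordEq 315 9 [uU, tu i] [tu (cu i), uU] = true := by decide +kernel
theorem chk_cv : ∀ i : Fin 32, wordEq 315 9 [vU, tu i] [tu (cv i), vU] = true := by decide +kernel

theorem t_inv : ∀ i : Fin 32, mt i (inv i) = 0 := by decide +kernel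
theorem t_cent : ∀ i : Fin 32, mt i 1 = mt 1 i := by decide +kernel
theorem t_sq : ∀ i : Fin 32, mt i i = 0 ∨ mt i i = 1 := by decide +kernel
theorem t_comm : ∀ i j : Fin 32, mt i j = mt j i ∨ mt i j = mt 1 (mt j i) := by decide +kernel
theorem t_centre : ∀ j : Fin 32, (∀ i : Fin 32, mt i j = mt j i) → j = 0 ∨ j = 1 := by decide +kernel
theorem t_ex : ∃ i j : Fin 32, mt i j = mt 1 (mt j i) := by decide +kernel
theorem t_ea : ∀ i j : Fin 32, mt i i = 0 → mt j j = 0 → mt i j = mt j i →
    i = 0 ∨ j = 0 ∨ i = j ∨ i = 1 ∨ j = 1 ∨ mt i j = 1 := by decide +kernel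

/-- the points `0` (and `20` for `u`, `v`) are fixed -/
theorem fix_q : ∀ i : Fin 32, look 9 (tu i) 0 = 0 := by decide +kernel
theorem fix_u : look 9 uU 0 = 0 := by decide +kernel
theorem fix_v : look 9 vU 0 = 0 := by decide +kernel

/-! ### the permutations -/

/-- the 32 elements of `Q` -/
noncomputable def qe (i : Fin 32) : Equiv.Perm (Fin 315) := permOf 315 9 (tu i) (tv i)
noncomputable def ue : Equiv.Perm (Fin 315) := permOf 315 9 uU uV
noncomputable def ve : Equiv.Perm (Fin 315) := permOf 315 9 vU vV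

theorem qe_apply (i : Fin 32) (a : Fin 315) : (qe i a).val = look 9 (tu i) a.val := permOf_apply (ok_q i) a
theorem ue_apply (a : Fin 315) : (ue a).val = look 9 uU a.val := permOf_apply ok_u a
theorem ve_apply (a : Fin 315) : (ve a).val = look 9 vU a.val := permOf_apply ok_v a

theorem qe_zero (i : Fin 32) : qe i 0 = 0 := Fin.ext (by rw [qe_apply]; exact fix_q i)
theorem ue_zero : ue 0 = 0 := Fin.ext (by rw [ue_apply]; exact fix_u)
theorem ve_zero : ve 0 = 0 := Fin.ext (by rw [ve_apply]; exact fix_v)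

theorem qe_mul (i j : Fin 32) : qe i * qe j = qe (mt i j) :=
  eq_of_wordEq 315 9 (actsByW_cons (qe_apply i) (actsByW_single (qe_apply j))) (actsByW_single (qe_apply _))
    (chk_mul i j)

theorem qe_one : qe 0 = 1 := eq_one_of_wordId 315 9 (actsByW_single (qe_apply 0)) chk_one

theorem qe_inj : Function.Injective qe := by
  intro i j h
  apply chk_inj
  have := congrArg (fun p : Equiv.Perm (Fin 315) => (p 20).val) h
  simp only [qe_apply] at this
  exact this

theorem ue_pow : ue ^ 3 = 1 := eq_one_of_wordId 315 9 (actsByW_pow 315 9 ue_apply 3) chk_u3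
theorem ve_pow : ve ^ 5 = 1 := eq_one_of_wordId 315 9 (actsByW_pow 315 9 ve_apply 5) chk_v5

theorem uve_pow : (ue * ve) ^ 2 = 1 := by
  have h : ActsByW 315 9 (ue * (ve * (ue * ve))) [uU, vU, uU, vU] :=
    actsByW_cons ue_apply (actsByW_cons ve_apply (actsByW_cons ue_apply (actsByW_single ve_apply)))
  rw [pow_two, mul_assoc]
  exact eq_one_of_wordId 315 9 h chk_uv

theorem ue_ne : ue ≠ 1 := by
  intro h
  have := congrArg (fun p : Equiv.Perm (Fin 315) => (p 2).val) h
  simp only [ue_apply] at this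
  exact chk_u1 this

theorem ue_conj (i : Fin 32) : ue * qe i = qe (cu i) * ue :=
  eq_of_wordEq 315 9 (actsByW_cons ue_apply (actsByW_single (qe_apply i)))
    (actsByW_cons (qe_apply _) (actsByW_single ue_apply)) (chk_cu i)

theorem ve_conj (i : Fin 32) : ve * qe i = qe (cv i) * ve :=
  eq_of_wordEq 315 9 (actsByW_cons ve_apply (actsByW_single (qe_apply i)))
    (actsByW_cons (qe_apply _) (actsByW_single ve_apply)) (chk_cv i)

/-- a subgroup of order 1920 containing the 34 permutations has shape `2^{1+4}_- : A₅` -/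
theorem data_of (S0 : Subgroup (Equiv.Perm (Fin 315))) (hcard : Nat.card S0 = 1920)
    (hq : ∀ i, qe i ∈ S0) (hu : ue ∈ S0) (hv : ve ∈ S0) :
    ∃ (Q H : Subgroup S0) (z : S0), Data S0 Q H z := by
  refine Cfsg.Agent.Lib.Helper15.J2CentA.data_of_tables hcard (fun i => ⟨qe i, hq i⟩) mt ?_ ?_ ?_ inv t_inv 1
    (by decide) t_cent t_sq t_comm t_centre t_ex t_ea ⟨ue, hu⟩ ⟨ve, hv⟩ ?_ ?_ ?_ ?_ cu cv ?_ ?_
  · intro i j
    exact Subtype.ext (qe_mul i j)
  · exact Subtype.ext qe_one
  · intro i j h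
    exact qe_inj (congrArg Subtype.val h)
  · exact Subtype.ext (by rw [Subgroup.coe_pow]; exact ue_pow)
  · exact Subtype.ext (by rw [Subgroup.coe_pow]; exact ve_pow)
  · exact Subtype.ext (by rw [Subgroup.coe_pow, Subgroup.coe_mul]; exact uve_pow)
  · intro h
    exact ue_ne (congrArg Subtype.val h)
  · intro i
    exact Subtype.ext (ue_conj i)
  · intro i
    exact Subtype.ext (ve_conj i)

end Cfsg.Agent.Lib.Helper15.J2CentC
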