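import Mathlib
import Cfsg.Agent.Lib.Helper15.J2CentB
import Cfsg.Agent.Lib.Helper15.J2CentC

/-!
# S1623 (centraliser of a reflection in `J₂`): assembly  (helper15)

`S1623_final D htr hcard hq hu hv` = the conclusion of S1623 for every reflection, from a `LineData (Fin 315)` whose image
`(alpha D).range` is transitive, has order 604800 and contains the 34 permutations of `J2CentData`.
-/

set_option autoImplicit false

namespace Cfsg.Agent.Lib.Helper15.J2CentE

open Cfsg.Spor Cfsg.Agent.Lib.Helper16.IcoLines Cfsg.Agent.Lib.Helper15.J2CentB Cfsg.Agent.Lib.Helper15.J2CentC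

theorem S1623_final (D : LineData (Fin 315)) (htr : ∀ j, ∃ g : twoJ2, alpha D g 0 = j)
    (hcard : Nat.card (alpha D).range = 604800)
    (hq : ∀ i, qe i ∈ (alpha D).range) (hu : ue ∈ (alpha D).range) (hv : ve ∈ (alpha D).range)
    (f : Equiv.Perm icoLeech) (hf : IsIcoReflection f) (hfm : f ∈ twoJ2) :
    ∃ (Q : Subgroup ↥(Subgroup.centralizer {(QuotientGroup.mk ⟨f, hfm⟩ : J2)})) (_ : Q.Normal),
      Nat.card Q = 32 ∧ Cfsg.IsExtraspecial 2 Q ∧
      Nonempty (↥(Subgroup.centralizer {(QuotientGroup.mk ⟨f, hfm⟩ : J2)}) ⧸ Q ≃* alternatingGroup (Fin 5)) := by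
  have h1 := card_stabP D 0 htr
  rw [hcard, Nat.card_fin] at h1
  have h2 : Nat.card (stabP D 0) = 1920 := by omega
  refine S1623_of D 0 htr (data_of (stabP D 0) h2 ?_ ?_ ?_) f hf hfm
  · intro i
    exact (mem_stabP D 0 _).mpr ⟨hq i, qe_zero i⟩
  · exact (mem_stabP D 0 _).mpr ⟨hu, ue_zero⟩
  · exact (mem_stabP D 0 _).mpr ⟨hv, ve_zero⟩

end Cfsg.Agent.Lib.Helper15.J2CentE
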