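import Mathlib
import Cfsg.Agent.Lib.Helper15.J2CentE
import Cfsg.Agent.Lib.Helper16.IcoAsm
import Cfsg.Agent.Lib.Helper11.IcoPermData

/-!
# S1623 (centraliser of a reflection in `J₂`): the 34 permutations lie in the certified group  (helper15)

The 32 elements of `Q`, and `u`, `v` (tables of `J2CentData`) sift through helper11's stabiliser chain `PD.levels`,
so they lie in `genGroup 315 9 PD.gens = (alpha D).range` (helper16's `IcoAsm.range_alpha_eq`).
`S1623_of_asm hB hP hL` = the conclusion of S1623 from helper16's assembly hypotheses.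
-/

set_option autoImplicit false
set_option maxRecDepth 100000

namespace Cfsg.Agent.Lib.Helper15.J2CentF

open Cfsg.Spor Cfsg.Agent.Lib.Helper16.IcoLines Cfsg.Agent.Lib.Helper16.IcoBridge Cfsg.Agent.Lib.Helper16.IcoAsm
  Cfsg.Agent.Lib.Helper15.J2CentC Cfsg.Agent.Lib.Helper15.J2CentData Cfsg.Agent.Lib.Helper15.J2CentE
  Cfsg.Agent.Lib.Helper28.BSGS Cfsg.Agent.Lib.Helper11.Ico

theorem sift_q : ∀ i : Fin 32, siftB 315 9 PD.levels [tu i] = true := by decide +kernel
theorem sift_u : siftB 315 9 PD.levels [uU] = true := by decide +kernel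
theorem sift_v : siftB 315 9 PD.levels [vU] = true := by decide +kernel

section

variable (hg : gensOK 315 9 PD.gens = true) (hc : checkChain 315 9 PD.gens PD.levels = true)
include hg hc

theorem qe_mem (i : Fin 32) : qe i ∈ genGroup 315 9 PD.gens :=
  (perm_main 315 9 PD.gens PD.levels hg hc).2 [tu i] (qe i) (actsByW_single (qe_apply i)) (sift_q i)

theorem ue_mem : ue ∈ genGroup 315 9 PD.gens :=
  (perm_main 315 9 PD.gens PD.levels hg hc).2 [uU] ue (actsByW_single ue_apply) sift_u

theorem ve_mem : ve ∈ genGroup 315 9 PD.gens :=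
  (perm_main 315 9 PD.gens PD.levels hg hc).2 [vU] ve (actsByW_single ve_apply) sift_v

end

/-- **S1623** from helper16's assembly hypotheses -/
theorem S1623_of_asm (hB : BlockB) {gidx : List ℕ} (hP : PermSide 9 gidx.length PD.gens PD.levels)
    (hL : Linked hB 9 gidx PD.gens)
    (f : Equiv.Perm icoLeech) (hf : IsIcoReflection f) (hfm : f ∈ twoJ2) :
    ∃ (Q : Subgroup ↥(Subgroup.centralizer {(QuotientGroup.mk ⟨f, hfm⟩ : J2)})) (_ : Q.Normal),
      Nat.card Q = 32 ∧ Cfsg.IsExtraspecial 2 Q ∧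
      Nonempty (↥(Subgroup.centralizer {(QuotientGroup.mk ⟨f, hfm⟩ : J2)}) ⧸ Q ≃* alternatingGroup (Fin 5)) := by
  have hr := range_alpha_eq hB hP hL
  refine S1623_final (lineData hB) ?_ (card_range hB hP hL) ?_ ?_ ?_ f hf hfm
  · intro j
    obtain ⟨x, hx, hxj⟩ := transitive_genGroup hP 0 j
    rw [← hr] at hx
    obtain ⟨g, rfl⟩ := hx
    exact ⟨g, hxj⟩
  · intro i
    rw [hr]
    exact qe_mem hP.gens_ok hP.chain_ok i
  · rw [hr]
    exact ue_mem hP.gens_ok hP.chain_ok
  · rw [hr]
    exact ve_mem hP.gens_ok hP.chain_ok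

end Cfsg.Agent.Lib.Helper15.J2CentF
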