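import Mathlib
import Cfsg.Agent.Lib.Helper15.J2CentC

/-!
# The structure of the point stabiliser `Q·A` of the degree-315 action of `J₂`  (helper15, piece X for S5321)

`As = ⟨ue, ve⟩ ≅ A₅` (the complement of `Q = {qe i}` in the stabiliser of the point `0`): it fixes the points `0` and `20`,
normalises `Q`, meets it trivially, is simple of order 60, is generated by its involutions, no non-trivial element of it
induces an inner automorphism of `Q`, and every element of a group `P ⊇ Q, As` with `|P₀| = 1920` fixing `0` is `qe i * a`.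
-/

set_option autoImplicit false
set_option maxRecDepth 100000

namespace Cfsg.Agent.Lib.Helper15.J2FusX

open Cfsg.Agent.Lib.Helper28.BSGS Cfsg.Agent.Lib.Helper15.J2CentData Cfsg.Agent.Lib.Helper15.J2CentC

abbrev Ω : Type := Equiv.Perm (Fin 315)

/-- the complement `A ≅ A₅` -/
def As : Subgroup Ω := Subgroup.closure ({ue, ve} : Set Ω)

theorem ue_mem : ue ∈ As := Subgroup.subset_closure (by simp)
theorem ve_mem : ve ∈ As := Subgroup.subset_closure (by simp)

/-! ### kernel checks -/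

theorem fix20_u : look 9 uU 20 = 20 := by decide +kernel
theorem fix20_v : look 9 vU 20 = 20 := by decide +kernel
theorem chk_cu_not_inner : ∀ q : Fin 32, ∃ r : Fin 32, cu r ≠ mt (mt q r) (inv q) := by decide +kernel
theorem chk_uv1 : look 9 uU (look 9 vU 1) ≠ 1 := by decide +kernel

theorem ue_twenty : ue 20 = 20 := Fin.ext (by rw [ue_apply]; exact fix20_u)
theorem ve_twenty : ve 20 = 20 := Fin.ext (by rw [ve_apply]; exact fix20_v)

/-! ### X1, X2: fixed points -/

theorem As_le_stab (x : Fin 315) (hu : ue x = x) (hv : ve x = x) : As ≤ MulAction.stabilizer Ω x := by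
  rw [As, Subgroup.closure_le]
  intro g hg
  rcases hg with rfl | rfl
  · exact MulAction.mem_stabilizer_iff.2 hu
  · exact MulAction.mem_stabilizer_iff.2 hv

theorem As_fix0 : ∀ a ∈ As, a 0 = 0 := fun _ ha =>
  MulAction.mem_stabilizer_iff.1 (As_le_stab 0 ue_zero ve_zero ha)

theorem As_fix20 : ∀ a ∈ As, a 20 = 20 := fun _ ha =>
  MulAction.mem_stabilizer_iff.1 (As_le_stab 20 ue_twenty ve_twenty ha)

/-! ### X3: `A` normalises `Q` -/

theorem qe_inv (i : Fin 32) : (qe i)⁻¹ = qe (inv i) := by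
  have h : qe i * qe (inv i) = 1 := by rw [qe_mul, t_inv, qe_one]
  exact (eq_inv_of_mul_eq_one_right h).symm ▸ (by simp)

theorem conj_surj (a : Ω) (c : Fin 32 → Fin 32) (hc : ∀ i, a * qe i = qe (c i) * a) : Function.Surjective c := by
  apply Finite.surjective_of_injective
  intro i j hij
  apply qe_inj
  have h1 := hc i
  have h2 := hc j
  rw [hij] at h1
  exact mul_left_cancel (h1.trans h2.symm)

theorem As_conj : ∀ a ∈ As, ∀ i : Fin 32, ∃ j : Fin 32, a * qe i = qe j * a := by
  intro a ha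
  induction ha using Subgroup.closure_induction with
  | mem x hx =>
    rcases hx with rfl | rfl
    · exact fun i => ⟨cu i, ue_conj i⟩
    · exact fun i => ⟨cv i, ve_conj i⟩
  | one => exact fun i => ⟨i, by simp⟩
  | mul x y _ _ hx hy =>
    intro i
    obtain ⟨j, hj⟩ := hy i
    obtain ⟨k, hk⟩ := hx j
    exact ⟨k, by rw [mul_assoc, hj, ← mul_assoc, hk, mul_assoc]⟩
  | inv x _ hx =>
    intro i
    choose c hc using hx
    obtain ⟨k, hk⟩ := conj_surj x c hc i
    refine ⟨k, ?_⟩
    have := hc k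
    rw [hk] at this
    -- x * qe k = qe i * x  ⊢ x⁻¹ * qe i = qe k * x⁻¹
    calc x⁻¹ * qe i = x⁻¹ * (qe i * x) * x⁻¹ := by group
      _ = x⁻¹ * (x * qe k) * x⁻¹ := by rw [this]
      _ = qe k * x⁻¹ := by group

/-! ### X4: `Q ∩ A = 1` -/

theorem qe_eq_of_twenty (i j : Fin 32) (h : qe i 20 = qe j 20) : i = j := by
  apply chk_inj
  have := congrArg Fin.val h
  rw [qe_apply, qe_apply] at this
  exact this

theorem qe_mem_As : ∀ i : Fin 32, qe i ∈ As → i = 0 := by
  intro i hi
  apply qe_eq_of_twenty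
  rw [As_fix20 _ hi, qe_one]
  rfl

/-! ### X5, X6: `A ≅ A₅` -/

theorem As_equiv : Nonempty (↥As ≃* alternatingGroup (Fin 5)) := by
  apply Cfsg.Agent.Lib.Helper15.J2CentA.a5_of_closure (⟨ue, ue_mem⟩ : As) ⟨ve, ve_mem⟩
  · have h1 : Subgroup.closure (((↑) : As → Ω) ⁻¹' ({ue, ve} : Set Ω)) = ⊤ := Subgroup.closure_closure_coe_preimage
    rw [← h1]
    congr 1
    ext x
    simp only [Set.mem_insert_iff, Set.mem_singleton_iff, Set.mem_preimage]
    constructor
    · rintro (rfl | rfl)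
      · left; rfl
      · right; rfl
    · rintro (h | h)
      · left; exact Subtype.ext h
      · right; exact Subtype.ext h
  · exact Subtype.ext (by rw [Subgroup.coe_pow]; exact ue_pow)
  · exact Subtype.ext (by rw [Subgroup.coe_pow]; exact ve_pow)
  · exact Subtype.ext (by rw [Subgroup.coe_pow, Subgroup.coe_mul]; exact uve_pow)
  · intro h
    exact ue_ne (congrArg Subtype.val h)

theorem card_As : Nat.card ↥As = 60 := by
  obtain ⟨f⟩ := As_equiv
  rw [Nat.card_congr f.toEquiv, Cfsg.Agent.S3377.card_A5]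

instance As_simple : IsSimpleGroup ↥As := by
  obtain ⟨f⟩ := As_equiv
  have : IsSimpleGroup (alternatingGroup (Fin 5)) := alternatingGroup.isSimpleGroup (by simp)
  have : Nontrivial As := ⟨⟨⟨ue, ue_mem⟩, 1, fun h => ue_ne (congrArg Subtype.val h)⟩⟩
  exact IsSimpleGroup.isSimpleGroup_of_surjective f.symm.toMonoidHom f.symm.surjective

/-! ### X7: the decomposition of the stabiliser -/

theorem stab_decomp (P : Subgroup Ω) (hq : ∀ i, qe i ∈ P) (hu : ue ∈ P) (hv : ve ∈ P)
    (hcard : Nat.card ↥(P ⊓ MulAction.stabilizer Ω (0 : Fin 315)) = 1920) (g : Ω) (hg : g ∈ P) (h0 : g 0 = 0) :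
    ∃ i : Fin 32, ∃ a ∈ As, g = qe i * a := by
  have hAP : As ≤ P := by
    rw [As, Subgroup.closure_le]
    intro x hx
    rcases hx with rfl | rfl
    · exact hu
    · exact hv
  let S : Subgroup Ω := P ⊓ MulAction.stabilizer Ω (0 : Fin 315)
  have hmem : ∀ (i : Fin 32) (a : As), qe i * (a : Ω) ∈ S := by
    intro i a
    refine Subgroup.mem_inf.2 ⟨P.mul_mem (hq i) (hAP a.2), MulAction.mem_stabilizer_iff.2 ?_⟩
    show (qe i * (a : Ω)) 0 = 0
    rw [Equiv.Perm.mul_apply, As_fix0 _ a.2, qe_zero]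
  let F : Fin 32 × As → S := fun p => ⟨qe p.1 * (p.2 : Ω), hmem p.1 p.2⟩
  have hFinj : Function.Injective F := by
    rintro ⟨i, a⟩ ⟨j, b⟩ h
    have h1 : qe i * (a : Ω) = qe j * (b : Ω) := congrArg Subtype.val h
    have h2 : i = j := by
      apply qe_eq_of_twenty
      have := congrArg (fun p : Ω => p 20) h1
      simp only [Equiv.Perm.mul_apply, As_fix20 _ a.2, As_fix20 _ b.2] at this
      exact this
    subst h2
    have h3 : (a : Ω) = b := mul_left_cancel h1
    exact Prod.ext rfl (Subtype.ext h3)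
  have : Finite S := Nat.finite_of_card_ne_zero (by rw [hcard]; norm_num)
  have hcardle : Nat.card S ≤ Nat.card (Fin 32 × As) := by
    rw [hcard, Nat.card_prod, card_As, Nat.card_eq_fintype_card, Fintype.card_fin]
  have hbij := Function.Injective.bijective_of_nat_card_le hFinj hcardle
  obtain ⟨⟨i, a⟩, hia⟩ := hbij.2 ⟨g, hg, MulAction.mem_stabilizer_iff.2 h0⟩
  exact ⟨i, a, a.2, (congrArg Subtype.val hia).symm⟩

/-! ### X8: no non-trivial element of `A` induces an inner automorphism of `Q` -/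

/-- the elements of `Perm (Fin 315)` normalising `Q` and inducing an inner automorphism on it -/
def Inn : Subgroup Ω where
  carrier := {a | ∃ q : Fin 32, ∀ r : Fin 32, a * qe r = qe (mt (mt q r) (inv q)) * a}
  one_mem' := by
    refine ⟨0, fun r => ?_⟩
    rw [← qe_mul, ← qe_mul, ← qe_inv, qe_one]
    simp
  mul_mem' := by
    rintro a b ⟨q, hq⟩ ⟨s, hs⟩
    refine ⟨mt q s, fun r => ?_⟩
    rw [mul_assoc, hs, ← mul_assoc, hq, mul_assoc]
    congr 1
    rw [← qe_mul, ← qe_mul, ← qe_mul, ← qe_mul, ← qe_mul, ← qe_mul, ← qe_inv, ← qe_inv, ← qe_inv, ← qe_mul]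
    simp [mul_assoc]
  inv_mem' := by
    rintro a ⟨q, hq⟩
    refine ⟨inv q, fun r => ?_⟩
    have h := hq (mt (mt (inv q) r) (inv (inv q)))
    have e : qe (mt (mt q (mt (mt (inv q) r) (inv (inv q)))) (inv q)) = qe r := by
      rw [← qe_mul, ← qe_mul, ← qe_mul, ← qe_mul, ← qe_inv, ← qe_inv, ← qe_inv]
      simp [mul_assoc]
    rw [e] at h
    set y := qe (mt (mt (inv q) r) (inv (inv q))) with hy
    calc a⁻¹ * qe r = a⁻¹ * (qe r * a) * a⁻¹ := by group
      _ = a⁻¹ * (a * y) * a⁻¹ := by rw [h]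
      _ = y * a⁻¹ := by group

theorem mem_Inn (a : Ω) : a ∈ Inn ↔ ∃ q : Fin 32, ∀ r : Fin 32, a * qe r = qe (mt (mt q r) (inv q)) * a := Iff.rfl

theorem Inn_conj (g : Ω) (hg : g ∈ As) (a : Ω) (ha : a ∈ Inn) : g * a * g⁻¹ ∈ Inn := by
  obtain ⟨q, hq⟩ := ha
  choose c hc using As_conj g hg
  have hsurj := conj_surj g c hc
  refine ⟨c q, fun r => ?_⟩
  obtain ⟨k, hk⟩ := hsurj r
  have h1 : g * qe k = qe r * g := by rw [hc k, hk]
  -- g a g⁻¹ (qe r) = g a (qe k) g⁻¹ = g qe(q k q⁻¹) a g⁻¹ = qe (c (q k q⁻¹)) g a g⁻¹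
  have h2 : g⁻¹ * qe r = qe k * g⁻¹ := by
    calc g⁻¹ * qe r = g⁻¹ * (qe r * g) * g⁻¹ := by group
      _ = g⁻¹ * (g * qe k) * g⁻¹ := by rw [h1]
      _ = qe k * g⁻¹ := by group
  have h3 : qe (c (mt (mt q k) (inv q))) = qe (mt (mt (c q) r) (inv (c q))) := by
    -- both are g * (qe q * qe k * (qe q)⁻¹) * g⁻¹
    have e1 : qe (c (mt (mt q k) (inv q))) = g * qe (mt (mt q k) (inv q)) * g⁻¹ := by
      rw [hc]; group
    have e2 : qe (c q) = g * qe q * g⁻¹ := by rw [hc]; group
    have e3 : qe r = g * qe k * g⁻¹ := by rw [h1]; group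
    rw [e1, ← qe_mul, ← qe_mul, ← qe_mul, ← qe_mul, ← qe_inv, ← qe_inv, e2, e3]
    group
  calc g * a * g⁻¹ * qe r = g * a * (g⁻¹ * qe r) := by group
    _ = g * a * (qe k * g⁻¹) := by rw [h2]
    _ = g * (a * qe k) * g⁻¹ := by group
    _ = g * (qe (mt (mt q k) (inv q)) * a) * g⁻¹ := by rw [hq]
    _ = (g * qe (mt (mt q k) (inv q))) * a * g⁻¹ := by group
    _ = (qe (c (mt (mt q k) (inv q))) * g) * a * g⁻¹ := by rw [hc]
    _ = qe (mt (mt (c q) r) (inv (c q))) * (g * a * g⁻¹) := by rw [h3]; group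

theorem ue_not_Inn : ue ∉ Inn := by
  rintro ⟨q, hq⟩
  obtain ⟨r, hr⟩ := chk_cu_not_inner q
  apply hr
  apply qe_inj
  have := hq r
  rw [ue_conj] at this
  exact mul_right_cancel this

theorem As_inner_trivial (a : Ω) (ha : a ∈ As) (q : Fin 32)
    (h : ∀ r : Fin 32, a * qe r = qe (mt (mt q r) (inv q)) * a) : a = 1 := by
  let N : Subgroup As := Inn.subgroupOf As
  have hN : N.Normal := by
    refine ⟨fun x hx g => ?_⟩
    rw [Subgroup.mem_subgroupOf] at hx ⊢
    simp only [Subgroup.coe_mul, Subgroup.coe_inv]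
    exact Inn_conj g g.2 x hx
  rcases hN.eq_bot_or_eq_top with hb | ht
  · have : (⟨a, ha⟩ : As) ∈ N := Subgroup.mem_subgroupOf.2 ⟨q, h⟩
    rw [hb, Subgroup.mem_bot] at this
    exact congrArg Subtype.val this
  · exfalso
    have : (⟨ue, ue_mem⟩ : As) ∈ N := by rw [ht]; exact Subgroup.mem_top _
    exact ue_not_Inn (Subgroup.mem_subgroupOf.1 this)

/-! ### X9: `A` is generated by its involutions -/

theorem uve_ne : ue * ve ≠ 1 := by
  intro h
  have := congrArg (fun p : Ω => (p 1).val) h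
  simp only [Equiv.Perm.mul_apply, ue_apply, ve_apply] at this
  exact chk_uv1 this

theorem As_le_invol : As ≤ Subgroup.closure {h : Ω | h ∈ As ∧ h * h = 1} := by
  let T : Set As := {h : As | h * h = 1}
  have hnc : Subgroup.normalClosure T = Subgroup.closure T := by
    rw [Subgroup.normalClosure]
    congr 1
    apply Set.Subset.antisymm
    · intro x hx
      rw [Group.mem_conjugatesOfSet_iff] at hx
      obtain ⟨y, hy, hxy⟩ := hx
      obtain ⟨c, hc⟩ := isConj_iff.1 hxy
      show x * x = 1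
      have hy' : y * y = 1 := hy
      rw [← hc]
      calc c * y * c⁻¹ * (c * y * c⁻¹) = c * (y * y) * c⁻¹ := by group
        _ = 1 := by rw [hy']; group
    · exact Group.subset_conjugatesOfSet
  have hnorm : (Subgroup.closure T).Normal := hnc ▸ Subgroup.normalClosure_normal
  have htop : Subgroup.closure T = ⊤ := by
    rcases hnorm.eq_bot_or_eq_top with hb | ht
    · exfalso
      have hmem : (⟨ue * ve, As.mul_mem ue_mem ve_mem⟩ : As) ∈ Subgroup.closure T := by
        apply Subgroup.subset_closure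
        show (⟨ue * ve, _⟩ : As) * ⟨ue * ve, _⟩ = 1
        apply Subtype.ext
        have := uve_pow
        rw [pow_two] at this
        exact this
      rw [hb, Subgroup.mem_bot] at hmem
      exact uve_ne (congrArg Subtype.val hmem)
    · exact ht
  intro a ha
  have h1 : (⟨a, ha⟩ : As) ∈ Subgroup.closure T := by rw [htop]; exact Subgroup.mem_top _
  have h2 : a ∈ (Subgroup.closure T).map As.subtype := ⟨⟨a, ha⟩, h1, rfl⟩
  rw [MonoidHom.map_closure] at h2
  refine Subgroup.closure_mono ?_ h2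
  rintro _ ⟨y, hy, rfl⟩
  refine ⟨y.2, ?_⟩
  have hy' : y * y = 1 := hy
  have := congrArg Subtype.val hy'
  simpa using this

end Cfsg.Agent.Lib.Helper15.J2FusX
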