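import Mathlib
import Cfsg.Agent.Lib.Helper15.Syl2E
import Cfsg.Agent.Lib.Helper15.Klein4
set_option autoImplicit false
namespace Cfsg.Agent.Lib.Helper15.JR

open Matrix
open Cfsg.Agent.Lib.Helper14
open Cfsg.Agent.Lib.Helper15

section jr1
variable {F : Type*} [Field F] [Fintype F]

/-- an abelian Sylow `2`-subgroup of `PSL₂(q)`, `q` odd, is a four-group whose involutions are
permuted cyclically by an element of `PSL₂(q)` -/
theorem klein_of_abelian_sylow (hodd : Odd (Fintype.card F))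
    (V : Sylow 2 (ProjectiveSpecialLinearGroup (Fin 2) F))
    (hV : ∀ a ∈ (V : Subgroup (ProjectiveSpecialLinearGroup (Fin 2) F)),
      ∀ b ∈ (V : Subgroup (ProjectiveSpecialLinearGroup (Fin 2) F)), a * b = b * a) :
    ∃ u v d : ProjectiveSpecialLinearGroup (Fin 2) F, u ≠ 1 ∧ v ≠ 1 ∧ u ≠ v ∧ u * u = 1 ∧ v * v = 1 ∧
      u * v = v * u ∧
      (∀ y, y ∈ (V : Subgroup (ProjectiveSpecialLinearGroup (Fin 2) F)) ↔ y = 1 ∨ y = u ∨ y = v ∨ y = u * v) ∧
      d * u * d⁻¹ = v ∧ d * v * d⁻¹ = u * v := by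
  have h2 : (2 : F) ≠ 0 := two_ne_zero_of_odd hodd
  have hker : IsPGroup 2 (toPSL2 F).ker := by
    have : (toPSL2 F).ker = Subgroup.center (SpecialLinearGroup (Fin 2) F) := by
      rw [toPSL2]; exact QuotientGroup.ker_mk' _
    rw [this]
    apply IsPGroup.of_card (n := 1)
    rw [card_center_SL2 h2, pow_one]
  have hrange : (V : Subgroup (ProjectiveSpecialLinearGroup (Fin 2) F)) ≤ (toPSL2 F).range := by
    rw [MonoidHom.range_eq_top.2 toPSL2_surjective]
    exact le_top
  set S : Sylow 2 (SpecialLinearGroup (Fin 2) F) := V.comapOfKerIsPGroup (toPSL2 F) hker hrange with hSdef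
  have hSmem : ∀ s : SpecialLinearGroup (Fin 2) F, s ∈ (S : Subgroup (SpecialLinearGroup (Fin 2) F)) ↔
      toPSL2 F s ∈ (V : Subgroup (ProjectiveSpecialLinearGroup (Fin 2) F)) := fun s => Iff.rfl
  obtain ⟨x, hx, hS⟩ := exists_sq_normalized hodd h2 S
  obtain ⟨s₀, hs₀, hinv⟩ := exists_inverting_mem_sylow hodd h2 x hx S hS
  have hns := not_isScalar2_of_sq h2 x hx
  have hxS : x ∈ (S : Subgroup (SpecialLinearGroup (Fin 2) F)) :=
    torusTwo_le_sylow h2 x hx S hS (self_mem_torusTwo h2 x hx)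
  -- the torus has order `≡ 4 mod 8`
  have h4 : Nat.card (Subgroup.centralizer ({x} : Set (SpecialLinearGroup (Fin 2) F))) % 8 = 4 := by
    have h4dvd : Nat.card (Subgroup.centralizer ({x} : Set (SpecialLinearGroup (Fin 2) F))) % 4 = 0 := by
      obtain ⟨h1, h3⟩ := card_torus_of_sq h2 x hx
      have hq2 : 2 ≤ Fintype.card F := Fintype.one_lt_card
      have hcases : Fintype.card F % 4 = 1 ∨ Fintype.card F % 4 = 3 := by
        rw [Nat.odd_iff] at hodd
        omega
      rcases hcases with hq | hq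
      · rw [h1 hq]; omega
      · rw [h3 hq]; omega
    by_contra hne
    have h8 : 8 ∣ Nat.card (Subgroup.centralizer ({x} : Set (SpecialLinearGroup (Fin 2) F))) := by omega
    obtain ⟨y, hyT, hy8, hy4⟩ := exists_order_eight h2 x hx h8
    have hyR : y ∈ torusTwo h2 x hx := by
      rw [mem_torusTwo]
      exact ⟨hyT, 3, hy8⟩
    have hyS := torusTwo_le_sylow h2 x hx S hS hyR
    have hcomm := hV _ ((hSmem s₀).1 hs₀) _ ((hSmem y).1 hyS)
    have hconj : s₀ * y * s₀⁻¹ = y⁻¹ := inverting_torus x hns s₀ hinv y hyT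
    have h5 : toPSL2 F y = toPSL2 F y⁻¹ := by
      rw [← hconj, map_mul, map_mul, hcomm, map_inv, mul_inv_cancel_right]
    apply hy4
    rw [pow_four_eq]
    rcases (toPSL2_eq_iff h2 y y⁻¹).1 h5 with h | h
    · have : y * y = 1 := by
        calc y * y = y⁻¹ * y := by rw [h]
          _ = 1 := inv_mul_cancel y
      rw [this, one_mul]
    · have : y * y = -1 := by
        have e : y⁻¹ * y = -(y * y) := by
          rw [h, neg_mul]
        rw [inv_mul_cancel] at e
        rw [e, neg_neg]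
      rw [this, neg_mul_neg, one_mul]
  obtain ⟨f1, f2, f3, f4, f5, f6⟩ := frame_toPSL2 h2 x s₀ hx hinv
  have hs₀sq := s0_sq h2 x hx s₀ hinv
  refine ⟨toPSL2 F x, toPSL2 F s₀, toPSL2 F (omegaSL h2 x s₀ hx hs₀sq), f1, f2, f3, f4, f5, f6, ?_, ?_, ?_⟩
  · intro y
    constructor
    · intro hy
      obtain ⟨s, rfl⟩ := toPSL2_surjective (F := F) y
      have hsS : s ∈ (S : Subgroup (SpecialLinearGroup (Fin 2) F)) := (hSmem s).2 hy
      have hxinv : x⁻¹ = -x := inv_eq_neg_of_sq x hx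
      rcases sylow_cases h2 x hx S hS s₀ hinv hs₀ h4 s hsS with (h | h | h | h) | (h | h | h | h)
      · left; rw [h, map_one]
      · left; rw [h, toPSL2_neg, map_one]
      · right; left; rw [h]
      · right; left; rw [h, hxinv, toPSL2_neg]
      · right; right; left; rw [h]
      · right; right; left; rw [h, toPSL2_neg]
      · right; right; right; rw [h, map_mul]
      · right; right; right; rw [h, hxinv, neg_mul, toPSL2_neg, map_mul]
    · rintro (h | h | h | h)
      · rw [h]; exact Subgroup.one_mem _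
      · rw [h]; exact (hSmem x).1 hxS
      · rw [h]; exact (hSmem s₀).1 hs₀
      · rw [h]; exact Subgroup.mul_mem _ ((hSmem x).1 hxS) ((hSmem s₀).1 hs₀)
  · rw [← map_inv, ← map_mul, ← map_mul, omegaSL_conj_x h2 x s₀ hx hs₀sq hinv]
  · rw [← map_inv, ← map_mul, ← map_mul, omegaSL_conj_s h2 x s₀ hx hs₀sq hinv, map_mul]

end jr1

/-- the same for a group isomorphic to `PSL₂(q)` -/
theorem klein_of_abelian_sylow_iso {F : Type*} [Field F] [Fintype F] (hodd : Odd (Fintype.card F))
    {N : Type*} [Group N] (e : N ≃* ProjectiveSpecialLinearGroup (Fin 2) F) (V : Sylow 2 N)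
    (hV : ∀ a ∈ (V : Subgroup N), ∀ b ∈ (V : Subgroup N), a * b = b * a) :
    ∃ u v d : N, u ≠ 1 ∧ v ≠ 1 ∧ u ≠ v ∧ u * u = 1 ∧ v * v = 1 ∧ u * v = v * u ∧
      (∀ y, y ∈ (V : Subgroup N) ↔ y = 1 ∨ y = u ∨ y = v ∨ y = u * v) ∧
      d * u * d⁻¹ = v ∧ d * v * d⁻¹ = u * v := by
  have hrange : (V : Subgroup N) ≤ e.symm.toMonoidHom.range := by
    rw [MonoidHom.range_eq_top.2 e.symm.surjective]
    exact le_top
  set V' : Sylow 2 (ProjectiveSpecialLinearGroup (Fin 2) F) :=
    V.comapOfInjective e.symm.toMonoidHom e.symm.injective hrange with hV'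
  have hmem : ∀ y, y ∈ (V' : Subgroup (ProjectiveSpecialLinearGroup (Fin 2) F)) ↔ e.symm y ∈ (V : Subgroup N) :=
    fun y => Iff.rfl
  obtain ⟨u, v, d, h1, h3, h4, h5, h6, h7, h8, h9, h10⟩ := klein_of_abelian_sylow hodd V' (by
    intro a ha b hb
    have := hV _ ((hmem a).1 ha) _ ((hmem b).1 hb)
    rw [← map_mul, ← map_mul] at this
    exact e.symm.injective this)
  refine ⟨e.symm u, e.symm v, e.symm d, ?_, ?_, ?_, ?_, ?_, ?_, ?_, ?_, ?_⟩
  · intro h; apply h1; apply e.symm.injective; rw [h, map_one]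
  · intro h; apply h3; apply e.symm.injective; rw [h, map_one]
  · intro h; exact h4 (e.symm.injective h)
  · rw [← map_mul, h5, map_one]
  · rw [← map_mul, h6, map_one]
  · rw [← map_mul, ← map_mul, h7]
  · intro y
    have hy : y ∈ (V : Subgroup N) ↔ e y ∈ (V' : Subgroup (ProjectiveSpecialLinearGroup (Fin 2) F)) := by
      rw [hmem, e.symm_apply_apply]
    rw [hy, h8, ← map_mul]
    have hk : ∀ w : ProjectiveSpecialLinearGroup (Fin 2) F, e y = w ↔ y = e.symm w := by
      intro w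
      constructor
      · intro h; rw [← h, e.symm_apply_apply]
      · intro h; rw [h, e.apply_symm_apply]
    rw [hk, hk, hk, hk, map_one]
  · rw [← map_inv, ← map_mul, ← map_mul, h9]
  · rw [← map_inv, ← map_mul, ← map_mul, h10, map_mul]

end Cfsg.Agent.Lib.Helper15.JR
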