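import Mathlib
set_option autoImplicit false
namespace Cfsg.Agent.Lib.Helper15.JR

/-- an elementary abelian Sylow `2`-subgroup of rank at least three all of whose involutions are conjugate -/
def IsGoodSylow {G : Type*} [Group G] (S : Sylow 2 G) : Prop :=
  (∀ x ∈ (S : Subgroup G), x * x = 1) ∧
  (∀ x ∈ (S : Subgroup G), ∀ y ∈ (S : Subgroup G), x ≠ 1 → y ≠ 1 → ∃ g : G, g * x * g⁻¹ = y) ∧
  ∃ a ∈ (S : Subgroup G), ∃ b ∈ (S : Subgroup G), ∃ c ∈ (S : Subgroup G),
    a ≠ 1 ∧ b ≠ 1 ∧ c ≠ 1 ∧ a * b ≠ 1 ∧ a * c ≠ 1 ∧ b * c ≠ 1 ∧ a * (b * c) ≠ 1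

/-- a perfect central extension with kernel of exponent two of a group with a good Sylow `2`-subgroup is
trivial -/
theorem ker_eq_bot_of_good {L G : Type*} [Group L] [Finite L] [Group G] (π : L →* G)
    (hπ : Function.Surjective π) (hcen : π.ker ≤ Subgroup.center L) (hexp : ∀ z ∈ π.ker, z * z = 1)
    (hperf : commutator L = ⊤) (S : Sylow 2 G) (hS : IsGoodSylow S) : π.ker = ⊥ := by
  classical
  have hkerp : IsPGroup 2 π.ker := by
    rintro ⟨z, hz⟩
    refine ⟨1, ?_⟩
    apply Subtype.ext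
    rw [pow_one, Subgroup.coe_pow, pow_two, hexp z hz]
    rfl
  have hrange : (S : Subgroup G) ≤ π.range := by
    rw [MonoidHom.range_eq_top.2 hπ]
    exact le_top
  set T : Sylow 2 L := S.comapOfKerIsPGroup π hkerp hrange with hTdef
  have hTmem : ∀ x, x ∈ (T : Subgroup L) ↔ π x ∈ (S : Subgroup G) := fun _ => Iff.rfl
  have hcz : ∀ z ∈ π.ker, ∀ g : L, g * z = z * g := fun z hz g => Subgroup.mem_center_iff.1 (hcen hz) g
  obtain ⟨hsq, hconj, a, ha, b, hb, c, hc, ha1, hb1, hc1, hab, hac, hbc, habc⟩ := hS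
  obtain ⟨a', rfl⟩ := hπ a
  obtain ⟨b', rfl⟩ := hπ b
  obtain ⟨c', rfl⟩ := hπ c
  -- all elements outside the kernel have the same square
  have step1 : ∀ x ∈ (T : Subgroup L), x ∉ π.ker → x * x = a' * a' := by
    intro x hx hxk
    have hx1 : π x ≠ 1 := hxk
    obtain ⟨g, hg⟩ := hconj _ ha _ ((hTmem x).1 hx) ha1 hx1
    obtain ⟨g', rfl⟩ := hπ g
    have hz : x⁻¹ * (g' * a' * g'⁻¹) ∈ π.ker := by
      rw [MonoidHom.mem_ker, map_mul, map_inv, map_mul, map_mul, map_inv, hg, inv_mul_cancel]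
    have haa : a' * a' ∈ π.ker := by
      rw [MonoidHom.mem_ker, map_mul]; exact hsq _ ha
    have e1 : g' * a' * g'⁻¹ = x * (x⁻¹ * (g' * a' * g'⁻¹)) := by group
    have e2 : (g' * a' * g'⁻¹) * (g' * a' * g'⁻¹) = a' * a' := by
      have : (g' * a' * g'⁻¹) * (g' * a' * g'⁻¹) = g' * (a' * a') * g'⁻¹ := by group
      rw [this, hcz _ haa g', mul_inv_cancel_right]
    generalize x⁻¹ * (g' * a' * g'⁻¹) = z at hz e1
    calc x * x = x * x * (z * z) := by rw [hexp z hz, mul_one]
      _ = x * (x * z) * z := by group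
      _ = x * (z * x) * z := by rw [hcz z hz x]
      _ = (x * z) * (x * z) := by group
      _ = a' * a' := by rw [← e1, e2]
  set e := a' * a' with hedef
  have he : e ∈ π.ker := by
    rw [MonoidHom.mem_ker, map_mul]; exact hsq _ ha
  have hee : e * e = 1 := hexp e he
  have step2 : ∀ x ∈ (T : Subgroup L), ∀ y ∈ (T : Subgroup L), x ∉ π.ker → y ∉ π.ker → x * y ∉ π.ker →
      y * x = e * (x * y) := by
    intro x hx y hy hxk hyk hxyk
    have hx2 := step1 x hx hxk
    have hy2 := step1 y hy hyk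
    have hxy2 := step1 (x * y) (Subgroup.mul_mem _ hx hy) hxyk
    have hxinv : x⁻¹ = x * e := by
      apply inv_eq_of_mul_eq_one_right
      rw [← mul_assoc, hx2, hee]
    have hyinv : y⁻¹ = y * e := by
      apply inv_eq_of_mul_eq_one_right
      rw [← mul_assoc, hy2, hee]
    calc y * x = x⁻¹ * ((x * y) * (x * y)) * y⁻¹ := by group
      _ = x⁻¹ * e * y⁻¹ := by rw [hxy2]
      _ = (x * e) * e * (y * e) := by rw [hxinv, hyinv]
      _ = x * (e * e) * (y * e) := by group
      _ = x * y * e := by rw [hee, mul_one, mul_assoc]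
      _ = e * (x * y) := hcz e he (x * y)
  have hnk : ∀ w : L, π w ≠ 1 → w ∉ π.ker := fun w hw => hw
  have haT : a' ∈ (T : Subgroup L) := (hTmem a').2 ha
  have hbT : b' ∈ (T : Subgroup L) := (hTmem b').2 hb
  have hcT : c' ∈ (T : Subgroup L) := (hTmem c').2 hc
  have he1 : e = 1 := by
    have hba := step2 a' haT b' hbT (hnk _ ha1) (hnk _ hb1) (hnk _ (by rw [map_mul]; exact hab))
    have hca := step2 a' haT c' hcT (hnk _ ha1) (hnk _ hc1) (hnk _ (by rw [map_mul]; exact hac))
    have hbca := step2 a' haT (b' * c') (Subgroup.mul_mem _ hbT hcT) (hnk _ ha1)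
      (hnk _ (by rw [map_mul]; exact hbc)) (hnk _ (by rw [map_mul, map_mul]; exact habc))
    have h1 : b' * c' * a' = a' * (b' * c') := by
      calc b' * c' * a' = b' * (c' * a') := by group
        _ = b' * (e * (a' * c')) := by rw [hca]
        _ = b' * e * (a' * c') := by group
        _ = e * b' * (a' * c') := by rw [hcz e he b']
        _ = e * (b' * a') * c' := by group
        _ = e * (e * (a' * b')) * c' := by rw [hba]
        _ = (e * e) * (a' * (b' * c')) := by group
        _ = a' * (b' * c') := by rw [hee, one_mul]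
    rw [h1] at hbca
    have : 1 * (a' * (b' * c')) = e * (a' * (b' * c')) := by rw [one_mul]; exact hbca
    exact (mul_right_cancel this).symm
  have hcomm : ∀ x ∈ (T : Subgroup L), ∀ y ∈ (T : Subgroup L), x * y = y * x := by
    intro x hx y hy
    by_cases hxk : x ∈ π.ker
    · exact (hcz x hxk y).symm
    by_cases hyk : y ∈ π.ker
    · exact hcz y hyk x
    by_cases hxyk : x * y ∈ π.ker
    · have h1 := hcz (x * y) hxyk x
      calc x * y = x⁻¹ * (x * (x * y)) := by group
        _ = x⁻¹ * (x * y * x) := by rw [h1]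
        _ = y * x := by group
    · rw [step2 x hx y hy hxk hyk hxyk, he1, one_mul]
  -- transfer
  let inst : CommGroup (T : Subgroup L) :=
    { (inferInstance : Group (T : Subgroup L)) with
      mul_comm := fun x y => Subtype.ext (hcomm x x.2 y y.2) }
  rw [eq_bot_iff]
  intro z hz
  rw [Subgroup.mem_bot]
  have key : ∀ (k : ℕ) (g₀ : L), g₀⁻¹ * z ^ k * g₀ ∈ (T : Subgroup L) → g₀⁻¹ * z ^ k * g₀ = z ^ k := by
    intro k g₀ _
    have := hcz (z ^ k) (Subgroup.pow_mem _ hz k) g₀
    rw [mul_assoc, ← this, inv_mul_cancel_left]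
  have h1 := MonoidHom.transfer_eq_pow (MonoidHom.id (T : Subgroup L)) z key
  have h2 : MonoidHom.transfer (MonoidHom.id (T : Subgroup L)) z = 1 := by
    have hle := Abelianization.commutator_subset_ker (MonoidHom.transfer (MonoidHom.id (T : Subgroup L)))
    rw [hperf] at hle
    exact hle (Subgroup.mem_top z)
  rw [h2] at h1
  have h3 : z ^ (T : Subgroup L).index = 1 := by
    have := congrArg Subtype.val h1
    simpa using this.symm
  have hodd : ¬ 2 ∣ (T : Subgroup L).index := T.not_dvd_index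
  obtain ⟨k, hk⟩ : ∃ k, (T : Subgroup L).index = 2 * k + 1 := ⟨(T : Subgroup L).index / 2, by omega⟩
  rw [hk, pow_succ, pow_mul, pow_two, hexp z hz, one_pow, one_mul] at h3
  exact h3

/-- no nontrivial perfect central `2`-extension of a group with a good Sylow `2`-subgroup -/
theorem center_eq_bot_of_good {G : Type*} [Group G] (S : Sylow 2 G) (hS : IsGoodSylow S)
    {L : Type*} [Group L] [Finite L] (Z : Subgroup L) [Z.Normal] (hperf : commutator L = ⊤)
    (hZ : Z ≤ Subgroup.center L) (h2 : IsPGroup 2 Z) (e : L ⧸ Z ≃* G) : Z = ⊥ := by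
  classical
  by_contra hne
  have : Fact (Nat.Prime 2) := ⟨Nat.prime_two⟩
  obtain ⟨k, hk⟩ := IsPGroup.exists_card_eq h2
  have hk0 : k ≠ 0 := by
    rintro rfl
    rw [pow_zero] at hk
    exact hne (Subgroup.eq_bot_of_card_eq Z hk)
  obtain ⟨K, hK⟩ := Sylow.exists_subgroup_card_pow_prime (G := Z) 2 (n := k - 1)
    (by rw [hk]; exact pow_dvd_pow 2 (Nat.sub_le k 1))
  have hKidx : K.index = 2 := by
    have h1 := K.card_mul_index
    rw [hK, hk] at h1
    have h3 : 2 ^ k = 2 ^ (k - 1) * 2 := by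
      rw [← pow_succ]
      congr 1
      omega
    rw [h3] at h1
    exact Nat.eq_of_mul_eq_mul_left (by positivity) h1
  set Z₀ : Subgroup L := K.map Z.subtype with hZ₀
  have hZ₀Z : Z₀ ≤ Z := by
    rintro _ ⟨w, _, rfl⟩
    exact w.2
  have hZ₀card : Nat.card Z₀ = 2 ^ (k - 1) := by
    rw [hZ₀, Subgroup.card_map_of_injective Z.subtype_injective, hK]
  have hZ₀n : Z₀.Normal := by
    constructor
    intro n hn g
    have := Subgroup.mem_center_iff.1 (hZ (hZ₀Z hn)) g
    rw [this, mul_inv_cancel_right]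
    exact hn
  set φ : L →* G := e.toMonoidHom.comp (QuotientGroup.mk' Z) with hφ
  have hφker : φ.ker = Z := by
    ext x
    rw [MonoidHom.mem_ker, hφ, MonoidHom.comp_apply]
    show e ((QuotientGroup.mk' Z) x) = 1 ↔ x ∈ Z
    rw [MulEquiv.map_eq_one_iff, QuotientGroup.mk'_apply, QuotientGroup.eq_one_iff]
  have hφsurj : Function.Surjective φ := by
    intro g
    obtain ⟨w, hw⟩ := e.surjective g
    obtain ⟨l, rfl⟩ := QuotientGroup.mk_surjective w
    exact ⟨l, hw⟩
  have hle : Z₀ ≤ φ.ker := by rw [hφker]; exact hZ₀Z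
  set ψ : L ⧸ Z₀ →* G := QuotientGroup.lift Z₀ φ hle with hψ
  have hψker : ψ.ker = Z.map (QuotientGroup.mk' Z₀) := by
    rw [hψ, QuotientGroup.ker_lift, hφker]
  have hψsurj : Function.Surjective ψ := by
    intro g
    obtain ⟨l, rfl⟩ := hφsurj g
    exact ⟨(l : L ⧸ Z₀), rfl⟩
  have hcen : ψ.ker ≤ Subgroup.center (L ⧸ Z₀) := by
    rw [hψker]
    rintro _ ⟨z, hz, rfl⟩
    rw [Subgroup.mem_center_iff]
    intro w
    obtain ⟨l, rfl⟩ := QuotientGroup.mk_surjective w
    have := Subgroup.mem_center_iff.1 (hZ hz) l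
    show (QuotientGroup.mk' Z₀) l * (QuotientGroup.mk' Z₀) z = (QuotientGroup.mk' Z₀) z * (QuotientGroup.mk' Z₀) l
    rw [← map_mul, ← map_mul, this]
  have hexp : ∀ w ∈ ψ.ker, w * w = 1 := by
    rw [hψker]
    rintro _ ⟨z, hz, rfl⟩
    rw [← map_mul, QuotientGroup.mk'_apply, QuotientGroup.eq_one_iff]
    have := Subgroup.mul_self_mem_of_index_two hKidx (⟨z, hz⟩ : Z)
    exact ⟨_, this, rfl⟩
  have hperf' : commutator (L ⧸ Z₀) = ⊤ := by
    have h1 : (commutator L).map (QuotientGroup.mk' Z₀) = commutator (L ⧸ Z₀) := by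
      rw [commutator_def, commutator_def, Subgroup.map_commutator,
        Subgroup.map_top_of_surjective _ (QuotientGroup.mk'_surjective Z₀)]
    rw [← h1, hperf, Subgroup.map_top_of_surjective _ (QuotientGroup.mk'_surjective Z₀)]
  have hfin := ker_eq_bot_of_good ψ hψsurj hcen hexp hperf' S hS
  rw [hψker, Subgroup.map_eq_bot_iff, QuotientGroup.ker_mk'] at hfin
  have hcard := Subgroup.card_le_of_le hfin
  rw [hk, hZ₀card] at hcard
  have : 2 ^ (k - 1) < 2 ^ k := Nat.pow_lt_pow_right (by norm_num) (by omega)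
  omega

end Cfsg.Agent.Lib.Helper15.JR
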