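import Mathlib
import Cfsg.Prelude.Def_Solvable
set_option autoImplicit false
namespace Cfsg.Agent.Lib.Helper15.JR

theorem center_eq_bot_of_simple {G : Type*} [Group G] [IsSimpleGroup G]
    (hG : ¬ ∀ a b : G, a * b = b * a) : Subgroup.center G = ⊥ := by
  rcases (Subgroup.instNormalCenter (G := G)).eq_bot_or_eq_top with h | h
  · exact h
  · exfalso
    apply hG
    intro a b
    have ha : a ∈ Subgroup.center G := by rw [h]; exact Subgroup.mem_top a
    exact (Subgroup.mem_center_iff.1 ha b).symm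

theorem pPrimeCore_eq_bot_of_simple {G : Type*} [Group G] [Finite G] [IsSimpleGroup G] (x : G)
    (hx : orderOf x = 2) : Cfsg.pPrimeCore 2 G = ⊥ := by
  rw [Cfsg.pPrimeCore, eq_bot_iff]
  apply sSup_le
  rintro K ⟨hKn, hKc⟩
  rcases hKn.eq_bot_or_eq_top with h | h
  · rw [h]
  · exfalso
    rw [h, Subgroup.card_top] at hKc
    have h2 : 2 ∣ Nat.card G := by
      rw [← hx]; exact orderOf_dvd_natCard x
    have := Nat.Coprime.eq_one_of_dvd hKc.symm h2
    omega

/-- a Sylow `2`-subgroup of `E` lies in the normal subgroup `N` if `C_E(N) = 1` and `2`-automorphisms of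
`N` centralizing a Sylow `2`-subgroup are inner -/
theorem sylow_le_of_inner {E : Type*} [Group E] (N : Subgroup E) [N.Normal]
    (hNc : Subgroup.centralizer (N : Set E) = ⊥)
    (Q : Sylow 2 E) (hQ : ∀ a ∈ (Q : Subgroup E), ∀ b ∈ (Q : Subgroup E), a * b = b * a)
    (V : Sylow 2 N) (hVQ : ∀ y ∈ (V : Subgroup N), (y : E) ∈ (Q : Subgroup E))
    (hinner : ∀ α : MulAut N, (∃ j : ℕ, orderOf α = 2 ^ j) → (∀ y ∈ (V : Subgroup N), α y = y) →
      ∃ n : N, ∀ y : N, α y = n * y * n⁻¹) :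
    (Q : Subgroup E) ≤ N := by
  intro x hx
  have h1 : ∃ j : ℕ, orderOf (MulAut.conjNormal x : MulAut N) = 2 ^ j := by
    obtain ⟨k, hk⟩ := Q.isPGroup' ⟨x, hx⟩
    have hk' : x ^ 2 ^ k = 1 := by
      have := congrArg Subtype.val hk
      rwa [Subgroup.coe_pow, Subgroup.coe_one] at this
    have hd : orderOf (MulAut.conjNormal x : MulAut N) ∣ 2 ^ k := by
      apply orderOf_dvd_of_pow_eq_one
      rw [← map_pow, hk', map_one]
    obtain ⟨j, _, hj⟩ := (Nat.dvd_prime_pow Nat.prime_two).1 hd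
    exact ⟨j, hj⟩
  have h2 : ∀ y ∈ (V : Subgroup N), (MulAut.conjNormal x : MulAut N) y = y := by
    intro y hy
    apply Subtype.ext
    rw [MulAut.conjNormal_apply, hQ x hx _ (hVQ y hy), mul_inv_cancel_right]
  obtain ⟨n, hn⟩ := hinner _ h1 h2
  have h3 : (n : E)⁻¹ * x ∈ Subgroup.centralizer (N : Set E) := by
    rw [Subgroup.mem_centralizer_iff]
    intro y hy
    have := congrArg Subtype.val (hn ⟨y, hy⟩)
    rw [MulAut.conjNormal_apply] at this
    simp only [Subgroup.coe_mul, Subgroup.coe_inv] at this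
    calc y * ((n : E)⁻¹ * x) = (n : E)⁻¹ * ((n : E) * y * (n : E)⁻¹) * x := by group
      _ = (n : E)⁻¹ * (x * y * x⁻¹) * x := by rw [← this]
      _ = (n : E)⁻¹ * x * y := by group
  rw [hNc, Subgroup.mem_bot] at h3
  have : x = (n : E) := by
    calc x = (n : E) * ((n : E)⁻¹ * x) := by group
      _ = (n : E) := by rw [h3, mul_one]
  rw [this]
  exact n.2

/-- the orbit of an element of an abelian Sylow `2`-subgroup under its normalizer has odd length -/
theorem odd_orbit {G : Type*} [Group G] [Finite G] (S₀ : Sylow 2 G)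
    (hcomm : ∀ a ∈ (S₀ : Subgroup G), ∀ b ∈ (S₀ : Subgroup G), a * b = b * a) (t : G)
    (ht : t ∈ (S₀ : Subgroup G)) :
    ¬ 2 ∣ Set.ncard {x : G | ∃ n ∈ Subgroup.normalizer ((S₀ : Subgroup G) : Set G), n * t * n⁻¹ = x} := by
  classical
  set A := Subgroup.normalizer ((S₀ : Subgroup G) : Set G) with hA
  let act : MulAction A G := MulAction.compHom G ((MulAut.conj : G →* MulAut G).comp A.subtype)
  have hsmul : ∀ (a : A) (x : G), a • x = (a : G) * x * (a : G)⁻¹ := fun a x => rfl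
  have horb : {x : G | ∃ n ∈ A, n * t * n⁻¹ = x} = MulAction.orbit A t := by
    ext x
    constructor
    · rintro ⟨n, hn, rfl⟩
      exact ⟨⟨n, hn⟩, rfl⟩
    · rintro ⟨⟨n, hn⟩, rfl⟩
      exact ⟨n, hn, rfl⟩
  rw [horb, ← MulAction.index_stabilizer]
  have hle : (S₀ : Subgroup G).subgroupOf A ≤ MulAction.stabilizer A t := by
    intro a ha
    rw [Subgroup.mem_subgroupOf] at ha
    rw [MulAction.mem_stabilizer_iff, hsmul, hcomm _ ha _ ht, mul_inv_cancel_right]
  have h1 := Subgroup.index_dvd_of_le hle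
  have h2 : ((S₀ : Subgroup G).subgroupOf A).index ∣ (S₀ : Subgroup G).index :=
    Subgroup.relIndex_dvd_index_of_le Subgroup.le_normalizer
  have : Fact (Nat.Prime 2) := ⟨Nat.prime_two⟩
  intro h
  exact S₀.not_dvd_index (dvd_trans h (dvd_trans h1 h2))

end Cfsg.Agent.Lib.Helper15.JR
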