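import Mathlib
import Cfsg.Agent.Lib.Helper15.JR3
set_option autoImplicit false
namespace Cfsg.Agent.Lib.Helper15.JR

theorem conj_mul_eq {G : Type*} [Group G] (d a b : G) :
    d * (a * b) * d⁻¹ = (d * a * d⁻¹) * (d * b * d⁻¹) := by group

/-- transitivity of the normalizer of an elementary abelian Sylow `2`-subgroup of order `8` on its
involutions, from a non-isolated involution `t` and an element `d` of order three centralizing `t` -/
theorem conj_transitive {G : Type*} [Group G] [Finite G] (S₀ : Sylow 2 G)
    (hcomm : ∀ a ∈ (S₀ : Subgroup G), ∀ b ∈ (S₀ : Subgroup G), a * b = b * a)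
    (t u v d : G)
    (hmem : ∀ s, s ∈ (S₀ : Subgroup G) ↔ s = 1 ∨ s = u ∨ s = v ∨ s = u * v ∨ s = t ∨ s = t * u ∨ s = t * v ∨
      s = t * (u * v))
    (hv : v * v = 1)
    (ht1 : t ≠ 1) (hu1 : u ≠ 1) (hv1 : v ≠ 1) (huv : u ≠ v) (htu : t ≠ u) (htv : t ≠ v) (htuv : t ≠ u * v)
    (hdt : d * t * d⁻¹ = t) (hdu : d * u * d⁻¹ = v) (hdv : d * v * d⁻¹ = u * v)
    (hniso : ∃ g : G, g * t * g⁻¹ ∈ (S₀ : Subgroup G) ∧ g * t * g⁻¹ ≠ t) :
    ∀ x ∈ (S₀ : Subgroup G), x ≠ 1 → ∃ g : G, g * t * g⁻¹ = x := by
  classical
  have htS : t ∈ (S₀ : Subgroup G) := (hmem t).2 (Or.inr (Or.inr (Or.inr (Or.inr (Or.inl rfl)))))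
  have huS : u ∈ (S₀ : Subgroup G) := (hmem u).2 (Or.inr (Or.inl rfl))
  have hvS : v ∈ (S₀ : Subgroup G) := (hmem v).2 (Or.inr (Or.inr (Or.inl rfl)))
  have cuv : u * v = v * u := hcomm u huS v hvS
  have hduv : d * (u * v) * d⁻¹ = u := by
    rw [conj_mul_eq, hdu, hdv, ← mul_assoc, ← cuv, mul_assoc, hv, mul_one]
  have hdtu : d * (t * u) * d⁻¹ = t * v := by rw [conj_mul_eq, hdt, hdu]
  have hdtv : d * (t * v) * d⁻¹ = t * (u * v) := by rw [conj_mul_eq, hdt, hdv]
  have hdtuv : d * (t * (u * v)) * d⁻¹ = t * u := by rw [conj_mul_eq, hdt, hduv]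
  set A := Subgroup.normalizer ((S₀ : Subgroup G) : Set G) with hA
  -- `d` normalizes `S₀`
  have hdA : d ∈ A := by
    have hle : (S₀ : Subgroup G).map (MulAut.conj d).toMonoidHom ≤ (S₀ : Subgroup G) := by
      rintro _ ⟨s, hs, rfl⟩
      show d * s * d⁻¹ ∈ (S₀ : Subgroup G)
      rcases (hmem s).1 hs with h | h | h | h | h | h | h | h
      · rw [h, mul_one, mul_inv_cancel]; exact Subgroup.one_mem _
      · rw [h, hdu]; exact hvS
      · rw [h, hdv]; exact Subgroup.mul_mem _ huS hvS
      · rw [h, hduv]; exact huS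
      · rw [h, hdt]; exact htS
      · rw [h, hdtu]; exact Subgroup.mul_mem _ htS hvS
      · rw [h, hdtv]; exact Subgroup.mul_mem _ htS (Subgroup.mul_mem _ huS hvS)
      · rw [h, hdtuv]; exact Subgroup.mul_mem _ htS huS
    rw [hA, Subgroup.mem_normalizer_iff_map_conj_eq]
    apply Subgroup.eq_of_le_of_card_ge hle
    rw [Subgroup.card_map_of_injective (MulAut.conj d).injective]
  set O : Set G := {x : G | ∃ n ∈ A, n * t * n⁻¹ = x} with hO
  have hodd : ¬ 2 ∣ O.ncard := odd_orbit S₀ hcomm t htS
  have hOS : ∀ x ∈ O, x ∈ (S₀ : Subgroup G) := by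
    rintro _ ⟨n, hn, rfl⟩
    exact (Subgroup.mem_normalizer_iff.1 hn t).1 htS
  have hO1 : (1 : G) ∉ O := by
    rintro ⟨n, hn, h⟩
    apply ht1
    calc t = n⁻¹ * (n * t * n⁻¹) * n := by group
      _ = 1 := by rw [h, mul_one, inv_mul_cancel]
  have hOt : t ∈ O := ⟨1, Subgroup.one_mem _, by rw [one_mul, inv_one, mul_one]⟩
  have hOd : ∀ x ∈ O, d * x * d⁻¹ ∈ O := by
    rintro _ ⟨n, hn, rfl⟩
    refine ⟨d * n, Subgroup.mul_mem _ hdA hn, by group⟩
  obtain ⟨x₁, hx₁O, hx₁t⟩ : ∃ x₁ ∈ O, x₁ ≠ t := by
    obtain ⟨g, hgS, hgt⟩ := hniso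
    have : IsMulCommutative S₀ := ⟨⟨fun a b => Subtype.ext (hcomm a a.2 b b.2)⟩⟩
    have : Fact (Nat.Prime 2) := ⟨Nat.prime_two⟩
    have hy : (g⁻¹)⁻¹ * t * g⁻¹ ∈ S₀ := by rw [inv_inv]; exact hgS
    obtain ⟨n, hn, hgn⟩ := Sylow.conj_eq_normalizer_conj_of_mem S₀ t g⁻¹ htS hy
    rw [inv_inv] at hgn
    refine ⟨g * t * g⁻¹, ⟨n⁻¹, Subgroup.inv_mem _ hn, ?_⟩, hgt⟩
    rw [inv_inv, hgn]
  -- closure properties under `d`
  have hu_v : u ∈ O → v ∈ O := fun h => by have := hOd u h; rwa [hdu] at this
  have hv_uv : v ∈ O → u * v ∈ O := fun h => by have := hOd v h; rwa [hdv] at this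
  have huv_u : u * v ∈ O → u ∈ O := fun h => by have := hOd _ h; rwa [hduv] at this
  have htu_tv : t * u ∈ O → t * v ∈ O := fun h => by have := hOd _ h; rwa [hdtu] at this
  have htv_tuv : t * v ∈ O → t * (u * v) ∈ O := fun h => by have := hOd _ h; rwa [hdtv] at this
  have htuv_tu : t * (u * v) ∈ O → t * u ∈ O := fun h => by have := hOd _ h; rwa [hdtuv] at this
  -- distinctness facts
  have n1 : u ≠ u * v := fun h => hv1 (by
    have : u * 1 = u * v := by rw [mul_one]; exact h
    exact (mul_left_cancel this).symm)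
  have n2 : v ≠ u * v := fun h => hu1 (by
    have : 1 * v = u * v := by rw [one_mul]; exact h
    exact (mul_right_cancel this).symm)
  have n3 : u * v ≠ 1 := fun h => huv (by
    calc u = u * (v * v) := by rw [hv, mul_one]
      _ = (u * v) * v := by group
      _ = v := by rw [h, one_mul])
  have key : ∀ x ∈ (S₀ : Subgroup G), x ≠ 1 → x ∈ O := by
    by_cases hu : u ∈ O
    · by_cases htu' : t * u ∈ O
      · intro x hx hx1
        rcases (hmem x).1 hx with h | h | h | h | h | h | h | h
        · exact absurd h hx1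
        · rw [h]; exact hu
        · rw [h]; exact hu_v hu
        · rw [h]; exact hv_uv (hu_v hu)
        · rw [h]; exact hOt
        · rw [h]; exact htu'
        · rw [h]; exact htu_tv htu'
        · rw [h]; exact htv_tuv (htu_tv htu')
      · exfalso
        have hOeq : O = {t, u, v, u * v} := by
          ext x
          simp only [Set.mem_insert_iff, Set.mem_singleton_iff]
          constructor
          · intro hx
            rcases (hmem x).1 (hOS x hx) with h | h | h | h | h | h | h | h
            · rw [h] at hx; exact absurd hx hO1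
            · exact Or.inr (Or.inl h)
            · exact Or.inr (Or.inr (Or.inl h))
            · exact Or.inr (Or.inr (Or.inr h))
            · exact Or.inl h
            · rw [h] at hx; exact absurd hx htu'
            · rw [h] at hx; exact absurd (htuv_tu (htv_tuv hx)) htu'
            · rw [h] at hx; exact absurd (htuv_tu hx) htu'
          · rintro (h | h | h | h)
            · rw [h]; exact hOt
            · rw [h]; exact hu
            · rw [h]; exact hu_v hu
            · rw [h]; exact hv_uv (hu_v hu)
        apply hodd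
        rw [hOeq]
        have : ({t, u, v, u * v} : Set G).ncard = 4 := by
          rw [Set.ncard_insert_of_notMem, Set.ncard_insert_of_notMem, Set.ncard_pair n2]
          · simp only [Set.mem_insert_iff, Set.mem_singleton_iff, not_or]
            exact ⟨huv, n1⟩
          · simp only [Set.mem_insert_iff, Set.mem_singleton_iff, not_or]
            exact ⟨htu, htv, htuv⟩
        rw [this]
        norm_num
    · by_cases htu' : t * u ∈ O
      · exfalso
        have hOeq : O = {t, t * u, t * v, t * (u * v)} := by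
          ext x
          simp only [Set.mem_insert_iff, Set.mem_singleton_iff]
          constructor
          · intro hx
            rcases (hmem x).1 (hOS x hx) with h | h | h | h | h | h | h | h
            · rw [h] at hx; exact absurd hx hO1
            · rw [h] at hx; exact absurd hx hu
            · rw [h] at hx; exact absurd (huv_u (hv_uv hx)) hu
            · rw [h] at hx; exact absurd (huv_u hx) hu
            · exact Or.inl h
            · exact Or.inr (Or.inl h)
            · exact Or.inr (Or.inr (Or.inl h))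
            · exact Or.inr (Or.inr (Or.inr h))
          · rintro (h | h | h | h)
            · rw [h]; exact hOt
            · rw [h]; exact htu'
            · rw [h]; exact htu_tv htu'
            · rw [h]; exact htv_tuv (htu_tv htu')
        apply hodd
        rw [hOeq]
        have : ({t, t * u, t * v, t * (u * v)} : Set G).ncard = 4 := by
          rw [Set.ncard_insert_of_notMem, Set.ncard_insert_of_notMem, Set.ncard_pair]
          · intro h; exact n2 (mul_left_cancel h)
          · simp only [Set.mem_insert_iff, Set.mem_singleton_iff, not_or]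
            exact ⟨fun h => huv (mul_left_cancel h), fun h => n1 (mul_left_cancel h)⟩
          · simp only [Set.mem_insert_iff, Set.mem_singleton_iff, not_or]
            refine ⟨fun h => hu1 ?_, fun h => hv1 ?_, fun h => n3 ?_⟩
            · have : t * 1 = t * u := by rw [mul_one]; exact h
              exact (mul_left_cancel this).symm
            · have : t * 1 = t * v := by rw [mul_one]; exact h
              exact (mul_left_cancel this).symm
            · have : t * 1 = t * (u * v) := by rw [mul_one]; exact h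
              exact (mul_left_cancel this).symm
        rw [this]
        norm_num
      · exfalso
        apply hx₁t
        rcases (hmem x₁).1 (hOS x₁ hx₁O) with h | h | h | h | h | h | h | h
        · rw [h] at hx₁O; exact absurd hx₁O hO1
        · rw [h] at hx₁O; exact absurd hx₁O hu
        · rw [h] at hx₁O; exact absurd (huv_u (hv_uv hx₁O)) hu
        · rw [h] at hx₁O; exact absurd (huv_u hx₁O) hu
        · exact h
        · rw [h] at hx₁O; exact absurd hx₁O htu'
        · rw [h] at hx₁O; exact absurd (htuv_tu (htv_tuv hx₁O)) htu'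
        · rw [h] at hx₁O; exact absurd (htuv_tu hx₁O) htu'
  intro x hx hx1
  obtain ⟨n, _, hn⟩ := key x hx hx1
  exact ⟨n, hn⟩

end Cfsg.Agent.Lib.Helper15.JR
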