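import Mathlib
import Cfsg.Prelude.Def_TwoFusion
import Cfsg.Agent.S4593
import Cfsg.Agent.Lib.Helper15.JR1
import Cfsg.Agent.Lib.Helper15.JR2
import Cfsg.Agent.Lib.Helper15.JR4
import Cfsg.Agent.Lib.Helper15.Dk16a
set_option autoImplicit false
namespace Cfsg.Agent.Lib.Helper15.JR

open Cfsg.Agent.Lib.Helper14
open Cfsg.Agent.Lib.Helper15

theorem sq_mul_of_comm {G : Type*} [Group G] (a b : G) (hab : a * b = b * a) (ha : a * a = 1)
    (hb : b * b = 1) : (a * b) * (a * b) = 1 := by
  calc (a * b) * (a * b) = a * (b * a) * b := by group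
    _ = a * (a * b) * b := by rw [hab]
    _ = (a * a) * (b * b) := by group
    _ = 1 := by rw [ha, hb, one_mul]

set_option maxHeartbeats 1600000 in
/-- the Sylow `2`-subgroup of a group of Janko–Ree type -/
theorem exists_good_sylow {G : Type*} [Group G] [Finite G] [IsSimpleGroup G]
    (hG : ¬ IsMulCommutative G) (hab : ∀ S : Sylow 2 G, IsMulCommutative ↥(S : Subgroup G))
    (t : G) (ht : orderOf t = 2)
    (E : Subgroup G)
    (hE : Cfsg.IsInternalDirectProduct (Subgroup.zpowers t) E (Subgroup.centralizer ({t} : Set G)))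
    {F : Type*} [Field F] [Fintype F] (hFo : Odd (Fintype.card F)) (hF3 : 3 < Fintype.card F)
    (N : Subgroup ↥E) [N.Normal] (hN : Nonempty (↥N ≃* Matrix.ProjectiveSpecialLinearGroup (Fin 2) F))
    (hNc : Subgroup.centralizer (N : Set ↥E) = ⊥) :
    ∃ S : Sylow 2 G, IsGoodSylow S := by
  classical
  obtain ⟨e⟩ := hN
  have hp2 : Fact (Nat.Prime 2) := ⟨Nat.prime_two⟩
  have h2F : (2 : F) ≠ 0 := two_ne_zero_of_odd hFo
  have hGc : ¬ ∀ a b : G, a * b = b * a := fun h => hG ⟨⟨h⟩⟩
  have hcenG : Subgroup.center G = ⊥ := center_eq_bot_of_simple hGc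
  have ht1 : t ≠ 1 := by
    rintro rfl
    rw [orderOf_one] at ht
    omega
  have htt : t * t = 1 := by rw [← pow_two, ← ht, pow_orderOf_eq_one]
  obtain ⟨hE1, hE2, hE3, hE4, hE5⟩ := hE
  have htE : ∀ x ∈ E, t * x = x * t := fun x hx => hE3 t (Subgroup.mem_zpowers t) x hx
  have htnE : t ∉ E := fun h => ht1 (by
    have : t ∈ Subgroup.zpowers t ⊓ E := ⟨Subgroup.mem_zpowers t, h⟩
    rwa [hE4, Subgroup.mem_bot] at this)
  -- `N` is simple
  have hPs : IsSimpleGroup (Matrix.ProjectiveSpecialLinearGroup (Fin 2) F) :=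
    Matrix.ProjectiveSpecialLinearGroup.rank_two_simple (by rw [Nat.card_eq_fintype_card]; omega)
  have hNs : IsSimpleGroup N := e.isSimpleGroup
  have hNnc : ¬ ∀ a b : N, a * b = b * a := by
    intro h
    apply Dk.not_comm_PSL2 (F := F)
    intro a b
    have := h (e.symm a) (e.symm b)
    rw [← map_mul, ← map_mul] at this
    exact e.symm.injective this
  have hcenN : Subgroup.center N = ⊥ := center_eq_bot_of_simple hNnc
  have hcoreN : Cfsg.pPrimeCore 2 N = ⊥ := by
    obtain ⟨h1, h3⟩ := (toPSL2_invol_iff h2F (w0 F)).2 w0_sq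
    apply pPrimeCore_eq_bot_of_simple (e.symm (toPSL2 F (w0 F)))
    rw [MulEquiv.orderOf_eq]
    exact orderOf_eq_prime (by rw [pow_two]; exact h3) h1
  -- Sylow subgroups of `N` and `E`
  obtain ⟨V⟩ : Nonempty (Sylow 2 N) := inferInstance
  have hVp : IsPGroup 2 ((V : Subgroup N).map N.subtype) := V.isPGroup'.map _
  obtain ⟨Q, hVQ'⟩ := hVp.exists_le_sylow
  have hVQ : ∀ y ∈ (V : Subgroup N), (y : E) ∈ (Q : Subgroup E) := fun y hy => hVQ' ⟨y, hy, rfl⟩
  have hQp : IsPGroup 2 ((Q : Subgroup E).map E.subtype) := Q.isPGroup'.map _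
  obtain ⟨S₁, hQS₁⟩ := hQp.exists_le_sylow
  have hQc : ∀ a ∈ (Q : Subgroup E), ∀ b ∈ (Q : Subgroup E), a * b = b * a := by
    intro a ha b hb
    have ha' : (a : G) ∈ (S₁ : Subgroup G) := hQS₁ ⟨a, ha, rfl⟩
    have hb' : (b : G) ∈ (S₁ : Subgroup G) := hQS₁ ⟨b, hb, rfl⟩
    have := (hab S₁).is_comm.comm ⟨(a : G), ha'⟩ ⟨(b : G), hb'⟩
    apply Subtype.ext
    show (a : G) * (b : G) = (b : G) * (a : G)
    exact congrArg Subtype.val this
  have hVc : ∀ a ∈ (V : Subgroup N), ∀ b ∈ (V : Subgroup N), a * b = b * a := by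
    intro a ha b hb
    apply Subtype.ext
    exact hQc _ (hVQ a ha) _ (hVQ b hb)
  have hinner : ∀ α : MulAut N, (∃ j : ℕ, orderOf α = 2 ^ j) → (∀ y ∈ (V : Subgroup N), α y = y) →
      ∃ n : N, ∀ y : N, α y = n * y * n⁻¹ := by
    intro α h1 h2
    have hVI : IsMulCommutative (V : Subgroup N) := ⟨⟨fun a b => Subtype.ext (hVc a a.2 b b.2)⟩⟩
    exact Cfsg.Agent.S4593.result hcenN hcoreN V hVI α h1 h2
  have hQN : (Q : Subgroup E) ≤ N := sylow_le_of_inner N hNc Q hQc V hVQ hinner
  obtain ⟨u, v, d, hu1, hv1, huv, huu, hvv, hcuv, hVmem, hdu, hdv⟩ :=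
    klein_of_abelian_sylow_iso hFo e V hVc
  have hQV : ∀ x ∈ (Q : Subgroup E), ∃ y ∈ (V : Subgroup N), (y : E) = x := by
    intro x hx
    have hQ' : IsPGroup 2 ((Q : Subgroup E).comap N.subtype) :=
      Q.isPGroup'.comap_of_injective N.subtype N.subtype_injective
    have hle : (V : Subgroup N) ≤ (Q : Subgroup E).comap N.subtype := fun y hy => hVQ y hy
    have hmax := V.is_maximal' hQ' hle
    refine ⟨⟨x, hQN hx⟩, ?_, rfl⟩
    have : (⟨x, hQN hx⟩ : N) ∈ (Q : Subgroup E).comap N.subtype := hx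
    rw [hmax] at this
    exact this
  -- the embedding of `N` into `G`
  set ι : N →* G := E.subtype.comp N.subtype with hι
  have hιinj : Function.Injective ι := E.subtype_injective.comp N.subtype_injective
  have hιE : ∀ y : N, ι y ∈ E := fun y => (y : E).2
  have hιt : ∀ y : N, t * ι y = ι y * t := fun y => htE _ (hιE y)
  have hιne : ∀ y : N, t ≠ ι y := fun y h => htnE (h ▸ hιE y)
  -- the Sylow subgroup of `G`
  have htp : IsPGroup 2 (Subgroup.zpowers t) := by
    apply IsPGroup.of_card (n := 1)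
    rw [Nat.card_zpowers, ht, pow_one]
  have hEcen : E ≤ Subgroup.centralizer ((Subgroup.zpowers t : Subgroup G) : Set G) := by
    intro x hx
    rw [Subgroup.mem_centralizer_iff]
    intro a ha
    exact hE3 a ha x hx
  have hEnorm : E ≤ Subgroup.normalizer ((Subgroup.zpowers t : Subgroup G) : Set G) :=
    hEcen.trans (Subgroup.centralizer_le_normalizer _)
  have hQnorm : (Q : Subgroup E).map E.subtype ≤
      Subgroup.normalizer ((Subgroup.zpowers t : Subgroup G) : Set G) := by
    rintro _ ⟨x, _, rfl⟩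
    exact hEnorm x.2
  obtain ⟨S₀, hS₀⟩ := (hQp.to_sup_of_normal_right' htp hQnorm).exists_le_sylow
  have htS : t ∈ (S₀ : Subgroup G) := hS₀ (Subgroup.mem_sup_right (Subgroup.mem_zpowers t))
  have hQS : ∀ x ∈ (Q : Subgroup E), (x : G) ∈ (S₀ : Subgroup G) :=
    fun x hx => hS₀ (Subgroup.mem_sup_left ⟨x, hx, rfl⟩)
  have hS₀c : ∀ a ∈ (S₀ : Subgroup G), ∀ b ∈ (S₀ : Subgroup G), a * b = b * a := by
    intro a ha b hb
    have := (hab S₀).is_comm.comm ⟨a, ha⟩ ⟨b, hb⟩
    exact congrArg Subtype.val this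
  have hdecomp : ∀ s ∈ Subgroup.centralizer ({t} : Set G),
      ∃ a ∈ Subgroup.zpowers t, ∃ e' ∈ E, a * e' = s := by
    intro s hs
    rw [← hE5] at hs
    have h1 := Subgroup.coe_mul_of_right_le_normalizer_left (Subgroup.zpowers t) E hEnorm
    have hs' : s ∈ ((Subgroup.zpowers t ⊔ E : Subgroup G) : Set G) := hs
    rw [h1] at hs'
    obtain ⟨a, ha, e', he', h⟩ := Set.mem_mul.1 hs'
    exact ⟨a, ha, e', he', h⟩
  have hzp : ∀ a ∈ Subgroup.zpowers t, a = 1 ∨ a = t := by
    intro a ha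
    obtain ⟨k, rfl⟩ := Subgroup.mem_zpowers_iff.1 ha
    rcases Int.emod_two_eq_zero_or_one k with h | h
    · left
      obtain ⟨m, rfl⟩ : ∃ m, k = 2 * m := ⟨k / 2, by omega⟩
      rw [zpow_mul, zpow_two, htt, one_zpow]
    · right
      obtain ⟨m, rfl⟩ : ∃ m, k = 2 * m + 1 := ⟨k / 2, by omega⟩
      rw [zpow_add, zpow_mul, zpow_two, htt, one_zpow, one_mul, zpow_one]
  have hQmax : (S₀ : Subgroup G).comap E.subtype = (Q : Subgroup E) :=
    Q.is_maximal' (S₀.isPGroup'.comap_of_injective E.subtype E.subtype_injective) (fun x hx => hQS x hx)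
  have huV : u ∈ (V : Subgroup N) := (hVmem u).2 (Or.inr (Or.inl rfl))
  have hvV : v ∈ (V : Subgroup N) := (hVmem v).2 (Or.inr (Or.inr (Or.inl rfl)))
  have huS : ι u ∈ (S₀ : Subgroup G) := hQS _ (hVQ u huV)
  have hvS : ι v ∈ (S₀ : Subgroup G) := hQS _ (hVQ v hvV)
  have hmem : ∀ s, s ∈ (S₀ : Subgroup G) ↔ s = 1 ∨ s = ι u ∨ s = ι v ∨ s = ι u * ι v ∨ s = t ∨
      s = t * ι u ∨ s = t * ι v ∨ s = t * (ι u * ι v) := by
    intro s
    constructor
    · intro hs
      have hsC : s ∈ Subgroup.centralizer ({t} : Set G) := by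
        rw [Subgroup.mem_centralizer_singleton_iff]
        exact hS₀c s hs t htS
      obtain ⟨a, ha, e', he', rfl⟩ := hdecomp s hsC
      have haS : a ∈ (S₀ : Subgroup G) := (Subgroup.zpowers_le.2 htS) ha
      have he'S : e' ∈ (S₀ : Subgroup G) := by
        have := Subgroup.mul_mem _ (Subgroup.inv_mem _ haS) hs
        rwa [inv_mul_cancel_left] at this
      have he'Q : (⟨e', he'⟩ : E) ∈ (Q : Subgroup E) := by
        rw [← hQmax]; exact he'S
      obtain ⟨y, hyV, hy⟩ := hQV _ he'Q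
      have he'y : e' = ι y := by
        have := congrArg Subtype.val hy
        exact this.symm
      rcases hzp a ha with h' | h' <;> rcases (hVmem y).1 hyV with h | h | h | h
      · left; rw [h', he'y, h, map_one, one_mul]
      · right; left; rw [h', he'y, h, one_mul]
      · right; right; left; rw [h', he'y, h, one_mul]
      · right; right; right; left; rw [h', he'y, h, one_mul, map_mul]
      · right; right; right; right; left; rw [h', he'y, h, map_one, mul_one]
      · right; right; right; right; right; left; rw [h', he'y, h]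
      · right; right; right; right; right; right; left; rw [h', he'y, h]
      · right; right; right; right; right; right; right; rw [h', he'y, h, map_mul]
    · rintro (h | h | h | h | h | h | h | h)
      · rw [h]; exact Subgroup.one_mem _
      · rw [h]; exact huS
      · rw [h]; exact hvS
      · rw [h]; exact Subgroup.mul_mem _ huS hvS
      · rw [h]; exact htS
      · rw [h]; exact Subgroup.mul_mem _ htS huS
      · rw [h]; exact Subgroup.mul_mem _ htS hvS
      · rw [h]; exact Subgroup.mul_mem _ htS (Subgroup.mul_mem _ huS hvS)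
  -- relations in `G`
  have hu1' : ι u ≠ 1 := fun h => hu1 (hιinj (by rw [h, map_one]))
  have hv1' : ι v ≠ 1 := fun h => hv1 (hιinj (by rw [h, map_one]))
  have huv' : ι u ≠ ι v := fun h => huv (hιinj h)
  have huu' : ι u * ι u = 1 := by rw [← map_mul, huu, map_one]
  have hvv' : ι v * ι v = 1 := by rw [← map_mul, hvv, map_one]
  have hdt' : ι d * t * (ι d)⁻¹ = t := by rw [← hιt d, mul_inv_cancel_right]
  have hdu' : ι d * ι u * (ι d)⁻¹ = ι v := by rw [← map_inv, ← map_mul, ← map_mul, hdu]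
  have hdv' : ι d * ι v * (ι d)⁻¹ = ι u * ι v := by rw [← map_inv, ← map_mul, ← map_mul, hdv, map_mul]
  have htuv' : t ≠ ι u * ι v := by rw [← map_mul]; exact hιne _
  -- `t` is not isolated
  have hniso : ∃ g : G, g * t * g⁻¹ ∈ (S₀ : Subgroup G) ∧ g * t * g⁻¹ ≠ t := by
    by_contra hcon
    push Not at hcon
    obtain ⟨K, hKn, hKo, hK⟩ := Cfsg.Agent.S0215.result S₀ t ht htS hcon
    rcases hKn.eq_bot_or_eq_top with h | h
    · apply ht1
      have htc : t ∈ Subgroup.center G := by
        rw [Subgroup.mem_center_iff]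
        intro g
        have := hK g
        rw [h, Subgroup.mem_bot] at this
        calc g * t = (t * g * t⁻¹ * g⁻¹)⁻¹ * (t * g) := by group
          _ = t * g := by rw [this, inv_one, one_mul]
      rwa [hcenG, Subgroup.mem_bot] at htc
    · rw [h, Subgroup.card_top] at hKo
      have h2 : 2 ∣ Nat.card G := by
        rw [← ht]; exact orderOf_dvd_natCard t
      rw [Nat.odd_iff] at hKo
      omega
  have htrans := conj_transitive S₀ hS₀c t (ι u) (ι v) (ι d) hmem hvv' ht1 hu1' hv1' huv' (hιne u) (hιne v)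
    htuv' hdt' hdu' hdv' hniso
  refine ⟨S₀, ?_, ?_, ?_⟩
  · intro x hx
    have ctu : t * ι u = ι u * t := hιt u
    have ctv : t * ι v = ι v * t := hιt v
    have cuv : ι u * ι v = ι v * ι u := hS₀c _ huS _ hvS
    have huvuv : (ι u * ι v) * (ι u * ι v) = 1 := sq_mul_of_comm _ _ cuv huu' hvv'
    rcases (hmem x).1 hx with h | h | h | h | h | h | h | h
    · rw [h, one_mul]
    · rw [h]; exact huu'
    · rw [h]; exact hvv'
    · rw [h]; exact huvuv
    · rw [h]; exact htt
    · rw [h]; exact sq_mul_of_comm _ _ ctu htt huu'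
    · rw [h]; exact sq_mul_of_comm _ _ ctv htt hvv'
    · rw [h]
      refine sq_mul_of_comm _ _ ?_ htt huvuv
      rw [← map_mul]; exact hιt _
  · intro x hx y hy hx1 hy1
    obtain ⟨g, hg⟩ := htrans x hx hx1
    obtain ⟨k, hk⟩ := htrans y hy hy1
    refine ⟨k * g⁻¹, ?_⟩
    rw [← hg, ← hk]
    group
  · refine ⟨t, htS, ι u, huS, ι v, hvS, ht1, hu1', hv1', ?_, ?_, ?_, ?_⟩
    · intro h
      apply hιne u⁻¹
      rw [map_inv]
      exact eq_inv_of_mul_eq_one_left h
    · intro h
      apply hιne v⁻¹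
      rw [map_inv]
      exact eq_inv_of_mul_eq_one_left h
    · intro h
      apply huv'
      calc ι u = ι u * (ι v * ι v) := by rw [hvv', mul_one]
        _ = (ι u * ι v) * ι v := by group
        _ = ι v := by rw [h, one_mul]
    · intro h
      apply hιne (u * v)⁻¹
      rw [map_inv, map_mul]
      exact eq_inv_of_mul_eq_one_left h

end Cfsg.Agent.Lib.Helper15.JR
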