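import Cfsg.Agent.Lib.Helper15.M23ExtData
import Cfsg.Agent.Lib.Helper11.IcoChunk

set_option autoImplicit false
set_option maxRecDepth 100000
set_option maxHeartbeats 0

namespace Cfsg.Agent.Lib.Helper15.M23Ext.PD

open Cfsg.Agent.Lib.Helper28.BSGS Cfsg.Agent.Lib.Helper11.Ico

theorem sift0_6 : (tr0.all fun e => siftB 530 10 rest0 [(gens.getD 6 (0, 0)).1, e.2.1]) = true := by decide +kernel

theorem sift0_7 : (tr0.all fun e => siftB 530 10 rest0 [(gens.getD 7 (0, 0)).1, e.2.1]) = true := by decide +kernel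

theorem sift0_8 : (tr0.all fun e => siftB 530 10 rest0 [(gens.getD 8 (0, 0)).1, e.2.1]) = true := by decide +kernel

theorem sift0_9 : (tr0.all fun e => siftB 530 10 rest0 [(gens.getD 9 (0, 0)).1, e.2.1]) = true := by decide +kernel

theorem sift0_10 : (tr0.all fun e => siftB 530 10 rest0 [(gens.getD 10 (0, 0)).1, e.2.1]) = true := by decide +kernel

theorem sift0_11 : (tr0.all fun e => siftB 530 10 rest0 [(gens.getD 11 (0, 0)).1, e.2.1]) = true := by decide +kernel

end Cfsg.Agent.Lib.Helper15.M23Ext.PD
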