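import Cfsg.Agent.Lib.Helper15.M23ExtData
import Cfsg.Agent.Lib.Helper11.IcoChunk

set_option autoImplicit false
set_option maxRecDepth 100000
set_option maxHeartbeats 0

namespace Cfsg.Agent.Lib.Helper15.M23Ext.PD

open Cfsg.Agent.Lib.Helper28.BSGS Cfsg.Agent.Lib.Helper11.Ico

theorem sift3_12 : (tr3.all fun e => siftB 530 10 rest3 [((gens.drop 5).getD 12 (0, 0)).1, e.2.1]) = true := by decide +kernel

theorem sift3_13 : (tr3.all fun e => siftB 530 10 rest3 [((gens.drop 5).getD 13 (0, 0)).1, e.2.1]) = true := by decide +kernel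

theorem sift3_14 : (tr3.all fun e => siftB 530 10 rest3 [((gens.drop 5).getD 14 (0, 0)).1, e.2.1]) = true := by decide +kernel

theorem sift4_0 : (tr4.all fun e => siftB 530 10 rest4 [((gens.drop 6).getD 0 (0, 0)).1, e.2.1]) = true := by decide +kernel

theorem sift4_1 : (tr4.all fun e => siftB 530 10 rest4 [((gens.drop 6).getD 1 (0, 0)).1, e.2.1]) = true := by decide +kernel

theorem sift4_2 : (tr4.all fun e => siftB 530 10 rest4 [((gens.drop 6).getD 2 (0, 0)).1, e.2.1]) = true := by decide +kernel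

theorem sift4_3 : (tr4.all fun e => siftB 530 10 rest4 [((gens.drop 6).getD 3 (0, 0)).1, e.2.1]) = true := by decide +kernel

theorem sift4_4 : (tr4.all fun e => siftB 530 10 rest4 [((gens.drop 6).getD 4 (0, 0)).1, e.2.1]) = true := by decide +kernel

end Cfsg.Agent.Lib.Helper15.M23Ext.PD
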