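import Cfsg.Agent.Lib.Helper15.M23ExtData
import Cfsg.Agent.Lib.Helper11.IcoChunk

set_option autoImplicit false
set_option maxRecDepth 100000
set_option maxHeartbeats 0

namespace Cfsg.Agent.Lib.Helper15.M23Ext.PD

open Cfsg.Agent.Lib.Helper28.BSGS Cfsg.Agent.Lib.Helper11.Ico

theorem sift4_5 : (tr4.all fun e => siftB 530 10 rest4 [((gens.drop 6).getD 5 (0, 0)).1, e.2.1]) = true := by decide +kernel

theorem sift4_6 : (tr4.all fun e => siftB 530 10 rest4 [((gens.drop 6).getD 6 (0, 0)).1, e.2.1]) = true := by decide +kernel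

theorem sift4_7 : (tr4.all fun e => siftB 530 10 rest4 [((gens.drop 6).getD 7 (0, 0)).1, e.2.1]) = true := by decide +kernel

theorem sift4_8 : (tr4.all fun e => siftB 530 10 rest4 [((gens.drop 6).getD 8 (0, 0)).1, e.2.1]) = true := by decide +kernel

theorem sift4_9 : (tr4.all fun e => siftB 530 10 rest4 [((gens.drop 6).getD 9 (0, 0)).1, e.2.1]) = true := by decide +kernel

theorem sift4_10 : (tr4.all fun e => siftB 530 10 rest4 [((gens.drop 6).getD 10 (0, 0)).1, e.2.1]) = true := by decide +kernel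

theorem sift4_11 : (tr4.all fun e => siftB 530 10 rest4 [((gens.drop 6).getD 11 (0, 0)).1, e.2.1]) = true := by decide +kernel

theorem sift4_12 : (tr4.all fun e => siftB 530 10 rest4 [((gens.drop 6).getD 12 (0, 0)).1, e.2.1]) = true := by decide +kernel

end Cfsg.Agent.Lib.Helper15.M23Ext.PD
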