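import Cfsg.Agent.Lib.Helper15.M23ExtData
import Cfsg.Agent.Lib.Helper11.IcoChunk

set_option autoImplicit false
set_option maxRecDepth 100000
set_option maxHeartbeats 0

namespace Cfsg.Agent.Lib.Helper15.M23Ext.PD

open Cfsg.Agent.Lib.Helper28.BSGS Cfsg.Agent.Lib.Helper11.Ico

theorem sift4_13 : (tr4.all fun e => siftB 530 10 rest4 [((gens.drop 6).getD 13 (0, 0)).1, e.2.1]) = true := by decide +kernel

theorem sift5_0 : (tr5.all fun e => siftB 530 10 rest5 [((gens.drop 8).getD 0 (0, 0)).1, e.2.1]) = true := by decide +kernel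

theorem sift5_1 : (tr5.all fun e => siftB 530 10 rest5 [((gens.drop 8).getD 1 (0, 0)).1, e.2.1]) = true := by decide +kernel

theorem sift5_2 : (tr5.all fun e => siftB 530 10 rest5 [((gens.drop 8).getD 2 (0, 0)).1, e.2.1]) = true := by decide +kernel

theorem sift5_3 : (tr5.all fun e => siftB 530 10 rest5 [((gens.drop 8).getD 3 (0, 0)).1, e.2.1]) = true := by decide +kernel

theorem sift5_4 : (tr5.all fun e => siftB 530 10 rest5 [((gens.drop 8).getD 4 (0, 0)).1, e.2.1]) = true := by decide +kernel

theorem sift5_5 : (tr5.all fun e => siftB 530 10 rest5 [((gens.drop 8).getD 5 (0, 0)).1, e.2.1]) = true := by decide +kernel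

theorem sift5_6 : (tr5.all fun e => siftB 530 10 rest5 [((gens.drop 8).getD 6 (0, 0)).1, e.2.1]) = true := by decide +kernel

theorem sift5_7 : (tr5.all fun e => siftB 530 10 rest5 [((gens.drop 8).getD 7 (0, 0)).1, e.2.1]) = true := by decide +kernel

theorem sift5_8 : (tr5.all fun e => siftB 530 10 rest5 [((gens.drop 8).getD 8 (0, 0)).1, e.2.1]) = true := by decide +kernel

theorem sift5_9 : (tr5.all fun e => siftB 530 10 rest5 [((gens.drop 8).getD 9 (0, 0)).1, e.2.1]) = true := by decide +kernel

theorem sift5_10 : (tr5.all fun e => siftB 530 10 rest5 [((gens.drop 8).getD 10 (0, 0)).1, e.2.1]) = true := by decide +kernel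

theorem sift5_11 : (tr5.all fun e => siftB 530 10 rest5 [((gens.drop 8).getD 11 (0, 0)).1, e.2.1]) = true := by decide +kernel

end Cfsg.Agent.Lib.Helper15.M23Ext.PD
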