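import Cfsg.Agent.Lib.Helper15.M23ExtCertA
import Cfsg.Agent.Lib.Helper15.M23ExtCertS0
import Cfsg.Agent.Lib.Helper15.M23ExtCertS1
import Cfsg.Agent.Lib.Helper15.M23ExtCertS2
import Cfsg.Agent.Lib.Helper15.M23ExtCertS3
import Cfsg.Agent.Lib.Helper15.M23ExtCertS4
import Cfsg.Agent.Lib.Helper15.M23ExtCertS5
import Cfsg.Agent.Lib.Helper15.M23ExtCertS6
import Cfsg.Agent.Lib.Helper15.M23ExtCertS7
import Cfsg.Agent.Lib.Helper15.M23ExtCertS8
import Cfsg.Agent.Lib.Helper15.M23ExtCertS9
import Cfsg.Agent.Lib.Helper15.M23ExtCertS10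
import Cfsg.Agent.Lib.Helper15.M23ExtCertS11
import Cfsg.Agent.Lib.Helper15.M23ExtCertS12
import Cfsg.Agent.Lib.Helper15.M23ExtCertS13

/-!
# The verified Schreier–Sims chain of `2^11·M23` on 530 points (helper15, S2650)
-/

set_option autoImplicit false
set_option maxRecDepth 100000

namespace Cfsg.Agent.Lib.Helper15.M23Ext.PD

open Cfsg.Agent.Lib.Helper28.BSGS Cfsg.Agent.Lib.Helper11.Ico

theorem sift5_all :
    (gens.drop 8).all (fun g => tr5.all fun e => siftB 530 10 ((5, tr5) :: rest6) [g.1, e.2.1]) = true := by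
  apply all_getD (gens.drop 8) (0, 0)
  intro i hi
  rw [drop5_length] at hi
  interval_cases i
  · exact sift5_0
  · exact sift5_1
  · exact sift5_2
  · exact sift5_3
  · exact sift5_4
  · exact sift5_5
  · exact sift5_6
  · exact sift5_7
  · exact sift5_8
  · exact sift5_9
  · exact sift5_10
  · exact sift5_11

theorem level5_ok : levelOK 530 10 (gens.drop 8) (5, tr5) rest6 = true := by
  show ((decide ((5 : ℕ) < 530) && headOK 530 10 5 tr5 && tr5.all (entryOK 530 10 5) &&
    nodupB (tr5.map fun e => e.1) &&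
    orbitOK 10 (gens.drop 8) [5] ((tr5.map fun e => e.1).tail)) &&
    (gens.drop 8).all (fun g => tr5.all fun e => siftB 530 10 ((5, tr5) :: rest6) [g.1, e.2.1])) = true
  rw [Bool.and_eq_true]
  exact ⟨l5_static, sift5_all⟩

theorem chain5_ok : checkChain 530 10 (gens.drop 8) rest5 = true := by
  show (levelOK 530 10 (gens.drop 8) (5, tr5) rest6 &&
    checkChain 530 10 (nextGens 10 (gens.drop 8) 5) rest6) = true
  rw [level5_ok, nextGens5, chain6_ok]
  rfl

theorem sift4_all :
    (gens.drop 6).all (fun g => tr4.all fun e => siftB 530 10 ((4, tr4) :: rest5) [g.1, e.2.1]) = true := by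
  apply all_getD (gens.drop 6) (0, 0)
  intro i hi
  rw [drop4_length] at hi
  interval_cases i
  · exact sift4_0
  · exact sift4_1
  · exact sift4_2
  · exact sift4_3
  · exact sift4_4
  · exact sift4_5
  · exact sift4_6
  · exact sift4_7
  · exact sift4_8
  · exact sift4_9
  · exact sift4_10
  · exact sift4_11
  · exact sift4_12
  · exact sift4_13

theorem level4_ok : levelOK 530 10 (gens.drop 6) (4, tr4) rest5 = true := by
  show ((decide ((4 : ℕ) < 530) && headOK 530 10 4 tr4 && tr4.all (entryOK 530 10 4) &&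
    nodupB (tr4.map fun e => e.1) &&
    orbitOK 10 (gens.drop 6) [4] ((tr4.map fun e => e.1).tail)) &&
    (gens.drop 6).all (fun g => tr4.all fun e => siftB 530 10 ((4, tr4) :: rest5) [g.1, e.2.1])) = true
  rw [Bool.and_eq_true]
  exact ⟨l4_static, sift4_all⟩

theorem chain4_ok : checkChain 530 10 (gens.drop 6) rest4 = true := by
  show (levelOK 530 10 (gens.drop 6) (4, tr4) rest5 &&
    checkChain 530 10 (nextGens 10 (gens.drop 6) 4) rest5) = true
  rw [level4_ok, nextGens4, chain5_ok]
  rfl

theorem sift3_all :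
    (gens.drop 5).all (fun g => tr3.all fun e => siftB 530 10 ((3, tr3) :: rest4) [g.1, e.2.1]) = true := by
  apply all_getD (gens.drop 5) (0, 0)
  intro i hi
  rw [drop3_length] at hi
  interval_cases i
  · exact sift3_0
  · exact sift3_1
  · exact sift3_2
  · exact sift3_3
  · exact sift3_4
  · exact sift3_5
  · exact sift3_6
  · exact sift3_7
  · exact sift3_8
  · exact sift3_9
  · exact sift3_10
  · exact sift3_11
  · exact sift3_12
  · exact sift3_13
  · exact sift3_14

theorem level3_ok : levelOK 530 10 (gens.drop 5) (3, tr3) rest4 = true := by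
  show ((decide ((3 : ℕ) < 530) && headOK 530 10 3 tr3 && tr3.all (entryOK 530 10 3) &&
    nodupB (tr3.map fun e => e.1) &&
    orbitOK 10 (gens.drop 5) [3] ((tr3.map fun e => e.1).tail)) &&
    (gens.drop 5).all (fun g => tr3.all fun e => siftB 530 10 ((3, tr3) :: rest4) [g.1, e.2.1])) = true
  rw [Bool.and_eq_true]
  exact ⟨l3_static, sift3_all⟩

theorem chain3_ok : checkChain 530 10 (gens.drop 5) rest3 = true := by
  show (levelOK 530 10 (gens.drop 5) (3, tr3) rest4 &&
    checkChain 530 10 (nextGens 10 (gens.drop 5) 3) rest4) = true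
  rw [level3_ok, nextGens3, chain4_ok]
  rfl

theorem sift2_all :
    (gens.drop 4).all (fun g => tr2.all fun e => siftB 530 10 ((2, tr2) :: rest3) [g.1, e.2.1]) = true := by
  apply all_getD (gens.drop 4) (0, 0)
  intro i hi
  rw [drop2_length] at hi
  interval_cases i
  · exact sift2_0
  · exact sift2_1
  · exact sift2_2
  · exact sift2_3
  · exact sift2_4
  · exact sift2_5
  · exact sift2_6
  · exact sift2_7
  · exact sift2_8
  · exact sift2_9
  · exact sift2_10
  · exact sift2_11
  · exact sift2_12
  · exact sift2_13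
  · exact sift2_14
  · exact sift2_15

theorem level2_ok : levelOK 530 10 (gens.drop 4) (2, tr2) rest3 = true := by
  show ((decide ((2 : ℕ) < 530) && headOK 530 10 2 tr2 && tr2.all (entryOK 530 10 2) &&
    nodupB (tr2.map fun e => e.1) &&
    orbitOK 10 (gens.drop 4) [2] ((tr2.map fun e => e.1).tail)) &&
    (gens.drop 4).all (fun g => tr2.all fun e => siftB 530 10 ((2, tr2) :: rest3) [g.1, e.2.1])) = true
  rw [Bool.and_eq_true]
  exact ⟨l2_static, sift2_all⟩

theorem chain2_ok : checkChain 530 10 (gens.drop 4) rest2 = true := by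
  show (levelOK 530 10 (gens.drop 4) (2, tr2) rest3 &&
    checkChain 530 10 (nextGens 10 (gens.drop 4) 2) rest3) = true
  rw [level2_ok, nextGens2, chain3_ok]
  rfl

theorem sift1_all :
    (gens.drop 1).all (fun g => tr1.all fun e => siftB 530 10 ((1, tr1) :: rest2) [g.1, e.2.1]) = true := by
  apply all_getD (gens.drop 1) (0, 0)
  intro i hi
  rw [drop1_length] at hi
  interval_cases i
  · exact sift1_0
  · exact sift1_1
  · exact sift1_2
  · exact sift1_3
  · exact sift1_4
  · exact sift1_5
  · exact sift1_6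
  · exact sift1_7
  · exact sift1_8
  · exact sift1_9
  · exact sift1_10
  · exact sift1_11
  · exact sift1_12
  · exact sift1_13
  · exact sift1_14
  · exact sift1_15
  · exact sift1_16
  · exact sift1_17
  · exact sift1_18

theorem level1_ok : levelOK 530 10 (gens.drop 1) (1, tr1) rest2 = true := by
  show ((decide ((1 : ℕ) < 530) && headOK 530 10 1 tr1 && tr1.all (entryOK 530 10 1) &&
    nodupB (tr1.map fun e => e.1) &&
    orbitOK 10 (gens.drop 1) [1] ((tr1.map fun e => e.1).tail)) &&
    (gens.drop 1).all (fun g => tr1.all fun e => siftB 530 10 ((1, tr1) :: rest2) [g.1, e.2.1])) = true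
  rw [Bool.and_eq_true]
  exact ⟨l1_static, sift1_all⟩

theorem chain1_ok : checkChain 530 10 (gens.drop 1) rest1 = true := by
  show (levelOK 530 10 (gens.drop 1) (1, tr1) rest2 &&
    checkChain 530 10 (nextGens 10 (gens.drop 1) 1) rest2) = true
  rw [level1_ok, nextGens1, chain2_ok]
  rfl

theorem sift0_all :
    gens.all (fun g => tr0.all fun e => siftB 530 10 ((0, tr0) :: rest1) [g.1, e.2.1]) = true := by
  apply all_getD gens (0, 0)
  intro i hi
  rw [gens_length] at hi
  interval_cases i
  · exact sift0_0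
  · exact sift0_1
  · exact sift0_2
  · exact sift0_3
  · exact sift0_4
  · exact sift0_5
  · exact sift0_6
  · exact sift0_7
  · exact sift0_8
  · exact sift0_9
  · exact sift0_10
  · exact sift0_11
  · exact sift0_12
  · exact sift0_13
  · exact sift0_14
  · exact sift0_15
  · exact sift0_16
  · exact sift0_17
  · exact sift0_18
  · exact sift0_19

theorem level0_ok : levelOK 530 10 gens (0, tr0) rest1 = true := by
  show ((decide ((0 : ℕ) < 530) && headOK 530 10 0 tr0 && tr0.all (entryOK 530 10 0) &&
    nodupB (tr0.map fun e => e.1) &&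
    orbitOK 10 gens [0] ((tr0.map fun e => e.1).tail)) &&
    gens.all (fun g => tr0.all fun e => siftB 530 10 ((0, tr0) :: rest1) [g.1, e.2.1])) = true
  rw [Bool.and_eq_true]
  exact ⟨l0_static, sift0_all⟩

theorem chain0_ok : checkChain 530 10 gens rest0 = true := by
  show (levelOK 530 10 gens (0, tr0) rest1 &&
    checkChain 530 10 (nextGens 10 gens 0) rest1) = true
  rw [level0_ok, nextGens0, chain1_ok]
  rfl

theorem chain_ok : checkChain 530 10 gens levels = true := chain0_ok

/-- **The group generated by the twenty tables has order `2^11 · |M23|`.** -/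
theorem card_genGroup : Nat.card (genGroup 530 10 gens) = 20891566080 := by
  rw [← size_ok]
  exact (perm_main 530 10 gens levels gens_ok chain_ok).1

end Cfsg.Agent.Lib.Helper15.M23Ext.PD
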