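import Cfsg.Agent.Lib.Helper15.M23ExtData
import Cfsg.Agent.Lib.Helper11.IcoChunk

set_option autoImplicit false
set_option maxRecDepth 100000
set_option maxHeartbeats 0

namespace Cfsg.Agent.Lib.Helper15.M23Ext.PD

open Cfsg.Agent.Lib.Helper28.BSGS Cfsg.Agent.Lib.Helper11.Ico

theorem gens_ok : gensOK 530 10 gens = true := by decide +kernel

theorem size_ok : codeSize levels = 20891566080 := by decide +kernel

theorem gens_length : gens.length = 20 := by decide +kernel

theorem nextGens0 : nextGens 10 gens 0 = gens.drop 1 := by decide +kernel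

theorem l0_static : (decide ((0 : ℕ) < 530) && headOK 530 10 0 tr0 && tr0.all (entryOK 530 10 0) &&
    nodupB (tr0.map fun e => e.1) &&
    orbitOK 10 gens [0] ((tr0.map fun e => e.1).tail)) = true := by decide +kernel

theorem nextGens1 : nextGens 10 (gens.drop 1) 1 = gens.drop 4 := by decide +kernel

theorem drop1_length : (gens.drop 1).length = 19 := by decide +kernel

theorem l1_static : (decide ((1 : ℕ) < 530) && headOK 530 10 1 tr1 && tr1.all (entryOK 530 10 1) &&
    nodupB (tr1.map fun e => e.1) &&
    orbitOK 10 (gens.drop 1) [1] ((tr1.map fun e => e.1).tail)) = true := by decide +kernel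

theorem nextGens2 : nextGens 10 (gens.drop 4) 2 = gens.drop 5 := by decide +kernel

theorem drop2_length : (gens.drop 4).length = 16 := by decide +kernel

theorem l2_static : (decide ((2 : ℕ) < 530) && headOK 530 10 2 tr2 && tr2.all (entryOK 530 10 2) &&
    nodupB (tr2.map fun e => e.1) &&
    orbitOK 10 (gens.drop 4) [2] ((tr2.map fun e => e.1).tail)) = true := by decide +kernel

theorem nextGens3 : nextGens 10 (gens.drop 5) 3 = gens.drop 6 := by decide +kernel

theorem drop3_length : (gens.drop 5).length = 15 := by decide +kernel

theorem l3_static : (decide ((3 : ℕ) < 530) && headOK 530 10 3 tr3 && tr3.all (entryOK 530 10 3) &&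
    nodupB (tr3.map fun e => e.1) &&
    orbitOK 10 (gens.drop 5) [3] ((tr3.map fun e => e.1).tail)) = true := by decide +kernel

theorem nextGens4 : nextGens 10 (gens.drop 6) 4 = gens.drop 8 := by decide +kernel

theorem drop4_length : (gens.drop 6).length = 14 := by decide +kernel

theorem l4_static : (decide ((4 : ℕ) < 530) && headOK 530 10 4 tr4 && tr4.all (entryOK 530 10 4) &&
    nodupB (tr4.map fun e => e.1) &&
    orbitOK 10 (gens.drop 6) [4] ((tr4.map fun e => e.1).tail)) = true := by decide +kernel

theorem nextGens5 : nextGens 10 (gens.drop 8) 5 = gens.drop 9 := by decide +kernel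

theorem drop5_length : (gens.drop 8).length = 12 := by decide +kernel

theorem l5_static : (decide ((5 : ℕ) < 530) && headOK 530 10 5 tr5 && tr5.all (entryOK 530 10 5) &&
    nodupB (tr5.map fun e => e.1) &&
    orbitOK 10 (gens.drop 8) [5] ((tr5.map fun e => e.1).tail)) = true := by decide +kernel

/-- the chain of the normal subgroup `2^11` -/
theorem chain6_ok : checkChain 530 10 (gens.drop 9) rest6 = true := by decide +kernel

end Cfsg.Agent.Lib.Helper15.M23Ext.PD
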