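import Mathlib
import Cfsg.Prelude.Def_Spor_Mathieu
import Cfsg.Agent.Lib.Helper4.GolayMinWt
import Cfsg.Agent.Lib.Helper28.BSGSPerm
import Cfsg.Agent.Lib.Helper15.M23ExtData2

/-!
# S2650 (a non-split `2^11·M23`): the flips `ν w` on 530 = 24 + 2·253 points  (helper15)

The 530 points are the 24 points `a < 24` (`a` stands for `Helper4.pt a : GolayPt`) and, for each of the 253 words `c_k` of weight
16 of the Golay code avoiding `none` (masks `cm k`), the two points `24 + 2k`, `24 + 2k + 1`.
For a binary word `w` on `GolayPt`, `ν w` fixes the 24 points and swaps the two points of the block `k` iff `<w, c_k> = 1`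
(`ip w (cm k) = 1`).  `ν` is a homomorphism `(GolayPt → ZMod 2, +) → Perm (Fin 530)`.
-/

set_option autoImplicit false
set_option maxRecDepth 100000

namespace Cfsg.Agent.Lib.Helper15.M23Ext

open Cfsg Cfsg.Agent.Lib.Helper28.BSGS

abbrev Γ : Type := Equiv.Perm (Fin 530)

/-- the mask of the `k`-th word of weight 16 -/
def cm (k : ℕ) : ℕ := QD.CM.getD k 0

/-- the inner product of a word with a mask (bit `a` = coordinate `Helper4.pt a`) -/
def ip (w : GolayPt → ZMod 2) (m : ℕ) : ZMod 2 :=
  ∑ a : Fin 24, if m.testBit a.val then w (Helper4.pt a) else 0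

theorem ip_add (w w' : GolayPt → ZMod 2) (m : ℕ) : ip (w + w') m = ip w m + ip w' m := by
  unfold ip
  rw [← Finset.sum_add_distrib]
  refine Finset.sum_congr rfl fun a _ => ?_
  split_ifs
  · rfl
  · simp

theorem ip_zero (m : ℕ) : ip 0 m = 0 := by
  unfold ip
  simp

theorem ip_single (a : Fin 24) (m : ℕ) :
    ip (Pi.single (Helper4.pt a) 1) m = if m.testBit a.val then 1 else 0 := by
  unfold ip
  rw [Finset.sum_eq_single a]
  · simp
  · intro b _ hb
    split_ifs
    · rw [Pi.single_apply, if_neg]
      intro h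
      exact hb (Helper4.pt_bijective.1 h)
    · rfl
  · intro h
    exact absurd (Finset.mem_univ a) h

theorem ip_xor (w : GolayPt → ZMod 2) (m m' : ℕ) : ip w (m ^^^ m') = ip w m + ip w m' := by
  unfold ip
  rw [← Finset.sum_add_distrib]
  refine Finset.sum_congr rfl fun a _ => ?_
  rw [Nat.testBit_xor]
  cases m.testBit a.val <;> cases m'.testBit a.val <;> simp
  exact (CharTwo.add_self_eq_zero _).symm

theorem zmod2_cases (x : ZMod 2) : x = 0 ∨ x = 1 := by
  fin_cases x
  · left; rfl
  · right; rfl

/-- the other point of the block -/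
def flipN (x : ℕ) : ℕ := if x % 2 = 0 then x + 1 else x - 1

theorem flipN_flipN (x : ℕ) : flipN (flipN x) = x := by
  unfold flipN
  split_ifs <;> omega

theorem flipN_lt {x : ℕ} (hx : x < 530) : flipN x < 530 := by
  unfold flipN
  split_ifs <;> omega

theorem flipN_ge {x : ℕ} (hx : 24 ≤ x) : 24 ≤ flipN x := by
  unfold flipN
  split_ifs <;> omega

theorem flipN_block {x : ℕ} (hx : 24 ≤ x) : (flipN x - 24) / 2 = (x - 24) / 2 := by
  unfold flipN
  split_ifs <;> omega

/-- the action of `ν w` on the numbers of the points -/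
def flN (w : GolayPt → ZMod 2) (x : ℕ) : ℕ :=
  if x < 24 then x else if ip w (cm ((x - 24) / 2)) = 0 then x else flipN x

theorem flN_lt (w : GolayPt → ZMod 2) {x : ℕ} (hx : x < 530) : flN w x < 530 := by
  unfold flN
  split_ifs
  · exact hx
  · exact hx
  · exact flipN_lt hx

theorem flN_add (w w' : GolayPt → ZMod 2) (x : ℕ) : flN (w + w') x = flN w (flN w' x) := by
  unfold flN
  by_cases hx : x < 24
  · simp [hx]
  · have hx' : 24 ≤ x := by omega
    have h24 : ¬ flipN x < 24 := by have := flipN_ge hx'; omega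
    rw [if_neg hx, if_neg hx, ip_add]
    rcases zmod2_cases (ip w (cm ((x - 24) / 2))) with h1 | h1 <;>
      rcases zmod2_cases (ip w' (cm ((x - 24) / 2))) with h2 | h2
    · simp [h1, h2, hx]
    · simp [h1, h2, h24, flipN_block hx']
    · simp [h1, h2, hx]
    · have h11 : (1 : ZMod 2) + 1 = 0 := by decide
      simp [h1, h2, h24, flipN_block hx', flipN_flipN, h11]

theorem flN_zero (x : ℕ) : flN 0 x = x := by
  unfold flN
  simp [ip_zero]

theorem flN_flN (w : GolayPt → ZMod 2) (x : ℕ) : flN w (flN w x) = x := by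
  rw [← flN_add]
  have : w + w = 0 := by
    funext p
    exact CharTwo.add_self_eq_zero _
  rw [this, flN_zero]

/-- **the flip of a word** -/
def ν (w : GolayPt → ZMod 2) : Γ where
  toFun x := ⟨flN w x.val, flN_lt w x.isLt⟩
  invFun x := ⟨flN w x.val, flN_lt w x.isLt⟩
  left_inv x := Fin.ext (flN_flN w x.val)
  right_inv x := Fin.ext (flN_flN w x.val)

theorem ν_apply (w : GolayPt → ZMod 2) (x : Fin 530) : (ν w x).val = flN w x.val := rfl

theorem ν_add (w w' : GolayPt → ZMod 2) : ν (w + w') = ν w * ν w' := by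
  apply Equiv.ext
  intro x
  apply Fin.ext
  rw [Equiv.Perm.mul_apply, ν_apply, ν_apply, ν_apply, flN_add]

theorem ν_zero : ν 0 = 1 := by
  apply Equiv.ext
  intro x
  apply Fin.ext
  rw [ν_apply, flN_zero]
  rfl

theorem ν_comm (w w' : GolayPt → ZMod 2) : ν w * ν w' = ν w' * ν w := by
  rw [← ν_add, ← ν_add, add_comm]

theorem ν_mul_self (w : GolayPt → ZMod 2) : ν w * ν w = 1 := by
  rw [← ν_add]
  have : w + w = 0 := by
    funext p
    exact CharTwo.add_self_eq_zero _
  rw [this, ν_zero]

theorem ν_inv (w : GolayPt → ZMod 2) : (ν w)⁻¹ = ν w := inv_eq_of_mul_eq_one_left (ν_mul_self w)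

theorem ν_apply_lt (w : GolayPt → ZMod 2) (x : Fin 530) (hx : x.val < 24) : ν w x = x := by
  apply Fin.ext
  rw [ν_apply]
  unfold flN
  rw [if_pos hx]

/-- `ν` as a homomorphism -/
def νHom : Multiplicative (GolayPt → ZMod 2) →* Γ where
  toFun w := ν (Multiplicative.toAdd w)
  map_one' := ν_zero
  map_mul' _ _ := ν_add _ _

/-- `ν w = 1` iff `w` is orthogonal to the 253 words -/
theorem ν_eq_one_iff (w : GolayPt → ZMod 2) : ν w = 1 ↔ ∀ k < 253, ip w (cm k) = 0 := by
  constructor
  · intro h k hk
    by_contra hne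
    have h1 := congrArg (fun g : Γ => (g ⟨24 + 2 * k, by omega⟩).val) h
    simp only [ν_apply, Equiv.Perm.one_apply] at h1
    unfold flN at h1
    have h2 : (24 + 2 * k - 24) / 2 = k := by omega
    rw [if_neg (by omega), h2, if_neg hne] at h1
    unfold flipN at h1
    split_ifs at h1 <;> omega
  · intro h
    apply Equiv.ext
    intro x
    apply Fin.ext
    rw [ν_apply]
    unfold flN
    by_cases hx : x.val < 24
    · rw [if_pos hx]; rfl
    · rw [if_neg hx, if_pos (h _ (by omega))]; rfl

/-! ### the two elements generating a quaternion group modulo `N` -/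

theorem ok_x : pairOK 530 10 QD.xU QD.xV = true := by decide +kernel
theorem ok_y : pairOK 530 10 QD.yU QD.yV = true := by decide +kernel

noncomputable def xh : Γ := permOf 530 10 QD.xU QD.xV
noncomputable def yh : Γ := permOf 530 10 QD.yU QD.yV

theorem xh_apply (a : Fin 530) : (xh a).val = look 10 QD.xU a.val := permOf_apply ok_x a
theorem yh_apply (a : Fin 530) : (yh a).val = look 10 QD.yU a.val := permOf_apply ok_y a

end Cfsg.Agent.Lib.Helper15.M23Ext
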