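import Cfsg.Agent.Lib.Helper15.M23ExtTheta

/-!
# S2650: assembly  (helper15)

`main_of`: the frozen statement of S2650 from the two remaining inputs: the description of the words orthogonal to the 253
words of weight 16 (`ker_iff`, helper2) and the inconsistency of the quaternion relations (`q8_core`).
-/

set_option autoImplicit false
set_option maxRecDepth 100000

namespace Cfsg.Agent.Lib.Helper15.M23Ext

open Cfsg Cfsg.Agent.Lib.Helper28 Cfsg.Agent.Lib.Helper28.BSGS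

theorem ν_mem_ker (w : GolayPt → ZMod 2) : (⟨ν w, ν_mem_E w⟩ : ↥E) ∈ ρ'.ker :=
  (mem_ker_iff _).2 fun a => ν_apply_lt w (p24 a) a.isLt

/-- **the homomorphism `θ` onto `N`** -/
noncomputable def θ : (GolayPt → ZMod 2) →+ Additive ↥ρ'.ker where
  toFun w := Additive.ofMul ⟨⟨ν w, ν_mem_E w⟩, ν_mem_ker w⟩
  map_zero' := by
    apply congrArg Additive.ofMul
    apply Subtype.ext
    apply Subtype.ext
    exact ν_zero
  map_add' w w' := by
    apply congrArg Additive.ofMul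
    apply Subtype.ext
    apply Subtype.ext
    exact ν_add w w'

theorem θ_val (w : GolayPt → ZMod 2) : (((θ w).toMul : ↥ρ'.ker) : ↥E).1 = ν w := rfl

theorem θ_eq_zero_iff (w : GolayPt → ZMod 2) : θ w = 0 ↔ ν w = 1 := by
  constructor
  · intro h
    have h1 : ((θ w).toMul : ↥ρ'.ker) = 1 := congrArg Additive.toMul h
    have h2 := congrArg (fun n : ↥ρ'.ker => (n : ↥E).1) h1
    exact h2
  · intro h
    apply congrArg Additive.ofMul (a₂ := (1 : ↥ρ'.ker))
    apply Subtype.ext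
    apply Subtype.ext
    exact h

/-! ### the order of `N` and surjectivity of `θ` -/

theorem card_M23 : Nat.card ↥Spor.M23 = 10200960 := by
  rw [M23_eq_G23]
  exact card_G23

theorem card_ker : Nat.card ↥ρ'.ker = 2048 := by
  have h1 := Subgroup.card_eq_card_quotient_mul_card_subgroup ρ'.ker
  have h2 : Nat.card (↥E ⧸ ρ'.ker) = 10200960 := by
    rw [Nat.card_congr (QuotientGroup.quotientKerEquivOfSurjective ρ' ρ'_surjective).toEquiv, card_M23]
  rw [card_E, h2] at h1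
  omega

/-- the word with a given mask -/
noncomputable def mvec (m : ℕ) : GolayPt → ZMod 2 := fun p => if m.testBit (ptE.symm p).val then 1 else 0

theorem mvec_pt (m : ℕ) (a : Fin 24) : mvec m (Helper4.pt a) = if m.testBit a.val then 1 else 0 := by
  unfold mvec
  have : ptE.symm (Helper4.pt a) = a := ptE.symm_apply_apply a
  rw [this]

def dv (i : Fin 11) : ℕ := QD.DV.getD i.val 0
def kb (j : Fin 11) : ℕ := QD.KB.getD j.val 0

theorem kb_lt : ∀ j : Fin 11, kb j < 253 := by decide +kernel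

/-- the dual basis -/
theorem dual_tab : ∀ i j : Fin 11,
    (∑ a : Fin 24, if (cm (kb j)).testBit a.val then (if (dv i).testBit a.val then (1 : ZMod 2) else 0) else 0) =
      if i = j then 1 else 0 := by decide +kernel

theorem ip_dual (i j : Fin 11) : ip (mvec (dv i)) (cm (kb j)) = if i = j then 1 else 0 := by
  rw [← dual_tab i j]
  unfold ip
  refine Finset.sum_congr rfl fun a _ => ?_
  rw [mvec_pt]

theorem ip_smul (c : ZMod 2) (w : GolayPt → ZMod 2) (m : ℕ) : ip (c • w) m = c * ip w m := by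
  unfold ip
  rw [Finset.mul_sum]
  refine Finset.sum_congr rfl fun a _ => ?_
  split_ifs
  · rfl
  · rw [mul_zero]

theorem ip_sum {ι : Type*} (s : Finset ι) (f : ι → GolayPt → ZMod 2) (m : ℕ) :
    ip (∑ i ∈ s, f i) m = ∑ i ∈ s, ip (f i) m := by
  classical
  induction s using Finset.induction_on with
  | empty => simp [ip_zero]
  | insert i s hi ih => rw [Finset.sum_insert hi, Finset.sum_insert hi, ip_add, ih]

/-- the combination of the dual vectors -/
noncomputable def dcomb (v : Fin 11 → ZMod 2) : GolayPt → ZMod 2 := ∑ i : Fin 11, v i • mvec (dv i)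

theorem ip_dcomb (v : Fin 11 → ZMod 2) (j : Fin 11) : ip (dcomb v) (cm (kb j)) = v j := by
  unfold dcomb
  rw [ip_sum]
  simp only [ip_smul, ip_dual]
  rw [Finset.sum_eq_single j]
  · rw [if_pos rfl, mul_one]
  · intro i _ hij
    rw [if_neg hij, mul_zero]
  · intro h
    exact absurd (Finset.mem_univ j) h

theorem θ_surjective : Function.Surjective θ := by
  let F : (Fin 11 → ZMod 2) → ↥ρ'.ker := fun v => (θ (dcomb v)).toMul
  have hinj : Function.Injective F := by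
    intro v v' h
    have h1 : ν (dcomb v) = ν (dcomb v') := congrArg (fun n : ↥ρ'.ker => (n : ↥E).1) h
    funext j
    have h2 : ν (dcomb v + dcomb v') = 1 := by
      rw [ν_add, h1, ν_mul_self]
    have h3 := (ν_eq_one_iff _).1 h2 (kb j) (kb_lt j)
    rw [ip_add, ip_dcomb, ip_dcomb] at h3
    have h4 : v j = -v' j := eq_neg_of_add_eq_zero_left h3
    rw [h4]
    exact ZMod.neg_eq_self_mod_two _
  have hfin : Finite ↥ρ'.ker := inferInstance
  have hcard : Nat.card ↥ρ'.ker ≤ Nat.card (Fin 11 → ZMod 2) := by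
    rw [card_ker, Nat.card_eq_fintype_card, Fintype.card_fun, ZMod.card, Fintype.card_fin]
    norm_num
  have hbij := Function.Injective.bijective_of_nat_card_le hinj hcard
  intro n
  obtain ⟨v, hv⟩ := hbij.2 n.toMul
  exact ⟨dcomb v, congrArg Additive.ofMul hv⟩

/-! ### the lifts of the quaternion generators -/

set_option maxHeartbeats 0 in
theorem xy_sift : siftB 530 10 PD.levels [QD.xU] = true ∧ siftB 530 10 PD.levels [QD.yU] = true := by
  decide +kernel

theorem xh_mem_E : xh ∈ E :=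
  (perm_main 530 10 PD.gens PD.levels PD.gens_ok PD.chain_ok).2 [QD.xU] xh (actsByW_single xh_apply) xy_sift.1

theorem yh_mem_E : yh ∈ E :=
  (perm_main 530 10 PD.gens PD.levels PD.gens_ok PD.chain_ok).2 [QD.yU] yh (actsByW_single yh_apply) xy_sift.2

/-- the three quaternion relations hold on the 24 points -/
theorem rel_tab : ∀ a : Fin 24,
    evalW 10 [QD.xU, QD.xU, QD.xU, QD.xU] a.val = a.val ∧
    evalW 10 [QD.xU, QD.xU, QD.yU, QD.yU] a.val = a.val ∧
    evalW 10 [QD.xU, QD.yU, QD.xU, QD.yU, QD.yU, QD.yU] a.val = a.val := by decide +kernel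

theorem mem_ker_of_word (g : ↥E) (ws : List ℕ) (hact : ActsByW 530 10 g.1 ws)
    (h : ∀ a : Fin 24, evalW 10 ws a.val = a.val) : g ∈ ρ'.ker := by
  rw [mem_ker_iff]
  intro a
  apply Fin.ext
  rw [hact]
  exact h a

/-- **`N` has no complement**, given the inconsistency of the quaternion relations -/
theorem no_complement
    (hq8 : ∀ a b : GolayPt → ZMod 2, (xh * ν a) ^ 4 = 1 → (xh * ν a) ^ 2 * (yh * ν b) ^ 2 = 1 →
      (xh * ν a) * (yh * ν b) * (xh * ν a) * (yh * ν b) ^ 3 = 1 → False)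
    (H : Subgroup ↥E) (hbot : H ⊓ ρ'.ker = ⊥) : H ⊔ ρ'.ker ≠ ⊤ := by
  intro htop
  -- every element is congruent modulo `N` to an element of `H`
  have hlift : ∀ g : ↥E, ∃ a : GolayPt → ZMod 2, g * ((θ a).toMul : ↥ρ'.ker).1 ∈ H := by
    intro g
    have hg : g ∈ H ⊔ ρ'.ker := by rw [htop]; exact Subgroup.mem_top _
    have hset : (g : ↥E) ∈ ((H ⊔ ρ'.ker : Subgroup ↥E) : Set ↥E) := hg
    rw [Subgroup.mul_normal] at hset
    obtain ⟨h, hh, n, hn, rfl⟩ := Set.mem_mul.1 hset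
    obtain ⟨a, ha⟩ := θ_surjective (Additive.ofMul (⟨n⁻¹, ρ'.ker.inv_mem hn⟩ : ↥ρ'.ker))
    refine ⟨a, ?_⟩
    rw [ha]
    show h * n * n⁻¹ ∈ H
    rw [mul_inv_cancel_right]
    exact hh
  obtain ⟨a, ha⟩ := hlift ⟨xh, xh_mem_E⟩
  obtain ⟨b, hb⟩ := hlift ⟨yh, yh_mem_E⟩
  set X : ↥E := ⟨xh, xh_mem_E⟩ * ((θ a).toMul : ↥ρ'.ker).1 with hX
  set Y : ↥E := ⟨yh, yh_mem_E⟩ * ((θ b).toMul : ↥ρ'.ker).1 with hY
  have hXv : X.1 = xh * ν a := rfl
  have hYv : Y.1 = yh * ν b := rfl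
  have hρX : ρ' X = ρ' ⟨xh, xh_mem_E⟩ := by
    rw [hX, map_mul, MonoidHom.mem_ker.1 ((θ a).toMul : ↥ρ'.ker).2, mul_one]
  have hρY : ρ' Y = ρ' ⟨yh, yh_mem_E⟩ := by
    rw [hY, map_mul, MonoidHom.mem_ker.1 ((θ b).toMul : ↥ρ'.ker).2, mul_one]
  have hx : ActsByW 530 10 (⟨xh, xh_mem_E⟩ : ↥E).1 [QD.xU] := actsByW_single xh_apply
  -- the three words lie in `H ⊓ N = ⊥`
  have key : ∀ (W W0 : ↥E), W ∈ H → ρ' W = ρ' W0 → W0 ∈ ρ'.ker → W = 1 := by
    intro W W0 hW hρ hW0
    have h1 : W ∈ ρ'.ker := by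
      rw [MonoidHom.mem_ker, hρ]
      exact MonoidHom.mem_ker.1 hW0
    have h2 : W ∈ H ⊓ ρ'.ker := ⟨hW, h1⟩
    rw [hbot, Subgroup.mem_bot] at h2
    exact h2
  have r1 : X ^ 4 = 1 := by
    apply key _ ((⟨xh, xh_mem_E⟩ : ↥E) ^ 4) (H.pow_mem ha 4)
    · rw [map_pow, map_pow, hρX]
    · apply mem_ker_of_word _ [QD.xU, QD.xU, QD.xU, QD.xU]
      · have := actsByW_pow 530 10 xh_apply 4
        exact this
      · exact fun a => (rel_tab a).1
  have r2 : X ^ 2 * Y ^ 2 = 1 := by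
    apply key _ ((⟨xh, xh_mem_E⟩ : ↥E) ^ 2 * (⟨yh, yh_mem_E⟩ : ↥E) ^ 2)
      (H.mul_mem (H.pow_mem ha 2) (H.pow_mem hb 2))
    · rw [map_mul, map_mul, map_pow, map_pow, map_pow, map_pow, hρX, hρY]
    · apply mem_ker_of_word _ [QD.xU, QD.xU, QD.yU, QD.yU]
      · show ActsByW 530 10 (xh ^ 2 * yh ^ 2) _
        rw [pow_two, pow_two, mul_assoc]
        exact actsByW_cons xh_apply (actsByW_cons xh_apply (actsByW_cons yh_apply (actsByW_single yh_apply)))
      · exact fun a => (rel_tab a).2.1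
  have r3 : X * Y * X * Y ^ 3 = 1 := by
    apply key _ ((⟨xh, xh_mem_E⟩ : ↥E) * ⟨yh, yh_mem_E⟩ * ⟨xh, xh_mem_E⟩ * (⟨yh, yh_mem_E⟩ : ↥E) ^ 3)
      (H.mul_mem (H.mul_mem (H.mul_mem ha hb) ha) (H.pow_mem hb 3))
    · simp only [map_mul, map_pow, hρX, hρY]
    · apply mem_ker_of_word _ [QD.xU, QD.yU, QD.xU, QD.yU, QD.yU, QD.yU]
      · show ActsByW 530 10 (xh * yh * xh * yh ^ 3) _
        have e : xh * yh * xh * yh ^ 3 = xh * (yh * (xh * (yh * (yh * yh)))) := by simp [pow_succ, mul_assoc]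
        rw [e]
        exact actsByW_cons xh_apply (actsByW_cons yh_apply (actsByW_cons xh_apply
          (actsByW_cons yh_apply (actsByW_cons yh_apply (actsByW_single yh_apply)))))
      · exact fun a => (rel_tab a).2.2
  apply hq8 a b
  · have := congrArg (fun g : ↥E => g.1) r1
    simpa [hXv] using this
  · have := congrArg (fun g : ↥E => g.1) r2
    simpa [hXv, hYv] using this
  · have := congrArg (fun g : ↥E => g.1) r3
    simpa [hXv, hYv] using this

/-- **S2650 from the two remaining inputs** -/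
theorem main_of
    (hker : ∀ w : GolayPt → ZMod 2, (∀ k < 253, ip w (cm k) = 0) ↔
      (w ∈ golayCode ∨ w + Pi.single none 1 ∈ golayCode))
    (hq8 : ∀ a b : GolayPt → ZMod 2, (xh * ν a) ^ 4 = 1 → (xh * ν a) ^ 2 * (yh * ν b) ^ 2 = 1 →
      (xh * ν a) * (yh * ν b) * (xh * ν a) * (yh * ν b) ^ 3 = 1 → False) :
    ∃ (E : Type) (_ : Group E) (_ : Finite E) (N : Subgroup E) (_ : N.Normal)
      (φ : E ⧸ N ≃* ↥Cfsg.Spor.M23) (θ : (Cfsg.GolayPt → ZMod 2) →+ Additive ↥N),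
      Function.Surjective θ ∧
      (∀ w : Cfsg.GolayPt → ZMod 2, θ w = 0 ↔ (w ∈ Cfsg.golayCode ∨ w + Pi.single none 1 ∈ Cfsg.golayCode)) ∧
      (∀ (g : E) (w : Cfsg.GolayPt → ZMod 2),
        ((θ (w ∘ ⇑(((φ (QuotientGroup.mk g) : ↥Cfsg.Spor.M23) : Equiv.Perm Cfsg.GolayPt)⁻¹))).toMul : E)
          = g * ((θ w).toMul : E) * g⁻¹) ∧
      ∀ H : Subgroup E, H ⊓ N = ⊥ → H ⊔ N ≠ ⊤ := by
  refine ⟨↥E, inferInstance, inferInstance, ρ'.ker, inferInstance,
    QuotientGroup.quotientKerEquivOfSurjective ρ' ρ'_surjective, θ, θ_surjective, ?_, ?_, ?_⟩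
  · intro w
    rw [θ_eq_zero_iff, ν_eq_one_iff]
    exact hker w
  · intro g w
    apply Subtype.ext
    show ν (w ∘ ⇑(ρ g)⁻¹) = g.1 * ν w * g.1⁻¹
    exact equivariant g w
  · exact no_complement hq8

end Cfsg.Agent.Lib.Helper15.M23Ext
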