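import Cfsg.Agent.Lib.Helper15.M23ExtDefs

/-!
# S2650: the quaternion relations have no solution  (helper15)

`q8_core`: there are no words `a`, `b` such that `x = xh * ν a`, `y = yh * ν b` satisfy `x⁴ = x²y² = xyxy³ = 1`.
Only the eight points of the blocks 15, 187, 18, 194 are needed; the sum of the four words of these blocks is zero.
-/

set_option autoImplicit false
set_option maxRecDepth 100000

namespace Cfsg.Agent.Lib.Helper15.M23Ext

open Cfsg Cfsg.Agent.Lib.Helper28.BSGS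

/-- the eight points -/
def P8 : List ℕ := [54, 55, 398, 399, 60, 61, 412, 413]

/-- the action of a flip with the four given bits on the eight points -/
def flipQ (a0 a1 a2 a3 : ZMod 2) (p : ℕ) : ℕ :=
  if p = 54 ∨ p = 55 then (if a0 = 0 then p else flipN p)
  else if p = 398 ∨ p = 399 then (if a1 = 0 then p else flipN p)
  else if p = 60 ∨ p = 61 then (if a2 = 0 then p else flipN p)
  else if p = 412 ∨ p = 413 then (if a3 = 0 then p else flipN p)
  else p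

def stepX (a0 a1 a2 a3 : ZMod 2) (p : ℕ) : ℕ := look 10 QD.xU (flipQ a0 a1 a2 a3 p)
def stepY (b0 b1 b2 b3 : ZMod 2) (p : ℕ) : ℕ := look 10 QD.yU (flipQ b0 b1 b2 b3 p)

theorem P8_lt : ∀ p ∈ P8, p < 530 := by decide

theorem stepX_mem : ∀ a0 a1 a2 a3 : ZMod 2, ∀ p ∈ P8, stepX a0 a1 a2 a3 p ∈ P8 := by decide +kernel
theorem stepY_mem : ∀ b0 b1 b2 b3 : ZMod 2, ∀ p ∈ P8, stepY b0 b1 b2 b3 p ∈ P8 := by decide +kernel

/-- **the kernel check**: for bits of even parity, one of the three words moves one of the eight points -/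
theorem core_tab : ∀ a0 a1 a2 a3 b0 b1 b2 b3 : ZMod 2, a0 + a1 + a2 + a3 = 0 → b0 + b1 + b2 + b3 = 0 →
    ¬ (∀ p ∈ P8,
      stepX a0 a1 a2 a3 (stepX a0 a1 a2 a3 (stepX a0 a1 a2 a3 (stepX a0 a1 a2 a3 p))) = p ∧
      stepX a0 a1 a2 a3 (stepX a0 a1 a2 a3 (stepY b0 b1 b2 b3 (stepY b0 b1 b2 b3 p))) = p ∧
      stepX a0 a1 a2 a3 (stepY b0 b1 b2 b3 (stepX a0 a1 a2 a3
        (stepY b0 b1 b2 b3 (stepY b0 b1 b2 b3 (stepY b0 b1 b2 b3 p))))) = p) := by
  decide +kernel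

theorem cm_rel : cm 15 ^^^ cm 187 ^^^ cm 18 ^^^ cm 194 = 0 := by decide +kernel

theorem ip_mask_zero (w : GolayPt → ZMod 2) : ip w 0 = 0 := by
  unfold ip
  simp

theorem ip_rel (w : GolayPt → ZMod 2) : ip w (cm 15) + ip w (cm 187) + ip w (cm 18) + ip w (cm 194) = 0 := by
  rw [← ip_xor, ← ip_xor, ← ip_xor, cm_rel, ip_mask_zero]

/-- the action of `ν w` on the eight points -/
theorem flN_P8 (w : GolayPt → ZMod 2) : ∀ p ∈ P8,
    flN w p = flipQ (ip w (cm 15)) (ip w (cm 187)) (ip w (cm 18)) (ip w (cm 194)) p := by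
  intro p hp
  simp only [P8, List.mem_cons, List.not_mem_nil, or_false] at hp
  rcases hp with rfl | rfl | rfl | rfl | rfl | rfl | rfl | rfl <;>
    simp [flN, flipQ]

/-- `g` acts on the eight points through `f` -/
def Tracks (g : Γ) (f : ℕ → ℕ) : Prop :=
  ∀ p : Fin 530, p.val ∈ P8 → (g p).val = f p.val ∧ f p.val ∈ P8

theorem Tracks.mul {g h : Γ} {f f' : ℕ → ℕ} (hg : Tracks g f) (hh : Tracks h f') :
    Tracks (g * h) (fun p => f (f' p)) := by
  intro p hp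
  obtain ⟨h1, h2⟩ := hh p hp
  have h3 : (h p).val ∈ P8 := by rw [h1]; exact h2
  obtain ⟨h4, h5⟩ := hg (h p) h3
  rw [Equiv.Perm.mul_apply, h4, h1]
  refine ⟨rfl, ?_⟩
  show f (f' p.val) ∈ P8
  rw [← h1]
  exact h5

theorem tracks_x (a : GolayPt → ZMod 2) :
    Tracks (xh * ν a) (stepX (ip a (cm 15)) (ip a (cm 187)) (ip a (cm 18)) (ip a (cm 194))) := by
  intro p hp
  rw [Equiv.Perm.mul_apply, xh_apply, ν_apply, flN_P8 a p.val hp]
  exact ⟨rfl, stepX_mem _ _ _ _ _ hp⟩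

theorem tracks_y (b : GolayPt → ZMod 2) :
    Tracks (yh * ν b) (stepY (ip b (cm 15)) (ip b (cm 187)) (ip b (cm 18)) (ip b (cm 194))) := by
  intro p hp
  rw [Equiv.Perm.mul_apply, yh_apply, ν_apply, flN_P8 b p.val hp]
  exact ⟨rfl, stepY_mem _ _ _ _ _ hp⟩

theorem Tracks.fix {g : Γ} {f : ℕ → ℕ} (hg : Tracks g f) (h1 : g = 1) : ∀ p ∈ P8, f p = p := by
  intro p hp
  have h := (hg ⟨p, P8_lt p hp⟩ hp).1
  rw [h1] at h
  exact h.symm

theorem word1 {G : Type*} [Group G] (x : G) : x ^ 4 = x * (x * (x * x)) := by simp [pow_succ, mul_assoc]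
theorem word2 {G : Type*} [Group G] (x y : G) : x ^ 2 * y ^ 2 = x * (x * (y * y)) := by simp [pow_succ, mul_assoc]
theorem word3 {G : Type*} [Group G] (x y : G) : x * y * x * y ^ 3 = x * (y * (x * (y * (y * y)))) := by simp [pow_succ, mul_assoc]

/-- **the quaternion relations have no solution** -/
theorem q8_core (a b : GolayPt → ZMod 2) (h1 : (xh * ν a) ^ 4 = 1)
    (h2 : (xh * ν a) ^ 2 * (yh * ν b) ^ 2 = 1)
    (h3 : (xh * ν a) * (yh * ν b) * (xh * ν a) * (yh * ν b) ^ 3 = 1) : False := by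
  have tx := tracks_x a
  have ty := tracks_y b
  have e1 := word1 (xh * ν a)
  have e2 := word2 (xh * ν a) (yh * ν b)
  have e3 := word3 (xh * ν a) (yh * ν b)
  rw [e1] at h1
  rw [e2] at h2
  rw [e3] at h3
  have f1 := (tx.mul (tx.mul (tx.mul tx))).fix h1
  have f2 := (tx.mul (tx.mul (ty.mul ty))).fix h2
  have f3 := (tx.mul (ty.mul (tx.mul (ty.mul (ty.mul ty))))).fix h3
  exact core_tab _ _ _ _ _ _ _ _ (ip_rel a) (ip_rel b) (fun p hp => ⟨f1 p hp, f2 p hp, f3 p hp⟩)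

end Cfsg.Agent.Lib.Helper15.M23Ext
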