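import Cfsg.Agent.Lib.Helper28.OutM23
import Cfsg.Agent.Lib.Helper15.M23ExtDefs
import Cfsg.Agent.Lib.Helper15.M23ExtData

/-!
# S2650: the group `E = 2^11·M23` on 530 points and its homomorphism onto `Spor.M23`  (helper15)

`E := genGroup 530 10 PD.gens`; `ρ' : ↥E →* ↥Spor.M23` (restriction to the 24 points) is surjective.
-/

set_option autoImplicit false
set_option maxRecDepth 100000

namespace Cfsg.Agent.Lib.Helper15.M23Ext

open Cfsg Cfsg.Agent.Lib.Helper28 Cfsg.Agent.Lib.Helper28.BSGS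

theorem perm_apply_inv {α : Type*} (g : Equiv.Perm α) (x : α) : g (g⁻¹ x) = x := by
  rw [← Equiv.Perm.mul_apply, mul_inv_cancel]
  rfl

theorem perm_inv_apply {α : Type*} (g : Equiv.Perm α) (x : α) : g⁻¹ (g x) = x := by
  rw [← Equiv.Perm.mul_apply, inv_mul_cancel]
  rfl

/-! ### restriction to the 24 points -/

/-- the permutations of the 530 points preserving the set of the 24 points -/
def Stab24 : Subgroup Γ where
  carrier := {g | ∀ x : Fin 530, (g x).val < 24 ↔ x.val < 24}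
  one_mem' := fun _ => Iff.rfl
  mul_mem' := fun {g h} hg hh x => by
    rw [Equiv.Perm.mul_apply]
    exact (hg _).trans (hh x)
  inv_mem' := fun {g} hg x => by
    have := hg (g⁻¹ x)
    rw [perm_apply_inv] at this
    exact this.symm

theorem mem_Stab24 (g : Γ) : g ∈ Stab24 ↔ ∀ x : Fin 530, (g x).val < 24 ↔ x.val < 24 := Iff.rfl

/-- the point of number `a < 24` -/
def p24 (a : Fin 24) : Fin 530 := ⟨a.val, by omega⟩

/-- the restriction of a permutation to the 24 points -/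
def r24 (g : Stab24) : Equiv.Perm (Fin 24) where
  toFun a := ⟨(g.1 (p24 a)).val, (g.2 _).2 a.isLt⟩
  invFun a := ⟨(g.1⁻¹ (p24 a)).val, ((Stab24.inv_mem g.2) _).2 a.isLt⟩
  left_inv a := by
    apply Fin.ext
    show (g.1⁻¹ (p24 ⟨(g.1 (p24 a)).val, _⟩)).val = a.val
    have : p24 ⟨(g.1 (p24 a)).val, (g.2 _).2 a.isLt⟩ = g.1 (p24 a) := Fin.ext rfl
    rw [this, perm_inv_apply]
    rfl
  right_inv a := by
    apply Fin.ext
    show (g.1 (p24 ⟨(g.1⁻¹ (p24 a)).val, _⟩)).val = a.val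
    have : p24 ⟨(g.1⁻¹ (p24 a)).val, ((Stab24.inv_mem g.2) _).2 a.isLt⟩ = g.1⁻¹ (p24 a) := Fin.ext rfl
    rw [this, perm_apply_inv]
    rfl

theorem r24_apply (g : Stab24) (a : Fin 24) : p24 (r24 g a) = g.1 (p24 a) := Fin.ext rfl

def r24Hom : Stab24 →* Equiv.Perm (Fin 24) where
  toFun := r24
  map_one' := by
    apply Equiv.ext
    intro a
    apply Fin.ext
    rfl
  map_mul' g h := by
    apply Equiv.ext
    intro a
    apply Fin.ext
    show ((g.1 * h.1) (p24 a)).val = (g.1 (p24 (r24 h a))).val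
    rw [r24_apply, Equiv.Perm.mul_apply]

/-- the enumeration of the 24 points of `GolayPt` -/
noncomputable def ptE : Fin 24 ≃ GolayPt := Equiv.ofBijective Helper4.pt Helper4.pt_bijective

/-- the action on `GolayPt` -/
noncomputable def ρ₀ : Stab24 →* Equiv.Perm GolayPt := ptE.permCongrHom.toMonoidHom.comp r24Hom

theorem ρ₀_pt (g : Stab24) (a : Fin 24) : ρ₀ g (Helper4.pt a) = Helper4.pt (r24 g a) := by
  show ptE.permCongr (r24 g) (Helper4.pt a) = _
  rw [Equiv.permCongr_apply]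
  have : ptE.symm (Helper4.pt a) = a := ptE.symm_apply_apply a
  rw [this]
  rfl

theorem ρ₀_tActs (g : Stab24) : TActs (ρ₀ g) (r24 g) := ρ₀_pt g

/-- a permutation fixing the 24 points acts trivially on `GolayPt` -/
theorem ρ₀_eq_one (g : Stab24) (h : ∀ a : Fin 24, g.1 (p24 a) = p24 a) : ρ₀ g = 1 := by
  apply Equiv.ext
  intro x
  obtain ⟨a, rfl⟩ := Helper4.pt_bijective.2 x
  rw [ρ₀_pt]
  have : r24 g a = a := by
    apply Fin.ext
    show (g.1 (p24 a)).val = a.val
    rw [h a]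
    rfl
  rw [this]
  rfl

theorem ρ₀_eq_one_iff (g : Stab24) : ρ₀ g = 1 ↔ ∀ a : Fin 24, g.1 (p24 a) = p24 a := by
  refine ⟨fun h a => ?_, ρ₀_eq_one g⟩
  have h1 := ρ₀_pt g a
  rw [h] at h1
  have h2 : a = r24 g a := Helper4.pt_bijective.1 h1
  rw [← r24_apply, ← h2]

/-! ### the group `E` -/

/-- **the group `E = 2^11·M23`** -/
def E : Subgroup Γ := genGroup 530 10 PD.gens

theorem gens_ok' : gensOK 530 10 PD.gens = true := by decide +kernel

/-- the generators preserve the set of the 24 points -/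
theorem gens_stab : (PD.gens.all fun g => (List.range 530).all fun x =>
    decide (look 10 g.1 x < 24) == decide (x < 24)) = true := by decide +kernel

theorem gen_mem_Stab24 {g : ℕ × ℕ} (hg : g ∈ PD.gens) : permOf 530 10 g.1 g.2 ∈ Stab24 := by
  intro x
  rw [permOf_apply (gensOK_spec 530 10 gens_ok' g hg)]
  have h := gens_stab
  rw [List.all_eq_true] at h
  have h1 := h g hg
  rw [List.all_eq_true] at h1
  have h2 := h1 x.val (List.mem_range.mpr x.isLt)
  rw [beq_iff_eq] at h2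
  constructor
  · intro hx
    have : decide (look 10 g.1 x.val < 24) = true := decide_eq_true hx
    rw [h2] at this
    exact of_decide_eq_true this
  · intro hx
    have : decide (x.val < 24) = true := decide_eq_true hx
    rw [← h2] at this
    exact of_decide_eq_true this

theorem E_le_Stab24 : E ≤ Stab24 := by
  unfold E genGroup
  rw [Subgroup.closure_le]
  intro s hs
  have hs' : s ∈ List.map (fun g => permOf 530 10 g.1 g.2) PD.gens := hs
  rw [List.mem_map] at hs'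
  obtain ⟨g, hg, rfl⟩ := hs'
  exact gen_mem_Stab24 hg

/-- the table on the 24 points of the generator number `i` -/
def gtab24 (i : ℕ) (a : Fin 24) : Fin 24 :=
  ⟨look 10 (PD.gens.getD i (0, 0)).1 a.val % 24, Nat.mod_lt _ (by norm_num)⟩

theorem gens_length' : PD.gens.length = 20 := by decide +kernel

theorem getD_mem {i : ℕ} (hi : i < 20) : PD.gens.getD i (0, 0) ∈ PD.gens := by
  rw [List.getD_eq_getElem _ _ (by rw [gens_length']; exact hi)]
  exact List.getElem_mem _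

/-- the generator number `i` -/
noncomputable def gen (i : ℕ) : Γ := permOf 530 10 (PD.gens.getD i (0, 0)).1 (PD.gens.getD i (0, 0)).2

theorem gen_apply {i : ℕ} (hi : i < 20) (x : Fin 530) :
    (gen i x).val = look 10 (PD.gens.getD i (0, 0)).1 x.val :=
  permOf_apply (gensOK_spec 530 10 gens_ok' _ (getD_mem hi)) x

theorem gen_mem_E {i : ℕ} (hi : i < 20) : gen i ∈ E :=
  Subgroup.subset_closure (mem_semGens 530 10 (getD_mem hi))

theorem gen_mem_S {i : ℕ} (hi : i < 20) : gen i ∈ Stab24 := gen_mem_Stab24 (getD_mem hi)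

theorem mem_gens_iff (s : Γ) : s ∈ semGens 530 10 PD.gens ↔ ∃ i < 20, s = gen i := by
  constructor
  · intro hs
    have hs' : s ∈ List.map (fun g => permOf 530 10 g.1 g.2) PD.gens := hs
    rw [List.mem_map] at hs'
    obtain ⟨g, hg, rfl⟩ := hs'
    obtain ⟨i, hi, rfl⟩ := List.mem_iff_getElem.mp hg
    rw [gens_length'] at hi
    refine ⟨i, hi, ?_⟩
    unfold gen
    rw [List.getD_eq_getElem _ _ (by rw [gens_length']; exact hi)]
  · rintro ⟨i, hi, rfl⟩
    exact mem_semGens 530 10 (getD_mem hi)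

theorem r24_gen {i : ℕ} (hi : i < 20) (a : Fin 24) : r24 ⟨gen i, gen_mem_S hi⟩ a = gtab24 i a := by
  apply Fin.ext
  show (gen i (p24 a)).val = look 10 (PD.gens.getD i (0, 0)).1 a.val % 24
  rw [gen_apply hi]
  have h : (gen i (p24 a)).val < 24 := ((gen_mem_S hi) _).2 a.isLt
  rw [gen_apply hi] at h
  exact (Nat.mod_eq_of_lt h).symm

/-- the Golay-code check for the 20 tables -/
theorem gtab24_check : ∀ i : Fin 20, TabCheck (gtab24 i.val) := by decide +kernel

theorem gtab24_fix : ∀ i : Fin 20, gtab24 i.val 23 = 23 := by decide +kernel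

theorem gtab24_shift : ∀ a : Fin 24, gtab24 0 a = shiftTab a := by decide +kernel
theorem gtab24_b : ∀ a : Fin 24, gtab24 1 a = o11_btab a := by decide +kernel
theorem gtab24_twist : ∀ a : Fin 24, gtab24 2 a = cubeTwistTab a := by decide +kernel

theorem ρ₀_gen_tActs {i : ℕ} (hi : i < 20) : TActs (ρ₀ ⟨gen i, gen_mem_S hi⟩) (gtab24 i) := by
  intro a
  rw [ρ₀_pt, r24_gen hi]

theorem ρ₀_gen_mem {i : ℕ} (hi : i < 20) : ρ₀ ⟨gen i, gen_mem_S hi⟩ ∈ Spor.M23 := by
  rw [M23_eq_G23, mem_G23]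
  refine ⟨mem_M24_of_table _ (gtab24 i) (ρ₀_gen_tActs hi) (gtab24_check ⟨i, hi⟩), ?_⟩
  rw [ρ₀_gen_tActs hi 23, gtab24_fix ⟨i, hi⟩]

/-- the elements of `Stab24` acting on `GolayPt` as elements of `M23` -/
noncomputable def M23pre : Subgroup Γ := (Spor.M23.comap ρ₀).map Stab24.subtype

theorem mem_M23pre (g : Γ) : g ∈ M23pre ↔ ∃ h : g ∈ Stab24, ρ₀ ⟨g, h⟩ ∈ Spor.M23 := by
  constructor
  · rintro ⟨g', hg', rfl⟩
    exact ⟨g'.2, hg'⟩
  · rintro ⟨h, hg⟩
    exact ⟨⟨g, h⟩, hg, rfl⟩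

theorem E_le_M23pre : E ≤ M23pre := by
  unfold E genGroup
  rw [Subgroup.closure_le]
  intro s hs
  obtain ⟨i, hi, rfl⟩ := (mem_gens_iff s).1 hs
  exact (mem_M23pre _).2 ⟨gen_mem_S hi, ρ₀_gen_mem hi⟩

/-- the action of `E` on `GolayPt` -/
noncomputable def ρ : ↥E →* Equiv.Perm GolayPt := ρ₀.comp (Subgroup.inclusion E_le_Stab24)

theorem ρ_mem (g : ↥E) : ρ g ∈ Spor.M23 := by
  obtain ⟨h, hg⟩ := (mem_M23pre _).1 (E_le_M23pre g.2)
  exact hg

/-- **the homomorphism of `E` onto `M23`** -/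
noncomputable def ρ' : ↥E →* ↥Spor.M23 := ρ.codRestrict Spor.M23 ρ_mem

theorem ρ'_coe (g : ↥E) : ((ρ' g : ↥Spor.M23) : Equiv.Perm GolayPt) = ρ g := rfl

theorem ρ_gen {i : ℕ} (hi : i < 20) : ρ ⟨gen i, gen_mem_E hi⟩ = ρ₀ ⟨gen i, gen_mem_S hi⟩ := rfl

theorem ρ'_surjective : Function.Surjective ρ' := by
  have hle : Spor.M23 ≤ ρ.range := by
    rw [← o23_gen, Subgroup.closure_le]
    intro g hg
    simp only [Set.mem_insert_iff, Set.mem_range] at hg
    have h0 : (0 : ℕ) < 20 := by norm_num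
    have h1 : (1 : ℕ) < 20 := by norm_num
    have h2 : (2 : ℕ) < 20 := by norm_num
    rcases hg with rfl | rfl | ⟨k, rfl⟩
    · refine ⟨⟨gen 0, gen_mem_E h0⟩, ?_⟩
      rw [ρ_gen h0]
      exact TActs.ext (ρ₀_gen_tActs h0) shift_acts gtab24_shift
    · refine ⟨⟨gen 1, gen_mem_E h1⟩, ?_⟩
      rw [ρ_gen h1]
      exact TActs.ext (ρ₀_gen_tActs h1) o11_b_acts gtab24_b
    · fin_cases k
      refine ⟨⟨gen 2, gen_mem_E h2⟩, ?_⟩
      rw [ρ_gen h2]
      exact TActs.ext (ρ₀_gen_tActs h2) cubeTwist_acts gtab24_twist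
  intro m
  obtain ⟨g, hg⟩ := hle m.2
  exact ⟨g, Subtype.ext hg⟩

theorem ρ_eq_one_iff (g : ↥E) : ρ g = 1 ↔ ∀ a : Fin 24, g.1 (p24 a) = p24 a :=
  ρ₀_eq_one_iff _

theorem mem_ker_iff (g : ↥E) : g ∈ ρ'.ker ↔ ∀ a : Fin 24, g.1 (p24 a) = p24 a := by
  rw [MonoidHom.mem_ker, ← ρ_eq_one_iff]
  constructor
  · intro h
    have := congrArg Subtype.val h
    exact this
  · intro h
    exact Subtype.ext h

end Cfsg.Agent.Lib.Helper15.M23Ext
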