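import Cfsg.Agent.Lib.Helper15.M23ExtRho
import Cfsg.Agent.Lib.Helper15.M23ExtCert

/-!
# S2650: the flips lie in `E`, and `E` acts on them through `M23`  (helper15)

`ν_mem_E : ν w ∈ E`; `equivariant : ν (w ∘ (ρ g)⁻¹) = g * ν w * g⁻¹` for `g ∈ E`; `card_E`.
-/

set_option autoImplicit false
set_option maxRecDepth 100000

namespace Cfsg.Agent.Lib.Helper15.M23Ext

open Cfsg Cfsg.Agent.Lib.Helper28 Cfsg.Agent.Lib.Helper28.BSGS

theorem card_E : Nat.card ↥E = 20891566080 := PD.card_genGroup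

/-- the table of the flip `ν (Pi.single (pt a) 1)` -/
def nU (a : Fin 24) : ℕ := QD.NU.getD a.val 0

set_option maxHeartbeats 0 in
theorem nU_ok : ∀ a : Fin 24, pairOK 530 10 (nU a) (nU a) = true := by decide +kernel

set_option maxHeartbeats 0 in
/-- the tables are those of the flips -/
theorem nU_tab : ∀ a : Fin 24, ((List.range 530).all fun x =>
    look 10 (nU a) x == (if x < 24 then x else if (cm ((x - 24) / 2)).testBit a.val then flipN x else x)) = true := by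
  decide +kernel

/-- the flip at the point `pt a` -/
noncomputable def nP (a : Fin 24) : Γ := permOf 530 10 (nU a) (nU a)

theorem nP_apply (a : Fin 24) (x : Fin 530) : (nP a x).val = look 10 (nU a) x.val := permOf_apply (nU_ok a) x

theorem ν_single (a : Fin 24) : ν (Pi.single (Helper4.pt a) 1) = nP a := by
  apply Equiv.ext
  intro x
  apply Fin.ext
  rw [ν_apply, nP_apply]
  have h := nU_tab a
  rw [List.all_eq_true] at h
  have h1 := h x.val (List.mem_range.mpr x.isLt)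
  rw [beq_iff_eq] at h1
  rw [h1]
  unfold flN
  by_cases hx : x.val < 24
  · rw [if_pos hx, if_pos hx]
  · rw [if_neg hx, if_neg hx, ip_single]
    by_cases hb : (cm ((x.val - 24) / 2)).testBit a.val = true
    · rw [if_pos hb, if_pos hb, if_neg one_ne_zero]
    · rw [if_neg hb, if_neg hb, if_pos rfl]

/-- a property of words which is additive and holds for the 24 unit vectors holds for all words -/
theorem all_of_singles (W : AddSubmonoid (GolayPt → ZMod 2))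
    (h : ∀ a : Fin 24, Pi.single (Helper4.pt a) 1 ∈ W) (w : GolayPt → ZMod 2) : w ∈ W := by
  rw [← Finset.univ_sum_single w]
  apply AddSubmonoid.sum_mem
  intro p _
  rcases zmod2_cases (w p) with h0 | h1
  · rw [h0, Pi.single_zero]
    exact W.zero_mem
  · rw [h1]
    obtain ⟨a, rfl⟩ := Helper4.pt_bijective.2 p
    exact h a

set_option maxHeartbeats 0 in
/-- the 24 flips sift through the chain -/
theorem nU_sift : ∀ a : Fin 24, siftB 530 10 PD.levels [nU a] = true := by decide +kernel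

theorem nP_mem_E (a : Fin 24) : nP a ∈ E :=
  (perm_main 530 10 PD.gens PD.levels PD.gens_ok PD.chain_ok).2 [nU a] (nP a)
    (actsByW_single (nP_apply a)) (nU_sift a)

theorem ν_mem_E (w : GolayPt → ZMod 2) : ν w ∈ E := by
  let W : AddSubmonoid (GolayPt → ZMod 2) :=
    { carrier := {w | ν w ∈ E}
      zero_mem' := by
        show ν 0 ∈ E
        rw [ν_zero]
        exact E.one_mem
      add_mem' := by
        intro w w' hw hw'
        show ν (w + w') ∈ E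
        rw [ν_add]
        exact E.mul_mem hw hw' }
  have : w ∈ W := all_of_singles W (fun a => by
    show ν (Pi.single (Helper4.pt a) 1) ∈ E
    rw [ν_single]
    exact nP_mem_E a) w
  exact this

/-! ### equivariance -/

set_option maxHeartbeats 0 in
/-- `g_i n_a = n_{t_i a} g_i` -/
theorem conj_tab : ∀ (i : Fin 20) (a : Fin 24),
    wordEq 530 10 [(PD.gens.getD i.val (0, 0)).1, nU a] [nU (gtab24 i.val a), (PD.gens.getD i.val (0, 0)).1] = true := by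
  decide +kernel

theorem gen_conj {i : ℕ} (hi : i < 20) (a : Fin 24) : gen i * nP a = nP (gtab24 i a) * gen i :=
  eq_of_wordEq 530 10 (actsByW_cons (gen_apply hi) (actsByW_single (nP_apply a)))
    (actsByW_cons (nP_apply _) (actsByW_single (gen_apply hi))) (conj_tab ⟨i, hi⟩ a)

theorem single_comp (σ : Equiv.Perm GolayPt) (p : GolayPt) :
    (Pi.single p (1 : ZMod 2) : GolayPt → ZMod 2) ∘ ⇑σ⁻¹ = Pi.single (σ p) 1 := by
  funext q
  rw [Function.comp_apply, Pi.single_apply, Pi.single_apply]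
  by_cases h : q = σ p
  · rw [if_pos h, if_pos]
    rw [h, perm_inv_apply]
  · rw [if_neg h, if_neg]
    intro h'
    apply h
    rw [← h', perm_apply_inv]

/-- the elements of `Stab24` for which `ν` is equivariant -/
def Eqv : Subgroup Stab24 where
  carrier := {g | ∀ w : GolayPt → ZMod 2, ν (w ∘ ⇑(ρ₀ g)⁻¹) * g.1 = g.1 * ν w}
  one_mem' := by
    intro w
    rw [map_one, inv_one]
    show ν (w ∘ id) * 1 = 1 * ν w
    rw [Function.comp_id, mul_one, one_mul]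
  mul_mem' := by
    intro g h hg hh w
    rw [map_mul, mul_inv_rev]
    have e : w ∘ ⇑((ρ₀ h)⁻¹ * (ρ₀ g)⁻¹) = (w ∘ ⇑(ρ₀ h)⁻¹) ∘ ⇑(ρ₀ g)⁻¹ := by
      funext q
      rfl
    rw [e]
    show ν ((w ∘ ⇑(ρ₀ h)⁻¹) ∘ ⇑(ρ₀ g)⁻¹) * (g.1 * h.1) = g.1 * h.1 * ν w
    rw [← mul_assoc, hg, mul_assoc, hh, mul_assoc]
  inv_mem' := by
    intro g hg w
    rw [map_inv, inv_inv]
    have h1 := hg (w ∘ ⇑(ρ₀ g))
    have e : (w ∘ ⇑(ρ₀ g)) ∘ ⇑(ρ₀ g)⁻¹ = w := by
      funext q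
      rw [Function.comp_apply, Function.comp_apply, perm_apply_inv]
    rw [e] at h1
    show ν (w ∘ ⇑(ρ₀ g)) * g.1⁻¹ = g.1⁻¹ * ν w
    calc ν (w ∘ ⇑(ρ₀ g)) * g.1⁻¹ = g.1⁻¹ * (g.1 * ν (w ∘ ⇑(ρ₀ g))) * g.1⁻¹ := by group
      _ = g.1⁻¹ * (ν w * g.1) * g.1⁻¹ := by rw [h1]
      _ = g.1⁻¹ * ν w := by group

theorem gen_mem_Eqv {i : ℕ} (hi : i < 20) : (⟨gen i, gen_mem_S hi⟩ : Stab24) ∈ Eqv := by
  intro w
  let W : AddSubmonoid (GolayPt → ZMod 2) :=
    { carrier := {w | ν (w ∘ ⇑(ρ₀ ⟨gen i, gen_mem_S hi⟩)⁻¹) * gen i = gen i * ν w}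
      zero_mem' := by
        show ν ((0 : GolayPt → ZMod 2) ∘ ⇑(ρ₀ ⟨gen i, gen_mem_S hi⟩)⁻¹) * gen i = gen i * ν 0
        have : (0 : GolayPt → ZMod 2) ∘ ⇑(ρ₀ ⟨gen i, gen_mem_S hi⟩)⁻¹ = 0 := rfl
        rw [this, ν_zero, one_mul, mul_one]
      add_mem' := by
        intro w w' hw hw'
        show ν ((w + w') ∘ ⇑(ρ₀ ⟨gen i, gen_mem_S hi⟩)⁻¹) * gen i = gen i * ν (w + w')
        have : (w + w') ∘ ⇑(ρ₀ ⟨gen i, gen_mem_S hi⟩)⁻¹ =
            w ∘ ⇑(ρ₀ ⟨gen i, gen_mem_S hi⟩)⁻¹ + w' ∘ ⇑(ρ₀ ⟨gen i, gen_mem_S hi⟩)⁻¹ := rfl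
        have hw1 : ν (w ∘ ⇑(ρ₀ ⟨gen i, gen_mem_S hi⟩)⁻¹) * gen i = gen i * ν w := hw
        have hw2 : ν (w' ∘ ⇑(ρ₀ ⟨gen i, gen_mem_S hi⟩)⁻¹) * gen i = gen i * ν w' := hw'
        rw [this, ν_add, ν_add, mul_assoc, hw2, ← mul_assoc, hw1, mul_assoc] }
  have : w ∈ W := all_of_singles W (fun a => by
    show ν ((Pi.single (Helper4.pt a) 1 : GolayPt → ZMod 2) ∘ ⇑(ρ₀ ⟨gen i, gen_mem_S hi⟩)⁻¹) * gen i =
      gen i * ν (Pi.single (Helper4.pt a) 1)
    rw [single_comp, ρ₀_gen_tActs hi a, ν_single, ν_single]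
    exact (gen_conj hi a).symm) w
  exact this

theorem E_le_Eqv : E ≤ Eqv.map Stab24.subtype := by
  unfold E genGroup
  rw [Subgroup.closure_le]
  intro s hs
  obtain ⟨i, hi, rfl⟩ := (mem_gens_iff s).1 hs
  exact ⟨⟨gen i, gen_mem_S hi⟩, gen_mem_Eqv hi, rfl⟩

/-- **equivariance of `ν`** -/
theorem equivariant (g : ↥E) (w : GolayPt → ZMod 2) : ν (w ∘ ⇑(ρ g)⁻¹) = g.1 * ν w * g.1⁻¹ := by
  obtain ⟨g', hg', hgg⟩ := E_le_Eqv g.2
  have h1 : ρ g = ρ₀ g' := by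
    show ρ₀ ⟨g.1, _⟩ = ρ₀ g'
    congr 1
    exact Subtype.ext hgg.symm
  have h2 := hg' w
  have h3 : g'.1 = g.1 := hgg
  rw [h1, eq_mul_inv_iff_mul_eq, ← h3]
  exact h2

end Cfsg.Agent.Lib.Helper15.M23Ext
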