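import Cfsg.Agent.Lib.Helper26.M24IdxS

set_option autoImplicit false

/-!
Piece P253 of S1589 (helper15 for helper26): a transitive subgroup of `M24` containing the Sylow
2-subgroup `syT0` does not have order 967680 (index 253).
-/

namespace Cfsg.Agent.H26.M24Idx

open Cfsg MulAction Cfsg.Agent.Lib.Helper28 Cfsg.Agent.H26.M23Idx
open scoped Pointwise

namespace P253

theorem smul_pair' (g : ↥M24) (a b : GolayPt) :
    g • ({a, b} : Finset GolayPt) = {g • a, g • b} := by
  rw [Finset.smul_finset_insert, Finset.smul_finset_singleton]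

theorem p5_ne_17 : ptN 5 ≠ ptN 17 := ptN_ne (by norm_num) (by norm_num) (by norm_num)
theorem p5_ne_21 : ptN 5 ≠ ptN 21 := ptN_ne (by norm_num) (by norm_num) (by norm_num)
theorem p17_ne_21 : ptN 17 ≠ ptN 21 := ptN_ne (by norm_num) (by norm_num) (by norm_num)
theorem p0_ne_5 : ptN 0 ≠ ptN 5 := ptN_ne (by norm_num) (by norm_num) (by norm_num)
theorem p0_ne_17 : ptN 0 ≠ ptN 17 := ptN_ne (by norm_num) (by norm_num) (by norm_num)
theorem p0_ne_21 : ptN 0 ≠ ptN 21 := ptN_ne (by norm_num) (by norm_num) (by norm_num)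

/-- the pair `{17, 21}` -/
def P : Finset GolayPt := {ptN 17, ptN 21}

theorem ptSet_P : ptSet [17, 21] = P := ptSet_pair 17 21

/-- the triple `{5, 17, 21}` -/
def T : Finset GolayPt := {ptN 5, ptN 17, ptN 21}

theorem card_T : T.card = 3 := by
  unfold T
  rw [Finset.card_insert_of_notMem, Finset.card_insert_of_notMem, Finset.card_singleton]
  · rw [Finset.mem_singleton]; exact p17_ne_21
  · rw [Finset.mem_insert, Finset.mem_singleton]
    rintro (h | h)
    · exact p5_ne_17 h
    · exact p5_ne_21 h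

theorem mem_T {q : GolayPt} : q ∈ T ↔ q = ptN 5 ∨ q = ptN 17 ∨ q = ptN 21 := by
  unfold T
  simp only [Finset.mem_insert, Finset.mem_singleton]

/-- there are three distinct points outside a set of at most four points, so a set containing all
points outside it has more than two elements -/
theorem card_ge_of_all (s Δ : Finset GolayPt) (hs : s.card ≤ 4)
    (h : ∀ q : GolayPt, q ∉ s → q ∈ Δ) : 20 ≤ Δ.card := by
  have h1 : (Finset.univ : Finset GolayPt) ⊆ s ∪ Δ := by
    intro q _
    by_cases hq : q ∈ s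
    · exact Finset.mem_union_left _ hq
    · exact Finset.mem_union_right _ (h q hq)
  have h2 := Finset.card_le_card h1
  have h3 := Finset.card_union_le s Δ
  have h4 : (Finset.univ : Finset GolayPt).card = 24 := by
    rw [Finset.card_univ]; decide
  omega

end P253

open P253 in
theorem trans_253 (H : Subgroup ↥M24) (hT : syT0 ≤ H) (hc : Nat.card H = 967680)
    (htr : ∀ q : GolayPt, ∃ h ∈ H, h • ptN 5 = q) : False := by
  have hHa : Nat.card ↥(H ⊓ stabilizer M24 (ptN 5)) = 40320 := by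
    have := card_eq_mul_stab htr
    omega
  rcases core (stab_hfix H) (stab_hT hT) hHa with hK | hK
  swap
  · have hst : H ⊓ stabilizer M24 (ptN 5) ≤ stabilizer M24 (ptSet sy_O0) := by
      rw [hK]; exact inf_le_right
    have := card_le_of_stab_le_octad hT htr hst
    omega
  rw [ptSet_P] at hK
  -- membership in `H` of the elements fixing `5` and stabilizing the pair
  have hD : ∀ g : ↥M24, g • ptN 5 = ptN 5 → g • P = P → g ∈ H := by
    intro g h5 hP
    have : g ∈ H ⊓ stabilizer M24 (ptN 5) := by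
      rw [hK]
      exact Subgroup.mem_inf.mpr ⟨mem_stabilizer_iff.mpr h5, mem_stabilizer_iff.mpr hP⟩
    exact (Subgroup.mem_inf.mp this).1
  have hL : ∀ g : ↥M24, g • ptN 5 = ptN 5 → g • ptN 17 = ptN 17 → g • ptN 21 = ptN 21 →
      g ∈ H := by
    intro g h5 h17 h21
    apply hD g h5
    unfold P
    rw [smul_pair', h17, h21]
  -- the invariance property
  have hδ : ∀ x ∈ H, ∀ h ∈ H, x • (h • ptN 5) = h • ptN 5 → x • (h • P) = h • P := by
    intro x hx h hh hfix
    have h1 : (h⁻¹ * x * h) ∈ H ⊓ stabilizer M24 (ptN 5) := by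
      refine Subgroup.mem_inf.mpr ⟨H.mul_mem (H.mul_mem (H.inv_mem hh) hx) hh, ?_⟩
      rw [mem_stabilizer_iff, mul_smul, mul_smul, hfix, inv_smul_smul]
    rw [hK] at h1
    have h2 : (h⁻¹ * x * h) • P = P := mem_stabilizer_iff.mp (Subgroup.mem_inf.mp h1).2
    rw [mul_smul, mul_smul, inv_smul_eq_iff] at h2
    exact h2
  -- the set `δ₁₇`
  obtain ⟨h17, hh17, hh17'⟩ := htr (ptN 17)
  have hΔcard : (h17 • P).card = 2 := by
    rw [Finset.card_smul_finset]
    unfold P
    rw [Finset.card_insert_of_notMem, Finset.card_singleton]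
    rw [Finset.mem_singleton]; exact p17_ne_21
  have h17notin : ptN 17 ∉ h17 • P := by
    intro hmem
    rw [← hh17', Finset.smul_mem_smul_finset_iff] at hmem
    unfold P at hmem
    rw [Finset.mem_insert, Finset.mem_singleton] at hmem
    rcases hmem with h | h
    · exact p5_ne_17 h
    · exact p5_ne_21 h
  have hΔsub : h17 • P ⊆ T := by
    intro y hy
    by_contra hyT
    have hall : ∀ q : GolayPt, q ∉ T → q ∈ h17 • P := by
      intro q hq
      obtain ⟨g, hgfix, hgy⟩ := exists_fixing_smul_eq T (by rw [card_T]; norm_num) hyT hq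
      have g5 := hgfix (ptN 5) (mem_T.mpr (Or.inl rfl))
      have g17 := hgfix (ptN 17) (mem_T.mpr (Or.inr (Or.inl rfl)))
      have g21 := hgfix (ptN 21) (mem_T.mpr (Or.inr (Or.inr rfl)))
      have hgH := hL g g5 g17 g21
      have hinv := hδ g hgH h17 hh17 (by rw [hh17']; exact g17)
      rw [← hgy, ← hinv]
      exact Finset.smul_mem_smul_finset hy
    have := card_ge_of_all T (h17 • P) (by rw [card_T]; norm_num) hall
    omega
  have hΔeq : h17 • P = {ptN 5, ptN 21} := by
    apply Finset.eq_of_subset_of_card_le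
    · intro y hy
      have h1 := mem_T.mp (hΔsub hy)
      rw [Finset.mem_insert, Finset.mem_singleton]
      rcases h1 with h | h | h
      · exact Or.inl h
      · exact absurd (h ▸ hy) h17notin
      · exact Or.inr h
    · rw [hΔcard]
      exact Finset.card_le_two
  -- the element `j1` swapping 17 and 21
  obtain ⟨g1, hg1fix, hg1⟩ := exists_fixing_smul_eq ({ptN 5} : Finset GolayPt) (by simp)
    (p := ptN 17) (q := ptN 21) (by rw [Finset.mem_singleton]; exact p5_ne_17.symm)
    (by rw [Finset.mem_singleton]; exact p5_ne_21.symm)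
  have hg15 : g1 • ptN 5 = ptN 5 := hg1fix _ (Finset.mem_singleton_self _)
  have hy5 : g1 • ptN 21 ≠ ptN 5 := by
    intro h
    exact p5_ne_21 (smul_left_cancel g1 (h.trans hg15.symm)).symm
  have hy21 : g1 • ptN 21 ≠ ptN 21 := by
    intro h
    exact p17_ne_21 (smul_left_cancel g1 (h.trans hg1.symm)).symm
  obtain ⟨g2, hg2fix, hg2⟩ := exists_fixing_smul_eq ({ptN 5, ptN 21} : Finset GolayPt)
    (Finset.card_le_two.trans (by norm_num))
    (p := g1 • ptN 21) (q := ptN 17)
    (by rw [Finset.mem_insert, Finset.mem_singleton]; rintro (h | h)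
        · exact hy5 h
        · exact hy21 h)
    (by rw [Finset.mem_insert, Finset.mem_singleton]; rintro (h | h)
        · exact p5_ne_17 h.symm
        · exact p17_ne_21 h)
  have hg25 : g2 • ptN 5 = ptN 5 := hg2fix _ (by simp)
  have hg221 : g2 • ptN 21 = ptN 21 := hg2fix _ (by simp)
  have hj5 : (g2 * g1) • ptN 5 = ptN 5 := by rw [mul_smul, hg15, hg25]
  have hj17 : (g2 * g1) • ptN 17 = ptN 21 := by rw [mul_smul, hg1, hg221]
  have hj21 : (g2 * g1) • ptN 21 = ptN 17 := by rw [mul_smul, hg2]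
  have hj1H : g2 * g1 ∈ H := by
    apply hD _ hj5
    unfold P
    rw [smul_pair', hj17, hj21, Finset.pair_comm]
  -- the element `j2`
  have hj2H : h17 * (g2 * g1) * h17⁻¹ ∈ H := H.mul_mem (H.mul_mem hh17 hj1H) (H.inv_mem hh17)
  have hinv5 : h17⁻¹ • ptN 17 = ptN 5 := by rw [inv_smul_eq_iff, hh17']
  have hj2_17 : (h17 * (g2 * g1) * h17⁻¹) • ptN 17 = ptN 17 := by
    rw [mul_smul, mul_smul, hinv5, hj5, hh17']
  have hj2a : (h17 * (g2 * g1) * h17⁻¹) • (h17 • ptN 17) = h17 • ptN 21 := by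
    rw [mul_smul, mul_smul, inv_smul_smul, hj17]
  have hj2b : (h17 * (g2 * g1) * h17⁻¹) • (h17 • ptN 21) = h17 • ptN 17 := by
    rw [mul_smul, mul_smul, inv_smul_smul, hj21]
  have hpairs : (h17 • ptN 17 = ptN 5 ∧ h17 • ptN 21 = ptN 21) ∨
      (h17 • ptN 17 = ptN 21 ∧ h17 • ptN 21 = ptN 5) := by
    have hne : h17 • ptN 17 ≠ h17 • ptN 21 := fun h => p17_ne_21 (smul_left_cancel h17 h)
    have ha : h17 • ptN 17 ∈ ({ptN 5, ptN 21} : Finset GolayPt) := by
      rw [← hΔeq]
      exact Finset.smul_mem_smul_finset (by unfold P; simp)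
    have hb : h17 • ptN 21 ∈ ({ptN 5, ptN 21} : Finset GolayPt) := by
      rw [← hΔeq]
      exact Finset.smul_mem_smul_finset (by unfold P; simp)
    rw [Finset.mem_insert, Finset.mem_singleton] at ha hb
    rcases ha with ha | ha <;> rcases hb with hb | hb
    · exact absurd (ha.trans hb.symm) hne
    · exact Or.inl ⟨ha, hb⟩
    · exact Or.inr ⟨ha, hb⟩
    · exact absurd (ha.trans hb.symm) hne
  have hj2_5 : (h17 * (g2 * g1) * h17⁻¹) • ptN 5 = ptN 21 := by
    rcases hpairs with ⟨ha, hb⟩ | ⟨ha, hb⟩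
    · rw [← ha, hj2a, hb]
    · rw [← hb, hj2b, ha]
  have hj2_21 : (h17 * (g2 * g1) * h17⁻¹) • ptN 21 = ptN 5 := by
    rcases hpairs with ⟨ha, hb⟩ | ⟨ha, hb⟩
    · rw [← hb, hj2b, ha]
    · rw [← ha, hj2a, hb]
  -- the 3-cycle `c`
  set c : ↥M24 := (g2 * g1) * (h17 * (g2 * g1) * h17⁻¹) with hc_def
  have hcH : c ∈ H := H.mul_mem hj1H hj2H
  have hc5 : c • ptN 5 = ptN 17 := by rw [hc_def, mul_smul, hj2_5, hj21]
  have hc17 : c • ptN 17 = ptN 21 := by rw [hc_def, mul_smul, hj2_17, hj17]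
  have hc21 : c • ptN 21 = ptN 5 := by rw [hc_def, mul_smul, hj2_21, hj5]
  -- the set `δ_d`
  obtain ⟨hd, hhd, hhd'⟩ := htr (ptN 0)
  have hΔdcard : (hd • P).card = 2 := by
    rw [Finset.card_smul_finset]
    unfold P
    rw [Finset.card_insert_of_notMem, Finset.card_singleton]
    rw [Finset.mem_singleton]; exact p17_ne_21
  have hdnotin : ptN 0 ∉ hd • P := by
    intro hmem
    rw [← hhd', Finset.smul_mem_smul_finset_iff] at hmem
    unfold P at hmem
    rw [Finset.mem_insert, Finset.mem_singleton] at hmem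
    rcases hmem with h | h
    · exact p5_ne_17 h
    · exact p5_ne_21 h
  have hT0 : ptN 0 ∉ T := by
    rw [mem_T]
    rintro (h | h | h)
    · exact p0_ne_5 h
    · exact p0_ne_17 h
    · exact p0_ne_21 h
  have hΔdsub : hd • P ⊆ T := by
    intro y hy
    by_contra hyT
    have hy0 : y ≠ ptN 0 := fun h => hdnotin (h ▸ hy)
    have hcard4 : (insert (ptN 0) T).card ≤ 4 := by
      rw [Finset.card_insert_of_notMem hT0, card_T]
    have hyS : y ∉ insert (ptN 0) T := by
      rw [Finset.mem_insert]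
      rintro (h | h)
      · exact hy0 h
      · exact hyT h
    have hall : ∀ q : GolayPt, q ∉ insert (ptN 0) T → q ∈ hd • P := by
      intro q hq
      obtain ⟨g, hgfix, hgy⟩ := exists_fixing_smul_eq (insert (ptN 0) T) hcard4 hyS hq
      have g0 := hgfix (ptN 0) (Finset.mem_insert_self _ _)
      have g5 := hgfix (ptN 5) (Finset.mem_insert_of_mem (mem_T.mpr (Or.inl rfl)))
      have g17 := hgfix (ptN 17) (Finset.mem_insert_of_mem (mem_T.mpr (Or.inr (Or.inl rfl))))
      have g21 := hgfix (ptN 21) (Finset.mem_insert_of_mem (mem_T.mpr (Or.inr (Or.inr rfl))))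
      have hgH := hL g g5 g17 g21
      have hinv := hδ g hgH hd hhd (by rw [hhd']; exact g0)
      rw [← hgy, ← hinv]
      exact Finset.smul_mem_smul_finset hy
    have := card_ge_of_all (insert (ptN 0) T) (hd • P) hcard4 hall
    omega
  -- the element `l * c`
  have hcd : c • ptN 0 ∉ T := by
    rw [mem_T]
    rintro (h | h | h)
    · rw [← hc21] at h
      exact p0_ne_21 (smul_left_cancel c h)
    · rw [← hc5] at h
      exact p0_ne_5 (smul_left_cancel c h)
    · rw [← hc17] at h
      exact p0_ne_17 (smul_left_cancel c h)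
  obtain ⟨l, hlfix, hl⟩ := exists_fixing_smul_eq T (by rw [card_T]; norm_num) hcd hT0
  have l5 := hlfix (ptN 5) (mem_T.mpr (Or.inl rfl))
  have l17 := hlfix (ptN 17) (mem_T.mpr (Or.inr (Or.inl rfl)))
  have l21 := hlfix (ptN 21) (mem_T.mpr (Or.inr (Or.inr rfl)))
  have hlH := hL l l5 l17 l21
  have hxH : l * c ∈ H := H.mul_mem hlH hcH
  have hx0 : (l * c) • ptN 0 = ptN 0 := by rw [mul_smul, hl]
  have hx5 : (l * c) • ptN 5 = ptN 17 := by rw [mul_smul, hc5, l17]
  have hx17 : (l * c) • ptN 17 = ptN 21 := by rw [mul_smul, hc17, l21]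
  have hx21 : (l * c) • ptN 21 = ptN 5 := by rw [mul_smul, hc21, l5]
  have hxinv := hδ (l * c) hxH hd hhd (by rw [hhd']; exact hx0)
  have hmem_iff : ∀ y : GolayPt, y ∈ hd • P ↔ (l * c) • y ∈ hd • P := by
    intro y
    conv_rhs => rw [← hxinv]
    exact (Finset.smul_mem_smul_finset_iff (l * c)).symm
  have h5_17 := hmem_iff (ptN 5)
  have h17_21 := hmem_iff (ptN 17)
  have h21_5 := hmem_iff (ptN 21)
  rw [hx5] at h5_17
  rw [hx17] at h17_21
  rw [hx21] at h21_5
  have hne : (hd • P).Nonempty := by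
    rw [← Finset.card_pos, hΔdcard]; norm_num
  obtain ⟨y, hy⟩ := hne
  have hall3 : ptN 5 ∈ hd • P ∧ ptN 17 ∈ hd • P ∧ ptN 21 ∈ hd • P := by
    rcases mem_T.mp (hΔdsub hy) with h | h | h
    · have a := h ▸ hy
      exact ⟨a, h5_17.mp a, h17_21.mp (h5_17.mp a)⟩
    · have a := h ▸ hy
      exact ⟨h21_5.mp (h17_21.mp a), a, h17_21.mp a⟩
    · have a := h ▸ hy
      exact ⟨h21_5.mp a, h5_17.mp (h21_5.mp a), a⟩
  have hTsub : T ⊆ hd • P := by
    intro q hq
    rcases mem_T.mp hq with h | h | h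
    · rw [h]; exact hall3.1
    · rw [h]; exact hall3.2.1
    · rw [h]; exact hall3.2.2
  have := Finset.card_le_card hTsub
  rw [card_T, hΔdcard] at this
  omega

end Cfsg.Agent.H26.M24Idx
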