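import Mathlib
import Cfsg.Agent.Lib.Helper15.Mx16

/-!
# Maximal subgroups of `PSL₂(q)`, `q` odd, part 17: the assembly
-/

set_option autoImplicit false

open scoped Pointwise

namespace Cfsg.Agent.Lib.Helper15.Mx

open Matrix
open Cfsg.Agent.Lib.Helper14
open Cfsg.Agent.Lib.Helper15
open Cfsg.Agent.Lib.Helper15.Dk

/-- the list of possible isomorphism types of a maximal subgroup of `PSL₂(q)`, `q` odd -/
def MaxList (F : Type*) [Field F] [Fintype F] (p : ℕ) (G : Type*) [Group G] : Prop :=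
    2 * Nat.card G = Fintype.card F * (Fintype.card F - 1) ∨
    (13 ≤ Fintype.card F ∧ (∃ k : ℕ, 2 * k = Fintype.card F - 1 ∧ Nonempty (G ≃* DihedralGroup k))) ∨
    (Fintype.card F ≠ 7 ∧ Fintype.card F ≠ 9 ∧ (∃ k : ℕ, 2 * k = Fintype.card F + 1 ∧ Nonempty (G ≃* DihedralGroup k))) ∨
    (∃ (F₀ : Type) (_ : Field F₀) (_ : Fintype F₀), Fintype.card F = Fintype.card F₀ ^ 2 ∧
        Nonempty (G ≃* Matrix.ProjGenLinGroup (Fin 2) F₀)) ∨
    (∃ (F₀ : Type) (_ : Field F₀) (_ : Fintype F₀) (r : ℕ), r.Prime ∧ Odd r ∧ Fintype.card F = Fintype.card F₀ ^ r ∧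
        Nonempty (G ≃* Matrix.ProjectiveSpecialLinearGroup (Fin 2) F₀)) ∨
    ((Fintype.card F % 10 = 1 ∨ Fintype.card F % 10 = 9) ∧
        (Fintype.card F = p ∨ (Fintype.card F = p ^ 2 ∧ (p % 10 = 3 ∨ p % 10 = 7))) ∧
        Nonempty (G ≃* alternatingGroup (Fin 5))) ∨
    (Fintype.card F = p ∧ (p % 8 = 3 ∨ p % 8 = 5) ∧ ¬ (p % 10 = 1 ∨ p % 10 = 9) ∧
        Nonempty (G ≃* alternatingGroup (Fin 4))) ∨
    (Fintype.card F = p ∧ (p % 8 = 1 ∨ p % 8 = 7) ∧ Nonempty (G ≃* Equiv.Perm (Fin 4)))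

theorem MaxList.congr {F : Type*} [Field F] [Fintype F] {p : ℕ} {G G' : Type*} [Group G] [Group G']
    (e : G ≃* G') (h : MaxList F p G') : MaxList F p G := by
  rcases h with h | ⟨h13, k, hk, ⟨e'⟩⟩ | ⟨h7, h9, k, hk, ⟨e'⟩⟩ | ⟨F₀, i1, i2, hq, ⟨e'⟩⟩ |
    ⟨F₀, i1, i2, r, hr, hro, hq, ⟨e'⟩⟩ | ⟨h10, hqp, ⟨e'⟩⟩ | ⟨hqp, h8, h10, ⟨e'⟩⟩ | ⟨hqp, h8, ⟨e'⟩⟩
  · left
    rw [Nat.card_congr e.toEquiv]
    exact h
  · exact Or.inr (Or.inl ⟨h13, k, hk, ⟨e.trans e'⟩⟩)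
  · exact Or.inr (Or.inr (Or.inl ⟨h7, h9, k, hk, ⟨e.trans e'⟩⟩))
  · exact Or.inr (Or.inr (Or.inr (Or.inl ⟨F₀, i1, i2, hq, ⟨e.trans e'⟩⟩)))
  · exact Or.inr (Or.inr (Or.inr (Or.inr (Or.inl ⟨F₀, i1, i2, r, hr, hro, hq, ⟨e.trans e'⟩⟩))))
  · exact Or.inr (Or.inr (Or.inr (Or.inr (Or.inr (Or.inl ⟨h10, hqp, ⟨e.trans e'⟩⟩)))))
  · exact Or.inr (Or.inr (Or.inr (Or.inr (Or.inr (Or.inr (Or.inl ⟨hqp, h8, h10, ⟨e.trans e'⟩⟩))))))
  · exact Or.inr (Or.inr (Or.inr (Or.inr (Or.inr (Or.inr (Or.inr ⟨hqp, h8, ⟨e.trans e'⟩⟩))))))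

variable {F : Type*} [Field F] [Fintype F]

/-- the maximal subgroups of `PSL₂(q)`, `q` odd -/
theorem maximal_odd (p : ℕ) [Fact p.Prime] [CharP F p] (hodd : Odd (Fintype.card F))
    (h5 : 5 ≤ Fintype.card F) (M : Subgroup (ProjectiveSpecialLinearGroup (Fin 2) F))
    (hM : IsCoatom M) : MaxList F p ↥M := by
  have h2 := two_ne_zero_of_odd hodd
  have hd2 := card_center_of_odd hodd
  have h4 : 4 ≤ Fintype.card F := by omega
  have CP : ∀ M' : Subgroup (ProjectiveSpecialLinearGroup (Fin 2) F), IsCoatom M' → HasNormalP p M' →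
      MaxList F p ↥M' := by
    rintro M' hM' ⟨S, -, hS, hS1, hnorm⟩
    have := card_of_normal_p_subgroup p M' S hM' hS hS1 hnorm
    rw [hd2] at this
    left
    omega
  have CT : ∀ M' : Subgroup (ProjectiveSpecialLinearGroup (Fin 2) F), IsCoatom M' → HasNormalTorus M' →
      MaxList F p ↥M' := by
    rintro M' hM' ⟨g, hg, ht, -, hnorm⟩
    obtain ⟨n, hn, ⟨e⟩⟩ := dihedral_of_normal_torus M' hM' h4 g hg ht hnorm
    rw [hd2] at hn
    rcases hn with hn | hn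
    · right; left
      exact ⟨dihedral_minus hodd h5 M' hM' n hn e, n, by omega, ⟨e⟩⟩
    · right; right; left
      obtain ⟨h7, h9⟩ := dihedral_plus hodd M' hM' n hn e
      exact ⟨h7, h9, n, by omega, ⟨e⟩⟩
  have CC : ∀ (M' : Subgroup (ProjectiveSpecialLinearGroup (Fin 2) F)) (_ : IsCoatom M') (b₁ : F)
      (w : SpecialLinearGroup (Fin 2) F), Cfg (M'.comap (toPSL2 F)) b₁ w → MaxList F p ↥M' := by
    intro M' hM' b₁ w c
    rcases cfg_odd_maximal hodd h5 M' hM' b₁ w c with h | h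
    · exact Or.inr (Or.inr (Or.inr (Or.inl h)))
    · exact Or.inr (Or.inr (Or.inr (Or.inr (Or.inl h))))
  have C5 : ∀ M' : Subgroup (ProjectiveSpecialLinearGroup (Fin 2) F), IsCoatom M' →
      Nonempty (M' ≃* alternatingGroup (Fin 5)) → MaxList F p ↥M' := by
    rintro M' hM' ⟨e⟩
    rcases a5_case p hodd M' hM' e with ⟨h10, hq⟩ | h | h
    · exact Or.inr (Or.inr (Or.inr (Or.inr (Or.inr (Or.inl ⟨h10, hq, ⟨e⟩⟩)))))
    · exact Or.inr (Or.inr (Or.inr (Or.inl h)))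
    · exact Or.inr (Or.inr (Or.inr (Or.inr (Or.inl h))))
  have C4 : ∀ M' : Subgroup (ProjectiveSpecialLinearGroup (Fin 2) F), IsCoatom M' →
      Nonempty (M' ≃* alternatingGroup (Fin 4)) → MaxList F p ↥M' := by
    rintro M' hM' ⟨e⟩
    rcases a4_case p hodd h5 M' hM' e with ⟨hq, h8, h10⟩ | h
    · exact Or.inr (Or.inr (Or.inr (Or.inr (Or.inr (Or.inr (Or.inl ⟨hq, h8, h10, ⟨e⟩⟩))))))
    · exact Or.inr (Or.inr (Or.inr (Or.inr (Or.inl h))))
  have CS : ∀ M' : Subgroup (ProjectiveSpecialLinearGroup (Fin 2) F), IsCoatom M' →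
      Nonempty (M' ≃* Equiv.Perm (Fin 4)) → MaxList F p ↥M' := by
    rintro M' hM' ⟨e⟩
    rcases s4_case p hodd M' hM' e with ⟨hq, h8⟩ | h | h
    · exact Or.inr (Or.inr (Or.inr (Or.inr (Or.inr (Or.inr (Or.inr ⟨hq, h8, ⟨e⟩⟩))))))
    · exact Or.inr (Or.inr (Or.inr (Or.inl h)))
    · exact Or.inr (Or.inr (Or.inr (Or.inr (Or.inl h))))
  by_cases hdiv : p ∣ Nat.card M
  · obtain ⟨x, h | ⟨b₁, w, c⟩ | h | ⟨h, -⟩⟩ := dickson_refined p M hdiv
    · exact MaxList.congr (Subgroup.equivSMul (MulAut.conj x) M) (CP _ (isCoatom_conj_smul x M hM) h)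
    · exact MaxList.congr (Subgroup.equivSMul (MulAut.conj x) M) (CC _ (isCoatom_conj_smul x M hM) b₁ w c)
    · exact MaxList.congr (Subgroup.equivSMul (MulAut.conj x) M) (CT _ (isCoatom_conj_smul x M hM) h)
    · exact MaxList.congr (Subgroup.equivSMul (MulAut.conj x) M) (C5 _ (isCoatom_conj_smul x M hM) h)
  · rcases dickson_coprime_refined p M hdiv with h1 | h | h | h | h
    · exfalso
      have hbot : M = ⊥ := Subgroup.card_eq_one.1 h1
      have hnc := not_comm_PSL2 (F := F)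
      apply hnc
      intro a b
      by_cases ha : a = 1
      · rw [ha, one_mul, mul_one]
      have hlt : M < Subgroup.zpowers a := by
        rw [hbot]
        exact bot_lt_iff_ne_bot.2 (fun h => ha (Subgroup.zpowers_eq_bot.1 h))
      have htop := hM.2 _ hlt
      have hb : b ∈ Subgroup.zpowers a := by rw [htop]; exact Subgroup.mem_top _
      obtain ⟨i, rfl⟩ := Subgroup.mem_zpowers_iff.1 hb
      exact (zpow_mul_comm a 1 i |> fun h => by simpa using h)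
    · exact CT M hM h
    · exact C4 M hM h
    · exact CS M hM h
    · exact C5 M hM h

end Cfsg.Agent.Lib.Helper15.Mx
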