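import Mathlib
import Cfsg.Agent.Lib.Helper15.QuadCount4
import Cfsg.Agent.Lib.Helper15.DihOrthMinus
import Cfsg.Agent.S0250
set_option autoImplicit false
namespace Cfsg.Agent.Lib.Helper15

open Matrix
open scoped Kronecker

/-- the shape of `S₃ ≀ C₂` -/
def IsS3Wr2 (G : Type*) [Group G] : Prop :=
  ∃ (A B : Subgroup G), Nonempty (↥A ≃* Equiv.Perm (Fin 3)) ∧ Nonempty (↥B ≃* Equiv.Perm (Fin 3)) ∧ A ⊓ B = ⊥ ∧
    (∀ a ∈ A, ∀ b ∈ B, a * b = b * a) ∧ (A ⊔ B).index = 2 ∧ ∃ g : G, A.map (MulAut.conj g).toMonoidHom = B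

theorem IsS3Wr2.of_equiv {G H : Type*} [Group G] [Group H] (e : G ≃* H) (h : IsS3Wr2 G) : IsS3Wr2 H := by
  obtain ⟨A, B, ⟨eA⟩, ⟨eB⟩, hAB, hcomm, hidx, g, hg⟩ := h
  refine ⟨A.map e.toMonoidHom, B.map e.toMonoidHom, ⟨(e.subgroupMap A).symm.trans eA⟩,
    ⟨(e.subgroupMap B).symm.trans eB⟩, ?_, ?_, ?_, e g, ?_⟩
  · rw [← Subgroup.map_inf _ _ _ e.injective, hAB, Subgroup.map_bot]
  · rintro _ ⟨a, ha, rfl⟩ _ ⟨b, hb, rfl⟩
    show e a * e b = e b * e a
    rw [← map_mul, ← map_mul, hcomm a ha b hb]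
  · rw [← Subgroup.map_sup]
    exact (Subgroup.index_map_equiv (A ⊔ B) e).trans hidx
  · rw [← hg, Subgroup.map_map, Subgroup.map_map]
    congr 1
    ext x
    simp

section detform
variable {F : Type*} [Field F]

/-- the determinant form on `Fin 2 × Fin 2 → F` -/
def detForm (F : Type*) [Field F] (v : Fin 2 × Fin 2 → F) : F := v (0, 0) * v (1, 1) - v (0, 1) * v (1, 0)

theorem detForm_vec (X : Matrix (Fin 2) (Fin 2) F) : detForm F (vec X) = X.det := by
  rw [Matrix.det_fin_two]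
  unfold detForm
  simp only [vec]
  ring

theorem exists_vec (v : Fin 2 × Fin 2 → F) : ∃ X : Matrix (Fin 2) (Fin 2) F, vec X = v := vec_bijective.2 v

/-- left multiplication -/
def leftKron : SpecialLinearGroup (Fin 2) F →* Matrix (Fin 2 × Fin 2) (Fin 2 × Fin 2) F where
  toFun P := (1 : Matrix (Fin 2) (Fin 2) F) ⊗ₖ (P : Matrix (Fin 2) (Fin 2) F)
  map_one' := by
    change (1 : Matrix (Fin 2) (Fin 2) F) ⊗ₖ (1 : Matrix (Fin 2) (Fin 2) F) = 1
    exact one_kronecker_one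
  map_mul' P R := by
    change (1 : Matrix (Fin 2) (Fin 2) F) ⊗ₖ ((P : Matrix (Fin 2) (Fin 2) F) * (R : Matrix (Fin 2) (Fin 2) F)) = _
    rw [← mul_kronecker_mul, Matrix.one_mul]

/-- right multiplication by the transpose -/
def rightKron : SpecialLinearGroup (Fin 2) F →* Matrix (Fin 2 × Fin 2) (Fin 2 × Fin 2) F where
  toFun P := (P : Matrix (Fin 2) (Fin 2) F) ⊗ₖ (1 : Matrix (Fin 2) (Fin 2) F)
  map_one' := by
    change (1 : Matrix (Fin 2) (Fin 2) F) ⊗ₖ (1 : Matrix (Fin 2) (Fin 2) F) = 1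
    exact one_kronecker_one
  map_mul' P R := by
    change ((P : Matrix (Fin 2) (Fin 2) F) * (R : Matrix (Fin 2) (Fin 2) F)) ⊗ₖ (1 : Matrix (Fin 2) (Fin 2) F) = _
    rw [← mul_kronecker_mul, Matrix.one_mul]

def leftGL : SpecialLinearGroup (Fin 2) F →* GL (Fin 2 × Fin 2) F := MonoidHom.toHomUnits leftKron
def rightGL : SpecialLinearGroup (Fin 2) F →* GL (Fin 2 × Fin 2) F := MonoidHom.toHomUnits rightKron

theorem leftGL_coe (P : SpecialLinearGroup (Fin 2) F) :
    ((leftGL P : GL (Fin 2 × Fin 2) F) : Matrix (Fin 2 × Fin 2) (Fin 2 × Fin 2) F) = (1 : Matrix (Fin 2) (Fin 2) F) ⊗ₖ (P : Matrix (Fin 2) (Fin 2) F) := rfl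

theorem rightGL_coe (P : SpecialLinearGroup (Fin 2) F) :
    ((rightGL P : GL (Fin 2 × Fin 2) F) : Matrix (Fin 2 × Fin 2) (Fin 2 × Fin 2) F) = (P : Matrix (Fin 2) (Fin 2) F) ⊗ₖ (1 : Matrix (Fin 2) (Fin 2) F) := rfl

theorem leftGL_mem (P : SpecialLinearGroup (Fin 2) F) : leftGL P ∈ Cfsg.isometryGroup F (detForm F) := by
  rw [mem_isometryGroup_iff]
  intro v
  obtain ⟨X, rfl⟩ := exists_vec v
  rw [leftGL_coe, kronecker_mulVec_vec, detForm_vec, detForm_vec, det_mul, det_mul, transpose_one, det_one, mul_one,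
    P.2, one_mul]

theorem rightGL_mem (P : SpecialLinearGroup (Fin 2) F) : rightGL P ∈ Cfsg.isometryGroup F (detForm F) := by
  rw [mem_isometryGroup_iff]
  intro v
  obtain ⟨X, rfl⟩ := exists_vec v
  rw [rightGL_coe, kronecker_mulVec_vec, detForm_vec, detForm_vec, det_mul, det_mul, det_transpose, det_one, one_mul,
    P.2, mul_one]

def leftIso : SpecialLinearGroup (Fin 2) F →* Cfsg.isometryGroup F (detForm F) :=
  MonoidHom.codRestrict leftGL _ leftGL_mem
def rightIso : SpecialLinearGroup (Fin 2) F →* Cfsg.isometryGroup F (detForm F) :=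
  MonoidHom.codRestrict rightGL _ rightGL_mem

theorem leftIso_coe (P : SpecialLinearGroup (Fin 2) F) :
    (((leftIso P : Cfsg.isometryGroup F (detForm F)) : GL (Fin 2 × Fin 2) F) : Matrix (Fin 2 × Fin 2) (Fin 2 × Fin 2) F) = (1 : Matrix (Fin 2) (Fin 2) F) ⊗ₖ (P : Matrix (Fin 2) (Fin 2) F) := rfl

theorem rightIso_coe (P : SpecialLinearGroup (Fin 2) F) :
    (((rightIso P : Cfsg.isometryGroup F (detForm F)) : GL (Fin 2 × Fin 2) F) : Matrix (Fin 2 × Fin 2) (Fin 2 × Fin 2) F) = (P : Matrix (Fin 2) (Fin 2) F) ⊗ₖ (1 : Matrix (Fin 2) (Fin 2) F) := rfl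

theorem iso_ext {g h : Cfsg.isometryGroup F (detForm F)}
    (H : ((g : GL (Fin 2 × Fin 2) F) : Matrix (Fin 2 × Fin 2) (Fin 2 × Fin 2) F) = ((h : GL (Fin 2 × Fin 2) F) : Matrix (Fin 2 × Fin 2) (Fin 2 × Fin 2) F)) : g = h :=
  Subtype.ext (Units.ext H)

theorem left_right_commute (P R : SpecialLinearGroup (Fin 2) F) : Commute (leftIso P) (rightIso R) := by
  apply iso_ext
  show (1 : Matrix (Fin 2) (Fin 2) F) ⊗ₖ (P : Matrix (Fin 2) (Fin 2) F) * ((R : Matrix (Fin 2) (Fin 2) F) ⊗ₖ (1 : Matrix (Fin 2) (Fin 2) F))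
    = ((R : Matrix (Fin 2) (Fin 2) F) ⊗ₖ (1 : Matrix (Fin 2) (Fin 2) F)) * ((1 : Matrix (Fin 2) (Fin 2) F) ⊗ₖ (P : Matrix (Fin 2) (Fin 2) F))
  rw [← mul_kronecker_mul, ← mul_kronecker_mul, Matrix.one_mul, Matrix.mul_one, Matrix.one_mul, Matrix.mul_one]

theorem leftIso_injective : Function.Injective (leftIso (F := F)) := by
  intro P R h
  have h1 := congrArg (fun g : Cfsg.isometryGroup F (detForm F) => ((g : GL (Fin 2 × Fin 2) F) : Matrix (Fin 2 × Fin 2) (Fin 2 × Fin 2) F)) h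
  simp only [leftIso_coe] at h1
  apply Subtype.ext
  ext j l
  have := congrFun (congrFun h1 (0, j)) (0, l)
  simpa [kronecker_apply] using this

theorem rightIso_injective : Function.Injective (rightIso (F := F)) := by
  intro P R h
  have h1 := congrArg (fun g : Cfsg.isometryGroup F (detForm F) => ((g : GL (Fin 2 × Fin 2) F) : Matrix (Fin 2 × Fin 2) (Fin 2 × Fin 2) F)) h
  simp only [rightIso_coe] at h1
  apply Subtype.ext
  ext j l
  have := congrFun (congrFun h1 (j, 0)) (l, 0)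
  simpa [kronecker_apply] using this

/-- the transposition of the two tensor factors -/
def swapKron (F : Type*) [Field F] : Matrix (Fin 2 × Fin 2) (Fin 2 × Fin 2) F := (1 : Matrix (Fin 2 × Fin 2) (Fin 2 × Fin 2) F).submatrix Prod.swap id

theorem swapKron_mulVec (v : Fin 2 × Fin 2 → F) : swapKron F *ᵥ v = v ∘ Prod.swap := by
  funext i
  unfold swapKron
  simp [Matrix.mulVec, dotProduct, Matrix.one_apply]

theorem swapKron_mul_self : swapKron F * swapKron F = 1 := by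
  apply Matrix.toLin'.injective
  apply LinearMap.ext
  intro v
  rw [Matrix.toLin'_apply, ← Matrix.mulVec_mulVec, swapKron_mulVec, swapKron_mulVec, Matrix.toLin'_one, LinearMap.id_apply]
  funext i
  simp

def swapKronGL (F : Type*) [Field F] : GL (Fin 2 × Fin 2) F := ⟨swapKron F, swapKron F, swapKron_mul_self, swapKron_mul_self⟩

theorem swapKronGL_mem : swapKronGL F ∈ Cfsg.isometryGroup F (detForm F) := by
  rw [mem_isometryGroup_iff]
  intro v
  show detForm F (swapKron F *ᵥ v) = _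
  rw [swapKron_mulVec]
  unfold detForm
  simp only [Function.comp_apply, Prod.swap_prod_mk]
  ring

def swapKronIso (F : Type*) [Field F] : Cfsg.isometryGroup F (detForm F) := ⟨swapKronGL F, swapKronGL_mem⟩

theorem swapKronIso_conj (P : SpecialLinearGroup (Fin 2) F) :
    swapKronIso F * leftIso P * (swapKronIso F)⁻¹ = rightIso P := by
  have h1 : (swapKronIso F)⁻¹ = swapKronIso F := by
    apply inv_eq_of_mul_eq_one_left
    apply iso_ext
    exact swapKron_mul_self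
  rw [h1]
  apply iso_ext
  show swapKron F * ((1 : Matrix (Fin 2) (Fin 2) F) ⊗ₖ (P : Matrix (Fin 2) (Fin 2) F)) * swapKron F = (P : Matrix (Fin 2) (Fin 2) F) ⊗ₖ (1 : Matrix (Fin 2) (Fin 2) F)
  apply Matrix.toLin'.injective
  apply LinearMap.ext
  intro v
  obtain ⟨X, rfl⟩ := exists_vec v
  rw [Matrix.toLin'_apply, Matrix.toLin'_apply, ← Matrix.mulVec_mulVec, ← Matrix.mulVec_mulVec, swapKron_mulVec (vec X), ← vec_transpose,
    kronecker_mulVec_vec, swapKron_mulVec, ← vec_transpose, kronecker_mulVec_vec]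
  congr 1
  rw [transpose_one, Matrix.mul_one, Matrix.one_mul, transpose_mul, transpose_transpose]

end detform

section o4

theorem zmod2_scalar_SL (P : SpecialLinearGroup (Fin 2) (ZMod 2)) (r : ZMod 2)
    (h : ∀ j l, (P : Matrix (Fin 2) (Fin 2) (ZMod 2)) j l = r * (1 : Matrix (Fin 2) (Fin 2) (ZMod 2)) j l) : P = 1 := by
  have hdet : (P : Matrix (Fin 2) (Fin 2) (ZMod 2)).det = 1 := P.2
  rw [Matrix.det_fin_two, h 0 0, h 0 1, h 1 0, h 1 1] at hdet
  have hr : r = 1 := by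
    have h01 : (1 : Matrix (Fin 2) (Fin 2) (ZMod 2)) 0 1 = 0 := rfl
    have h10 : (1 : Matrix (Fin 2) (Fin 2) (ZMod 2)) 1 0 = 0 := rfl
    rw [h01, h10, Matrix.one_apply_eq, Matrix.one_apply_eq, mul_one, mul_zero, zero_mul, sub_zero] at hdet
    clear h
    revert r
    decide
  apply Subtype.ext
  ext j l
  rw [h j l, hr, one_mul]
  rfl

theorem left_right_disjoint : Disjoint (leftIso (F := ZMod 2)).range (rightIso (F := ZMod 2)).range := by
  rw [Subgroup.disjoint_def]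
  rintro x ⟨P, rfl⟩ ⟨R, hR⟩
  have h1 := congrArg (fun g : Cfsg.isometryGroup (ZMod 2) (detForm (ZMod 2)) =>
    ((g : GL (Fin 2 × Fin 2) (ZMod 2)) : Matrix (Fin 2 × Fin 2) (Fin 2 × Fin 2) (ZMod 2))) hR
  simp only [leftIso_coe, rightIso_coe] at h1
  have hP : P = 1 := by
    apply zmod2_scalar_SL P ((R : Matrix (Fin 2) (Fin 2) (ZMod 2)) 0 0)
    intro j l
    have := congrFun (congrFun h1 (0, j)) (0, l)
    simp only [kronecker_apply] at this
    rw [Matrix.one_apply_eq, one_mul] at this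
    exact this.symm
  rw [hP, map_one]

theorem detForm_isS3Wr2 (hcard : Nat.card (Cfsg.isometryGroup (ZMod 2) (detForm (ZMod 2))) = 72) :
    IsS3Wr2 (Cfsg.isometryGroup (ZMod 2) (detForm (ZMod 2))) := by
  obtain ⟨e3⟩ := Cfsg.Agent.S0250.result (F := ZMod 2) (ZMod.card 2)
  have hcomm : ∀ P R : SpecialLinearGroup (Fin 2) (ZMod 2), Commute (leftIso P) (rightIso R) := left_right_commute
  refine ⟨leftIso.range, rightIso.range, ⟨(MonoidHom.ofInjective leftIso_injective).symm.trans e3⟩,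
    ⟨(MonoidHom.ofInjective rightIso_injective).symm.trans e3⟩, disjoint_iff.1 left_right_disjoint, ?_, ?_,
    swapKronIso (ZMod 2), ?_⟩
  · rintro _ ⟨P, rfl⟩ _ ⟨R, rfl⟩
    exact (hcomm P R).eq
  · have hinj : Function.Injective (MonoidHom.noncommCoprod leftIso rightIso hcomm) :=
      (MonoidHom.noncommCoprod_injective _ _ _).2 ⟨leftIso_injective, rightIso_injective, left_right_disjoint⟩
    have hrange := MonoidHom.noncommCoprod_range leftIso rightIso hcomm
    have h6 : Nat.card (SpecialLinearGroup (Fin 2) (ZMod 2)) = 6 := by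
      rw [Nat.card_congr e3.toEquiv, Nat.card_eq_fintype_card, Fintype.card_perm, Fintype.card_fin]
      rfl
    have hc : Nat.card ↥((leftIso (F := ZMod 2)).range ⊔ (rightIso (F := ZMod 2)).range) = 36 := by
      rw [← hrange, Nat.card_congr (MonoidHom.ofInjective hinj).toEquiv.symm, Nat.card_prod, h6]
    have := Subgroup.index_mul_card ((leftIso (F := ZMod 2)).range ⊔ (rightIso (F := ZMod 2)).range)
    rw [hc, hcard] at this
    omega
  · rw [MonoidHom.map_range]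
    congr 1
    ext P : 1
    exact swapKronIso_conj P

/-- index bijection turning the determinant form into the standard plus form -/
def kronIdx : Fin 2 × Fin 2 ≃ Fin 2 ⊕ Fin 2 where
  toFun p := if p.1 = 0 then Sum.inl p.2 else Sum.inr (1 - p.2)
  invFun s := Sum.elim (fun j => (0, j)) (fun j => (1, 1 - j)) s
  left_inv := by decide
  right_inv := by decide

theorem quadFormPlus_two_eq (v : Fin 2 ⊕ Fin 2 → ZMod 2) :
    Cfsg.quadFormPlus 2 (ZMod 2) v = detForm (ZMod 2) (v ∘ kronIdx) := by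
  unfold Cfsg.quadFormPlus detForm
  rw [Fin.sum_univ_two, CharTwo.sub_eq_add]
  rfl

theorem o4plus_card : Nat.card (Cfsg.isometryGroup (ZMod 2) (Cfsg.quadFormPlus 2 (ZMod 2))) = 72 := by
  rw [card_isometryGroup_plus, ZMod.card]
  simp [Finset.prod_range_succ, hypCount]

theorem o4plus_isS3Wr2 : IsS3Wr2 (Cfsg.isometryGroup (ZMod 2) (Cfsg.quadFormPlus 2 (ZMod 2))) := by
  have e := isometryGroupReindex (F := ZMod 2) kronIdx (detForm (ZMod 2)) (Cfsg.quadFormPlus 2 (ZMod 2)) quadFormPlus_two_eq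
  exact IsS3Wr2.of_equiv e (detForm_isS3Wr2 (by rw [Nat.card_congr e.toEquiv, o4plus_card]))

end o4

end Cfsg.Agent.Lib.Helper15
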