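import Mathlib
import Cfsg.Agent.Lib.Helper15.E2Action
import Cfsg.Agent.Lib.Helper15.QuadCount4
set_option autoImplicit false
namespace Cfsg.Agent.Lib.Helper15

theorem o6plus_card : Nat.card (Cfsg.isometryGroup (ZMod 2) (Cfsg.quadFormPlus 3 (ZMod 2))) = 40320 := by
  rw [card_isometryGroup_plus, ZMod.card]
  simp [Finset.prod_range_succ, hypCount]

theorem sym8_equiv_o6plus :
    Nonempty (Equiv.Perm (Fin 8) ≃* Cfsg.isometryGroup (ZMod 2) (Cfsg.quadFormPlus 3 (ZMod 2))) := by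
  obtain ⟨φ, hφ⟩ := (sym_embeds_orthogonal 1 le_rfl).1 (by decide)
  have hcard : Nat.card (Cfsg.isometryGroup (ZMod 2) (Cfsg.quadFormPlus 3 (ZMod 2))) ≤ Nat.card (Equiv.Perm (Fin 8)) := by
    rw [o6plus_card, Nat.card_eq_fintype_card, Fintype.card_perm, Fintype.card_fin]
    decide
  exact ⟨MulEquiv.ofBijective φ (hφ.bijective_of_nat_card_le hcard)⟩

theorem omega6plus :
    (Cfsg.Omega (ZMod 2) (Cfsg.quadFormPlus 3 (ZMod 2))).index = 2 ∧
    Nonempty (↥(Cfsg.Omega (ZMod 2) (Cfsg.quadFormPlus 3 (ZMod 2))) ≃* alternatingGroup (Fin 8)) := by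
  obtain ⟨e⟩ := sym8_equiv_o6plus
  have h5 : 5 ≤ Nat.card (Fin 8) := by simp
  have hmap : (alternatingGroup (Fin 8)).map e.toMonoidHom = Cfsg.Omega (ZMod 2) (Cfsg.quadFormPlus 3 (ZMod 2)) := by
    rw [← alternatingGroup.commutator_perm_eq h5]
    show Subgroup.map e.toMonoidHom ⁅(⊤ : Subgroup (Equiv.Perm (Fin 8))), ⊤⁆ = ⁅(⊤ : Subgroup _), ⊤⁆
    rw [Subgroup.map_commutator, Subgroup.map_top_of_surjective _ e.surjective]
  constructor
  · rw [← hmap]
    exact (Subgroup.index_map_equiv (alternatingGroup (Fin 8)) e).trans alternatingGroup.index_eq_two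
  · exact ⟨((e.subgroupMap (alternatingGroup (Fin 8))).trans (MulEquiv.subgroupCongr hmap)).symm⟩

end Cfsg.Agent.Lib.Helper15
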