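import Cfsg.Agent.Lib.Helper28.BSGSPerm

/-!
# Piece D of S5514 (helper15 for helper2): fixed-point counts of permutations given by table words
-/

set_option autoImplicit false

namespace Cfsg.Agent.Lib.Helper2.O73Cls

open Cfsg.Agent.Lib.Helper28.BSGS

namespace Helper15

theorem inv_apply_self' {α : Type*} (σ : Equiv.Perm α) (a : α) : σ⁻¹ (σ a) = a :=
  Equiv.Perm.inv_eq_iff_eq.mpr rfl

theorem apply_inv_self' {α : Type*} (σ : Equiv.Perm α) (a : α) : σ (σ⁻¹ a) = a :=
  (Equiv.eq_symm_apply σ).mp rfl

end Helper15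

/-- the number of fixed points of a permutation of `Fin n` -/
def fixCount {n : ℕ} (σ : Equiv.Perm (Fin n)) : ℕ := (Finset.univ.filter fun a => σ a = a).card

theorem fixCount_conj {n : ℕ} (g σ : Equiv.Perm (Fin n)) :
    fixCount (g * σ * g⁻¹) = fixCount σ := by
  unfold fixCount
  apply Finset.card_bij (fun a _ => g⁻¹ a)
  · intro a ha
    rw [Finset.mem_filter] at ha ⊢
    refine ⟨Finset.mem_univ _, ?_⟩
    have h := ha.2
    rw [Equiv.Perm.mul_apply, Equiv.Perm.mul_apply] at h
    have h2 : g⁻¹ (g (σ (g⁻¹ a))) = g⁻¹ a := by rw [h]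
    rwa [Helper15.inv_apply_self'] at h2
  · intro a _ b _ hab
    exact g⁻¹.injective hab
  · intro b hb
    rw [Finset.mem_filter] at hb
    refine ⟨g b, ?_, ?_⟩
    · rw [Finset.mem_filter]
      refine ⟨Finset.mem_univ _, ?_⟩
      rw [Equiv.Perm.mul_apply, Equiv.Perm.mul_apply, Helper15.inv_apply_self', hb.2]
    · rw [Helper15.inv_apply_self']

theorem fixCount_inv {n : ℕ} (σ : Equiv.Perm (Fin n)) : fixCount σ⁻¹ = fixCount σ := by
  unfold fixCount
  congr 1
  ext a
  simp only [Finset.mem_filter, Finset.mem_univ, true_and]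
  constructor
  · intro h
    have : σ (σ⁻¹ a) = σ a := by rw [h]
    rw [Helper15.apply_inv_self'] at this
    exact this.symm
  · intro h
    have : σ⁻¹ (σ a) = σ⁻¹ a := by rw [h]
    rw [Helper15.inv_apply_self'] at this
    exact this.symm

namespace Helper15

theorem filter_range_length (n : ℕ) (p : ℕ → Bool) :
    ((List.range n).filter p).length = ((Finset.range n).filter fun a => p a = true).card := by
  have h1 : ((Finset.range n).filter fun a => p a = true) =
      ((List.range n).filter p).toFinset := by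
    ext a
    simp
  rw [h1, List.toFinset_card_of_nodup (List.Nodup.filter _ List.nodup_range)]

end Helper15

theorem fixCount_eq_of_acts {n w : ℕ} {σ : Equiv.Perm (Fin n)} {ws : List ℕ}
    (h : ActsByW n w σ ws) :
    fixCount σ = ((List.range n).filter fun a => evalW w ws a == a).length := by
  rw [Helper15.filter_range_length]
  unfold fixCount
  apply Finset.card_bij (fun a _ => a.val)
  · intro a ha
    rw [Finset.mem_filter] at ha ⊢
    refine ⟨Finset.mem_range.mpr a.isLt, ?_⟩
    rw [beq_iff_eq, ← h a, ha.2]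
  · intro a _ b _ hab
    exact Fin.ext hab
  · intro b hb
    rw [Finset.mem_filter, Finset.mem_range, beq_iff_eq] at hb
    refine ⟨⟨b, hb.1⟩, ?_, rfl⟩
    rw [Finset.mem_filter]
    refine ⟨Finset.mem_univ _, Fin.ext ?_⟩
    rw [h ⟨b, hb.1⟩]
    exact hb.2

theorem actsByW_prod {n w : ℕ} (ts : List (ℕ × ℕ))
    (hts : ∀ t ∈ ts, pairOK n w t.1 t.2 = true) :
    ActsByW n w (ts.map fun t => permOf n w t.1 t.2).prod (ts.map Prod.fst) := by
  induction ts with
  | nil => exact actsByW_one n w
  | cons t ts ih =>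
    rw [List.map_cons, List.prod_cons, List.map_cons]
    exact actsByW_cons (permOf_apply (hts t List.mem_cons_self))
      (ih fun t' ht' => hts t' (List.mem_cons_of_mem _ ht'))

end Cfsg.Agent.Lib.Helper2.O73Cls
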