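import Mathlib
import Cfsg.Agent.Lib.Helper15.OPlus4
import Cfsg.Agent.Lib.Helper6.Spinor3
set_option autoImplicit false
namespace Cfsg.Agent.Lib.Helper15

open Matrix Module QuadraticMap
open Cfsg.Agent.Lib.Helper6

section transfer
variable {F : Type*} [Field F] [Fintype F] [DecidableEq F] {ι : Type} [Fintype ι] [DecidableEq ι]

/-- the spinor norm criterion, for a form given as a function -/
theorem spinor_list_of_mem (Qf : (ι → F) → F) (Q : QuadraticForm F (ι → F)) (hQf : Qf = ⇑Q)
    (h2 : (2 : F) ≠ 0) (hQ : (QuadraticMap.polarBilin Q).Nondegenerate) (hcard : 2 ≤ Fintype.card ι)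
    (g : Cfsg.isometryGroup F Qf) (hg : g ∈ Cfsg.Omega F Qf) (vs : List (ι → F)) (hvs : ∀ v ∈ vs, Q v ≠ 0)
    (hmat : ((g.1 : GL ι F) : Matrix ι ι F) = (vs.map (fun v => Cfsg.reflectionMatrix ⇑Q v)).prod) :
    Even vs.length ∧ IsSquare (vs.map (fun v => Q v)).prod := by
  subst hQf
  exact (mem_Omega_iff_list' Q h2 hQ hcard g vs hvs hmat).1 hg

end transfer

section torus
variable {F : Type*} [Field F] {n : ℕ}

/-- first basis vector of the `x`-part -/
def e0 (n : ℕ) (F : Type*) [Field F] : Fin (n + 1) ⊕ Fin (n + 1) → F := Pi.single (Sum.inl 0) 1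
/-- first basis vector of the `y`-part -/
def f0 (n : ℕ) (F : Type*) [Field F] : Fin (n + 1) ⊕ Fin (n + 1) → F := Pi.single (Sum.inr 0) 1

theorem polar_e0 (x : Fin (n + 1) ⊕ Fin (n + 1) → F) : polar (plusQF (n + 1) F) (e0 n F) x = x (Sum.inr 0) := by
  classical
  rw [polar_plusQF]
  simp [e0, Pi.single_apply, Finset.sum_ite_eq']

theorem polar_f0 (x : Fin (n + 1) ⊕ Fin (n + 1) → F) : polar (plusQF (n + 1) F) (f0 n F) x = x (Sum.inl 0) := by
  classical
  rw [polar_plusQF]
  simp [f0, Pi.single_apply, Finset.sum_ite_eq']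

theorem plusQF_e0 : plusQF (n + 1) F (e0 n F) = 0 := by
  rw [plusQF_apply]
  apply Finset.sum_eq_zero
  intro i _
  simp [e0]

theorem plusQF_f0 : plusQF (n + 1) F (f0 n F) = 0 := by
  rw [plusQF_apply]
  apply Finset.sum_eq_zero
  intro i _
  simp [f0]

theorem plusQF_e0_sub (c : F) : plusQF (n + 1) F (e0 n F - c • f0 n F) = -c := by
  rw [Q_sub, plusQF_e0, Q_smul, plusQF_f0, polar_smul_right, polar_e0]
  simp [f0]

theorem refl_e0_sub (c : F) (hc : c ≠ 0) (x : Fin (n + 1) ⊕ Fin (n + 1) → F) :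
    Cfsg.reflectionMatrix ⇑(plusQF (n + 1) F) (e0 n F - c • f0 n F) *ᵥ x =
      Function.update (Function.update x (Sum.inl 0) (c⁻¹ * x (Sum.inr 0))) (Sum.inr 0) (c * x (Sum.inl 0)) := by
  rw [reflectionMatrix_mulVec, plusQF_e0_sub, polar_sub_left, polar_smul_left, polar_e0, polar_f0]
  funext k
  rcases k with i | i
  · by_cases hi : i = 0
    · subst hi
      rw [Function.update_of_ne (by simp), Function.update_self]
      simp only [Pi.sub_apply, Pi.smul_apply, smul_eq_mul, e0, f0, Pi.single_eq_same,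
        Pi.single_eq_of_ne (show (Sum.inl 0 : Fin (n + 1) ⊕ Fin (n + 1)) ≠ Sum.inr 0 by simp)]
      field_simp
      ring
    · rw [Function.update_of_ne (by simp), Function.update_of_ne (by simpa using hi)]
      simp only [Pi.sub_apply, Pi.smul_apply, smul_eq_mul, e0, f0,
        Pi.single_eq_of_ne (show (Sum.inl i : Fin (n + 1) ⊕ Fin (n + 1)) ≠ Sum.inl 0 by simpa using hi),
        Pi.single_eq_of_ne (show (Sum.inl i : Fin (n + 1) ⊕ Fin (n + 1)) ≠ Sum.inr 0 by simp)]
      ring
  · by_cases hi : i = 0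
    · subst hi
      rw [Function.update_self]
      simp only [Pi.sub_apply, Pi.smul_apply, smul_eq_mul, e0, f0, Pi.single_eq_same,
        Pi.single_eq_of_ne (show (Sum.inr 0 : Fin (n + 1) ⊕ Fin (n + 1)) ≠ Sum.inl 0 by simp)]
      field_simp
      ring
    · rw [Function.update_of_ne (by simpa using hi), Function.update_of_ne (by simp)]
      simp only [Pi.sub_apply, Pi.smul_apply, smul_eq_mul, e0, f0,
        Pi.single_eq_of_ne (show (Sum.inr i : Fin (n + 1) ⊕ Fin (n + 1)) ≠ Sum.inr 0 by simpa using hi),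
        Pi.single_eq_of_ne (show (Sum.inr i : Fin (n + 1) ⊕ Fin (n + 1)) ≠ Sum.inl 0 by simp)]
      ring

/-- the torus element as a product of two reflections -/
theorem plusHom_dg_eq_refl (μ : F) (hμ : μ ≠ 0) :
    (((plusHom (n + 1) F (dg n μ hμ) : Cfsg.isometryGroup F (Cfsg.quadFormPlus (n + 1) F)) :
      GL (Fin (n + 1) ⊕ Fin (n + 1)) F) : Matrix (Fin (n + 1) ⊕ Fin (n + 1)) (Fin (n + 1) ⊕ Fin (n + 1)) F) =
      ([e0 n F - (1 : F) • f0 n F, e0 n F - μ • f0 n F].map
        (fun v => Cfsg.reflectionMatrix ⇑(plusQF (n + 1) F) v)).prod := by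
  rw [List.map_cons, List.map_cons, List.map_nil, List.prod_cons, List.prod_cons, List.prod_nil, Matrix.mul_one]
  apply matrix_ext_mulVec
  intro x
  rw [plusHom_dg_mulVec, ← Matrix.mulVec_mulVec, refl_e0_sub μ hμ, refl_e0_sub 1 one_ne_zero]
  funext k
  rcases k with i | i
  · by_cases hi : i = 0
    · subst hi
      rw [Function.update_of_ne (by simp), Function.update_self, Function.update_self]
      simp [torusCoeff]
    · rw [Function.update_of_ne (by simp), Function.update_of_ne (by simpa using hi),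
        Function.update_of_ne (by simp), Function.update_of_ne (by simpa using hi)]
      simp [torusCoeff, Function.update_of_ne hi]
  · by_cases hi : i = 0
    · subst hi
      rw [Function.update_self, Function.update_of_ne (by simp), Function.update_self]
      simp [torusCoeff]
    · rw [Function.update_of_ne (by simpa using hi), Function.update_of_ne (by simp),
        Function.update_of_ne (by simpa using hi), Function.update_of_ne (by simp)]
      simp [torusCoeff, Function.update_of_ne hi]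

end torus

section main
variable {F : Type*} [Field F] [Fintype F] {m : ℕ}

/-- `diag(A, A⁻ᵀ) ∈ Ω⁺` forces `det A` to be a square (odd characteristic) -/
theorem isSquare_det_of_plusHom_mem (h2 : (2 : F) ≠ 0) (hm : 1 ≤ m) (A : GL (Fin m) F)
    (hA : plusHom m F A ∈ Cfsg.Omega F (Cfsg.quadFormPlus m F)) :
    IsSquare (A : Matrix (Fin m) (Fin m) F).det := by
  classical
  obtain ⟨n, rfl⟩ : ∃ n, m = n + 1 := ⟨m - 1, by omega⟩
  have hμ : (A : Matrix (Fin (n + 1)) (Fin (n + 1)) F).det ≠ 0 := by
    have := (Matrix.isUnit_iff_isUnit_det _).1 (Units.isUnit A)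
    exact this.ne_zero
  set μ := (A : Matrix (Fin (n + 1)) (Fin (n + 1)) F).det with hμdef
  set D := dg n μ hμ with hD
  have hex : n + 1 = 2 → ∃ a : F, a ≠ 0 ∧ a ≠ 1 := by
    intro _
    refine ⟨2, h2, ?_⟩
    intro h
    have : (1 : F) = 0 := by linear_combination h
    exact one_ne_zero this
  have h1 : A * D⁻¹ ∈ commutator (GL (Fin (n + 1)) F) := by
    rw [Cfsg.Agent.S0264.result (n + 1) hex, MonoidHom.mem_ker]
    apply Units.ext
    rw [Matrix.GeneralLinearGroup.val_det_apply, Units.val_one, Units.val_mul, Matrix.det_mul, hD, dg_inv, dg_det]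
    exact mul_inv_cancel₀ hμ
  have h3 : plusHom (n + 1) F D ∈ Cfsg.Omega F (Cfsg.quadFormPlus (n + 1) F) := by
    have e : plusHom (n + 1) F D = (plusHom (n + 1) F (A * D⁻¹))⁻¹ * plusHom (n + 1) F A := by
      rw [← map_inv, ← map_mul]
      congr 1
      group
    rw [e]
    exact Subgroup.mul_mem _ (Subgroup.inv_mem _ (map_mem_commutator _ _ h1)) hA
  have hcard : 2 ≤ Fintype.card (Fin (n + 1) ⊕ Fin (n + 1)) := by
    rw [Fintype.card_sum, Fintype.card_fin]
    omega
  have key := spinor_list_of_mem (Cfsg.quadFormPlus (n + 1) F) (plusQF (n + 1) F) coe_plusQF.symm h2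
    nondegenerate_plusQF hcard (plusHom (n + 1) F D) h3 [e0 n F - (1 : F) • f0 n F, e0 n F - μ • f0 n F]
    (by
      intro v hv
      rw [List.mem_cons, List.mem_cons] at hv
      rcases hv with rfl | rfl | hv
      · rw [plusQF_e0_sub]; simp
      · rw [plusQF_e0_sub]; exact neg_ne_zero.2 hμ
      · exact absurd hv (List.not_mem_nil))
    (plusHom_dg_eq_refl μ hμ)
  have h4 := key.2
  rw [List.map_cons, List.map_cons, List.map_nil, List.prod_cons, List.prod_cons, List.prod_nil,
    plusQF_e0_sub, plusQF_e0_sub] at h4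
  have e : (-(1 : F)) * (-μ * 1) = μ := by ring
  rw [e] at h4
  exact h4

end main

end Cfsg.Agent.Lib.Helper15
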