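import Mathlib
import Cfsg.Agent.Lib.Helper6.OrtS11
import Cfsg.Agent.Lib.Helper15.PSpK10

/-!
# Totally singular subspaces of quadratic spaces over finite fields: Witt index from the sign
-/

set_option autoImplicit false
set_option linter.unusedSectionVars false

namespace Cfsg.Agent.Lib.Helper15.OTS

open Module Submodule QuadraticMap Cfsg.Agent.Lib.Helper15.PSpI Cfsg.Agent.Lib.Helper6.OrtS
  Cfsg.Agent.Lib.Helper14.OrthEven Cfsg.Agent.Lib.Helper15.PSub

universe u

section witt

variable {F : Type u} {V : Type*} [Field F] [Fintype F] [AddCommGroup V] [Module F V]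
  [FiniteDimensional F V]
variable (Q : QuadraticForm F V)

/-- the Witt index of a nondegenerate space of dimension `2e` and sign `θ` -/
def wt (θ : ℤ) (e : ℕ) : ℕ := if θ = 1 then e else e - 1

omit [Fintype F] [FiniteDimensional F V] in
/-- totally singular subspaces are totally isotropic for the polar form -/
theorem polar_of_ts (U : Submodule F V) (hU : ∀ u ∈ U, Q u = 0) (u v : V) (hu : u ∈ U)
    (hv : v ∈ U) : polarBilin Q u v = 0 := by
  rw [pB_apply]
  unfold polar
  rw [hU _ (U.add_mem hu hv), hU u hu, hU v hv]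
  ring

omit [Fintype F] in
/-- a totally isotropic subspace of a nondegenerate subspace has at most half its dimension -/
theorem ti_le_half' (C U : Submodule F V) (hC : NondegOn (polarBilin Q) C) (hUC : U ≤ C)
    (hU : ∀ u ∈ U, ∀ v ∈ U, polarBilin Q u v = 0) : 2 * finrank F U ≤ finrank F C := by
  have hnd := nondegenerate_Qr Q hC
  obtain ⟨U', hU'⟩ : ∃ U' : Submodule F C, U' = U.comap C.subtype := ⟨_, rfl⟩
  have hdim : finrank F U' = finrank F U := by
    have h1 : U'.map C.subtype = U := by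
      rw [hU', Submodule.map_comap_eq, Submodule.range_subtype]
      exact inf_eq_right.mpr hUC
    rw [← h1]
    exact (LinearEquiv.finrank_eq (Submodule.equivSubtypeMap C U')).symm ▸ rfl
  have hle : U' ≤ LinearMap.BilinForm.orthogonal (polarBilin (Qr Q C)) U' := by
    intro w hw
    rw [LinearMap.BilinForm.mem_orthogonal_iff]
    intro n hn
    show polarBilin (Qr Q C) n w = 0
    rw [pB_apply, polar_Qr]
    rw [hU'] at hw hn
    exact hU _ hn _ hw
  have h1 := LinearMap.BilinForm.finrank_orthogonal hnd U'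
  have h2 := Submodule.finrank_mono hle
  have h3 : finrank F U' ≤ finrank F C := Submodule.finrank_le U'
  rw [hdim] at h1 h2 h3
  omega

/-- upper bound for totally singular subspaces -/
theorem ts_finrank_le (C : Submodule F V) (hC : NondegOn (polarBilin Q) C) (e : ℕ)
    (hCe : finrank F C = 2 * e) (θ : ℤ) (hθ : SgnOn Q C θ) (U : Submodule F V) (hUC : U ≤ C)
    (hU : ∀ u ∈ U, Q u = 0) : finrank F U ≤ wt θ e := by
  have h1 := ti_le_half' Q C U hC hUC (fun u hu v hv => polar_of_ts Q U hU u v hu hv)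
  unfold wt
  split_ifs with h
  · omega
  · by_contra hlt
    have hUe : finrank F U = e := by omega
    have h2 := (sgnOn_one_iff_plus Q C hC e hCe).mpr ⟨U, hUC, hU, hUe⟩
    exact h (SgnOn.unique Q hθ h2)

/-- existence of totally singular subspaces -/
theorem exists_ts_le (C : Submodule F V) (hC : NondegOn (polarBilin Q) C) (e : ℕ)
    (hCe : finrank F C = 2 * e) (θ : ℤ) (hθ1 : θ = 1 ∨ θ = -1) (hθ : SgnOn Q C θ) (w : ℕ)
    (hw : w ≤ wt θ e) :
    ∃ U : Submodule F V, U ≤ C ∧ (∀ u ∈ U, Q u = 0) ∧ finrank F U = w := by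
  unfold wt at hw
  rcases hθ1 with rfl | rfl
  · rw [if_pos rfl] at hw
    obtain ⟨U₀, hU₀C, hU₀, hU₀d⟩ := (sgnOn_one_iff_plus Q C hC e hCe).mp hθ
    obtain ⟨U, hUU₀, hUd⟩ := exists_le_finrank_eq U₀ w (by omega)
    exact ⟨U, hUU₀.trans hU₀C, fun u hu => hU₀ u (hUU₀ hu), hUd⟩
  · rw [if_neg (by norm_num)] at hw
    rcases Nat.eq_zero_or_pos w with h0 | hpos
    · exact ⟨⊥, bot_le, fun u hu => by rw [(mem_bot F).mp hu, map_zero],
        by rw [finrank_bot, h0]⟩
    obtain ⟨W, hWC, hWn, hWd, hWs⟩ := exists_sub Q C hC (2 * e) hCe ⟨e, by ring⟩ (-1)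
      (Or.inr rfl) hθ (2 * (e - 1)) ⟨e - 1, by ring⟩ 1 (Or.inl rfl)
      ⟨by omega, fun _ => rfl, fun h => by omega⟩
    obtain ⟨U₀, hU₀W, hU₀, hU₀d⟩ := (sgnOn_one_iff_plus Q W hWn (e - 1) hWd).mp hWs
    obtain ⟨U, hUU₀, hUd⟩ := exists_le_finrank_eq U₀ w (by omega)
    exact ⟨U, hUU₀.trans (hU₀W.trans hWC), fun u hu => hU₀ u (hUU₀ hu), hUd⟩

end witt

end Cfsg.Agent.Lib.Helper15.OTS
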