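import Mathlib
import Cfsg.Agent.Lib.Helper15.OTS1

/-!
# Invariant totally singular subspaces of isometries of odd prime order: transfer to the
alternating form `(u, v) ↦ B ((y - y⁻¹) u) v` on the moved part
-/

set_option autoImplicit false
set_option linter.unusedSectionVars false

namespace Cfsg.Agent.Lib.Helper15.OTS

open Module Submodule QuadraticMap Cfsg.Agent.Lib.Helper15 Cfsg.Agent.Lib.Helper15.PSpI
  Cfsg.Agent.Lib.Helper15.PSpJ Cfsg.Agent.Lib.Helper15.PSub Cfsg.Agent.Lib.Helper15.PDec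
  Cfsg.Agent.Lib.Helper15.PSpK Cfsg.Agent.Lib.Helper6.OrtS Cfsg.Agent.Lib.Helper14.OrthEven

universe u

section transfer

variable {F : Type u} {V : Type*} [Field F] [AddCommGroup V] [Module F V] [FiniteDimensional F V]
variable (Q : QuadraticForm F V)

/-- an endomorphism mapping a subspace into itself injectively maps it onto itself -/
theorem surj_on_of_inj_on (g : V →ₗ[F] V) (W : Submodule F V) (hW : ∀ w ∈ W, g w ∈ W)
    (hinj : ∀ w ∈ W, g w = 0 → w = 0) (w : V) (hw : w ∈ W) : ∃ u ∈ W, g u = w := by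
  have h1 : Function.Injective (g.restrict hW) := by
    rw [← LinearMap.ker_eq_bot, LinearMap.ker_eq_bot']
    intro u hu
    apply Subtype.ext
    apply hinj u.1 u.2
    exact congrArg Subtype.val hu
  have h2 := LinearMap.injective_iff_surjective.mp h1
  obtain ⟨u, hu⟩ := h2 ⟨w, hw⟩
  exact ⟨u.1, u.2, congrArg Subtype.val hu⟩

omit [FiniteDimensional F V] in
theorem mem_inf_eig (y : V →ₗ[F] V) (W : Submodule F V) (u : V) (hu : u ∈ W) (h : y u = u) :
    u ∈ W ⊓ Module.End.eigenspace y 1 :=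
  Submodule.mem_inf.mpr ⟨hu, Module.End.mem_eigenspace_iff.mpr (by rw [one_smul]; exact h)⟩

/-- an invariant totally isotropic subspace without fixed vectors is totally singular -/
theorem ts_of_ti_fpf (y : V →ₗ[F] V) (hQy : ∀ v, Q (y v) = Q v) (W : Submodule F V)
    (hWy : W.map y ≤ W) (hWE : W ⊓ Module.End.eigenspace y 1 = ⊥)
    (hWti : ∀ u ∈ W, ∀ v ∈ W, polarBilin Q u v = 0) (w : V) (hw : w ∈ W) : Q w = 0 := by
  have hyW : ∀ u ∈ W, y u ∈ W := fun u hu => hWy ⟨u, hu, rfl⟩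
  obtain ⟨u, hu, huw⟩ := surj_on_of_inj_on (y - 1) W (fun u hu => by
      rw [LinearMap.sub_apply, Module.End.one_apply]
      exact W.sub_mem (hyW u hu) hu)
    (fun u hu h0 => by
      rw [LinearMap.sub_apply, Module.End.one_apply, sub_eq_zero] at h0
      have := mem_inf_eig y W u hu h0
      rw [hWE] at this
      exact (mem_bot F).mp this) w hw
  rw [← huw, LinearMap.sub_apply, Module.End.one_apply]
  have h1 : polar Q (y u) u = 0 := hWti _ (hyW u hu) _ hu
  have h2 : polar Q u u = 0 := hWti _ hu _ hu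
  rw [QuadraticMap.polar_self] at h2
  rw [sub_eq_add_neg, QuadraticMap.map_add Q, QuadraticMap.map_neg, QuadraticMap.polar_neg_right,
    hQy, h1]
  rw [two_smul] at h2
  linear_combination h2

/-- the transferred alternating form on an invariant subspace -/
noncomputable def tform (y : V →ₗ[F] V) (r : ℕ) (M : Submodule F V) : M →ₗ[F] M →ₗ[F] F :=
  (polarBilin Q).compl₁₂ ((y - y ^ (r - 1)) ∘ₗ M.subtype) M.subtype

omit [FiniteDimensional F V] in
theorem tform_apply (y : V →ₗ[F] V) (r : ℕ) (M : Submodule F V) (u v : M) :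
    tform Q y r M u v = polarBilin Q (y (u : V) - (y ^ (r - 1)) (u : V)) (v : V) := rfl

end transfer

section main

variable {F : Type u} {V : Type*} [Field F] [Fintype F] [AddCommGroup V] [Module F V]
  [FiniteDimensional F V]
variable (Q : QuadraticForm F V)

/-- invariant totally singular subspaces inside the moved part -/
theorem exists_ts_moved (p : ℕ) [Fact p.Prime] [CharP F p] (r : ℕ) [hr : Fact r.Prime]
    (hrp : r ≠ p) (hr2 : r ≠ 2) (y : V →ₗ[F] V) (hQy : ∀ v, Q (y v) = Q v) (hy : y ^ r = 1)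
    (M : Submodule F V) (hMx : M.map y = M) (hMn : NondegOn (polarBilin Q) M)
    (hME : M ⊓ Module.End.eigenspace y 1 = ⊥) (j : ℕ)
    (hj : j = 0 ∨ thr r (orderOf ((Fintype.card F : ℕ) : ZMod r)) +
      2 * orderOf ((Fintype.card F : ℕ) : ZMod r) * j <
        finrank F M + 2 * orderOf ((Fintype.card F : ℕ) : ZMod r)) :
    ∃ W : Submodule F V, W ≤ M ∧ finrank F W = orderOf ((Fintype.card F : ℕ) : ZMod r) * j ∧
      (∀ u ∈ W, Q u = 0) ∧ W.map y ≤ W := by
  have hrpos : 0 < r := hr.out.pos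
  have hodd : Odd r := hr.out.odd_of_ne_two hr2
  have hS := pB_symm Q
  have hiso := iso_of_Q Q y hQy
  have hyM : ∀ u ∈ M, y u ∈ M := fun u hu => by rw [← hMx]; exact ⟨u, hu, rfl⟩
  have hypM : ∀ u ∈ M, (y ^ (r - 1)) u ∈ M := fun u hu => pow_mem_of_map_eq y hMx (r - 1) hu
  have hinvr : ∀ v, y ((y ^ (r - 1)) v) = v := by
    intro v
    rw [← Module.End.mul_apply, ← pow_succ', Nat.sub_add_cancel hrpos, hy]
    rfl
  have hinvl : ∀ v, (y ^ (r - 1)) (y v) = v := by
    intro v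
    rw [← Module.End.mul_apply, ← pow_succ, Nat.sub_add_cancel hrpos, hy]
    rfl
  -- injectivity of `y - y⁻¹` on fixed-point-free invariant subspaces
  have hTinj : ∀ W : Submodule F V, W ≤ M → ∀ u ∈ W, y u - (y ^ (r - 1)) u = 0 → u = 0 := by
    intro W hWM u hu h0
    have h1 : y (y u) = u := by
      have := congrArg y (sub_eq_zero.mp h0)
      rw [hinvr] at this
      exact this
    have h2 := fix_of_sq_fix y r hodd hy u h1
    have := mem_inf_eig y M u (hWM hu) h2
    rw [hME] at this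
    exact (mem_bot F).mp this
  obtain ⟨A, hA⟩ : ∃ A, A = tform Q y r M := ⟨_, rfl⟩
  obtain ⟨yM, hyMdef⟩ : ∃ yM : M →ₗ[F] M, yM = y.restrict hyM := ⟨_, rfl⟩
  have hyMval : ∀ u : M, ((yM u : M) : V) = y (u : V) := by
    intro u
    rw [hyMdef]
    rfl
  have hyMpow : ∀ (n : ℕ) (u : M), (((yM ^ n) u : M) : V) = (y ^ n) (u : V) := by
    intro n
    induction n with
    | zero => intro u; simp
    | succ n ih =>
      intro u
      rw [pow_succ', Module.End.mul_apply, hyMval, ih, pow_succ', Module.End.mul_apply]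
  have halt : ∀ u : M, A u u = 0 := by
    intro u
    rw [hA, tform_apply, map_sub, LinearMap.sub_apply]
    have h1 : polarBilin Q ((y ^ (r - 1)) (u : V)) (u : V) = polarBilin Q (y (u : V)) (u : V) := by
      rw [← adj_inv' hS y hiso r hrpos hy, hS]
    rw [h1, sub_self]
  have hnd : ∀ u : M, (∀ v : M, A u v = 0) → u = 0 := by
    intro u hu
    apply Subtype.ext
    apply hTinj M le_rfl u.1 u.2
    apply hMn _ (M.sub_mem (hyM _ u.2) (hypM _ u.2))
    intro v hv
    have := hu ⟨v, hv⟩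
    rw [hA, tform_apply] at this
    exact this
  have hisoM : ∀ u v : M, A (yM u) (yM v) = A u v := by
    intro u v
    rw [hA, tform_apply, tform_apply, hyMval, hyMval]
    have h1 : y (y (u : V)) - (y ^ (r - 1)) (y (u : V)) = y (y (u : V) - (y ^ (r - 1)) (u : V)) := by
      rw [map_sub, hinvl, hinvr]
    rw [h1, hiso]
  have hyMr : yM ^ r = 1 := by
    apply LinearMap.ext
    intro u
    apply Subtype.ext
    rw [hyMpow, hy]
    rfl
  have hr0 : (r : F) ≠ 0 := ne_zero_of_ne' p r hr.out hrp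
  have hinjM : Function.Injective yM :=
    injective_of_pow_eq_smul yM r 1 one_ne_zero (by rw [hyMr, one_smul]) hr.out.ne_zero
  have htop : (⊤ : Submodule F M).map yM = ⊤ := by
    rw [Submodule.map_top]
    exact LinearMap.range_eq_top.mpr (LinearMap.injective_iff_surjective.mp hinjM)
  have hnd' : NondegOn A (⊤ : Submodule F M) := fun u _ hu => hnd u fun v => hu v mem_top
  have hEbot : (⊤ : Submodule F M) ⊓ Module.End.eigenspace yM 1 = ⊥ := by
    rw [eq_bot_iff]
    intro u hu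
    have h1 : yM u = u := fix_of_mem_inf yM hu
    have h2 : y (u : V) = (u : V) := by rw [← hyMval, h1]
    have := mem_inf_eig y M (u : V) u.2 h2
    rw [hME] at this
    rw [mem_bot]
    exact Subtype.ext ((mem_bot F).mp this)
  obtain ⟨-, -, -, hdim, -, -⟩ :=
    movPart_props halt yM hisoM r hr.out.ne_zero hr0 hyMr ⊤ htop hnd'
  rw [hEbot, finrank_bot, zero_add, finrank_top] at hdim
  obtain ⟨W', hW'dim, hW'ti, hW'y⟩ := exists_ti_invt (B := A) p r hrp halt hnd yM hisoM hyMr j 0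
    (by rw [hdim]; exact hj) (by omega)
  rw [add_zero] at hW'dim
  obtain ⟨W, hWdef⟩ : ∃ W, W = W'.map M.subtype := ⟨_, rfl⟩
  have hWM : W ≤ M := by
    rw [hWdef]
    rintro _ ⟨u, -, rfl⟩
    exact u.2
  have hWy : W.map y ≤ W := by
    rw [hWdef]
    rintro _ ⟨_, ⟨u, hu, rfl⟩, rfl⟩
    exact ⟨yM u, hW'y ⟨u, hu, rfl⟩, hyMval u⟩
  have hyW : ∀ u ∈ W, y u ∈ W := fun u hu => hWy ⟨u, hu, rfl⟩
  have hypW : ∀ u ∈ W, (y ^ (r - 1)) u ∈ W := by
    intro u hu
    have : ∀ n : ℕ, (y ^ n) u ∈ W := by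
      intro n
      induction n with
      | zero => simpa using hu
      | succ n ih =>
        rw [pow_succ', Module.End.mul_apply]
        exact hyW _ ih
    exact this _
  have hWE : W ⊓ Module.End.eigenspace y 1 = ⊥ := by
    rw [eq_bot_iff, ← hME]
    exact inf_le_inf_right _ hWM
  have hWti : ∀ u ∈ W, ∀ v ∈ W, polarBilin Q u v = 0 := by
    intro u hu v hv
    obtain ⟨u₀, hu₀, hu₀u⟩ := surj_on_of_inj_on (y - y ^ (r - 1)) W (fun t ht => by
        rw [LinearMap.sub_apply]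
        exact W.sub_mem (hyW t ht) (hypW t ht))
      (fun t ht h0 => by
        rw [LinearMap.sub_apply] at h0
        exact hTinj W hWM t ht h0) u hu
    rw [hWdef] at hu₀ hv
    obtain ⟨a, ha, rfl⟩ := hu₀
    obtain ⟨b, hb, rfl⟩ := hv
    have := hW'ti a ha b hb
    rw [hA, tform_apply] at this
    rw [← hu₀u, LinearMap.sub_apply]
    exact this
  refine ⟨W, hWM, ?_, ts_of_ti_fpf Q y hQy W hWy hWE hWti, hWy⟩
  rw [hWdef, ← hW'dim]
  exact (LinearEquiv.finrank_eq (Submodule.equivSubtypeMap M W')).symm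

/-- **Sufficiency engine**: invariant totally singular subspaces for an isometry of odd prime
order -/
theorem exists_ts_invt (p : ℕ) [Fact p.Prime] [CharP F p] (r : ℕ) [hr : Fact r.Prime]
    (hrp : r ≠ p) (hr2 : r ≠ 2) (hQ : NondegOn (polarBilin Q) ⊤) (y : V →ₗ[F] V)
    (hQy : ∀ v, Q (y v) = Q v) (hy : y ^ r = 1) (d : ℕ) (hn : finrank F V = 2 * d)
    (ε : ℤ) (hε : ε = 1 ∨ ε = -1) (hsV : SgnOn Q ⊤ ε) (s : ℕ)
    (hs : finrank F (movPart (polarBilin Q) y ⊤) =
      cOf (orderOf ((Fintype.card F : ℕ) : ZMod r)) * s) (j w : ℕ)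
    (hj : j = 0 ∨ thr r (orderOf ((Fintype.card F : ℕ) : ZMod r)) +
      2 * orderOf ((Fintype.card F : ℕ) : ZMod r) * j <
        cOf (orderOf ((Fintype.card F : ℕ) : ZMod r)) * s +
          2 * orderOf ((Fintype.card F : ℕ) : ZMod r))
    (hw : w ≤ wt (ε * tau (orderOf ((Fintype.card F : ℕ) : ZMod r)) s)
      (d - cOf (orderOf ((Fintype.card F : ℕ) : ZMod r)) * s / 2)) :
    ∃ W : Submodule F V, finrank F W = orderOf ((Fintype.card F : ℕ) : ZMod r) * j + w ∧
      (∀ u ∈ W, Q u = 0) ∧ W.map y ≤ W := by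
  have hS := pB_symm Q
  have hiso := iso_of_Q Q y hQy
  have hr0 : (r : F) ≠ 0 := ne_zero_of_ne' p r hr.out hrp
  have hinj : Function.Injective y :=
    injective_of_pow_eq_smul y r 1 one_ne_zero (by rw [hy, one_smul]) hr.out.ne_zero
  have htop : (⊤ : Submodule F V).map y = ⊤ :=
    map_eq_of_invt y hinj ⊤ (by
      rw [Module.End.mem_invtSubmodule_iff_map_le]
      exact le_top)
  obtain ⟨hMx, hMn, hME, -, -, hCM⟩ :=
    movPart_props' hS y hiso r hr.out.ne_zero hr0 hy ⊤ htop hQ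
  obtain ⟨hCn, hCdim, hcs, hCs⟩ := top_struct Q p r hrp hr2 hQ y hQy hy (2 * d) hn ⟨d, by ring⟩
    ε hsV s hs
  obtain ⟨c, hc⟩ : ∃ c, c = cOf (orderOf ((Fintype.card F : ℕ) : ZMod r)) := ⟨_, rfl⟩
  rw [← hc] at hs hCdim hcs hj hw
  obtain ⟨c', hc'⟩ : Even c := by rw [hc]; exact cOf_even
  have hcs2 : c * s / 2 = c' * s := by
    rw [hc', show (c' + c') * s = 2 * (c' * s) by ring]
    omega
  have hCdim' : finrank F ↥((⊤ : Submodule F V) ⊓ Module.End.eigenspace y 1) =
      2 * (d - c * s / 2) := by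
    rw [hCdim, hcs2]
    have : c * s = 2 * (c' * s) := by rw [hc']; ring
    omega
  have hθ : ε * tau (orderOf ((Fintype.card F : ℕ) : ZMod r)) s = 1 ∨
      ε * tau (orderOf ((Fintype.card F : ℕ) : ZMod r)) s = -1 := by
    rcases hε with rfl | rfl <;> rcases tau_cases (orderOf ((Fintype.card F : ℕ) : ZMod r)) s
      with h | h <;> rw [h] <;> simp
  obtain ⟨W₂, hW₂C, hW₂ts, hW₂dim⟩ := exists_ts_le Q _ hCn _ hCdim' _ hθ hCs w hw
  obtain ⟨W₁, hW₁M, hW₁dim, hW₁ts, hW₁y⟩ := exists_ts_moved Q p r hrp hr2 y hQy hy _ hMx hMn hME j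
    (by rw [hs]; exact hj)
  have horth : Orth (polarBilin Q) W₂ W₁ := hCM.mono hW₂C hW₁M
  refine ⟨W₁ ⊔ W₂, ?_, ?_, ?_⟩
  · have hdis : W₁ ⊓ W₂ = ⊥ := by
      rw [eq_bot_iff]
      calc W₁ ⊓ W₂ ≤ movPart (polarBilin Q) y ⊤ ⊓ ((⊤ : Submodule F V) ⊓
            Module.End.eigenspace y 1) := inf_le_inf hW₁M hW₂C
        _ ≤ movPart (polarBilin Q) y ⊤ ⊓ Module.End.eigenspace y 1 :=
            inf_le_inf_left _ inf_le_right
        _ = ⊥ := hME
    have := Submodule.finrank_sup_add_finrank_inf_eq W₁ W₂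
    rw [hdis, finrank_bot, add_zero, hW₁dim, hW₂dim] at this
    exact this
  · intro u hu
    obtain ⟨u₁, hu₁, u₂, hu₂, rfl⟩ := mem_sup.mp hu
    rw [Q_add_of_orth Q (by rw [hS]; exact horth u₂ hu₂ u₁ hu₁), hW₁ts u₁ hu₁, hW₂ts u₂ hu₂,
      add_zero]
  · rw [Submodule.map_sup]
    apply sup_le_sup hW₁y
    rintro _ ⟨w', hw', rfl⟩
    rw [fix_of_mem_inf y (hW₂C hw')]
    exact hw'

end main

end Cfsg.Agent.Lib.Helper15.OTS
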