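import Mathlib
import Cfsg.Agent.Lib.Helper15.OTS2

/-!
# Invariant totally singular subspaces split along the fixed part and the moved part
-/

set_option autoImplicit false
set_option linter.unusedSectionVars false

namespace Cfsg.Agent.Lib.Helper15.OTS

open Module Submodule QuadraticMap Cfsg.Agent.Lib.Helper15 Cfsg.Agent.Lib.Helper15.PSpI
  Cfsg.Agent.Lib.Helper15.PSpJ Cfsg.Agent.Lib.Helper15.PSub Cfsg.Agent.Lib.Helper15.PDec
  Cfsg.Agent.Lib.Helper15.PSpK Cfsg.Agent.Lib.Helper6.OrtS Cfsg.Agent.Lib.Helper14.OrthEven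

universe u

section split

variable {F : Type u} {V : Type*} [Field F] [AddCommGroup V] [Module F V] [FiniteDimensional F V]
variable {B : V →ₗ[F] V →ₗ[F] F}

/-- an invariant subspace is the direct sum of its fixed part and its moved part -/
theorem invt_split (y : V →ₗ[F] V) (hiso : ∀ u v, B (y u) (y v) = B u v) (r : ℕ)
    (hr0 : (r : F) ≠ 0) (hy : y ^ r = 1)
    (hME : movPart B y ⊤ ⊓ Module.End.eigenspace y 1 = ⊥)
    (W : Submodule F V) (hWy : W.map y ≤ W) :
    finrank F W = finrank F ↥(W ⊓ Module.End.eigenspace y 1) +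
      finrank F ↥(W ⊓ movPart B y ⊤) := by
  have hyW : ∀ u ∈ W, y u ∈ W := fun u hu => hWy ⟨u, hu, rfl⟩
  have hpowW : ∀ (n : ℕ), ∀ u ∈ W, (y ^ n) u ∈ W := by
    intro n
    induction n with
    | zero => intro u hu; simpa using hu
    | succ n ih =>
      intro u hu
      rw [pow_succ', Module.End.mul_apply]
      exact hyW _ (ih u hu)
  have hsup : (W ⊓ Module.End.eigenspace y 1) ⊔ (W ⊓ movPart B y ⊤) = W := by
    apply le_antisymm (sup_le inf_le_left inf_le_left)
    intro w hw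
    obtain ⟨t, ht⟩ : ∃ t, t = (r : F)⁻¹ • (∑ i ∈ Finset.range r, y ^ i) w := ⟨_, rfl⟩
    have htW : t ∈ W := by
      rw [ht, LinearMap.sum_apply]
      exact W.smul_mem _ (Submodule.sum_mem _ fun i _ => hpowW i w hw)
    have htC : t ∈ Module.End.eigenspace y 1 := by
      rw [ht]
      exact Submodule.smul_mem _ _ (trace_fixed y r hy w)
    have hwt : w - t ∈ movPart B y ⊤ := by
      unfold movPart
      rw [mem_perpIn]
      refine ⟨mem_top, ?_⟩
      intro c hc
      have hcfix : y c = c := fix_of_mem_inf y hc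
      rw [map_sub, ht, map_smul, LinearMap.sum_apply, map_sum]
      have h2 : ∀ i ∈ Finset.range r, B c ((y ^ i) w) = B c w := by
        intro i _
        nth_rewrite 1 [← pow_fixed y i c hcfix]
        exact iso_pow y hiso i c w
      rw [Finset.sum_congr rfl h2, Finset.sum_const, Finset.card_range, nsmul_eq_mul, smul_eq_mul,
        ← mul_assoc, inv_mul_cancel₀ hr0, one_mul, sub_self]
    have : w = t + (w - t) := by abel
    rw [this]
    exact add_mem (mem_sup_left ⟨htW, htC⟩) (mem_sup_right ⟨W.sub_mem hw htW, hwt⟩)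
  have hdis : (W ⊓ Module.End.eigenspace y 1) ⊓ (W ⊓ movPart B y ⊤) = ⊥ := by
    rw [eq_bot_iff, ← hME]
    intro v hv
    exact ⟨hv.2.2, hv.1.2⟩
  have := Submodule.finrank_sup_add_finrank_inf_eq (W ⊓ Module.End.eigenspace y 1)
    (W ⊓ movPart B y ⊤)
  rw [hsup, hdis, finrank_bot, add_zero] at this
  exact this

end split

section bound

variable {F : Type u} {V : Type*} [Field F] [Fintype F] [AddCommGroup V] [Module F V]
  [FiniteDimensional F V]
variable (Q : QuadraticForm F V)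

/-- **Necessity engine**: the dimension of an invariant totally singular subspace -/
theorem ts_invt_bound (p : ℕ) [Fact p.Prime] [CharP F p] (r : ℕ) [hr : Fact r.Prime]
    (hrp : r ≠ p) (hr2 : r ≠ 2) (hQ : NondegOn (polarBilin Q) ⊤) (y : V →ₗ[F] V)
    (hQy : ∀ v, Q (y v) = Q v) (hy : y ^ r = 1) (d : ℕ) (hn : finrank F V = 2 * d)
    (ε : ℤ) (hsV : SgnOn Q ⊤ ε) (s : ℕ)
    (hs : finrank F (movPart (polarBilin Q) y ⊤) =
      cOf (orderOf ((Fintype.card F : ℕ) : ZMod r)) * s)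
    (P : ℕ → Prop)
    (hP : ∀ W₁ : Submodule F V, W₁ ≤ movPart (polarBilin Q) y ⊤ → (∀ u ∈ W₁, Q u = 0) →
      W₁.map y ≤ W₁ → P (finrank F W₁))
    (W : Submodule F V) (hWts : ∀ u ∈ W, Q u = 0) (hWy : W.map y ≤ W) :
    ∃ w j', finrank F W = w + j' ∧
      w ≤ wt (ε * tau (orderOf ((Fintype.card F : ℕ) : ZMod r)) s)
        (d - cOf (orderOf ((Fintype.card F : ℕ) : ZMod r)) * s / 2) ∧ P j' := by
  have hS := pB_symm Q
  have hiso := iso_of_Q Q y hQy
  have hr0 : (r : F) ≠ 0 := ne_zero_of_ne' p r hr.out hrp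
  have hinj : Function.Injective y :=
    injective_of_pow_eq_smul y r 1 one_ne_zero (by rw [hy, one_smul]) hr.out.ne_zero
  have htop : (⊤ : Submodule F V).map y = ⊤ :=
    map_eq_of_invt y hinj ⊤ (by
      rw [Module.End.mem_invtSubmodule_iff_map_le]
      exact le_top)
  obtain ⟨hMx, hMn, hME, -, -, hCM⟩ :=
    movPart_props' hS y hiso r hr.out.ne_zero hr0 hy ⊤ htop hQ
  obtain ⟨hCn, hCdim, hcs, hCs⟩ := top_struct Q p r hrp hr2 hQ y hQy hy (2 * d) hn ⟨d, by ring⟩
    ε hsV s hs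
  obtain ⟨c, hc⟩ : ∃ c, c = cOf (orderOf ((Fintype.card F : ℕ) : ZMod r)) := ⟨_, rfl⟩
  rw [← hc] at hs hCdim hcs ⊢
  obtain ⟨c', hc'⟩ : Even c := by rw [hc]; exact cOf_even
  have hcs2 : c * s / 2 = c' * s := by
    rw [hc', show (c' + c') * s = 2 * (c' * s) by ring]
    omega
  have hCdim' : finrank F ↥((⊤ : Submodule F V) ⊓ Module.End.eigenspace y 1) =
      2 * (d - c * s / 2) := by
    rw [hCdim, hcs2]
    have : c * s = 2 * (c' * s) := by rw [hc']; ring
    omega
  have hsplit := invt_split y hiso r hr0 hy hME W hWy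
  refine ⟨_, _, hsplit, ?_, ?_⟩
  · exact ts_finrank_le Q _ hCn _ hCdim' _ hCs _ (inf_le_inf_right _ le_top)
      (fun u hu => hWts u hu.1)
  · apply hP _ inf_le_right (fun u hu => hWts u hu.1)
    rintro _ ⟨u, hu, rfl⟩
    refine ⟨hWy ⟨u, hu.1, rfl⟩, ?_⟩
    rw [← hMx]
    exact ⟨u, hu.2, rfl⟩

end bound

end Cfsg.Agent.Lib.Helper15.OTS
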