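import Mathlib
import Cfsg.Agent.Lib.Helper15.OTS3

/-!
# Orthogonal model elements of odd prime order from symplectic ones
-/

set_option autoImplicit false
set_option linter.unusedSectionVars false

namespace Cfsg.Agent.Lib.Helper15.OTS

open Module Submodule QuadraticMap Cfsg.Agent.Lib.Helper15 Cfsg.Agent.Lib.Helper15.PSpI
  Cfsg.Agent.Lib.Helper15.PSpJ Cfsg.Agent.Lib.Helper15.PSub Cfsg.Agent.Lib.Helper15.PDec
  Cfsg.Agent.Lib.Helper15.PSpK Cfsg.Agent.Lib.Helper6.OrtS Cfsg.Agent.Lib.Helper14.OrthEven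

universe u

section conv

variable {F : Type u} {V : Type*} [Field F] [AddCommGroup V] [Module F V]
variable (Q : QuadraticForm F V)

theorem nondegenerate_of_top (hQ : NondegOn (polarBilin Q) ⊤) : (polarBilin Q).Nondegenerate := by
  have hl : (polarBilin Q).SeparatingLeft := fun x hx => hQ x mem_top (fun v _ => hx v)
  refine ⟨hl, ?_⟩
  intro y hy
  apply hl
  intro x
  have := hy x
  rw [pB_apply, polar_comm]
  exact this

theorem nondegOn_top_of' (hQ : (polarBilin Q).Nondegenerate) : NondegOn (polarBilin Q) ⊤ :=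
  fun u _ h0 => hQ.1 u (fun v => h0 v mem_top)

variable [Fintype F] [FiniteDimensional F V]

theorem hasSign_of_sgnOn_top {ε : ℤ} (hs : SgnOn Q ⊤ ε) (d : ℕ) (hn : finrank F V = 2 * d) :
    HasSign (⇑Q) d ε := by
  have h1 := SgnOn.to_hasSign Q (⇑Q) (LinearEquiv.ofTop (⊤ : Submodule F V) rfl).symm
    (fun x => rfl) hs
  rw [finrank_top, hn] at h1
  have : 2 * d / 2 = d := by omega
  rwa [this] at h1

theorem sgnOn_top_of_hasSign {ε : ℤ} (d : ℕ) (hn : finrank F V = 2 * d) (hs : HasSign (⇑Q) d ε) :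
    SgnOn Q ⊤ ε :=
  sgnOn_of_equiv Q (⇑Q) (LinearEquiv.ofTop (⊤ : Submodule F V) rfl).symm (fun x => rfl)
    (by rw [finrank_top, hn]; omega) hs

end conv

section model

variable {F : Type u} [Field F] [Fintype F]
variable {V : Type*} [AddCommGroup V] [Module F V] [FiniteDimensional F V]
variable (Q : QuadraticForm F V)

/-- **Model elements**: from a fixed-point-free symplectic matrix of order `r` on a space of
dimension `2d' = c s` to an isometry of `Q` with the corresponding moved part, together with the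
bound for its invariant totally singular subspaces -/
theorem exists_model_elt (p : ℕ) [Fact p.Prime] [CharP F p] (r : ℕ) [hr : Fact r.Prime]
    (hrp : r ≠ p) (hr2 : r ≠ 2) (hQ : NondegOn (polarBilin Q) ⊤) (d : ℕ) (hd : 1 ≤ d)
    (hn : finrank F V = 2 * d) (ε : ℤ) (hε : ε = 1 ∨ ε = -1) (hsV : SgnOn Q ⊤ ε)
    (d' s : ℕ) (hd'1 : 1 ≤ d')
    (hd' : 2 * d' = cOf (orderOf ((Fintype.card F : ℕ) : ZMod r)) * s) (hle : d' ≤ d)
    (hfeas : d' = d → tau (orderOf ((Fintype.card F : ℕ) : ZMod r)) s = ε)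
    (x' : ↥(Matrix.symplecticGroup (Fin d') F))
    (hx'r : (Matrix.toLin' (x' : Matrix (Fin d' ⊕ Fin d') (Fin d' ⊕ Fin d') F)) ^ r = 1)
    (hfpf : ∀ v, Matrix.toLin' (x' : Matrix (Fin d' ⊕ Fin d') (Fin d' ⊕ Fin d') F) v = v → v = 0)
    (P : ℕ → Prop)
    (hbound : ∀ W' : Submodule F (Fin d' ⊕ Fin d' → F),
      (∀ u ∈ W', ∀ v ∈ W', Cfsg.sympForm d' F u v = 0) →
      W'.map (Matrix.toLin' (x' : Matrix (Fin d' ⊕ Fin d') (Fin d' ⊕ Fin d') F)) ≤ W' →
      P (finrank F W')) :
    ∃ y : V →ₗ[F] V, (∀ v, Q (y v) = Q v) ∧ y ^ r = 1 ∧ (∃ v, y v ≠ v) ∧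
      ∀ W : Submodule F V, (∀ u ∈ W, Q u = 0) → W.map y ≤ W →
        ∃ w j', finrank F W = w + j' ∧
          w ≤ wt (ε * tau (orderOf ((Fintype.card F : ℕ) : ZMod r)) s) (d - d') ∧ P j' := by
  classical
  have hrpos : 0 < r := hr.out.pos
  have hodd : Odd r := hr.out.odd_of_ne_two hr2
  have hr0 : (r : F) ≠ 0 := ne_zero_of_ne' p r hr.out hrp
  obtain ⟨i, hi⟩ : ∃ i, i = orderOf ((Fintype.card F : ℕ) : ZMod r) := ⟨_, rfl⟩
  rw [← hi] at hd' hfeas ⊢
  -- the symplectic space
  obtain ⟨yX, hyX⟩ : ∃ yX : (Fin d' ⊕ Fin d' → F) →ₗ[F] (Fin d' ⊕ Fin d' → F),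
      yX = Matrix.toLin' (x' : Matrix (Fin d' ⊕ Fin d') (Fin d' ⊕ Fin d') F) := ⟨_, rfl⟩
  rw [← hyX] at hx'r hfpf hbound
  have hisoX : ∀ u v, stdSymp d' F (yX u) (yX v) = stdSymp d' F u v := by
    intro u v
    rw [hyX]
    exact sympLin_iso' x' u v
  have hinvr : ∀ v, yX ((yX ^ (r - 1)) v) = v := by
    intro v
    rw [← Module.End.mul_apply, ← pow_succ', Nat.sub_add_cancel hrpos, hx'r]
    rfl
  have hTinj : ∀ u, yX u - (yX ^ (r - 1)) u = 0 → u = 0 := by
    intro u h0
    have h1 : yX (yX u) = u := by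
      have := congrArg yX (sub_eq_zero.mp h0)
      rw [hinvr] at this
      exact this
    exact hfpf u (fix_of_sq_fix yX r hodd hx'r u h1)
  obtain ⟨QX, hQXdef⟩ : ∃ QX : QuadraticForm F (Fin d' ⊕ Fin d' → F),
      QX = twistQ (stdSymp d' F) yX := ⟨_, rfl⟩
  have hQXapp : ∀ u, QX u = stdSymp d' F (yX u) u := fun u => by rw [hQXdef]; rfl
  have hQXy : ∀ u, QX (yX u) = QX u := fun u => by rw [hQXapp, hQXapp, hisoX]
  have hpolX : ∀ u v, polar QX u v = stdSymp d' F (yX u - (yX ^ (r - 1)) u) v := by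
    intro u v
    rw [hQXdef]
    unfold twistQ
    rw [LinearMap.BilinMap.polar_toQuadraticMap]
    show stdSymp d' F (yX u) v + stdSymp d' F (yX v) u = _
    rw [adj_inv yX hisoX r hrpos hx'r v u, alt_swap (stdSymp d' F) stdSymp_alt v, map_sub,
      LinearMap.sub_apply]
    ring
  have hQXnd : (polarBilin QX).Nondegenerate := by
    apply nondegenerate_of_top
    intro u _ hu
    apply hTinj
    apply stdSymp_nondeg
    intro v
    rw [← hpolX]
    exact hu v mem_top
  have hXdim : finrank F (Fin d' ⊕ Fin d' → F) = 2 * d' := by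
    rw [Module.finrank_fintype_fun_eq_card, Fintype.card_sum, Fintype.card_fin]
    ring
  have hinjX : Function.Injective yX :=
    injective_of_pow_eq_smul yX r 1 one_ne_zero (by rw [hx'r, one_smul]) hr.out.ne_zero
  have htopX : (⊤ : Submodule F (Fin d' ⊕ Fin d' → F)).map yX = ⊤ := by
    rw [Submodule.map_top]
    exact LinearMap.range_eq_top.mpr (LinearMap.injective_iff_surjective.mp hinjX)
  have hEX : (⊤ : Submodule F (Fin d' ⊕ Fin d' → F)) ⊓ Module.End.eigenspace yX 1 = ⊥ := by
    rw [eq_bot_iff]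
    intro u hu
    rw [mem_bot]
    exact hfpf u (fix_of_mem_inf yX hu)
  have hsX : HasSign (⇑QX) d' (tau i s) := by
    have hnX := nondegOn_top_of' QX hQXnd
    rcases sgnOn_cases QX hnX d' (by rw [finrank_top, hXdim]) with h | h
    · have h1 := sign_of_fpf QX p r hrp hr2 yX hQXy hx'r ⊤ htopX hEX s
        (by rw [finrank_top, hXdim, hd', hi]) (Or.inl rfl) h
      rw [hi, ← h1]
      exact hasSign_of_sgnOn_top QX h d' hXdim
    · have h1 := sign_of_fpf QX p r hrp hr2 yX hQXy hx'r ⊤ htopX hEX s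
        (by rw [finrank_top, hXdim, hd', hi]) (Or.inr rfl) h
      rw [hi, ← h1]
      exact hasSign_of_sgnOn_top QX h d' hXdim
  -- the complement
  have hθ : ε * tau i s = 1 ∨ ε * tau i s = -1 := by
    rcases hε with rfl | rfl <;> rcases tau_cases i s with h | h <;> rw [h] <;> simp
  obtain ⟨X₂, i1, i2, i3, Q₂, hQ₂, hd₂, hs₂⟩ := exists_model (F := F) (d - d') (ε * tau i s) hθ
    (by
      intro h
      by_contra hlt
      have hdd : d' = d := by omega
      rw [hfeas hdd] at h
      rcases hε with rfl | rfl <;> simp at h)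
  have hfin₂ : Finite X₂ := Module.finite_of_finite F
  have hfinX : Finite (Fin d' ⊕ Fin d' → F) := Module.finite_of_finite F
  -- the orthogonal sum
  obtain ⟨QY, hQYdef⟩ : ∃ QY : QuadraticForm F ((Fin d' ⊕ Fin d' → F) × X₂), QY = QX.prod Q₂ :=
    ⟨_, rfl⟩
  have hQYapp : ∀ v, QY v = QX v.1 + Q₂ v.2 := fun v => by
    rw [hQYdef]; exact QuadraticMap.prod_apply QX Q₂ v
  have hQYnd : (polarBilin QY).Nondegenerate := by
    rw [hQYdef]; exact nondegenerate_prod QX Q₂ hQXnd hQ₂
  have hYdim : finrank F ((Fin d' ⊕ Fin d' → F) × X₂) = 2 * d := by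
    rw [Module.finrank_prod, hXdim, hd₂]
    omega
  have hsY : HasSign (⇑QY) d ε := by
    have h1 := HasSign.prod hsX hs₂
    have h2 : tau i s * (ε * tau i s) = ε := by
      rw [mul_comm ε, ← mul_assoc, tau_sq, one_mul]
    have h3 : d' + (d - d') = d := by omega
    rw [h2, h3] at h1
    exact h1.congr_fun hQYapp
  have hsQ : HasSign (⇑Q) d ε := hasSign_of_sgnOn_top Q hsV d hn
  obtain ⟨φ, hφ⟩ := exists_iso_of_sign QY Q hQYnd (nondegenerate_of_top Q hQ) d hd hYdim hn hsY hsQ
  -- the isometry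
  obtain ⟨yY, hyYdef⟩ : ∃ yY : ((Fin d' ⊕ Fin d' → F) × X₂) →ₗ[F] ((Fin d' ⊕ Fin d' → F) × X₂),
      yY = yX.prodMap LinearMap.id := ⟨_, rfl⟩
  have hyYapp : ∀ v, yY v = (yX v.1, v.2) := fun v => by rw [hyYdef]; rfl
  have hQYy : ∀ v, QY (yY v) = QY v := fun v => by rw [hQYapp, hQYapp, hyYapp, hQXy]
  have hyYpow : ∀ (n : ℕ) v, (yY ^ n) v = ((yX ^ n) v.1, v.2) := by
    intro n
    induction n with
    | zero => intro v; rfl
    | succ n ih =>
      intro v
      rw [pow_succ', Module.End.mul_apply, ih, hyYapp, pow_succ', Module.End.mul_apply]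
  have hyYr : yY ^ r = 1 := by
    apply LinearMap.ext
    intro v
    rw [hyYpow, hx'r]
    rfl
  obtain ⟨y, hydef⟩ : ∃ y : V →ₗ[F] V, y = φ.conj yY := ⟨_, rfl⟩
  have hyapp : ∀ v, y v = φ (yY (φ.symm v)) := fun v => by
    rw [hydef, LinearEquiv.conj_apply_apply]
  have hypow : ∀ (n : ℕ) v, (y ^ n) v = φ ((yY ^ n) (φ.symm v)) := by
    intro n
    induction n with
    | zero => intro v; simp
    | succ n ih =>
      intro v
      rw [pow_succ, Module.End.mul_apply, ih, hyapp, LinearEquiv.symm_apply_apply, pow_succ,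
        Module.End.mul_apply]
  have hQy : ∀ v, Q (y v) = Q v := by
    intro v
    rw [hyapp, hφ, hQYy, ← hφ, LinearEquiv.apply_symm_apply]
  have hyr : y ^ r = 1 := by
    apply LinearMap.ext
    intro v
    rw [hypow, hyYr, Module.End.one_apply, LinearEquiv.apply_symm_apply]
    rfl
  refine ⟨y, hQy, hyr, ?_, ?_⟩
  · -- a moved vector
    obtain ⟨u₀, hu₀⟩ : ∃ u₀ : Fin d' ⊕ Fin d' → F, u₀ ≠ 0 :=
      ⟨Pi.single (Sum.inl ⟨0, hd'1⟩) 1, fun h => by
        have := congrFun h (Sum.inl ⟨0, hd'1⟩)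
        simp at this⟩
    refine ⟨φ (u₀, 0), ?_⟩
    rw [hyapp, LinearEquiv.symm_apply_apply, hyYapp]
    intro h
    have h1 := φ.injective h
    exact hu₀ (hfpf u₀ (Prod.ext_iff.mp h1).1)
  · intro W hWts hWy
    -- pull back to the model
    obtain ⟨WY, hWYdef⟩ : ∃ WY, WY = W.map φ.symm.toLinearMap := ⟨_, rfl⟩
    have hWYmem : ∀ v, v ∈ WY ↔ φ v ∈ W := by
      intro v
      rw [hWYdef]
      constructor
      · rintro ⟨w, hw, rfl⟩
        show φ (φ.symm w) ∈ W
        rw [LinearEquiv.apply_symm_apply]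
        exact hw
      · intro h
        exact ⟨φ v, h, φ.symm_apply_apply v⟩
    have hWYdim : finrank F WY = finrank F W := by
      rw [hWYdef]
      exact LinearEquiv.finrank_map_eq φ.symm W
    have hWYts : ∀ v ∈ WY, QY v = 0 := by
      intro v hv
      rw [← hφ]
      exact hWts _ ((hWYmem v).mp hv)
    have hWYy : WY.map yY ≤ WY := by
      rintro _ ⟨v, hv, rfl⟩
      rw [hWYmem]
      have h1 := hWy ⟨φ v, (hWYmem v).mp hv, rfl⟩
      rw [hyapp, LinearEquiv.symm_apply_apply] at h1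
      exact h1
    rw [← hWYdim]
    have hQYtop := nondegOn_top_of' QY hQYnd
    have hSY := pB_symm QY
    have hisoY := iso_of_Q QY yY hQYy
    have hinjY : Function.Injective yY :=
      injective_of_pow_eq_smul yY r 1 one_ne_zero (by rw [hyYr, one_smul]) hr.out.ne_zero
    have htopY : (⊤ : Submodule F ((Fin d' ⊕ Fin d' → F) × X₂)).map yY = ⊤ := by
      rw [Submodule.map_top]
      exact LinearMap.range_eq_top.mpr (LinearMap.injective_iff_surjective.mp hinjY)
    obtain ⟨-, -, -, hdimY, -, -⟩ :=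
      movPart_props' hSY yY hisoY r hr.out.ne_zero hr0 hyYr ⊤ htopY hQYtop
    -- the fixed space
    have hfixmem : ∀ v, v ∈ (⊤ : Submodule F ((Fin d' ⊕ Fin d' → F) × X₂)) ⊓
        Module.End.eigenspace yY 1 ↔ v.1 = 0 := by
      intro v
      constructor
      · intro hv
        have h1 := fix_of_mem_inf yY hv
        rw [hyYapp] at h1
        exact hfpf v.1 (Prod.ext_iff.mp h1).1
      · intro hv
        apply mem_inf_eig yY ⊤ v mem_top
        rw [hyYapp, hv, map_zero]
        exact Prod.ext hv.symm rfl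
    have hfixdim : finrank F ↥((⊤ : Submodule F ((Fin d' ⊕ Fin d' → F) × X₂)) ⊓
        Module.End.eigenspace yY 1) = 2 * (d - d') := by
      rw [← hd₂]
      let f : X₂ →ₗ[F] ((Fin d' ⊕ Fin d' → F) × X₂) := LinearMap.inr F _ X₂
      have hf : Function.Injective f := LinearMap.inr_injective
      have hrange : LinearMap.range f = (⊤ : Submodule F ((Fin d' ⊕ Fin d' → F) × X₂)) ⊓
          Module.End.eigenspace yY 1 := by
        ext v
        rw [hfixmem]
        constructor
        · rintro ⟨b, rfl⟩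
          rfl
        · intro hv
          exact ⟨v.2, Prod.ext hv.symm rfl⟩
      rw [← hrange]
      exact (LinearEquiv.finrank_eq (LinearEquiv.ofInjective f hf)).symm
    have hmovdim : finrank F (movPart (polarBilin QY) yY ⊤) = cOf i * s := by
      rw [hfixdim, finrank_top, hYdim] at hdimY
      omega
    have hmovmem : ∀ v ∈ movPart (polarBilin QY) yY ⊤, v.2 = 0 := by
      intro v hv
      unfold movPart at hv
      rw [mem_perpIn] at hv
      apply hQ₂.1
      intro c
      have h1 := hv.2 (0, c) ((hfixmem (0, c)).mpr rfl)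
      rw [pB_apply, hQYdef, QuadraticMap.polar_prod] at h1
      simp only [polar_zero_left, zero_add] at h1
      rw [pB_apply, polar_comm]
      exact h1
    have hcs2 : cOf i * s / 2 = d' := by omega
    have hres := ts_invt_bound QY p r hrp hr2 hQYtop yY hQYy hyYr d hYdim ε
      (sgnOn_top_of_hasSign QY d hYdim hsY) s (by rw [← hi]; exact hmovdim) P ?_ WY hWYts hWYy
    · rw [← hi, hcs2] at hres
      exact hres
    · -- the bound on the moved part
      intro W₁ hW₁M hW₁ts hW₁y
      obtain ⟨W', hW'def⟩ : ∃ W', W' = W₁.map (LinearMap.fst F (Fin d' ⊕ Fin d' → F) X₂) :=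
        ⟨_, rfl⟩
      have hW'mem : ∀ a, a ∈ W' ↔ (a, (0 : X₂)) ∈ W₁ := by
        intro a
        rw [hW'def]
        constructor
        · rintro ⟨v, hv, rfl⟩
          have h2 := hmovmem v (hW₁M hv)
          have : (LinearMap.fst F (Fin d' ⊕ Fin d' → F) X₂ v, (0 : X₂)) = v :=
            Prod.ext rfl h2.symm
          rw [this]
          exact hv
        · intro h
          exact ⟨(a, 0), h, rfl⟩
      have hW'dim : finrank F W' = finrank F W₁ := by
        rw [hW'def]
        have hinj : Function.Injective ((LinearMap.fst F (Fin d' ⊕ Fin d' → F) X₂).domRestrict W₁) := by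
          rw [← LinearMap.ker_eq_bot, LinearMap.ker_eq_bot']
          intro v hv
          apply Subtype.ext
          have h1 : (v : (Fin d' ⊕ Fin d' → F) × X₂).1 = 0 := hv
          have h2 := hmovmem v.1 (hW₁M v.2)
          exact Prod.ext h1 h2
        have h3 := LinearMap.finrank_range_of_inj hinj
        rw [LinearMap.range_domRestrict] at h3
        exact h3
      rw [← hW'dim]
      have hW'y : W'.map yX ≤ W' := by
        rintro _ ⟨a, ha, rfl⟩
        have ha' := (hW'mem a).mp ha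
        apply (hW'mem (yX a)).mpr
        have h1 := hW₁y ⟨(a, 0), ha', rfl⟩
        rw [hyYapp] at h1
        exact h1
      have hyW' : ∀ a ∈ W', yX a ∈ W' := fun a ha => hW'y ⟨a, ha, rfl⟩
      have hypW' : ∀ a ∈ W', (yX ^ (r - 1)) a ∈ W' := by
        intro a ha
        have : ∀ n : ℕ, (yX ^ n) a ∈ W' := by
          intro n
          induction n with
          | zero => simpa using ha
          | succ n ih =>
            rw [pow_succ', Module.End.mul_apply]
            exact hyW' _ ih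
        exact this _
      have hW'ts : ∀ a ∈ W', QX a = 0 := by
        intro a ha
        have h1 := hW₁ts _ ((hW'mem a).mp ha)
        rw [hQYapp, map_zero, add_zero] at h1
        exact h1
      apply hbound W' _ hW'y
      intro a ha b hb
      obtain ⟨a₀, ha₀, ha₀a⟩ := surj_on_of_inj_on (yX - yX ^ (r - 1)) W' (fun t ht => by
          rw [LinearMap.sub_apply]
          exact W'.sub_mem (hyW' t ht) (hypW' t ht))
        (fun t _ h0 => by
          rw [LinearMap.sub_apply] at h0
          exact hTinj t h0) a ha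
      rw [← stdSymp_apply, ← ha₀a, LinearMap.sub_apply, ← hpolX]
      have := polar_of_ts QX W' hW'ts a₀ b ha₀ hb
      rw [pB_apply] at this
      exact this

end model

end Cfsg.Agent.Lib.Helper15.OTS
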