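import Mathlib
import Cfsg.Agent.Lib.Helper15.OTS4

/-!
# Invariant totally singular subspaces: the criterion for isometries of odd prime order
in terms of feasible block numbers
-/

set_option autoImplicit false
set_option linter.unusedSectionVars false

namespace Cfsg.Agent.Lib.Helper15.OTS

open Module Submodule QuadraticMap Cfsg.Agent.Lib.Helper15 Cfsg.Agent.Lib.Helper15.PSpI
  Cfsg.Agent.Lib.Helper15.PSpJ Cfsg.Agent.Lib.Helper15.PSub Cfsg.Agent.Lib.Helper15.PDec
  Cfsg.Agent.Lib.Helper15.PSpK Cfsg.Agent.Lib.Helper6.OrtS Cfsg.Agent.Lib.Helper14.OrthEven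

universe u

/-- the capacity condition for the number `j` of irreducible constituents of an invariant totally
singular subspace of the moved part, for an element with `s` blocks -/
def Jc (i r s j : ℕ) : Prop := j = 0 ∨ (if Even i then 2 * j + (r - 1) / i ≤ s + 1 else j ≤ s)

/-- feasibility of the block number `s` -/
def Feas (i : ℕ) (ε : ℤ) (d s : ℕ) : Prop :=
  1 ≤ s ∧ cOf i * s ≤ 2 * d ∧ (cOf i * s = 2 * d → tau i s = ε)

section model

variable {F : Type u} [Field F] [Fintype F]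
variable {V : Type*} [AddCommGroup V] [Module F V] [FiniteDimensional F V]
variable (Q : QuadraticForm F V)

/-- model elements for every feasible block number -/
theorem exists_model_feasible (p : ℕ) [Fact p.Prime] [CharP F p] (r : ℕ) [hr : Fact r.Prime]
    (hrp : r ≠ p) (hr2 : r ≠ 2) (hQ : NondegOn (polarBilin Q) ⊤) (d : ℕ) (hd : 1 ≤ d)
    (hn : finrank F V = 2 * d) (ε : ℤ) (hε : ε = 1 ∨ ε = -1) (hsV : SgnOn Q ⊤ ε) (s : ℕ)
    (hs : Feas (orderOf ((Fintype.card F : ℕ) : ZMod r)) ε d s) :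
    ∃ y : V →ₗ[F] V, (∀ v, Q (y v) = Q v) ∧ y ^ r = 1 ∧ (∃ v, y v ≠ v) ∧
      ∀ W : Submodule F V, (∀ u ∈ W, Q u = 0) → W.map y ≤ W →
        ∃ w j, finrank F W = orderOf ((Fintype.card F : ℕ) : ZMod r) * j + w ∧
          w ≤ wt (ε * tau (orderOf ((Fintype.card F : ℕ) : ZMod r)) s)
            (d - cOf (orderOf ((Fintype.card F : ℕ) : ZMod r)) * s / 2) ∧
          Jc (orderOf ((Fintype.card F : ℕ) : ZMod r)) r s j := by
  classical
  have hipos : 0 < orderOf ((Fintype.card F : ℕ) : ZMod r) := orderOf_pos_of_ne p r hrp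
  have hidvd := ord_dvd_pred (F := F) p r hrp
  obtain ⟨i, hi⟩ : ∃ i, i = orderOf ((Fintype.card F : ℕ) : ZMod r) := ⟨_, rfl⟩
  rw [← hi] at hs hipos hidvd ⊢
  obtain ⟨hs1, hsd, hfeas⟩ := hs
  obtain ⟨c', hc'⟩ : Even (cOf i) := cOf_even
  obtain ⟨d', hd'def⟩ : ∃ d', d' = c' * s := ⟨_, rfl⟩
  have hd' : 2 * d' = cOf i * s := by rw [hd'def, hc']; ring
  have hcs2 : cOf i * s / 2 = d' := by omega
  have hcpos : 0 < cOf i := cOf_pos hipos
  have hd'1 : 1 ≤ d' := by
    have : 0 < cOf i * s := Nat.mul_pos hcpos hs1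
    omega
  have hle : d' ≤ d := by omega
  have hfeas' : d' = d → tau i s = ε := fun h => hfeas (by omega)
  rw [hcs2]
  by_cases hie : Even i
  · -- self-dual blocks
    obtain ⟨j₀, hj₀⟩ := hie
    have hj1 : 1 ≤ j₀ := by omega
    have hci : cOf i = i := by unfold cOf; rw [if_pos ⟨j₀, hj₀⟩]
    have hr1 : 0 < r - 1 := by have := hr.out.two_le; omega
    have hile : i ≤ r - 1 := Nat.le_of_dvd hr1 hidvd
    obtain ⟨t, ht⟩ : ∃ t, t = (r - 1) / i := ⟨_, rfl⟩
    have ht1 : 1 ≤ t := by rw [ht]; exact Nat.div_pos hile hipos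
    have hti : t * i = r - 1 := by rw [ht]; exact Nat.div_mul_cancel hidvd
    -- the profile
    obtain ⟨a₁, u', ha₁, hu't, hsum, hcap⟩ : ∃ a₁ u' : ℕ, 1 ≤ a₁ ∧ u' + 1 ≤ t ∧ a₁ + u' = s ∧
        (∀ j, 2 * j ≤ a₁ → j = 0 ∨ 2 * j + t ≤ s + 1) := by
      by_cases hst : s ≤ t
      · refine ⟨1, s - 1, le_rfl, by omega, by omega, ?_⟩
        intro j hj
        left
        omega
      · refine ⟨s - t + 1, t - 1, by omega, by omega, by omega, ?_⟩
        intro j hj
        right
        omega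
    have hu : (u' + 1) * (2 * j₀) ≤ r - 1 := by
      have hi2 : 2 * j₀ = i := by omega
      rw [hi2, ← hti]
      exact Nat.mul_le_mul_right i hu't
    have hdim : (a₁ + u') * (2 * j₀) + 2 * 0 = 2 * d' := by
      rw [hsum, hd', hci]
      have hi2 : 2 * j₀ = i := by omega
      rw [hi2]
      ring
    obtain ⟨x', hx'r, -, hprof⟩ := exists_profile_elt (F := F) p r hr2 hrp j₀ hj1
      (by rw [← hi]; exact hj₀) d' a₁ u' 0 ha₁ hu hdim
    have hfpf : ∀ v, Matrix.toLin' (x' : Matrix (Fin d' ⊕ Fin d') (Fin d' ⊕ Fin d') F) v = v →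
        v = 0 := by
      intro v hv
      by_contra hv0
      obtain ⟨w, j, h5, h6, -⟩ := hprof (span F {v}) (by
          intro a ha b hb
          obtain ⟨s', rfl⟩ := mem_span_singleton.mp ha
          obtain ⟨t', rfl⟩ := mem_span_singleton.mp hb
          rw [← stdSymp_apply]
          simp only [map_smul, LinearMap.smul_apply, stdSymp_alt, smul_zero]) (by
          rintro _ ⟨a, ha, rfl⟩
          obtain ⟨s', rfl⟩ := mem_span_singleton.mp ha
          rw [map_smul, hv]
          exact mem_span_singleton.mpr ⟨s', rfl⟩)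
      rw [finrank_span_singleton hv0] at h5
      have : 2 * j₀ * j ≠ 1 := by
        intro h
        have h2 : 2 ∣ 1 := ⟨j₀ * j, by rw [← h]; ring⟩
        omega
      omega
    obtain ⟨y, hQy, hyr, hmv, hbd⟩ := exists_model_elt Q p r hrp hr2 hQ d hd hn ε hε hsV d' s hd'1
      (by rw [← hi]; exact hd') hle (by rw [← hi]; exact hfeas') x' hx'r hfpf
      (fun j' => ∃ j, j' = i * j ∧ 2 * j ≤ a₁) (by
        intro W' hW'ti hW'x
        obtain ⟨w, j, h5, h6, h7⟩ := hprof W' hW'ti hW'x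
        refine ⟨j, ?_, h7⟩
        rw [h5]
        have : w = 0 := by omega
        rw [this, zero_add, hj₀]
        ring)
    refine ⟨y, hQy, hyr, hmv, ?_⟩
    intro W hWts hWy
    obtain ⟨w, j', h1, h2, j, hj', hj⟩ := hbd W hWts hWy
    rw [← hi] at h2
    refine ⟨w, j, by rw [h1, hj']; ring, h2, ?_⟩
    unfold Jc
    rw [if_pos ⟨j₀, hj₀⟩, ← ht]
    exact hcap j hj
  · -- pairs of dual blocks
    have hci : cOf i = 2 * i := by unfold cOf; rw [if_neg hie]
    have hd'i : d' = i * s := by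
      rw [hci] at hd'
      have : 2 * d' = 2 * (i * s) := by rw [hd']; ring
      omega
    obtain ⟨x', hx'r, hx'E, -⟩ := exists_elt (F := F) p r hr2 hrp d' s hs1
      (by rw [← hi, ← hd'])
    rw [← hi, ← hd', Nat.sub_self] at hx'E
    have hEbot : Module.End.eigenspace
        (Matrix.toLin' (x' : Matrix (Fin d' ⊕ Fin d') (Fin d' ⊕ Fin d') F)) 1 = ⊥ :=
      Submodule.finrank_eq_zero.mp hx'E
    have hfpf : ∀ v, Matrix.toLin' (x' : Matrix (Fin d' ⊕ Fin d') (Fin d' ⊕ Fin d') F) v = v →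
        v = 0 := by
      intro v hv
      have : v ∈ Module.End.eigenspace
          (Matrix.toLin' (x' : Matrix (Fin d' ⊕ Fin d') (Fin d' ⊕ Fin d') F)) 1 := by
        rw [Module.End.mem_eigenspace_iff, one_smul]
        exact hv
      rw [hEbot] at this
      exact (mem_bot F).mp this
    obtain ⟨y, hQy, hyr, hmv, hbd⟩ := exists_model_elt Q p r hrp hr2 hQ d hd hn ε hε hsV d' s hd'1
      (by rw [← hi]; exact hd') hle (by rw [← hi]; exact hfeas') x' hx'r hfpf
      (fun j' => ∃ j, j' = i * j ∧ j ≤ s) (by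
        intro W' hW'ti hW'x
        have hWinv : W' ∈ Module.End.invtSubmodule
            (Matrix.toLin' (x' : Matrix (Fin d' ⊕ Fin d') (Fin d' ⊕ Fin d') F)) := by
          rw [Module.End.mem_invtSubmodule_iff_map_le]
          exact hW'x
        obtain ⟨j, hj⟩ := invt_profile p r hrp _ hx'r W' hWinv
        rw [hEbot, inf_bot_eq, finrank_bot, zero_add, ← hi] at hj
        refine ⟨j, by rw [hj]; ring, ?_⟩
        have hnd' : NondegOn (stdSymp d' F) (⊤ : Submodule F (Fin d' ⊕ Fin d' → F)) :=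
          fun u _ hu => stdSymp_nondeg u fun v => hu v mem_top
        have h2 := ti_le_half (B := stdSymp d' F) stdSymp_alt ⊤ W' le_top hnd'
          (fun u hu v hv => by rw [stdSymp_apply]; exact hW'ti u hu v hv)
        rw [finrank_top, Module.finrank_fintype_fun_eq_card, Fintype.card_sum, Fintype.card_fin,
          hj, hd'i] at h2
        have h3 : j * i ≤ s * i := by
          have : 2 * (j * i) ≤ 2 * (s * i) := by
            calc 2 * (j * i) ≤ i * s + i * s := h2
              _ = 2 * (s * i) := by ring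
          omega
        exact Nat.le_of_mul_le_mul_right h3 hipos)
    refine ⟨y, hQy, hyr, hmv, ?_⟩
    intro W hWts hWy
    obtain ⟨w, j', h1, h2, j, hj', hj⟩ := hbd W hWts hWy
    rw [← hi] at h2
    refine ⟨w, j, by rw [h1, hj']; ring, h2, ?_⟩
    unfold Jc
    rw [if_neg hie]
    exact Or.inr hj

/-- **Criterion in terms of feasible block numbers** -/
theorem lin_criterion (p : ℕ) [Fact p.Prime] [CharP F p] (r : ℕ) [hr : Fact r.Prime]
    (hrp : r ≠ p) (hr2 : r ≠ 2) (hQ : NondegOn (polarBilin Q) ⊤) (d : ℕ) (hd : 1 ≤ d)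
    (hn : finrank F V = 2 * d) (ε : ℤ) (hε : ε = 1 ∨ ε = -1) (hsV : SgnOn Q ⊤ ε) (m : ℕ) :
    (∀ y : V →ₗ[F] V, (∀ v, Q (y v) = Q v) → y ^ r = 1 → (∃ v, y v ≠ v) →
      ∃ W : Submodule F V, finrank F W = m ∧ (∀ u ∈ W, Q u = 0) ∧ W.map y ≤ W) ↔
    (∀ s, Feas (orderOf ((Fintype.card F : ℕ) : ZMod r)) ε d s →
      ∃ j w, Jc (orderOf ((Fintype.card F : ℕ) : ZMod r)) r s j ∧
        w ≤ wt (ε * tau (orderOf ((Fintype.card F : ℕ) : ZMod r)) s)
          (d - cOf (orderOf ((Fintype.card F : ℕ) : ZMod r)) * s / 2) ∧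
        orderOf ((Fintype.card F : ℕ) : ZMod r) * j + w = m) := by
  have hipos : 0 < orderOf ((Fintype.card F : ℕ) : ZMod r) := orderOf_pos_of_ne p r hrp
  have hidvd := ord_dvd_pred (F := F) p r hrp
  have hr0 : (r : F) ≠ 0 := ne_zero_of_ne' p r hr.out hrp
  have hS := pB_symm Q
  constructor
  · intro hall s hs
    obtain ⟨y, hQy, hyr, hmv, hbd⟩ := exists_model_feasible Q p r hrp hr2 hQ d hd hn ε hε hsV s hs
    obtain ⟨W, hWdim, hWts, hWy⟩ := hall y hQy hyr hmv
    obtain ⟨w, j, h1, h2, h3⟩ := hbd W hWts hWy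
    exact ⟨j, w, h3, h2, by rw [← h1, hWdim]⟩
  · intro hcrit y hQy hy hmv
    have hiso := iso_of_Q Q y hQy
    have hinj : Function.Injective y :=
      injective_of_pow_eq_smul y r 1 one_ne_zero (by rw [hy, one_smul]) hr.out.ne_zero
    have htop : (⊤ : Submodule F V).map y = ⊤ :=
      map_eq_of_invt y hinj ⊤ (by
        rw [Module.End.mem_invtSubmodule_iff_map_le]
        exact le_top)
    obtain ⟨s, hs⟩ := movPart_profile' p r hrp hr2 hS y hiso hy ⊤ htop hQ
    obtain ⟨-, -, -, -, hsup, -⟩ :=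
      movPart_props' hS y hiso r hr.out.ne_zero hr0 hy ⊤ htop hQ
    obtain ⟨hEn, hEf, hcsn, hEs⟩ := top_struct Q p r hrp hr2 hQ y hQy hy (2 * d) hn ⟨d, by ring⟩
      ε hsV s hs
    have hs1 : 1 ≤ s := by
      by_contra h
      have h0 : s = 0 := by omega
      rw [h0, mul_zero] at hs
      have hb : movPart (polarBilin Q) y ⊤ = ⊥ := Submodule.finrank_eq_zero.mp hs
      rw [hb, sup_bot_eq] at hsup
      obtain ⟨v, hv⟩ := hmv
      apply hv
      have h7 : v ∈ (⊤ : Submodule F V) ⊓ Module.End.eigenspace y 1 := by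
        rw [hsup]; exact mem_top
      exact fix_of_mem_inf y h7
    have hfull : cOf (orderOf ((Fintype.card F : ℕ) : ZMod r)) * s = 2 * d →
        tau (orderOf ((Fintype.card F : ℕ) : ZMod r)) s = ε := by
      intro hcs
      rw [hcs, Nat.sub_self] at hEf
      have hb : (⊤ : Submodule F V) ⊓ Module.End.eigenspace y 1 = ⊥ :=
        Submodule.finrank_eq_zero.mp hEf
      rw [hb] at hEs
      have h1 := SgnOn.unique Q hEs (sgnOn_bot Q)
      have h2 := int_sign_mul_cancel (tau_sq _ s) h1.symm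
      rw [h2, one_mul]
    obtain ⟨j, w, hJ, hw, hm⟩ := hcrit s ⟨hs1, hcsn, hfull⟩
    obtain ⟨W, hWdim, hWts, hWy⟩ := exists_ts_invt Q p r hrp hr2 hQ y hQy hy d hn ε hε hsV s hs j w
      (by
        unfold Jc at hJ
        rcases hJ with h0 | hJ
        · exact Or.inl h0
        · right
          unfold thr cOf
          split_ifs at hJ ⊢ with hie
          · obtain ⟨t, ht⟩ : ∃ t, t = (r - 1) / orderOf ((Fintype.card F : ℕ) : ZMod r) := ⟨_, rfl⟩
            have hti : t * orderOf ((Fintype.card F : ℕ) : ZMod r) = r - 1 := by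
              rw [ht]; exact Nat.div_mul_cancel hidvd
            rw [← ht] at hJ
            obtain ⟨i, hi⟩ : ∃ i, i = orderOf ((Fintype.card F : ℕ) : ZMod r) := ⟨_, rfl⟩
            rw [← hi] at hti hipos ⊢
            rw [← hti]
            have h5 : (2 * j + t) * i ≤ (s + 1) * i := Nat.mul_le_mul_right i hJ
            nlinarith
          · obtain ⟨i, hi⟩ : ∃ i, i = orderOf ((Fintype.card F : ℕ) : ZMod r) := ⟨_, rfl⟩
            rw [← hi] at hipos ⊢
            have h5 : j * i ≤ s * i := Nat.mul_le_mul_right i hJ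
            nlinarith) hw
    exact ⟨W, by rw [hWdim, hm], hWts, hWy⟩

end model

end Cfsg.Agent.Lib.Helper15.OTS
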