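import Mathlib

/-!
# Arithmetic of the criterion for invariant totally singular subspaces (pure natural numbers)
-/

set_option autoImplicit false

namespace Cfsg.Agent.Lib.Helper15.OTS

/-- Witt index of the fixed part in terms of parities -/
def wtn (σ s e : ℕ) : ℕ := if Even (s + σ) then e else e - 1

theorem uniq_div' (i j m' w l : ℕ) (h : i * j + w = i * m' + l) (hw : w < i) (hl : l < i) :
    j = m' ∧ w = l := by
  have hj : j = m' := by
    by_contra hne
    rcases Nat.lt_or_gt_of_ne hne with h1 | h1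
    · have := Nat.mul_le_mul_left i (Nat.succ_le_of_lt h1)
      rw [Nat.mul_succ] at this
      omega
    · have := Nat.mul_le_mul_left i (Nat.succ_le_of_lt h1)
      rw [Nat.mul_succ] at this
      omega
  subst hj
  exact ⟨rfl, by omega⟩

/-- the criterion for `i` odd -/
theorem core_odd (i D δ m' ℓ σ m d : ℕ) (hi : 1 ≤ i) (hδ : δ < i) (hd : d = i * D + δ)
    (hℓ : ℓ < i) (hm : m = i * m' + ℓ) (hσ : σ ≤ 1) (hmd : m < d)
    (HW : ∃ j₁ < m, (σ = 0 ∧ i ∣ d - j₁) ∨ (σ = 1 ∧ i ∣ d - j₁ - 1)) :
    (∀ s, 1 ≤ s → 2 * i * s ≤ 2 * d → (2 * i * s = 2 * d → σ = 0) →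
      ∃ j w, (j = 0 ∨ j ≤ s) ∧ w ≤ (if σ = 0 then d - i * s else d - i * s - 1) ∧
        i * j + w = m) ↔
    (1 ≤ m' ∧ (σ = 0 → ℓ ≤ δ) ∧ (σ = 1 → δ = 0 ∨ ℓ < δ)) := by
  constructor
  · intro hall
    have hm'1 : 1 ≤ m' := by
      by_contra hlt
      have hm'0 : m' = 0 := by omega
      rw [hm'0, mul_zero, zero_add] at hm
      obtain ⟨j₁, hj₁, hcase⟩ := HW
      rcases hcase with ⟨hσ0, u, hu⟩ | ⟨hσ1, u, hu⟩
      · have hu1 : 1 ≤ u := by
          rcases Nat.eq_zero_or_pos u with h0 | h0
          · rw [h0, mul_zero] at hu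
            omega
          · exact h0
        have h2 : 2 * i * u = 2 * (i * u) := by ring
        obtain ⟨j, w, -, hw, hjw⟩ := hall u hu1 (by omega) (fun _ => hσ0)
        rw [if_pos hσ0] at hw
        have hj0 : j = 0 := by
          by_contra hj
          have : i * 1 ≤ i * j := Nat.mul_le_mul_left i (by omega)
          omega
        rw [hj0, mul_zero, zero_add] at hjw
        omega
      · have hu1 : 1 ≤ u := by
          rcases Nat.eq_zero_or_pos u with h0 | h0
          · rw [h0, mul_zero] at hu
            omega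
          · exact h0
        have h2 : 2 * i * u = 2 * (i * u) := by ring
        obtain ⟨j, w, -, hw, hjw⟩ := hall u hu1 (by omega) (fun h => by omega)
        rw [if_neg (by omega)] at hw
        have hj0 : j = 0 := by
          by_contra hj
          have : i * 1 ≤ i * j := Nat.mul_le_mul_left i (by omega)
          omega
        rw [hj0, mul_zero, zero_add] at hjw
        omega
    have hD1 : 1 ≤ D := by
      by_contra hlt
      have hD0 : D = 0 := by omega
      rw [hD0, mul_zero, zero_add] at hd
      have : i * 1 ≤ i * m' := Nat.mul_le_mul_left i hm'1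
      omega
    have h2 : 2 * i * D = 2 * (i * D) := by ring
    refine ⟨hm'1, ?_, ?_⟩
    · intro hσ0
      obtain ⟨j, w, -, hw, hjw⟩ := hall D hD1 (by omega) (fun _ => hσ0)
      rw [if_pos hσ0] at hw
      have := uniq_div' i j m' w ℓ (by omega) (by omega) hℓ
      omega
    · intro hσ1
      by_cases hδ0 : δ = 0
      · exact Or.inl hδ0
      · right
        obtain ⟨j, w, -, hw, hjw⟩ := hall D hD1 (by omega) (fun h => by omega)
        rw [if_neg (by omega)] at hw
        have := uniq_div' i j m' w ℓ (by omega) (by omega) hℓ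
        omega
  · rintro ⟨hm'1, h0, h1⟩ s hs1 hsd hfeas
    have h2 : 2 * i * s = 2 * (i * s) := by ring
    have hsD : s ≤ D := by
      by_contra hlt
      have : i * (D + 1) ≤ i * s := Nat.mul_le_mul_left i (by omega)
      rw [Nat.mul_succ] at this
      omega
    have hsD' : i * s ≤ i * D := Nat.mul_le_mul_left i hsD
    by_cases hcase : m' ≤ s
    · refine ⟨m', ℓ, Or.inr hcase, ?_, hm.symm⟩
      split_ifs with hσ0
      · have := h0 hσ0
        omega
      · have hσ1 : σ = 1 := by omega
        have hne : i * s ≠ d := fun h => hσ0 (hfeas (by omega))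
        rcases h1 hσ1 with hδ0 | hlt
        · have hsD2 : s < D := by
            by_contra hge
            have : s = D := by omega
            rw [this] at hne
            omega
          have : i * (s + 1) ≤ i * D := Nat.mul_le_mul_left i (by omega)
          rw [Nat.mul_succ] at this
          omega
        · omega
    · have hlt : s + 1 ≤ m' := by omega
      have : i * (s + 1) ≤ i * m' := Nat.mul_le_mul_left i hlt
      rw [Nat.mul_succ] at this
      refine ⟨s, m - i * s, Or.inr le_rfl, ?_, by omega⟩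
      split_ifs with hσ0
      · omega
      · omega

theorem wtn_of_even (σ s e : ℕ) (h : (s + σ) % 2 = 0) : wtn σ s e = e := by
  unfold wtn
  rw [if_pos (Nat.even_iff.mpr h)]

theorem wtn_of_odd (σ s e : ℕ) (h : (s + σ) % 2 = 1) : wtn σ s e = e - 1 := by
  unfold wtn
  rw [if_neg (by rw [Nat.even_iff]; omega)]

theorem wtn_le (σ s e : ℕ) : wtn σ s e ≤ e := by
  unfold wtn
  split_ifs <;> omega

theorem wtn_ge (σ s e : ℕ) : e - 1 ≤ wtn σ s e := by
  unfold wtn
  split_ifs <;> omega

/-- the criterion for `i = 2h` even -/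
theorem core_even (h n' κ m' ℓ t σ m d : ℕ) (hh : 1 ≤ h) (hκ : κ < h) (hd : d = h * n' + κ)
    (hℓ : ℓ < 2 * h) (hm : m = 2 * h * m' + ℓ) (ht : 1 ≤ t) (hσ : σ ≤ 1) (hmd : m < d)
    (HW : ∃ j₁ < m, (σ = 0 ∧ (2 * h ∣ d - j₁ ∨ (d - j₁ - 1) % (2 * h) = h)) ∨
      (σ = 1 ∧ ((d - j₁) % (2 * h) = h ∨ 2 * h ∣ d - j₁ - 1))) :
    (∀ s, 1 ≤ s → 2 * h * s ≤ 2 * d → (2 * h * s = 2 * d → Even (s + σ)) →
      ∃ j w, (j = 0 ∨ 2 * j + t ≤ s + 1) ∧ w ≤ wtn σ s (d - h * s) ∧ 2 * h * j + w = m) ↔
    (1 ≤ m' ∧ t + 2 * m' ≤ n' ∧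
      ((ℓ ≤ h ∧ κ = 0 ∧ ¬ Even (n' + σ) ∧ t + 2 * m' < n') ∨ (ℓ ≤ κ ∧ Even (n' + σ)) ∨
        (ℓ < κ ∧ ¬ Even (n' + σ)))) := by
  constructor
  · intro hall
    -- Step 1
    have hm'1 : 1 ≤ m' := by
      by_contra hlt
      have hm'0 : m' = 0 := by omega
      rw [hm'0, mul_zero, zero_add] at hm
      have hj0 : ∀ j w, 2 * h * j + w = m → j = 0 := by
        intro j w hjw
        by_contra hj
        have : 2 * h * 1 ≤ 2 * h * j := Nat.mul_le_mul_left _ (by omega)
        omega
      obtain ⟨j₁, hj₁, hcase⟩ := HW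
      rcases hcase with ⟨hσ0, ⟨u, hu⟩ | hmod⟩ | ⟨hσ1, hmod | ⟨u, hu⟩⟩
      · have hu1 : 1 ≤ u := by
          rcases Nat.eq_zero_or_pos u with h0 | h0
          · rw [h0, mul_zero] at hu
            omega
          · exact h0
        have e1 : 2 * h * (2 * u) = 2 * (2 * h * u) := by ring
        have e2 : h * (2 * u) = 2 * h * u := by ring
        obtain ⟨j, w, -, hw, hjw⟩ := hall (2 * u) (by omega) (by omega)
          (fun _ => ⟨u, by omega⟩)
        rw [wtn_of_even σ (2 * u) _ (by omega), e2] at hw
        have := hj0 j w hjw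
        subst this
        omega
      · have hdm := Nat.div_add_mod (d - j₁ - 1) (2 * h)
        obtain ⟨u, hu⟩ : ∃ u, u = (d - j₁ - 1) / (2 * h) := ⟨_, rfl⟩
        rw [← hu, hmod] at hdm
        have e1 : 2 * h * (2 * u + 1) = 2 * (2 * h * u + h) := by ring
        have e2 : h * (2 * u + 1) = 2 * h * u + h := by ring
        obtain ⟨j, w, -, hw, hjw⟩ := hall (2 * u + 1) (by omega) (by omega)
          (fun hh => by omega)
        rw [wtn_of_odd σ (2 * u + 1) _ (by omega), e2] at hw
        have := hj0 j w hjw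
        subst this
        omega
      · have hdm := Nat.div_add_mod (d - j₁) (2 * h)
        obtain ⟨u, hu⟩ : ∃ u, u = (d - j₁) / (2 * h) := ⟨_, rfl⟩
        rw [← hu, hmod] at hdm
        have e1 : 2 * h * (2 * u + 1) = 2 * (2 * h * u + h) := by ring
        have e2 : h * (2 * u + 1) = 2 * h * u + h := by ring
        obtain ⟨j, w, -, hw, hjw⟩ := hall (2 * u + 1) (by omega) (by omega)
          (fun _ => ⟨u + 1, by omega⟩)
        rw [wtn_of_even σ (2 * u + 1) _ (by omega), e2] at hw
        have := hj0 j w hjw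
        subst this
        omega
      · have hu1 : 1 ≤ u := by
          rcases Nat.eq_zero_or_pos u with h0 | h0
          · rw [h0, mul_zero] at hu
            omega
          · exact h0
        have e1 : 2 * h * (2 * u) = 2 * (2 * h * u) := by ring
        have e2 : h * (2 * u) = 2 * h * u := by ring
        obtain ⟨j, w, -, hw, hjw⟩ := hall (2 * u) (by omega) (by omega)
          (fun hh => by omega)
        rw [wtn_of_odd σ (2 * u) _ (by omega), e2] at hw
        have := hj0 j w hjw
        subst this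
        omega
    -- Step 2
    have hm2 : 2 * h * 1 ≤ 2 * h * m' := Nat.mul_le_mul_left _ hm'1
    have hn2 : 2 ≤ n' := by
      by_contra hlt
      have : h * n' ≤ h * 1 := Nat.mul_le_mul_left h (by omega)
      omega
    have hn3 : κ = 0 → 3 ≤ n' := by
      intro hκ0
      by_contra hlt
      have : h * n' ≤ h * 2 := Nat.mul_le_mul_left h (by omega)
      omega
    -- test `s = n' - 1`
    obtain ⟨n₁, hn₁⟩ : ∃ n₁, n' = n₁ + 1 := ⟨n' - 1, by omega⟩
    have e3 : h * n' = h * n₁ + h := by rw [hn₁]; ring
    have e4 : 2 * h * n₁ = 2 * (h * n₁) := by ring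
    obtain ⟨j, w, hJ, hw, hjw⟩ := hall n₁ (by omega) (by omega) (fun hh => by omega)
    have hw2 := (wtn_le σ n₁ (d - h * n₁))
    obtain ⟨hjm, hwl⟩ := uniq_div' (2 * h) j m' w ℓ (by omega) (by omega) hℓ
    subst hjm
    subst hwl
    have hsecond : t + 2 * j ≤ n' := by
      rcases hJ with h0 | hJ
      · omega
      · omega
    refine ⟨hm'1, hsecond, ?_⟩
    by_cases hgood : Even (n' + σ)
    · right; left
      refine ⟨?_, hgood⟩
      rw [Nat.even_iff] at hgood
      have e5 : 2 * h * n' = 2 * (h * n') := by ring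
      obtain ⟨j', w', -, hw', hjw'⟩ := hall n' (by omega) (by omega)
        (fun _ => Nat.even_iff.mpr hgood)
      rw [wtn_of_even σ n' _ hgood] at hw'
      obtain ⟨-, hwl'⟩ := uniq_div' (2 * h) j' j w' w (by omega) (by omega) hℓ
      omega
    · by_cases hκ0 : κ = 0
      · left
        have hbad : (n' + σ) % 2 = 1 := by
          rw [Nat.even_iff] at hgood
          omega
        rw [wtn_of_even σ n₁ _ (by omega)] at hw
        refine ⟨by omega, hκ0, hgood, ?_⟩
        have h3 := hn3 hκ0
        obtain ⟨n₂, hn₂⟩ : ∃ n₂, n₁ = n₂ + 1 := ⟨n₁ - 1, by omega⟩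
        have e6 : h * n₁ = h * n₂ + h := by rw [hn₂]; ring
        have e7 : 2 * h * n₂ = 2 * (h * n₂) := by ring
        obtain ⟨j', w', hJ', hw', hjw'⟩ := hall n₂ (by omega) (by omega) (fun hh => by omega)
        rw [wtn_of_odd σ n₂ _ (by omega)] at hw'
        obtain ⟨hjm', -⟩ := uniq_div' (2 * h) j' j w' w (by omega) (by omega) hℓ
        subst hjm'
        rcases hJ' with h0 | hJ'
        · omega
        · omega
      · right; right
        refine ⟨?_, hgood⟩
        have hbad : (n' + σ) % 2 = 1 := by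
          rw [Nat.even_iff] at hgood
          omega
        have e5 : 2 * h * n' = 2 * (h * n') := by ring
        obtain ⟨j', w', -, hw', hjw'⟩ := hall n' (by omega) (by omega) (fun hh => by omega)
        rw [wtn_of_odd σ n' _ hbad] at hw'
        obtain ⟨-, hwl'⟩ := uniq_div' (2 * h) j' j w' w (by omega) (by omega) hℓ
        omega
  · rintro ⟨hm'1, hsecond, hABC⟩ s hs1 hsd hfeas
    have e0 : 2 * h * s = 2 * (h * s) := by ring
    have hsn : s ≤ n' := by
      by_contra hlt
      have : h * (n' + 1) ≤ h * s := Nat.mul_le_mul_left h (by omega)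
      rw [Nat.mul_succ] at this
      omega
    obtain ⟨a, ha⟩ : ∃ a, n' = s + a := ⟨n' - s, by omega⟩
    have e1 : h * n' = h * s + h * a := by rw [ha]; ring
    have hfix : d - h * s = h * a + κ := by omega
    rw [hfix]
    obtain ⟨J, hJdef⟩ : ∃ J, J = (s + 1 - t) / 2 := ⟨_, rfl⟩
    have hJc : J = 0 ∨ 2 * J + t ≤ s + 1 := by omega
    have hpar : Even (n' + σ) ↔ (n' + σ) % 2 = 0 := Nat.even_iff
    by_cases hcase : m' ≤ J
    · refine ⟨m', ℓ, Or.inr (by omega), ?_, hm.symm⟩
      rcases Nat.lt_or_ge a 2 with ha2 | ha2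
      · rcases Nat.eq_zero_or_pos a with ha0 | ha1
        · -- `a = 0`
          subst ha0
          rw [mul_zero, zero_add]
          rw [mul_zero, add_zero] at e1
          rcases hABC with ⟨-, hκ0, hbad, -⟩ | ⟨hl, hgood⟩ | ⟨hl, hbad⟩
          · exfalso
            apply hbad
            rw [ha, add_zero]
            exact hfeas (by omega)
          · rw [wtn_of_even σ s _ (by rw [hpar] at hgood; omega)]
            exact hl
          · rw [hpar] at hbad
            rw [wtn_of_odd σ s _ (by omega)]
            omega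
        · -- `a = 1`
          have ha1' : a = 1 := by omega
          subst ha1'
          rw [mul_one]
          rcases hABC with ⟨hl, hκ0, hbad, -⟩ | ⟨hl, hgood⟩ | ⟨hl, hbad⟩
          · rw [hpar] at hbad
            rw [wtn_of_even σ s _ (by omega)]
            omega
          · have := wtn_ge σ s (h + κ)
            omega
          · rw [hpar] at hbad
            rw [wtn_of_even σ s _ (by omega)]
            omega
      · have : h * 2 ≤ h * a := Nat.mul_le_mul_left h ha2
        have := wtn_ge σ s (h * a + κ)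
        omega
    · have hJm : J + 1 ≤ m' := by omega
      obtain ⟨b, hb⟩ : ∃ b, m' = J + b := ⟨m' - J, by omega⟩
      have hb1 : 1 ≤ b := by omega
      have e2 : 2 * h * m' = 2 * h * J + 2 * (h * b) := by rw [hb]; ring
      refine ⟨J, 2 * (h * b) + ℓ, hJc, ?_, by omega⟩
      have hab : 2 * b ≤ a := by omega
      obtain ⟨e, he⟩ : ∃ e, a = 2 * b + e := ⟨a - 2 * b, by omega⟩
      have e3 : h * a = 2 * (h * b) + h * e := by rw [he]; ring
      rcases Nat.lt_or_ge e 2 with he2 | he2
      · rcases Nat.eq_zero_or_pos e with he0 | he1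
        · subst he0
          rw [mul_zero, add_zero] at e3
          rcases hABC with ⟨-, -, -, hstrict⟩ | ⟨hl, hgood⟩ | ⟨hl, hbad⟩
          · exfalso
            omega
          · rw [hpar] at hgood
            rw [wtn_of_even σ s _ (by omega)]
            omega
          · rw [hpar] at hbad
            rw [wtn_of_odd σ s _ (by omega)]
            omega
        · have he1' : e = 1 := by omega
          subst he1'
          rw [mul_one] at e3
          rcases hABC with ⟨hl, hκ0, hbad, -⟩ | ⟨hl, hgood⟩ | ⟨hl, hbad⟩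
          · rw [hpar] at hbad
            rw [wtn_of_even σ s _ (by omega)]
            omega
          · have := wtn_ge σ s (h * a + κ)
            omega
          · rw [hpar] at hbad
            rw [wtn_of_even σ s _ (by omega)]
            omega
      · have : h * 2 ≤ h * e := Nat.mul_le_mul_left h he2
        have := wtn_ge σ s (h * a + κ)
        omega

end Cfsg.Agent.Lib.Helper15.OTS
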