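import Mathlib
import Cfsg.Agent.Lib.Helper15.OTS5
import Cfsg.Agent.Lib.Helper15.OTS6

/-!
# The numerical criteria for plus and minus type
-/

set_option autoImplicit false
set_option linter.unusedVariables false

namespace Cfsg.Agent.Lib.Helper15.OTS

open Cfsg.Agent.Lib.Helper15.PSpJ Cfsg.Agent.Lib.Helper6.OrtS

section signs

theorem tau_of_odd {i : ℕ} (hi : ¬ Even i) (s : ℕ) : tau i s = 1 := by
  unfold tau
  rw [if_neg hi]

theorem tau_of_even {i : ℕ} (hi : Even i) (s : ℕ) : tau i s = (-1) ^ s := by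
  unfold tau
  rw [if_pos hi]

theorem sign_mul_eq_one_iff (σ s : ℕ) (hσ : σ ≤ 1) :
    ((-1 : ℤ) ^ σ * (-1) ^ s = 1) ↔ Even (s + σ) := by
  rw [← pow_add, add_comm]
  constructor
  · intro h
    by_contra hodd
    rw [Nat.not_even_iff_odd] at hodd
    rw [hodd.neg_one_pow] at h
    omega
  · intro h
    exact h.neg_one_pow

theorem wt_sign (σ s e : ℕ) (hσ : σ ≤ 1) {i : ℕ} (hi : Even i) :
    wt ((-1 : ℤ) ^ σ * tau i s) e = wtn σ s e := by
  unfold wt wtn
  rw [tau_of_even hi]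
  by_cases h : Even (s + σ)
  · rw [if_pos h, if_pos ((sign_mul_eq_one_iff σ s hσ).mpr h)]
  · rw [if_neg h, if_neg (fun h' => h ((sign_mul_eq_one_iff σ s hσ).mp h'))]

end signs

/-- the hypothesis extracted from the number of totally singular subspaces -/
def HWs (σ i d m : ℕ) : Prop :=
  ∃ j₁ < m, (σ = 0 ∧ (i ∣ d - j₁ ∨ (Even i ∧ (d - j₁ - 1) % i = i / 2))) ∨
    (σ = 1 ∧ ((Even i ∧ (d - j₁) % i = i / 2) ∨ i ∣ d - j₁ - 1))

/-- the numerical criterion -/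
def CritTS (σ i r d m : ℕ) : Prop :=
  (Odd i ∧ i ≤ m ∧ ((σ = 0 ∧ 2 * (m % i) ≤ (2 * d) % cOf i) ∨
    (σ = 1 ∧ ((2 * d) % cOf i = 0 ∨ 2 * (m % i) < (2 * d) % cOf i)))) ∨
  (Even i ∧ i ≤ m ∧ (r - 1) / i + 2 * (m / i) ≤ (2 * d) / i ∧
    ((2 * (m % i) ≤ i ∧ (2 * d) % cOf i = 0 ∧ ¬ Even ((2 * d) / i + σ) ∧
        (r - 1) / i + 2 * (m / i) < (2 * d) / i) ∨
      (2 * (m % i) ≤ (2 * d) % cOf i ∧ Even ((2 * d) / i + σ)) ∨
      (2 * (m % i) < (2 * d) % cOf i ∧ ¬ Even ((2 * d) / i + σ))))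

/-- **Arithmetic form of the criterion** -/
theorem arith_iff (σ i r d m : ℕ) (hσ : σ ≤ 1) (hi : 1 ≤ i) (hir : i ∣ r - 1) (hr : 3 ≤ r)
    (hm1 : 1 ≤ m) (hmd : m < d) (HW : HWs σ i d m) :
    (∀ s, Feas i ((-1 : ℤ) ^ σ) d s → ∃ j w, Jc i r s j ∧
      w ≤ wt ((-1 : ℤ) ^ σ * tau i s) (d - cOf i * s / 2) ∧ i * j + w = m) ↔
    CritTS σ i r d m := by
  have hσ01 : σ = 0 ∨ σ = 1 := by omega
  have hm := Nat.div_add_mod m i
  have hℓ : m % i < i := Nat.mod_lt _ (by omega)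
  have him : i ≤ m ↔ 1 ≤ m / i := by
    rw [Nat.one_le_div_iff (by omega)]
  by_cases hie : Even i
  · -- even
    obtain ⟨h, hh⟩ := hie
    have hi2 : i = 2 * h := by omega
    have hh1 : 1 ≤ h := by omega
    have hci : cOf i = i := by unfold cOf; rw [if_pos ⟨h, hh⟩]
    have hdiv : (2 * d) / i = d / h := by rw [hi2, Nat.mul_div_mul_left _ _ (by norm_num)]
    have hmod : (2 * d) % i = 2 * (d % h) := by rw [hi2, Nat.mul_mod_mul_left]
    have hdh := Nat.div_add_mod d h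
    have hκ : d % h < h := Nat.mod_lt _ (by omega)
    have ht1 : 1 ≤ (r - 1) / i := Nat.div_pos (Nat.le_of_dvd (by omega) hir) (by omega)
    have hi2' : i / 2 = h := by omega
    have key := core_even h (d / h) (d % h) (m / i) (m % i) ((r - 1) / i) σ m d hh1 hκ
      (by omega) (by omega) (by rw [← hi2]; omega) ht1 hσ hmd (by
        obtain ⟨j₁, hj₁, hc⟩ := HW
        refine ⟨j₁, hj₁, ?_⟩
        rw [← hi2]
        rcases hc with ⟨h0, h1 | ⟨-, h1⟩⟩ | ⟨h0, ⟨-, h1⟩ | h1⟩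
        · exact Or.inl ⟨h0, Or.inl h1⟩
        · exact Or.inl ⟨h0, Or.inr (by rw [h1, hi2'])⟩
        · exact Or.inr ⟨h0, Or.inl (by rw [h1, hi2'])⟩
        · exact Or.inr ⟨h0, Or.inr h1⟩)
    have hcs : ∀ s, cOf i * s / 2 = h * s := by
      intro s
      rw [hci, hi2, mul_assoc, Nat.mul_div_cancel_left _ (by norm_num)]
    have hleft : (∀ s, Feas i ((-1 : ℤ) ^ σ) d s → ∃ j w, Jc i r s j ∧
        w ≤ wt ((-1 : ℤ) ^ σ * tau i s) (d - cOf i * s / 2) ∧ i * j + w = m) ↔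
        (∀ s, 1 ≤ s → 2 * h * s ≤ 2 * d → (2 * h * s = 2 * d → Even (s + σ)) →
          ∃ j w, (j = 0 ∨ 2 * j + (r - 1) / i ≤ s + 1) ∧ w ≤ wtn σ s (d - h * s) ∧
            2 * h * j + w = m) := by
      apply forall_congr'
      intro s
      have hfe : Feas i ((-1 : ℤ) ^ σ) d s ↔
          (1 ≤ s ∧ 2 * h * s ≤ 2 * d ∧ (2 * h * s = 2 * d → Even (s + σ))) := by
        unfold Feas
        rw [hci, ← hi2, tau_of_even ⟨h, hh⟩]
        constructor
        · rintro ⟨h1, h2, h3⟩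
          refine ⟨h1, h2, fun h4 => ?_⟩
          have := h3 h4
          rw [← sign_mul_eq_one_iff σ s hσ, this, ← pow_add, ← two_mul, pow_mul]
          norm_num
        · rintro ⟨h1, h2, h3⟩
          refine ⟨h1, h2, fun h4 => ?_⟩
          have h5 := (sign_mul_eq_one_iff σ s hσ).mpr (h3 h4)
          have h6 : ((-1 : ℤ) ^ σ) * ((-1 : ℤ) ^ σ) = 1 := by
            rw [← pow_add, ← two_mul, pow_mul]; norm_num
          calc (-1 : ℤ) ^ s = ((-1 : ℤ) ^ σ * (-1 : ℤ) ^ σ) * (-1) ^ s := by rw [h6, one_mul]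
            _ = (-1 : ℤ) ^ σ * ((-1 : ℤ) ^ σ * (-1) ^ s) := by ring
            _ = (-1 : ℤ) ^ σ := by rw [h5, mul_one]
      rw [hfe]
      constructor
      · intro hall h1 h2 h3
        obtain ⟨j, w, hJ, hw, hjw⟩ := hall ⟨h1, h2, h3⟩
        unfold Jc at hJ
        rw [if_pos ⟨h, hh⟩] at hJ
        rw [wt_sign σ s _ hσ ⟨h, hh⟩, hcs] at hw
        exact ⟨j, w, hJ, hw, by rw [← hi2]; exact hjw⟩
      · rintro hall ⟨h1, h2, h3⟩
        obtain ⟨j, w, hJ, hw, hjw⟩ := hall h1 h2 h3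
        refine ⟨j, w, ?_, ?_, by rw [hi2]; exact hjw⟩
        · unfold Jc
          rw [if_pos ⟨h, hh⟩]
          exact hJ
        · rw [wt_sign σ s _ hσ ⟨h, hh⟩, hcs]
          exact hw
    rw [hleft, key]
    unfold CritTS
    rw [hci, hdiv, hmod]
    have hnotodd : ¬ Odd i := by rw [Nat.not_odd_iff_even]; exact ⟨h, hh⟩
    constructor
    · rintro ⟨h1, h2, h3⟩
      right
      refine ⟨⟨h, hh⟩, him.mpr h1, h2, ?_⟩
      rcases h3 with ⟨a1, a2, a3, a4⟩ | ⟨b1, b2⟩ | ⟨c1, c2⟩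
      · exact Or.inl ⟨by omega, by omega, a3, a4⟩
      · exact Or.inr (Or.inl ⟨by omega, b2⟩)
      · exact Or.inr (Or.inr ⟨by omega, c2⟩)
    · rintro (⟨h1, -⟩ | ⟨-, h1, h2, h3⟩)
      · exact absurd h1 hnotodd
      · refine ⟨him.mp h1, h2, ?_⟩
        rcases h3 with ⟨a1, a2, a3, a4⟩ | ⟨b1, b2⟩ | ⟨c1, c2⟩
        · exact Or.inl ⟨by omega, by omega, a3, a4⟩
        · exact Or.inr (Or.inl ⟨by omega, b2⟩)
        · exact Or.inr (Or.inr ⟨by omega, c2⟩)
  · -- odd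
    have hci : cOf i = 2 * i := by unfold cOf; rw [if_neg hie]
    have hmod : (2 * d) % (2 * i) = 2 * (d % i) := Nat.mul_mod_mul_left _ _ _
    have hdi := Nat.div_add_mod d i
    have hδ : d % i < i := Nat.mod_lt _ (by omega)
    have key := core_odd i (d / i) (d % i) (m / i) (m % i) σ m d hi hδ (by omega) hℓ (by omega)
      hσ hmd (by
        obtain ⟨j₁, hj₁, hc⟩ := HW
        refine ⟨j₁, hj₁, ?_⟩
        rcases hc with ⟨h0, h1 | ⟨h1, -⟩⟩ | ⟨h0, ⟨h1, -⟩ | h1⟩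
        · exact Or.inl ⟨h0, h1⟩
        · exact absurd h1 hie
        · exact absurd h1 hie
        · exact Or.inr ⟨h0, h1⟩)
    have hcs : ∀ s, cOf i * s / 2 = i * s := by
      intro s
      rw [hci, mul_assoc, Nat.mul_div_cancel_left _ (by norm_num)]
    have hε : ((-1 : ℤ) ^ σ = 1) ↔ σ = 0 := by
      rcases hσ01 with rfl | rfl <;> simp
    have hleft : (∀ s, Feas i ((-1 : ℤ) ^ σ) d s → ∃ j w, Jc i r s j ∧
        w ≤ wt ((-1 : ℤ) ^ σ * tau i s) (d - cOf i * s / 2) ∧ i * j + w = m) ↔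
        (∀ s, 1 ≤ s → 2 * i * s ≤ 2 * d → (2 * i * s = 2 * d → σ = 0) →
          ∃ j w, (j = 0 ∨ j ≤ s) ∧ w ≤ (if σ = 0 then d - i * s else d - i * s - 1) ∧
            i * j + w = m) := by
      apply forall_congr'
      intro s
      have hfe : Feas i ((-1 : ℤ) ^ σ) d s ↔
          (1 ≤ s ∧ 2 * i * s ≤ 2 * d ∧ (2 * i * s = 2 * d → σ = 0)) := by
        unfold Feas
        rw [hci, tau_of_odd hie]
        constructor
        · rintro ⟨h1, h2, h3⟩
          exact ⟨h1, h2, fun h4 => hε.mp (h3 h4).symm⟩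
        · rintro ⟨h1, h2, h3⟩
          exact ⟨h1, h2, fun h4 => (hε.mpr (h3 h4)).symm⟩
      have hwt : ∀ e, wt ((-1 : ℤ) ^ σ * tau i s) e = if σ = 0 then e else e - 1 := by
        intro e
        unfold wt
        rw [tau_of_odd hie, mul_one]
        by_cases h0 : σ = 0
        · rw [if_pos h0, if_pos (hε.mpr h0)]
        · rw [if_neg h0, if_neg (fun h => h0 (hε.mp h))]
      rw [hfe]
      constructor
      · intro hall h1 h2 h3
        obtain ⟨j, w, hJ, hw, hjw⟩ := hall ⟨h1, h2, h3⟩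
        unfold Jc at hJ
        rw [if_neg hie] at hJ
        rw [hwt, hcs] at hw
        exact ⟨j, w, hJ, hw, hjw⟩
      · rintro hall ⟨h1, h2, h3⟩
        obtain ⟨j, w, hJ, hw, hjw⟩ := hall h1 h2 h3
        refine ⟨j, w, ?_, ?_, hjw⟩
        · unfold Jc
          rw [if_neg hie]
          exact hJ
        · rw [hwt, hcs]
          exact hw
    rw [hleft, key]
    unfold CritTS
    rw [hci, hmod]
    have hodd : Odd i := Nat.not_even_iff_odd.mp hie
    constructor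
    · rintro ⟨h1, h2, h3⟩
      left
      refine ⟨hodd, him.mpr h1, ?_⟩
      rcases hσ01 with h0 | h0
      · exact Or.inl ⟨h0, by have := h2 h0; omega⟩
      · right
        refine ⟨h0, ?_⟩
        rcases h3 h0 with h4 | h4
        · exact Or.inl (by omega)
        · exact Or.inr (by omega)
    · rintro (⟨-, h1, h2⟩ | ⟨h1, -⟩)
      · refine ⟨him.mp h1, ?_, ?_⟩
        · intro h0
          rcases h2 with ⟨-, h3⟩ | ⟨h3, -⟩
          · omega
          · omega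
        · intro h0
          rcases h2 with ⟨h3, -⟩ | ⟨-, h3 | h3⟩
          · omega
          · exact Or.inl (by omega)
          · exact Or.inr (by omega)
      · exact absurd h1 hie

end Cfsg.Agent.Lib.Helper15.OTS
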