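import Mathlib
import Cfsg.Agent.Lib.Helper15.OTS7
import Cfsg.Agent.Lib.Helper15.PSpK1

/-!
# Counting totally singular subspaces of an orthogonal space of even dimension
-/

set_option autoImplicit false
set_option linter.unusedSectionVars false

namespace Cfsg.Agent.Lib.Helper15.OTS

open Module Submodule QuadraticMap Cfsg.Agent.Lib.Helper15 Cfsg.Agent.Lib.Helper15.PSub
  Cfsg.Agent.Lib.Helper14.OrthEven

section level

variable {F V : Type*} [Field F] [AddCommGroup V] [Module F V]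
variable (Q : QuadraticForm F V)

/-- a vector of `U` on which the functional takes the value one, if there is one -/
noncomputable def pick (U : Submodule F V) (l : U →ₗ[F] F) : V :=
  by
    classical
    exact if h : ∃ u : U, l u = 1 then ((Classical.choose h : U) : V) else 0

theorem pick_mem (U : Submodule F V) (l : U →ₗ[F] F) : pick U l ∈ U := by
  classical
  unfold pick
  split_ifs with h
  · exact (Classical.choose h).2
  · exact U.zero_mem

theorem pick_spec (U : Submodule F V) (l : U →ₗ[F] F) (h : ∃ u : U, l u ≠ 0) :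
    l ⟨pick U l, pick_mem U l⟩ = 1 := by
  classical
  have h' : ∃ u : U, l u = 1 := by
    obtain ⟨u, hu⟩ := h
    refine ⟨(l u)⁻¹ • u, ?_⟩
    rw [map_smul, smul_eq_mul, inv_mul_cancel₀ hu]
  have h1 : pick U l = ((Classical.choose h' : U) : V) := by
    unfold pick
    rw [dif_pos h']
  have h2 : (⟨pick U l, pick_mem U l⟩ : U) = Classical.choose h' := Subtype.ext h1
  rw [h2]
  exact Classical.choose_spec h'

/-- the restriction to `U` of the functional `polar Q w` -/
noncomputable def fnl (U : Submodule F V) (w : V) : U →ₗ[F] F :=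
  (polarBilin Q w).comp U.subtype

theorem fnl_apply (U : Submodule F V) (w : V) (u : U) : fnl Q U w u = polar Q w (u : V) := rfl

/-- the shift moving the level `c` to the level `0` -/
noncomputable def shift (U : Submodule F V) (c : F) (w : V) : V :=
  w - c • pick U (fnl Q U w)

theorem fnl_shift (U : Submodule F V) (hU : ∀ u ∈ U, Q u = 0) (c : F) (w : V) :
    fnl Q U (shift Q U c w) = fnl Q U w := by
  apply LinearMap.ext
  intro u
  rw [fnl_apply, fnl_apply]
  unfold shift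
  have h0 : polar Q (pick U (fnl Q U w)) (u : V) = 0 :=
    polar_of_ts Q U hU _ _ (pick_mem U _) u.2
  rw [polar_sub_left, polar_smul_left, h0, smul_zero, sub_zero]

theorem shift_shift (U : Submodule F V) (hU : ∀ u ∈ U, Q u = 0) (c : F) (w : V) :
    shift Q U (-c) (shift Q U c w) = w := by
  have h := fnl_shift Q U hU c w
  show shift Q U c w - (-c) • pick U (fnl Q U (shift Q U c w)) = w
  rw [h]
  unfold shift
  rw [neg_smul, sub_neg_eq_add, sub_add_cancel]

theorem Q_shift (U : Submodule F V) (hU : ∀ u ∈ U, Q u = 0) (c : F) (w : V)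
    (hw : ∃ u ∈ U, polar Q w u ≠ 0) : Q (shift Q U c w) = Q w - c := by
  have h1 : fnl Q U w ⟨pick U (fnl Q U w), pick_mem U _⟩ = 1 := by
    apply pick_spec
    obtain ⟨u, hu, hne⟩ := hw
    exact ⟨⟨u, hu⟩, hne⟩
  rw [fnl_apply] at h1
  have h2 : Q (pick U (fnl Q U w)) = 0 := hU _ (pick_mem U _)
  unfold shift
  have h3 : Q (w - c • pick U (fnl Q U w)) =
      Q w + Q (-(c • pick U (fnl Q U w))) + polar Q w (-(c • pick U (fnl Q U w))) := by
    rw [sub_eq_add_neg]
    unfold polar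
    ring
  rw [h3, QuadraticMap.map_neg, QuadraticMap.map_smul, h2, polar_neg_right, polar_smul_right, h1]
  simp
  ring

theorem exists_shift (U : Submodule F V) (hU : ∀ u ∈ U, Q u = 0) (c : F) (w : V)
    (hw : ∃ u ∈ U, polar Q w u ≠ 0) : ∃ u ∈ U, polar Q (shift Q U c w) u ≠ 0 := by
  obtain ⟨u, hu, hne⟩ := hw
  refine ⟨u, hu, ?_⟩
  have h := fnl_shift Q U hU c w
  have h2 : fnl Q U (shift Q U c w) ⟨u, hu⟩ = fnl Q U w ⟨u, hu⟩ := by rw [h]
  rw [fnl_apply, fnl_apply] at h2
  rw [h2]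
  exact hne

/-- the levels of `Q` off the orthogonal complement of a totally singular subspace are equally
big -/
theorem card_level_eq (U : Submodule F V) (hU : ∀ u ∈ U, Q u = 0) (c : F) :
    Nat.card {w : V // Q w = c ∧ ∃ u ∈ U, polar Q w u ≠ 0} =
      Nat.card {w : V // Q w = 0 ∧ ∃ u ∈ U, polar Q w u ≠ 0} := by
  apply Nat.card_congr
  refine
    { toFun := fun w => ⟨shift Q U c w.1, by
        rw [Q_shift Q U hU c w.1 w.2.2, w.2.1, sub_self], exists_shift Q U hU c w.1 w.2.2⟩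
      invFun := fun w => ⟨shift Q U (-c) w.1, by
        rw [Q_shift Q U hU (-c) w.1 w.2.2, w.2.1, zero_sub, neg_neg],
        exists_shift Q U hU (-c) w.1 w.2.2⟩
      left_inv := fun w => Subtype.ext (shift_shift Q U hU c w.1)
      right_inv := fun w => Subtype.ext (by
        have := shift_shift Q U hU (-c) w.1
        rwa [neg_neg] at this) }

end level

section count

variable {F V : Type*} [Field F] [Fintype F] [AddCommGroup V] [Module F V]
  [FiniteDimensional F V]
variable (Q : QuadraticForm F V)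

theorem card_off_all (U : Submodule F V) :
    ∑ c : F, Nat.card {w : V // Q w = c ∧ ∃ u ∈ U, polar Q w u ≠ 0} =
      Nat.card {w : V // ∃ u ∈ U, polar Q w u ≠ 0} := by
  classical
  have : Finite V := Module.finite_of_finite F
  let f : {w : V // ∃ u ∈ U, polar Q w u ≠ 0} → F := fun w => Q w.1
  rw [Nat.card_congr (Equiv.sigmaFiberEquiv f).symm, Nat.card_sigma]
  apply Finset.sum_congr rfl
  intro c _
  apply Nat.card_congr
  exact
    { toFun := fun w => ⟨⟨w.1, w.2.2⟩, w.2.1⟩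
      invFun := fun w => ⟨w.1.1, w.2, w.1.2⟩
      left_inv := fun w => rfl
      right_inv := fun w => rfl }

theorem card_perp (hQ : (polarBilin Q).Nondegenerate) (U : Submodule F V) :
    Nat.card {w : V // ¬ ∃ u ∈ U, polar Q w u ≠ 0} =
      Fintype.card F ^ (finrank F V - finrank F U) := by
  have : Finite V := Module.finite_of_finite F
  have h1 : Nat.card {w : V // ¬ ∃ u ∈ U, polar Q w u ≠ 0} =
      Nat.card ↥(LinearMap.BilinForm.orthogonal (polarBilin Q) U) := by
    apply Nat.card_congr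
    refine Equiv.subtypeEquivRight ?_
    intro w
    rw [LinearMap.BilinForm.mem_orthogonal_iff]
    constructor
    · intro h u hu
      by_contra hne
      apply h
      refine ⟨u, hu, ?_⟩
      rw [polar_comm]
      exact hne
    · rintro h ⟨u, hu, hne⟩
      apply hne
      have := h u hu
      rw [polar_comm]
      exact this
  rw [h1, Module.natCard_eq_pow_finrank (K := F), Nat.card_eq_fintype_card]
  congr 1
  exact LinearMap.BilinForm.finrank_orthogonal hQ U

theorem card_off (hQ : (polarBilin Q).Nondegenerate) (U : Submodule F V)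
    (hU : ∀ u ∈ U, Q u = 0) :
    Fintype.card F * Nat.card {w : V // Q w = 0 ∧ ∃ u ∈ U, polar Q w u ≠ 0} +
      Fintype.card F ^ (finrank F V - finrank F U) = Fintype.card F ^ finrank F V := by
  classical
  have : Finite V := Module.finite_of_finite F
  have h1 := card_off_all Q U
  rw [Finset.sum_congr rfl (fun c _ => card_level_eq Q U hU c), Finset.sum_const, smul_eq_mul,
    Finset.card_univ] at h1
  rw [h1, ← card_perp Q hQ U]
  have h2 : Nat.card V = Fintype.card F ^ finrank F V := by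
    rw [Module.natCard_eq_pow_finrank (K := F), Nat.card_eq_fintype_card]
  rw [← h2, Nat.card_congr (Equiv.sumCompl (fun w : V => ∃ u ∈ U, polar Q w u ≠ 0)).symm,
    Nat.card_sum]

/-- linearly independent families of pairwise orthogonal singular vectors -/
abbrev TSFrame (k : ℕ) : Type _ :=
  {s : Fin k → V // LinearIndependent F s ∧ (∀ a, Q (s a) = 0) ∧
    ∀ a b, polar Q (s a) (s b) = 0}

omit [Fintype F] [FiniteDimensional F V] in
theorem span_ts {k : ℕ} (s : TSFrame Q k) : ∀ u ∈ span F (Set.range s.1), Q u = 0 := by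
  have hti := PSpD.span_ti (polarBilin Q) s.1 s.2.2.2
  intro u hu
  induction hu using Submodule.span_induction with
  | mem x hx =>
    obtain ⟨a, rfl⟩ := hx
    exact s.2.2.1 a
  | zero => exact map_zero Q
  | add x y hx hy hx0 hy0 =>
    have h := hti x hx y hy
    have h2 : Q (x + y) = Q x + Q y + polar Q x y := by unfold polar; ring
    rw [h2, hx0, hy0]
    show 0 + 0 + polarBilin Q x y = 0
    rw [h, add_zero, add_zero]
  | smul c x hx hx0 => rw [QuadraticMap.map_smul, hx0, smul_zero]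

omit [Fintype F] [FiniteDimensional F V] in
theorem perp_span_iff {k : ℕ} (s : Fin k → V) (w : V) :
    (∀ a, polar Q (s a) w = 0) ↔ ¬ ∃ u ∈ span F (Set.range s), polar Q w u ≠ 0 := by
  constructor
  · rintro h ⟨u, hu, hne⟩
    apply hne
    obtain ⟨c, rfl⟩ := (mem_span_range_iff_exists_fun F).mp hu
    show polarBilin Q w _ = 0
    simp only [map_sum, map_smul]
    apply Finset.sum_eq_zero
    intro a _
    show c a • polar Q w (s a) = 0
    rw [polar_comm, h a, smul_zero]
  · intro h a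
    by_contra hne
    apply h
    refine ⟨s a, subset_span ⟨a, rfl⟩, ?_⟩
    rw [polar_comm]
    exact hne

/-- the fibres of the restriction map on frames -/
noncomputable def tsFrameEquiv (k : ℕ) :
    TSFrame Q (k + 1) ≃
      Σ s : TSFrame Q k, {w : V // Q w = 0 ∧ (∀ a, polar Q (s.1 a) w = 0) ∧
        w ∉ span F (Set.range s.1)} where
  toFun s := ⟨⟨Fin.init s.1, (linearIndependent_finSucc'.mp s.2.1).1,
      fun a => s.2.2.1 a.castSucc, fun a b => s.2.2.2 a.castSucc b.castSucc⟩,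
    ⟨s.1 (Fin.last k), s.2.2.1 (Fin.last k), fun a => s.2.2.2 a.castSucc (Fin.last k),
      (linearIndependent_finSucc'.mp s.2.1).2⟩⟩
  invFun s := ⟨Fin.snoc s.1.1 s.2.1, linearIndependent_finSnoc.mpr ⟨s.1.2.1, s.2.2.2.2⟩, by
    intro a
    induction a using Fin.lastCases with
    | last => rw [Fin.snoc_last]; exact s.2.2.1
    | cast a => rw [Fin.snoc_castSucc]; exact s.1.2.2.1 a, by
    intro a b
    induction a using Fin.lastCases with
    | last =>
      induction b using Fin.lastCases with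
      | last =>
        rw [Fin.snoc_last, polar_self, s.2.2.1, smul_zero]
      | cast b =>
        rw [Fin.snoc_last, Fin.snoc_castSucc, polar_comm, s.2.2.2.1 b]
    | cast a =>
      induction b using Fin.lastCases with
      | last => rw [Fin.snoc_last, Fin.snoc_castSucc]; exact s.2.2.2.1 a
      | cast b => rw [Fin.snoc_castSucc, Fin.snoc_castSucc]; exact s.1.2.2.2 a b⟩
  left_inv s := by
    apply Subtype.ext
    exact Fin.snoc_init_self s.1
  right_inv := fun ⟨s, w⟩ => by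
    have h1 : Fin.init (Fin.snoc s.1 w.1 : Fin (k + 1) → V) = s.1 := Fin.init_snoc _ _
    refine Sigma.ext (Subtype.ext h1) ?_
    apply (Subtype.heq_iff_coe_eq ?_).mpr
    · show (Fin.snoc s.1 w.1 : Fin (k + 1) → V) (Fin.last k) = w.1
      exact Fin.snoc_last _ _
    · intro x
      show (Q x = 0 ∧ (∀ a, polar Q (Fin.init (Fin.snoc s.1 w.1 : Fin (k + 1) → V) a) x = 0) ∧
        x ∉ span F (Set.range (Fin.init (Fin.snoc s.1 w.1 : Fin (k + 1) → V)))) ↔ _
      rw [h1]

theorem card_split (k : ℕ) (s : TSFrame Q k) :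
    Nat.card {w : V // Q w = 0} =
      Nat.card {w : V // Q w = 0 ∧ ∃ u ∈ span F (Set.range s.1), polar Q w u ≠ 0} +
      (Nat.card {w : V // Q w = 0 ∧ (∀ a, polar Q (s.1 a) w = 0) ∧
        w ∉ span F (Set.range s.1)} + Fintype.card F ^ k) := by
  classical
  have : Finite V := Module.finite_of_finite F
  obtain ⟨U, hU⟩ : ∃ U : Submodule F V, U = span F (Set.range s.1) := ⟨_, rfl⟩
  have hUdim : finrank F U = k := by
    rw [hU, finrank_span_eq_card s.2.1, Fintype.card_fin]
  have hts : ∀ u ∈ U, Q u = 0 := by rw [hU]; exact span_ts Q s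
  rw [← hU]
  have hA : Nat.card {w : V // Q w = 0 ∧ ∃ u ∈ U, polar Q w u ≠ 0} =
      Set.ncard {w : V | Q w = 0 ∧ ∃ u ∈ U, polar Q w u ≠ 0} := by
    rw [← Nat.card_coe_set_eq]; rfl
  have hB : Nat.card {w : V // Q w = 0 ∧ (∀ a, polar Q (s.1 a) w = 0) ∧ w ∉ U} =
      Set.ncard {w : V | Q w = 0 ∧ (∀ a, polar Q (s.1 a) w = 0) ∧ w ∉ U} := by
    rw [← Nat.card_coe_set_eq]; rfl
  have hZ : Nat.card {w : V // Q w = 0} = Set.ncard {w : V | Q w = 0} := by
    rw [← Nat.card_coe_set_eq]; rfl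
  have hC : Fintype.card F ^ k = Set.ncard (U : Set V) := by
    rw [← Nat.card_coe_set_eq]
    show _ = Nat.card ↥U
    rw [Module.natCard_eq_pow_finrank (K := F), hUdim, Nat.card_eq_fintype_card]
  rw [hA, hB, hZ, hC]
  have hperp : ∀ w, (∀ a, polar Q (s.1 a) w = 0) ↔ ¬ ∃ u ∈ U, polar Q w u ≠ 0 := by
    intro w
    rw [hU]
    exact perp_span_iff Q s.1 w
  have hd1 : Disjoint {w : V | Q w = 0 ∧ (∀ a, polar Q (s.1 a) w = 0) ∧ w ∉ U} (U : Set V) := by
    rw [Set.disjoint_left]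
    intro w hw hwU
    exact hw.2.2 hwU
  have hd2 : Disjoint {w : V | Q w = 0 ∧ ∃ u ∈ U, polar Q w u ≠ 0}
      ({w : V | Q w = 0 ∧ (∀ a, polar Q (s.1 a) w = 0) ∧ w ∉ U} ∪ (U : Set V)) := by
    rw [Set.disjoint_left]
    rintro w hw (hw2 | hw2)
    · exact (hperp w).mp hw2.2.1 hw.2
    · obtain ⟨u, hu, hne⟩ := hw.2
      exact hne (polar_of_ts Q U hts _ _ hw2 hu)
  rw [← Set.ncard_union_eq hd1 (Set.toFinite _) (Set.toFinite _),
    ← Set.ncard_union_eq hd2 (Set.toFinite _) (Set.toFinite _)]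
  congr 1
  ext w
  simp only [Set.mem_ofPred_eq, Set.mem_union, SetLike.mem_coe]
  constructor
  · intro h0
    by_cases hP : ∃ u ∈ U, polar Q w u ≠ 0
    · exact Or.inl ⟨h0, hP⟩
    · by_cases hwU : w ∈ U
      · exact Or.inr (Or.inr hwU)
      · exact Or.inr (Or.inl ⟨h0, (hperp w).mpr hP, hwU⟩)
  · rintro (h | h | h)
    · exact h.1
    · exact h.1
    · exact hts w h

theorem fiber_arith (q ε : ℤ) (hε : ε = 1 ∨ ε = -1) (k e : ℕ) :
    q ^ (2 * (k + 1 + e)) + ε * q ^ (k + 1 + e) * (q * 1 - 1) -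
        (q ^ (2 * (k + 1 + e)) - q ^ (2 * (k + 1 + e) - k)) - q * q ^ k =
      q * (q ^ k * (q ^ (k + 1 + e - k) - ε) * (q ^ (k + 1 + e - k - 1) + ε)) := by
  have h1 : 2 * (k + 1 + e) - k = k + 2 + 2 * e := by omega
  have h2 : k + 1 + e - k = e + 1 := by omega
  have h3 : k + 1 + e - k - 1 = e := by omega
  rw [h1, h3, h2]
  rcases hε with rfl | rfl <;> ring

theorem card_fiber_ts (hQ : (polarBilin Q).Nondegenerate) (d : ℕ) (hn : finrank F V = 2 * d)
    (ε : ℤ) (hε : ε = 1 ∨ ε = -1) (hs : HasSign (⇑Q) d ε) (k : ℕ) (hk : k + 1 ≤ d)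
    (s : TSFrame Q k) :
    (Nat.card {w : V // Q w = 0 ∧ (∀ a, polar Q (s.1 a) w = 0) ∧
        w ∉ span F (Set.range s.1)} : ℤ) =
      (Fintype.card F : ℤ) ^ k * ((Fintype.card F : ℤ) ^ (d - k) - ε) *
        ((Fintype.card F : ℤ) ^ (d - k - 1) + ε) := by
  have h1 := card_split Q k s
  have hUdim : finrank F (span F (Set.range s.1)) = k := by
    rw [finrank_span_eq_card s.2.1, Fintype.card_fin]
  have h2 := card_off Q hQ (span F (Set.range s.1)) (span_ts Q s)
  rw [hUdim, hn] at h2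
  have h3 := hs 0
  unfold cnt at h3
  rw [if_pos rfl] at h3
  have hq0 : (Fintype.card F : ℤ) ≠ 0 := by
    have := Fintype.card_pos (α := F)
    positivity
  apply mul_left_cancel₀ hq0
  obtain ⟨e, rfl⟩ : ∃ e, d = k + 1 + e := ⟨d - (k + 1), by omega⟩
  rw [← fiber_arith _ ε hε k e, ← h3]
  have h1' : (Nat.card {w : V // Q w = 0} : ℤ) =
      (Nat.card {w : V // Q w = 0 ∧ ∃ u ∈ span F (Set.range s.1), polar Q w u ≠ 0} : ℤ) +
      ((Nat.card {w : V // Q w = 0 ∧ (∀ a, polar Q (s.1 a) w = 0) ∧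
        w ∉ span F (Set.range s.1)} : ℤ) + (Fintype.card F : ℤ) ^ k) := by
    exact_mod_cast h1
  have h2' : (Fintype.card F : ℤ) *
      (Nat.card {w : V // Q w = 0 ∧ ∃ u ∈ span F (Set.range s.1), polar Q w u ≠ 0} : ℤ) +
      (Fintype.card F : ℤ) ^ (2 * (k + 1 + e) - k) = (Fintype.card F : ℤ) ^ (2 * (k + 1 + e)) := by
    exact_mod_cast h2
  rw [h1']
  linear_combination (-1 : ℤ) * h2'

theorem card_tsFrame (hQ : (polarBilin Q).Nondegenerate) (d : ℕ) (hn : finrank F V = 2 * d)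
    (ε : ℤ) (hε : ε = 1 ∨ ε = -1) (hs : HasSign (⇑Q) d ε) (k : ℕ) (hk : k ≤ d) :
    (Nat.card (TSFrame Q k) : ℤ) =
      ∏ j ∈ Finset.range k, ((Fintype.card F : ℤ) ^ j * ((Fintype.card F : ℤ) ^ (d - j) - ε) *
        ((Fintype.card F : ℤ) ^ (d - j - 1) + ε)) := by
  classical
  have : Finite V := Module.finite_of_finite F
  induction k with
  | zero =>
    rw [Finset.range_zero, Finset.prod_empty]
    have : Unique (TSFrame Q (V := V) 0) :=
      { default := ⟨Fin.elim0, linearIndependent_empty_type, fun a => a.elim0,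
          fun a => a.elim0⟩
        uniq := fun s => Subtype.ext (funext fun a => a.elim0) }
    rw [Nat.card_unique, Nat.cast_one]
  | succ k ih =>
    have : Fintype (TSFrame Q (V := V) k) := Fintype.ofFinite _
    rw [Nat.card_congr (tsFrameEquiv Q k), Nat.card_sigma, Nat.cast_sum,
      Finset.sum_congr rfl (fun s _ => card_fiber_ts Q hQ d hn ε hε hs k hk s), Finset.sum_const,
      nsmul_eq_mul, Finset.card_univ, ← Nat.card_eq_fintype_card, ih (by omega),
      Finset.prod_range_succ]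

/-- `N_ts(m) * ∏_{j<m} (q^m - q^j) = #frames` -/
theorem card_ts_mul_frames (m : ℕ) :
    Nat.card {W : Submodule F V // finrank F W = m ∧ ∀ u ∈ W, Q u = 0} *
        ∏ j : Fin m, (Fintype.card F ^ m - Fintype.card F ^ (j : ℕ)) =
      Nat.card (TSFrame Q m) := by
  classical
  have : Finite V := Module.finite_of_finite F
  let φ : TSFrame Q m → {W : Submodule F V // finrank F W = m ∧ ∀ u ∈ W, Q u = 0} :=
    fun s => ⟨Submodule.span F (Set.range s.1), by
      rw [finrank_span_eq_card s.2.1, Fintype.card_fin], span_ts Q s⟩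
  have : Finite {W : Submodule F V // finrank F W = m ∧ ∀ u ∈ W, Q u = 0} := by
    have : Finite (Submodule F V) := Finite.of_injective (fun W => (W : Set V)) SetLike.coe_injective
    infer_instance
  have : Fintype {W : Submodule F V // finrank F W = m ∧ ∀ u ∈ W, Q u = 0} :=
    Fintype.ofFinite _
  have : Fintype (TSFrame Q (V := V) m) := Fintype.ofFinite _
  rw [Nat.card_congr (Equiv.sigmaFiberEquiv φ).symm, Nat.card_sigma]
  have h2 : ∀ W : {W : Submodule F V // finrank F W = m ∧ ∀ u ∈ W, Q u = 0},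
      Nat.card {s : TSFrame Q m // φ s = W} =
        ∏ j : Fin m, (Fintype.card F ^ m - Fintype.card F ^ (j : ℕ)) := by
    intro W
    rw [← card_bases m W.1 W.2.1, ← Nat.card_congr (PSub.fiberEquiv m W.1)]
    apply Nat.card_congr
    refine
      { toFun := fun s => ⟨⟨s.1.1, s.1.2.1⟩, congrArg Subtype.val s.2⟩
        invFun := fun s => ⟨⟨s.1.1, s.1.2, fun a => ?_, fun a b => ?_⟩, Subtype.ext s.2⟩
        left_inv := fun s => rfl
        right_inv := fun s => rfl }
    · have hsW : span F (Set.range s.1.1) ≤ W.1 := le_of_eq s.2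
      exact W.2.2 _ (hsW (subset_span ⟨a, rfl⟩))
    · have hsW : span F (Set.range s.1.1) ≤ W.1 := le_of_eq s.2
      have ha : s.1.1 a ∈ W.1 := hsW (subset_span ⟨a, rfl⟩)
      have hb : s.1.1 b ∈ W.1 := hsW (subset_span ⟨b, rfl⟩)
      exact polar_of_ts Q W.1 W.2.2 _ _ ha hb
  rw [Finset.sum_congr rfl (fun W _ => h2 W), Finset.sum_const, smul_eq_mul, Finset.card_univ,
    Nat.card_eq_fintype_card]

/-- the number of totally singular `m`-spaces divides `∏_{j<m} (q^(d-j) - ε)(q^(d-j-1) + ε)` -/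
theorem card_ts_dvd (hQ : (polarBilin Q).Nondegenerate) (d : ℕ) (hn : finrank F V = 2 * d)
    (ε : ℤ) (hε : ε = 1 ∨ ε = -1) (hs : HasSign (⇑Q) d ε) (m : ℕ) (hm : m ≤ d) :
    (Nat.card {W : Submodule F V // finrank F W = m ∧ ∀ u ∈ W, Q u = 0} : ℤ) ∣
      ∏ j ∈ Finset.range m, (((Fintype.card F : ℤ) ^ (d - j) - ε) *
        ((Fintype.card F : ℤ) ^ (d - j - 1) + ε)) := by
  have h1 := card_ts_mul_frames Q m
  have h2 := card_tsFrame Q hQ d hn ε hε hs m hm
  rw [← h1, prod_pow_sub_pow _ _ _ le_rfl] at h2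
  have h3 : ∏ j ∈ Finset.range m, ((Fintype.card F : ℤ) ^ j * ((Fintype.card F : ℤ) ^ (d - j) - ε) *
        ((Fintype.card F : ℤ) ^ (d - j - 1) + ε)) =
      (∏ j ∈ Finset.range m, (Fintype.card F : ℤ) ^ j) *
        ∏ j ∈ Finset.range m, (((Fintype.card F : ℤ) ^ (d - j) - ε) *
          ((Fintype.card F : ℤ) ^ (d - j - 1) + ε)) := by
    rw [← Finset.prod_mul_distrib]
    apply Finset.prod_congr rfl
    intro j _
    ring
  rw [h3] at h2
  push_cast at h2
  have hpos : (∏ j ∈ Finset.range m, (Fintype.card F : ℤ) ^ j) ≠ 0 := by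
    apply Finset.prod_ne_zero_iff.mpr
    intro j _
    have := Fintype.card_pos (α := F)
    positivity
  refine ⟨((∏ j ∈ Finset.range m, (Fintype.card F ^ (m - j) - 1) : ℕ) : ℤ), ?_⟩
  apply mul_left_cancel₀ hpos
  rw [← h2]
  push_cast
  ring

theorem char_dvd_card (p : ℕ) [hp : Fact p.Prime] [CharP F p] : p ∣ Fintype.card F := by
  obtain ⟨⟨f, hf0⟩, -, hf⟩ := FiniteField.card F p
  rw [hf]
  exact dvd_pow_self p (by positivity)

theorem not_dvd_card_ts (hQ : (polarBilin Q).Nondegenerate) (d : ℕ) (hn : finrank F V = 2 * d)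
    (ε : ℤ) (hε : ε = 1 ∨ ε = -1) (hs : HasSign (⇑Q) d ε) (p : ℕ) [hp : Fact p.Prime]
    [CharP F p] (m : ℕ) (hm : m + 1 ≤ d) :
    ¬ p ∣ Nat.card {W : Submodule F V // finrank F W = m ∧ ∀ u ∈ W, Q u = 0} := by
  intro h
  have h1 := card_ts_dvd Q hQ d hn ε hε hs m (by omega)
  have h2 : (p : ℤ) ∣ ∏ j ∈ Finset.range m, (((Fintype.card F : ℤ) ^ (d - j) - ε) *
        ((Fintype.card F : ℤ) ^ (d - j - 1) + ε)) :=
    (Int.natCast_dvd_natCast.mpr h).trans h1
  have hpZ : Prime (p : ℤ) := Nat.prime_iff_prime_int.mp hp.out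
  rw [Prime.dvd_finsetProd_iff hpZ] at h2
  obtain ⟨j, hj, hj2⟩ := h2
  have hj' : j < m := Finset.mem_range.mp hj
  have hpq : (p : ℤ) ∣ (Fintype.card F : ℤ) := Int.natCast_dvd_natCast.mpr (char_dvd_card p)
  have hne : ¬ (p : ℤ) ∣ ε := by
    intro h3
    have h4 : (p : ℤ) ∣ 1 := by
      rcases hε with rfl | rfl
      · exact h3
      · exact (dvd_neg.mp h3)
    have := Int.natCast_dvd_natCast.mp (by exact_mod_cast h4 : ((p : ℕ) : ℤ) ∣ ((1 : ℕ) : ℤ))
    exact hp.out.one_lt.ne' (Nat.dvd_one.mp this)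
  rcases hpZ.dvd_or_dvd hj2 with h3 | h3
  · have h4 : (p : ℤ) ∣ (Fintype.card F : ℤ) ^ (d - j) := dvd_pow hpq (by omega)
    exact hne ((dvd_sub_right h4).mp h3)
  · have h4 : (p : ℤ) ∣ (Fintype.card F : ℤ) ^ (d - j - 1) := dvd_pow hpq (by omega)
    exact hne ((dvd_add_right h4).mp h3)

end count

section order

theorem neg_one_pow_order {r : ℕ} [hr : Fact r.Prime] (hr2 : r ≠ 2) (x : ZMod r) (b : ℕ)
    (hx : x ^ b = -1) : Even (orderOf x) ∧ b % orderOf x = orderOf x / 2 := by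
  have hne : (-1 : ZMod r) ≠ 1 := by
    intro h
    have h2 : (2 : ZMod r) = 0 := by
      have : (1 : ZMod r) + 1 = 0 := by nth_rewrite 1 [← h]; ring
      rw [← this]; norm_num
    have h3 : ((2 : ℕ) : ZMod r) = 0 := by exact_mod_cast h2
    rw [ZMod.natCast_eq_zero_iff] at h3
    have := (Nat.prime_dvd_prime_iff_eq hr.out Nat.prime_two).mp h3
    exact hr2 this
  have h1 : x ^ (2 * b) = 1 := by rw [mul_comm, pow_mul, hx]; norm_num
  have h2 : orderOf x ∣ 2 * b := orderOf_dvd_of_pow_eq_one h1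
  have h3 : ¬ orderOf x ∣ b := by
    intro h
    have := orderOf_dvd_iff_pow_eq_one.mp h
    rw [hx] at this
    exact hne this
  have hb : b ≠ 0 := by
    rintro rfl
    exact h3 (dvd_zero _)
  have hpos : 0 < orderOf x := by
    apply orderOf_pos_iff.mpr
    exact isOfFinOrder_iff_pow_eq_one.mpr ⟨2 * b, by omega, h1⟩
  have hev : Even (orderOf x) := by
    by_contra hodd
    rw [Nat.not_even_iff_odd] at hodd
    have hc : Nat.Coprime (orderOf x) 2 := Nat.coprime_two_right.mpr hodd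
    exact h3 (hc.dvd_of_dvd_mul_left h2)
  refine ⟨hev, ?_⟩
  obtain ⟨h, hh⟩ := hev
  have hi2 : orderOf x = 2 * h := by omega
  rw [hi2] at h2 h3 ⊢
  have h4 : h ∣ b := (Nat.mul_dvd_mul_iff_left (by norm_num)).mp h2
  obtain ⟨c, rfl⟩ := h4
  have hc : ¬ 2 ∣ c := by
    intro hc
    apply h3
    obtain ⟨c', rfl⟩ := hc
    exact ⟨c', by ring⟩
  have h5 : h * c % (2 * h) = h * (c % 2) := by
    rw [mul_comm 2 h, Nat.mul_mod_mul_left]
  rw [h5]
  have : c % 2 = 1 := by omega
  rw [this, mul_one]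
  omega

variable {F V : Type*} [Field F] [Fintype F] [AddCommGroup V] [Module F V]
  [FiniteDimensional F V]
variable (Q : QuadraticForm F V)

theorem hws_of_dvd_card_ts (hQ : (polarBilin Q).Nondegenerate) (d : ℕ)
    (hn : finrank F V = 2 * d) (σ : ℕ) (hσ : σ ≤ 1) (hs : HasSign (⇑Q) d ((-1 : ℤ) ^ σ))
    (r : ℕ) [hr : Fact r.Prime] (hr2 : r ≠ 2) (m : ℕ) (hm : m + 1 ≤ d)
    (h : r ∣ Nat.card {W : Submodule F V // finrank F W = m ∧ ∀ u ∈ W, Q u = 0}) :
    HWs σ (orderOf ((Fintype.card F : ℕ) : ZMod r)) d m := by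
  have hε : ((-1 : ℤ) ^ σ) = 1 ∨ ((-1 : ℤ) ^ σ) = -1 := by
    rcases (by omega : σ = 0 ∨ σ = 1) with rfl | rfl
    · left; norm_num
    · right; norm_num
  have h1 := card_ts_dvd Q hQ d hn _ hε hs m (by omega)
  have h2 : (r : ℤ) ∣ ∏ j ∈ Finset.range m, (((Fintype.card F : ℤ) ^ (d - j) - (-1 : ℤ) ^ σ) *
        ((Fintype.card F : ℤ) ^ (d - j - 1) + (-1 : ℤ) ^ σ)) :=
    (Int.natCast_dvd_natCast.mpr h).trans h1
  have hrZ : Prime (r : ℤ) := Nat.prime_iff_prime_int.mp hr.out
  rw [Prime.dvd_finsetProd_iff hrZ] at h2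
  obtain ⟨j, hj, hj2⟩ := h2
  have hj' : j < m := Finset.mem_range.mp hj
  refine ⟨j, hj', ?_⟩
  have key1 : ∀ a : ℕ, (r : ℤ) ∣ (Fintype.card F : ℤ) ^ a - 1 →
      orderOf ((Fintype.card F : ℕ) : ZMod r) ∣ a := by
    intro a ha
    rw [← ZMod.intCast_zmod_eq_zero_iff_dvd] at ha
    push_cast at ha
    exact orderOf_dvd_of_pow_eq_one (sub_eq_zero.mp ha)
  have key2 : ∀ a : ℕ, (r : ℤ) ∣ (Fintype.card F : ℤ) ^ a + 1 →
      Even (orderOf ((Fintype.card F : ℕ) : ZMod r)) ∧
        a % orderOf ((Fintype.card F : ℕ) : ZMod r) =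
          orderOf ((Fintype.card F : ℕ) : ZMod r) / 2 := by
    intro a ha
    rw [← ZMod.intCast_zmod_eq_zero_iff_dvd] at ha
    push_cast at ha
    exact neg_one_pow_order hr2 _ a (eq_neg_of_add_eq_zero_left ha)
  rcases (by omega : σ = 0 ∨ σ = 1) with rfl | rfl
  · left
    refine ⟨rfl, ?_⟩
    rw [pow_zero] at hj2
    rcases hrZ.dvd_or_dvd hj2 with h3 | h3
    · exact Or.inl (key1 _ h3)
    · exact Or.inr (key2 _ h3)
  · right
    refine ⟨rfl, ?_⟩
    rw [pow_one] at hj2
    rcases hrZ.dvd_or_dvd hj2 with h3 | h3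
    · rw [sub_neg_eq_add] at h3
      exact Or.inl (key2 _ h3)
    · rw [← sub_eq_add_neg] at h3
      exact Or.inr (key1 _ h3)

end order

end Cfsg.Agent.Lib.Helper15.OTS
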