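import Mathlib
import Cfsg.Agent.Lib.Helper15.OTS8
import Cfsg.Agent.Lib.Helper6.OrtS12

/-!
# From elements of `Ω(Q)` with scalar `r`-th power to isometries of order `r` (`r` odd)
-/

set_option autoImplicit false
set_option linter.unusedSectionVars false

namespace Cfsg.Agent.Lib.Helper15.OTS

open Module Submodule QuadraticMap Cfsg.Agent.Lib.Helper15 Cfsg.Agent.Lib.Helper15.PSub
  Cfsg.Agent.Lib.Helper14.OrthEven Cfsg.Agent.Lib.Helper6.OrtS Cfsg.Agent.Lib.Helper6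

universe u

section bridge

variable {F : Type u} [Field F] [Fintype F] {ι : Type} [Fintype ι] [DecidableEq ι]
variable (Q : QuadraticForm F (ι → F))

/-- for odd `r`, the elements of `Ω(Q)` of order `r` modulo scalars can be replaced by isometries
of order `r` -/
theorem bridge_odd (hQ : (polarBilin Q).Nondegenerate) (hn2 : 2 ≤ Fintype.card ι)
    (h24 : Fintype.card F ≠ 2 ∨ Fintype.card ι ≠ 4) (r : ℕ) (hodd : Odd r)
    (P : Submodule F (ι → F) → Prop) :
    (∀ x : GL ι F, x ∈ Cfsg.Geo.omegaGL ⇑Q →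
      (∃ z : F, ((x ^ r : GL ι F) : Matrix ι ι F) = z • (1 : Matrix ι ι F)) →
      (∀ z : F, (x : Matrix ι ι F) ≠ z • (1 : Matrix ι ι F)) →
      ∃ W : Submodule F (ι → F), P W ∧ W.map (Matrix.toLin' (x : Matrix ι ι F)) ≤ W) ↔
    (∀ y : (ι → F) →ₗ[F] (ι → F), (∀ v, Q (y v) = Q v) → y ^ r = 1 → (∃ v, y v ≠ v) →
      ∃ W : Submodule F (ι → F), P W ∧ W.map y ≤ W) := by
  have hne' : Nonempty ι := by
    rw [← Fintype.card_pos_iff]
    omega
  have hr0 : 0 < r := by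
    obtain ⟨k, hk⟩ := hodd
    omega
  constructor
  · intro hall y hQy hy hmv
    obtain ⟨M, hMdef⟩ : ∃ M : Matrix ι ι F, M = LinearMap.toMatrix' y := ⟨_, rfl⟩
    have hMy : Matrix.toLin' M = y := by rw [hMdef, Matrix.toLin'_toMatrix']
    have hM2 : M ^ r = 1 := by
      apply Matrix.toLin'.injective
      rw [Matrix.toLin'_pow, hMy, hy, Matrix.toLin'_one]
      rfl
    have hM1 : ∀ v, Q (M.mulVec v) = Q v := by
      intro v
      rw [← Matrix.toLin'_apply, hMy]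
      exact hQy v
    have hMM : M * M ^ (r - 1) = 1 := by
      rw [← pow_succ', Nat.sub_add_cancel hr0, hM2]
    have hMM' : M ^ (r - 1) * M = 1 := by
      rw [← pow_succ, Nat.sub_add_cancel hr0, hM2]
    let x : GL ι F := ⟨M, M ^ (r - 1), hMM, hMM'⟩
    have hxv : (x : Matrix ι ι F) = M := rfl
    have hxr : x ^ r = 1 := by
      apply Units.ext
      rw [Units.val_pow_eq_pow_val, hxv, hM2]
      rfl
    have hxI : x ∈ Cfsg.isometryGroup F ⇑Q := (OmegaAut.mem_isometryGroup_iff Q x).mpr hM1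
    have hgΩ : (⟨x, hxI⟩ : ↥(Cfsg.isometryGroup F ⇑Q)) ∈ Cfsg.Omega F ⇑Q :=
      mem_Omega_of_pow_odd' Q hQ hn2 h24 ⟨x, hxI⟩ r hodd (Subtype.ext hxr)
    have hxΩ : x ∈ Cfsg.Geo.omegaGL ⇑Q := Subgroup.mem_map.mpr ⟨⟨x, hxI⟩, hgΩ, rfl⟩
    have hns : ∀ z : F, (x : Matrix ι ι F) ≠ z • (1 : Matrix ι ι F) := by
      intro z hz
      rw [hxv] at hz
      have hzr : z ^ r = 1 := by
        have h1 := hM2
        rw [hz, smul_pow, one_pow] at h1
        have h2 := congrFun (congrFun h1 hne'.some) hne'.some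
        simpa using h2
      have hz2 : z * z = 1 := by
        obtain ⟨v₀, hv₀⟩ := exists_Q_ne_zero Q hQ
        have h1 := hM1 v₀
        rw [hz, Matrix.smul_mulVec, Matrix.one_mulVec, QuadraticMap.map_smul, smul_eq_mul] at h1
        have h2 : (z * z - 1) * Q v₀ = 0 := by linear_combination h1
        rcases mul_eq_zero.mp h2 with h | h
        · linear_combination h
        · exact absurd h hv₀
      have hz1 : z = 1 := by
        obtain ⟨k, hk⟩ := hodd
        rw [hk, pow_succ, pow_mul, _root_.sq, hz2, one_pow, one_mul] at hzr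
        exact hzr
      rw [hz1, one_smul] at hz
      obtain ⟨v, hv⟩ := hmv
      apply hv
      rw [← hMy, hz, Matrix.toLin'_one]
      rfl
    obtain ⟨W, hWP, hWx⟩ := hall x hxΩ ⟨1, by rw [hxr, one_smul]; rfl⟩ hns
    rw [hxv, hMy] at hWx
    exact ⟨W, hWP, hWx⟩
  · intro hall x hxΩ hz hns
    obtain ⟨z, hz⟩ := hz
    obtain ⟨g, -, hgx⟩ := Subgroup.mem_map.mp hxΩ
    have hxI : ∀ v, Q ((x : Matrix ι ι F).mulVec v) = Q v := by
      rw [← hgx]
      exact (OmegaAut.mem_isometryGroup_iff Q g.1).mp g.2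
    have hz' : (x : Matrix ι ι F) ^ r = z • 1 := by
      rw [← hz, Units.val_pow_eq_pow_val]
    obtain ⟨hzz, hy, hQy⟩ := normalize Q hQ r hodd (x : Matrix ι ι F) hxI z hz'
    obtain ⟨y, hydef⟩ : ∃ y : (ι → F) →ₗ[F] (ι → F), y = z • Matrix.toLin' (x : Matrix ι ι F) :=
      ⟨_, rfl⟩
    rw [← hydef] at hy hQy
    have hmv : ∃ v, y v ≠ v := by
      by_contra hcon
      push Not at hcon
      apply hns z
      apply Matrix.toLin'.injective
      apply LinearMap.ext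
      intro v
      have h9 := hcon v
      rw [hydef, LinearMap.smul_apply] at h9
      rw [map_smul, Matrix.toLin'_one, LinearMap.smul_apply, LinearMap.id_apply]
      have h10 : z • (z • Matrix.toLin' (x : Matrix ι ι F) v) = z • v := by rw [h9]
      rw [smul_smul, hzz, one_smul] at h10
      exact h10
    obtain ⟨W, hWP, hWy⟩ := hall y hQy hy hmv
    refine ⟨W, hWP, ?_⟩
    rintro _ ⟨w, hw, rfl⟩
    have h1 : y w ∈ W := hWy ⟨w, hw, rfl⟩
    rw [hydef, LinearMap.smul_apply] at h1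
    have h2 := W.smul_mem z h1
    rw [smul_smul, hzz, one_smul] at h2
    exact h2

/-- **The criterion for odd `r`** -/
theorem odd_criterion (p : ℕ) [Fact p.Prime] [CharP F p] (r : ℕ) [hr : Fact r.Prime]
    (hrp : r ≠ p) (hr2 : r ≠ 2) (hQ : (polarBilin Q).Nondegenerate) (d : ℕ) (hd : 2 ≤ d)
    (hn : Fintype.card ι = 2 * d) (h24 : Fintype.card F ≠ 2 ∨ Fintype.card ι ≠ 4)
    (σ : ℕ) (hσ : σ ≤ 1) (hs : HasSign (⇑Q) d ((-1 : ℤ) ^ σ)) (m : ℕ) (hm1 : 1 ≤ m)
    (hmd : m < d)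
    (hdiv : r ∣ Nat.card {W : Submodule F (ι → F) // finrank F W = m ∧ ∀ u ∈ W, Q u = 0}) :
    (∀ x : GL ι F, x ∈ Cfsg.Geo.omegaGL ⇑Q →
      (∃ z : F, ((x ^ r : GL ι F) : Matrix ι ι F) = z • (1 : Matrix ι ι F)) →
      (∀ z : F, (x : Matrix ι ι F) ≠ z • (1 : Matrix ι ι F)) →
      ∃ W : Submodule F (ι → F), (finrank F W = m ∧ ∀ u ∈ W, Q u = 0) ∧
        W.map (Matrix.toLin' (x : Matrix ι ι F)) ≤ W) ↔
    CritTS σ (orderOf ((Fintype.card F : ℕ) : ZMod r)) r d m := by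
  have hodd : Odd r := hr.out.odd_of_ne_two hr2
  have hfr : finrank F (ι → F) = 2 * d := by rw [Module.finrank_fintype_fun_eq_card, hn]
  have hε : ((-1 : ℤ) ^ σ) = 1 ∨ ((-1 : ℤ) ^ σ) = -1 := by
    rcases (by omega : σ = 0 ∨ σ = 1) with rfl | rfl
    · left; norm_num
    · right; norm_num
  have hipos : 0 < orderOf ((Fintype.card F : ℕ) : ZMod r) := orderOf_pos_of_ne p r hrp
  have hidvd := PDec.ord_dvd_pred (F := F) p r hrp
  have hr3 : 3 ≤ r := by
    have := hr.out.two_le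
    omega
  have HW := hws_of_dvd_card_ts Q hQ d hfr σ hσ hs r hr2 m (by omega) hdiv
  rw [bridge_odd Q hQ (by omega) h24 r hodd
    (fun W => finrank F W = m ∧ ∀ u ∈ W, Q u = 0)]
  rw [← arith_iff σ _ r d m hσ hipos hidvd hr3 hm1 hmd HW]
  have h1 := lin_criterion Q p r hrp hr2 (nondegOn_top_of Q hQ) d (by omega) hfr _ hε
    (sgnOn_top_of_hasSign Q d hfr hs) m
  rw [← h1]
  constructor
  · intro h y hQy hy hmv
    obtain ⟨W, ⟨h1, h2⟩, h3⟩ := h y hQy hy hmv
    exact ⟨W, h1, h2, h3⟩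
  · intro h y hQy hy hmv
    obtain ⟨W, h1, h2, h3⟩ := h y hQy hy hmv
    exact ⟨W, ⟨h1, h2⟩, h3⟩

end bridge

end Cfsg.Agent.Lib.Helper15.OTS
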