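import Mathlib
import Cfsg.Agent.Lib.Helper15.OTS9
import Cfsg.Agent.Lib.Helper15.PSpK3
import Cfsg.Agent.Lib.Helper10.OrthTS5
import Cfsg.Agent.Lib.Helper6.OrtT3

/-!
# Isometries with scalar square and invariant totally singular subspaces (odd characteristic)
-/

set_option autoImplicit false
set_option linter.unusedSectionVars false

namespace Cfsg.Agent.Lib.Helper15.OTS

open Module Submodule QuadraticMap Cfsg.Agent.Lib.Helper15 Cfsg.Agent.Lib.Helper15.PSub
  Cfsg.Agent.Lib.Helper15.PSpI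
  Cfsg.Agent.Lib.Helper14.OrthEven Cfsg.Agent.Lib.Helper6.OrtS Cfsg.Agent.Lib.Helper6
  Cfsg.Agent.Lib.Helper10.OrthTS

universe u

section sqneg

variable {F : Type u} {V : Type*} [Field F] [AddCommGroup V] [Module F V] [FiniteDimensional F V]
variable (Q : QuadraticForm F V)

omit [FiniteDimensional F V] in
theorem Q_eq_zero_of_polar_self (h2 : (2 : F) ≠ 0) (u : V) (h : polar Q u u = 0) : Q u = 0 := by
  rw [polar_self, two_nsmul] at h
  have h3 : (2 : F) * Q u = 0 := by linear_combination h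
  rcases mul_eq_zero.mp h3 with h' | h'
  · exact absurd h' h2
  · exact h'

omit [FiniteDimensional F V] in
theorem ts_of_ti_polar (h2 : (2 : F) ≠ 0) (W : Submodule F V)
    (h : ∀ u ∈ W, ∀ v ∈ W, polarBilin Q u v = 0) : ∀ u ∈ W, Q u = 0 :=
  fun u hu => Q_eq_zero_of_polar_self Q h2 u (h u hu u hu)

omit [FiniteDimensional F V] in
theorem Q_eq_zero_of_eig (h2 : (2 : F) ≠ 0) (y : V →ₗ[F] V) (hQy : ∀ v, Q (y v) = Q v) (c : F)
    (hc : c * c = -1) (u : V) (hu : y u = c • u) : Q u = 0 := by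
  have h1 := hQy u
  rw [hu, QuadraticMap.map_smul, hc, smul_eq_mul] at h1
  have h3 : (2 : F) * Q u = 0 := by linear_combination -h1
  rcases mul_eq_zero.mp h3 with h' | h'
  · exact absurd h' h2
  · exact h'

/-- `y ^ 2 = -1`, `-1` a square: invariant totally singular subspaces of all dimensions up to `d` -/
theorem sqneg_split_fixes (h2 : (2 : F) ≠ 0) (y : V →ₗ[F] V) (hQy : ∀ v, Q (y v) = Q v)
    (hy : ∀ v, y (y v) = -v) (i : F) (hi : i * i = -1) (d : ℕ) (hn : finrank F V = 2 * d)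
    (m : ℕ) (hm : m ≤ d) :
    ∃ W : Submodule F V, finrank F W = m ∧ (∀ u ∈ W, Q u = 0) ∧ W.map y ≤ W := by
  have hsup : Module.End.eigenspace y i ⊔ Module.End.eigenspace y (-i) = ⊤ := by
    rw [eq_top_iff]
    intro v _
    have hv : v = (2 : F)⁻¹ • (v - i • y v) + (2 : F)⁻¹ • (v + i • y v) := by
      rw [← smul_add, show v - i • y v + (v + i • y v) = (2 : F) • v by rw [two_smul]; abel,
        smul_smul, inv_mul_cancel₀ h2, one_smul]
    rw [hv]
    apply add_mem
    · apply mem_sup_left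
      apply Submodule.smul_mem
      rw [Module.End.mem_eigenspace_iff, map_sub, map_smul, hy, smul_sub, smul_smul, hi]
      simp only [smul_neg, neg_smul, one_smul]
      abel
    · apply mem_sup_right
      apply Submodule.smul_mem
      rw [Module.End.mem_eigenspace_iff, map_add, map_smul, hy, smul_add, smul_smul,
        neg_mul, hi]
      simp only [smul_neg, neg_smul, one_smul, neg_neg]
      abel
  have hdim := Submodule.finrank_add_le_finrank_add_finrank (Module.End.eigenspace y i)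
    (Module.End.eigenspace y (-i))
  rw [hsup, finrank_top, hn] at hdim
  have key : ∀ c : F, c * c = -1 → m ≤ finrank F (Module.End.eigenspace y c) →
      ∃ W : Submodule F V, finrank F W = m ∧ (∀ u ∈ W, Q u = 0) ∧ W.map y ≤ W := by
    intro c hc hle
    obtain ⟨W, hWE, hWdim⟩ := exists_le_finrank_eq (Module.End.eigenspace y c) m hle
    refine ⟨W, hWdim, ?_, ?_⟩
    · intro u hu
      exact Q_eq_zero_of_eig Q h2 y hQy c hc u (Module.End.mem_eigenspace_iff.mp (hWE hu))
    · rintro _ ⟨w, hw, rfl⟩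
      rw [Module.End.mem_eigenspace_iff.mp (hWE hw)]
      exact W.smul_mem _ hw
  by_cases h1 : m ≤ finrank F (Module.End.eigenspace y i)
  · exact key i hi h1
  · exact key (-i) (by rw [neg_mul_neg, hi]) (by omega)

/-- `y ^ 2 = -1`, `-1` not a square: invariant totally singular subspaces of all even dimensions up
to `d` -/
theorem sqneg_even_fixes [Fintype F] (p : ℕ) [Fact p.Prime] [CharP F p] (h2 : (2 : F) ≠ 0)
    (hQ : (polarBilin Q).Nondegenerate) (y : V →ₗ[F] V) (hQy : ∀ v, Q (y v) = Q v)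
    (hy : ∀ v, y (y v) = -v) (hns : ∀ c : F, c * c ≠ -1) (d : ℕ) (hn : finrank F V = 2 * d)
    (j : ℕ) (hj : 2 * j ≤ d) :
    ∃ W : Submodule F V, finrank F W = 2 * j ∧ (∀ u ∈ W, Q u = 0) ∧ W.map y ≤ W := by
  obtain ⟨A, hA⟩ : ∃ A : V →ₗ[F] V →ₗ[F] F, A = (polarBilin Q) ∘ₗ y := ⟨_, rfl⟩
  have hAapp : ∀ u v, A u v = polarBilin Q (y u) v := by
    intro u v
    rw [hA]
    rfl
  have halt : ∀ x, A x x = 0 := by
    intro x
    rw [hAapp, pB_symm]
    exact polar_self_map Q y h2 hQy hy x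
  have hskew : ∀ u v, A u v = -A v u := by
    intro u v
    have h1 := halt (u + v)
    simp only [map_add, LinearMap.add_apply, halt] at h1
    linear_combination h1
  have hinj : Function.Injective y := by
    intro a b hab
    have := congrArg y hab
    rw [hy, hy] at this
    exact neg_injective this
  have hnd : ∀ x, (∀ z, A x z = 0) → x = 0 := by
    intro x hx
    have h1 : y x = 0 := hQ.1 (y x) (fun z => by rw [← hAapp]; exact hx z)
    exact hinj (by rw [h1, map_zero])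
  have hiso : ∀ u v, A (y u) (y v) = A u v := by
    intro u v
    rw [hAapp, hy, map_neg, LinearMap.neg_apply, pB_symm, ← hAapp, hskew u v]
  obtain ⟨W, hWdim, hWti, hWy⟩ := PSpK.ti_of_sq_neg_one_even (B := A) p halt hnd h2 d hn y hiso hy
    hns j hj
  refine ⟨W, hWdim, ?_, hWy⟩
  apply ts_of_ti_polar Q h2
  intro u hu v hv
  have h1 : y (-(y u)) = u := by rw [map_neg, hy, neg_neg]
  have h3 : -(y u) ∈ W := W.neg_mem (hWy ⟨u, hu, rfl⟩)
  rw [← h1, ← hAapp]
  exact hWti _ h3 v hv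

end sqneg

section invol

variable {F : Type u} {V : Type*} [Field F] [Fintype F] [AddCommGroup V] [Module F V]
  [FiniteDimensional F V]
variable (Q : QuadraticForm F V)

theorem wt_ge (θ : ℤ) (e : ℕ) : e - 1 ≤ wt θ e := by
  unfold wt
  split_ifs <;> omega

/-- the sign of a nondegenerate even-dimensional subspace, with the side condition for `-1` -/
theorem sgnOn_cases' {W : Submodule F V} (hW : NondegOn (polarBilin Q) W) (n : ℕ)
    (hn : finrank F W = 2 * n) :
    ∃ θ : ℤ, (θ = 1 ∨ θ = -1) ∧ SgnOn Q W θ ∧ (θ = -1 → 1 ≤ n) := by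
  rcases Nat.eq_zero_or_pos n with h0 | hpos
  · have hb : W = ⊥ := by
      apply Submodule.finrank_eq_zero.mp
      rw [hn, h0]
    subst hb
    exact ⟨1, Or.inl rfl, sgnOn_bot Q, fun h => by norm_num at h⟩
  · rcases sgnOn_cases Q hW n hn with h | h
    · exact ⟨1, Or.inl rfl, h, fun _ => hpos⟩
    · exact ⟨-1, Or.inr rfl, h, fun _ => hpos⟩

/-- an isometric involution with moved space of even dimension fixes totally singular subspaces -/
theorem invol_parts (h2 : (2 : F) ≠ 0) (hQ : NondegOn (polarBilin Q) ⊤) (X : V →ₗ[F] V)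
    (hQX : ∀ v, Q (X v) = Q v) (hX2 : X ^ 2 = 1) (d : ℕ) (hn : finrank F V = 2 * d) (ε : ℤ)
    (hsV : SgnOn Q ⊤ ε) (hev : Even (finrank F (movS X))) (m : ℕ) (hm : m + 1 ≤ d)
    (hcond : ε = -1 ∨ m + 2 ≤ d ∨ SgnOn Q (movS X) 1) :
    ∃ W : Submodule F V, finrank F W = m ∧ (∀ u ∈ W, Q u = 0) ∧ W.map X ≤ W := by
  have h20 : ((2 : ℕ) : F) ≠ 0 := by exact_mod_cast h2
  have hiso := iso_of_Q Q X hQX
  have hnd : ∀ x, (∀ y, polarBilin Q x y = 0) → x = 0 :=
    fun x hx => hQ x mem_top (fun v _ => hx v)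
  have hCn : NondegOn (polarBilin Q) (fixS X) := nondeg_fix (polarBilin Q) X hiso 2 h20 hX2 hnd
  have hMn : NondegOn (polarBilin Q) (movS X) := nondeg_mov (polarBilin Q) X hiso 2 h20 hX2 hnd
  have hdis := fixS_inf_movS X 2 h20 hX2
  have hsup := fixS_sup_movS X 2 h20 hX2
  have hdim := Submodule.finrank_sup_add_finrank_inf_eq (fixS X) (movS X)
  rw [hdis, hsup, finrank_bot, finrank_top, hn, add_zero] at hdim
  obtain ⟨b, hb⟩ := hev
  obtain ⟨a, ha⟩ : ∃ a, finrank F (fixS X) = 2 * a := ⟨d - b, by omega⟩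
  have hb' : finrank F (movS X) = 2 * b := by omega
  have hab : a + b = d := by omega
  obtain ⟨ε₁, hε₁, hs₁, ha1⟩ := sgnOn_cases' Q hCn a ha
  obtain ⟨ε₂, hε₂, hs₂, hb1⟩ := sgnOn_cases' Q hMn b hb'
  have ho : Orth (polarBilin Q) (fixS X) (movS X) :=
    fun u hu v hv => (orth_fix_mov (polarBilin Q) X hiso hu hv).1
  have hs12 := sgnOn_sup Q ho (disjoint_iff.mpr hdis) ⟨a, by rw [ha]; ring⟩
    ⟨b, by rw [hb']; ring⟩ hs₁ hs₂
  rw [hsup] at hs12
  have hε : ε = ε₁ * ε₂ := SgnOn.unique Q hsV hs12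
  have hle : m ≤ wt ε₁ a + wt ε₂ b := by
    rcases hcond with h | h | h
    · rw [h] at hε
      rcases hε₁ with rfl | rfl <;> rcases hε₂ with rfl | rfl
      · norm_num at hε
      · have := hb1 rfl
        unfold wt
        rw [if_pos rfl, if_neg (by norm_num)]
        omega
      · have := ha1 rfl
        unfold wt
        rw [if_pos rfl, if_neg (by norm_num)]
        omega
      · norm_num at hε
    · have h1 := wt_ge ε₁ a
      have h3 := wt_ge ε₂ b
      omega
    · have h3 : ε₂ = 1 := SgnOn.unique Q hs₂ h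
      subst h3
      have h1 := wt_ge ε₁ a
      unfold wt at h1 ⊢
      rw [if_pos rfl]
      split_ifs with h4
      · omega
      · have h5 : ε₁ = -1 := by
          rcases hε₁ with h | h
          · exact absurd h h4
          · exact h
        have := ha1 h5
        omega
  obtain ⟨Z₁, hZ₁C, hZ₁ts, hZ₁d⟩ := exists_ts_le Q _ hCn a ha ε₁ hε₁ hs₁ _ le_rfl
  obtain ⟨Z₂, hZ₂M, hZ₂ts, hZ₂d⟩ := exists_ts_le Q _ hMn b hb' ε₂ hε₂ hs₂ _ le_rfl
  obtain ⟨W, hWd, hWti, hWX⟩ := exists_invt_ti_of_parts h2 (polarBilin Q) X hiso hX2 _ _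
    ⟨Z₁, hZ₁C, fun u hu v hv => polar_of_ts Q Z₁ hZ₁ts u v hu hv, hZ₁d⟩
    ⟨Z₂, hZ₂M, fun u hu v hv => polar_of_ts Q Z₂ hZ₂ts u v hu hv, hZ₂d⟩ m hle
  refine ⟨W, hWd, ts_of_ti_polar Q h2 W hWti, ?_⟩
  rintro _ ⟨w, hw, rfl⟩
  exact hWX w hw

end invol

end Cfsg.Agent.Lib.Helper15.OTS
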