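import Mathlib
import Cfsg.Agent.Lib.Helper15.OTS10
import Cfsg.Agent.Lib.Helper21.OrtT9

/-!
# Elements of order two of `PΩ(Q)` and totally singular subspaces (odd characteristic)
-/

set_option autoImplicit false
set_option linter.unusedSectionVars false

namespace Cfsg.Agent.Lib.Helper15.OTS

open Module Submodule QuadraticMap Cfsg.Agent.Lib.Helper15 Cfsg.Agent.Lib.Helper15.PSub
  Cfsg.Agent.Lib.Helper15.PSpI
  Cfsg.Agent.Lib.Helper14.OrthEven Cfsg.Agent.Lib.Helper6.OrtS Cfsg.Agent.Lib.Helper6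
  Cfsg.Agent.Lib.Helper10.OrthTS

universe u

section aniso

variable {F : Type u} {V : Type*} [Field F] [Fintype F] [AddCommGroup V] [Module F V]
  [FiniteDimensional F V]
variable (Q : QuadraticForm F V)

/-- the product of two nonsquares of a finite field is a square -/
theorem isSquare_mul_of_not (a b : F) (ha : ¬ IsSquare a) (hb : ¬ IsSquare b) :
    IsSquare (a * b) := by
  classical
  have ha0 : a ≠ 0 := by
    rintro rfl
    exact ha ⟨0, by ring⟩
  have hb0 : b ≠ 0 := by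
    rintro rfl
    exact hb ⟨0, by ring⟩
  rw [← quadraticChar_one_iff_isSquare (mul_ne_zero ha0 hb0), map_mul,
    quadraticChar_neg_one_iff_not_isSquare.mpr ha, quadraticChar_neg_one_iff_not_isSquare.mpr hb]
  norm_num

/-- the involution `-1` on an anisotropic plane of a space of plus type fixes no totally singular
subspace of dimension `d - 1` -/
theorem aniso_plane_bound (h2 : (2 : F) ≠ 0) (hQ : NondegOn (polarBilin Q) ⊤) (d : ℕ)
    (hd : 2 ≤ d) (hn : finrank F V = 2 * d) (hsV : SgnOn Q ⊤ 1) (u v : V) (hu : Q u ≠ 0)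
    (hv : Q v ≠ 0) (huv : polar Q u v = 0)
    (hani : ∀ α β : F, Q (α • u + β • v) = 0 → α = 0 ∧ β = 0) (X : V →ₗ[F] V)
    (hX : ∀ x, X x = x - ((Q u)⁻¹ * polar Q u x) • u - ((Q v)⁻¹ * polar Q v x) • v)
    (W : Submodule F V) (hWts : ∀ w ∈ W, Q w = 0) (hWX : W.map X ≤ W) :
    finrank F W + 2 ≤ d := by
  have hS := pB_symm Q
  obtain ⟨P, hP⟩ : ∃ P : Submodule F V, P = span F {u, v} := ⟨_, rfl⟩
  have hPn : NondegOn (polarBilin Q) P := by
    rw [hP]
    exact Cfsg.Agent.Lib.Helper21.OrtT.oplane_nd h2 hu hv huv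
  have hPd : finrank F P = 2 := by
    rw [hP]
    exact Cfsg.Agent.Lib.Helper21.OrtT.oplane_finrank h2 hu hv huv
  have hPs : SgnOn Q P (-1) := by
    rcases sgnOn_cases Q hPn 1 (by rw [hPd]) with h | h
    · exfalso
      obtain ⟨x, hxP, hx0, hQx⟩ := (sgnOn_plane_iff Q P hPn hPd).mp h
      rw [hP] at hxP
      obtain ⟨α, β, rfl⟩ := Submodule.mem_span_pair.mp hxP
      obtain ⟨hα, hβ⟩ := hani α β hQx
      apply hx0
      rw [hα, hβ, zero_smul, zero_smul, add_zero]
    · exact h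
  have hCn := nondegOn_perpIn' hS (le_top : P ≤ ⊤) hPn hQ
  have hCd := finrank_perpIn' hS (le_top : P ≤ ⊤) hPn
  rw [finrank_top, hn, hPd] at hCd
  have hCd' : finrank F (perpIn (polarBilin Q) ⊤ P) = 2 * (d - 1) := by omega
  have hCs : SgnOn Q (perpIn (polarBilin Q) ⊤ P) (-1) := by
    rcases sgnOn_cases Q hCn (d - 1) hCd' with h | h
    · exfalso
      have h1 := sgnOn_sup Q (orth_perpIn ⊤ P) (orth_disjoint hS (orth_perpIn ⊤ P) hPn)
        (by rw [hPd]; exact even_two) (by rw [hCd']; exact even_two_mul _) hPs h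
      rw [sup_perpIn' hS le_top hPn] at h1
      have := SgnOn.unique Q hsV h1
      norm_num at this
    · exact h
  have hWC : W ≤ perpIn (polarBilin Q) ⊤ P := by
    intro w hw
    have hXw : X w ∈ W := hWX ⟨w, hw, rfl⟩
    have hn' : ((Q u)⁻¹ * polar Q u w) • u + ((Q v)⁻¹ * polar Q v w) • v ∈ W := by
      have : ((Q u)⁻¹ * polar Q u w) • u + ((Q v)⁻¹ * polar Q v w) • v = w - X w := by
        rw [hX]; abel
      rw [this]
      exact W.sub_mem hw hXw
    obtain ⟨h3, h4⟩ := hani _ _ (hWts _ hn')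
    have h5 : polar Q u w = 0 := by
      rcases mul_eq_zero.mp h3 with h | h
      · exact absurd (inv_eq_zero.mp h) hu
      · exact h
    have h6 : polar Q v w = 0 := by
      rcases mul_eq_zero.mp h4 with h | h
      · exact absurd (inv_eq_zero.mp h) hv
      · exact h
    refine mem_perpIn.mpr ⟨mem_top, ?_⟩
    intro s hs
    rw [hP] at hs
    obtain ⟨α, β, rfl⟩ := Submodule.mem_span_pair.mp hs
    rw [map_add, map_smul, map_smul, LinearMap.add_apply, LinearMap.smul_apply,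
      LinearMap.smul_apply, pB_apply, pB_apply, h5, h6, smul_zero, smul_zero, add_zero]
  have hb := ts_finrank_le Q _ hCn (d - 1) hCd' (-1) hCs W hWC hWts
  unfold wt at hb
  rw [if_neg (by norm_num)] at hb
  omega

end aniso

section mat

variable {F : Type u} [Field F] [Fintype F] {ι : Type} [Fintype ι] [DecidableEq ι]
variable (Q : QuadraticForm F (ι → F))

/-- the moved space of an involution of `Ω(Q)` is of plus type if `-1` is a square -/
theorem sgnOn_mov_of_mem_Omega (h2 : (2 : F) ≠ 0) (hQ : (polarBilin Q).Nondegenerate)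
    (hcard : 2 ≤ Fintype.card ι) (g : ↥(Cfsg.isometryGroup F ⇑Q)) (hgΩ : g ∈ Cfsg.Omega F ⇑Q)
    (X : (ι → F) →ₗ[F] (ι → F)) (hX : X = Matrix.toLin' ((g.1 : GL ι F) : Matrix ι ι F))
    (hX2 : X ^ 2 = 1) :
    Even (finrank F (movS X)) ∧ (IsSquare (-1 : F) → SgnOn Q (movS X) 1) := by
  have h20 : ((2 : ℕ) : F) ≠ 0 := by exact_mod_cast h2
  obtain ⟨v, hvo, hvne, hiff⟩ := involution_struct Q h2 hQ hcard g X hX hX2
  obtain ⟨hev, hsq⟩ := hiff.mp hgΩ
  refine ⟨hev, ?_⟩
  rintro ⟨i, hi⟩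
  have hQX : ∀ u, Q (X u) = Q u := by
    intro u
    rw [hX, Matrix.toLin'_apply]
    exact g.2 u u
  have hiso := iso_of_Q Q X hQX
  have hMn : NondegOn (polarBilin Q) (movS X) :=
    nondeg_mov (polarBilin Q) X hiso 2 h20 hX2 hQ.1
  obtain ⟨k, hk⟩ := hev
  have hk' : finrank F (movS X) = 2 * k := by omega
  obtain ⟨s, hs⟩ := hsq
  have hprod : ∏ j, polarBilin Q (v j : ι → F) (v j : ι → F) =
      (2 : F) ^ (finrank F ↥(movS X)) * ∏ j, Q (v j : ι → F) := by
    have : ∀ j, polarBilin Q (v j : ι → F) (v j : ι → F) = 2 * Q (v j : ι → F) := by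
      intro j
      rw [pB_apply, polar_self, two_nsmul]
      ring
    rw [Finset.prod_congr rfl (fun j _ => this j), Finset.prod_mul_distrib, Finset.prod_const,
      Finset.card_univ, Fintype.card_fin]
  obtain ⟨Z, hZM, hZti, hZd⟩ := exists_ti_even_of_disc h2 (polarBilin Q) (pB_symm Q) (movS X) hMn
    k hk' v hvo (by
      rw [hprod, hs, hk']
      refine ⟨i ^ k * 2 ^ k * s, ?_⟩
      have : (-1 : F) ^ k = i ^ k * i ^ k := by rw [← mul_pow, ← hi]
      have h4 : (2 : F) ^ (2 * k) = 2 ^ k * 2 ^ k := by rw [two_mul, pow_add]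
      rw [this, h4]
      ring)
  exact (sgnOn_one_iff_plus Q (movS X) hMn k hk').mpr
    ⟨Z, hZM, ts_of_ti_polar Q h2 Z hZti, hZd⟩

/-- **Involutions** of `Ω(Q)` and totally singular subspaces -/
theorem invol_case_ts (h2 : (2 : F) ≠ 0) (hQ : (polarBilin Q).Nondegenerate) (d : ℕ)
    (hn : Fintype.card ι = 2 * d) (hd : 1 ≤ d) (ε : ℤ) (hsV : SgnOn Q ⊤ ε)
    (g : ↥(Cfsg.isometryGroup F ⇑Q)) (hgΩ : g ∈ Cfsg.Omega F ⇑Q)
    (hg : ((g.1 : GL ι F) : Matrix ι ι F) * ((g.1 : GL ι F) : Matrix ι ι F) = 1)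
    (m : ℕ) (hm : m + 1 ≤ d) (hcond : ε = -1 ∨ m + 2 ≤ d ∨ IsSquare (-1 : F)) :
    ∃ W : Submodule F (ι → F), (finrank F W = m ∧ ∀ u ∈ W, Q u = 0) ∧
      W.map (Matrix.toLin' ((g.1 : GL ι F) : Matrix ι ι F)) ≤ W := by
  obtain ⟨X, hX⟩ : ∃ X : (ι → F) →ₗ[F] (ι → F),
      X = Matrix.toLin' ((g.1 : GL ι F) : Matrix ι ι F) := ⟨_, rfl⟩
  have hX2 : X ^ 2 = 1 := by
    rw [hX, ← Matrix.toLin'_pow, pow_two, hg, Matrix.toLin'_one]
    rfl
  have hQX : ∀ u, Q (X u) = Q u := by
    intro u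
    rw [hX, Matrix.toLin'_apply]
    exact g.2 u u
  have hfr : finrank F (ι → F) = 2 * d := by rw [Module.finrank_fintype_fun_eq_card, hn]
  obtain ⟨hev, hsg⟩ := sgnOn_mov_of_mem_Omega Q h2 hQ (by omega) g hgΩ X hX hX2
  obtain ⟨W, hWd, hWts, hWX⟩ := invol_parts Q h2 (nondegOn_top_of Q hQ) X hQX hX2 d hfr ε hsV hev m
    hm (by
      rcases hcond with h | h | h
      · exact Or.inl h
      · exact Or.inr (Or.inl h)
      · exact Or.inr (Or.inr (hsg h)))
  rw [← hX]
  exact ⟨W, ⟨hWd, hWts⟩, hWX⟩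

/-- **A bad involution**: in a space of plus type, `-1` not a square, there is an involution of
`Ω(Q)` fixing no totally singular subspace of dimension `d - 1` -/
theorem exists_bad_invol (h2 : (2 : F) ≠ 0) (hQ : (polarBilin Q).Nondegenerate) (d : ℕ)
    (hn : Fintype.card ι = 2 * d) (hd : 2 ≤ d) (hsV : SgnOn Q ⊤ 1)
    (hns : ¬ IsSquare (-1 : F)) :
    ∃ g : ↥(Cfsg.isometryGroup F ⇑Q), g ∈ Cfsg.Omega F ⇑Q ∧
      ((g.1 : GL ι F) : Matrix ι ι F) * ((g.1 : GL ι F) : Matrix ι ι F) = 1 ∧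
      (∀ z : F, ((g.1 : GL ι F) : Matrix ι ι F) ≠ z • (1 : Matrix ι ι F)) ∧
      ∀ W : Submodule F (ι → F), (∀ w ∈ W, Q w = 0) →
        W.map (Matrix.toLin' ((g.1 : GL ι F) : Matrix ι ι F)) ≤ W → finrank F W + 2 ≤ d := by
  classical
  have hfr : finrank F (ι → F) = 2 * d := by rw [Module.finrank_fintype_fun_eq_card, hn]
  have hQt := nondegOn_top_of Q hQ
  obtain ⟨P, -, hPn, hPd, hPs⟩ := exists_sub Q ⊤ hQt (2 * d) (by rw [finrank_top, hfr])
    ⟨d, by ring⟩ 1 (Or.inl rfl) hsV 2 even_two (-1) (Or.inr rfl)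
    ⟨by omega, fun h => by omega, fun h => by omega⟩
  have hPani : ∀ x ∈ P, Q x = 0 → x = 0 := by
    intro x hx hQx
    by_contra hx0
    have h1 := (sgnOn_plane_iff Q P hPn hPd).mpr ⟨x, hx, hx0, hQx⟩
    have := SgnOn.unique Q hPs h1
    norm_num at this
  have hPne : P ≠ ⊥ := by
    rintro rfl
    rw [finrank_bot] at hPd
    omega
  obtain ⟨u, huP, hu0⟩ := Submodule.exists_mem_ne_zero_of_ne_bot hPne
  have hu : Q u ≠ 0 := fun h => hu0 (hPani u huP h)
  have hlt : span F {u} < P := by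
    apply lt_of_le_of_ne
    · rw [span_singleton_le_iff_mem]; exact huP
    · intro h
      rw [← h, finrank_span_singleton hu0] at hPd
      omega
  obtain ⟨w, hwP, hwu⟩ := SetLike.exists_of_lt hlt
  obtain ⟨c, hc⟩ : ∃ c : F, c = (2 * Q u)⁻¹ * polar Q u w := ⟨_, rfl⟩
  obtain ⟨v, hvdef⟩ : ∃ v, v = w - c • u := ⟨_, rfl⟩
  have hvP : v ∈ P := by rw [hvdef]; exact P.sub_mem hwP (P.smul_mem _ huP)
  have huv : polar Q u v = 0 := by
    rw [hvdef, polar_sub_right, polar_smul_right, polar_self, two_nsmul, hc, smul_eq_mul]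
    field_simp
    ring
  have hv0 : v ≠ 0 := by
    intro h
    apply hwu
    rw [hvdef, sub_eq_zero] at h
    rw [h]
    exact Submodule.smul_mem _ _ (Submodule.mem_span_singleton_self u)
  have hv : Q v ≠ 0 := fun h => hv0 (hPani v hvP h)
  have hani : ∀ α β : F, Q (α • u + β • v) = 0 → α = 0 ∧ β = 0 := by
    intro α β h
    have h1 := hPani _ (P.add_mem (P.smul_mem α huP) (P.smul_mem β hvP)) h
    exact Cfsg.Agent.Lib.Helper21.OrtT.oplane_indep h2 hu hv huv α β h1
  have hsq : IsSquare (Q u * Q v) := by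
    by_contra hnsq
    obtain ⟨s, hs⟩ := isSquare_mul_of_not _ _ hns hnsq
    have h1 : Q (s • u + Q u • v) = 0 := by
      rw [Cfsg.Agent.Lib.Helper21.OrtT.oplane_Q huv]
      linear_combination (-(Q u)) * hs
    exact hu (hani _ _ h1).2
  obtain ⟨g, hg⟩ := exists_of_list' Q [u, v] (by
    intro x hx
    simp only [List.mem_cons, List.not_mem_nil, or_false] at hx
    rcases hx with rfl | rfl
    · exact hu
    · exact hv)
  have hgΩ : g ∈ Cfsg.Omega F ⇑Q := by
    rw [mem_Omega_iff_list' Q h2 hQ (by omega) g [u, v] (by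
      intro x hx
      simp only [List.mem_cons, List.not_mem_nil, or_false] at hx
      rcases hx with rfl | rfl
      · exact hu
      · exact hv) hg]
    refine ⟨⟨1, rfl⟩, ?_⟩
    simp only [List.map_cons, List.map_nil, List.prod_cons, List.prod_nil, mul_one]
    exact hsq
  obtain ⟨X, hXdef⟩ : ∃ X : (ι → F) →ₗ[F] (ι → F),
      X = Matrix.toLin' ((g.1 : GL ι F) : Matrix ι ι F) := ⟨_, rfl⟩
  have hX : ∀ x, X x = x - ((Q u)⁻¹ * polar Q u x) • u - ((Q v)⁻¹ * polar Q v x) • v := by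
    intro x
    rw [hXdef, hg, Cfsg.Agent.Lib.Helper21.OrtT.toLin'_list]
    simp only [List.map_cons, List.map_nil, List.prod_cons, List.prod_nil, mul_one]
    rw [Module.End.mul_apply, Cfsg.Agent.Lib.Helper21.OrtT.rf_apply,
      Cfsg.Agent.Lib.Helper21.OrtT.rf_apply, polar_sub_right, polar_smul_right, huv, smul_zero,
      sub_zero]
    abel
  have hXu : X u = -u := by
    rw [hX, polar_self, polar_comm Q v u, huv, mul_zero, zero_smul, sub_zero, two_nsmul]
    have : (Q u)⁻¹ * (Q u + Q u) = 2 := by field_simp; ring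
    rw [this, two_smul]
    abel
  have hXv : X v = -v := by
    rw [hX, polar_self, huv, mul_zero, zero_smul, sub_zero, two_nsmul]
    have : (Q v)⁻¹ * (Q v + Q v) = 2 := by field_simp; ring
    rw [this, two_smul]
    abel
  have hXX : ∀ x, X (X x) = x := by
    intro x
    nth_rewrite 2 [hX]
    rw [map_sub, map_sub, map_smul, map_smul, hXu, hXv, hX]
    simp only [smul_neg]
    abel
  have hgg : ((g.1 : GL ι F) : Matrix ι ι F) * ((g.1 : GL ι F) : Matrix ι ι F) = 1 := by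
    apply Matrix.toLin'.injective
    rw [Matrix.toLin'_mul, ← hXdef, Matrix.toLin'_one]
    apply LinearMap.ext
    intro x
    exact hXX x
  refine ⟨g, hgΩ, hgg, ?_, ?_⟩
  · intro z hz
    have hXz : ∀ x, X x = z • x := by
      intro x
      rw [hXdef, hz, map_smul, Matrix.toLin'_one, LinearMap.smul_apply, LinearMap.id_apply]
    have hz1 : z = -1 := by
      have h1 := hXz u
      rw [hXu] at h1
      have h3 : (z + 1) • u = 0 := by rw [add_smul, one_smul, ← h1]; abel
      rcases smul_eq_zero.mp h3 with h | h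
      · linear_combination h
      · exact absurd h hu0
    have hall : ∀ x : ι → F, x ∈ P := by
      intro x
      have h1 := hXz x
      rw [hX, hz1, neg_one_smul] at h1
      have h3 : (2 : F) • x = ((Q u)⁻¹ * polar Q u x) • u + ((Q v)⁻¹ * polar Q v x) • v := by
        rw [two_smul]
        have : x + x = x - (-x) := by abel
        rw [this, ← h1]
        abel
      have h4 : x = (2 : F)⁻¹ • ((2 : F) • x) := by rw [smul_smul, inv_mul_cancel₀ h2, one_smul]
      rw [h4, h3]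
      exact P.smul_mem _ (P.add_mem (P.smul_mem _ huP) (P.smul_mem _ hvP))
    have hPtop : P = ⊤ := eq_top_iff.mpr (fun x _ => hall x)
    rw [hPtop, finrank_top, hfr] at hPd
    omega
  · intro W hWts hWX
    rw [← hXdef] at hWX
    exact aniso_plane_bound Q h2 hQt d hd hfr hsV u v hu hv huv hani X hX W hWts hWX

end mat

end Cfsg.Agent.Lib.Helper15.OTS
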