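import Mathlib
import Cfsg.Agent.Lib.Helper15.OTS11

/-!
# Elements of order two of `PΩ(Q)` and totally singular subspaces: the criterion
-/

set_option autoImplicit false
set_option linter.unusedSectionVars false

namespace Cfsg.Agent.Lib.Helper15.OTS

open Module Submodule QuadraticMap Cfsg.Agent.Lib.Helper15 Cfsg.Agent.Lib.Helper15.PSub
  Cfsg.Agent.Lib.Helper15.PSpI
  Cfsg.Agent.Lib.Helper14.OrthEven Cfsg.Agent.Lib.Helper6.OrtS Cfsg.Agent.Lib.Helper6
  Cfsg.Agent.Lib.Helper21.OrtT Cfsg.Agent.Lib.Helper21.OrtG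

universe u

section final

variable {F : Type u} [Field F] [Fintype F] {ι : Type} [Fintype ι] [DecidableEq ι]
variable (Q : QuadraticForm F (ι → F))

/-- **The case `r = 2`, odd characteristic** -/
theorem two_ts_iff (p : ℕ) [Fact p.Prime] [CharP F p] (h2 : (2 : F) ≠ 0)
    (hQ : (polarBilin Q).Nondegenerate) (d : ℕ) (hn : Fintype.card ι = 2 * d) (hd : 2 ≤ d)
    (ε : ℤ) (hε : ε = 1 ∨ ε = -1) (hsV : SgnOn Q ⊤ ε) (m : ℕ) (hm : m + 1 ≤ d) :
    (∀ x : GL ι F, x ∈ Cfsg.Geo.omegaGL ⇑Q →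
      (∃ z : F, ((x ^ 2 : GL ι F) : Matrix ι ι F) = z • (1 : Matrix ι ι F)) →
      (∀ z : F, (x : Matrix ι ι F) ≠ z • (1 : Matrix ι ι F)) →
      ∃ W : Submodule F (ι → F), (finrank F W = m ∧ ∀ u ∈ W, Q u = 0) ∧
        W.map (Matrix.toLin' (x : Matrix ι ι F)) ≤ W) ↔
    ((ε = -1 ∨ m + 2 ≤ d ∨ IsSquare (-1 : F)) ∧
      (IsSquare (-1 : F) ∨ Even m ∨ ¬ (ε = dl F ^ d ∧ (Even d ∨ IsSquare (2 : F))))) := by
  have hne : Nonempty ι := by
    rw [← Fintype.card_pos_iff, hn]
    omega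
  have hfr : finrank F (ι → F) = 2 * d := by rw [Module.finrank_fintype_fun_eq_card, hn]
  have hsV' : SignOn Q ⊤ ε := (signOn_iff_sgnOn ⊤ ε).mpr ⟨by
    rw [finrank_top, hfr]; exact ⟨d, by ring⟩, hsV⟩
  have h11 : (1 : Matrix ι ι F) ≠ -1 := by
    intro h
    have h' := congrFun (congrFun h hne.some) hne.some
    rw [Matrix.neg_apply, Matrix.one_apply_eq] at h'
    apply h2
    linear_combination h'
  constructor
  · intro hall
    constructor
    · by_contra hcon
      push Not at hcon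
      obtain ⟨hε1, hmd, hns⟩ := hcon
      have hε' : ε = 1 := by
        rcases hε with h | h
        · exact h
        · exact absurd h hε1
      rw [hε'] at hsV
      obtain ⟨g, hgΩ, hgg, hgns, hbound⟩ := exists_bad_invol Q h2 hQ d hn hd hsV hns
      have hxΩ : (g.1 : GL ι F) ∈ Cfsg.Geo.omegaGL ⇑Q := Subgroup.mem_map.mpr ⟨g, hgΩ, rfl⟩
      obtain ⟨W, ⟨hWd, hWts⟩, hWx⟩ := hall g.1 hxΩ ⟨1, by
        rw [Units.val_pow_eq_pow_val, pow_two, hgg, one_smul]⟩ hgns
      have := hbound W hWts hWx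
      omega
    · by_contra hcon
      push Not at hcon
      obtain ⟨hns, hmodd, hε', hsq⟩ := hcon
      rw [hε'] at hsV'
      obtain ⟨g, hg⟩ := exists_sqneg Q h2 hQ d hn (by omega) hsV'
      have hgΩ : g ∈ Cfsg.Omega F ⇑Q :=
        (sqneg_mem_Omega_iff Q h2 hQ d hn (by omega) g hg).mpr hsq
      have hxΩ : (g.1 : GL ι F) ∈ Cfsg.Geo.omegaGL ⇑Q := Subgroup.mem_map.mpr ⟨g, hgΩ, rfl⟩
      have hgI : ∀ v, Q (((g.1 : GL ι F) : Matrix ι ι F).mulVec v) = Q v :=
        (Cfsg.Agent.Lib.Helper6.OmegaAut.mem_isometryGroup_iff Q g.1).mp g.2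
      obtain ⟨W, ⟨hWd, hWts⟩, hWx⟩ := hall g.1 hxΩ ⟨-1, by
        rw [Units.val_pow_eq_pow_val, pow_two, hg, neg_smul, one_smul]⟩ (by
        intro z hz
        have hzz := scalar_sq Q hQ _ hgI z hz
        rw [hz, Matrix.smul_mul, Matrix.mul_smul, Matrix.mul_one, smul_smul, hzz, one_smul] at hg
        exact h11 hg)
      have hy : ∀ v, Matrix.toLin' ((g.1 : GL ι F) : Matrix ι ι F)
          (Matrix.toLin' ((g.1 : GL ι F) : Matrix ι ι F) v) = -v := by
        intro v
        rw [Matrix.toLin'_apply, Matrix.toLin'_apply, Matrix.mulVec_mulVec, hg, Matrix.neg_mulVec,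
          Matrix.one_mulVec]
      apply hns
      apply PSpK.isSquare_neg_one_of_odd _ hy W hWx
      rw [hWd]
      exact Nat.not_even_iff_odd.mp hmodd
  · rintro ⟨hc1, hc2⟩ x hxΩ hz hns
    obtain ⟨z, hz⟩ := hz
    obtain ⟨g, hgΩ, hgx⟩ := Subgroup.mem_map.mp hxΩ
    have hgx' : (g.1 : GL ι F) = x := hgx
    have hgI : ∀ v, Q (((g.1 : GL ι F) : Matrix ι ι F).mulVec v) = Q v :=
      (Cfsg.Agent.Lib.Helper6.OmegaAut.mem_isometryGroup_iff Q g.1).mp g.2
    have hz' : ((g.1 : GL ι F) : Matrix ι ι F) * ((g.1 : GL ι F) : Matrix ι ι F) = z • 1 := by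
      rw [hgx', ← hz, Units.val_pow_eq_pow_val, pow_two]
    have hzz : z * z = 1 := by
      apply scalar_sq Q hQ (((g.1 : GL ι F) : Matrix ι ι F) * ((g.1 : GL ι F) : Matrix ι ι F))
        _ z hz'
      intro v
      rw [← Matrix.mulVec_mulVec, hgI, hgI]
    have hz1 : z = 1 ∨ z = -1 := by
      have : (z - 1) * (z + 1) = 0 := by linear_combination hzz
      rcases mul_eq_zero.mp this with h | h
      · left; linear_combination h
      · right; linear_combination h
    rw [← hgx'] at hns ⊢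
    rcases hz1 with rfl | rfl
    · rw [one_smul] at hz'
      exact invol_case_ts Q h2 hQ d hn (by omega) ε hsV g hgΩ hz' m hm hc1
    · rw [neg_smul, one_smul] at hz'
      have hy : ∀ v, Matrix.toLin' ((g.1 : GL ι F) : Matrix ι ι F)
          (Matrix.toLin' ((g.1 : GL ι F) : Matrix ι ι F) v) = -v := by
        intro v
        rw [Matrix.toLin'_apply, Matrix.toLin'_apply, Matrix.mulVec_mulVec, hz',
          Matrix.neg_mulVec, Matrix.one_mulVec]
      by_cases hsqm : IsSquare (-1 : F)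
      · obtain ⟨i, hi⟩ := hsqm
        obtain ⟨W, hWd, hWts, hWx⟩ := sqneg_split_fixes Q h2 _ (iso_of_mem Q g) hy i hi.symm d hfr
          m (by omega)
        exact ⟨W, ⟨hWd, hWts⟩, hWx⟩
      · have hsq := (sqneg_mem_Omega_iff Q h2 hQ d hn (by omega) g hz').mp hgΩ
        have hε' : ε = dl F ^ d := by
          obtain ⟨w, hw, hs⟩ := sign_of_invariant h2 (iso_of_mem Q g) hy _ ⊤
            (fun _ _ => mem_top) (nd_top_of Q hQ) (by rw [finrank_top])
          have : w = d := by omega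
          subst this
          exact hsV'.unique hs
        have hmev : Even m := by
          rcases hc2 with h | h | h
          · exact absurd h hsqm
          · exact h
          · exact absurd ⟨hε', hsq⟩ h
        obtain ⟨j, hj⟩ := hmev
        have hns' : ∀ c : F, c * c ≠ -1 := fun c hc => hsqm ⟨c, hc.symm⟩
        obtain ⟨W, hWd, hWts, hWx⟩ := sqneg_even_fixes Q p h2 hQ _ (iso_of_mem Q g) hy hns' d hfr
          j (by omega)
        exact ⟨W, ⟨by rw [hWd, hj]; ring, hWts⟩, hWx⟩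

end final

end Cfsg.Agent.Lib.Helper15.OTS
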