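import Mathlib
import Cfsg.Agent.Lib.Helper15.OTS12

/-!
# Elements of prime order of `PΩ^±_{2d}(q)` and totally singular `m`-spaces: the criterion
-/

set_option autoImplicit false
set_option linter.unusedSectionVars false

namespace Cfsg.Agent.Lib.Helper15.OTS

open Module Submodule QuadraticMap Cfsg.Agent.Lib.Helper15 Cfsg.Agent.Lib.Helper15.PSub
  Cfsg.Agent.Lib.Helper15.PSpI Cfsg.Agent.Lib.Helper15.PSpJ
  Cfsg.Agent.Lib.Helper14.OrthEven Cfsg.Agent.Lib.Helper6.OrtS Cfsg.Agent.Lib.Helper6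
  Cfsg.Agent.Lib.Helper21.OrtT Cfsg.Agent.Lib.Helper21.OrtG

universe u

section conv

variable {F : Type u} [Field F] [Fintype F]

theorem two_ne_zero_of_char (p : ℕ) [hp : Fact p.Prime] [CharP F p] (hp2 : p ≠ 2) :
    (2 : F) ≠ 0 := by
  intro h
  have h2 : ((2 : ℕ) : F) = 0 := by exact_mod_cast h
  have hdvd : p ∣ 2 := (CharP.cast_eq_zero_iff F p 2).mp h2
  exact hp2 ((Nat.prime_dvd_prime_iff_eq hp.out Nat.prime_two).mp hdvd)

theorem odd_card_of_char (p : ℕ) [hp : Fact p.Prime] [CharP F p] (hp2 : p ≠ 2) :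
    Odd (Fintype.card F) := by
  obtain ⟨⟨f, hf0⟩, -, hf⟩ := FiniteField.card F p
  rw [hf]
  exact (hp.out.odd_of_ne_two hp2).pow

theorem neg_one_pow_eq_one_iff' (d : ℕ) : (1 : ℤ) = (-1) ^ d ↔ Even d := by
  rcases Nat.even_or_odd d with h | h
  · rw [h.neg_one_pow]; simp [h]
  · rw [h.neg_one_pow]
    constructor
    · intro h'; norm_num at h'
    · intro h'; exact absurd h (Nat.not_odd_iff_even.mpr h')

theorem neg_one_pow_eq_neg_one_iff' (d : ℕ) : (-1 : ℤ) = (-1) ^ d ↔ Odd d := by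
  rcases Nat.even_or_odd d with h | h
  · rw [h.neg_one_pow]
    constructor
    · intro h'; norm_num at h'
    · intro h'; exact absurd h (Nat.not_even_iff_odd.mpr h')
  · rw [h.neg_one_pow]; simp [h]

/-- the condition for `r = 2`, plus type -/
theorem two_cond_plus (hodd : Odd (Fintype.card F)) (d m : ℕ) :
    (((1 : ℤ) = -1 ∨ m + 2 ≤ d ∨ IsSquare (-1 : F)) ∧
      (IsSquare (-1 : F) ∨ Even m ∨ ¬ ((1 : ℤ) = dl F ^ d ∧ (Even d ∨ IsSquare (2 : F))))) ↔
    (Fintype.card F % 4 = 1 ∨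
      (Fintype.card F % 4 = 3 ∧ m + 2 ≤ d ∧ (Even m ∨ (2 * d) % 4 = 2))) := by
  obtain ⟨k, hk⟩ := hodd
  have hd2 : (2 * d) % 4 = 2 ↔ ¬ Even d := by
    rw [Nat.even_iff]
    omega
  by_cases hsq : IsSquare (-1 : F)
  · have h1 := FiniteField.isSquare_neg_one_iff.mp hsq
    have h3 : Fintype.card F % 4 = 1 := by omega
    simp only [hsq, h3, true_or, or_true, and_self]
  · have h1 : ¬ Fintype.card F % 4 ≠ 3 := fun h => hsq (FiniteField.isSquare_neg_one_iff.mpr h)
    have h3 : Fintype.card F % 4 = 3 := by omega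
    rw [dl_neg hsq, neg_one_pow_eq_one_iff', hd2]
    constructor
    · rintro ⟨ha, hb⟩
      right
      have ha' : m + 2 ≤ d := by
        rcases ha with h | h | h
        · norm_num at h
        · exact h
        · exact absurd h hsq
      refine ⟨h3, ha', ?_⟩
      rcases hb with hb | hb | hb
      · exact absurd hb hsq
      · exact Or.inl hb
      · exact Or.inr fun he => hb ⟨he, Or.inl he⟩
    · rintro (h | ⟨-, ha, hb⟩)
      · omega
      · refine ⟨Or.inr (Or.inl ha), ?_⟩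
        rcases hb with hb | hb
        · exact Or.inr (Or.inl hb)
        · exact Or.inr (Or.inr fun h => hb h.1)

/-- the condition for `r = 2`, minus type -/
theorem two_cond_minus (hodd : Odd (Fintype.card F)) (d m : ℕ) :
    (((-1 : ℤ) = -1 ∨ m + 2 ≤ d ∨ IsSquare (-1 : F)) ∧
      (IsSquare (-1 : F) ∨ Even m ∨ ¬ ((-1 : ℤ) = dl F ^ d ∧ (Even d ∨ IsSquare (2 : F))))) ↔
    (Even d ∨ Even m ∨ Fintype.card F % 8 ≠ 7) := by
  obtain ⟨k, hk⟩ := hodd
  by_cases hsq : IsSquare (-1 : F)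
  · have h1 := FiniteField.isSquare_neg_one_iff.mp hsq
    have h3 : Fintype.card F % 8 ≠ 7 := by omega
    simp only [hsq, true_or, or_true, and_self, h3, ne_eq, not_false_eq_true]
  · have h1 : ¬ Fintype.card F % 4 ≠ 3 := fun h => hsq (FiniteField.isSquare_neg_one_iff.mpr h)
    have h3 : Fintype.card F % 4 = 3 := by omega
    rw [dl_neg hsq, neg_one_pow_eq_neg_one_iff', FiniteField.isSquare_two_iff]
    simp only [hsq, true_or, true_and, false_or]
    have h7 : Fintype.card F % 8 = 3 ∨ Fintype.card F % 8 = 7 := by omega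
    constructor
    · rintro (h | h)
      · exact Or.inr (Or.inl h)
      · by_cases hd : Even d
        · exact Or.inl hd
        · right; right
          intro h8
          apply h
          refine ⟨Nat.not_even_iff_odd.mp hd, Or.inr ⟨by omega, by omega⟩⟩
    · rintro (h | h | h)
      · right
        rintro ⟨h9, -⟩
        exact (Nat.not_even_iff_odd.mpr h9) h
      · exact Or.inl h
      · right
        rintro ⟨h9, h10 | h10⟩
        · exact (Nat.not_even_iff_odd.mpr h9) h10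
        · omega

end conv

section final

variable {F : Type u} [Field F] [Fintype F] {ι : Type} [Fintype ι] [DecidableEq ι]
variable (Q : QuadraticForm F (ι → F))

/-- **The criterion for all primes** -/
theorem ts_criterion (p : ℕ) [Fact p.Prime] [CharP F p] (hQ : (polarBilin Q).Nondegenerate)
    (d : ℕ) (hd : 3 ≤ d) (hn : Fintype.card ι = 2 * d) (σ : ℕ) (hσ : σ ≤ 1)
    (hs : HasSign (⇑Q) d ((-1 : ℤ) ^ σ)) (m : ℕ) (hm1 : 1 ≤ m) (hmd : m < d)
    (r : ℕ) [hr : Fact r.Prime]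
    (hdiv : r ∣ Nat.card {W : Submodule F (ι → F) // finrank F W = m ∧ ∀ u ∈ W, Q u = 0}) :
    (∀ x : GL ι F, x ∈ Cfsg.Geo.omegaGL ⇑Q →
      (∃ z : F, ((x ^ r : GL ι F) : Matrix ι ι F) = z • (1 : Matrix ι ι F)) →
      (∀ z : F, (x : Matrix ι ι F) ≠ z • (1 : Matrix ι ι F)) →
      ∃ W : Submodule F (ι → F), (finrank F W = m ∧ ∀ u ∈ W, Q u = 0) ∧
        W.map (Matrix.toLin' (x : Matrix ι ι F)) ≤ W) ↔
    ((r = 2 ∧ p ≠ 2 ∧ ((((-1 : ℤ) ^ σ = -1 ∨ m + 2 ≤ d ∨ IsSquare (-1 : F)) ∧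
        (IsSquare (-1 : F) ∨ Even m ∨
          ¬ ((-1 : ℤ) ^ σ = dl F ^ d ∧ (Even d ∨ IsSquare (2 : F))))))) ∨
      (r ≠ p ∧ 2 < r ∧ CritTS σ (orderOf ((Fintype.card F : ℕ) : ZMod r)) r d m)) := by
  have hfr : finrank F (ι → F) = 2 * d := by rw [Module.finrank_fintype_fun_eq_card, hn]
  have hε : ((-1 : ℤ) ^ σ) = 1 ∨ ((-1 : ℤ) ^ σ) = -1 := by
    rcases (by omega : σ = 0 ∨ σ = 1) with rfl | rfl
    · left; norm_num
    · right; norm_num
  by_cases hrp : r = p
  · subst hrp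
    exact absurd hdiv (not_dvd_card_ts Q hQ d hfr _ hε hs r m (by omega))
  by_cases hr2 : r = 2
  · subst hr2
    have hp2 : p ≠ 2 := fun h => hrp h.symm
    have h2 := two_ne_zero_of_char (F := F) p hp2
    rw [two_ts_iff Q p h2 hQ d hn (by omega) _ hε (sgnOn_top_of_hasSign Q d hfr hs) m (by omega)]
    constructor
    · intro h
      exact Or.inl ⟨rfl, hp2, h⟩
    · rintro (⟨-, -, h⟩ | ⟨-, h, -⟩)
      · exact h
      · omega
  · have hr3 : 2 < r := by
      have := hr.out.two_le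
      omega
    have h24 : Fintype.card F ≠ 2 ∨ Fintype.card ι ≠ 4 := Or.inr (by omega)
    rw [odd_criterion Q p r hrp hr2 hQ d (by omega) hn h24 σ hσ hs m hm1 hmd hdiv]
    constructor
    · intro h
      exact Or.inr ⟨hrp, hr3, h⟩
    · rintro (⟨h, -, -⟩ | ⟨-, -, h⟩)
      · exact absurd h hr2
      · exact h

end final

end Cfsg.Agent.Lib.Helper15.OTS
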