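import Mathlib
import Cfsg.Agent.Lib.Helper15.OTS13

/-!
# The numerical criterion in the form of the statements
-/

set_option autoImplicit false

namespace Cfsg.Agent.Lib.Helper15.OTS

open Cfsg.Agent.Lib.Helper15.PSpJ

theorem critTS_zero_iff (i r d m c : ℕ) (hc : c = if Even i then i else 2 * i) :
    CritTS 0 i r d m ↔
      ((Odd i ∧ i ≤ m ∧ 2 * (m % i) ≤ (2 * d) % c) ∨
       (Even i ∧ i ≤ m ∧ (r - 1) / i + 2 * (m / i) ≤ (2 * d) / i ∧
         ((2 * (m % i) ≤ i ∧ (2 * d) % c = 0 ∧ Odd ((2 * d) / i) ∧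
            (r - 1) / i + 2 * (m / i) < (2 * d) / i) ∨
          (2 * (m % i) ≤ (2 * d) % c ∧ Even ((2 * d) / i)) ∨
          (2 * (m % i) < (2 * d) % c ∧ Odd ((2 * d) / i))))) := by
  have hc' : cOf i = c := by unfold cOf; rw [hc]
  unfold CritTS
  rw [hc']
  simp only [add_zero, Nat.not_even_iff_odd, true_and, zero_ne_one, false_and, or_false]

theorem critTS_one_iff (i r d m c : ℕ) (hc : c = if Even i then i else 2 * i) :
    CritTS 1 i r d m ↔
      ((Odd i ∧ i ≤ m ∧ ((2 * d) % c = 0 ∨ 2 * (m % i) < (2 * d) % c)) ∨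
       (Even i ∧ i ≤ m ∧ (r - 1) / i + 2 * (m / i) ≤ (2 * d) / i ∧
         ((2 * (m % i) ≤ i ∧ (2 * d) % c = 0 ∧ Even ((2 * d) / i) ∧
            (r - 1) / i + 2 * (m / i) < (2 * d) / i) ∨
          (2 * (m % i) ≤ (2 * d) % c ∧ Odd ((2 * d) / i)) ∨
          (2 * (m % i) < (2 * d) % c ∧ Even ((2 * d) / i))))) := by
  have hc' : cOf i = c := by unfold cOf; rw [hc]
  have h2 : ∀ n : ℕ, Even (n + 1) ↔ Odd n := by
    intro n
    rw [Nat.even_add_one, Nat.not_even_iff_odd]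
  unfold CritTS
  rw [hc']
  simp only [h2, Nat.not_odd_iff_even, true_and, one_ne_zero, false_and, false_or]

end Cfsg.Agent.Lib.Helper15.OTS
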