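import Cfsg.Agent.Lib.Helper15.Sps10

/-!
# S2362, part 8: `PSp_{2(k+1)}(q)`, `q` odd, has an element of order `p (q^k + 1)`
-/

set_option autoImplicit false
set_option linter.unusedSectionVars false

namespace Cfsg.Agent.Lib.Helper15.OddSp

open Matrix Polynomial Cfsg Cfsg.Agent.Lib.Helper15.Spr Cfsg.Agent.Lib.Helper15.SpReg
  Cfsg.Agent.Lib.Helper15.Spu Cfsg.Agent.Lib.Helper15.PGraph Cfsg.Agent.Lib.Helper15.Sps

variable {F : Type*} [Field F] [Fintype F]

/-- Singer-type symplectic matrix of order `q^n + 1`. -/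
theorem exists_singer_matrix_plus {n : ℕ} (hn : 1 ≤ n) (p : ℕ) [Fact p.Prime] [CharP F p]
    (hodd : Odd (Fintype.card F)) :
    ∃ x : Matrix.symplecticGroup (Fin n) F, ∀ j : ℕ,
      matS x ^ j = 1 ↔ (Fintype.card F ^ n + 1) ∣ j := by
  classical
  have hp : p.Prime := Fact.out
  have h2 : (2 : F) ≠ 0 := two_ne_zero_of_odd_card hodd
  have hq : 2 ≤ Fintype.card F := Fintype.one_lt_card
  have : NeZero (2 * n) := ⟨by omega⟩
  have hfr : Module.finrank F (FiniteField.Extension F p (2 * n)) = 2 * n :=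
    FiniteField.finrank_extension F p (2 * n)
  have hcard : Nat.card (FiniteField.Extension F p (2 * n)) = (Fintype.card F ^ n) ^ 2 := by
    rw [FiniteField.natCard_extension, Nat.card_eq_fintype_card, ← pow_mul, mul_comm]
  obtain ⟨α₀, hα₀⟩ := IsCyclic.exists_generator (α := (FiniteField.Extension F p (2 * n))ˣ)
  have hord : orderOf α₀ = (Fintype.card F ^ n) ^ 2 - 1 := by
    rw [orderOf_eq_card_of_forall_mem_zpowers hα₀, Nat.card_units, hcard]
  have hQ2 : 2 ≤ Fintype.card F ^ n :=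
    le_trans (by simpa using hq) (Nat.pow_le_pow_right (by omega) hn)
  have hsplit : (Fintype.card F ^ n) ^ 2 - 1 =
      (Fintype.card F ^ n - 1) * (Fintype.card F ^ n + 1) := sq_sub_one _ (by omega)
  have hne : Fintype.card F ^ n - 1 ≠ 0 := by omega
  have horda : orderOf (α₀ ^ (Fintype.card F ^ n - 1)) = Fintype.card F ^ n + 1 := by
    rw [orderOf_pow_of_dvd hne (by rw [hord, hsplit]; exact dvd_mul_right _ _), hord, hsplit]
    exact Nat.mul_div_cancel_left _ (Nat.pos_of_ne_zero hne)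
  set αu : (FiniteField.Extension F p (2 * n))ˣ := α₀ ^ (Fintype.card F ^ n - 1) with hαu
  have hpowiff : ∀ j : ℕ, (αu : FiniteField.Extension F p (2 * n)) ^ j = 1 ↔
      (Fintype.card F ^ n + 1) ∣ j := by
    intro j
    rw [← horda, orderOf_dvd_iff_pow_eq_one, Units.ext_iff]
    simp
  have hα1 : (αu : FiniteField.Extension F p (2 * n)) *
      PSpD.frobPow F (FiniteField.Extension F p (2 * n)) n
        (αu : FiniteField.Extension F p (2 * n)) = 1 := by
    rw [PSpD.frobPow_apply, ← pow_succ', ← horda]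
    have := congrArg Units.val (pow_orderOf_eq_one αu)
    rw [Units.val_pow_eq_pow_val, Units.val_one] at this
    exact this
  -- the skew element
  have hβ : PSpD.frobPow F (FiniteField.Extension F p (2 * n)) n
      (α₀ : FiniteField.Extension F p (2 * n)) ≠ (α₀ : FiniteField.Extension F p (2 * n)) := by
    intro h
    rw [PSpD.frobPow_apply] at h
    have h3 : α₀ ^ (Fintype.card F ^ n) = α₀ := by
      apply Units.ext
      rw [Units.val_pow_eq_pow_val]
      exact h
    have h4 : α₀ ^ (Fintype.card F ^ n - 1) = 1 := by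
      have h5 : α₀ ^ (Fintype.card F ^ n - 1) * α₀ = 1 * α₀ := by
        rw [← pow_succ, one_mul]
        have : Fintype.card F ^ n - 1 + 1 = Fintype.card F ^ n := by omega
        rw [this, h3]
      exact mul_right_cancel h5
    have h6 := orderOf_dvd_of_pow_eq_one h4
    rw [hord, hsplit] at h6
    have h7 := Nat.le_of_dvd (by omega) h6
    have h8 : (Fintype.card F ^ n - 1) * 2 ≤ (Fintype.card F ^ n - 1) * (Fintype.card F ^ n + 1) :=
      Nat.mul_le_mul_left _ (by omega)
    omega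
  set δ := (α₀ : FiniteField.Extension F p (2 * n)) -
    PSpD.frobPow F (FiniteField.Extension F p (2 * n)) n
      (α₀ : FiniteField.Extension F p (2 * n)) with hδdef
  have hδ0 : δ ≠ 0 := by
    intro h
    apply hβ
    exact (sub_eq_zero.mp h).symm
  have hδ : PSpD.frobPow F (FiniteField.Extension F p (2 * n)) n δ = -δ := by
    rw [hδdef, map_sub, PSpD.frobPow_frobPow n hfr]
    ring
  have halt := PSpD.hermForm_alt (F := F) (E := FiniteField.Extension F p (2 * n)) h2 n hfr δ hδ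
  have hnd := PSpD.hermForm_nondeg (F := F) (E := FiniteField.Extension F p (2 * n)) n hfr δ hδ0
  have hiso : ∀ a b, PSpD.hermForm F n δ
      (LinearMap.mulLeft F (αu : FiniteField.Extension F p (2 * n)) a)
      (LinearMap.mulLeft F (αu : FiniteField.Extension F p (2 * n)) b) =
      PSpD.hermForm F n δ a b := by
    intro a b
    rw [LinearMap.mulLeft_apply, LinearMap.mulLeft_apply]
    exact PSpD.hermForm_inv n δ _ hα1 a b
  obtain ⟨x, Ψ, hΨ⟩ := PSpJ.exists_symp_conj (PSpD.hermForm F n δ) halt hnd n hn hfr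
    (LinearMap.mulLeft F (αu : FiniteField.Extension F p (2 * n))) hiso
  refine ⟨x, ?_⟩
  intro j
  rw [← hpowiff]
  have hone : (1 : Matrix (Fin n ⊕ Fin n) (Fin n ⊕ Fin n) F) =
      Matrix.scalar (Fin n ⊕ Fin n) (1 : F) := (map_one _).symm
  rw [hone, scalar_iff_of_conj (matS x) Ψ _ hΨ j 1]
  constructor
  · intro h
    have h3 := h 1
    rw [PSpD.mulLeft_pow_apply, mul_one, one_smul] at h3
    exact h3
  · intro h v
    rw [PSpD.mulLeft_pow_apply, h, one_mul, one_smul]

/-- the transvection of `Sp_2` -/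
theorem exists_transvection (p : ℕ) [Fact p.Prime] [CharP F p] :
    ∃ T : Matrix.symplecticGroup (Fin 1) F, ∀ (j : ℕ) (ν : F),
      matS T ^ j = Matrix.scalar (Fin 1 ⊕ Fin 1) ν ↔ (ν = 1 ∧ p ∣ j) := by
  obtain ⟨T, hT⟩ := exists_sp (F := F) (n := 1) (fromBlocks 1 1 0 1) (by
    rw [sig_fromBlocks, fromBlocks_multiply]
    simp)
  refine ⟨T, ?_⟩
  have hpow : ∀ j : ℕ, matS T ^ j =
      fromBlocks (1 : Matrix (Fin 1) (Fin 1) F) ((j : F) • 1) 0 1 := by
    intro j
    induction j with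
    | zero =>
      rw [pow_zero, Nat.cast_zero, zero_smul]
      exact fromBlocks_one.symm
    | succ j ih =>
      rw [pow_succ, ih, hT, fromBlocks_multiply]
      simp
      rw [add_smul, one_smul, add_comm]
  intro j ν
  rw [hpow]
  have hsc : Matrix.scalar (Fin 1 ⊕ Fin 1) ν =
      fromBlocks (ν • (1 : Matrix (Fin 1) (Fin 1) F)) 0 0 (ν • 1) := by
    rw [scalar_eq_smul_one', ← fromBlocks_one, fromBlocks_smul]
    simp
  rw [hsc, fromBlocks_inj]
  constructor
  · rintro ⟨h1, h2, -, -⟩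
    have h3 := congrFun (congrFun h1 0) 0
    have h4 := congrFun (congrFun h2 0) 0
    simp at h3 h4
    exact ⟨h3.symm, (CharP.cast_eq_zero_iff F p j).mp h4⟩
  · rintro ⟨rfl, hj⟩
    rw [(CharP.cast_eq_zero_iff F p j).mpr hj]
    simp

/-- `PSp_{2(k+1)}(q)` has an element of order `p (q^k + 1)` -/
theorem exists_order_psp (p : ℕ) [Fact p.Prime] [CharP F p] (hodd : Odd (Fintype.card F))
    (k : ℕ) (hk : 1 ≤ k) :
    ∃ y : Cfsg.PSp (1 + k) F, orderOf y = p * (Fintype.card F ^ k + 1) := by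
  classical
  have hp : p.Prime := Fact.out
  obtain ⟨S, hS⟩ := exists_singer_matrix_plus (F := F) hk p hodd
  obtain ⟨T, hT⟩ := exists_transvection (F := F) p
  have hpq : p ∣ Fintype.card F := charP_dvd_card' (F := F) p
  have hcop : Nat.Coprime p (Fintype.card F ^ k + 1) := by
    rw [Nat.Prime.coprime_iff_not_dvd hp]
    intro hdvd
    have h1 : p ∣ Fintype.card F ^ k := Dvd.dvd.trans hpq (dvd_pow_self _ (by omega))
    have h2 : p ∣ 1 := (Nat.dvd_add_right h1).mp hdvd
    exact hp.one_lt.ne' (Nat.dvd_one.mp h2)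
  apply singer_of_matrix_sp (by omega) (spFinSum (F := F) 1 k (T, S))
  intro j
  constructor
  · rintro ⟨ν, hν⟩
    obtain ⟨h1, h2⟩ := (spFinSum_scalar_iff T S j ν).mp hν
    obtain ⟨rfl, hpj⟩ := (hT j ν).mp h1
    rw [map_one] at h2
    exact hcop.mul_dvd_of_dvd_of_dvd hpj ((hS j).mp h2)
  · intro hj
    refine ⟨1, (spFinSum_scalar_iff T S j 1).mpr ⟨?_, ?_⟩⟩
    · exact (hT j 1).mpr ⟨rfl, Dvd.dvd.trans (dvd_mul_right _ _) hj⟩
    · rw [map_one]
      exact (hS j).mpr (Dvd.dvd.trans (dvd_mul_left _ _) hj)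

end Cfsg.Agent.Lib.Helper15.OddSp
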