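import Mathlib
import Cfsg.Agent.Lib.Helper15.OddSp7
import Cfsg.Agent.Lib.Helper6.OrthForms

/-!
# S2362, part 9: `PΩ_{2k+3}(q)` has no element of order `p (q^k + 1)` (`q` odd, `k ≥ 2`)
-/

set_option autoImplicit false

namespace Cfsg.Agent.Lib.Helper15.OddSp

open Module QuadraticMap Matrix

/-- no element of order `p (q^k + 1)` in `PΩ(Q)`, `dim = 2k+3` -/
theorem no_order_pomega {F : Type*} [Field F] [Fintype F] {ι : Type} [Fintype ι]
    [DecidableEq ι] (Qf : (ι → F) → F) (Q : QuadraticForm F (ι → F)) (hQf : Qf = ⇑Q)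
    (hQ : (polarBilin Q).Nondegenerate)
    (hodd : Odd (Fintype.card F)) (p : ℕ) [Fact p.Prime] [CharP F p] (k : ℕ) (hk : 2 ≤ k)
    (hcard : Fintype.card ι = 2 * k + 3) (x : Cfsg.POmega F Qf) :
    orderOf x ≠ p * (Fintype.card F ^ k + 1) := by
  classical
  subst hQf
  intro hx
  have hp : p.Prime := Fact.out
  obtain ⟨w, rfl⟩ := QuotientGroup.mk_surjective x
  have hfin : Finite (GL ι F) := inferInstance
  have hdvd : orderOf (QuotientGroup.mk w : Cfsg.POmega F ⇑Q) ∣ orderOf w :=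
    orderOf_map_dvd (QuotientGroup.mk' (Subgroup.center (Cfsg.Omega F ⇑Q))) w
  rw [hx] at hdvd
  have hNpos : 0 < p * (Fintype.card F ^ k + 1) := Nat.mul_pos hp.pos (by omega)
  have hopos : 0 < orderOf w := orderOf_pos w
  obtain ⟨c, hc⟩ := hdvd
  have hc0 : c ≠ 0 := by
    rintro rfl
    rw [mul_zero] at hc
    omega
  have hord : orderOf (w ^ c) = p * (Fintype.card F ^ k + 1) := by
    rw [orderOf_pow_of_dvd hc0 ⟨_, by rw [hc, mul_comm]⟩, hc]
    exact Nat.mul_div_cancel _ (Nat.pos_of_ne_zero hc0)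
  exact no_element_of_order Q hQ hodd p k hk hcard ((w ^ c : ↥(Cfsg.Omega F ⇑Q)) :
    ↥(Cfsg.isometryGroup F ⇑Q)) (w ^ c).2 (by rw [Subgroup.orderOf_coe]; exact hord)

/-- no element of order `p (q^k + 1)` in `PΩ_{2(1+k)+1}(q)` -/
theorem no_order_pomega_odd {F : Type*} [Field F] [Fintype F] (hodd : Odd (Fintype.card F))
    (p : ℕ) [Fact p.Prime] [CharP F p] (k : ℕ) (hk : 2 ≤ k)
    (x : Cfsg.POmega F (Cfsg.quadFormOdd (1 + k) F)) :
    orderOf x ≠ p * (Fintype.card F ^ k + 1) := by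
  have hp : p.Prime := Fact.out
  have h2 : (2 : F) ≠ 0 := by
    intro h0
    have h1 : ((2 : ℕ) : F) = 0 := by exact_mod_cast h0
    have h3 : p ∣ 2 := (CharP.cast_eq_zero_iff F p 2).mp h1
    have h4 : p ∣ Fintype.card F := by
      have : ((Fintype.card F : ℕ) : F) = 0 := Nat.cast_card_eq_zero F
      exact (CharP.cast_eq_zero_iff F p _).mp this
    have h5 : p = 2 := (Nat.prime_dvd_prime_iff_eq hp Nat.prime_two).mp h3
    rw [h5] at h4
    obtain ⟨c, hc⟩ := hodd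
    omega
  apply no_order_pomega (Cfsg.quadFormOdd (1 + k) F) (Cfsg.Agent.Lib.Helper6.QOdd F (1 + k))
    (funext fun v => (Cfsg.Agent.Lib.Helper6.QOdd_apply F (1 + k) v).symm)
    (Cfsg.Agent.Lib.Helper6.nondegenerate_QOdd F h2 (1 + k)) hodd p k hk
  simp only [Fintype.card_sum, Fintype.card_unit, Fintype.card_fin]
  ring

end Cfsg.Agent.Lib.Helper15.OddSp
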