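import Mathlib
import Cfsg.Agent.Lib.Helper13.SubfField
import Cfsg.Agent.Lib.Helper15.PInv7

/-!
# Conjugating elements of `SL_n(F)` into the subfield subgroup `GL_n(F₀) · scalars`

`RB F₀ X c W κ`: the subspace `W` has a basis indexed by `κ` in which `X` acts as `c` times a
matrix with entries in the subfield `F₀`.
-/

set_option autoImplicit false

namespace Cfsg.Agent.Lib.Helper15.PSubf

open Module Submodule Cfsg.Agent.Lib.Helper15.PSub Cfsg.Agent.Lib.Helper15.PInv
  Cfsg.Agent.Lib.Helper13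

section rb

variable {F V : Type*} [Field F] [AddCommGroup V] [Module F V]

/-- `W` has a basis indexed by `κ` on which `X` acts as `c` times an `F₀`-rational matrix. -/
def RB (F₀ : Subfield F) (X : V →ₗ[F] V) (c : F) (W : Submodule F V) (κ : Type) [Fintype κ] :
    Prop :=
  ∃ (e : κ → V) (M : Matrix κ κ F₀), LinearIndependent F e ∧ span F (Set.range e) = W ∧
    ∀ j, X (e j) = c • ∑ i, ((M i j : F₀) : F) • e i

theorem RB.empty (F₀ : Subfield F) (X : V →ₗ[F] V) (c : F) : RB F₀ X c ⊥ Empty := by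
  refine ⟨fun e => e.elim, fun e => e.elim, linearIndependent_empty_type, ?_, fun e => e.elim⟩
  rw [Set.range_eq_empty, span_empty]

theorem RB.congr {F₀ : Subfield F} {X : V →ₗ[F] V} {c : F} {W W' : Submodule F V} {κ : Type}
    [Fintype κ] (h : RB F₀ X c W κ) (hW : W = W') : RB F₀ X c W' κ := by
  subst hW
  exact h

theorem RB.series {F₀ : Subfield F} {X : V →ₗ[F] V} {c : F} {W₁ W₂ : Submodule F V}
    {κ₁ κ₂ : Type} [Fintype κ₁] [Fintype κ₂] (h₁ : RB F₀ X c W₁ κ₁) (h₂ : RB F₀ X c W₂ κ₂)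
    (hd : Disjoint W₁ W₂) : RB F₀ X c (W₁ ⊔ W₂) (κ₁ ⊕ κ₂) := by
  classical
  obtain ⟨e₁, M₁, hli₁, hsp₁, hX₁⟩ := h₁
  obtain ⟨e₂, M₂, hli₂, hsp₂, hX₂⟩ := h₂
  refine ⟨Sum.elim e₁ e₂, Matrix.fromBlocks M₁ 0 0 M₂, ?_, ?_, ?_⟩
  · apply LinearIndependent.sum_type hli₁ hli₂
    rw [hsp₁, hsp₂]
    exact hd
  · rw [Set.Sum.elim_range, span_union, hsp₁, hsp₂]
  · rintro (j | j)
    · rw [Fintype.sum_sum_type]
      simp only [Sum.elim_inl, Sum.elim_inr, Matrix.fromBlocks_apply₁₁, Matrix.fromBlocks_apply₂₁,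
        Matrix.zero_apply, ZeroMemClass.coe_zero, zero_smul, Finset.sum_const_zero, add_zero]
      exact hX₁ j
    · rw [Fintype.sum_sum_type]
      simp only [Sum.elim_inl, Sum.elim_inr, Matrix.fromBlocks_apply₁₂, Matrix.fromBlocks_apply₂₂,
        Matrix.zero_apply, ZeroMemClass.coe_zero, zero_smul, Finset.sum_const_zero, zero_add]
      exact hX₂ j

/-- a subspace of an eigenspace with eigenvalue `c * s`, `s ∈ F₀` -/
theorem RB.of_eigen [FiniteDimensional F V] (F₀ : Subfield F) (X : V →ₗ[F] V) (c : F) (s : F₀)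
    (U : Submodule F V) (hU : U ≤ Module.End.eigenspace X (c * (s : F))) :
    RB F₀ X c U (Fin (finrank F U)) := by
  classical
  let b := Module.finBasis F U
  refine ⟨fun i => (b i : V), Matrix.diagonal (fun _ => s), ?_, ?_, ?_⟩
  · exact b.linearIndependent.map' U.subtype (Submodule.ker_subtype U)
  · have h1 : Set.range (fun i => (b i : V)) = U.subtype '' Set.range b := by
      rw [← Set.range_comp]
      rfl
    rw [h1, ← Submodule.map_span, b.span_eq, Submodule.map_subtype_top]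
  · intro j
    have h1 := Module.End.mem_eigenspace_iff.mp (hU (b j).2)
    rw [h1, Finset.sum_eq_single j]
    · rw [Matrix.diagonal_apply_eq, smul_smul]
    · intro i _ hij
      rw [Matrix.diagonal_apply_ne _ hij, ZeroMemClass.coe_zero, zero_smul]
    · intro h
      exact absurd (Finset.mem_univ j) h

/-- pairs `(e j, f j)` on which `X` acts by `c` times rational `2 × 2` blocks -/
theorem RB.pairs {κ : Type} [Fintype κ] (F₀ : Subfield F) (X : V →ₗ[F] V) (c : F)
    (e f : κ → V) (A B C D : κ → F₀) (hli : LinearIndependent F (Sum.elim e f))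
    (he : ∀ j, X (e j) = c • (((A j : F₀) : F) • e j + ((C j : F₀) : F) • f j))
    (hf : ∀ j, X (f j) = c • (((B j : F₀) : F) • e j + ((D j : F₀) : F) • f j)) :
    RB F₀ X c (span F (Set.range (Sum.elim e f))) (κ ⊕ κ) := by
  classical
  refine ⟨Sum.elim e f, Matrix.fromBlocks (Matrix.diagonal A) (Matrix.diagonal B)
    (Matrix.diagonal C) (Matrix.diagonal D), hli, rfl, ?_⟩
  have hsum : ∀ (g : κ → F₀) (u : κ → V) (j : κ),
      ∑ i, ((Matrix.diagonal g i j : F₀) : F) • u i = ((g j : F₀) : F) • u j := by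
    intro g u j
    rw [Finset.sum_eq_single j]
    · rw [Matrix.diagonal_apply_eq]
    · intro i _ hij
      rw [Matrix.diagonal_apply_ne _ hij, ZeroMemClass.coe_zero, zero_smul]
    · intro h
      exact absurd (Finset.mem_univ j) h
  rintro (j | j)
  · rw [Fintype.sum_sum_type]
    simp only [Sum.elim_inl, Sum.elim_inr, Matrix.fromBlocks_apply₁₁, Matrix.fromBlocks_apply₂₁]
    rw [hsum, hsum]
    exact he j
  · rw [Fintype.sum_sum_type]
    simp only [Sum.elim_inl, Sum.elim_inr, Matrix.fromBlocks_apply₁₂, Matrix.fromBlocks_apply₂₂]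
    rw [hsum, hsum]
    exact hf j

/-- a rational basis of the whole space indexed by `Fin n` -/
theorem RB.toFin {F₀ : Subfield F} {X : V →ₗ[F] V} {c : F} {κ : Type} [Fintype κ]
    (h : RB F₀ X c ⊤ κ) (n : ℕ) (hκ : Fintype.card κ = n) :
    ∃ (b : Basis (Fin n) F V) (M : Matrix (Fin n) (Fin n) F₀),
      ∀ j, X (b j) = c • ∑ i, ((M i j : F₀) : F) • b i := by
  classical
  obtain ⟨e, M, hli, hsp, hX⟩ := h
  obtain ⟨ε⟩ : Nonempty (Fin n ≃ κ) := ⟨(Fintype.equivFinOfCardEq hκ).symm⟩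
  have hli' : LinearIndependent F (e ∘ ε) := hli.comp _ ε.injective
  have hsp' : ⊤ ≤ span F (Set.range (e ∘ ε)) := by
    rw [ε.surjective.range_comp, hsp]
  refine ⟨Basis.mk hli' hsp', M.submatrix ε ε, fun j => ?_⟩
  rw [Basis.mk_apply]
  show X (e (ε j)) = _
  rw [hX (ε j)]
  congr 1
  rw [← Equiv.sum_comp ε]
  apply Finset.sum_congr rfl
  intro i _
  rw [Basis.mk_apply]
  rfl

end rb

section conj

variable {F : Type*} [Field F] {n : ℕ}

/-- **Assembly**: an element of `SL_n(F)` acting as a scalar times an `F₀`-rational matrix in some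
basis, and whose centraliser has all determinants, is `SL_n`-conjugate into the subfield
subgroup. -/
theorem conj_mem_subf (F₀ : Subfield F) (x : Matrix.SpecialLinearGroup (Fin n) F)
    (b : Basis (Fin n) F (Fin n → F)) (c : F) (hc : c ≠ 0) (M : Matrix (Fin n) (Fin n) F₀)
    (hM : ∀ j, Matrix.toLin' (x : Matrix (Fin n) (Fin n) F) (b j) =
      c • ∑ i, ((M i j : F₀) : F) • b i)
    (hcent : ∀ δ : F, δ ≠ 0 → ∃ C : (Fin n → F) →ₗ[F] (Fin n → F),
      C ∘ₗ Matrix.toLin' (x : Matrix (Fin n) (Fin n) F) =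
        Matrix.toLin' (x : Matrix (Fin n) (Fin n) F) ∘ₗ C ∧ LinearMap.det C = δ) :
    ∃ P : Matrix.SpecialLinearGroup (Fin n) F, P⁻¹ * x * P ∈
      ((Cfsg.Geo.subfieldSubgroup F₀ 1).comap
        (Matrix.SpecialLinearGroup.toGL : Matrix.SpecialLinearGroup (Fin n) F →* GL (Fin n) F)) := by
  classical
  set X := Matrix.toLin' (x : Matrix (Fin n) (Fin n) F) with hX
  let P₀ : (Fin n → F) ≃ₗ[F] (Fin n → F) := (Pi.basisFun F (Fin n)).equiv b (Equiv.refl _)
  have hP₀ : ∀ j, P₀ (Pi.single j 1) = b j := by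
    intro j
    have := (Pi.basisFun F (Fin n)).equiv_apply j b (Equiv.refl _)
    rw [Pi.basisFun_apply] at this
    exact this
  have hP₀det : LinearMap.det (P₀ : (Fin n → F) →ₗ[F] (Fin n → F)) ≠ 0 :=
    (LinearEquiv.isUnit_det' P₀).ne_zero
  obtain ⟨C, hCX, hCdet⟩ := hcent _ (inv_ne_zero hP₀det)
  obtain ⟨Pl, hPl⟩ : ∃ Pl : (Fin n → F) →ₗ[F] (Fin n → F),
      Pl = C ∘ₗ (P₀ : (Fin n → F) →ₗ[F] (Fin n → F)) := ⟨_, rfl⟩
  have hPldet : LinearMap.det Pl = 1 := by
    rw [hPl, LinearMap.det_comp, hCdet, inv_mul_cancel₀ hP₀det]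
  have hPlb : ∀ j, Pl (Pi.single j 1) = C (b j) := by
    intro j
    rw [hPl, LinearMap.comp_apply]
    show C (P₀ (Pi.single j 1)) = _
    rw [hP₀]
  set S := toSL Pl hPldet with hS
  set Mc : Matrix (Fin n) (Fin n) F := c • rmat F₀ M with hMc
  have hSl : Matrix.toLin' (S : Matrix (Fin n) (Fin n) F) = Pl := toLin'_toSL Pl hPldet
  -- the key matrix identity
  have key : (x : Matrix (Fin n) (Fin n) F) * (S : Matrix (Fin n) (Fin n) F) =
      (S : Matrix (Fin n) (Fin n) F) * Mc := by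
    apply Matrix.toLin'.injective
    rw [Matrix.toLin'_mul, Matrix.toLin'_mul, hSl]
    apply (Pi.basisFun F (Fin n)).ext
    intro j
    rw [Pi.basisFun_apply]
    show X (Pl (Pi.single j 1)) = Pl (Matrix.toLin' Mc (Pi.single j 1))
    have h0 : Matrix.toLin' Mc (Pi.single j 1) = Mc.col j := by
      rw [Matrix.toLin'_apply, Matrix.mulVec_single_one]
    rw [h0, hPlb]
    have h2 : X (C (b j)) = C (X (b j)) := (LinearMap.congr_fun hCX (b j)).symm
    rw [h2, hM j, map_smul, map_sum]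
    have h3 : Mc.col j = ∑ i, (c * ((M i j : F₀) : F)) • (Pi.single i 1 : Fin n → F) := by
      have h4 := pi_eq_sum_univ' (Mc.col j)
      rw [h4]
      apply Finset.sum_congr rfl
      intro i _
      rfl
    rw [h3, map_sum, Finset.smul_sum]
    apply Finset.sum_congr rfl
    intro i _
    rw [map_smul, map_smul, smul_smul, hPlb]
  have hconj : ((S⁻¹ * x * S : Matrix.SpecialLinearGroup (Fin n) F) :
      Matrix (Fin n) (Fin n) F) = Mc := by
    rw [Matrix.SpecialLinearGroup.coe_mul, Matrix.SpecialLinearGroup.coe_mul, Matrix.mul_assoc,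
      key, ← Matrix.mul_assoc, ← Matrix.SpecialLinearGroup.coe_mul, inv_mul_cancel,
      Matrix.SpecialLinearGroup.coe_one, Matrix.one_mul]
  refine ⟨S, ?_⟩
  rw [Subgroup.mem_comap]
  apply mem_subfieldSubgroup_of_eq F₀ 1 _ c hc M
  rw [inv_one, one_mul, mul_one]
  exact hconj

end conj

end Cfsg.Agent.Lib.Helper15.PSubf
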