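import Mathlib
import Cfsg.Agent.Lib.Helper15.PSubf1

/-!
# Rational bases for the diagonal and unipotent types
-/

set_option autoImplicit false

namespace Cfsg.Agent.Lib.Helper15.PSubf

open Module Submodule Cfsg.Agent.Lib.Helper15.PSub Cfsg.Agent.Lib.Helper15.PInv
  Cfsg.Agent.Lib.Helper15.PDec

section types

variable {F V : Type*} [Field F] [AddCommGroup V] [Module F V] [FiniteDimensional F V]

/-- rational basis for the diagonal type -/
theorem typeD_RB (F₀ : Subfield F) (X : V →ₗ[F] V) (w : F) (hw : w ≠ 0) (h2 : (2 : F) ≠ 0)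
    (hX : X ^ 2 = (w * w) • (1 : V →ₗ[F] V)) :
    ∃ (κ : Type) (_ : Fintype κ), Fintype.card κ = finrank F V ∧ RB F₀ X w ⊤ κ := by
  have hc := typeD_isCompl X w hw h2 hX
  have s₁ := RB.of_eigen F₀ X w (1 : F₀) (Module.End.eigenspace X w)
    (by rw [OneMemClass.coe_one, mul_one])
  have s₂ := RB.of_eigen F₀ X w (-1 : F₀) (Module.End.eigenspace X (-w))
    (by rw [NegMemClass.coe_neg, OneMemClass.coe_one, mul_neg, mul_one])
  refine ⟨_, inferInstance, ?_, (s₁.series s₂ hc.disjoint).congr hc.sup_eq_top⟩
  rw [Fintype.card_sum, Fintype.card_fin, Fintype.card_fin]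
  exact Submodule.finrank_add_eq_of_isCompl hc

/-- rational basis for the unipotent type in characteristic two -/
theorem typeU_RB (F₀ : Subfield F) (X : V →ₗ[F] V) (w : F) (hw : w ≠ 0) (h2 : (2 : F) = 0)
    (hX : X ^ 2 = (w * w) • (1 : V →ₗ[F] V)) :
    ∃ (κ : Type) (_ : Fintype κ), Fintype.card κ = finrank F V ∧ RB F₀ X w ⊤ κ := by
  classical
  set N₀ : V →ₗ[F] V := X - w • (1 : V →ₗ[F] V) with hN₀
  have hN₀N₀ : ∀ v, N₀ (N₀ v) = 0 := typeU_sq X w h2 hX
  obtain ⟨N, hN⟩ : ∃ N : V →ₗ[F] V, N = w⁻¹ • N₀ := ⟨_, rfl⟩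
  have hNapp : ∀ v, N v = w⁻¹ • N₀ v := fun v => by rw [hN]; rfl
  have hNN : ∀ v, N (N v) = 0 := by
    intro v
    rw [hNapp, hNapp, map_smul, hN₀N₀, smul_zero, smul_zero]
  have hXN : ∀ v, X v = w • (v + N v) := by
    intro v
    rw [hNapp, hN₀, LinearMap.sub_apply, LinearMap.smul_apply, Module.End.one_apply, smul_add,
      smul_smul, mul_inv_cancel₀ hw, one_smul]
    abel
  have hker : LinearMap.ker N = Module.End.eigenspace X w := by
    ext v
    rw [LinearMap.mem_ker, Module.End.mem_eigenspace_iff, hXN, smul_add]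
    constructor
    · intro h
      rw [h, smul_zero, add_zero]
    · intro h
      have h3 : w • N v = 0 := by
        have := add_left_cancel (a := w • v) (b := w • N v) (c := 0) (by rw [add_zero]; exact h)
        exact this
      rcases smul_eq_zero.mp h3 with h4 | h4
      · exact absurd h4 hw
      · exact h4
  obtain ⟨Cv, hCv⟩ := Submodule.exists_isCompl (LinearMap.ker N)
  set k := finrank F Cv with hk
  let b := Module.finBasis F Cv
  let v : Fin k → V := fun i => (b i : V)
  have hliv : LinearIndependent F v :=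
    b.linearIndependent.map' Cv.subtype (Submodule.ker_subtype Cv)
  have hspanv : span F (Set.range v) = Cv := by
    have h1 : Set.range v = Cv.subtype '' Set.range b := by
      rw [← Set.range_comp]
      rfl
    rw [h1, ← Submodule.map_span, b.span_eq, Submodule.map_subtype_top]
  have hdisj : Disjoint Cv (LinearMap.ker N) := hCv.disjoint.symm
  have hliNv : LinearIndependent F (N ∘ v) := by
    apply hliv.map
    rw [hspanv]
    exact hdisj
  have hspanNv : span F (Set.range (N ∘ v)) = Cv.map N := by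
    rw [Set.range_comp, ← Submodule.map_span, hspanv]
  have hmapker : Cv.map N ≤ LinearMap.ker N := by
    rintro _ ⟨x, _, rfl⟩
    exact LinearMap.mem_ker.mpr (hNN x)
  have hli : LinearIndependent F (Sum.elim v (N ∘ v)) := by
    apply LinearIndependent.sum_type hliv hliNv
    rw [hspanv, hspanNv]
    exact hdisj.mono_right hmapker
  have hP₁ := RB.pairs F₀ X w v (N ∘ v) (fun _ => 1) (fun _ => 0) (fun _ => 1) (fun _ => 1) hli
    (by
      intro j
      rw [hXN, OneMemClass.coe_one, one_smul, one_smul]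
      rfl)
    (by
      intro j
      show X (N (v j)) = _
      rw [hXN, hNN, add_zero, ZeroMemClass.coe_zero, zero_smul, zero_add, OneMemClass.coe_one,
        one_smul]
      rfl)
  have hspan₁ : span F (Set.range (Sum.elim v (N ∘ v))) = Cv ⊔ Cv.map N := by
    rw [Set.Sum.elim_range, span_union, hspanv, hspanNv]
  rw [hspan₁] at hP₁
  -- the complement of `N(Cv)` in `ker N`
  obtain ⟨C', hC'le, -, hinf, hsup, hdimker⟩ := exists_compl_in (0 : V →ₗ[F] V)
    Module.End.isSemisimple_zero (LinearMap.ker N) (Cv.map N)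
    (fun x _ => by simp) (fun x _ => by simp) hmapker
  have hmapdim : finrank F ↥(Cv.map N) = k := by
    have hinj : Function.Injective (N.domRestrict Cv) := by
      rw [← LinearMap.ker_eq_bot, eq_bot_iff]
      intro x hx
      rw [LinearMap.mem_ker, LinearMap.domRestrict_apply] at hx
      have : (x : V) ∈ Cv ⊓ LinearMap.ker N := ⟨x.2, LinearMap.mem_ker.mpr hx⟩
      rw [hdisj.eq_bot, Submodule.mem_bot] at this
      rw [Submodule.mem_bot]
      exact Subtype.ext this
    have h1 := LinearMap.finrank_range_of_inj hinj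
    have h2 : LinearMap.range (N.domRestrict Cv) = Cv.map N := by
      rw [LinearMap.range_domRestrict]
    rw [h2] at h1
    exact h1
  have hsum : finrank F ↥(LinearMap.ker N) + k = finrank F V :=
    Submodule.finrank_add_eq_of_isCompl hCv
  have hP₂ := RB.of_eigen F₀ X w (1 : F₀) C'
    (by rw [OneMemClass.coe_one, mul_one, ← hker]; exact hC'le)
  have hdisj2 : Disjoint (Cv ⊔ Cv.map N) C' := by
    apply Disjoint.disjoint_sup_left_of_disjoint_sup_right (disjoint_iff.mpr hinf)
    rw [hsup]
    exact hdisj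
  have hser := hP₁.series hP₂ hdisj2
  refine ⟨_, inferInstance, ?_, hser.congr ?_⟩
  · rw [Fintype.card_sum, Fintype.card_sum, Fintype.card_fin, Fintype.card_fin]
    rw [hmapdim] at hdimker
    omega
  · rw [sup_assoc, hsup, sup_comm]
    exact hCv.sup_eq_top

end types

end Cfsg.Agent.Lib.Helper15.PSubf
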