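import Mathlib
import Cfsg.Agent.Lib.Helper15.PSubf2

/-!
# Determinant of the irreducible type, and its non-existence in `SL_n` for small `v_2(n)`
-/

set_option autoImplicit false

namespace Cfsg.Agent.Lib.Helper15.PSubf

open Module Submodule Polynomial Cfsg.Agent.Lib.Helper15.PSub Cfsg.Agent.Lib.Helper15.PInv
  Cfsg.Agent.Lib.Helper15.PDec

section det

open Matrix

variable {F V : Type*} [Field F] [AddCommGroup V] [Module F V]

/-- the index equivalence used to turn four diagonal blocks into a block diagonal matrix -/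
def pairEquiv (κ : Type) : Fin 2 × κ ≃ κ ⊕ κ where
  toFun p := if p.1 = 0 then Sum.inl p.2 else Sum.inr p.2
  invFun s := Sum.elim (fun j => (0, j)) (fun j => (1, j)) s
  left_inv := by
    rintro ⟨a, j⟩
    fin_cases a <;> simp
  right_inv := by
    rintro (j | j) <;> simp

theorem det_blocks_diag {κ : Type} [Fintype κ] [DecidableEq κ] (α β γ δ : κ → F) :
    (fromBlocks (diagonal α) (diagonal β) (diagonal γ) (diagonal δ)).det =
      ∏ j, (α j * δ j - β j * γ j) := by
  have h1 : (fromBlocks (diagonal α) (diagonal β) (diagonal γ) (diagonal δ)).submatrix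
      (pairEquiv κ) (pairEquiv κ) = blockDiagonal (fun j => !![α j, β j; γ j, δ j]) := by
    ext ⟨a, i⟩ ⟨b, j⟩
    rw [blockDiagonal_apply, submatrix_apply]
    fin_cases a <;> fin_cases b <;>
      by_cases hij : i = j <;> simp [pairEquiv, hij]
  rw [← det_submatrix_equiv_self (pairEquiv κ), h1, det_blockDiagonal]
  apply Finset.prod_congr rfl
  intro j _
  rw [det_fin_two_of]

/-- determinant from an adapted pair basis -/
theorem SPB.det_eq {κ : Type} [Fintype κ] (X : V →ₗ[F] V) (μ : F) (h : SPB X μ ⊤ κ) :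
    LinearMap.det X = μ ^ Fintype.card κ := by
  classical
  obtain ⟨e, f, α, β, γ, δ, hli, hsp, he, hf, hμ⟩ := h
  have hsp' : ⊤ ≤ span F (Set.range (Sum.elim e f)) := by rw [hsp]
  let bb : Basis (κ ⊕ κ) F V := Basis.mk hli hsp'
  have hbbl : ∀ j, bb (Sum.inl j) = e j := fun j => by
    show Basis.mk hli hsp' (Sum.inl j) = _
    rw [Basis.mk_apply]
    rfl
  have hbbr : ∀ j, bb (Sum.inr j) = f j := fun j => by
    show Basis.mk hli hsp' (Sum.inr j) = _
    rw [Basis.mk_apply]
    rfl
  have hM : LinearMap.toMatrix bb bb X = fromBlocks (diagonal α) (diagonal β)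
      (diagonal γ) (diagonal δ) := by
    ext i j
    rw [LinearMap.toMatrix_apply]
    rcases j with j | j
    · have h1 : X (bb (Sum.inl j)) = α j • bb (Sum.inl j) + γ j • bb (Sum.inr j) := by
        rw [hbbl, hbbr]
        exact he j
      rw [h1, map_add, map_smul, map_smul, Basis.repr_self, Basis.repr_self]
      rcases i with i | i
      · by_cases hij : i = j
        · subst hij
          simp
        · simp [hij]
      · by_cases hij : i = j
        · subst hij
          simp
        · simp [hij]
    · have h1 : X (bb (Sum.inr j)) = β j • bb (Sum.inl j) + δ j • bb (Sum.inr j) := by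
        rw [hbbl, hbbr]
        exact hf j
      rw [h1, map_add, map_smul, map_smul, Basis.repr_self, Basis.repr_self]
      rcases i with i | i
      · by_cases hij : i = j
        · subst hij
          simp
        · simp [hij]
      · by_cases hij : i = j
        · subst hij
          simp
        · simp [hij]
  rw [← LinearMap.det_toMatrix bb X, hM, det_blocks_diag, Finset.prod_congr rfl (fun j _ => hμ j),
    Finset.prod_const, Finset.card_univ]

end det

section typeI

variable {F V : Type*} [Field F] [AddCommGroup V] [Module F V] [FiniteDimensional F V]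

/-- the determinant of an element of irreducible type -/
theorem typeI_det (X : V →ₗ[F] V) (z : F) (hz : z ≠ 0) (h2 : (2 : F) ≠ 0)
    (hX : X ^ 2 = z • (1 : V →ₗ[F] V))
    (hirr : Irreducible (Polynomial.X ^ 2 - C z : F[X])) (m : ℕ) (hV : finrank F V = 2 * m) :
    LinearMap.det X = (-z) ^ m := by
  obtain ⟨κ, hκf, hκ, hS⟩ := typeI_SPB X z hz h2 hX hirr m ⊤
    (Module.End.invtSubmodule.top_mem X) (by rw [finrank_top, hV])
  rw [SPB.det_eq X (-z) hS, hκ]

/-- the dimension is even for the irreducible type with determinant one -/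
theorem typeI_even (X : V →ₗ[F] V) (z : F) (hsq : ¬ IsSquare z)
    (hX : X ^ 2 = z • (1 : V →ₗ[F] V)) (hdet : LinearMap.det X = 1) :
    Even (finrank F V) := by
  rw [← Nat.not_odd_iff_even]
  rintro ⟨t, ht⟩
  apply hsq
  have h1 := congrArg LinearMap.det hX
  rw [map_pow, hdet, LinearMap.det_smul, map_one, mul_one, one_pow, ht] at h1
  have hz0 : z ≠ 0 := by
    rintro rfl
    apply hsq
    exact ⟨0, by rw [mul_zero]⟩
  -- `1 = z^(2t+1)` gives `z = (z^t)⁻¹ ^ 2`
  refine ⟨(z ^ t)⁻¹, ?_⟩
  have h3 : z ^ t ≠ 0 := pow_ne_zero _ hz0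
  field_simp
  rw [h1]
  ring

end typeI

section nt

variable {F : Type*} [Field F] [Fintype F]

/-- no non-square `z` with `(-z)^m = 1` when `v_2(2m) ≤ v_2(q-1)` and `q ≡ 1 mod 4` -/
theorem no_typeI (h2 : (2 : F) ≠ 0) (hq4 : Fintype.card F % 4 = 1) (z : F) (hz : ¬ IsSquare z)
    (m : ℕ) (hm : m ≠ 0) (hdet : (-z) ^ m = 1)
    (hv : padicValNat 2 (2 * m) ≤ padicValNat 2 (Fintype.card F - 1)) : False := by
  have hchar : ringChar F ≠ 2 := by
    intro hch
    apply h2
    have := ringChar.Nat.cast_ringChar (R := F)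
    rw [hch] at this
    exact_mod_cast this
  have hi : IsSquare (-1 : F) := by
    rw [FiniteField.isSquare_neg_one_iff]
    omega
  obtain ⟨i, hi⟩ := hi
  have hy : ¬ IsSquare (-z) := by
    rintro ⟨s, hs⟩
    apply hz
    refine ⟨i * s, ?_⟩
    have : (i * s) * (i * s) = (i * i) * (s * s) := by ring
    rw [this, ← hi, ← hs]
    ring
  have hy0 : -z ≠ 0 := by
    intro h0
    apply hy
    rw [h0]
    exact ⟨0, by rw [mul_zero]⟩
  set h := Fintype.card F / 2 with hh
  have hyh : (-z) ^ h = -1 := by
    rcases FiniteField.pow_dichotomy hchar hy0 with h1 | h1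
    · exact absurd ((FiniteField.isSquare_iff hchar hy0).mpr h1) hy
    · exact h1
  have hcard : Fintype.card F - 1 = 2 * h := by omega
  have hh0 : h ≠ 0 := by
    have := Fintype.one_lt_card (α := F)
    omega
  -- 2-adic bookkeeping
  have hv1 : padicValNat 2 (2 * m) = 1 + padicValNat 2 m := by
    rw [padicValNat.mul (by norm_num) hm, padicValNat_self]
  have hv2 : padicValNat 2 (2 * h) = 1 + padicValNat 2 h := by
    rw [padicValNat.mul (by norm_num) hh0, padicValNat_self]
  rw [hcard, hv1, hv2] at hv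
  set a := padicValNat 2 m with ha
  obtain ⟨m', hm'⟩ := pow_padicValNat_dvd (p := 2) (n := m)
  rw [← ha] at hm'
  have hodd : Odd m' := by
    rw [← Nat.not_even_iff_odd, even_iff_two_dvd]
    rintro ⟨t, ht⟩
    apply pow_succ_padicValNat_not_dvd (p := 2) hm
    rw [← ha, hm', ht, pow_succ]
    exact ⟨t, by ring⟩
  have hdvd : 2 ^ a ∣ h := (padicValNat_dvd_iff_le hh0).mpr (by omega)
  obtain ⟨h', hh'⟩ := hdvd
  have h5 : ((-z) ^ h) ^ m' = 1 := by
    rw [← pow_mul, hh']
    have : 2 ^ a * h' * m' = m * h' := by rw [hm']; ring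
    rw [this, pow_mul, hdet, one_pow]
  rw [hyh, hodd.neg_one_pow] at h5
  apply h2
  have : (1 : F) + 1 = 0 := by
    nth_rewrite 1 [← h5]
    exact neg_add_cancel 1
  rw [← one_add_one_eq_two]
  exact this

end nt

end Cfsg.Agent.Lib.Helper15.PSubf
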