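import Mathlib
import Cfsg.Agent.Lib.Helper3.CardSL
import Cfsg.Agent.Lib.Helper15.PSubf3

/-!
# The index of the subfield subgroup of odd degree is odd; elements of a subfield of index two
are squares
-/

set_option autoImplicit false

namespace Cfsg.Agent.Lib.Helper15.PSubf

open Module Submodule Cfsg.Agent.Lib.Helper15.PSub Cfsg.Agent.Lib.Helper15.PInv
  Cfsg.Agent.Lib.Helper13

section arith

theorem geom_pred (b k : ℕ) : b * (∑ t ∈ Finset.range k, (b + 1) ^ t) + 1 = (b + 1) ^ k := by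
  induction k with
  | zero => simp
  | succ k ih =>
    rw [Finset.sum_range_succ, mul_add, pow_succ]
    calc b * ∑ t ∈ Finset.range k, (b + 1) ^ t + b * (b + 1) ^ k + 1
        = (b * ∑ t ∈ Finset.range k, (b + 1) ^ t + 1) + b * (b + 1) ^ k := by ring
      _ = (b + 1) ^ k + b * (b + 1) ^ k := by rw [ih]
      _ = (b + 1) ^ k * (b + 1) := by ring

theorem geom_mod_two (a k : ℕ) (ha : a % 2 = 1) :
    (∑ t ∈ Finset.range k, a ^ t) % 2 = k % 2 := by
  induction k with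
  | zero => simp
  | succ k ih =>
    rw [Finset.sum_range_succ, Nat.add_mod, ih, Nat.pow_mod, ha, one_pow]
    omega

/-- `a^k - 1 = (a - 1) * odd` for `a`, `k` odd -/
theorem pow_sub_one_odd (a k : ℕ) (ha : a % 2 = 1) (hk : k % 2 = 1) :
    ∃ o, o % 2 = 1 ∧ a ^ k - 1 = (a - 1) * o := by
  obtain ⟨b, rfl⟩ : ∃ b, a = b + 1 := ⟨a - 1, by omega⟩
  refine ⟨∑ t ∈ Finset.range k, (b + 1) ^ t, ?_, ?_⟩
  · rw [geom_mod_two (b + 1) k ha, hk]
  · have := geom_pred b k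
    rw [← this]
    simp

theorem odd_factor (q₀ k n i : ℕ) (hq₀ : q₀ % 2 = 1) (hk : k % 2 = 1) (hi : i < n) :
    ∃ o, o % 2 = 1 ∧ (q₀ ^ k) ^ n - (q₀ ^ k) ^ i = (q₀ ^ n - q₀ ^ i) * o := by
  obtain ⟨d, rfl⟩ : ∃ d, n = i + d := ⟨n - i, by omega⟩
  have ha : (q₀ ^ d) % 2 = 1 := by rw [Nat.pow_mod, hq₀, one_pow]; rfl
  obtain ⟨o, ho, hoe⟩ := pow_sub_one_odd (q₀ ^ d) k ha hk
  refine ⟨q₀ ^ ((k - 1) * i) * o, ?_, ?_⟩
  · rw [Nat.mul_mod, ho, Nat.pow_mod, hq₀, one_pow]; rfl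
  · have h1 : (q₀ ^ k) ^ (i + d) - (q₀ ^ k) ^ i = (q₀ ^ k) ^ i * ((q₀ ^ d) ^ k - 1) := by
      rw [Nat.mul_sub, mul_one, pow_add, ← pow_mul q₀ d k, ← pow_mul q₀ k d, mul_comm d k]
    have h2 : q₀ ^ (i + d) - q₀ ^ i = q₀ ^ i * (q₀ ^ d - 1) := by
      rw [Nat.mul_sub, mul_one, pow_add]
    have h3 : (q₀ ^ k) ^ i = q₀ ^ i * q₀ ^ ((k - 1) * i) := by
      rw [← pow_mul, ← pow_add]
      congr 1
      obtain ⟨k', rfl⟩ : ∃ k', k = k' + 1 := ⟨k - 1, by omega⟩
      rw [Nat.add_sub_cancel]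
      ring
    rw [h1, h2, hoe, h3]
    ring

theorem prod_odd_factor (q₀ k n : ℕ) (hq₀ : q₀ % 2 = 1) (hk : k % 2 = 1) :
    ∃ O, O % 2 = 1 ∧ ∏ i : Fin n, ((q₀ ^ k) ^ n - (q₀ ^ k) ^ (i : ℕ)) =
      (∏ i : Fin n, (q₀ ^ n - q₀ ^ (i : ℕ))) * O := by
  choose o ho hoe using fun i : Fin n => odd_factor q₀ k n i hq₀ hk i.2
  refine ⟨∏ i, o i, ?_, ?_⟩
  · have : Odd (∏ i, o i) := by
      apply Finset.prod_induction _ Odd (fun a b => Odd.mul) odd_one
      intro i _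
      exact Nat.odd_iff.mpr (ho i)
    exact Nat.odd_iff.mp this
  · rw [← Finset.prod_mul_distrib]
    exact Finset.prod_congr rfl (fun i _ => hoe i)

end arith

section index

variable {F : Type*} [Field F] [Fintype F] {n : ℕ}

omit [Fintype F] in
theorem map_mem_subf (F₀ : Subfield F) (Y : Matrix.SpecialLinearGroup (Fin n) F₀) :
    Matrix.SpecialLinearGroup.map (F₀.subtype : F₀ →+* F) Y ∈
      ((Cfsg.Geo.subfieldSubgroup F₀ 1).comap
        (Matrix.SpecialLinearGroup.toGL : Matrix.SpecialLinearGroup (Fin n) F →* GL (Fin n) F)) := by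
  rw [Subgroup.mem_comap]
  apply mem_subfieldSubgroup_of_eq F₀ 1 _ 1 one_ne_zero (Y : Matrix (Fin n) (Fin n) F₀)
  rw [inv_one, one_mul, mul_one, one_smul]
  rfl

omit [Fintype F] in
theorem map_SL_injective (F₀ : Subfield F) :
    Function.Injective (Matrix.SpecialLinearGroup.map (n := Fin n) (F₀.subtype : F₀ →+* F)) := by
  intro Y₁ Y₂ h
  apply Subtype.ext
  ext i j
  have h1 := congrArg (fun Z : Matrix.SpecialLinearGroup (Fin n) F =>
    (Z : Matrix (Fin n) (Fin n) F) i j) h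
  exact h1

/-- for `q` odd and `q = q₀^k` with `k` odd the index of the subfield subgroup in `SL_n(q)` is
odd -/
theorem odd_index_subf (hn : 0 < n) (F₀ : Subfield F) (k q₀ : ℕ) (hF₀ : Nat.card ↥F₀ = q₀)
    (hqk : Fintype.card F = q₀ ^ k) (hq₀ : q₀ % 2 = 1) (hk : k % 2 = 1) :
    ¬ 2 ∣ ((Cfsg.Geo.subfieldSubgroup F₀ 1).comap
      (Matrix.SpecialLinearGroup.toGL :
        Matrix.SpecialLinearGroup (Fin n) F →* GL (Fin n) F)).index := by
  classical
  have : Fintype ↥F₀ := Fintype.ofFinite _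
  have hF₀' : Fintype.card ↥F₀ = q₀ := by rw [← Nat.card_eq_fintype_card]; exact hF₀
  set H := ((Cfsg.Geo.subfieldSubgroup F₀ 1).comap
      (Matrix.SpecialLinearGroup.toGL :
        Matrix.SpecialLinearGroup (Fin n) F →* GL (Fin n) F)) with hH
  set S₀ := (Matrix.SpecialLinearGroup.map (n := Fin n) (F₀.subtype : F₀ →+* F)).range with hS₀
  have hle : S₀ ≤ H := by
    rintro _ ⟨Y, rfl⟩
    exact map_mem_subf F₀ Y
  have hdvd : H.index ∣ S₀.index := Subgroup.index_dvd_of_le hle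
  have hcardS₀ : Nat.card S₀ = Nat.card (Matrix.SpecialLinearGroup (Fin n) F₀) :=
    (Nat.card_congr (MonoidHom.ofInjective (map_SL_injective F₀)).toEquiv).symm
  have hlag := Subgroup.index_mul_card S₀
  rw [hcardS₀] at hlag
  -- the two order formulas
  have hN := Cfsg.Agent.Lib.Helper3.CardSL.card_GL_eq_card_SL_mul (F := F) n hn
  rw [Matrix.card_GL_field, Nat.card_units, Nat.card_eq_fintype_card (α := F), hqk] at hN
  have hN₀ := Cfsg.Agent.Lib.Helper3.CardSL.card_GL_eq_card_SL_mul (F := ↥F₀) n hn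
  rw [Matrix.card_GL_field, Nat.card_units, Nat.card_eq_fintype_card (α := ↥F₀), hF₀'] at hN₀
  obtain ⟨O, hO, hprod⟩ := prod_odd_factor q₀ k n hq₀ hk
  obtain ⟨o', ho', hq1⟩ := pow_sub_one_odd q₀ k hq₀ hk
  rw [hprod, hN₀, hq1, ← hlag] at hN
  -- `hN : N₀ * (q₀ - 1) * O = I * N₀ * ((q₀ - 1) * o')`
  have hpos : 0 < Nat.card (Matrix.SpecialLinearGroup (Fin n) ↥F₀) * (q₀ - 1) := by
    apply Nat.mul_pos Nat.card_pos
    have : 1 < q₀ := by
      rw [← hF₀']
      exact Fintype.one_lt_card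
    omega
  have h5 : O = S₀.index * o' := by
    apply Nat.eq_of_mul_eq_mul_left hpos
    rw [hN]
    ring
  intro h2
  have h6 : 2 ∣ S₀.index := dvd_trans h2 hdvd
  obtain ⟨t, ht⟩ := h6
  rw [ht] at h5
  rw [h5, Nat.mul_assoc, Nat.mul_mod_right] at hO
  omega

/-- the elements of a subfield of index two are squares (odd characteristic) -/
theorem isSquare_of_mem_subfield (h2 : (2 : F) ≠ 0) (F₀ : Subfield F) (q₀ : ℕ)
    (hF₀ : Nat.card ↥F₀ = q₀) (hq : Fintype.card F = q₀ ^ 2) (a : ↥F₀) : IsSquare (a : F) := by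
  classical
  have : Fintype ↥F₀ := Fintype.ofFinite _
  have hF₀' : Fintype.card ↥F₀ = q₀ := by rw [← Nat.card_eq_fintype_card]; exact hF₀
  have hchar : ringChar F ≠ 2 := by
    intro hch
    apply h2
    have := ringChar.Nat.cast_ringChar (R := F)
    rw [hch] at this
    exact_mod_cast this
  by_cases ha : a = 0
  · rw [ha]
    exact ⟨0, by simp⟩
  have ha' : (a : F) ≠ 0 := fun h => ha (Subtype.ext h)
  rw [FiniteField.isSquare_iff hchar ha']
  have h1 : a ^ (q₀ - 1) = 1 := by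
    rw [← hF₀']
    exact FiniteField.pow_card_sub_one_eq_one a ha
  have h1' : (a : F) ^ (q₀ - 1) = 1 := by
    have := congrArg (fun t : ↥F₀ => (t : F)) h1
    simpa using this
  have hodd : Fintype.card F % 2 = 1 := FiniteField.odd_card_of_char_ne_two hchar
  have hq₀odd : q₀ % 2 = 1 := by
    rw [hq, Nat.pow_mod] at hodd
    rcases Nat.mod_two_eq_zero_or_one q₀ with h | h
    · rw [h] at hodd
      simp at hodd
    · exact h
  obtain ⟨s, hs⟩ : ∃ s, q₀ = 2 * s + 1 := ⟨q₀ / 2, by omega⟩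
  have h3 : Fintype.card F / 2 = (q₀ - 1) * (s + 1) := by
    rw [hq, hs]
    have : (2 * s + 1) ^ 2 = 2 * ((2 * s + 1 - 1) * (s + 1)) + 1 := by
      rw [Nat.add_sub_cancel]
      ring
    rw [this]
    omega
  rw [h3, pow_mul, h1', one_pow]

end index

end Cfsg.Agent.Lib.Helper15.PSubf
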