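import Mathlib
import Cfsg.Agent.Lib.Helper15.PSubf4

/-!
# Involutions of `PSL_n(q)` and subfield subgroups: the two directions
-/

set_option autoImplicit false

namespace Cfsg.Agent.Lib.Helper15.PSubf

open Module Submodule Polynomial Cfsg.Agent.Lib.Helper15.PSub Cfsg.Agent.Lib.Helper15.PInv
  Cfsg.Agent.Lib.Helper13

section main

variable {F : Type*} [Field F] [Fintype F] {n : ℕ}

theorem good_subf (hn : 0 < n) (F₀ : Subfield F)
    (x : Matrix.SpecialLinearGroup (Fin n) F) (z : F)
    (hx2 : ((x ^ 2 : Matrix.SpecialLinearGroup (Fin n) F) : Matrix (Fin n) (Fin n) F) =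
      z • (1 : Matrix (Fin n) (Fin n) F))
    (hns : ∀ z : F, (x : Matrix (Fin n) (Fin n) F) ≠ z • (1 : Matrix (Fin n) (Fin n) F))
    (hodd : (2 : F) ≠ 0 → ∃ q₀ : ℕ, Fintype.card F = q₀ ^ 2 ∧
      padicValNat 2 n ≤ padicValNat 2 (Fintype.card F - 1)) :
    ∃ P : Matrix.SpecialLinearGroup (Fin n) F, P⁻¹ * x * P ∈
      ((Cfsg.Geo.subfieldSubgroup F₀ 1).comap
        (Matrix.SpecialLinearGroup.toGL : Matrix.SpecialLinearGroup (Fin n) F →* GL (Fin n) F)) := by
  classical
  set X := Matrix.toLin' (x : Matrix (Fin n) (Fin n) F) with hXdef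
  have hX2 : X ^ 2 = z • (1 : (Fin n → F) →ₗ[F] (Fin n → F)) := (pow_SL_iff x 2 z).mp hx2
  have hXns : ∀ c : F, X ≠ c • (1 : (Fin n → F) →ₗ[F] (Fin n → F)) := fun c hc =>
    hns c ((scalar_SL_iff x c).mpr hc)
  have hdetX : LinearMap.det X = 1 := det_toLin'_SL x
  have hV : finrank F (Fin n → F) = n := Module.finrank_fin_fun F
  have hV0 : finrank F (Fin n → F) ≠ 0 := by rw [hV]; omega
  have hz : z ≠ 0 := by
    rintro rfl
    have h1 := congrArg LinearMap.det hX2
    rw [map_pow, hdetX, LinearMap.det_smul, hV, zero_pow (by omega), zero_mul] at h1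
    simp at h1
  -- the final step
  have fin : ∀ (w : F) (hw : w ≠ 0) (κ : Type) (_ : Fintype κ),
      Fintype.card κ = finrank F (Fin n → F) → RB F₀ X w ⊤ κ →
      (∀ δ : F, δ ≠ 0 → ∃ C : (Fin n → F) →ₗ[F] (Fin n → F), C ∘ₗ X = X ∘ₗ C ∧
        LinearMap.det C = δ) →
      ∃ P : Matrix.SpecialLinearGroup (Fin n) F, P⁻¹ * x * P ∈
        ((Cfsg.Geo.subfieldSubgroup F₀ 1).comap
          (Matrix.SpecialLinearGroup.toGL :
            Matrix.SpecialLinearGroup (Fin n) F →* GL (Fin n) F)) := by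
    intro w hw κ _ hκ hS hcent
    obtain ⟨b, M, hM⟩ := hS.toFin n (by rw [hκ, hV])
    exact conj_mem_subf F₀ x b w hw M hM hcent
  by_cases h2 : (2 : F) = 0
  · obtain ⟨w, hw⟩ := FiniteField.isSquare_of_char_two (CharP.ringChar_of_prime_eq_zero
      Nat.prime_two h2) z
    have hw0 : w ≠ 0 := by
      rintro rfl
      apply hz
      rw [hw, mul_zero]
    have hX2' : X ^ 2 = (w * w) • (1 : (Fin n → F) →ₗ[F] (Fin n → F)) := by rw [← hw]; exact hX2
    obtain ⟨κ, hκf, hκ, hS⟩ := typeU_RB F₀ X w hw0 h2 hX2'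
    refine fin w hw0 κ hκf hκ hS ?_
    intro δ _
    obtain ⟨lam, hlam⟩ := FiniteField.isSquare_of_char_two (CharP.ringChar_of_prime_eq_zero
      Nat.prime_two h2) δ
    exact typeU_cent X w h2 hX2' (hXns w) δ ⟨lam, hlam.symm⟩
  · by_cases hsq : IsSquare z
    · obtain ⟨w, hw⟩ := hsq
      have hw0 : w ≠ 0 := by
        rintro rfl
        apply hz
        rw [hw, mul_zero]
      have hX2' : X ^ 2 = (w * w) • (1 : (Fin n → F) →ₗ[F] (Fin n → F)) := by
        rw [← hw]; exact hX2
      obtain ⟨κ, hκf, hκ, hS⟩ := typeD_RB F₀ X w hw0 h2 hX2'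
      refine fin w hw0 κ hκf hκ hS ?_
      intro δ _
      exact typeD_cent X w hw0 h2 hX2' hV0 δ
    · exfalso
      obtain ⟨q₀, hq, hv⟩ := hodd h2
      have hirr : Irreducible (Polynomial.X ^ 2 - C z : F[X]) := by
        apply X_pow_sub_C_irreducible_of_prime Nat.prime_two
        intro b hb
        apply hsq
        exact ⟨b, by rw [← hb, pow_two]⟩
      obtain ⟨m, hm⟩ := typeI_even X z hsq hX2 hdetX
      have hVm : finrank F (Fin n → F) = 2 * m := by omega
      have hdet := typeI_det X z hz h2 hX2 hirr m hVm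
      rw [hdetX] at hdet
      have hchar : ringChar F ≠ 2 := by
        intro hch
        apply h2
        have := ringChar.Nat.cast_ringChar (R := F)
        rw [hch] at this
        exact_mod_cast this
      have hcodd : Fintype.card F % 2 = 1 := FiniteField.odd_card_of_char_ne_two hchar
      have hq4 : Fintype.card F % 4 = 1 := by
        have hq₀odd : q₀ % 2 = 1 := by
          rw [hq, Nat.pow_mod] at hcodd
          rcases Nat.mod_two_eq_zero_or_one q₀ with h | h
          · rw [h] at hcodd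
            simp at hcodd
          · exact h
        obtain ⟨s, hs⟩ : ∃ s, q₀ = 2 * s + 1 := ⟨q₀ / 2, by omega⟩
        rw [hq, hs]
        have : (2 * s + 1) ^ 2 = 4 * (s * s + s) + 1 := by ring
        rw [this]
        omega
      have hnm : n = 2 * m := by rw [← hV]; exact hVm
      apply no_typeI h2 hq4 z hsq m (by omega) hdet.symm
      rw [← hnm]
      exact hv

theorem bad_subf (hn : n ≠ 0) (h2 : (2 : F) ≠ 0) (F₀ : Subfield F) (q₀ : ℕ)
    (hF₀ : Nat.card ↥F₀ = q₀) (hq : Fintype.card F = q₀ ^ 2)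
    (hv : padicValNat 2 (Fintype.card F - 1) < padicValNat 2 n) :
    ∃ x : Matrix.SpecialLinearGroup (Fin n) F,
      (∃ z : F, ((x ^ 2 : Matrix.SpecialLinearGroup (Fin n) F) : Matrix (Fin n) (Fin n) F) =
        z • (1 : Matrix (Fin n) (Fin n) F)) ∧
      (∀ z : F, (x : Matrix (Fin n) (Fin n) F) ≠ z • (1 : Matrix (Fin n) (Fin n) F)) ∧
      ∀ P : Matrix.SpecialLinearGroup (Fin n) F, P⁻¹ * x * P ∉
        ((Cfsg.Geo.subfieldSubgroup F₀ 1).comap
          (Matrix.SpecialLinearGroup.toGL :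
            Matrix.SpecialLinearGroup (Fin n) F →* GL (Fin n) F)) := by
  classical
  have hchar : ringChar F ≠ 2 := by
    intro hch
    apply h2
    have := ringChar.Nat.cast_ringChar (R := F)
    rw [hch] at this
    exact_mod_cast this
  have hcodd : Fintype.card F % 2 = 1 := FiniteField.odd_card_of_char_ne_two hchar
  have hrq : 2 ∣ Fintype.card F - 1 := by omega
  obtain ⟨X, hdet, ⟨c, hXc⟩, hXns, hXinv⟩ := bad_i1 (F := F) 2 Nat.prime_two hrq n hn
    (by
      rintro ⟨h1, -⟩
      omega)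
  have hc0 : c ≠ 0 := by
    rintro rfl
    have h1 := congrArg LinearMap.det hXc
    rw [map_pow, hdet, LinearMap.det_smul, Module.finrank_fin_fun, zero_pow hn, zero_mul] at h1
    simp at h1
  -- `c` is not a square
  have hcns : ¬ IsSquare c := by
    rintro ⟨w, hw⟩
    have hXX : ∀ v, X (X v) = (w * w) • v := by
      intro v
      have := LinearMap.congr_fun hXc v
      rw [pow_two, Module.End.mul_apply] at this
      rw [this, hw]
      rfl
    obtain ⟨v, hv0⟩ : ∃ v, X v + w • v ≠ 0 := by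
      by_contra hall
      apply hXns (-w)
      apply LinearMap.ext
      intro v
      have := not_exists.mp hall v
      rw [not_not] at this
      rw [LinearMap.smul_apply, Module.End.one_apply, neg_smul]
      exact eq_neg_of_add_eq_zero_left this
    set u := X v + w • v with hu
    have hXu : X u = w • u := by
      rw [hu, map_add, map_smul, hXX, smul_add, smul_smul]
      abel
    have hinv : span F {u} ∈ Module.End.invtSubmodule X := by
      rw [Module.End.mem_invtSubmodule]
      intro y hy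
      obtain ⟨a, rfl⟩ := Submodule.mem_span_singleton.mp hy
      rw [Submodule.mem_comap, map_smul, hXu]
      exact Submodule.smul_mem _ _ (Submodule.smul_mem _ _ (Submodule.mem_span_singleton_self u))
    have := hXinv _ hinv
    rw [finrank_span_singleton hv0] at this
    omega
  refine ⟨toSL X hdet, ⟨c, ?_⟩, ?_, ?_⟩
  · rw [pow_SL_iff, toLin'_toSL]
    exact hXc
  · intro z hz
    rw [scalar_SL_iff, toLin'_toSL] at hz
    exact hXns z hz
  · intro P hP
    rw [Subgroup.mem_comap] at hP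
    obtain ⟨l, B, hlB⟩ := exists_eq_of_mem_subfieldSubgroup F₀ 1 _ hP
    rw [inv_one, one_mul, mul_one] at hlB
    set S := toSL X hdet with hS
    have hS2 : ((S ^ 2 : Matrix.SpecialLinearGroup (Fin n) F) : Matrix (Fin n) (Fin n) F) =
        c • (1 : Matrix (Fin n) (Fin n) F) := by
      rw [pow_SL_iff, hS, toLin'_toSL]
      exact hXc
    have hconj2 : (P⁻¹ * S * P) ^ 2 = P⁻¹ * S ^ 2 * P := by
      rw [pow_two, pow_two]
      simp only [mul_assoc, mul_inv_cancel_left]
    have h3 : (((P⁻¹ * S * P) ^ 2 : Matrix.SpecialLinearGroup (Fin n) F) :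
        Matrix (Fin n) (Fin n) F) = c • (1 : Matrix (Fin n) (Fin n) F) := by
      rw [hconj2, Matrix.SpecialLinearGroup.coe_mul, Matrix.SpecialLinearGroup.coe_mul, hS2,
        Matrix.mul_smul, Matrix.mul_one, Matrix.smul_mul, ← Matrix.SpecialLinearGroup.coe_mul,
        inv_mul_cancel, Matrix.SpecialLinearGroup.coe_one]
    have h4 : ((P⁻¹ * S * P : Matrix.SpecialLinearGroup (Fin n) F) :
        Matrix (Fin n) (Fin n) F) = l • rmat F₀ B := hlB
    rw [Matrix.SpecialLinearGroup.coe_pow, h4, pow_two, Matrix.smul_mul, Matrix.mul_smul,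
      smul_smul] at h3
    have h5 : rmat F₀ B * rmat F₀ B = rmat F₀ (B * B) := by
      unfold rmat
      rw [Matrix.map_mul]
    rw [h5] at h3
    let i₀ : Fin n := ⟨0, Nat.pos_of_ne_zero hn⟩
    have h6 := congrFun (congrFun h3 i₀) i₀
    rw [Matrix.smul_apply, Matrix.smul_apply, Matrix.one_apply_eq, smul_eq_mul, smul_eq_mul,
      mul_one] at h6
    obtain ⟨s, hs⟩ := isSquare_of_mem_subfield h2 F₀ q₀ hF₀ hq ((B * B) i₀ i₀)
    apply hcns
    refine ⟨l * s, ?_⟩
    rw [← h6]
    have : rmat F₀ (B * B) i₀ i₀ = (((B * B) i₀ i₀ : ↥F₀) : F) := rfl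
    rw [this, hs]
    ring

end main

end Cfsg.Agent.Lib.Helper15.PSubf
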