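import Mathlib
import Cfsg.Agent.Lib.Helper15.PSubf5

/-!
# Nilpotent operators: cyclic subspaces of maximal length and invariant complements
-/

set_option autoImplicit false

namespace Cfsg.Agent.Lib.Helper15.PJor

open Module Submodule

section nil

variable {K V : Type*} [Field K] [AddCommGroup V] [Module K V]

theorem pow_apply_eq_zero_of_le (N : V →ₗ[K] V) (v : V) (e m : ℕ) (h0 : (N ^ e) v = 0)
    (hm : e ≤ m) : (N ^ m) v = 0 := by
  obtain ⟨d, rfl⟩ := Nat.exists_eq_add_of_le hm
  rw [add_comm, pow_add, Module.End.mul_apply, h0, map_zero]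

/-- coefficients of a combination of `N^j v` detected by a functional -/
theorem coeff_zero (N : V →ₗ[K] V) (v : V) (e : ℕ) (h0 : (N ^ e) v = 0)
    (g : V →ₗ[K] K) (hg : g ((N ^ (e - 1)) v) ≠ 0) (a : Fin e → K)
    (h : ∀ m : ℕ, m < e → g ((N ^ m) (∑ j : Fin e, a j • (N ^ (j : ℕ)) v)) = 0) :
    ∀ j : Fin e, a j = 0 := by
  classical
  have key : ∀ m : ℕ, ∀ j : Fin e, (j : ℕ) = m → a j = 0 := by
    intro m
    induction m using Nat.strong_induction_on with
    | _ m ih =>
      intro j₀ hj₀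
      have hlt : e - 1 - m < e := by
        have := j₀.2
        omega
      have h1 := h (e - 1 - m) hlt
      rw [map_sum, map_sum] at h1
      rw [Finset.sum_eq_single j₀] at h1
      · rw [map_smul, map_smul, ← Module.End.mul_apply, ← pow_add] at h1
        have h2 : e - 1 - m + (j₀ : ℕ) = e - 1 := by
          have := j₀.2
          omega
        rw [h2, smul_eq_mul] at h1
        exact (mul_eq_zero.mp h1).resolve_right hg
      · intro j _ hj
        rcases Nat.lt_or_ge (j : ℕ) m with hlt' | hge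
        · rw [ih (j : ℕ) hlt' j rfl, zero_smul, map_zero, map_zero]
        · have hne : (j : ℕ) ≠ m := by
            intro h3
            apply hj
            apply Fin.ext
            rw [h3, hj₀]
          have hgt : m < (j : ℕ) := by omega
          rw [map_smul, ← Module.End.mul_apply, ← pow_add,
            pow_apply_eq_zero_of_le N v e _ h0 (by omega), smul_zero, map_zero]
      · intro h3
        exact absurd (Finset.mem_univ j₀) h3
  intro j
  exact key (j : ℕ) j rfl

/-- powers of a vector under a nilpotent operator are linearly independent -/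
theorem cyc_li (N : V →ₗ[K] V) (v : V) (e : ℕ) (h0 : (N ^ e) v = 0)
    (h1 : (N ^ (e - 1)) v ≠ 0) :
    LinearIndependent K (fun j : Fin e => (N ^ (j : ℕ)) v) := by
  rw [Fintype.linearIndependent_iff]
  intro a ha
  obtain ⟨g, hg⟩ : ∃ g : V →ₗ[K] K, g ((N ^ (e - 1)) v) ≠ 0 := by
    by_contra hall
    apply h1
    rw [← Module.forall_dual_apply_eq_zero_iff K]
    intro g
    by_contra hne
    exact hall ⟨g, hne⟩
  apply coeff_zero N v e h0 g hg a
  intro m _
  rw [ha, map_zero, map_zero]

variable [FiniteDimensional K V]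

/-- **Invariant complement** of a cyclic subspace of maximal length -/
theorem exists_invt_compl (N : V →ₗ[K] V) (W : Submodule K V) (hW : ∀ w ∈ W, N w ∈ W) (e : ℕ)
    (he : 1 ≤ e) (hWe : ∀ w ∈ W, (N ^ e) w = 0) (v : V) (hv : v ∈ W)
    (h1 : (N ^ (e - 1)) v ≠ 0) :
    ∃ W' : Submodule K V, W' ≤ W ∧ (∀ w ∈ W', N w ∈ W') ∧
      Disjoint (span K (Set.range (fun j : Fin e => (N ^ (j : ℕ)) v))) W' ∧
      span K (Set.range (fun j : Fin e => (N ^ (j : ℕ)) v)) ⊔ W' = W ∧
      finrank K W = e + finrank K W' := by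
  classical
  obtain ⟨g, hg⟩ : ∃ g : V →ₗ[K] K, g ((N ^ (e - 1)) v) ≠ 0 := by
    by_contra hall
    apply h1
    rw [← Module.forall_dual_apply_eq_zero_iff K]
    intro g
    by_contra hne
    exact hall ⟨g, hne⟩
  have h0 : (N ^ e) v = 0 := hWe v hv
  obtain ⟨Φ, hΦ⟩ : ∃ Φ : V →ₗ[K] (Fin e → K), ∀ w j, Φ w j = g ((N ^ (j : ℕ)) w) :=
    ⟨LinearMap.pi (fun j : Fin e => g ∘ₗ (N ^ (j : ℕ))), fun w j => rfl⟩
  have hpowW : ∀ (m : ℕ) (w : V), w ∈ W → (N ^ m) w ∈ W := by
    intro m
    induction m with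
    | zero => intro w hw; simpa using hw
    | succ m ih =>
      intro w hw
      rw [pow_succ, Module.End.mul_apply]
      exact ih _ (hW w hw)
  obtain ⟨Z, hZ⟩ : ∃ Z : Submodule K V,
      Z = span K (Set.range (fun j : Fin e => (N ^ (j : ℕ)) v)) := ⟨_, rfl⟩
  have hZW : Z ≤ W := by
    rw [hZ, Submodule.span_le]
    rintro _ ⟨j, rfl⟩
    exact hpowW _ v hv
  obtain ⟨W', hW'⟩ : ∃ W' : Submodule K V, W' = W ⊓ LinearMap.ker Φ := ⟨_, rfl⟩
  have hdisj : Disjoint Z W' := by
    rw [Submodule.disjoint_def]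
    intro z hzZ hzW'
    rw [hZ] at hzZ
    obtain ⟨a, rfl⟩ := (Submodule.mem_span_range_iff_exists_fun K).mp hzZ
    rw [hW'] at hzW'
    have hker : Φ (∑ j : Fin e, a j • (N ^ (j : ℕ)) v) = 0 := LinearMap.mem_ker.mp hzW'.2
    have ha := coeff_zero N v e h0 g hg a (fun m hm => by
      have := congrFun hker ⟨m, hm⟩
      rw [hΦ] at this
      exact this)
    apply Finset.sum_eq_zero
    intro j _
    rw [ha j, zero_smul]
  have hZdim : finrank K Z = e := by
    rw [hZ, finrank_span_eq_card (cyc_li N v e h0 h1), Fintype.card_fin]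
  -- dimension of `W'`
  have hW'dim : finrank K W ≤ e + finrank K W' := by
    let Ψ : W →ₗ[K] (Fin e → K) := Φ.domRestrict W
    have h2 := LinearMap.finrank_range_add_finrank_ker Ψ
    have h3 : finrank K (LinearMap.range Ψ) ≤ e := by
      have := Submodule.finrank_le (LinearMap.range Ψ)
      rwa [Module.finrank_fin_fun] at this
    have h4 : finrank K (LinearMap.ker Ψ) = finrank K W' := by
      have h5 : (LinearMap.ker Ψ).map W.subtype = W' := by
        rw [hW']
        ext w
        constructor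
        · rintro ⟨y, hy, rfl⟩
          exact ⟨y.2, LinearMap.mem_ker.mpr (LinearMap.mem_ker.mp hy)⟩
        · rintro ⟨hw, hk⟩
          exact ⟨⟨w, hw⟩, LinearMap.mem_ker.mpr (LinearMap.mem_ker.mp hk), rfl⟩
      rw [← h5]
      exact (Submodule.equivMapOfInjective W.subtype (Submodule.injective_subtype W)
        (LinearMap.ker Ψ)).finrank_eq
    omega
  have hsupdim := Submodule.finrank_sup_add_finrank_inf_eq Z W'
  rw [hdisj.eq_bot, finrank_bot, add_zero, hZdim] at hsupdim
  have hW'W : W' ≤ W := by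
    rw [hW']
    exact inf_le_left
  have hsup_le : Z ⊔ W' ≤ W := sup_le hZW hW'W
  have hsup : Z ⊔ W' = W := by
    apply Submodule.eq_of_le_of_finrank_le hsup_le
    rw [hsupdim]
    exact hW'dim
  refine ⟨W', hW'W, ?_, ?_, ?_, ?_⟩
  · intro w hw
    rw [hW'] at hw ⊢
    refine ⟨hW w hw.1, ?_⟩
    show N w ∈ LinearMap.ker Φ
    rw [LinearMap.mem_ker]
    funext j
    rw [hΦ, Pi.zero_apply, ← Module.End.mul_apply, ← pow_succ]
    by_cases hj : (j : ℕ) + 1 < e
    · have := congrFun (LinearMap.mem_ker.mp hw.2) ⟨(j : ℕ) + 1, hj⟩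
      rw [hΦ] at this
      exact this
    · have hje : (j : ℕ) + 1 = e := by
        have := j.2
        omega
      rw [hje, hWe w hw.1, map_zero]
  · rw [← hZ]
    exact hdisj
  · rw [← hZ]
    exact hsup
  · rw [← hsup, hsupdim]

end nil

end Cfsg.Agent.Lib.Helper15.PJor
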