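import Mathlib
import Cfsg.Agent.Lib.Helper14.NilYoung
import Cfsg.Agent.Lib.Helper15.PJor1

/-!
# Jordan bases are rational; centralisers of nilpotent operators
-/

set_option autoImplicit false

namespace Cfsg.Agent.Lib.Helper15.PJor

open Module Submodule Cfsg.Agent.Lib.Helper14 Cfsg.Agent.Lib.Helper15.PSubf
  Cfsg.Agent.Lib.Helper15.PInv

section young

variable {F : Type*} [Field F] {V : Type*} [AddCommGroup V] [Module F V] [FiniteDimensional F V]

/-- an operator `c (1 + N)`, `N` nilpotent, has a basis in which it is `c` times a `0/1` matrix -/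
theorem young_RB (F₀ : Subfield F) (X N : V →ₗ[F] V) (c : F) (m : ℕ) (hN : N ^ m = 0)
    (hX : ∀ v, X v = c • (v + N v)) :
    ∃ (κ : Type) (_ : Fintype κ), Fintype.card κ = finrank F V ∧ RB F₀ X c ⊤ κ := by
  classical
  obtain ⟨hanti, bt, hP1, hP2, hspan⟩ := exists_young m V N hN
  have hcard : Fintype.card ↥(cells (nu N) m) = finrank F V := by
    rw [Fintype.card_coe, card_cells, sum_nu, kd_eq_finrank_of_pow_eq_zero N hN le_rfl]
  let B := basisOfTopLeSpanOfCardEqFinrank _ hspan hcard
  have hB : ∀ p, B p = bt p.1.1 p.1.2 := fun p => by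
    rw [coe_basisOfTopLeSpanOfCardEqFinrank]
  refine ⟨↥(cells (nu N) m), inferInstance, hcard, ?_⟩
  obtain ⟨M, hM⟩ : ∃ M : Matrix ↥(cells (nu N) m) ↥(cells (nu N) m) ↥F₀,
      ∀ p' p, M p' p = if p' = p then 1 else
        if (p.1.1 = p'.1.1 + 1 ∧ p.1.2 = p'.1.2) then 1 else 0 :=
    ⟨fun p' p => if p' = p then 1 else
        if (p.1.1 = p'.1.1 + 1 ∧ p.1.2 = p'.1.2) then 1 else 0, fun _ _ => rfl⟩
  refine ⟨fun p => bt p.1.1 p.1.2, M, ?_, ?_, ?_⟩
  · have := B.linearIndependent
    rwa [show (⇑B : ↥(cells (nu N) m) → V) = fun p => bt p.1.1 p.1.2 from funext hB] at this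
  · exact top_le_iff.mp hspan
  · rintro ⟨⟨h, j⟩, hp⟩
    have hp' := mem_cells.mp hp
    show X (bt h j) = c • ∑ p' : ↥(cells (nu N) m),
      ((M p' ⟨⟨h, j⟩, hp⟩ : ↥F₀) : F) • bt p'.1.1 p'.1.2
    rw [hX]
    congr 1
    cases h with
    | zero =>
      have hj : j < nu N 0 := hp'.2
      rw [hP2 j hj, add_zero]
      rw [Finset.sum_eq_single ⟨⟨0, j⟩, hp⟩]
      · rw [hM, if_pos rfl, OneMemClass.coe_one, one_smul]
      · intro p' _ hne
        rw [hM, if_neg hne, if_neg (by
          rintro ⟨h1, -⟩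
          exact absurd h1 (by simp)), ZeroMemClass.coe_zero, zero_smul]
      · intro h1
        exact absurd (Finset.mem_univ _) h1
    | succ h =>
      have hj : j < nu N (h + 1) := hp'.2
      have hm : h + 1 < m := hp'.1
      rw [hP1 h j hj]
      have hp₀ : (⟨h, j⟩ : Σ _ : ℕ, ℕ) ∈ cells (nu N) m := by
        rw [mem_cells]
        refine ⟨?_, lt_of_lt_of_le hj (hanti h)⟩
        show h < m
        omega
      have key : ∀ p' : ↥(cells (nu N) m),
          ((M p' ⟨⟨h + 1, j⟩, hp⟩ : ↥F₀) : F) • bt p'.1.1 p'.1.2 =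
          (if p' = ⟨⟨h + 1, j⟩, hp⟩ then bt p'.1.1 p'.1.2 else 0) +
            (if p' = ⟨⟨h, j⟩, hp₀⟩ then bt p'.1.1 p'.1.2 else 0) := by
        intro p'
        rw [hM]
        by_cases h1 : p' = ⟨⟨h + 1, j⟩, hp⟩
        · rw [if_pos h1, if_pos h1, if_neg, OneMemClass.coe_one, one_smul, add_zero]
          rw [h1]
          intro h2
          have := congrArg (fun t : ↥(cells (nu N) m) => t.1.1) h2
          simp at this
        · rw [if_neg h1, if_neg h1, zero_add]
          by_cases h2 : p' = ⟨⟨h, j⟩, hp₀⟩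
          · rw [if_pos h2, if_pos, OneMemClass.coe_one, one_smul]
            rw [h2]
            exact ⟨rfl, rfl⟩
          · rw [if_neg h2, if_neg, ZeroMemClass.coe_zero, zero_smul]
            rintro ⟨h3, h4⟩
            apply h2
            obtain ⟨⟨h', j'⟩, hp''⟩ := p'
            apply Subtype.ext
            simp only at h3 h4 ⊢
            have h5 : h' = h := by omega
            subst h5
            subst h4
            rfl
      rw [Finset.sum_congr rfl (fun p' _ => key p'), Finset.sum_add_distrib,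
        Finset.sum_ite_eq' Finset.univ, Finset.sum_ite_eq' Finset.univ,
        if_pos (Finset.mem_univ _), if_pos (Finset.mem_univ _)]

end young

section cent

variable {F : Type*} [Field F] {V : Type*} [AddCommGroup V] [Module F V] [FiniteDimensional F V]

/-- centraliser elements of determinant `μ ^ e`, `e` the nilpotency index -/
theorem cent_cyc (N : V →ₗ[F] V) (e : ℕ) (he : 1 ≤ e) (hNe : N ^ e = 0) (v : V)
    (hv : (N ^ (e - 1)) v ≠ 0) (μ : F) :
    ∃ C : V →ₗ[F] V, C ∘ₗ N = N ∘ₗ C ∧ LinearMap.det C = μ ^ e := by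
  classical
  obtain ⟨W', -, hW', hdisj, hsup, -⟩ := exists_invt_compl N ⊤ (fun w _ => Submodule.mem_top) e he
    (fun w _ => by rw [hNe, LinearMap.zero_apply]) v Submodule.mem_top hv
  obtain ⟨Z, hZ⟩ : ∃ Z : Submodule F V,
      Z = span F (Set.range (fun j : Fin e => (N ^ (j : ℕ)) v)) := ⟨_, rfl⟩
  rw [← hZ] at hdisj hsup
  have h0 : (N ^ e) v = 0 := by rw [hNe, LinearMap.zero_apply]
  have hZdim : finrank F Z = e := by
    rw [hZ, finrank_span_eq_card (cyc_li N v e h0 hv), Fintype.card_fin]
  have hZinv : ∀ z ∈ Z, N z ∈ Z := by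
    intro z hz
    rw [hZ] at hz ⊢
    have hle : span F (Set.range (fun j : Fin e => (N ^ (j : ℕ)) v)) ≤
        (span F (Set.range (fun j : Fin e => (N ^ (j : ℕ)) v))).comap N := by
      rw [span_le]
      rintro _ ⟨j, rfl⟩
      show N ((N ^ (j : ℕ)) v) ∈ span F (Set.range (fun j : Fin e => (N ^ (j : ℕ)) v))
      rw [← Module.End.mul_apply, ← pow_succ']
      by_cases hj : (j : ℕ) + 1 < e
      · exact subset_span ⟨⟨(j : ℕ) + 1, hj⟩, rfl⟩
      · have hje : (j : ℕ) + 1 = e := by
          have := j.2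
          omega
        rw [hje, h0]
        exact zero_mem _
    exact hle hz
  have hcompl : IsCompl Z W' := ⟨hdisj, codisjoint_iff.mpr hsup⟩
  obtain ⟨C, hC, hdet⟩ := exists_comm_det N Z W' hcompl hZinv hW' (μ • LinearMap.id)
    (fun z => by
      rw [LinearMap.smul_apply, LinearMap.smul_apply, LinearMap.id_apply, LinearMap.id_apply,
        Submodule.coe_smul, Submodule.coe_smul, map_smul])
  refine ⟨C, hC, ?_⟩
  rw [hdet, LinearMap.det_smul, hZdim, LinearMap.det_id, mul_one]

/-- centraliser elements of arbitrary determinant when `ker N ≠ range N` -/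
theorem cent_ker (N : V →ₗ[F] V) (t : V) (ht : N t = 0) (htr : t ∉ LinearMap.range N) (δ : F) :
    ∃ C : V →ₗ[F] V, C ∘ₗ N = N ∘ₗ C ∧ LinearMap.det C = δ := by
  classical
  obtain ⟨f, hft, hf⟩ := Submodule.exists_dual_map_eq_bot_of_notMem htr inferInstance
  have hfN : ∀ w, f (N w) = 0 := by
    intro w
    have h1 : f (N w) ∈ (LinearMap.range N).map f := ⟨N w, LinearMap.mem_range_self N w, rfl⟩
    rw [hf] at h1
    exact (Submodule.mem_bot F).mp h1
  have ht0 : t ≠ 0 := by
    rintro rfl
    exact htr (zero_mem _)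
  have hcompl : IsCompl (span F {t}) (LinearMap.ker f) := by
    constructor
    · rw [Submodule.disjoint_def]
      intro z hz hzk
      obtain ⟨a, rfl⟩ := Submodule.mem_span_singleton.mp hz
      rw [LinearMap.mem_ker, map_smul, smul_eq_mul] at hzk
      rcases mul_eq_zero.mp hzk with h | h
      · rw [h, zero_smul]
      · exact absurd h hft
    · rw [codisjoint_iff, eq_top_iff]
      intro w _
      have h1 : w = (f w / f t) • t + (w - (f w / f t) • t) := by abel
      rw [h1]
      apply Submodule.add_mem_sup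
      · exact Submodule.smul_mem _ _ (Submodule.mem_span_singleton_self t)
      · rw [LinearMap.mem_ker, map_sub, map_smul, smul_eq_mul, div_mul_cancel₀ _ hft, sub_self]
  have hZinv : ∀ z ∈ span F {t}, N z ∈ span F {t} := by
    intro z hz
    obtain ⟨a, rfl⟩ := Submodule.mem_span_singleton.mp hz
    rw [map_smul, ht, smul_zero]
    exact zero_mem _
  have hWinv : ∀ z ∈ LinearMap.ker f, N z ∈ LinearMap.ker f := by
    intro z _
    rw [LinearMap.mem_ker]
    exact hfN z
  obtain ⟨C, hC, hdet⟩ := exists_comm_det N (span F {t}) (LinearMap.ker f) hcompl hZinv hWinv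
    (δ • LinearMap.id)
    (fun z => by
      rw [LinearMap.smul_apply, LinearMap.smul_apply, LinearMap.id_apply, LinearMap.id_apply,
        Submodule.coe_smul, Submodule.coe_smul, map_smul])
  refine ⟨C, hC, ?_⟩
  rw [hdet, LinearMap.det_smul, finrank_span_singleton ht0, pow_one, LinearMap.det_id, mul_one]

end cent

end Cfsg.Agent.Lib.Helper15.PJor
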