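import Mathlib
import Cfsg.Agent.Lib.Helper15.PJor2

/-!
# Conjugating into the subfield subgroup: determinants up to rational factors
-/

set_option autoImplicit false

namespace Cfsg.Agent.Lib.Helper15.PJor

open Module Submodule Cfsg.Agent.Lib.Helper15.PSub Cfsg.Agent.Lib.Helper15.PInv
  Cfsg.Agent.Lib.Helper15.PSubf Cfsg.Agent.Lib.Helper13

section conj

variable {F : Type*} [Field F] {n : ℕ}

/-- **Assembly**, with a single centralising element of the right determinant. -/
theorem conj_mem_subf_core (F₀ : Subfield F) (x : Matrix.SpecialLinearGroup (Fin n) F)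
    (b : Basis (Fin n) F (Fin n → F)) (c : F) (hc : c ≠ 0) (M : Matrix (Fin n) (Fin n) F₀)
    (hM : ∀ j, Matrix.toLin' (x : Matrix (Fin n) (Fin n) F) (b j) =
      c • ∑ i, ((M i j : F₀) : F) • b i)
    (C : (Fin n → F) →ₗ[F] (Fin n → F))
    (hCX : C ∘ₗ Matrix.toLin' (x : Matrix (Fin n) (Fin n) F) =
        Matrix.toLin' (x : Matrix (Fin n) (Fin n) F) ∘ₗ C)
    (hCdet : LinearMap.det C * LinearMap.det
      (((Pi.basisFun F (Fin n)).equiv b (Equiv.refl _) : (Fin n → F) ≃ₗ[F] (Fin n → F)) :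
        (Fin n → F) →ₗ[F] (Fin n → F)) = 1) :
    ∃ P : Matrix.SpecialLinearGroup (Fin n) F, P⁻¹ * x * P ∈
      ((Cfsg.Geo.subfieldSubgroup F₀ 1).comap
        (Matrix.SpecialLinearGroup.toGL : Matrix.SpecialLinearGroup (Fin n) F →* GL (Fin n) F)) := by
  classical
  set X := Matrix.toLin' (x : Matrix (Fin n) (Fin n) F) with hX
  let P₀ : (Fin n → F) ≃ₗ[F] (Fin n → F) := (Pi.basisFun F (Fin n)).equiv b (Equiv.refl _)
  have hP₀ : ∀ j, P₀ (Pi.single j 1) = b j := by
    intro j
    have := (Pi.basisFun F (Fin n)).equiv_apply j b (Equiv.refl _)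
    rw [Pi.basisFun_apply] at this
    exact this
  obtain ⟨Pl, hPl⟩ : ∃ Pl : (Fin n → F) →ₗ[F] (Fin n → F),
      Pl = C ∘ₗ (P₀ : (Fin n → F) →ₗ[F] (Fin n → F)) := ⟨_, rfl⟩
  have hPldet : LinearMap.det Pl = 1 := by
    rw [hPl, LinearMap.det_comp]
    exact hCdet
  have hPlb : ∀ j, Pl (Pi.single j 1) = C (b j) := by
    intro j
    rw [hPl, LinearMap.comp_apply]
    show C (P₀ (Pi.single j 1)) = _
    rw [hP₀]
  set S := toSL Pl hPldet with hS
  set Mc : Matrix (Fin n) (Fin n) F := c • rmat F₀ M with hMc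
  have hSl : Matrix.toLin' (S : Matrix (Fin n) (Fin n) F) = Pl := toLin'_toSL Pl hPldet
  have key : (x : Matrix (Fin n) (Fin n) F) * (S : Matrix (Fin n) (Fin n) F) =
      (S : Matrix (Fin n) (Fin n) F) * Mc := by
    apply Matrix.toLin'.injective
    rw [Matrix.toLin'_mul, Matrix.toLin'_mul, hSl]
    apply (Pi.basisFun F (Fin n)).ext
    intro j
    rw [Pi.basisFun_apply]
    show X (Pl (Pi.single j 1)) = Pl (Matrix.toLin' Mc (Pi.single j 1))
    have h0 : Matrix.toLin' Mc (Pi.single j 1) = Mc.col j := by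
      rw [Matrix.toLin'_apply, Matrix.mulVec_single_one]
    rw [h0, hPlb]
    have h2 : X (C (b j)) = C (X (b j)) := (LinearMap.congr_fun hCX (b j)).symm
    rw [h2, hM j, map_smul, map_sum]
    have h3 : Mc.col j = ∑ i, (c * ((M i j : F₀) : F)) • (Pi.single i 1 : Fin n → F) := by
      have h4 := pi_eq_sum_univ' (Mc.col j)
      rw [h4]
      apply Finset.sum_congr rfl
      intro i _
      rfl
    rw [h3, map_sum, Finset.smul_sum]
    apply Finset.sum_congr rfl
    intro i _
    rw [map_smul, map_smul, smul_smul, hPlb]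
  have hconj : ((S⁻¹ * x * S : Matrix.SpecialLinearGroup (Fin n) F) :
      Matrix (Fin n) (Fin n) F) = Mc := by
    rw [Matrix.SpecialLinearGroup.coe_mul, Matrix.SpecialLinearGroup.coe_mul, Matrix.mul_assoc,
      key, ← Matrix.mul_assoc, ← Matrix.SpecialLinearGroup.coe_mul, inv_mul_cancel,
      Matrix.SpecialLinearGroup.coe_one, Matrix.one_mul]
  refine ⟨S, ?_⟩
  rw [Subgroup.mem_comap]
  apply mem_subfieldSubgroup_of_eq F₀ 1 _ c hc M
  rw [inv_one, one_mul, mul_one]
  exact hconj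

/-- **Assembly**, centraliser determinants up to rational factors. -/
theorem conj_mem_subf2 (hn : 0 < n) (F₀ : Subfield F) (x : Matrix.SpecialLinearGroup (Fin n) F)
    (b : Basis (Fin n) F (Fin n → F)) (c : F) (hc : c ≠ 0) (M : Matrix (Fin n) (Fin n) F₀)
    (hM : ∀ j, Matrix.toLin' (x : Matrix (Fin n) (Fin n) F) (b j) =
      c • ∑ i, ((M i j : F₀) : F) • b i)
    (hcent : ∀ δ : F, δ ≠ 0 → ∃ C : (Fin n → F) →ₗ[F] (Fin n → F),
      C ∘ₗ Matrix.toLin' (x : Matrix (Fin n) (Fin n) F) =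
        Matrix.toLin' (x : Matrix (Fin n) (Fin n) F) ∘ₗ C ∧
      ∃ s : F₀, s ≠ 0 ∧ LinearMap.det C = δ * (s : F)) :
    ∃ P : Matrix.SpecialLinearGroup (Fin n) F, P⁻¹ * x * P ∈
      ((Cfsg.Geo.subfieldSubgroup F₀ 1).comap
        (Matrix.SpecialLinearGroup.toGL : Matrix.SpecialLinearGroup (Fin n) F →* GL (Fin n) F)) := by
  classical
  let P₀ : (Fin n → F) ≃ₗ[F] (Fin n → F) := (Pi.basisFun F (Fin n)).equiv b (Equiv.refl _)
  have hP₀ : ∀ j, P₀ (Pi.single j 1) = b j := by
    intro j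
    have := (Pi.basisFun F (Fin n)).equiv_apply j b (Equiv.refl _)
    rw [Pi.basisFun_apply] at this
    exact this
  have hP₀det : LinearMap.det (P₀ : (Fin n → F) →ₗ[F] (Fin n → F)) ≠ 0 :=
    (LinearEquiv.isUnit_det' P₀).ne_zero
  obtain ⟨C, hCX, s, hs, hCdet⟩ := hcent _ (inv_ne_zero hP₀det)
  let i₀ : Fin n := ⟨0, hn⟩
  -- the rescaling
  obtain ⟨d, hd⟩ : ∃ d : Fin n → F₀, d = Function.update (fun _ => (1 : F₀)) i₀ s⁻¹ := ⟨_, rfl⟩
  have hd0 : ∀ j, d j ≠ 0 := by
    intro j
    rw [hd]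
    by_cases hj : j = i₀
    · rw [hj, Function.update_self]
      exact inv_ne_zero hs
    · rw [Function.update_of_ne hj]
      exact one_ne_zero
  have hdprod : ∏ j, ((d j : F₀) : F) = ((s : F₀) : F)⁻¹ := by
    have h1 : ∏ j, d j = s⁻¹ := by
      rw [hd, Finset.prod_update_of_mem (Finset.mem_univ i₀), Finset.prod_const_one, mul_one]
    rw [← Subfield.coe_inv, ← h1]
    push_cast
    rfl
  have hd0' : ∀ j, ((d j : F₀) : F) ≠ 0 := by
    intro j h
    apply hd0 j
    exact Subtype.ext h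
  -- the rescaled basis
  have hli : LinearIndependent F (fun j => ((d j : F₀) : F) • b j) := by
    have := b.linearIndependent.units_smul (fun j => Units.mk0 _ (hd0' j))
    exact this
  have hcard : Fintype.card (Fin n) = finrank F (Fin n → F) := by
    rw [Module.finrank_fin_fun, Fintype.card_fin]
  have hne : Nonempty (Fin n) := ⟨i₀⟩
  let b' : Basis (Fin n) F (Fin n → F) := basisOfLinearIndependentOfCardEqFinrank hli hcard
  have hb' : ∀ j, b' j = ((d j : F₀) : F) • b j := by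
    intro j
    rw [coe_basisOfLinearIndependentOfCardEqFinrank]
  obtain ⟨M', hM'⟩ : ∃ M' : Matrix (Fin n) (Fin n) F₀, ∀ i j, M' i j = d j * M i j * (d i)⁻¹ :=
    ⟨fun i j => d j * M i j * (d i)⁻¹, fun _ _ => rfl⟩
  apply conj_mem_subf_core F₀ x b' c hc M' _ C hCX
  · -- determinant
    let P₀' : (Fin n → F) ≃ₗ[F] (Fin n → F) := (Pi.basisFun F (Fin n)).equiv b' (Equiv.refl _)
    have hP₀' : ∀ j, P₀' (Pi.single j 1) = b' j := by
      intro j
      have := (Pi.basisFun F (Fin n)).equiv_apply j b' (Equiv.refl _)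
      rw [Pi.basisFun_apply] at this
      exact this
    have hfac : (P₀' : (Fin n → F) →ₗ[F] (Fin n → F)) =
        (P₀ : (Fin n → F) →ₗ[F] (Fin n → F)) ∘ₗ
          Matrix.toLin' (Matrix.diagonal (fun j => ((d j : F₀) : F))) := by
      apply (Pi.basisFun F (Fin n)).ext
      intro j
      rw [Pi.basisFun_apply, LinearMap.comp_apply, Matrix.toLin'_apply,
        Matrix.mulVec_single_one]
      show P₀' (Pi.single j 1) = P₀ _
      rw [hP₀', hb']
      have h1 : (Matrix.diagonal (fun j => ((d j : F₀) : F))).col j =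
          ((d j : F₀) : F) • (Pi.single j 1 : Fin n → F) := by
        ext i
        rw [Matrix.col_apply, Pi.smul_apply, smul_eq_mul]
        by_cases hij : i = j
        · subst hij
          rw [Matrix.diagonal_apply_eq, Pi.single_eq_same, mul_one]
        · rw [Matrix.diagonal_apply_ne _ hij, Pi.single_eq_of_ne hij, mul_zero]
      rw [h1, map_smul, hP₀]
    show LinearMap.det C * LinearMap.det (P₀' : (Fin n → F) →ₗ[F] (Fin n → F)) = 1
    rw [hfac, LinearMap.det_comp, LinearMap.det_toLin', Matrix.det_diagonal, hdprod, hCdet]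
    have hs' : ((s : F₀) : F) ≠ 0 := fun h => hs (Subtype.ext h)
    field_simp
  · intro j
    rw [hb', map_smul, hM j, smul_comm, Finset.smul_sum]
    congr 1
    apply Finset.sum_congr rfl
    intro i _
    rw [hb', hM', smul_smul, smul_smul]
    congr 1
    push_cast
    have := hd0' i
    field_simp

end conj

section squares

variable {F : Type*} [Field F] [Fintype F]

theorem isSquare_mul_of_not (h2 : (2 : F) ≠ 0) (a b : F) (ha : ¬ IsSquare a) (hb : ¬ IsSquare b) :
    IsSquare (a * b) := by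
  have hchar : ringChar F ≠ 2 := by
    intro hch
    apply h2
    have := ringChar.Nat.cast_ringChar (R := F)
    rw [hch] at this
    exact_mod_cast this
  have ha0 : a ≠ 0 := by
    rintro rfl
    exact ha ⟨0, by simp⟩
  have hb0 : b ≠ 0 := by
    rintro rfl
    exact hb ⟨0, by simp⟩
  rw [FiniteField.isSquare_iff hchar ha0] at ha
  rw [FiniteField.isSquare_iff hchar hb0] at hb
  rw [FiniteField.isSquare_iff hchar (mul_ne_zero ha0 hb0), mul_pow]
  rcases FiniteField.pow_dichotomy hchar ha0 with h | h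
  · exact absurd h ha
  · rcases FiniteField.pow_dichotomy hchar hb0 with h' | h'
    · exact absurd h' hb
    · rw [h, h']
      ring

/-- for an odd degree extension, the subfield contains a nonsquare of the big field -/
theorem exists_nonsquare_subfield (h2 : (2 : F) ≠ 0) (F₀ : Subfield F) (k q₀ : ℕ)
    (hF₀ : Nat.card ↥F₀ = q₀) (hq : Fintype.card F = q₀ ^ k) (hk : k % 2 = 1) :
    ∃ s : F₀, s ≠ 0 ∧ ¬ IsSquare (s : F) := by
  classical
  have : Fintype ↥F₀ := Fintype.ofFinite _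
  have hF₀' : Fintype.card ↥F₀ = q₀ := by rw [← Nat.card_eq_fintype_card]; exact hF₀
  have hchar : ringChar F ≠ 2 := by
    intro hch
    apply h2
    have := ringChar.Nat.cast_ringChar (R := F)
    rw [hch] at this
    exact_mod_cast this
  have h2' : (2 : ↥F₀) ≠ 0 := by
    intro h
    apply h2
    have h3 : ((2 : ↥F₀) : F) = ((0 : ↥F₀) : F) := by rw [h]
    rw [ZeroMemClass.coe_zero] at h3
    rw [← h3]
    rfl
  have hchar₀ : ringChar ↥F₀ ≠ 2 := by
    intro hch
    apply h2'
    have := ringChar.Nat.cast_ringChar (R := ↥F₀)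
    rw [hch] at this
    exact_mod_cast this
  obtain ⟨s, hs⟩ := FiniteField.exists_nonsquare hchar₀
  have hs0 : s ≠ 0 := by
    rintro rfl
    exact hs ⟨0, by simp⟩
  refine ⟨s, hs0, ?_⟩
  have hs0' : (s : F) ≠ 0 := fun h => hs0 (Subtype.ext h)
  rw [FiniteField.isSquare_iff hchar hs0']
  rw [FiniteField.isSquare_iff hchar₀ hs0] at hs
  have h1 : s ^ (Fintype.card ↥F₀ / 2) = -1 :=
    (FiniteField.pow_dichotomy hchar₀ hs0).resolve_left hs
  have h1' : (s : F) ^ (q₀ / 2) = -1 := by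
    have := congrArg (fun t : ↥F₀ => (t : F)) h1
    rw [hF₀'] at this
    simpa using this
  have hodd : Fintype.card F % 2 = 1 := FiniteField.odd_card_of_char_ne_two hchar
  have hq₀odd : q₀ % 2 = 1 := by
    rw [hq, Nat.pow_mod] at hodd
    rcases Nat.mod_two_eq_zero_or_one q₀ with h | h
    · rw [h] at hodd
      have hk0 : k ≠ 0 := by omega
      rw [zero_pow hk0] at hodd
      simp at hodd
    · exact h
  obtain ⟨o, ho, hoe⟩ := pow_sub_one_odd q₀ k hq₀odd hk
  have h3 : Fintype.card F / 2 = (q₀ / 2) * o := by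
    rw [hq]
    obtain ⟨t, ht⟩ : ∃ t, q₀ = 2 * t + 1 := ⟨q₀ / 2, by omega⟩
    have h4 : q₀ / 2 = t := by omega
    have h5 : q₀ - 1 = 2 * t := by omega
    rw [h4]
    rw [h5] at hoe
    have h6 : 1 ≤ q₀ ^ k := Nat.one_le_pow _ _ (by omega)
    have h7 : q₀ ^ k = 2 * (t * o) + 1 := by
      have : q₀ ^ k = (q₀ ^ k - 1) + 1 := by omega
      rw [this, hoe]
      ring
    rw [h7]
    omega
  rw [h3, pow_mul, h1']
  obtain ⟨t, ht⟩ : ∃ t, o = 2 * t + 1 := ⟨o / 2, by omega⟩
  rw [ht, pow_succ, pow_mul]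
  intro h
  have h8 : ((-1 : F) ^ 2) ^ t * -1 = -1 := by
    rw [neg_one_sq, one_pow, one_mul]
  rw [h8] at h
  have : (2 : F) = 0 := by linear_combination -h
  exact h2 this

end squares

end Cfsg.Agent.Lib.Helper15.PJor
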