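import Mathlib
import Cfsg.Agent.Lib.Helper14.NilSplit
import Cfsg.Agent.Lib.Helper15.PSub8

/-!
# Unipotent elements of order `p` and invariant decompositions `U ⊕ W`
-/

set_option autoImplicit false

namespace Cfsg.Agent.Lib.Helper15.PSub

open Module Cfsg.Agent.Lib.Helper14

section prodkd

variable {F A B : Type*} [Field F] [AddCommGroup A] [Module F A] [AddCommGroup B] [Module F B]

/-- `S.prod T ≃ S × T`. -/
def prodSubEquiv (S : Submodule F A) (T : Submodule F B) : ↥(S.prod T) ≃ₗ[F] (S × T) where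
  toFun x := (⟨x.1.1, x.2.1⟩, ⟨x.1.2, x.2.2⟩)
  invFun y := ⟨(y.1.1, y.2.1), ⟨y.1.2, y.2.2⟩⟩
  map_add' x y := rfl
  map_smul' c x := rfl
  left_inv x := rfl
  right_inv y := rfl

theorem prodMap_pow' (f : A →ₗ[F] A) (g : B →ₗ[F] B) (k : ℕ) :
    (f.prodMap g) ^ k = (f ^ k).prodMap (g ^ k) := by
  induction k with
  | zero => rw [pow_zero, pow_zero, pow_zero, LinearMap.prodMap_one]
  | succ k ih => rw [pow_succ, ih, pow_succ, pow_succ, LinearMap.prodMap_mul]

variable [FiniteDimensional F A] [FiniteDimensional F B]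

theorem kd_prodMap (f : A →ₗ[F] A) (g : B →ₗ[F] B) (k : ℕ) :
    kd (f.prodMap g) k = kd f k + kd g k := by
  unfold kd
  rw [prodMap_pow', LinearMap.ker_prodMap, LinearEquiv.finrank_eq (prodSubEquiv _ _),
    Module.finrank_prod]

end prodkd

section char

variable {F V : Type*} [Field F] [AddCommGroup V] [Module F V]

theorem one_add_pow_char' (p : ℕ) [Fact p.Prime] [CharP F p] (N : V →ₗ[F] V) :
    (1 + N) ^ p = 1 + N ^ p := by
  have hpoly : ((1 : Polynomial F) + Polynomial.X) ^ p = 1 + Polynomial.X ^ p := by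
    have : CharP (Polynomial F) p := inferInstance
    rw [add_pow_char, one_pow]
  have h := congrArg (Polynomial.aeval N) hpoly
  simpa using h

theorem sub_one_pow_char' (p : ℕ) [Fact p.Prime] [CharP F p] (y : V →ₗ[F] V) :
    (y - 1) ^ p = y ^ p - 1 := by
  have hpoly : ((Polynomial.X : Polynomial F) - 1) ^ p = Polynomial.X ^ p - 1 := by
    have : CharP (Polynomial F) p := inferInstance
    rw [sub_pow_char, one_pow]
  have h := congrArg (Polynomial.aeval y) hpoly
  simpa using h

end char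

section split

variable {F V : Type*} [Field F] [AddCommGroup V] [Module F V] [FiniteDimensional F V]

theorem nu_stdNil {n : ℕ} (μ : Nat.Partition n) (h : ℕ) :
    nu (stdNil (F := F) μ) h = nuOf μ.parts h := by
  rw [← nilOf_stdUnip, nu_nilOf_stdUnip]

/-- An endomorphism `y` with `y^p = 1` in characteristic `p` has an invariant decomposition
`U ⊕ W`, `dim U = m`, as soon as its Jordan type contains a partition of `m`. -/
theorem unip_split (p : ℕ) [Fact p.Prime] [CharP F p] (y : V →ₗ[F] V) (hy : y ^ p = 1) (m : ℕ)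
    (hpart : ∀ μ : Multiset ℕ, (∀ a ∈ μ, 0 < a ∧ a ≤ p) → μ.sum = finrank F V →
      ∃ ν : Multiset ℕ, ν ≤ μ ∧ ν.sum = m) :
    ∃ U W : Submodule F V, IsCompl U W ∧ U ∈ Module.End.invtSubmodule y ∧
      W ∈ Module.End.invtSubmodule y ∧ finrank F U = m := by
  classical
  set n := finrank F V with hn
  set N : V →ₗ[F] V := y - 1 with hNdef
  have hNp : N ^ p = 0 := by rw [hNdef, sub_one_pow_char', hy, sub_self]
  have hN : IsNilpotent N := ⟨p, hNp⟩
  obtain ⟨μ, hμ⟩ := exists_partition_of_isNilpotent N hN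
  have hparts : ∀ a ∈ μ.parts, 0 < a ∧ a ≤ p := by
    intro a ha
    refine ⟨μ.parts_pos ha, ?_⟩
    have h1 : nuOf μ.parts p = 0 := by
      rw [hμ]
      unfold nu
      rw [kd_eq_finrank_of_pow_eq_zero N hNp le_rfl,
        kd_eq_finrank_of_pow_eq_zero N hNp (Nat.le_succ p)]
      exact Nat.sub_self _
    exact (nuOf_eq_zero_iff μ.parts p).mp h1 a ha
  obtain ⟨ν, hνle, hνsum⟩ := hpart μ.parts hparts μ.parts_sum
  set ν' := μ.parts - ν with hν'
  have hadd : ν + ν' = μ.parts := add_tsub_cancel_of_le hνle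
  have hmn : m ≤ n := by
    have := congrArg Multiset.sum hadd
    rw [Multiset.sum_add, hνsum, μ.parts_sum] at this
    omega
  have hν'sum : ν'.sum = n - m := by
    have := congrArg Multiset.sum hadd
    rw [Multiset.sum_add, hνsum, μ.parts_sum] at this
    omega
  let νP : Nat.Partition m := ⟨ν, fun {i} hi => μ.parts_pos (Multiset.mem_of_le hνle hi), hνsum⟩
  let νP' : Nat.Partition (n - m) :=
    ⟨ν', fun {i} hi => μ.parts_pos (Multiset.mem_of_le (Multiset.sub_le_self _ _) hi), hν'sum⟩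
  set N₁ := stdNil (F := F) νP with hN₁
  set N₂ := stdNil (F := F) νP' with hN₂
  set N' := N₁.prodMap N₂ with hN'
  have hN'nil : IsNilpotent N' := by
    refine ⟨m + (n - m), ?_⟩
    rw [hN', prodMap_pow', pow_add, stdNil_pow_eq_zero, zero_mul, pow_add (stdNil νP'),
      stdNil_pow_eq_zero, mul_zero, LinearMap.prodMap_zero]
  have hkd : ∀ k, kd N k = kd N' k := by
    intro k
    rw [hN', kd_prodMap, ← sum_nu N k, ← sum_nu N₁ k, ← sum_nu N₂ k, ← Finset.sum_add_distrib]
    apply Finset.sum_congr rfl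
    intro h _
    rw [← hμ, ← hadd, nuOf_add, hN₁, hN₂, nu_stdNil, nu_stdNil]
  obtain ⟨φ, hφ⟩ := exists_equiv_of_kd_eq N N' hN hN'nil hkd
  set U : Submodule F V :=
    (LinearMap.range (LinearMap.inl F (Fin m → F) (Fin (n - m) → F))).map
      (φ.symm : _ →ₗ[F] V) with hU
  set W : Submodule F V :=
    (LinearMap.range (LinearMap.inr F (Fin m → F) (Fin (n - m) → F))).map
      (φ.symm : _ →ₗ[F] V) with hW
  have hUmem : ∀ v, v ∈ U ↔ (φ v).2 = 0 := by
    intro v
    constructor
    · rintro ⟨_, ⟨a, rfl⟩, rfl⟩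
      simp
    · intro h
      refine ⟨φ v, ⟨(φ v).1, ?_⟩, by simp⟩
      apply Prod.ext
      · simp
      · simpa using h.symm
  have hWmem : ∀ v, v ∈ W ↔ (φ v).1 = 0 := by
    intro v
    constructor
    · rintro ⟨_, ⟨a, rfl⟩, rfl⟩
      simp
    · intro h
      refine ⟨φ v, ⟨(φ v).2, ?_⟩, by simp⟩
      apply Prod.ext
      · simpa using h.symm
      · simp
  have hyN : ∀ v, y v = v + N v := by
    intro v
    rw [hNdef, LinearMap.sub_apply, Module.End.one_apply]
    abel
  refine ⟨U, W, ?_, ?_, ?_, ?_⟩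
  · constructor
    · rw [disjoint_iff, eq_bot_iff]
      intro v hv
      have h1 := (hUmem v).mp hv.1
      have h2 := (hWmem v).mp hv.2
      have : φ v = 0 := Prod.ext h2 h1
      exact (Submodule.mem_bot F).mpr ((LinearEquiv.map_eq_zero_iff φ).mp this)
    · rw [codisjoint_iff, eq_top_iff]
      intro v _
      have : v = φ.symm ((φ v).1, 0) + φ.symm (0, (φ v).2) := by
        rw [← map_add, Prod.mk_add_mk, add_zero, zero_add, Prod.mk.eta, LinearEquiv.symm_apply_apply]
      rw [this]
      apply Submodule.add_mem_sup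
      · rw [hUmem]; simp
      · rw [hWmem]; simp
  · intro v hv
    rw [Submodule.mem_comap, hyN]
    apply U.add_mem hv
    rw [hUmem, hφ, hN', LinearMap.prodMap_apply]
    show N₂ (φ v).2 = 0
    rw [(hUmem v).mp hv, map_zero]
  · intro v hv
    rw [Submodule.mem_comap, hyN]
    apply W.add_mem hv
    rw [hWmem, hφ, hN', LinearMap.prodMap_apply]
    show N₁ (φ v).1 = 0
    rw [(hWmem v).mp hv, map_zero]
  · rw [hU, LinearEquiv.finrank_map_eq, LinearMap.finrank_range_of_inj LinearMap.inl_injective,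
      Module.finrank_fin_fun]

end split

end Cfsg.Agent.Lib.Helper15.PSub
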