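import Mathlib
import Cfsg.Agent.Lib.Helper15.PSub11
import Cfsg.Agent.Lib.Helper15.PJor3

/-!
# Elements of order 3 of `PSL_n(q)`, `q` a power of 3, and subfield subgroups: the good case
-/

set_option autoImplicit false

namespace Cfsg.Agent.Lib.Helper15.PJor

open Module Submodule Cfsg.Agent.Lib.Helper15.PSub Cfsg.Agent.Lib.Helper15.PInv
  Cfsg.Agent.Lib.Helper15.PSubf Cfsg.Agent.Lib.Helper13

section good

variable {F : Type*} [Field F] [Fintype F] {n : ℕ}

omit [Fintype F] in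
theorem cube_injective [CharP F 3] : Function.Injective (fun a : F => a ^ 3) := by
  have hp3 : Fact (Nat.Prime 3) := ⟨Nat.prime_three⟩
  intro a b hab
  have hab' : a ^ 3 = b ^ 3 := hab
  have h1 : (a - b) ^ 3 = 0 := by
    rw [sub_pow_char, hab', sub_self]
  exact sub_eq_zero.mp ((pow_eq_zero_iff (by norm_num)).mp h1)

theorem cube_surjective [CharP F 3] : Function.Surjective (fun a : F => a ^ 3) :=
  Finite.injective_iff_surjective.mp cube_injective

omit [Fintype F] in
theorem two_ne_zero_of_char_three [CharP F 3] : (2 : F) ≠ 0 := by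
  intro h
  have h3 : ((2 : ℕ) : F) = 0 := by exact_mod_cast h
  rw [CharP.cast_eq_zero_iff F 3] at h3
  omega

theorem good_jor [CharP F 3] (hn : 0 < n) (F₀ : Subfield F) (k q₀ : ℕ) (hk : k.Prime)
    (hF₀ : Nat.card ↥F₀ = q₀) (hq : Fintype.card F = q₀ ^ k)
    (x : Matrix.SpecialLinearGroup (Fin n) F) (z : F)
    (hx3 : ((x ^ 3 : Matrix.SpecialLinearGroup (Fin n) F) : Matrix (Fin n) (Fin n) F) =
      z • (1 : Matrix (Fin n) (Fin n) F))
    (hns : ∀ z : F, (x : Matrix (Fin n) (Fin n) F) ≠ z • (1 : Matrix (Fin n) (Fin n) F))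
    (hcond : Odd n ∨ (Even n ∧ 2 < k)) :
    ∃ P : Matrix.SpecialLinearGroup (Fin n) F, P⁻¹ * x * P ∈
      ((Cfsg.Geo.subfieldSubgroup F₀ 1).comap
        (Matrix.SpecialLinearGroup.toGL : Matrix.SpecialLinearGroup (Fin n) F →* GL (Fin n) F)) := by
  classical
  have hp3 : Fact (Nat.Prime 3) := ⟨Nat.prime_three⟩
  set X := Matrix.toLin' (x : Matrix (Fin n) (Fin n) F) with hXdef
  have hX3 : X ^ 3 = z • (1 : (Fin n → F) →ₗ[F] (Fin n → F)) := (pow_SL_iff x 3 z).mp hx3
  have hXns : ∀ c : F, X ≠ c • (1 : (Fin n → F) →ₗ[F] (Fin n → F)) := fun c hc =>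
    hns c ((scalar_SL_iff x c).mpr hc)
  have hdetX : LinearMap.det X = 1 := det_toLin'_SL x
  have hV : finrank F (Fin n → F) = n := Module.finrank_fin_fun F
  have hz : z ≠ 0 := by
    rintro rfl
    have h1 := congrArg LinearMap.det hX3
    rw [map_pow, hdetX, LinearMap.det_smul, hV, zero_pow (by omega), zero_mul] at h1
    simp at h1
  have h2 : (2 : F) ≠ 0 := two_ne_zero_of_char_three
  obtain ⟨lam, hlam⟩ := cube_surjective (F := F) z
  have hlam' : lam ^ 3 = z := hlam
  have hlam0 : lam ≠ 0 := by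
    rintro rfl
    apply hz
    rw [← hlam']
    simp
  obtain ⟨N, hNdef⟩ : ∃ N : (Fin n → F) →ₗ[F] (Fin n → F), N = lam⁻¹ • X - 1 := ⟨_, rfl⟩
  have hU3 : (lam⁻¹ • X) ^ 3 = 1 := by
    rw [_root_.smul_pow, hX3, smul_smul, ← hlam', inv_pow, inv_mul_cancel₀ (pow_ne_zero 3 hlam0),
      one_smul]
  have hN3 : N ^ 3 = 0 := by rw [hNdef, sub_one_pow_char' 3, hU3, sub_self]
  have hXN : ∀ v, X v = lam • (v + N v) := by
    intro v
    rw [hNdef, LinearMap.sub_apply, LinearMap.smul_apply, Module.End.one_apply, add_sub_cancel,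
      smul_smul, mul_inv_cancel₀ hlam0, one_smul]
  obtain ⟨κ, hκf, hκ, hRB⟩ := young_RB F₀ X N lam 3 hN3 hXN
  obtain ⟨b, M, hM⟩ := hRB.toFin n (by rw [hκ, hV])
  apply conj_mem_subf2 hn F₀ x b lam hlam0 M hM
  have hcomm : ∀ C : (Fin n → F) →ₗ[F] (Fin n → F), C ∘ₗ N = N ∘ₗ C → C ∘ₗ X = X ∘ₗ C := by
    intro C hC
    apply LinearMap.ext
    intro v
    rw [LinearMap.comp_apply, LinearMap.comp_apply, hXN, hXN, map_smul, map_add]
    have h1 : C (N v) = N (C v) := LinearMap.congr_fun hC v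
    rw [h1]
  intro δ hδ
  by_cases hN2 : N ^ 2 = 0
  · obtain ⟨v, hv⟩ : ∃ v, N v ≠ 0 := by
      by_contra hall
      push Not at hall
      apply hXns lam
      apply LinearMap.ext
      intro v
      rw [hXN, hall v, add_zero]
      rfl
    have hv' : (N ^ (2 - 1)) v ≠ 0 := by
      rw [show 2 - 1 = 1 from rfl, pow_one]
      exact hv
    by_cases hker : ∃ t, N t = 0 ∧ t ∉ LinearMap.range N
    · obtain ⟨t, ht, htr⟩ := hker
      obtain ⟨C, hC, hdet⟩ := cent_ker N t ht htr δ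
      refine ⟨C, hcomm C hC, 1, one_ne_zero, ?_⟩
      rw [hdet, OneMemClass.coe_one, mul_one]
    · push Not at hker
      have hkr : LinearMap.ker N = LinearMap.range N := by
        apply le_antisymm
        · intro t ht
          exact hker t (LinearMap.mem_ker.mp ht)
        · rintro _ ⟨w, rfl⟩
          rw [LinearMap.mem_ker, ← Module.End.mul_apply, ← pow_two, hN2]
          rfl
      have hdim := LinearMap.finrank_range_add_finrank_ker N
      rw [← hkr, hV] at hdim
      have heven : Even n := ⟨finrank F (LinearMap.ker N), hdim.symm⟩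
      have hk2 : 2 < k := by
        rcases hcond with hodd | ⟨_, h⟩
        · exact absurd heven (Nat.not_even_iff_odd.mpr hodd)
        · exact h
      have hkodd : k % 2 = 1 := (hk.eq_two_or_odd).resolve_left (by omega)
      by_cases hsq : IsSquare δ
      · obtain ⟨μ, hμ⟩ := hsq
        obtain ⟨C, hC, hdet⟩ := cent_cyc N 2 (by norm_num) hN2 v hv' μ
        refine ⟨C, hcomm C hC, 1, one_ne_zero, ?_⟩
        rw [hdet, hμ, OneMemClass.coe_one, mul_one, pow_two]
      · obtain ⟨s, hs0, hsns⟩ := exists_nonsquare_subfield h2 F₀ k q₀ hF₀ hq hkodd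
        obtain ⟨μ, hμ⟩ := isSquare_mul_of_not h2 δ s hsq hsns
        obtain ⟨C, hC, hdet⟩ := cent_cyc N 2 (by norm_num) hN2 v hv' μ
        refine ⟨C, hcomm C hC, s, hs0, ?_⟩
        rw [hdet, hμ, pow_two]
  · obtain ⟨v, hv⟩ : ∃ v, (N ^ 2) v ≠ 0 := by
      by_contra hall
      push Not at hall
      apply hN2
      apply LinearMap.ext
      intro v
      rw [hall v]
      rfl
    obtain ⟨μ, hμ⟩ := cube_surjective (F := F) δ
    have hμ' : μ ^ 3 = δ := hμ
    obtain ⟨C, hC, hdet⟩ := cent_cyc N 3 (by norm_num) hN3 v hv μ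
    refine ⟨C, hcomm C hC, 1, one_ne_zero, ?_⟩
    rw [hdet, hμ', OneMemClass.coe_one, mul_one]

end good

end Cfsg.Agent.Lib.Helper15.PJor
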