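import Mathlib
import Cfsg.Agent.Lib.Helper14.NilYoung
import Cfsg.Agent.Lib.Helper15.PJor4

/-!
# The standard nilpotent matrix of type `(2^b)`: centraliser determinants are squares, and
rational forms
-/

set_option autoImplicit false

namespace Cfsg.Agent.Lib.Helper15.PJor

open Module Submodule Matrix Cfsg.Agent.Lib.Helper14

section Jm

/-- the standard nilpotent matrix with `b` Jordan blocks of size two -/
def Jm (R : Type*) [Zero R] [One R] (b : ℕ) : Matrix (Fin b ⊕ Fin b) (Fin b ⊕ Fin b) R :=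
  Matrix.fromBlocks 0 0 1 0

variable {R : Type*} [CommRing R] {b : ℕ}

theorem Jm_mul_Jm : Jm R b * Jm R b = 0 := by
  unfold Jm
  rw [Matrix.fromBlocks_multiply]
  simp

theorem Jm_mulVec (u : Fin b ⊕ Fin b → R) :
    Jm R b *ᵥ u = Sum.elim (0 : Fin b → R) (u ∘ Sum.inl) := by
  unfold Jm
  rw [Matrix.fromBlocks_mulVec]
  simp

theorem Jm_map {R' : Type*} [CommRing R'] (f : R →+* R') : (Jm R b).map f = Jm R' b := by
  unfold Jm
  rw [Matrix.fromBlocks_map]
  simp

theorem Jm_ker_le_range (u : Fin b ⊕ Fin b → R) (hu : Jm R b *ᵥ u = 0) :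
    ∃ w, u = Jm R b *ᵥ w := by
  rw [Jm_mulVec] at hu
  refine ⟨Sum.elim (u ∘ Sum.inr) (0 : Fin b → R), ?_⟩
  rw [Jm_mulVec]
  funext p
  rcases p with i | i
  · have := congrFun hu (Sum.inr i)
    simpa using this
  · simp

theorem det_isSquare_of_comm_Jm (C : Matrix (Fin b ⊕ Fin b) (Fin b ⊕ Fin b) R)
    (h : Jm R b * C = C * Jm R b) : IsSquare C.det := by
  rw [← Matrix.fromBlocks_toBlocks C] at h ⊢
  unfold Jm at h
  rw [Matrix.fromBlocks_multiply, Matrix.fromBlocks_multiply, Matrix.fromBlocks_inj] at h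
  obtain ⟨h1, -, h3, -⟩ := h
  simp only [Matrix.zero_mul, Matrix.mul_zero, Matrix.one_mul, Matrix.mul_one, zero_add,
    add_zero] at h1 h3
  rw [← h1, h3, Matrix.det_fromBlocks_zero₁₂]
  exact ⟨_, rfl⟩

end Jm

section descend

variable {F : Type*} [Field F] {ι : Type*} [Fintype ι]

theorem exists_retraction (F₀ : Subfield F) :
    ∃ π : F →ₗ[F₀] F₀, ∀ s : F₀, π (s : F) = s := by
  obtain ⟨g, hg⟩ := LinearMap.exists_leftInverse_of_injective (Algebra.linearMap F₀ F)
    (LinearMap.ker_eq_bot.mpr (fun a b hab => Subtype.ext hab))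
  refine ⟨g, fun s => ?_⟩
  exact LinearMap.congr_fun hg s

theorem map_mulVec_coe (F₀ : Subfield F) (M : Matrix ι ι F₀) (u : ι → F₀) :
    M.map F₀.subtype *ᵥ (fun i => (u i : F)) = fun i => (((M *ᵥ u) i : F₀) : F) := by
  funext i
  simp only [Matrix.mulVec, dotProduct, Matrix.map_apply, Subfield.coe_subtype]
  push_cast
  rfl

theorem retraction_mulVec (F₀ : Subfield F) (π : F →ₗ[F₀] F₀) (M : Matrix ι ι F₀) (w : ι → F) :
    (fun i => π ((M.map F₀.subtype *ᵥ w) i)) = M *ᵥ (fun i => π (w i)) := by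
  funext i
  simp only [Matrix.mulVec, dotProduct, Matrix.map_apply, Subfield.coe_subtype]
  rw [map_sum]
  apply Finset.sum_congr rfl
  intro j _
  have h1 : ((M i j : F₀) : F) * w j = (M i j) • w j := (smul_eq_mul _ _).symm
  rw [h1, map_smul, smul_eq_mul]

/-- `ker ≤ range` descends to the subfield -/
theorem ker_le_range_descend (F₀ : Subfield F) (N₀ : Matrix ι ι F₀)
    (h : ∀ v : ι → F, N₀.map F₀.subtype *ᵥ v = 0 → ∃ w, v = N₀.map F₀.subtype *ᵥ w)
    (u : ι → F₀) (hu : N₀ *ᵥ u = 0) : ∃ w, u = N₀ *ᵥ w := by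
  obtain ⟨π, hπ⟩ := exists_retraction F₀
  have h1 : N₀.map F₀.subtype *ᵥ (fun i => (u i : F)) = 0 := by
    rw [map_mulVec_coe, hu]
    funext i
    simp
  obtain ⟨w, hw⟩ := h _ h1
  refine ⟨fun i => π (w i), ?_⟩
  rw [← retraction_mulVec, ← hw]
  funext i
  rw [hπ]

end descend

section dims

variable {K : Type*} [Field K] {V : Type*} [AddCommGroup V] [Module K V] [FiniteDimensional K V]

theorem finrank_ker_of_sq_zero (T : V →ₗ[K] V) (b : ℕ) (hT : ∀ v, T (T v) = 0)
    (hkr : ∀ v, T v = 0 → ∃ w, v = T w) (hdim : finrank K V = b + b) :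
    finrank K (LinearMap.ker T) = b := by
  have hkr' : LinearMap.ker T = LinearMap.range T := by
    apply le_antisymm
    · intro v hv
      obtain ⟨w, rfl⟩ := hkr v (LinearMap.mem_ker.mp hv)
      exact LinearMap.mem_range_self T w
    · rintro _ ⟨w, rfl⟩
      rw [LinearMap.mem_ker]
      exact hT w
  have h1 := LinearMap.finrank_range_add_finrank_ker T
  rw [← hkr', hdim] at h1
  omega

theorem exists_equiv_of_sq_zero {V' : Type*} [AddCommGroup V'] [Module K V']
    [FiniteDimensional K V'] (T : V →ₗ[K] V) (T' : V' →ₗ[K] V') (b : ℕ)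
    (hT : ∀ v, T (T v) = 0) (hT' : ∀ v, T' (T' v) = 0)
    (hkr : ∀ v, T v = 0 → ∃ w, v = T w) (hkr' : ∀ v, T' v = 0 → ∃ w, v = T' w)
    (hdim : finrank K V = b + b) (hdim' : finrank K V' = b + b) :
    ∃ φ : V ≃ₗ[K] V', ∀ v, φ (T v) = T' (φ v) := by
  have h2 : T ^ 2 = 0 := by
    apply LinearMap.ext
    intro v
    rw [pow_two, Module.End.mul_apply, hT]
    rfl
  have h2' : T' ^ 2 = 0 := by
    apply LinearMap.ext
    intro v
    rw [pow_two, Module.End.mul_apply, hT']
    rfl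
  apply exists_equiv_of_kd_eq T T' ⟨2, h2⟩ ⟨2, h2'⟩
  intro k
  rcases Nat.lt_or_ge k 2 with hk | hk
  · interval_cases k
    · rw [kd_zero, kd_zero]
    · unfold kd
      rw [pow_one, pow_one, finrank_ker_of_sq_zero T b hT hkr hdim,
        finrank_ker_of_sq_zero T' b hT' hkr' hdim']
  · rw [kd_eq_finrank_of_pow_eq_zero T h2 hk, kd_eq_finrank_of_pow_eq_zero T' h2' hk, hdim, hdim']

end dims

end Cfsg.Agent.Lib.Helper15.PJor
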