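import Mathlib
import Cfsg.Agent.Lib.Helper15.PJor5

/-!
# Conjugates of `1 + J` which are rational up to a scalar: the conjugating determinant is a square
-/

set_option autoImplicit false

namespace Cfsg.Agent.Lib.Helper15.PJor

open Module Submodule Matrix Cfsg.Agent.Lib.Helper14

section core

variable {F : Type*} [Field F] [Fintype F] {b : ℕ}

omit [Fintype F] in
theorem one_add_Jm_pow_three [CharP F 3] (hb : 0 < b) : (1 + Jm F b) ^ 3 = 1 := by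
  have hp3 : Fact (Nat.Prime 3) := ⟨Nat.prime_three⟩
  have hne : Nonempty (Fin b ⊕ Fin b) := ⟨Sum.inl ⟨0, hb⟩⟩
  have hch : CharP (Matrix (Fin b ⊕ Fin b) (Fin b ⊕ Fin b) F) 3 := Matrix.charP 3
  rw [add_pow_char_of_commute 3 (Commute.one_left _), one_pow, pow_succ, pow_two, Jm_mul_Jm,
    Matrix.zero_mul, add_zero]

theorem cube_surjective_subfield [CharP F 3] (F₀ : Subfield F) :
    Function.Surjective (fun a : F₀ => a ^ 3) := by
  apply Finite.injective_iff_surjective.mp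
  intro a c hac
  have h1 : (a : F) ^ 3 = (c : F) ^ 3 := by
    have := congrArg (fun t : ↥F₀ => (t : F)) hac
    simpa using this
  exact Subtype.ext (cube_injective h1)

theorem core_J [CharP F 3] (hb : 0 < b) (F₀ : Subfield F)
    (hsq : ∀ a : F₀, IsSquare (a : F))
    (S : Matrix (Fin b ⊕ Fin b) (Fin b ⊕ Fin b) F) (hS : S.det ≠ 0) (l : F)
    (B : Matrix (Fin b ⊕ Fin b) (Fin b ⊕ Fin b) F₀)
    (h : (1 + Jm F b) * S = S * (l • B.map F₀.subtype)) : IsSquare S.det := by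
  classical
  have hSu : IsUnit S := (Matrix.isUnit_iff_isUnit_det S).mpr (IsUnit.mk0 _ hS)
  have hSdet : IsUnit S.det := IsUnit.mk0 _ hS
  let i₀ : Fin b ⊕ Fin b := Sum.inl ⟨0, hb⟩
  -- `Y ^ 3 = 1`
  obtain ⟨Y, hY⟩ : ∃ Y : Matrix (Fin b ⊕ Fin b) (Fin b ⊕ Fin b) F, Y = l • B.map F₀.subtype :=
    ⟨_, rfl⟩
  rw [← hY] at h
  have hsemi : SemiconjBy S Y (1 + Jm F b) := h.symm
  have h3 := hsemi.pow_right 3
  rw [one_add_Jm_pow_three hb] at h3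
  have hY3 : Y ^ 3 = 1 := by
    apply hSu.mul_right_injective
    show S * Y ^ 3 = S * 1
    rw [h3.eq, Matrix.one_mul, Matrix.mul_one]
  -- `l` is rational
  have hY3' : l ^ 3 • (B ^ 3).map F₀.subtype = 1 := by
    rw [Matrix.map_pow, ← _root_.smul_pow, ← hY]
    exact hY3
  have h4 := congrFun (congrFun hY3' i₀) i₀
  rw [Matrix.smul_apply, Matrix.map_apply, Matrix.one_apply_eq, smul_eq_mul] at h4
  have ht0 : (B ^ 3) i₀ i₀ ≠ 0 := by
    intro h0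
    rw [h0, map_zero, mul_zero] at h4
    exact zero_ne_one h4
  obtain ⟨r, hr⟩ := cube_surjective_subfield F₀ ((B ^ 3) i₀ i₀)⁻¹
  have hr' : r ^ 3 = ((B ^ 3) i₀ i₀)⁻¹ := hr
  have hlr : l = (r : F) := by
    apply cube_injective (F := F)
    show l ^ 3 = (r : F) ^ 3
    have h5 : ((r ^ 3 : ↥F₀) : F) = (((B ^ 3) i₀ i₀ : ↥F₀) : F)⁻¹ := by
      rw [hr']
      push_cast
      rfl
    rw [← SubmonoidClass.coe_pow, h5]
    have h6 : (((B ^ 3) i₀ i₀ : ↥F₀) : F) ≠ 0 := fun h => ht0 (Subtype.ext h)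
    exact eq_inv_of_mul_eq_one_left h4
  -- `Y` is rational
  obtain ⟨B', hB'⟩ : ∃ B' : Matrix (Fin b ⊕ Fin b) (Fin b ⊕ Fin b) F₀, B' = r • B := ⟨_, rfl⟩
  have hYB' : Y = B'.map F₀.subtype := by
    rw [hY, hB', hlr]
    ext i j
    simp
  obtain ⟨N₀, hN₀⟩ : ∃ N₀ : Matrix (Fin b ⊕ Fin b) (Fin b ⊕ Fin b) F₀, N₀ = B' - 1 := ⟨_, rfl⟩
  obtain ⟨N, hN⟩ : ∃ N : Matrix (Fin b ⊕ Fin b) (Fin b ⊕ Fin b) F, N = N₀.map F₀.subtype :=
    ⟨_, rfl⟩
  have hNY : N = Y - 1 := by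
    rw [hN, hN₀, hYB']
    ext i j
    by_cases hij : i = j
    · subst hij
      simp
    · simp [Matrix.one_apply_ne hij]
  have hJS : Jm F b * S = S * N := by
    rw [hNY, mul_sub, mul_one, ← h, add_mul, one_mul, add_sub_cancel_left]
  have hNN : N * N = 0 := by
    apply hSu.mul_right_injective
    show S * (N * N) = S * 0
    rw [← Matrix.mul_assoc, ← hJS, Matrix.mul_assoc, ← hJS, ← Matrix.mul_assoc, Jm_mul_Jm,
      Matrix.zero_mul, Matrix.mul_zero]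
  have hN₀N₀ : N₀ * N₀ = 0 := by
    apply Matrix.map_injective (Subtype.val_injective : Function.Injective F₀.subtype)
    show (N₀ * N₀).map F₀.subtype = (0 : Matrix _ _ ↥F₀).map F₀.subtype
    rw [Matrix.map_mul, ← hN, hNN]
    ext i j
    simp
  -- kernels and ranges over `F`
  have hSinv : S⁻¹ * S = 1 := Matrix.nonsing_inv_mul S hSdet
  have hSinv' : S * S⁻¹ = 1 := Matrix.mul_nonsing_inv S hSdet
  have hkrF : ∀ v : Fin b ⊕ Fin b → F, N *ᵥ v = 0 → ∃ w, v = N *ᵥ w := by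
    intro v hv
    have h1 : Jm F b *ᵥ (S *ᵥ v) = 0 := by
      rw [Matrix.mulVec_mulVec, hJS, ← Matrix.mulVec_mulVec, hv, Matrix.mulVec_zero]
    obtain ⟨y, hy⟩ := Jm_ker_le_range (S *ᵥ v) h1
    refine ⟨S⁻¹ *ᵥ y, ?_⟩
    have h2 : S *ᵥ (N *ᵥ (S⁻¹ *ᵥ y)) = S *ᵥ v := by
      rw [Matrix.mulVec_mulVec, ← hJS, Matrix.mulVec_mulVec, Matrix.mul_assoc, hSinv',
        Matrix.mul_one, ← hy]
    have hcancel : ∀ t : Fin b ⊕ Fin b → F, S⁻¹ *ᵥ (S *ᵥ t) = t := fun t => by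
      rw [Matrix.mulVec_mulVec, hSinv, Matrix.one_mulVec]
    have h3 : S⁻¹ *ᵥ (S *ᵥ (N *ᵥ (S⁻¹ *ᵥ y))) = S⁻¹ *ᵥ (S *ᵥ v) := by rw [h2]
    rw [hcancel, hcancel] at h3
    exact h3.symm
  rw [hN] at hkrF
  have hkr₀ := ker_le_range_descend F₀ N₀ hkrF
  -- the rational Jordan basis
  have hdim : finrank ↥F₀ (Fin b ⊕ Fin b → ↥F₀) = b + b := by
    rw [Module.finrank_pi, Fintype.card_sum, Fintype.card_fin]
  obtain ⟨φ₀, hφ₀⟩ := exists_equiv_of_sq_zero (Matrix.toLin' N₀) (Matrix.toLin' (Jm ↥F₀ b)) b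
    (fun v => by
      rw [Matrix.toLin'_apply, Matrix.toLin'_apply, Matrix.mulVec_mulVec, hN₀N₀,
        Matrix.zero_mulVec])
    (fun v => by
      rw [Matrix.toLin'_apply, Matrix.toLin'_apply, Matrix.mulVec_mulVec, Jm_mul_Jm,
        Matrix.zero_mulVec])
    (fun v hv => by
      rw [Matrix.toLin'_apply] at hv
      obtain ⟨w, hw⟩ := hkr₀ v hv
      exact ⟨w, by rw [Matrix.toLin'_apply]; exact hw⟩)
    (fun v hv => by
      rw [Matrix.toLin'_apply] at hv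
      obtain ⟨w, hw⟩ := Jm_ker_le_range v hv
      exact ⟨w, by rw [Matrix.toLin'_apply]; exact hw⟩)
    hdim hdim
  obtain ⟨G₀, hG₀⟩ : ∃ G₀ : Matrix (Fin b ⊕ Fin b) (Fin b ⊕ Fin b) F₀,
      G₀ = LinearMap.toMatrix' (φ₀.symm : (Fin b ⊕ Fin b → ↥F₀) →ₗ[↥F₀] (Fin b ⊕ Fin b → ↥F₀)) :=
    ⟨_, rfl⟩
  have hG₀lin : Matrix.toLin' G₀ =
      (φ₀.symm : (Fin b ⊕ Fin b → ↥F₀) →ₗ[↥F₀] (Fin b ⊕ Fin b → ↥F₀)) := by
    rw [hG₀, Matrix.toLin'_toMatrix']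
  have hNG₀ : N₀ * G₀ = G₀ * Jm ↥F₀ b := by
    apply Matrix.toLin'.injective
    rw [Matrix.toLin'_mul, Matrix.toLin'_mul, hG₀lin]
    apply LinearMap.ext
    intro v
    rw [LinearMap.comp_apply, LinearMap.comp_apply]
    show Matrix.toLin' N₀ (φ₀.symm v) = φ₀.symm (Matrix.toLin' (Jm ↥F₀ b) v)
    apply φ₀.injective
    rw [hφ₀, LinearEquiv.apply_symm_apply, LinearEquiv.apply_symm_apply]
  have hG₀det : G₀.det ≠ 0 := by
    rw [hG₀, LinearMap.det_toMatrix']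
    exact (LinearEquiv.isUnit_det' φ₀.symm).ne_zero
  -- over `F`
  obtain ⟨G, hG⟩ : ∃ G : Matrix (Fin b ⊕ Fin b) (Fin b ⊕ Fin b) F, G = G₀.map F₀.subtype :=
    ⟨_, rfl⟩
  have hGdet : G.det = ((G₀.det : ↥F₀) : F) := by
    rw [hG]
    exact (RingHom.map_det F₀.subtype G₀).symm
  have hNG : N₀.map F₀.subtype * G = G * Jm F b := by
    rw [hG, ← Matrix.map_mul, hNG₀, Matrix.map_mul, Jm_map]
  have hcomm : Jm F b * (S * G) = (S * G) * Jm F b := by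
    rw [← Matrix.mul_assoc, hJS, hN, Matrix.mul_assoc, hNG, Matrix.mul_assoc]
  have hC := det_isSquare_of_comm_Jm (S * G) hcomm
  rw [Matrix.det_mul, hGdet] at hC
  have hg0 : ((G₀.det : ↥F₀) : F) ≠ 0 := fun h => hG₀det (Subtype.ext h)
  have h7 : S.det = S.det * ((G₀.det : ↥F₀) : F) / ((G₀.det : ↥F₀) : F) := by
    rw [mul_div_assoc, div_self hg0, mul_one]
  rw [h7]
  exact hC.div (hsq _)

end core

end Cfsg.Agent.Lib.Helper15.PJor
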