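import Mathlib
import Cfsg.Agent.Lib.Helper15.PJor6

/-!
# Elements of order 3 of `PSL_n(q)`, `q` a power of 3, and subfield subgroups: the bad case
-/

set_option autoImplicit false

namespace Cfsg.Agent.Lib.Helper15.PJor

open Module Submodule Matrix Cfsg.Agent.Lib.Helper14 Cfsg.Agent.Lib.Helper13
  Cfsg.Agent.Lib.Helper15.PSubf

section bad

variable {F : Type*} [Field F] [Fintype F] {b : ℕ}

omit [Fintype F] in
theorem det_one_add_Jm : (1 + Jm F b).det = 1 := by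
  have h1 : (1 : Matrix (Fin b ⊕ Fin b) (Fin b ⊕ Fin b) F) + Jm F b =
      Matrix.fromBlocks 1 0 1 1 := by
    unfold Jm
    rw [← Matrix.fromBlocks_one, Matrix.fromBlocks_add]
    simp
  rw [h1, Matrix.det_fromBlocks_zero₁₂, Matrix.det_one, mul_one]

theorem bad_jor [CharP F 3] (hb : 0 < b) (F₀ : Subfield F) (q₀ : ℕ)
    (hF₀ : Nat.card ↥F₀ = q₀) (hq : Fintype.card F = q₀ ^ 2) :
    ∃ x : Matrix.SpecialLinearGroup (Fin (b + b)) F,
      (∃ z : F, ((x ^ 3 : Matrix.SpecialLinearGroup (Fin (b + b)) F) :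
        Matrix (Fin (b + b)) (Fin (b + b)) F) = z • (1 : Matrix (Fin (b + b)) (Fin (b + b)) F)) ∧
      (∀ z : F, (x : Matrix (Fin (b + b)) (Fin (b + b)) F) ≠
        z • (1 : Matrix (Fin (b + b)) (Fin (b + b)) F)) ∧
      ∀ P : Matrix.SpecialLinearGroup (Fin (b + b)) F, P⁻¹ * x * P ∉
        ((Cfsg.Geo.subfieldSubgroup F₀ 1).comap
          (Matrix.SpecialLinearGroup.toGL :
            Matrix.SpecialLinearGroup (Fin (b + b)) F →* GL (Fin (b + b)) F)) := by
  classical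
  have h2 : (2 : F) ≠ 0 := two_ne_zero_of_char_three
  have hchar : ringChar F ≠ 2 := by
    intro hch
    apply h2
    have := ringChar.Nat.cast_ringChar (R := F)
    rw [hch] at this
    exact_mod_cast this
  obtain ⟨ν, hν⟩ := FiniteField.exists_nonsquare hchar
  have hν0 : ν ≠ 0 := by
    rintro rfl
    exact hν ⟨0, by simp⟩
  let j₀ : Fin b := ⟨0, hb⟩
  obtain ⟨c, hc⟩ : ∃ c : Fin b → F, c = Function.update (fun _ => (1 : F)) j₀ ν := ⟨_, rfl⟩
  have hc0 : ∀ j, c j ≠ 0 := by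
    intro j
    rw [hc]
    by_cases hj : j = j₀
    · rw [hj, Function.update_self]
      exact hν0
    · rw [Function.update_of_ne hj]
      exact one_ne_zero
  have hcprod : ∏ j, c j = ν := by
    rw [hc, Finset.prod_update_of_mem (Finset.mem_univ j₀), Finset.prod_const_one, mul_one]
  obtain ⟨D, hD⟩ : ∃ D : Matrix (Fin b ⊕ Fin b) (Fin b ⊕ Fin b) F,
      D = Matrix.fromBlocks 1 0 0 (Matrix.diagonal c) := ⟨_, rfl⟩
  obtain ⟨Di, hDi⟩ : ∃ Di : Matrix (Fin b ⊕ Fin b) (Fin b ⊕ Fin b) F,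
      Di = Matrix.fromBlocks 1 0 0 (Matrix.diagonal (fun j => (c j)⁻¹)) := ⟨_, rfl⟩
  have hDDi : D * Di = 1 := by
    rw [hD, hDi, Matrix.fromBlocks_multiply]
    simp only [Matrix.mul_one, Matrix.mul_zero, Matrix.zero_mul, add_zero, zero_add,
      Matrix.diagonal_mul_diagonal]
    have : (fun j => c j * (c j)⁻¹) = fun _ => (1 : F) := by
      funext j
      exact mul_inv_cancel₀ (hc0 j)
    rw [this, Matrix.diagonal_one, Matrix.fromBlocks_one]
  have hDiD : Di * D = 1 := by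
    rw [hD, hDi, Matrix.fromBlocks_multiply]
    simp only [Matrix.mul_one, Matrix.mul_zero, Matrix.zero_mul, add_zero, zero_add,
      Matrix.diagonal_mul_diagonal]
    have : (fun j => (c j)⁻¹ * c j) = fun _ => (1 : F) := by
      funext j
      exact inv_mul_cancel₀ (hc0 j)
    rw [this, Matrix.diagonal_one, Matrix.fromBlocks_one]
  have hDidet : Di.det = ν⁻¹ := by
    rw [hDi, Matrix.det_fromBlocks_zero₁₂, Matrix.det_one, one_mul, Matrix.det_diagonal,
      Finset.prod_inv_distrib, hcprod]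
  let Du : (Matrix (Fin b ⊕ Fin b) (Fin b ⊕ Fin b) F)ˣ := ⟨D, Di, hDDi, hDiD⟩
  obtain ⟨x₀, hx₀⟩ : ∃ x₀ : Matrix (Fin b ⊕ Fin b) (Fin b ⊕ Fin b) F,
      x₀ = D * (1 + Jm F b) * Di := ⟨_, rfl⟩
  have hx₀det : x₀.det = 1 := by
    rw [hx₀, Matrix.det_mul, Matrix.det_mul, det_one_add_Jm, mul_one, ← Matrix.det_mul, hDDi,
      Matrix.det_one]
  have hx₀3 : x₀ ^ 3 = 1 := by
    have := Units.conj_pow Du (1 + Jm F b) 3
    rw [one_add_Jm_pow_three hb] at this
    have h1 : x₀ = (Du : Matrix (Fin b ⊕ Fin b) (Fin b ⊕ Fin b) F) * (1 + Jm F b) *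
        ((Du⁻¹ : (Matrix (Fin b ⊕ Fin b) (Fin b ⊕ Fin b) F)ˣ) :
          Matrix (Fin b ⊕ Fin b) (Fin b ⊕ Fin b) F) := hx₀
    rw [h1, this, mul_one]
    exact hDDi
  let e : Fin b ⊕ Fin b ≃ Fin (b + b) := finSumFinEquiv
  obtain ⟨xm, hxm⟩ : ∃ xm : Matrix (Fin (b + b)) (Fin (b + b)) F,
      xm = x₀.submatrix e.symm e.symm := ⟨_, rfl⟩
  have hxmdet : xm.det = 1 := by
    rw [hxm, Matrix.det_submatrix_equiv_self, hx₀det]
  have hxm3 : xm * xm * xm = 1 := by
    rw [hxm, Matrix.submatrix_mul_equiv, Matrix.submatrix_mul_equiv, ← pow_two, ← pow_succ,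
      hx₀3, Matrix.submatrix_one_equiv]
  have hxmback : xm.submatrix e e = x₀ := by
    rw [hxm, Matrix.submatrix_submatrix, Equiv.symm_comp_self, Matrix.submatrix_id_id]
  obtain ⟨x, hx⟩ : ∃ x : Matrix.SpecialLinearGroup (Fin (b + b)) F,
      (x : Matrix (Fin (b + b)) (Fin (b + b)) F) = xm := ⟨⟨xm, hxmdet⟩, rfl⟩
  refine ⟨x, ⟨1, ?_⟩, ?_, ?_⟩
  · rw [one_smul, pow_succ, pow_two, Matrix.SpecialLinearGroup.coe_mul,
      Matrix.SpecialLinearGroup.coe_mul, hx]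
    exact hxm3
  · intro z hz
    have hz' : xm = z • (1 : Matrix (Fin (b + b)) (Fin (b + b)) F) := by rw [← hx]; exact hz
    have h1 : x₀ = z • (1 : Matrix (Fin b ⊕ Fin b) (Fin b ⊕ Fin b) F) := by
      rw [← hxmback, hz', Matrix.submatrix_smul, Pi.smul_apply, Pi.smul_apply,
        Matrix.submatrix_one_equiv]
    have h3 : (1 : Matrix (Fin b ⊕ Fin b) (Fin b ⊕ Fin b) F) + Jm F b =
        z • (1 : Matrix (Fin b ⊕ Fin b) (Fin b ⊕ Fin b) F) := by
      have h4 : Di * x₀ * D = 1 + Jm F b := by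
        rw [hx₀, ← Matrix.mul_assoc, ← Matrix.mul_assoc, hDiD, Matrix.one_mul, Matrix.mul_assoc,
          hDiD, Matrix.mul_one]
      rw [← h4, h1, Matrix.mul_smul, Matrix.mul_one, Matrix.smul_mul, hDiD]
    have h5 := congrFun (congrFun h3 (Sum.inr j₀)) (Sum.inl j₀)
    unfold Jm at h5
    simp at h5
  · intro P hP
    rw [Subgroup.mem_comap] at hP
    obtain ⟨l, B, hlB⟩ := exists_eq_of_mem_subfieldSubgroup F₀ 1 _ hP
    rw [inv_one, one_mul, mul_one] at hlB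
    have h4 : ((P⁻¹ * x * P : Matrix.SpecialLinearGroup (Fin (b + b)) F) :
        Matrix (Fin (b + b)) (Fin (b + b)) F) = l • rmat F₀ B := hlB
    have h5 : xm * (P : Matrix (Fin (b + b)) (Fin (b + b)) F) =
        (P : Matrix (Fin (b + b)) (Fin (b + b)) F) * (l • rmat F₀ B) := by
      rw [← h4, Matrix.SpecialLinearGroup.coe_mul, Matrix.SpecialLinearGroup.coe_mul,
        ← Matrix.mul_assoc, ← Matrix.mul_assoc, ← Matrix.SpecialLinearGroup.coe_mul,
        mul_inv_cancel, Matrix.SpecialLinearGroup.coe_one, Matrix.one_mul, hx]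
    -- reindex
    obtain ⟨Pi', hPi'⟩ : ∃ Pi' : Matrix (Fin b ⊕ Fin b) (Fin b ⊕ Fin b) F,
        Pi' = (P : Matrix (Fin (b + b)) (Fin (b + b)) F).submatrix e e := ⟨_, rfl⟩
    obtain ⟨Bi, hBi⟩ : ∃ Bi : Matrix (Fin b ⊕ Fin b) (Fin b ⊕ Fin b) F₀,
        Bi = B.submatrix e e := ⟨_, rfl⟩
    have hPi'det : Pi'.det = 1 := by
      rw [hPi', Matrix.det_submatrix_equiv_self]
      exact P.2
    have h6 : x₀ * Pi' = Pi' * (l • Bi.map F₀.subtype) := by
      have h7 := congrArg (fun A : Matrix (Fin (b + b)) (Fin (b + b)) F => A.submatrix e e) h5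
      rw [← Matrix.submatrix_mul_equiv _ _ e e e, ← Matrix.submatrix_mul_equiv _ _ e e e,
        hxmback, Matrix.submatrix_smul, Pi.smul_apply, Pi.smul_apply] at h7
      rw [hPi', hBi, ← Matrix.submatrix_map]
      exact h7
    obtain ⟨S', hS'⟩ : ∃ S' : Matrix (Fin b ⊕ Fin b) (Fin b ⊕ Fin b) F, S' = Di * Pi' :=
      ⟨_, rfl⟩
    have hS'det : S'.det = ν⁻¹ := by
      rw [hS', Matrix.det_mul, hDidet, hPi'det, mul_one]
    have h8 : (1 + Jm F b) * S' = S' * (l • Bi.map F₀.subtype) := by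
      have h9 : (1 + Jm F b) * Di = Di * x₀ := by
        rw [hx₀, ← Matrix.mul_assoc, ← Matrix.mul_assoc, hDiD, Matrix.one_mul]
      rw [hS', ← Matrix.mul_assoc, h9, Matrix.mul_assoc, h6, Matrix.mul_assoc]
    have h10 := core_J hb F₀ (isSquare_of_mem_subfield h2 F₀ q₀ hF₀ hq) S'
      (by rw [hS'det]; exact inv_ne_zero hν0) l Bi h8
    rw [hS'det, isSquare_inv] at h10
    exact hν h10

end bad

end Cfsg.Agent.Lib.Helper15.PJor
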