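import Mathlib
import Cfsg.Prelude.Def_GeometricClasses
import Cfsg.Agent.Lib.Helper15.PInv7

/-!
# Field subalgebras of degree two of the matrix algebra and their normalisers
-/

set_option autoImplicit false

namespace Cfsg.Agent.Lib.Helper15.PNorm

open Module Submodule Cfsg.Agent.Lib.Helper15.PSub Cfsg.Agent.Lib.Helper15.PInv

section kstruct

variable {F : Type*} [Field F] {n : ℕ}

/-- a generator of a field subalgebra of degree two -/
theorem exists_gen (hn : 0 < n) (K : Subalgebra F (Matrix (Fin n) (Fin n) F))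
    (hK : Cfsg.Geo.IsFieldSubalgebra 2 K) :
    ∃ J ∈ K, (∀ c : F, J ≠ c • (1 : Matrix (Fin n) (Fin n) F)) ∧
      ∀ k ∈ K, ∃ a b : F, k = a • (1 : Matrix (Fin n) (Fin n) F) + b • J := by
  classical
  have h1 : (1 : Matrix (Fin n) (Fin n) F) ≠ 0 := by
    intro h
    have := congrFun (congrFun h ⟨0, hn⟩) ⟨0, hn⟩
    simp at this
  -- some element of `K` is not scalar
  obtain ⟨J, hJK, hJ⟩ : ∃ J ∈ K, ∀ c : F, J ≠ c • (1 : Matrix (Fin n) (Fin n) F) := by
    by_contra hall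
    have hall' : ∀ J ∈ K, ∃ c : F, J = c • (1 : Matrix (Fin n) (Fin n) F) := by
      intro J hJ
      by_contra hc
      exact hall ⟨J, hJ, fun c hc' => hc ⟨c, hc'⟩⟩
    have hle : finrank F K ≤ 1 := by
      apply finrank_le_one (1 : K)
      intro k
      obtain ⟨c, hc⟩ := hall' k.1 k.2
      refine ⟨c, ?_⟩
      apply Subtype.ext
      rw [hc]
      rfl
    rw [hK.finrank_eq] at hle
    omega
  refine ⟨J, hJK, hJ, ?_⟩
  have hli : LinearIndependent F ![(1 : K), (⟨J, hJK⟩ : K)] := by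
    rw [LinearIndependent.pair_iff]
    intro s t hst
    have hst' : s • (1 : Matrix (Fin n) (Fin n) F) + t • J = 0 := by
      have := congrArg Subtype.val hst
      exact this
    by_cases ht : t = 0
    · rw [ht, zero_smul, add_zero] at hst'
      rcases smul_eq_zero.mp hst' with h | h
      · exact ⟨h, ht⟩
      · exact absurd h h1
    · exfalso
      apply hJ (-(t⁻¹ * s))
      have h3 : t • J = -(s • (1 : Matrix (Fin n) (Fin n) F)) := eq_neg_of_add_eq_zero_right hst'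
      calc J = t⁻¹ • (t • J) := by rw [smul_smul, inv_mul_cancel₀ ht, one_smul]
        _ = -(t⁻¹ * s) • (1 : Matrix (Fin n) (Fin n) F) := by
            rw [h3, smul_neg, smul_smul, neg_smul]
  have hspan : span F (Set.range ![(1 : K), (⟨J, hJK⟩ : K)]) = ⊤ := by
    apply hli.span_eq_top_of_card_eq_finrank
    rw [Fintype.card_fin, hK.finrank_eq]
  intro k hk
  have hmem : (⟨k, hk⟩ : K) ∈ span F (Set.range ![(1 : K), (⟨J, hJK⟩ : K)]) := by
    rw [hspan]
    trivial
  have hr : Set.range ![(1 : K), (⟨J, hJK⟩ : K)] = {(1 : K), (⟨J, hJK⟩ : K)} := by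
    rw [Matrix.range_cons, Matrix.range_cons, Matrix.range_empty, Set.union_empty]
    rfl
  rw [hr, Submodule.mem_span_pair] at hmem
  obtain ⟨a, b, hab⟩ := hmem
  refine ⟨a, b, ?_⟩
  have := congrArg Subtype.val hab
  exact this.symm

/-- two-sided inverses in a field subalgebra -/
theorem exists_inv (K : Subalgebra F (Matrix (Fin n) (Fin n) F)) {r : ℕ}
    (hK : Cfsg.Geo.IsFieldSubalgebra r K) (k : Matrix (Fin n) (Fin n) F) (hk : k ∈ K)
    (hk0 : k ≠ 0) : ∃ y ∈ K, k * y = 1 ∧ y * k = 1 := by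
  obtain ⟨y, hy, hky⟩ := hK.inv k hk hk0
  exact ⟨y, hy, hky, by rw [hK.comm y hy k hk]; exact hky⟩

/-- nonzero elements of a field subalgebra have no kernel -/
theorem mulVec_eq_zero (K : Subalgebra F (Matrix (Fin n) (Fin n) F)) {r : ℕ}
    (hK : Cfsg.Geo.IsFieldSubalgebra r K) (k : Matrix (Fin n) (Fin n) F) (hk : k ∈ K)
    (hk0 : k ≠ 0) (v : Fin n → F) (hv : k.mulVec v = 0) : v = 0 := by
  obtain ⟨y, -, -, hyk⟩ := exists_inv K hK k hk hk0
  have := congrArg y.mulVec hv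
  rw [Matrix.mulVec_mulVec, hyk, Matrix.one_mulVec, Matrix.mulVec_zero] at this
  exact this

/-- a non-scalar element of a field subalgebra has no eigenvector -/
theorem no_eigen (K : Subalgebra F (Matrix (Fin n) (Fin n) F)) {r : ℕ}
    (hK : Cfsg.Geo.IsFieldSubalgebra r K) (J : Matrix (Fin n) (Fin n) F) (hJ : J ∈ K)
    (hJns : ∀ c : F, J ≠ c • (1 : Matrix (Fin n) (Fin n) F)) (c : F) (v : Fin n → F)
    (hv : J.mulVec v = c • v) : v = 0 := by
  apply mulVec_eq_zero K hK (J - c • 1) (K.sub_mem hJ (K.smul_mem K.one_mem c))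
  · intro h
    exact hJns c (sub_eq_zero.mp h)
  · rw [Matrix.sub_mulVec, Matrix.smul_mulVec, Matrix.one_mulVec, hv, sub_self]

/-- in odd characteristic the generator can be chosen with scalar non-square square -/
theorem exists_gen_odd (hn : 0 < n) (h2 : (2 : F) ≠ 0) (K : Subalgebra F (Matrix (Fin n) (Fin n) F))
    (hK : Cfsg.Geo.IsFieldSubalgebra 2 K) :
    ∃ J ∈ K, ∃ z : F, ¬ IsSquare z ∧ J * J = z • (1 : Matrix (Fin n) (Fin n) F) ∧
      (∀ c : F, J ≠ c • (1 : Matrix (Fin n) (Fin n) F)) ∧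
      ∀ k ∈ K, ∃ a b : F, k = a • (1 : Matrix (Fin n) (Fin n) F) + b • J := by
  obtain ⟨J₀, hJ₀K, hJ₀ns, hgen⟩ := exists_gen hn K hK
  obtain ⟨α, β, hq⟩ := hgen (J₀ * J₀) (K.mul_mem hJ₀K hJ₀K)
  set J : Matrix (Fin n) (Fin n) F := J₀ - (β / 2) • 1 with hJ
  have hJK : J ∈ K := K.sub_mem hJ₀K (K.smul_mem K.one_mem _)
  have hJns : ∀ c : F, J ≠ c • (1 : Matrix (Fin n) (Fin n) F) := by
    intro c hc
    apply hJ₀ns (c + β / 2)
    rw [add_smul, ← hc, hJ]
    abel
  obtain ⟨c, hc⟩ : ∃ c : F, c = β / 2 := ⟨_, rfl⟩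
  have hβ : β = c + c := by
    rw [hc]
    field_simp
    ring
  have hJJ : J * J = (α + c * c) • (1 : Matrix (Fin n) (Fin n) F) := by
    rw [hJ, ← hc, Matrix.sub_mul, Matrix.mul_sub, Matrix.mul_sub, hq, hβ]
    simp only [Matrix.smul_mul, Matrix.mul_smul, Matrix.one_mul, Matrix.mul_one, smul_smul]
    module
  refine ⟨J, hJK, α + c * c, ?_, hJJ, hJns, ?_⟩
  · rintro ⟨s, hs⟩
    have h3 : (J - s • 1) * (J + s • 1) = 0 := by
      rw [Matrix.sub_mul, Matrix.mul_add, Matrix.mul_add, hJJ, hs]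
      simp only [Matrix.smul_mul, Matrix.mul_smul, Matrix.one_mul, Matrix.mul_one, smul_smul]
      abel
    have h4 : J - s • 1 ≠ 0 := fun h => hJns s (sub_eq_zero.mp h)
    obtain ⟨y, -, -, hy⟩ := exists_inv K hK _ (K.sub_mem hJK (K.smul_mem K.one_mem s)) h4
    have h5 := congrArg (fun M => y * M) h3
    simp only [← Matrix.mul_assoc, hy, Matrix.one_mul, Matrix.mul_zero] at h5
    apply hJns (-s)
    rw [neg_smul]
    exact eq_neg_of_add_eq_zero_left h5
  · intro k hk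
    obtain ⟨a, b, hab⟩ := hgen k hk
    refine ⟨a + b * (β / 2), b, ?_⟩
    rw [hab, hJ, smul_sub, add_smul, smul_smul]
    abel

end kstruct

end Cfsg.Agent.Lib.Helper15.PNorm
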