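import Mathlib
import Cfsg.Agent.Lib.Helper15.PNorm1

/-!
# Normalisers of field subalgebras of degree two: membership criterion and obstruction
-/

set_option autoImplicit false

namespace Cfsg.Agent.Lib.Helper15.PNorm

open Module Submodule Cfsg.Agent.Lib.Helper15.PSub Cfsg.Agent.Lib.Helper15.PInv

section norm

variable {F : Type*} [Field F] {n : ℕ}

/-- membership in the normaliser from the image of a generator -/
theorem mem_normalizer_of_gen (K : Subalgebra F (Matrix (Fin n) (Fin n) F))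
    (J : Matrix (Fin n) (Fin n) F) (hJK : J ∈ K)
    (hgen : ∀ k ∈ K, ∃ a b : F, k = a • (1 : Matrix (Fin n) (Fin n) F) + b • J)
    (g : GL (Fin n) F) (ε a : F) (hε : ε ≠ 0)
    (h : (g : Matrix (Fin n) (Fin n) F) * J =
      (ε • J + a • (1 : Matrix (Fin n) (Fin n) F)) * (g : Matrix (Fin n) (Fin n) F)) :
    g ∈ Cfsg.Geo.subalgebraNormalizer K := by
  set G : Matrix (Fin n) (Fin n) F := (g : Matrix (Fin n) (Fin n) F) with hG
  set Gi : Matrix (Fin n) (Fin n) F := ((g⁻¹ : GL (Fin n) F) : Matrix (Fin n) (Fin n) F) with hGi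
  have hGGi : G * Gi = 1 := by
    rw [hG, hGi, ← Units.val_mul, mul_inv_cancel, Units.val_one]
  have hGiG : Gi * G = 1 := by
    rw [hG, hGi, ← Units.val_mul, inv_mul_cancel, Units.val_one]
  have h1 : G * J * Gi = ε • J + a • (1 : Matrix (Fin n) (Fin n) F) := by
    rw [h, Matrix.mul_assoc, hGGi, Matrix.mul_one]
  have h2 : Gi * J * G = ε⁻¹ • J - (ε⁻¹ * a) • (1 : Matrix (Fin n) (Fin n) F) := by
    have h3 : Gi * (G * J) * Gi = Gi * ((ε • J + a • (1 : Matrix (Fin n) (Fin n) F)) * G) * Gi := by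
      rw [h]
    rw [← Matrix.mul_assoc, hGiG, Matrix.one_mul, Matrix.mul_assoc, Matrix.mul_assoc, hGGi,
      Matrix.mul_one] at h3
    -- `h3 : J * Gi = Gi * (ε • J + a • 1)`
    have h4 : J = Gi * (ε • J + a • (1 : Matrix (Fin n) (Fin n) F)) * G := by
      rw [← h3, Matrix.mul_assoc, hGiG, Matrix.mul_one]
    have h5 : J = ε • (Gi * J * G) + a • (1 : Matrix (Fin n) (Fin n) F) := by
      nth_rewrite 1 [h4]
      rw [Matrix.mul_add, Matrix.add_mul, Matrix.mul_smul, Matrix.smul_mul, Matrix.mul_smul,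
        Matrix.smul_mul, Matrix.mul_one, hGiG]
    have h6 : ε • (Gi * J * G) = J - a • (1 : Matrix (Fin n) (Fin n) F) := by
      nth_rewrite 2 [h5]
      abel
    calc Gi * J * G = ε⁻¹ • (ε • (Gi * J * G)) := by
          rw [smul_smul, inv_mul_cancel₀ hε, one_smul]
      _ = ε⁻¹ • J - (ε⁻¹ * a) • (1 : Matrix (Fin n) (Fin n) F) := by
          rw [h6, smul_sub, smul_smul]
  show ∀ k : Matrix (Fin n) (Fin n) F, k ∈ K ↔ G * k * Gi ∈ K
  intro k
  constructor
  · intro hk
    obtain ⟨α, β, hαβ⟩ := hgen k hk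
    have h7 : G * k * Gi = α • (1 : Matrix (Fin n) (Fin n) F) + β • (G * J * Gi) := by
      rw [hαβ, Matrix.mul_add, Matrix.add_mul, Matrix.mul_smul, Matrix.smul_mul, Matrix.mul_one,
        hGGi, Matrix.mul_smul, Matrix.smul_mul]
    rw [h7, h1]
    exact K.add_mem (K.smul_mem K.one_mem _)
      (K.smul_mem (K.add_mem (K.smul_mem hJK _) (K.smul_mem K.one_mem _)) _)
  · intro hk
    obtain ⟨α, β, hαβ⟩ := hgen _ hk
    have h8 : k = Gi * (G * k * Gi) * G := by
      rw [Matrix.mul_assoc, Matrix.mul_assoc, hGiG, Matrix.mul_one, ← Matrix.mul_assoc, hGiG,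
        Matrix.one_mul]
    have h9 : k = α • (1 : Matrix (Fin n) (Fin n) F) + β • (Gi * J * G) := by
      rw [h8, hαβ, Matrix.mul_add, Matrix.add_mul, Matrix.mul_smul, Matrix.smul_mul,
        Matrix.mul_one, hGiG, Matrix.mul_smul, Matrix.smul_mul]
    rw [h9, h2]
    exact K.add_mem (K.smul_mem K.one_mem _)
      (K.smul_mem (K.sub_mem (K.smul_mem hJK _) (K.smul_mem K.one_mem _)) _)

/-- **Obstruction**: an invertible matrix which is a scalar plus a rank one matrix does not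
normalise a field subalgebra of degree two when `n ≥ 3`. -/
theorem not_mem_normalizer (hn : 3 ≤ n) (K : Subalgebra F (Matrix (Fin n) (Fin n) F))
    (hK : Cfsg.Geo.IsFieldSubalgebra 2 K) (g : GL (Fin n) F) (w : F)
    (φ : (Fin n → F) →ₗ[F] F) (u : Fin n → F) (hu : u ≠ 0) (hφ : φ ≠ 0)
    (hg : ∀ v, (g : Matrix (Fin n) (Fin n) F).mulVec v = w • v + φ v • u) :
    g ∉ Cfsg.Geo.subalgebraNormalizer K := by
  classical
  intro hmem
  have hmem' : ∀ k : Matrix (Fin n) (Fin n) F, k ∈ K ↔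
      (g : Matrix (Fin n) (Fin n) F) * k * ((g⁻¹ : GL (Fin n) F) : Matrix (Fin n) (Fin n) F) ∈ K :=
    hmem
  set G : Matrix (Fin n) (Fin n) F := (g : Matrix (Fin n) (Fin n) F) with hG
  set Gi : Matrix (Fin n) (Fin n) F := ((g⁻¹ : GL (Fin n) F) : Matrix (Fin n) (Fin n) F) with hGi
  have hGiG : Gi * G = 1 := by
    rw [hG, hGi, ← Units.val_mul, inv_mul_cancel, Units.val_one]
  obtain ⟨J, hJK, hJns, -⟩ := exists_gen (by omega) K hK
  set J' := G * J * Gi with hJ'
  have hJ'K : J' ∈ K := (hmem' J).mp hJK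
  have hJ'G : J' * G = G * J := by
    rw [hJ', Matrix.mul_assoc, hGiG, Matrix.mul_one]
  -- a nonzero vector `v` with `φ v = 0` and `φ (J v) = 0`
  let ψ : (Fin n → F) →ₗ[F] F × F := φ.prod (φ ∘ₗ Matrix.toLin' J)
  have hker : LinearMap.ker ψ ≠ ⊥ := by
    intro hbot
    have h1 := LinearMap.finrank_range_add_finrank_ker ψ
    rw [hbot, finrank_bot, add_zero, Module.finrank_fin_fun] at h1
    have h2 : finrank F (LinearMap.range ψ) ≤ finrank F (F × F) := Submodule.finrank_le _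
    rw [Module.finrank_prod, Module.finrank_self] at h2
    omega
  obtain ⟨v, hvker, hv0⟩ := Submodule.exists_mem_ne_zero_of_ne_bot hker
  have hψ : ψ v = 0 := LinearMap.mem_ker.mp hvker
  have hφv : φ v = 0 := congrArg Prod.fst hψ
  have hφJv : φ (J.mulVec v) = 0 := by
    have := congrArg Prod.snd hψ
    simpa [ψ] using this
  have hGv : G.mulVec v = w • v := by rw [hg, hφv, zero_smul, add_zero]
  have hGJv : G.mulVec (J.mulVec v) = w • J.mulVec v := by rw [hg, hφJv, zero_smul, add_zero]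
  have hw : w ≠ 0 := by
    rintro rfl
    apply hv0
    have := congrArg Gi.mulVec hGv
    rw [Matrix.mulVec_mulVec, hGiG, Matrix.one_mulVec, zero_smul, Matrix.mulVec_zero] at this
    exact this
  have hJJ' : J' = J := by
    by_contra hne
    apply hv0
    apply mulVec_eq_zero K hK (J' - J) (K.sub_mem hJ'K hJK) (sub_ne_zero.mpr hne)
    have h3 := congrArg (fun M => M.mulVec v) hJ'G
    simp only [← Matrix.mulVec_mulVec, hGv, hGJv, Matrix.mulVec_smul] at h3
    rw [Matrix.sub_mulVec]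
    have h4 : w • (J'.mulVec v - J.mulVec v) = 0 := by rw [smul_sub, h3, sub_self]
    rcases smul_eq_zero.mp h4 with h5 | h5
    · exact absurd h5 hw
    · exact h5
  have hcomm : J * G = G * J := by
    have h := hJ'G
    rw [hJJ'] at h
    exact h
  -- a vector with `φ v₀ ≠ 0`
  obtain ⟨v₀, hv₀⟩ : ∃ v₀, φ v₀ ≠ 0 := by
    by_contra hall
    apply hφ
    apply LinearMap.ext
    intro v
    have := not_exists.mp hall v
    rw [not_not] at this
    rw [this, LinearMap.zero_apply]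
  have h6 := congrArg (fun M => M.mulVec v₀) hcomm
  simp only [← Matrix.mulVec_mulVec, hg, Matrix.mulVec_add, Matrix.mulVec_smul] at h6
  -- `h6 : w • J v₀ + φ v₀ • J u = w • J v₀ + φ (J v₀) • u`
  have h7 : φ v₀ • J.mulVec u = φ (J.mulVec v₀) • u := add_left_cancel h6
  apply hu
  apply no_eigen K hK J hJK hJns ((φ v₀)⁻¹ * φ (J.mulVec v₀)) u
  calc J.mulVec u = (φ v₀)⁻¹ • (φ v₀ • J.mulVec u) := by
        rw [smul_smul, inv_mul_cancel₀ hv₀, one_smul]
    _ = ((φ v₀)⁻¹ * φ (J.mulVec v₀)) • u := by rw [h7, smul_smul]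

/-- the obstruction is invariant under conjugation -/
theorem not_conj_mem_normalizer (hn : 3 ≤ n) (K : Subalgebra F (Matrix (Fin n) (Fin n) F))
    (hK : Cfsg.Geo.IsFieldSubalgebra 2 K) (x : Matrix.SpecialLinearGroup (Fin n) F) (w : F)
    (φ : (Fin n → F) →ₗ[F] F) (u : Fin n → F) (hu : u ≠ 0) (hφ : φ ≠ 0)
    (hx : ∀ v, (x : Matrix (Fin n) (Fin n) F).mulVec v = w • v + φ v • u)
    (P : Matrix.SpecialLinearGroup (Fin n) F) :
    P⁻¹ * x * P ∉ ((Cfsg.Geo.subalgebraNormalizer K).comap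
      (Matrix.SpecialLinearGroup.toGL : Matrix.SpecialLinearGroup (Fin n) F →* GL (Fin n) F)) := by
  classical
  rw [Subgroup.mem_comap]
  have hPP : ((P⁻¹ : Matrix.SpecialLinearGroup (Fin n) F) : Matrix (Fin n) (Fin n) F) *
      (P : Matrix (Fin n) (Fin n) F) = 1 := by
    rw [← Matrix.SpecialLinearGroup.coe_mul, inv_mul_cancel, Matrix.SpecialLinearGroup.coe_one]
  have hPP' : (P : Matrix (Fin n) (Fin n) F) *
      ((P⁻¹ : Matrix.SpecialLinearGroup (Fin n) F) : Matrix (Fin n) (Fin n) F) = 1 := by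
    rw [← Matrix.SpecialLinearGroup.coe_mul, mul_inv_cancel, Matrix.SpecialLinearGroup.coe_one]
  apply not_mem_normalizer hn K hK _ w
    (φ ∘ₗ Matrix.toLin' (P : Matrix (Fin n) (Fin n) F))
    (((P⁻¹ : Matrix.SpecialLinearGroup (Fin n) F) : Matrix (Fin n) (Fin n) F).mulVec u)
  · intro h0
    apply hu
    have := congrArg (P : Matrix (Fin n) (Fin n) F).mulVec h0
    rw [Matrix.mulVec_mulVec, hPP', Matrix.one_mulVec, Matrix.mulVec_zero] at this
    exact this
  · intro h0
    apply hφ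
    apply LinearMap.ext
    intro v
    have := LinearMap.congr_fun h0
      (((P⁻¹ : Matrix.SpecialLinearGroup (Fin n) F) : Matrix (Fin n) (Fin n) F).mulVec v)
    rw [LinearMap.comp_apply, Matrix.toLin'_apply, Matrix.mulVec_mulVec, hPP', Matrix.one_mulVec,
      LinearMap.zero_apply] at this
    rw [this, LinearMap.zero_apply]
  · intro v
    show ((P⁻¹ * x * P : Matrix.SpecialLinearGroup (Fin n) F) :
      Matrix (Fin n) (Fin n) F).mulVec v = _
    rw [Matrix.SpecialLinearGroup.coe_mul, Matrix.SpecialLinearGroup.coe_mul,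
      ← Matrix.mulVec_mulVec, ← Matrix.mulVec_mulVec, hx, Matrix.mulVec_add, Matrix.mulVec_smul,
      Matrix.mulVec_smul, Matrix.mulVec_mulVec, hPP, Matrix.one_mulVec, LinearMap.comp_apply,
      Matrix.toLin'_apply]

end norm

end Cfsg.Agent.Lib.Helper15.PNorm
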