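import Mathlib
import Cfsg.Agent.Lib.Helper15.PNorm2

/-!
# Standard pair bases and intertwiners of operators with the same irreducible quadratic relation
-/

set_option autoImplicit false

namespace Cfsg.Agent.Lib.Helper15.PNorm

open Module Submodule Polynomial Cfsg.Agent.Lib.Helper15.PSub Cfsg.Agent.Lib.Helper15.PInv
  Cfsg.Agent.Lib.Helper15.PDec

section stdp

variable {F V : Type*} [Field F] [AddCommGroup V] [Module F V]

/-- `W` has a basis of the form `(e j, X (e j))`. -/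
def StdP (X : V →ₗ[F] V) (W : Submodule F V) (κ : Type) : Prop :=
  ∃ e : κ → V, LinearIndependent F (Sum.elim e (X ∘ e)) ∧
    span F (Set.range (Sum.elim e (X ∘ e))) = W

theorem StdP.empty (X : V →ₗ[F] V) : StdP X ⊥ Empty := by
  refine ⟨fun e => e.elim, linearIndependent_empty_type, ?_⟩
  rw [Set.range_eq_empty, span_empty]

theorem StdP.series {κ₁ κ₂ : Type} {X : V →ₗ[F] V} {W₁ W₂ : Submodule F V}
    (h₁ : StdP X W₁ κ₁) (h₂ : StdP X W₂ κ₂) (hd : Disjoint W₁ W₂) :
    StdP X (W₁ ⊔ W₂) (κ₁ ⊕ κ₂) := by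
  obtain ⟨e₁, hli₁, hsp₁⟩ := h₁
  obtain ⟨e₂, hli₂, hsp₂⟩ := h₂
  have hXe : X ∘ Sum.elim e₁ e₂ = Sum.elim (X ∘ e₁) (X ∘ e₂) := by
    funext i
    rcases i with i | i <;> rfl
  refine ⟨Sum.elim e₁ e₂, ?_, ?_⟩
  · have hg : LinearIndependent F (Sum.elim (Sum.elim e₁ (X ∘ e₁)) (Sum.elim e₂ (X ∘ e₂))) := by
      apply LinearIndependent.sum_type hli₁ hli₂
      rw [hsp₁, hsp₂]
      exact hd
    have hcomp : Sum.elim (Sum.elim e₁ e₂) (X ∘ Sum.elim e₁ e₂) =
        Sum.elim (Sum.elim e₁ (X ∘ e₁)) (Sum.elim e₂ (X ∘ e₂)) ∘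
          (Equiv.sumSumSumComm κ₁ κ₂ κ₁ κ₂) := by
      funext i
      rcases i with (i | i) | (i | i) <;> rfl
    rw [hcomp]
    exact hg.comp _ (Equiv.injective _)
  · rw [hXe, Set.Sum.elim_range, Set.Sum.elim_range, Set.Sum.elim_range, span_union, span_union,
      span_union, ← hsp₁, ← hsp₂, Set.Sum.elim_range, Set.Sum.elim_range, span_union, span_union]
    exact sup_sup_sup_comm _ _ _ _

theorem StdP.congr {κ : Type} {X : V →ₗ[F] V} {W W' : Submodule F V}
    (h : StdP X W κ) (hW : W = W') : StdP X W' κ := by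
  subst hW; exact h

theorem StdP.reindex {κ κ' : Type} {X : V →ₗ[F] V} {W : Submodule F V}
    (h : StdP X W κ) (ε : κ' ≃ κ) : StdP X W κ' := by
  obtain ⟨e, hli, hsp⟩ := h
  have hcomp : Sum.elim (e ∘ ε) (X ∘ (e ∘ ε)) = Sum.elim e (X ∘ e) ∘ (Equiv.sumCongr ε ε) := by
    funext i
    rcases i with i | i <;> rfl
  refine ⟨e ∘ ε, ?_, ?_⟩
  · rw [hcomp]
    exact hli.comp _ (Equiv.injective _)
  · rw [hcomp, (Equiv.sumCongr ε ε).surjective.range_comp, hsp]

/-- **Intertwiner** of two operators satisfying the same quadratic relation and having standard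
pair bases of the same size. -/
theorem intertwine {κ : Type} (X X' : V →ₗ[F] V) (α β : F)
    (hX : ∀ v, X (X v) = α • v + β • X v) (hX' : ∀ v, X' (X' v) = α • v + β • X' v)
    (h : StdP X ⊤ κ) (h' : StdP X' ⊤ κ) :
    ∃ Q : V ≃ₗ[F] V, ∀ v, Q (X v) = X' (Q v) := by
  classical
  obtain ⟨e, hli, hsp⟩ := h
  obtain ⟨e', hli', hsp'⟩ := h'
  let bb : Basis (κ ⊕ κ) F V := Basis.mk hli (by rw [hsp])
  let bb' : Basis (κ ⊕ κ) F V := Basis.mk hli' (by rw [hsp'])
  have hbl : ∀ j, bb (Sum.inl j) = e j := fun j => by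
    show Basis.mk hli _ (Sum.inl j) = _
    rw [Basis.mk_apply]; rfl
  have hbr : ∀ j, bb (Sum.inr j) = X (e j) := fun j => by
    show Basis.mk hli _ (Sum.inr j) = _
    rw [Basis.mk_apply]; rfl
  have hbl' : ∀ j, bb' (Sum.inl j) = e' j := fun j => by
    show Basis.mk hli' _ (Sum.inl j) = _
    rw [Basis.mk_apply]; rfl
  have hbr' : ∀ j, bb' (Sum.inr j) = X' (e' j) := fun j => by
    show Basis.mk hli' _ (Sum.inr j) = _
    rw [Basis.mk_apply]; rfl
  let Q : V ≃ₗ[F] V := bb.equiv bb' (Equiv.refl _)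
  have hQ : ∀ i, Q (bb i) = bb' i := fun i => by
    show bb.equiv bb' (Equiv.refl _) (bb i) = _
    rw [Basis.equiv_apply]; rfl
  refine ⟨Q, ?_⟩
  have hcomp : (Q : V →ₗ[F] V) ∘ₗ X = X' ∘ₗ (Q : V →ₗ[F] V) := by
    apply bb.ext
    rintro (j | j)
    · have h1 : Q (e j) = e' j := by rw [← hbl, hQ, hbl']
      have h2 : Q (X (e j)) = X' (e' j) := by rw [← hbr, hQ, hbr']
      show Q (X (bb (Sum.inl j))) = X' (Q (bb (Sum.inl j)))
      rw [hbl, h1, h2]
    · have h1 : Q (e j) = e' j := by rw [← hbl, hQ, hbl']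
      have h2 : Q (X (e j)) = X' (e' j) := by rw [← hbr, hQ, hbr']
      show Q (X (bb (Sum.inr j))) = X' (Q (bb (Sum.inr j)))
      rw [hbr, h2, hX, hX', map_add, map_smul, map_smul, h1, h2]
  intro v
  exact LinearMap.congr_fun hcomp v

end stdp

section typeI

variable {F V : Type*} [Field F] [AddCommGroup V] [Module F V] [FiniteDimensional F V]

/-- standard pair bases for the irreducible type -/
theorem typeI_StdP (X : V →ₗ[F] V) (z : F) (hz : z ≠ 0) (h2 : (2 : F) ≠ 0)
    (hX : X ^ 2 = z • (1 : V →ₗ[F] V))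
    (hirr : Irreducible (Polynomial.X ^ 2 - C z : F[X])) (k : ℕ) :
    ∀ W : Submodule F V, W ∈ Module.End.invtSubmodule X → finrank F W = 2 * k →
      StdP X W (Fin k) := by
  have hss : Module.End.IsSemisimple X :=
    isSemisimple_of_pow_eq_smul X 2 (by exact_mod_cast h2) z hz hX
  induction k with
  | zero =>
    intro W _ hdim
    have hW0 : W = ⊥ := Submodule.finrank_eq_zero.mp (by omega)
    subst hW0
    exact (StdP.empty X).reindex (Equiv.equivEmpty (Fin 0))
  | succ k ih =>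
    intro W hW hdim
    have hWne : W ≠ ⊥ := by
      intro h0
      rw [h0, finrank_bot] at hdim
      omega
    obtain ⟨v, hvW, hv0⟩ := Submodule.exists_mem_ne_zero_of_ne_bot hWne
    obtain ⟨hZinv, hZdim⟩ := typeI_plane X z hX hirr v hv0
    have hZW : span F {v, X v} ≤ W := by
      rw [span_le]
      rintro x (rfl | hx)
      · exact hvW
      · rw [Set.mem_singleton_iff.mp hx]
        exact hW hvW
    have hrange : Set.range (Sum.elim (fun _ : Unit => v) (X ∘ fun _ : Unit => v)) =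
        {v, X v} := by
      rw [Set.Sum.elim_range, Set.range_const]
      have : (X ∘ fun _ : Unit => v) = fun _ : Unit => X v := rfl
      rw [this, Set.range_const]
      rfl
    have hli : LinearIndependent F (Sum.elim (fun _ : Unit => v) (X ∘ fun _ : Unit => v)) := by
      rw [linearIndependent_iff_card_eq_finrank_span, Set.finrank, hrange, hZdim]
      simp
    have hP₁ : StdP X (span F {v, X v}) Unit := ⟨fun _ => v, hli, by rw [hrange]⟩
    obtain ⟨W', hW'W, hW'inv, hinf, hsup, hdim'⟩ := exists_compl_in X hss W _ hW hZinv hZW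
    have hW'dim : finrank F W' = 2 * k := by omega
    have hP₂ := ih W' hW'inv hW'dim
    have hser := (hP₁.series hP₂ (disjoint_iff.mpr hinf)).congr hsup
    have ε : Fin (k + 1) ≃ Unit ⊕ Fin k :=
      (finSumFinEquiv (m := 1) (n := k)).symm.trans
        (Equiv.sumCongr (Equiv.equivPUnit (Fin 1)) (Equiv.refl _)) |>.trans (Equiv.refl _)
        |> fun e => (finCongr (by omega : k + 1 = 1 + k)).trans e
    exact hser.reindex ε

/-- two operators of irreducible type with the same square are conjugate -/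
theorem exists_intertwine_odd (X X' : V →ₗ[F] V) (z : F) (hz : z ≠ 0) (h2 : (2 : F) ≠ 0)
    (hX : X ^ 2 = z • (1 : V →ₗ[F] V)) (hX' : X' ^ 2 = z • (1 : V →ₗ[F] V))
    (hirr : Irreducible (Polynomial.X ^ 2 - C z : F[X])) (m : ℕ) (hV : finrank F V = 2 * m) :
    ∃ Q : V ≃ₗ[F] V, ∀ v, Q (X v) = X' (Q v) := by
  have h := typeI_StdP X z hz h2 hX hirr m ⊤ (Module.End.invtSubmodule.top_mem X)
    (by rw [finrank_top, hV])
  have h' := typeI_StdP X' z hz h2 hX' hirr m ⊤ (Module.End.invtSubmodule.top_mem X')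
    (by rw [finrank_top, hV])
  have hXX : ∀ (Y : V →ₗ[F] V), Y ^ 2 = z • (1 : V →ₗ[F] V) →
      ∀ v, Y (Y v) = z • v + (0 : F) • Y v := by
    intro Y hY v
    have := LinearMap.congr_fun hY v
    rw [pow_two, Module.End.mul_apply] at this
    rw [this, zero_smul, add_zero]
    rfl
  exact intertwine X X' z 0 (hXX X hX) (hXX X' hX') h h'

end typeI

end Cfsg.Agent.Lib.Helper15.PNorm
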