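import Mathlib
import Cfsg.Agent.Lib.Helper15.PNorm3

/-!
# Conjugating into the normaliser of a field subalgebra of degree two; the bad elements
-/

set_option autoImplicit false

namespace Cfsg.Agent.Lib.Helper15.PNorm

open Module Submodule Polynomial Cfsg.Agent.Lib.Helper15.PSub Cfsg.Agent.Lib.Helper15.PInv

section assembly

variable {F : Type*} [Field F] {n : ℕ}

/-- **Assembly**: if `Q⁻¹ X Q` normalises `K` and the centraliser of `x` has all determinants then
`x` is `SL_n`-conjugate into the normaliser of `K`. -/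
theorem conj_mem_norm (K : Subalgebra F (Matrix (Fin n) (Fin n) F))
    (x : Matrix.SpecialLinearGroup (Fin n) F) (Q : (Fin n → F) ≃ₗ[F] (Fin n → F))
    (hY : ∀ g : GL (Fin n) F, (∀ v, Matrix.toLin' (g : Matrix (Fin n) (Fin n) F) v =
      Q.symm (Matrix.toLin' (x : Matrix (Fin n) (Fin n) F) (Q v))) →
      g ∈ Cfsg.Geo.subalgebraNormalizer K)
    (hcent : ∀ δ : F, δ ≠ 0 → ∃ C : (Fin n → F) →ₗ[F] (Fin n → F),
      C ∘ₗ Matrix.toLin' (x : Matrix (Fin n) (Fin n) F) =
        Matrix.toLin' (x : Matrix (Fin n) (Fin n) F) ∘ₗ C ∧ LinearMap.det C = δ) :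
    ∃ P : Matrix.SpecialLinearGroup (Fin n) F, P⁻¹ * x * P ∈
      ((Cfsg.Geo.subalgebraNormalizer K).comap
        (Matrix.SpecialLinearGroup.toGL : Matrix.SpecialLinearGroup (Fin n) F →* GL (Fin n) F)) := by
  classical
  set X := Matrix.toLin' (x : Matrix (Fin n) (Fin n) F) with hX
  have hQdet : LinearMap.det (Q : (Fin n → F) →ₗ[F] (Fin n → F)) ≠ 0 :=
    (LinearEquiv.isUnit_det' Q).ne_zero
  obtain ⟨C, hCX, hCdet⟩ := hcent _ (inv_ne_zero hQdet)
  obtain ⟨Pl, hPl⟩ : ∃ Pl : (Fin n → F) →ₗ[F] (Fin n → F),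
      Pl = C ∘ₗ (Q : (Fin n → F) →ₗ[F] (Fin n → F)) := ⟨_, rfl⟩
  have hPldet : LinearMap.det Pl = 1 := by
    rw [hPl, LinearMap.det_comp, hCdet, inv_mul_cancel₀ hQdet]
  have hPlapp : ∀ v, Pl v = C (Q v) := by
    intro v
    rw [hPl]
    rfl
  have hCinj : Function.Injective C := by
    have hu : IsUnit (LinearMap.det C) := by
      rw [hCdet]
      exact (IsUnit.mk0 _ hQdet).inv
    have := LinearMap.isUnit_iff_isUnit_det C |>.mpr hu
    exact ((Module.End.isUnit_iff C).mp this).injective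
  refine ⟨toSL Pl hPldet, ?_⟩
  rw [Subgroup.mem_comap]
  apply hY
  intro u
  set w := Matrix.toLin' ((Matrix.SpecialLinearGroup.toGL
    ((toSL Pl hPldet)⁻¹ * x * toSL Pl hPldet) : GL (Fin n) F) : Matrix (Fin n) (Fin n) F) u with hw
  have hw' : w = ((Matrix.SpecialLinearGroup.toGL ((toSL Pl hPldet)⁻¹ * x * toSL Pl hPldet) :
      GL (Fin n) F) : Matrix (Fin n) (Fin n) F).mulVec u := by
    rw [hw, Matrix.toLin'_apply]
  have h1 : Pl w = X (Pl u) := by
    have h2 : ((toSL Pl hPldet : Matrix.SpecialLinearGroup (Fin n) F) :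
        Matrix (Fin n) (Fin n) F).mulVec w =
        ((toSL Pl hPldet * ((toSL Pl hPldet)⁻¹ * x * toSL Pl hPldet) :
          Matrix.SpecialLinearGroup (Fin n) F) : Matrix (Fin n) (Fin n) F).mulVec u := by
      rw [hw', Matrix.SpecialLinearGroup.coe_mul, ← Matrix.mulVec_mulVec]
      rfl
    have h3 : toSL Pl hPldet * ((toSL Pl hPldet)⁻¹ * x * toSL Pl hPldet) =
        x * toSL Pl hPldet := by group
    rw [h3, Matrix.SpecialLinearGroup.coe_mul, ← Matrix.mulVec_mulVec] at h2
    have h4 : ∀ z : Fin n → F, ((toSL Pl hPldet : Matrix.SpecialLinearGroup (Fin n) F) :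
        Matrix (Fin n) (Fin n) F).mulVec z = Pl z := by
      intro z
      rw [← Matrix.toLin'_apply, toLin'_toSL]
    rw [h4, h4] at h2
    rw [h2, hX, Matrix.toLin'_apply]
  have h5 : C (Q w) = C (X (Q u)) := by
    have h6 : C (X (Q u)) = X (C (Q u)) := LinearMap.congr_fun hCX (Q u)
    rw [h6, ← hPlapp, ← hPlapp]
    exact h1
  have h7 : Q w = X (Q u) := hCinj h5
  rw [← h7, LinearEquiv.symm_apply_apply]

/-- the form of `conj_mem_norm` used below: a conjugate `T'` of the generator which is normalised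
by `X`. -/
theorem good_norm (K : Subalgebra F (Matrix (Fin n) (Fin n) F))
    (J : Matrix (Fin n) (Fin n) F) (hJK : J ∈ K)
    (hgen : ∀ k ∈ K, ∃ a b : F, k = a • (1 : Matrix (Fin n) (Fin n) F) + b • J)
    (x : Matrix.SpecialLinearGroup (Fin n) F) (T' : (Fin n → F) →ₗ[F] (Fin n → F))
    (Q : (Fin n → F) ≃ₗ[F] (Fin n → F)) (hQ : ∀ v, Q (Matrix.toLin' J v) = T' (Q v))
    (ε a : F) (hε : ε ≠ 0)
    (hXT : ∀ v, Matrix.toLin' (x : Matrix (Fin n) (Fin n) F) (T' v) =
      ε • T' (Matrix.toLin' (x : Matrix (Fin n) (Fin n) F) v) +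
        a • Matrix.toLin' (x : Matrix (Fin n) (Fin n) F) v)
    (hcent : ∀ δ : F, δ ≠ 0 → ∃ C : (Fin n → F) →ₗ[F] (Fin n → F),
      C ∘ₗ Matrix.toLin' (x : Matrix (Fin n) (Fin n) F) =
        Matrix.toLin' (x : Matrix (Fin n) (Fin n) F) ∘ₗ C ∧ LinearMap.det C = δ) :
    ∃ P : Matrix.SpecialLinearGroup (Fin n) F, P⁻¹ * x * P ∈
      ((Cfsg.Geo.subalgebraNormalizer K).comap
        (Matrix.SpecialLinearGroup.toGL : Matrix.SpecialLinearGroup (Fin n) F →* GL (Fin n) F)) := by
  classical
  apply conj_mem_norm K x Q ?_ hcent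
  intro g hg
  apply mem_normalizer_of_gen K J hJK hgen g ε a hε
  apply Matrix.toLin'.injective
  apply LinearMap.ext
  intro v
  have hQs : ∀ v, Q.symm (T' v) = Matrix.toLin' J (Q.symm v) := by
    intro v
    rw [LinearEquiv.symm_apply_eq, hQ, LinearEquiv.apply_symm_apply]
  rw [Matrix.toLin'_mul, Matrix.toLin'_mul, LinearMap.comp_apply, LinearMap.comp_apply, hg, hg,
    hQ, hXT, map_add, map_smul, map_smul, hQs, map_add, LinearMap.add_apply, map_smul, map_smul,
    LinearMap.smul_apply, LinearMap.smul_apply, Matrix.toLin'_one, LinearMap.id_apply]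

end assembly

section bad

variable {F : Type*} [Field F] {n : ℕ}

/-- the bad element in characteristic two: a transvection -/
theorem bad_norm_two (hn : 3 ≤ n) (h2 : (2 : F) = 0)
    (K : Subalgebra F (Matrix (Fin n) (Fin n) F)) (hK : Cfsg.Geo.IsFieldSubalgebra 2 K) :
    ∃ x : Matrix.SpecialLinearGroup (Fin n) F,
      (∃ z : F, ((x ^ 2 : Matrix.SpecialLinearGroup (Fin n) F) : Matrix (Fin n) (Fin n) F) =
        z • (1 : Matrix (Fin n) (Fin n) F)) ∧
      (∀ z : F, (x : Matrix (Fin n) (Fin n) F) ≠ z • (1 : Matrix (Fin n) (Fin n) F)) ∧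
      ∀ P : Matrix.SpecialLinearGroup (Fin n) F, P⁻¹ * x * P ∉
        ((Cfsg.Geo.subalgebraNormalizer K).comap
          (Matrix.SpecialLinearGroup.toGL :
            Matrix.SpecialLinearGroup (Fin n) F →* GL (Fin n) F)) := by
  classical
  let i₀ : Fin n := ⟨0, by omega⟩
  let i₁ : Fin n := ⟨1, by omega⟩
  have h01 : i₀ ≠ i₁ := by
    intro h
    have := congrArg Fin.val h
    simp [i₀, i₁] at this
  obtain ⟨x, hx⟩ : ∃ x : Matrix.SpecialLinearGroup (Fin n) F,
      (x : Matrix (Fin n) (Fin n) F) = Matrix.transvection i₀ i₁ 1 :=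
    ⟨⟨Matrix.transvection i₀ i₁ 1, Matrix.det_transvection_of_ne i₀ i₁ h01 1⟩, rfl⟩
  refine ⟨x, ⟨1, ?_⟩, ?_, ?_⟩
  · rw [Matrix.SpecialLinearGroup.coe_pow, hx, pow_two,
      Matrix.transvection_mul_transvection_same i₀ i₁ h01, one_add_one_eq_two, h2,
      Matrix.transvection_zero, one_smul]
  · intro z hz
    rw [hx] at hz
    have := congrFun (congrFun hz i₀) i₁
    rw [Matrix.transvection, Matrix.add_apply, Matrix.one_apply_ne h01, Matrix.single_apply_same,
      Matrix.smul_apply, Matrix.one_apply_ne h01, smul_zero, zero_add] at this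
    exact one_ne_zero this
  · intro P
    apply not_conj_mem_normalizer hn K hK x 1 (LinearMap.proj i₁) (Pi.single i₀ 1)
    · intro h0
      have := congrFun h0 i₀
      simp at this
    · intro h0
      have := LinearMap.congr_fun h0 (Pi.single i₁ 1)
      simp at this
    · intro v
      rw [hx, Matrix.transvection, Matrix.add_mulVec, Matrix.one_mulVec, Matrix.single_mulVec_eq,
        one_mul, one_smul]
      rfl

/-- the bad element in odd characteristic: `diag(-w, w, …, w)` with `w^n = -1` -/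
theorem bad_norm_odd [Fintype F] (hn : 3 ≤ n) (h2 : (2 : F) ≠ 0)
    (h : padicValNat 2 n < padicValNat 2 (Fintype.card F - 1))
    (K : Subalgebra F (Matrix (Fin n) (Fin n) F)) (hK : Cfsg.Geo.IsFieldSubalgebra 2 K) :
    ∃ x : Matrix.SpecialLinearGroup (Fin n) F,
      (∃ z : F, ((x ^ 2 : Matrix.SpecialLinearGroup (Fin n) F) : Matrix (Fin n) (Fin n) F) =
        z • (1 : Matrix (Fin n) (Fin n) F)) ∧
      (∀ z : F, (x : Matrix (Fin n) (Fin n) F) ≠ z • (1 : Matrix (Fin n) (Fin n) F)) ∧
      ∀ P : Matrix.SpecialLinearGroup (Fin n) F, P⁻¹ * x * P ∉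
        ((Cfsg.Geo.subalgebraNormalizer K).comap
          (Matrix.SpecialLinearGroup.toGL :
            Matrix.SpecialLinearGroup (Fin n) F →* GL (Fin n) F)) := by
  classical
  obtain ⟨w, hw⟩ := exists_pow_eq_neg_one (F := F) n (by omega) h
  have hw0 : w ≠ 0 := by
    rintro rfl
    rw [zero_pow (by omega)] at hw
    have : (1 : F) = 0 := by
      have := congrArg Neg.neg hw
      simpa using this.symm
    exact one_ne_zero this
  let i₀ : Fin n := ⟨0, by omega⟩
  let i₁ : Fin n := ⟨1, by omega⟩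
  have h01 : i₁ ≠ i₀ := by
    intro h
    have := congrArg Fin.val h
    simp [i₀, i₁] at this
  set d : Fin n → F := fun i => if i = i₀ then -w else w with hd
  have hdet : (Matrix.diagonal d).det = 1 := by
    rw [Matrix.det_diagonal]
    have h1 : ∀ i, d i = w * (if i = i₀ then -1 else 1) := by
      intro i
      rw [hd]
      by_cases hi : i = i₀
      · simp [hi]
      · simp [hi]
    rw [Finset.prod_congr rfl (fun i _ => h1 i), Finset.prod_mul_distrib, Finset.prod_const,
      Finset.card_univ, Fintype.card_fin, hw, Finset.prod_ite_eq' Finset.univ i₀ (fun _ => (-1 : F))]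
    simp
  obtain ⟨x, hx⟩ : ∃ x : Matrix.SpecialLinearGroup (Fin n) F,
      (x : Matrix (Fin n) (Fin n) F) = Matrix.diagonal d := ⟨⟨Matrix.diagonal d, hdet⟩, rfl⟩
  refine ⟨x, ⟨w * w, ?_⟩, ?_, ?_⟩
  · rw [Matrix.SpecialLinearGroup.coe_pow, hx]
    rw [pow_two, Matrix.diagonal_mul_diagonal, Matrix.smul_one_eq_diagonal]
    congr 1
    funext i
    rw [hd]
    by_cases hi : i = i₀
    · simp [hi]
    · simp [hi]
  · intro z hz
    have hz' : Matrix.diagonal d = z • (1 : Matrix (Fin n) (Fin n) F) := by rw [← hx]; exact hz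
    rw [Matrix.smul_one_eq_diagonal] at hz'
    have h3 := Matrix.diagonal_injective hz'
    have h4 := congrFun h3 i₀
    have h5 := congrFun h3 i₁
    rw [hd] at h4 h5
    simp only [if_true, if_neg h01] at h4 h5
    have h6 : (2 : F) * w = 0 := by linear_combination h5 - h4
    rcases mul_eq_zero.mp h6 with h7 | h7
    · exact h2 h7
    · exact hw0 h7
  · intro P
    apply not_conj_mem_normalizer hn K hK x w ((-(2 * w)) • LinearMap.proj i₀) (Pi.single i₀ 1)
    · intro h0
      have := congrFun h0 i₀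
      simp at this
    · intro h0
      have := LinearMap.congr_fun h0 (Pi.single i₀ 1)
      simp at this
      rcases this with h7 | h7
      · exact h2 h7
      · exact hw0 h7
    · intro v
      rw [hx]
      funext i
      rw [Matrix.mulVec_diagonal, hd]
      by_cases hi : i = i₀
      · subst hi
        simp
        ring
      · simp [hi]

end bad

end Cfsg.Agent.Lib.Helper15.PNorm
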