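import Mathlib
import Cfsg.Agent.Lib.Helper15.PNorm4

/-!
# Conjugating involutions into the normaliser of a field subalgebra of degree two: odd
characteristic
-/

set_option autoImplicit false

namespace Cfsg.Agent.Lib.Helper15.PNorm

open Module Submodule Polynomial Cfsg.Agent.Lib.Helper15.PSub Cfsg.Agent.Lib.Helper15.PInv

section tools

variable {F V : Type*} [Field F] [AddCommGroup V] [Module F V]

/-- glue two endomorphisms of complementary subspaces -/
theorem exists_glue (Z Z' : Submodule F V) (h : IsCompl Z Z') (g : Z →ₗ[F] Z) (g' : Z' →ₗ[F] Z') :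
    ∃ G : V →ₗ[F] V, (∀ z : Z, G (z : V) = (g z : V)) ∧ (∀ z' : Z', G (z' : V) = (g' z' : V)) := by
  let e := Submodule.prodEquivOfIsCompl Z Z' h
  obtain ⟨G, hGdef⟩ : ∃ G : V →ₗ[F] V, G = (e : (Z × Z') →ₗ[F] V) ∘ₗ
      (LinearMap.prodMap g g') ∘ₗ (e.symm : V →ₗ[F] (Z × Z')) := ⟨_, rfl⟩
  have hG : ∀ (z : Z) (z' : Z'), G ((z : V) + (z' : V)) = (g z : V) + (g' z' : V) := by
    intro z z'
    have h1 : e.symm ((z : V) + (z' : V)) = (z, z') := by
      rw [LinearEquiv.symm_apply_eq]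
      rfl
    rw [hGdef]
    show e (LinearMap.prodMap g g' (e.symm ((z : V) + (z' : V)))) = _
    rw [h1]
    rfl
  refine ⟨G, fun z => ?_, fun z' => ?_⟩
  · have := hG z 0
    simpa using this
  · have := hG 0 z'
    simpa using this

/-- an operator with scalar square `z` on a space of even dimension -/
theorem exists_sq_op [FiniteDimensional F V] (a : ℕ) (hV : finrank F V = 2 * a) (z : F) :
    ∃ T : V →ₗ[F] V, ∀ v, T (T v) = z • v := by
  have hfr : finrank F V = finrank F ((Fin a → F) × (Fin a → F)) := by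
    rw [Module.finrank_prod, Module.finrank_fin_fun, hV]
    ring
  let φ : V ≃ₗ[F] ((Fin a → F) × (Fin a → F)) := LinearEquiv.ofFinrankEq _ _ hfr
  let T₀ : ((Fin a → F) × (Fin a → F)) →ₗ[F] ((Fin a → F) × (Fin a → F)) :=
    (z • LinearMap.snd F (Fin a → F) (Fin a → F)).prod (LinearMap.fst F (Fin a → F) (Fin a → F))
  have hT₀ : ∀ p, T₀ (T₀ p) = z • p := by
    rintro ⟨u, v⟩
    rfl
  refine ⟨(φ.symm : _ →ₗ[F] V) ∘ₗ T₀ ∘ₗ (φ : V →ₗ[F] _), fun v => ?_⟩
  show φ.symm (T₀ (φ (φ.symm (T₀ (φ v))))) = z • v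
  rw [LinearEquiv.apply_symm_apply, hT₀, map_smul, LinearEquiv.symm_apply_apply]

end tools

section nt

variable {F : Type*} [Field F] [Fintype F]

/-- the ratio of two non-squares of a finite field of odd characteristic is a square -/
theorem exists_sq_ratio (h2 : (2 : F) ≠ 0) (z z' : F) (hz : ¬ IsSquare z) (hz' : ¬ IsSquare z') :
    ∃ s : F, s ≠ 0 ∧ z' = s * s * z := by
  have hchar : ringChar F ≠ 2 := by
    intro hch
    apply h2
    have := ringChar.Nat.cast_ringChar (R := F)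
    rw [hch] at this
    exact_mod_cast this
  have hz0 : z ≠ 0 := by
    rintro rfl
    exact hz ⟨0, by rw [mul_zero]⟩
  have hz'0 : z' ≠ 0 := by
    rintro rfl
    exact hz' ⟨0, by rw [mul_zero]⟩
  have h1 : z ^ (Fintype.card F / 2) = -1 := by
    rcases FiniteField.pow_dichotomy hchar hz0 with h | h
    · exact absurd ((FiniteField.isSquare_iff hchar hz0).mpr h) hz
    · exact h
  have h1' : z' ^ (Fintype.card F / 2) = -1 := by
    rcases FiniteField.pow_dichotomy hchar hz'0 with h | h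
    · exact absurd ((FiniteField.isSquare_iff hchar hz'0).mpr h) hz'
    · exact h
  have hq : z' / z ≠ 0 := div_ne_zero hz'0 hz0
  have h3 : IsSquare (z' / z) := by
    rw [FiniteField.isSquare_iff hchar hq, div_pow, h1, h1']
    simp
  obtain ⟨s, hs⟩ := h3
  refine ⟨s, ?_, ?_⟩
  · rintro rfl
    rw [mul_zero] at hs
    exact hq hs
  · rw [← hs]
    field_simp

end nt

section odd

variable {F : Type*} [Field F] [Fintype F] {n : ℕ}

/-- odd characteristic, irreducible type -/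
theorem good_norm_I (m : ℕ) (hm : m ≠ 0) (hnm : n = 2 * m) (h2 : (2 : F) ≠ 0)
    (K : Subalgebra F (Matrix (Fin n) (Fin n) F)) (hK : Cfsg.Geo.IsFieldSubalgebra 2 K)
    (x : Matrix.SpecialLinearGroup (Fin n) F) (z' : F) (hz' : ¬ IsSquare z')
    (hX2 : Matrix.toLin' (x : Matrix (Fin n) (Fin n) F) ^ 2 =
      z' • (1 : (Fin n → F) →ₗ[F] (Fin n → F))) :
    ∃ P : Matrix.SpecialLinearGroup (Fin n) F, P⁻¹ * x * P ∈
      ((Cfsg.Geo.subalgebraNormalizer K).comap
        (Matrix.SpecialLinearGroup.toGL : Matrix.SpecialLinearGroup (Fin n) F →* GL (Fin n) F)) := by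
  classical
  set X := Matrix.toLin' (x : Matrix (Fin n) (Fin n) F) with hXdef
  obtain ⟨J, hJK, z, hz, hJJ, hJns, hgen⟩ := exists_gen_odd (by omega) h2 K hK
  have hz0 : z ≠ 0 := by
    rintro rfl
    exact hz ⟨0, by rw [mul_zero]⟩
  have hz'0 : z' ≠ 0 := by
    rintro rfl
    exact hz' ⟨0, by rw [mul_zero]⟩
  have hV : finrank F (Fin n → F) = 2 * m := by rw [Module.finrank_fin_fun, hnm]
  have hV0 : finrank F (Fin n → F) ≠ 0 := by rw [hV]; omega
  have hirr : ∀ c : F, ¬ IsSquare c → Irreducible (Polynomial.X ^ 2 - C c : F[X]) := by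
    intro c hc
    apply X_pow_sub_C_irreducible_of_prime Nat.prime_two
    intro b hb
    apply hc
    exact ⟨b, by rw [← hb, pow_two]⟩
  have hT2 : Matrix.toLin' J ^ 2 = z • (1 : (Fin n → F) →ₗ[F] (Fin n → F)) := by
    rw [pow_two, ← toLin'_smul_one]
    show Matrix.toLin' J ∘ₗ Matrix.toLin' J = _
    rw [← Matrix.toLin'_mul, hJJ]
  obtain ⟨s, hs0, hs⟩ := exists_sq_ratio h2 z z' hz hz'
  set T' : (Fin n → F) →ₗ[F] (Fin n → F) := s⁻¹ • X with hT'
  have hXX : ∀ v, X (X v) = z' • v := by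
    intro v
    have := LinearMap.congr_fun hX2 v
    rw [pow_two, Module.End.mul_apply] at this
    rw [this]
    rfl
  have hT'2 : T' ^ 2 = z • (1 : (Fin n → F) →ₗ[F] (Fin n → F)) := by
    apply LinearMap.ext
    intro v
    rw [pow_two, Module.End.mul_apply, hT', LinearMap.smul_apply, LinearMap.smul_apply, map_smul,
      hXX, smul_smul, smul_smul, LinearMap.smul_apply, Module.End.one_apply, hs]
    congr 1
    field_simp
  obtain ⟨Q, hQ⟩ := exists_intertwine_odd (Matrix.toLin' J) T' z hz0 h2 hT2 hT'2 (hirr z hz) m hV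
  have hodd : Fintype.card F % 2 = 1 := by
    apply FiniteField.odd_card_of_char_ne_two
    intro hch
    apply h2
    have := ringChar.Nat.cast_ringChar (R := F)
    rw [hch] at this
    exact_mod_cast this
  apply good_norm K J hJK hgen x T' Q hQ 1 0 one_ne_zero
  · intro v
    show X (T' v) = (1 : F) • T' (X v) + (0 : F) • X v
    rw [hT', LinearMap.smul_apply, LinearMap.smul_apply, map_smul, one_smul, zero_smul, add_zero]
  · intro δ _
    exact typeI_cent X z' hz'0 h2 hodd hX2 (hirr z' hz') hV0 δ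

/-- odd characteristic, diagonal type with even-dimensional eigenspaces -/
theorem good_norm_D (m : ℕ) (hm : m ≠ 0) (hnm : n = 2 * m) (h2 : (2 : F) ≠ 0)
    (K : Subalgebra F (Matrix (Fin n) (Fin n) F)) (hK : Cfsg.Geo.IsFieldSubalgebra 2 K)
    (x : Matrix.SpecialLinearGroup (Fin n) F) (w : F) (hw : w ≠ 0)
    (hX2 : Matrix.toLin' (x : Matrix (Fin n) (Fin n) F) ^ 2 =
      (w * w) • (1 : (Fin n → F) →ₗ[F] (Fin n → F)))
    (k₁ k₂ : ℕ)
    (h₁ : finrank F (Module.End.eigenspace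
      (Matrix.toLin' (x : Matrix (Fin n) (Fin n) F)) w) = 2 * k₁)
    (h₂ : finrank F (Module.End.eigenspace
      (Matrix.toLin' (x : Matrix (Fin n) (Fin n) F)) (-w)) = 2 * k₂) :
    ∃ P : Matrix.SpecialLinearGroup (Fin n) F, P⁻¹ * x * P ∈
      ((Cfsg.Geo.subalgebraNormalizer K).comap
        (Matrix.SpecialLinearGroup.toGL : Matrix.SpecialLinearGroup (Fin n) F →* GL (Fin n) F)) := by
  classical
  set X := Matrix.toLin' (x : Matrix (Fin n) (Fin n) F) with hXdef
  obtain ⟨J, hJK, z, hz, hJJ, hJns, hgen⟩ := exists_gen_odd (by omega) h2 K hK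
  have hz0 : z ≠ 0 := by
    rintro rfl
    exact hz ⟨0, by rw [mul_zero]⟩
  have hV : finrank F (Fin n → F) = 2 * m := by rw [Module.finrank_fin_fun, hnm]
  have hV0 : finrank F (Fin n → F) ≠ 0 := by rw [hV]; omega
  have hirr : Irreducible (Polynomial.X ^ 2 - C z : F[X]) := by
    apply X_pow_sub_C_irreducible_of_prime Nat.prime_two
    intro b hb
    apply hz
    exact ⟨b, by rw [← hb, pow_two]⟩
  have hT2 : Matrix.toLin' J ^ 2 = z • (1 : (Fin n → F) →ₗ[F] (Fin n → F)) := by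
    rw [pow_two, ← toLin'_smul_one]
    show Matrix.toLin' J ∘ₗ Matrix.toLin' J = _
    rw [← Matrix.toLin'_mul, hJJ]
  have hc := typeD_isCompl X w hw h2 hX2
  obtain ⟨T₁, hT₁⟩ := exists_sq_op (V := Module.End.eigenspace X w) k₁ h₁ z
  obtain ⟨T₂, hT₂⟩ := exists_sq_op (V := Module.End.eigenspace X (-w)) k₂ h₂ z
  obtain ⟨T', hT'₁, hT'₂⟩ := exists_glue _ _ hc T₁ T₂
  -- every vector is a sum of eigenvectors
  have hdec : ∀ v : Fin n → F, ∃ (v₁ : Module.End.eigenspace X w)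
      (v₂ : Module.End.eigenspace X (-w)), v = (v₁ : Fin n → F) + (v₂ : Fin n → F) := by
    intro v
    have hv : v ∈ Module.End.eigenspace X w ⊔ Module.End.eigenspace X (-w) := by
      rw [hc.sup_eq_top]
      trivial
    obtain ⟨a, ha, b, hb, hab⟩ := Submodule.mem_sup.mp hv
    exact ⟨⟨a, ha⟩, ⟨b, hb⟩, hab.symm⟩
  have hXe₁ : ∀ v₁ : Module.End.eigenspace X w, X (v₁ : Fin n → F) = w • (v₁ : Fin n → F) :=
    fun v₁ => Module.End.mem_eigenspace_iff.mp v₁.2
  have hXe₂ : ∀ v₂ : Module.End.eigenspace X (-w), X (v₂ : Fin n → F) = (-w) • (v₂ : Fin n → F) :=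
    fun v₂ => Module.End.mem_eigenspace_iff.mp v₂.2
  have hT'2 : T' ^ 2 = z • (1 : (Fin n → F) →ₗ[F] (Fin n → F)) := by
    apply LinearMap.ext
    intro v
    obtain ⟨v₁, v₂, rfl⟩ := hdec v
    rw [pow_two, Module.End.mul_apply, map_add, map_add, hT'₁, hT'₂, hT'₁, hT'₂, hT₁, hT₂,
      LinearMap.smul_apply, Module.End.one_apply, smul_add]
    rfl
  obtain ⟨Q, hQ⟩ := exists_intertwine_odd (Matrix.toLin' J) T' z hz0 h2 hT2 hT'2 hirr m hV
  apply good_norm K J hJK hgen x T' Q hQ 1 0 one_ne_zero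
  · intro v
    show X (T' v) = (1 : F) • T' (X v) + (0 : F) • X v
    obtain ⟨v₁, v₂, rfl⟩ := hdec v
    have hL : X (T' ((v₁ : Fin n → F) + (v₂ : Fin n → F))) =
        w • ((T₁ v₁ : Module.End.eigenspace X w) : Fin n → F) +
          (-w) • ((T₂ v₂ : Module.End.eigenspace X (-w)) : Fin n → F) := by
      rw [map_add, hT'₁, hT'₂, map_add, hXe₁, hXe₂]
    have hR : T' (X ((v₁ : Fin n → F) + (v₂ : Fin n → F))) =
        w • ((T₁ v₁ : Module.End.eigenspace X w) : Fin n → F) +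
          (-w) • ((T₂ v₂ : Module.End.eigenspace X (-w)) : Fin n → F) := by
      rw [map_add, hXe₁, hXe₂, map_add, map_smul, map_smul, hT'₁, hT'₂]
    rw [one_smul, zero_smul, add_zero, hL, hR]
  · intro δ _
    exact typeD_cent X w hw h2 hX2 hV0 δ

/-- odd characteristic, `n = 2`, diagonal type with one-dimensional eigenspaces -/
theorem good_norm_D2 (hn2 : n = 2) (h2 : (2 : F) ≠ 0)
    (K : Subalgebra F (Matrix (Fin n) (Fin n) F)) (hK : Cfsg.Geo.IsFieldSubalgebra 2 K)
    (x : Matrix.SpecialLinearGroup (Fin n) F) (w : F) (hw : w ≠ 0)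
    (hX2 : Matrix.toLin' (x : Matrix (Fin n) (Fin n) F) ^ 2 =
      (w * w) • (1 : (Fin n → F) →ₗ[F] (Fin n → F)))
    (h₁ : finrank F (Module.End.eigenspace
      (Matrix.toLin' (x : Matrix (Fin n) (Fin n) F)) w) = 1)
    (h₂ : finrank F (Module.End.eigenspace
      (Matrix.toLin' (x : Matrix (Fin n) (Fin n) F)) (-w)) = 1) :
    ∃ P : Matrix.SpecialLinearGroup (Fin n) F, P⁻¹ * x * P ∈
      ((Cfsg.Geo.subalgebraNormalizer K).comap
        (Matrix.SpecialLinearGroup.toGL : Matrix.SpecialLinearGroup (Fin n) F →* GL (Fin n) F)) := by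
  classical
  set X := Matrix.toLin' (x : Matrix (Fin n) (Fin n) F) with hXdef
  obtain ⟨J, hJK, z, hz, hJJ, hJns, hgen⟩ := exists_gen_odd (by omega) h2 K hK
  have hz0 : z ≠ 0 := by
    rintro rfl
    exact hz ⟨0, by rw [mul_zero]⟩
  have hV : finrank F (Fin n → F) = 2 * 1 := by rw [Module.finrank_fin_fun, hn2]
  have hV0 : finrank F (Fin n → F) ≠ 0 := by rw [hV]; omega
  have hirr : Irreducible (Polynomial.X ^ 2 - C z : F[X]) := by
    apply X_pow_sub_C_irreducible_of_prime Nat.prime_two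
    intro b hb
    apply hz
    exact ⟨b, by rw [← hb, pow_two]⟩
  have hT2 : Matrix.toLin' J ^ 2 = z • (1 : (Fin n → F) →ₗ[F] (Fin n → F)) := by
    rw [pow_two, ← toLin'_smul_one]
    show Matrix.toLin' J ∘ₗ Matrix.toLin' J = _
    rw [← Matrix.toLin'_mul, hJJ]
  have hc := typeD_isCompl X w hw h2 hX2
  -- eigenvectors
  obtain ⟨u₁, hu₁0, hu₁⟩ := finrank_eq_one_iff'.mp h₁
  obtain ⟨u₂, hu₂0, hu₂⟩ := finrank_eq_one_iff'.mp h₂
  have ha₁0 : (u₁ : Fin n → F) ≠ 0 := fun h => hu₁0 (Subtype.ext h)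
  have ha₂0 : (u₂ : Fin n → F) ≠ 0 := fun h => hu₂0 (Subtype.ext h)
  have hXa₁ : X (u₁ : Fin n → F) = w • (u₁ : Fin n → F) := Module.End.mem_eigenspace_iff.mp u₁.2
  have hXa₂ : X (u₂ : Fin n → F) = (-w) • (u₂ : Fin n → F) :=
    Module.End.mem_eigenspace_iff.mp u₂.2
  have hli : LinearIndependent F ![(u₁ : Fin n → F), (u₂ : Fin n → F)] := by
    rw [LinearIndependent.pair_iff]
    intro s t hst
    have h3 : s • (u₁ : Fin n → F) ∈ Module.End.eigenspace X w ⊓ Module.End.eigenspace X (-w) := by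
      refine ⟨Submodule.smul_mem _ _ u₁.2, ?_⟩
      have : s • (u₁ : Fin n → F) = -(t • (u₂ : Fin n → F)) := eq_neg_of_add_eq_zero_left hst
      rw [this]
      exact Submodule.neg_mem _ (Submodule.smul_mem _ _ u₂.2)
    rw [hc.inf_eq_bot, Submodule.mem_bot] at h3
    have hs : s = 0 := by
      rcases smul_eq_zero.mp h3 with h | h
      · exact h
      · exact absurd h ha₁0
    rw [hs, zero_smul, zero_add] at hst
    have ht : t = 0 := by
      rcases smul_eq_zero.mp hst with h | h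
      · exact h
      · exact absurd h ha₂0
    exact ⟨hs, ht⟩
  let b : Basis (Fin 2) F (Fin n → F) := basisOfLinearIndependentOfCardEqFinrank hli
    (by rw [Fintype.card_fin, Module.finrank_fin_fun, hn2])
  have hb : ⇑b = ![(u₁ : Fin n → F), (u₂ : Fin n → F)] :=
    coe_basisOfLinearIndependentOfCardEqFinrank hli _
  have hb0 : b 0 = (u₁ : Fin n → F) := by rw [hb]; rfl
  have hb1 : b 1 = (u₂ : Fin n → F) := by rw [hb]; rfl
  obtain ⟨T', hT'def⟩ : ∃ T' : (Fin n → F) →ₗ[F] (Fin n → F),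
      T' = b.constr F ![(u₂ : Fin n → F), z • (u₁ : Fin n → F)] := ⟨_, rfl⟩
  have hT'0 : T' (u₁ : Fin n → F) = (u₂ : Fin n → F) := by
    rw [hT'def, ← hb0, Basis.constr_basis]
    rfl
  have hT'1 : T' (u₂ : Fin n → F) = z • (u₁ : Fin n → F) := by
    rw [hT'def, ← hb1, Basis.constr_basis]
    rfl
  have hT'2 : T' ^ 2 = z • (1 : (Fin n → F) →ₗ[F] (Fin n → F)) := by
    apply b.ext
    intro i
    fin_cases i
    · show (T' ^ 2) (b 0) = (z • (1 : (Fin n → F) →ₗ[F] (Fin n → F))) (b 0)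
      rw [LinearMap.smul_apply, Module.End.one_apply, hb0, pow_two, Module.End.mul_apply, hT'0,
        hT'1]
    · show (T' ^ 2) (b 1) = (z • (1 : (Fin n → F) →ₗ[F] (Fin n → F))) (b 1)
      rw [LinearMap.smul_apply, Module.End.one_apply, hb1, pow_two, Module.End.mul_apply, hT'1,
        map_smul, hT'0]
  obtain ⟨Q, hQ⟩ := exists_intertwine_odd (Matrix.toLin' J) T' z hz0 h2 hT2 hT'2 hirr 1 hV
  have hanti : X ∘ₗ T' = (-1 : F) • (T' ∘ₗ X) := by
    apply b.ext
    intro i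
    fin_cases i
    · show X (T' (b 0)) = (-1 : F) • T' (X (b 0))
      rw [hb0, hT'0, hXa₁, hXa₂, map_smul, hT'0, smul_smul]
      congr 1
      ring
    · show X (T' (b 1)) = (-1 : F) • T' (X (b 1))
      rw [hb1, hT'1, hXa₂, map_smul, hXa₁, map_smul, hT'1, smul_smul, smul_smul, smul_smul]
      congr 1
      ring
  apply good_norm K J hJK hgen x T' Q hQ (-1) 0 (neg_ne_zero.mpr one_ne_zero)
  · intro v
    show X (T' v) = (-1 : F) • T' (X v) + (0 : F) • X v
    rw [zero_smul, add_zero]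
    exact LinearMap.congr_fun hanti v
  · intro δ _
    exact typeD_cent X w hw h2 hX2 hV0 δ

end odd

end Cfsg.Agent.Lib.Helper15.PNorm
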