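import Mathlib
import Cfsg.Agent.Lib.Helper15.PNorm5

/-!
# Conjugating involutions into the normaliser of a field subalgebra of degree two:
characteristic two, dimension two
-/

set_option autoImplicit false

namespace Cfsg.Agent.Lib.Helper15.PNorm

open Module Submodule Polynomial Cfsg.Agent.Lib.Helper15.PSub Cfsg.Agent.Lib.Helper15.PInv

section tools

variable {F V : Type*} [Field F] [AddCommGroup V] [Module F V] [FiniteDimensional F V]

theorem stdP_unit (X : V →ₗ[F] V) (e₀ : V) (hli : LinearIndependent F ![e₀, X e₀])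
    (hV : finrank F V = 2) : StdP X ⊤ Unit := by
  classical
  let φ : Unit ⊕ Unit → Fin 2 := Sum.elim (fun _ => 0) (fun _ => 1)
  have hφ : Function.Injective φ := by
    rintro (a | a) (b | b) h
    · rfl
    · exact absurd h (show ¬ ((0 : Fin 2) = 1) by decide)
    · exact absurd h (show ¬ ((1 : Fin 2) = 0) by decide)
    · rfl
  have hcomp : Sum.elim (fun _ : Unit => e₀) (X ∘ fun _ : Unit => e₀) = ![e₀, X e₀] ∘ φ := by
    funext i
    rcases i with i | i <;> rfl
  have hli' : LinearIndependent F (Sum.elim (fun _ : Unit => e₀) (X ∘ fun _ : Unit => e₀)) := by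
    rw [hcomp]
    exact hli.comp _ hφ
  refine ⟨fun _ => e₀, hli', ?_⟩
  apply hli'.span_eq_top_of_card_eq_finrank
  rw [Fintype.card_sum, Fintype.card_unit, hV]

end tools

section two

variable {F : Type*} [Field F] [Fintype F] {n : ℕ}

theorem good_norm_two (hn2 : n = 2) (h2 : (2 : F) = 0)
    (K : Subalgebra F (Matrix (Fin n) (Fin n) F)) (hK : Cfsg.Geo.IsFieldSubalgebra 2 K)
    (x : Matrix.SpecialLinearGroup (Fin n) F) (w : F) (hw : w ≠ 0)
    (hX2 : Matrix.toLin' (x : Matrix (Fin n) (Fin n) F) ^ 2 =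
      (w * w) • (1 : (Fin n → F) →ₗ[F] (Fin n → F)))
    (hns : Matrix.toLin' (x : Matrix (Fin n) (Fin n) F) ≠
      w • (1 : (Fin n → F) →ₗ[F] (Fin n → F))) :
    ∃ P : Matrix.SpecialLinearGroup (Fin n) F, P⁻¹ * x * P ∈
      ((Cfsg.Geo.subalgebraNormalizer K).comap
        (Matrix.SpecialLinearGroup.toGL : Matrix.SpecialLinearGroup (Fin n) F →* GL (Fin n) F)) := by
  classical
  set X := Matrix.toLin' (x : Matrix (Fin n) (Fin n) F) with hXdef
  have hV : finrank F (Fin n → F) = 2 := by rw [Module.finrank_fin_fun, hn2]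
  obtain ⟨J, hJK, hJns, hgen⟩ := exists_gen (by omega) K hK
  obtain ⟨α, β, hq⟩ := hgen (J * J) (K.mul_mem hJK hJK)
  have h2smul : ∀ M : Matrix (Fin n) (Fin n) F, M + M = 0 := by
    intro M
    rw [← two_smul F M, h2, zero_smul]
  have h2v : ∀ v : Fin n → F, v + v = 0 := by
    intro v
    rw [← two_smul F v, h2, zero_smul]
  -- `β ≠ 0`
  have hβ : β ≠ 0 := by
    rintro rfl
    rw [zero_smul, add_zero] at hq
    obtain ⟨s, hs⟩ := FiniteField.isSquare_of_char_two (CharP.ringChar_of_prime_eq_zero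
      Nat.prime_two h2) α
    have h3 : (J - s • 1) * (J - s • 1) = 0 := by
      rw [Matrix.sub_mul, Matrix.mul_sub, Matrix.mul_sub, hq, hs]
      simp only [Matrix.smul_mul, Matrix.mul_smul, Matrix.one_mul, Matrix.mul_one, smul_smul]
      have : (s * s) • (1 : Matrix (Fin n) (Fin n) F) - s • J - (s • J - (s * s) • 1) =
          ((s * s) • (1 : Matrix (Fin n) (Fin n) F) + (s * s) • 1) - (s • J + s • J) := by abel
      rw [this, h2smul, h2smul, sub_zero]
    have h4 : J - s • 1 ≠ 0 := fun h => hJns s (sub_eq_zero.mp h)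
    obtain ⟨y, -, -, hy⟩ := exists_inv K hK _ (K.sub_mem hJK (K.smul_mem K.one_mem s)) h4
    have h5 := congrArg (fun M => y * M) h3
    simp only [← Matrix.mul_assoc, hy, Matrix.one_mul, Matrix.mul_zero] at h5
    exact h4 h5
  set T := Matrix.toLin' J with hT
  have hTT : ∀ v, T (T v) = α • v + β • T v := by
    intro v
    have h1 : T (T v) = Matrix.toLin' (J * J) v := by
      rw [Matrix.toLin'_mul]
      rfl
    rw [h1, hq, map_add, map_smul, map_smul, Matrix.toLin'_one, LinearMap.add_apply,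
      LinearMap.smul_apply, LinearMap.smul_apply, LinearMap.id_apply]
  -- the nilpotent part
  obtain ⟨N, hN⟩ : ∃ N : (Fin n → F) →ₗ[F] (Fin n → F),
      N = w⁻¹ • (X - w • (1 : (Fin n → F) →ₗ[F] (Fin n → F))) := ⟨_, rfl⟩
  have hNapp : ∀ v, N v = w⁻¹ • (X - w • (1 : (Fin n → F) →ₗ[F] (Fin n → F))) v := by
    intro v
    rw [hN]
    rfl
  have hNN : ∀ v, N (N v) = 0 := by
    intro v
    rw [hNapp, hNapp, map_smul, typeU_sq X w h2 hX2, smul_zero, smul_zero]
  have hXN : ∀ v, X v = w • (v + N v) := by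
    intro v
    rw [hNapp, LinearMap.sub_apply, LinearMap.smul_apply, Module.End.one_apply, smul_add,
      smul_smul, mul_inv_cancel₀ hw, one_smul]
    abel
  obtain ⟨v', hv'⟩ : ∃ v', N v' ≠ 0 := by
    by_contra hall
    apply hns
    apply LinearMap.ext
    intro v
    have := not_exists.mp hall v
    rw [not_not] at this
    rw [hXN, this, add_zero]
    rfl
  obtain ⟨u, hu⟩ : ∃ u, u = N v' := ⟨_, rfl⟩
  obtain ⟨v, hv⟩ : ∃ v, v = β • v' := ⟨_, rfl⟩
  rw [← hu] at hv'
  have hNu : N u = 0 := by rw [hu]; exact hNN v'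
  have hNv : N v = β • u := by rw [hv, map_smul, hu]
  have hli : LinearIndependent F ![u, v] := by
    rw [LinearIndependent.pair_iff]
    intro s t hst
    have h3 := congrArg N hst
    rw [map_add, map_smul, map_smul, hNu, hNv, smul_zero, zero_add, map_zero, smul_smul] at h3
    have ht : t = 0 := by
      rcases smul_eq_zero.mp h3 with h | h
      · rcases mul_eq_zero.mp h with h' | h'
        · exact h'
        · exact absurd h' hβ
      · exact absurd h hv'
    rw [ht, zero_smul, add_zero] at hst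
    have hs : s = 0 := by
      rcases smul_eq_zero.mp hst with h | h
      · exact h
      · exact absurd h hv'
    exact ⟨hs, ht⟩
  let b : Basis (Fin 2) F (Fin n → F) := basisOfLinearIndependentOfCardEqFinrank hli
    (by rw [Fintype.card_fin, hV])
  have hb : ⇑b = ![u, v] := coe_basisOfLinearIndependentOfCardEqFinrank hli _
  have hb0 : b 0 = u := by rw [hb]; rfl
  have hb1 : b 1 = v := by rw [hb]; rfl
  obtain ⟨T', hT'def⟩ : ∃ T' : (Fin n → F) →ₗ[F] (Fin n → F),
      T' = b.constr F ![v, α • u + β • v] := ⟨_, rfl⟩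
  have hT'0 : T' u = v := by
    rw [hT'def, ← hb0, Basis.constr_basis]
    rfl
  have hT'1 : T' v = α • u + β • v := by
    rw [hT'def, ← hb1, Basis.constr_basis]
    rfl
  have hT'T'lin : T' ∘ₗ T' = α • (LinearMap.id : (Fin n → F) →ₗ[F] (Fin n → F)) + β • T' := by
    apply b.ext
    intro i
    fin_cases i
    · show T' (T' (b 0)) = α • b 0 + β • T' (b 0)
      rw [hb0, hT'0, hT'1]
    · show T' (T' (b 1)) = α • b 1 + β • T' (b 1)
      rw [hb1, hT'1, map_add, map_smul, map_smul, hT'0, hT'1]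
  have hT'T' : ∀ y, T' (T' y) = α • y + β • T' y := by
    intro y
    exact LinearMap.congr_fun hT'T'lin y
  -- standard pairs
  have hS' : StdP T' ⊤ Unit := by
    apply stdP_unit T' u _ hV
    rw [hT'0]
    exact hli
  obtain ⟨e₀, he₀⟩ : ∃ e₀ : Fin n → F, e₀ ≠ 0 := ⟨u, hv'⟩
  have hS : StdP T ⊤ Unit := by
    apply stdP_unit T e₀ _ hV
    rw [LinearIndependent.pair_iff]
    intro s t hst
    by_cases ht : t = 0
    · rw [ht, zero_smul, add_zero] at hst
      rcases smul_eq_zero.mp hst with h | h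
      · exact ⟨h, ht⟩
      · exact absurd h he₀
    · exfalso
      apply he₀
      apply no_eigen K hK J hJK hJns (-(t⁻¹ * s)) e₀
      have h3 : t • T e₀ = -(s • e₀) := eq_neg_of_add_eq_zero_right hst
      have h4 : T e₀ = J.mulVec e₀ := by rw [hT, Matrix.toLin'_apply]
      rw [← h4]
      calc T e₀ = t⁻¹ • (t • T e₀) := by rw [smul_smul, inv_mul_cancel₀ ht, one_smul]
        _ = -(t⁻¹ * s) • e₀ := by rw [h3, smul_neg, smul_smul, neg_smul]
  obtain ⟨Q, hQ⟩ := intertwine T T' α β hTT hT'T' hS hS'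
  -- the normalising relation
  have hXu : X u = w • u := by rw [hXN, hNu, add_zero]
  have hXv : X v = w • v + (w * β) • u := by rw [hXN, hNv, smul_add, smul_smul]
  have hrel : X ∘ₗ T' = T' ∘ₗ X + β • X := by
    apply b.ext
    intro i
    fin_cases i
    · show X (T' (b 0)) = T' (X (b 0)) + β • X (b 0)
      rw [hb0, hT'0, hXv, hXu, map_smul, hT'0, smul_smul, mul_comm β w]
    · show X (T' (b 1)) = T' (X (b 1)) + β • X (b 1)
      rw [hb1, hT'1, map_add, map_smul, map_smul, hXu, hXv, map_add, map_smul, map_smul, hT'1,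
        hT'0]
      have h5 := h2v ((w * β) • v)
      have h6 : w • (α • u + β • v) + (w * β) • v + β • (w • v + (w * β) • u) =
          α • w • u + β • (w • v + (w * β) • u) + ((w * β) • v + (w * β) • v) := by module
      rw [h6, h5, add_zero]
  apply good_norm K J hJK hgen x T' Q hQ 1 β one_ne_zero
  · intro y
    show X (T' y) = (1 : F) • T' (X y) + β • X y
    rw [one_smul]
    exact LinearMap.congr_fun hrel y
  · intro δ _
    obtain ⟨lam, hlam⟩ := FiniteField.isSquare_of_char_two (CharP.ringChar_of_prime_eq_zero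
      Nat.prime_two h2) δ
    exact typeU_cent X w h2 hX2 hns δ ⟨lam, hlam.symm⟩

end two

end Cfsg.Agent.Lib.Helper15.PNorm
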