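import Mathlib
import Cfsg.Agent.Lib.Helper15.PSL2AH2
import Cfsg.Agent.Lib.Helper3.CardSL
set_option autoImplicit false
namespace Cfsg.Agent.Lib.Helper15

open Matrix
open Cfsg.Agent.Lib.Helper14

section ABA
variable {F : Type*} [Field F] [Fintype F]

theorem exists_sqrt_char_two (h2 : (2 : F) = 0) (c : F) : ∃ r : F, r * r = c := by
  have hc : CharP F 2 := CharTwo.of_one_ne_zero_of_two_eq_zero one_ne_zero h2
  have hr : ringChar F = 2 := ringChar.eq F 2
  obtain ⟨r, hr⟩ := FiniteField.isSquare_of_char_two hr c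
  exact ⟨r, hr.symm⟩

/-- in characteristic two the conics `N = 1` and `N ∘ g = 1` share a point, `g ∈ SL₂` -/
theorem exists_common_norm_one (h2 : (2 : F) = 0) (t : F)
    (hab : ∀ z₁ z₂ : F, z₁ ^ 2 + t * z₁ * z₂ + 1 * z₂ ^ 2 = 0 → z₁ = 0 ∧ z₂ = 0)
    (a b c d : F) (hdet : a * d - b * c = 1) :
    ∃ x y : F, x ^ 2 + t * x * y + y ^ 2 = 1 ∧
      (a * x + b * y) ^ 2 + t * (a * x + b * y) * (c * x + d * y) + (c * x + d * y) ^ 2 = 1 := by
  obtain ⟨p, hp⟩ := exists_sqrt_char_two h2 (a ^ 2 + t * a * c + c ^ 2 + 1)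
  obtain ⟨r, hr⟩ := exists_sqrt_char_two h2 (b ^ 2 + t * b * d + d ^ 2 + 1)
  have key : ∀ x y : F, (a * x + b * y) ^ 2 + t * (a * x + b * y) * (c * x + d * y) + (c * x + d * y) ^ 2 =
      (x ^ 2 + t * x * y + y ^ 2) + (p * x + r * y) ^ 2 := by
    intro x y
    linear_combination (-x ^ 2 - y ^ 2 + (a * b + c * d - p * r + t * b * c) * x * y) * h2 + t * x * y * hdet
      - x ^ 2 * hp - y ^ 2 * hr
  have hz : ∃ x₀ y₀ : F, ¬ (x₀ = 0 ∧ y₀ = 0) ∧ p * x₀ + r * y₀ = 0 := by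
    by_cases hpr : r = 0 ∧ p = 0
    · refine ⟨1, 0, fun h => one_ne_zero h.1, ?_⟩
      rw [hpr.1, hpr.2]; ring
    · exact ⟨r, p, hpr, by linear_combination p * r * h2⟩
  obtain ⟨x₀, y₀, hne, h0⟩ := hz
  have hν : x₀ ^ 2 + t * x₀ * y₀ + y₀ ^ 2 ≠ 0 := by
    intro h
    exact hne (hab x₀ y₀ (by linear_combination h))
  obtain ⟨n, hn⟩ := exists_sqrt_char_two h2 (x₀ ^ 2 + t * x₀ * y₀ + y₀ ^ 2)
  have hn0 : n ≠ 0 := by
    rintro rfl
    rw [mul_zero] at hn
    exact hν hn.symm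
  have h1 : (x₀ / n) ^ 2 + t * (x₀ / n) * (y₀ / n) + (y₀ / n) ^ 2 = 1 := by
    field_simp
    linear_combination -hn
  refine ⟨x₀ / n, y₀ / n, h1, ?_⟩
  rw [key, h1]
  have : p * (x₀ / n) + r * (y₀ / n) = 0 := by
    field_simp
    linear_combination h0
  rw [this]; ring

/-- the unipotent subgroup as a homomorphism -/
def unipHom : Multiplicative F →* SpecialLinearGroup (Fin 2) F where
  toFun b := upperSL 1 (Multiplicative.toAdd b) (one_mul 1)
  map_one' := by
    apply Subtype.ext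
    rw [upperSL_coe]
    simp [Matrix.one_fin_two]
  map_mul' x y := by
    apply Subtype.ext
    rw [Matrix.SpecialLinearGroup.coe_mul, upperSL_coe, upperSL_coe, upperSL_coe, Matrix.mul_fin_two]
    apply mat2_mk_eq <;> simp [add_comm]

theorem unipHom_apply (b : Multiplicative F) :
    unipHom b = upperSL 1 (Multiplicative.toAdd b) (one_mul 1) := rfl

theorem unipHom_injective : Function.Injective (unipHom (F := F)) := by
  intro x y h
  have h1 : ((unipHom x : SpecialLinearGroup (Fin 2) F) : Matrix (Fin 2) (Fin 2) F) 0 1 =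
      ((unipHom y : SpecialLinearGroup (Fin 2) F) : Matrix (Fin 2) (Fin 2) F) 0 1 := by rw [h]
  rw [unipHom_apply, unipHom_apply, upperSL_coe, upperSL_coe] at h1
  have h2 : Multiplicative.toAdd x = Multiplicative.toAdd y := by simpa using h1
  exact Multiplicative.toAdd.injective h2

theorem exists_torus_factor (h2 : (2 : F) = 0) (t : F)
    (hab : ∀ z₁ z₂ : F, z₁ ^ 2 + t * z₁ * z₂ + 1 * z₂ ^ 2 = 0 → z₁ = 0 ∧ z₂ = 0)
    (g : SpecialLinearGroup (Fin 2) F) :
    ∃ (u v : unitary (QuadraticAlgebra F (-1) t)) (lam : F),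
      g = torSL (-1) t u * upperSL 1 lam (one_mul 1) * (torSL (-1) t v)⁻¹ := by
  have hdet := g.det_coe
  rw [Matrix.det_fin_two] at hdet
  obtain ⟨x, y, hN, hN'⟩ := exists_common_norm_one h2 t hab _ _ _ _ hdet
  set x' := (g : Matrix (Fin 2) (Fin 2) F) 0 0 * x + (g : Matrix (Fin 2) (Fin 2) F) 0 1 * y with hx'
  set y' := (g : Matrix (Fin 2) (Fin 2) F) 1 0 * x + (g : Matrix (Fin 2) (Fin 2) F) 1 1 * y with hy'
  have hv : (⟨x, y⟩ : QuadraticAlgebra F (-1) t) ∈ unitary (QuadraticAlgebra F (-1) t) := by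
    rw [← QuadraticAlgebra.norm_eq_one_iff_mem_unitary, QuadraticAlgebra.norm_def]
    linear_combination hN
  have hu : (⟨x', y'⟩ : QuadraticAlgebra F (-1) t) ∈ unitary (QuadraticAlgebra F (-1) t) := by
    rw [← QuadraticAlgebra.norm_eq_one_iff_mem_unitary, QuadraticAlgebra.norm_def]
    linear_combination hN'
  set v : unitary (QuadraticAlgebra F (-1) t) := ⟨_, hv⟩ with hvdef
  set u : unitary (QuadraticAlgebra F (-1) t) := ⟨_, hu⟩ with hudef
  set h := (torSL (-1) t u)⁻¹ * g * torSL (-1) t v with hh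
  have hmul : torSL (-1) t u * h = g * torSL (-1) t v := by rw [hh]; group
  have hmulM : torMat (-1) t u.1 * (h : Matrix (Fin 2) (Fin 2) F) =
      (g : Matrix (Fin 2) (Fin 2) F) * torMat (-1) t v.1 := congrArg Subtype.val hmul
  have e00 := congrFun (congrFun hmulM 0) 0
  have e10 := congrFun (congrFun hmulM 1) 0
  simp only [torMat, Matrix.mul_apply, Fin.sum_univ_two, hvdef, hudef, Matrix.of_apply, Matrix.cons_val_zero,
    Matrix.cons_val_one, Matrix.cons_val', Matrix.cons_val_fin_one] at e00 e10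
  have h00 : (h : Matrix (Fin 2) (Fin 2) F) 0 0 = 1 := by
    linear_combination (x' + t * y') * e00 + y' * e10 - ((h : Matrix (Fin 2) (Fin 2) F) 0 0 - 1) * hN'
  have h10 : (h : Matrix (Fin 2) (Fin 2) F) 1 0 = 0 := by
    linear_combination (-y') * e00 + x' * e10 - ((h : Matrix (Fin 2) (Fin 2) F) 1 0) * hN'
  have hdeth := h.det_coe
  rw [Matrix.det_fin_two, h00, h10, mul_zero, sub_zero, one_mul] at hdeth
  refine ⟨u, v, (h : Matrix (Fin 2) (Fin 2) F) 0 1, ?_⟩
  have hh' : h = upperSL 1 ((h : Matrix (Fin 2) (Fin 2) F) 0 1) (one_mul 1) := by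
    apply Subtype.ext
    rw [upperSL_coe]
    apply mat2_ext
    · rw [h00]; rfl
    · rfl
    · rw [h10]; rfl
    · rw [hdeth]; rfl
  rw [← hh', hh]
  group

end ABA
end Cfsg.Agent.Lib.Helper15
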