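import Mathlib
import Cfsg.Agent.Lib.Helper15.PSL2ABA1
set_option autoImplicit false
namespace Cfsg.Agent.Lib.Helper15

open Matrix
open Cfsg.Agent.Lib.Helper14

section ABA2
variable {F : Type*} [Field F] [Fintype F]

theorem psl2_ABA (h2 : 2 ∣ Fintype.card F) (h4 : 4 ≤ Fintype.card F) :
    ∃ A B : Subgroup (SpecialLinearGroup (Fin 2) F ⧸ Subgroup.center (SpecialLinearGroup (Fin 2) F)),
      IsCyclic A ∧ Nat.card A = Fintype.card F + 1 ∧ IsMulCommutative B ∧ (∀ b ∈ B, b * b = 1) ∧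
        Nat.card B = Fintype.card F ∧
        ∀ g : SpecialLinearGroup (Fin 2) F ⧸ Subgroup.center (SpecialLinearGroup (Fin 2) F),
          ∃ a ∈ A, ∃ b ∈ B, ∃ c ∈ A, g = a * b * c := by
  classical
  have h20 : (2 : F) = 0 := two_dvd_card_iff.1 h2
  haveI hc : CharP F 2 := CharTwo.of_one_ne_zero_of_two_eq_zero one_ne_zero h20
  obtain ⟨t, hab⟩ := exists_aniso h4
  have hfact := fact_of_anisotropic t 1 hab
  have hfin : Finite (QuadraticAlgebra F (-1) t) := Finite.of_equiv _ (QuadraticAlgebra.equivProd (-1) t).symm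
  have hfinU : Finite (unitary (QuadraticAlgebra F (-1) t)) := Subtype.finite
  have hcyc : IsCyclic (unitary (QuadraticAlgebra F (-1) t)) :=
    isCyclic_of_injective_ringHom (unitary (QuadraticAlgebra F (-1) t)).subtype Subtype.coe_injective
  have hmk : Function.Injective (QuotientGroup.mk' (Subgroup.center (SpecialLinearGroup (Fin 2) F))) := by
    rw [← MonoidHom.ker_eq_bot_iff, QuotientGroup.ker_mk', Cfsg.Agent.Lib.Helper3.CardSL.center_SL2_eq_bot]
  set φ : unitary (QuadraticAlgebra F (-1) t) →*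
      SpecialLinearGroup (Fin 2) F ⧸ Subgroup.center (SpecialLinearGroup (Fin 2) F) :=
    (QuotientGroup.mk' _).comp (torSL (-1) t) with hφdef
  have hφ : Function.Injective φ := hmk.comp (torSL_injective _ _)
  set ψ : Multiplicative F →*
      SpecialLinearGroup (Fin 2) F ⧸ Subgroup.center (SpecialLinearGroup (Fin 2) F) :=
    (QuotientGroup.mk' _).comp unipHom with hψdef
  have hψ : Function.Injective ψ := hmk.comp unipHom_injective
  refine ⟨φ.range, ψ.range, ?_, ?_, ?_, ?_, ?_, ?_⟩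
  · exact isCyclic_of_surjective φ.rangeRestrict φ.rangeRestrict_surjective
  · rw [Nat.card_congr (MonoidHom.ofInjective hφ).toEquiv.symm]
    exact card_unitary_quadAlg t 1 hab
  · refine ⟨⟨?_⟩⟩
    rintro ⟨_, a, rfl⟩ ⟨_, b, rfl⟩
    apply Subtype.ext
    show ψ a * ψ b = ψ b * ψ a
    rw [← map_mul, ← map_mul, mul_comm]
  · rintro _ ⟨a, rfl⟩
    rw [← map_mul]
    have : a * a = 1 := by
      apply Multiplicative.toAdd.injective
      show Multiplicative.toAdd a + Multiplicative.toAdd a = 0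
      exact CharTwo.add_self_eq_zero _
    rw [this, map_one]
  · rw [Nat.card_congr (MonoidHom.ofInjective hψ).toEquiv.symm, Nat.card_congr Multiplicative.toAdd,
      Nat.card_eq_fintype_card]
  · intro g
    obtain ⟨G, rfl⟩ := QuotientGroup.mk'_surjective _ g
    obtain ⟨u, v, lam, hG⟩ := exists_torus_factor h20 t hab G
    refine ⟨φ u, ⟨u, rfl⟩, ψ (Multiplicative.ofAdd lam), ⟨_, rfl⟩, φ v⁻¹, ⟨_, rfl⟩, ?_⟩
    rw [hG, hφdef, hψdef]
    simp only [MonoidHom.comp_apply, map_mul, map_inv, unipHom_apply, toAdd_ofAdd]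

end ABA2
end Cfsg.Agent.Lib.Helper15
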