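import Mathlib
import Cfsg.Agent.Lib.Helper15.PJor7

/-!
# Index of the subfield subgroup of `SL_n(q)`: divisibility by an odd prime `r ≠ p`
-/

set_option autoImplicit false

namespace Cfsg.Agent.Lib.Helper15.PSf

open Module Submodule Cfsg.Agent.Lib.Helper15.PSub Cfsg.Agent.Lib.Helper15.PInv
  Cfsg.Agent.Lib.Helper13 Cfsg.Agent.Lib.Helper15.PSubf

section arith

theorem geom_mul (a k : ℕ) (ha : 1 ≤ a) :
    (a - 1) * (∑ t ∈ Finset.range k, a ^ t) = a ^ k - 1 := by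
  obtain ⟨b, rfl⟩ : ∃ b, a = b + 1 := ⟨a - 1, by omega⟩
  have := geom_pred b k
  rw [Nat.add_sub_cancel]
  omega

theorem geom_not_dvd (r k a : ℕ) (hr : r.Prime) (hk : k.Prime) (hrk : r ≠ k) (ha : 1 ≤ a)
    (h : r ∣ a ^ k - 1 → r ∣ a - 1) : ¬ r ∣ ∑ t ∈ Finset.range k, a ^ t := by
  intro hd
  have h1 : r ∣ a ^ k - 1 := by
    rw [← geom_mul a k ha]
    exact Dvd.dvd.mul_left hd _
  have h2 := h h1
  have h3 : ((a : ℕ) : ZMod r) = 1 := by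
    have h4 : (((a - 1 : ℕ) : ℕ) : ZMod r) = 0 := (ZMod.natCast_eq_zero_iff _ _).mpr h2
    have h5 : a = (a - 1) + 1 := by omega
    rw [h5, Nat.cast_add, h4, zero_add, Nat.cast_one]
  have h6 : ((∑ t ∈ Finset.range k, a ^ t : ℕ) : ZMod r) = (k : ZMod r) := by
    rw [Nat.cast_sum]
    simp only [Nat.cast_pow, h3, one_pow, Finset.sum_const, Finset.card_range, nsmul_eq_mul,
      mul_one]
  have h7 : ((∑ t ∈ Finset.range k, a ^ t : ℕ) : ZMod r) = 0 :=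
    (ZMod.natCast_eq_zero_iff _ _).mpr hd
  rw [h6, ZMod.natCast_eq_zero_iff] at h7
  exact hrk ((Nat.prime_dvd_prime_iff_eq hr hk).mp h7)

theorem factor_not_dvd (r k q₀ n j : ℕ) (hr : r.Prime) (hk : k.Prime) (hrk : r ≠ k)
    (hq₀ : 1 ≤ q₀) (hrq₀ : ¬ r ∣ q₀)
    (hord : ∀ d, r ∣ (q₀ ^ k) ^ d - 1 → r ∣ q₀ ^ d - 1) (hj : j < n) :
    ∃ o, ¬ r ∣ o ∧ (q₀ ^ k) ^ n - (q₀ ^ k) ^ j = (q₀ ^ n - q₀ ^ j) * o := by
  obtain ⟨d, rfl⟩ : ∃ d, n = j + d := ⟨n - j, by omega⟩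
  have ha : 1 ≤ q₀ ^ d := Nat.one_le_pow _ _ hq₀
  have hno : ¬ r ∣ ∑ t ∈ Finset.range k, (q₀ ^ d) ^ t := by
    apply geom_not_dvd r k (q₀ ^ d) hr hk hrk ha
    intro h1
    apply hord d
    rw [← pow_mul, mul_comm k d, pow_mul]
    exact h1
  have hoe := geom_mul (q₀ ^ d) k ha
  refine ⟨q₀ ^ ((k - 1) * j) * ∑ t ∈ Finset.range k, (q₀ ^ d) ^ t, ?_, ?_⟩
  · intro h1
    rcases (Nat.Prime.dvd_mul hr).mp h1 with h2 | h2
    · exact hrq₀ (hr.dvd_of_dvd_pow h2)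
    · exact hno h2
  · have h1 : (q₀ ^ k) ^ (j + d) - (q₀ ^ k) ^ j = (q₀ ^ k) ^ j * ((q₀ ^ d) ^ k - 1) := by
      rw [Nat.mul_sub, mul_one, pow_add, ← pow_mul q₀ d k, ← pow_mul q₀ k d, mul_comm d k]
    have h2 : q₀ ^ (j + d) - q₀ ^ j = q₀ ^ j * (q₀ ^ d - 1) := by
      rw [Nat.mul_sub, mul_one, pow_add]
    have h3 : (q₀ ^ k) ^ j = q₀ ^ j * q₀ ^ ((k - 1) * j) := by
      rw [← pow_mul, ← pow_add]
      congr 1
      obtain ⟨k', rfl⟩ : ∃ k', k = k' + 1 := ⟨k - 1, by have := hk.two_le; omega⟩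
      rw [Nat.add_sub_cancel]
      ring
    rw [h1, h2, ← hoe, h3]
    ring

theorem prod_factor_not_dvd (r k q₀ n : ℕ) (hr : r.Prime) (hk : k.Prime) (hrk : r ≠ k)
    (hq₀ : 1 ≤ q₀) (hrq₀ : ¬ r ∣ q₀)
    (hord : ∀ d, r ∣ (q₀ ^ k) ^ d - 1 → r ∣ q₀ ^ d - 1) :
    ∃ O, ¬ r ∣ O ∧ ∏ i : Fin n, ((q₀ ^ k) ^ n - (q₀ ^ k) ^ (i : ℕ)) =
      (∏ i : Fin n, (q₀ ^ n - q₀ ^ (i : ℕ))) * O := by
  choose o ho hoe using fun i : Fin n =>
    factor_not_dvd r k q₀ n i hr hk hrk hq₀ hrq₀ hord i.2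
  refine ⟨∏ i, o i, ?_, ?_⟩
  · intro h1
    obtain ⟨i, _, hi⟩ := (Prime.dvd_finsetProd_iff (Nat.prime_iff.mp hr) _).mp h1
    exact ho i hi
  · rw [← Finset.prod_mul_distrib]
    exact Finset.prod_congr rfl (fun i _ => hoe i)

end arith

section index

variable {F : Type*} [Field F] [Fintype F] {n : ℕ}

/-- the basic identity relating the index of the subfield subgroup to the order formulas -/
theorem index_identity (hn : 0 < n) (F₀ : Subfield F) (k q₀ : ℕ) (hF₀ : Nat.card ↥F₀ = q₀)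
    (hqk : Fintype.card F = q₀ ^ k) :
    ∃ I : ℕ, ((Cfsg.Geo.subfieldSubgroup F₀ 1).comap
      (Matrix.SpecialLinearGroup.toGL :
        Matrix.SpecialLinearGroup (Fin n) F →* GL (Fin n) F)).index ∣ I ∧
      I * (∏ i : Fin n, (q₀ ^ n - q₀ ^ (i : ℕ))) * (q₀ ^ k - 1) =
        (∏ i : Fin n, ((q₀ ^ k) ^ n - (q₀ ^ k) ^ (i : ℕ))) * (q₀ - 1) := by
  classical
  have : Fintype ↥F₀ := Fintype.ofFinite _
  have hF₀' : Fintype.card ↥F₀ = q₀ := by rw [← Nat.card_eq_fintype_card]; exact hF₀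
  obtain ⟨H, hH⟩ : ∃ H, H = ((Cfsg.Geo.subfieldSubgroup F₀ 1).comap
      (Matrix.SpecialLinearGroup.toGL :
        Matrix.SpecialLinearGroup (Fin n) F →* GL (Fin n) F)) := ⟨_, rfl⟩
  obtain ⟨S₀, hS₀⟩ : ∃ S₀, S₀ =
      (Matrix.SpecialLinearGroup.map (n := Fin n) (F₀.subtype : F₀ →+* F)).range := ⟨_, rfl⟩
  have hle : S₀ ≤ H := by
    rw [hS₀, hH]
    rintro _ ⟨Y, rfl⟩
    exact map_mem_subf F₀ Y
  have hdvd : H.index ∣ S₀.index := Subgroup.index_dvd_of_le hle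
  have hcardS₀ : Nat.card S₀ = Nat.card (Matrix.SpecialLinearGroup (Fin n) F₀) := by
    rw [hS₀]
    exact (Nat.card_congr (MonoidHom.ofInjective (map_SL_injective F₀)).toEquiv).symm
  have hlag := Subgroup.index_mul_card S₀
  rw [hcardS₀] at hlag
  have hN := Cfsg.Agent.Lib.Helper3.CardSL.card_GL_eq_card_SL_mul (F := F) n hn
  rw [Matrix.card_GL_field, Nat.card_units, Nat.card_eq_fintype_card (α := F), hqk] at hN
  have hN₀ := Cfsg.Agent.Lib.Helper3.CardSL.card_GL_eq_card_SL_mul (F := ↥F₀) n hn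
  rw [Matrix.card_GL_field, Nat.card_units, Nat.card_eq_fintype_card (α := ↥F₀), hF₀'] at hN₀
  refine ⟨S₀.index, ?_, ?_⟩
  · rw [← hH]
    exact hdvd
  · rw [hN, hN₀, ← hlag]
    ring

theorem two_le_of_card (F₀ : Subfield F) (q₀ : ℕ) (hF₀ : Nat.card ↥F₀ = q₀) : 2 ≤ q₀ := by
  have : Fintype ↥F₀ := Fintype.ofFinite _
  rw [← hF₀, Nat.card_eq_fintype_card]
  exact Fintype.one_lt_card

/-- if the orders of `q₀` and `q = q₀^k` modulo `r` coincide (`r ≠ k`, `r ∤ q₀`), then `r` does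
not divide the index of the subfield subgroup -/
theorem not_dvd_index (hn : 0 < n) (F₀ : Subfield F) (k q₀ : ℕ) (hk : k.Prime)
    (hF₀ : Nat.card ↥F₀ = q₀) (hqk : Fintype.card F = q₀ ^ k) (r : ℕ) (hr : r.Prime)
    (hrk : r ≠ k) (hrq₀ : ¬ r ∣ q₀)
    (hord : ∀ d, r ∣ (q₀ ^ k) ^ d - 1 → r ∣ q₀ ^ d - 1) :
    ¬ r ∣ ((Cfsg.Geo.subfieldSubgroup F₀ 1).comap
      (Matrix.SpecialLinearGroup.toGL :
        Matrix.SpecialLinearGroup (Fin n) F →* GL (Fin n) F)).index := by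
  have hq₀2 := two_le_of_card F₀ q₀ hF₀
  obtain ⟨I, hI, hid⟩ := index_identity hn F₀ k q₀ hF₀ hqk
  obtain ⟨O, hO, hprod⟩ := prod_factor_not_dvd r k q₀ n hr hk hrk (by omega) hrq₀ hord
  have hno : ¬ r ∣ ∑ t ∈ Finset.range k, q₀ ^ t := by
    apply geom_not_dvd r k q₀ hr hk hrk (by omega)
    intro h1
    have := hord 1
    rw [pow_one, pow_one] at this
    exact this h1
  have hq1 := geom_mul q₀ k (by omega)
  rw [hprod, ← hq1] at hid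
  have hpos : 0 < (∏ i : Fin n, (q₀ ^ n - q₀ ^ (i : ℕ))) * (q₀ - 1) := by
    apply Nat.mul_pos
    · apply Finset.prod_pos
      intro i _
      have : q₀ ^ (i : ℕ) < q₀ ^ n := Nat.pow_lt_pow_right (by omega) i.2
      omega
    · omega
  have h5 : I * (∑ t ∈ Finset.range k, q₀ ^ t) = O := by
    apply Nat.eq_of_mul_eq_mul_left hpos
    calc (∏ i : Fin n, (q₀ ^ n - q₀ ^ (i : ℕ))) * (q₀ - 1) *
          (I * ∑ t ∈ Finset.range k, q₀ ^ t)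
        = (I * ∏ i : Fin n, (q₀ ^ n - q₀ ^ (i : ℕ))) *
          ((q₀ - 1) * ∑ t ∈ Finset.range k, q₀ ^ t) := by ring
      _ = (∏ i : Fin n, (q₀ ^ n - q₀ ^ (i : ℕ))) * O * (q₀ - 1) := hid
      _ = (∏ i : Fin n, (q₀ ^ n - q₀ ^ (i : ℕ))) * (q₀ - 1) * O := by ring
  intro h2
  have h6 : r ∣ I := dvd_trans h2 hI
  apply hO
  rw [← h5]
  exact Dvd.dvd.mul_right h6 _

/-- if `r` divides the index then `r ∣ q^d - 1` for some `1 ≤ d ≤ n` -/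
theorem exists_dvd_of_dvd_index (hn : 0 < n) (F₀ : Subfield F) (k q₀ : ℕ) (hk : k.Prime)
    (hF₀ : Nat.card ↥F₀ = q₀) (hqk : Fintype.card F = q₀ ^ k) (r : ℕ) (hr : r.Prime)
    (hrq₀ : ¬ r ∣ q₀)
    (h : r ∣ ((Cfsg.Geo.subfieldSubgroup F₀ 1).comap
      (Matrix.SpecialLinearGroup.toGL :
        Matrix.SpecialLinearGroup (Fin n) F →* GL (Fin n) F)).index) :
    ∃ d, 1 ≤ d ∧ d ≤ n ∧ r ∣ (q₀ ^ k) ^ d - 1 := by
  have hq₀2 := two_le_of_card F₀ q₀ hF₀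
  obtain ⟨I, hI, hid⟩ := index_identity hn F₀ k q₀ hF₀ hqk
  have h1 : r ∣ (∏ i : Fin n, ((q₀ ^ k) ^ n - (q₀ ^ k) ^ (i : ℕ))) * (q₀ - 1) := by
    rw [← hid]
    exact Dvd.dvd.mul_right (Dvd.dvd.mul_right (dvd_trans h hI) _) _
  rcases (Nat.Prime.dvd_mul hr).mp h1 with h2 | h2
  · obtain ⟨i, _, hi⟩ := (Prime.dvd_finsetProd_iff (Nat.prime_iff.mp hr) _).mp h2
    have h3 : (q₀ ^ k) ^ n - (q₀ ^ k) ^ (i : ℕ) =
        (q₀ ^ k) ^ (i : ℕ) * ((q₀ ^ k) ^ (n - (i : ℕ)) - 1) := by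
      rw [Nat.mul_sub, mul_one, ← pow_add]
      congr 2
      have := i.2
      omega
    rw [h3] at hi
    rcases (Nat.Prime.dvd_mul hr).mp hi with h4 | h4
    · exact absurd (hr.dvd_of_dvd_pow (hr.dvd_of_dvd_pow h4)) hrq₀
    · exact ⟨n - (i : ℕ), by have := i.2; omega, by omega, h4⟩
  · refine ⟨1, le_refl _, hn, ?_⟩
    rw [pow_one]
    have h3 : q₀ - 1 ∣ q₀ ^ k - 1 := by
      have := Nat.sub_dvd_pow_sub_pow q₀ 1 k
      rwa [one_pow] at this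
    exact dvd_trans h2 h3

/-- for `n = 2`, `k = 2` and `r ∣ q₀ + 1` odd, `r` does not divide the index -/
theorem not_dvd_index_two (F₀ : Subfield F) (q₀ : ℕ)
    (hF₀ : Nat.card ↥F₀ = q₀) (hqk : Fintype.card F = q₀ ^ 2) (r : ℕ) (hr : r.Prime)
    (hr2 : r ≠ 2) (hrq : r ∣ q₀ + 1) :
    ¬ r ∣ ((Cfsg.Geo.subfieldSubgroup F₀ 1).comap
      (Matrix.SpecialLinearGroup.toGL :
        Matrix.SpecialLinearGroup (Fin 2) F →* GL (Fin 2) F)).index := by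
  have hq₀2 := two_le_of_card F₀ q₀ hF₀
  obtain ⟨I, hI, hid⟩ := index_identity (n := 2) (by norm_num) F₀ 2 q₀ hF₀ hqk
  rw [Fin.prod_univ_two, Fin.prod_univ_two] at hid
  simp only [Fin.val_zero, Fin.val_one, pow_zero, pow_one] at hid
  obtain ⟨a, rfl⟩ : ∃ a, q₀ = a + 2 := ⟨q₀ - 2, by omega⟩
  have e1 : (a + 2) ^ 2 - 1 = (a + 1) * (a + 3) := by
    apply Nat.sub_eq_of_eq_add
    ring
  have e2 : (a + 2) ^ 2 - (a + 2) = (a + 2) * (a + 1) := by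
    apply Nat.sub_eq_of_eq_add
    ring
  have e3 : ((a + 2) ^ 2) ^ 2 - 1 = (a + 1) * (a + 3) * ((a + 2) ^ 2 + 1) := by
    apply Nat.sub_eq_of_eq_add
    ring
  have e4 : ((a + 2) ^ 2) ^ 2 - (a + 2) ^ 2 = (a + 2) ^ 2 * ((a + 1) * (a + 3)) := by
    apply Nat.sub_eq_of_eq_add
    ring
  have e5 : a + 2 - 1 = a + 1 := by omega
  rw [e1, e2, e3, e4, e5] at hid
  have hpos : 0 < (a + 1) * (a + 3) * ((a + 2) * (a + 1)) * ((a + 1) * (a + 3)) := by positivity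
  have hI' : I = (a + 2) * ((a + 2) ^ 2 + 1) := by
    apply Nat.eq_of_mul_eq_mul_right hpos
    rw [← mul_assoc, hid]
    ring
  intro h2
  have h6 : r ∣ I := dvd_trans h2 hI
  rw [hI'] at h6
  have h7 : a + 2 + 1 = a + 3 := by omega
  rw [h7] at hrq
  rcases (Nat.Prime.dvd_mul hr).mp h6 with h8 | h8
  · have h9 : r ∣ (a + 3) - (a + 2) := Nat.dvd_sub hrq h8
    have h10 : (a + 3) - (a + 2) = 1 := by omega
    rw [h10] at h9
    exact hr.one_lt.ne' (Nat.dvd_one.mp h9)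
  · have h9 : (a + 2) ^ 2 + 1 = (a + 3) * (a + 1) + 2 := by ring
    rw [h9] at h8
    have h10 : r ∣ 2 := (Nat.dvd_add_right (Dvd.dvd.mul_right hrq _)).mp h8
    exact hr2 ((Nat.prime_dvd_prime_iff_eq hr Nat.prime_two).mp h10)

end index

end Cfsg.Agent.Lib.Helper15.PSf
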