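import Mathlib
import Cfsg.Agent.Lib.Helper15.PSf1

/-!
# Diagonal elements of `SL_n(q)` that are not conjugate into the subfield subgroup
-/

set_option autoImplicit false

namespace Cfsg.Agent.Lib.Helper15.PSf

open Module Submodule Polynomial Cfsg.Agent.Lib.Helper15.PSub Cfsg.Agent.Lib.Helper15.PInv
  Cfsg.Agent.Lib.Helper13 Cfsg.Agent.Lib.Helper15.PSubf

section lists

variable {α : Type*}

theorem map_cons_val {m : ℕ} (a : α) (g : Fin m → α) :
    Finset.univ.val.map (Fin.cons a g : Fin (m + 1) → α) = a ::ₘ Finset.univ.val.map g := by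
  rw [Fin.univ_val_map, Fin.univ_val_map, List.ofFn_succ]
  simp only [Fin.cons_zero, Fin.cons_succ]
  rfl

theorem map_const_val {m : ℕ} (c : α) :
    Finset.univ.val.map (fun _ : Fin m => c) = Multiset.replicate m c := by
  rw [Multiset.map_const', Finset.card_val, Finset.card_univ, Fintype.card_fin]

end lists

section diag

variable {F : Type*} [Field F] [Fintype F] {n : ℕ}

omit [Fintype F] in
theorem roots_prod_X_sub_C' (g : Fin n → F) :
    (∏ i, (X - C (g i))).roots = Finset.univ.val.map g := by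
  have h1 : ∏ i, (X - C (g i)) = ((Finset.univ.val.map g).map (fun a => X - C a)).prod := by
    rw [Multiset.map_map]
    rfl
  rw [h1, Polynomial.roots_multiset_prod_X_sub_C]

/-- the Frobenius endomorphism of `F` over the subfield `F₀` -/
theorem exists_frob (F₀ : Subfield F) (q₀ : ℕ) (hF₀ : Nat.card ↥F₀ = q₀) :
    ∃ φ : F →+* F, (∀ a, φ a = a ^ q₀) ∧ ∀ s : F₀, φ (s : F) = s := by
  classical
  have : Fintype ↥F₀ := Fintype.ofFinite _
  have hF₀' : Fintype.card ↥F₀ = q₀ := by rw [← Nat.card_eq_fintype_card]; exact hF₀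
  refine ⟨(FiniteField.frobeniusAlgHom ↥F₀ F : F →ₐ[↥F₀] F).toRingHom, ?_, ?_⟩
  · intro a
    rw [← hF₀']
    rfl
  · intro s
    have h1 : s ^ q₀ = s := by
      rw [← hF₀']
      exact FiniteField.pow_card s
    have h2 := congrArg (fun t : ↥F₀ => (t : F)) h1
    simp only [SubmonoidClass.coe_pow] at h2
    rw [← hF₀'] at h2
    exact h2

/-- if the diagonal matrix `diag f` is conjugate to `l •` a matrix over `F₀`, then the multiset
of the `f i ^ q₀` is the multiset of the `γ * f i` for `γ = l^q₀ / l`. -/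
theorem diag_multiset (F₀ : Subfield F) (q₀ : ℕ) (hF₀ : Nat.card ↥F₀ = q₀) (f : Fin n → F)
    (S Si : Matrix (Fin n) (Fin n) F) (hS : S * Si = 1) (l : F) (hl : l ≠ 0)
    (B : Matrix (Fin n) (Fin n) F₀)
    (h : Matrix.diagonal f * S = S * (l • B.map F₀.subtype)) :
    Multiset.map (fun c => c ^ q₀) (Finset.univ.val.map f) =
      Multiset.map (fun c => (l ^ q₀ * l⁻¹) * c) (Finset.univ.val.map f) := by
  classical
  obtain ⟨φ, hφ, hφ₀⟩ := exists_frob F₀ q₀ hF₀
  have hSi : Si * S = 1 := mul_eq_one_comm.mp hS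
  obtain ⟨Bm, hBm⟩ : ∃ Bm : Matrix (Fin n) (Fin n) F, Bm = B.map F₀.subtype := ⟨_, rfl⟩
  rw [← hBm] at h
  have hBmφ : Bm.map φ = Bm := by
    rw [hBm]
    ext i j
    simp only [Matrix.map_apply, Subfield.coe_subtype]
    exact hφ₀ _
  obtain ⟨A, hA⟩ : ∃ A : Matrix (Fin n) (Fin n) F, A = Matrix.diagonal f := ⟨_, rfl⟩
  rw [← hA] at h
  -- `Bm` in terms of `A`
  have h1 : l • Bm = Si * A * S := by
    rw [Matrix.mul_assoc, h, ← Matrix.mul_assoc, hSi, Matrix.one_mul]
  -- apply `φ`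
  have h2 : A.map φ * S.map φ = S.map φ * (φ l • Bm) := by
    have h3 := congrArg (fun X : Matrix (Fin n) (Fin n) F => X.map φ) h
    simp only [Matrix.map_mul] at h3
    rw [h3]
    congr 1
    rw [Matrix.map_smul' φ l Bm (fun a b => map_mul φ a b), hBmφ]
  obtain ⟨γ, hγ⟩ : ∃ γ : F, γ = l ^ q₀ * l⁻¹ := ⟨_, rfl⟩
  have h4 : φ l • Bm = Si * (γ • A) * S := by
    have h5 : φ l • Bm = γ • (l • Bm) := by
      rw [smul_smul, hγ, hφ, mul_assoc, inv_mul_cancel₀ hl, mul_one]
    rw [h5, h1, Matrix.mul_smul, Matrix.smul_mul]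
  have hS' : S.map φ * Si.map φ = 1 := by
    rw [← Matrix.map_mul, hS, Matrix.map_one φ (map_zero φ) (map_one φ)]
  have hSi' : Si.map φ * S.map φ = 1 := mul_eq_one_comm.mp hS'
  have h6 : A.map φ = (S.map φ * Si) * ((γ • A) * (S * Si.map φ)) := by
    have h7 : A.map φ = A.map φ * S.map φ * Si.map φ := by
      rw [Matrix.mul_assoc, hS', Matrix.mul_one]
    rw [h7, h2, h4]
    simp only [Matrix.mul_assoc]
  have h8 : (A.map φ).charpoly = (γ • A).charpoly := by
    rw [h6, Matrix.charpoly_mul_comm]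
    have h9 : (γ • A) * (S * Si.map φ) * (S.map φ * Si) = γ • A := by
      have : (S * Si.map φ) * (S.map φ * Si) = 1 := by
        rw [Matrix.mul_assoc, ← Matrix.mul_assoc (Si.map φ), hSi', Matrix.one_mul, hS]
      rw [Matrix.mul_assoc, this, Matrix.mul_one]
    rw [h9]
  have h10 : A.map φ = Matrix.diagonal (fun i => φ (f i)) := by
    rw [hA, Matrix.diagonal_map (map_zero φ)]
  have h11 : γ • A = Matrix.diagonal (fun i => γ * f i) := by
    rw [hA, ← Matrix.diagonal_smul]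
    rfl
  rw [h10, h11, Matrix.charpoly_diagonal, Matrix.charpoly_diagonal] at h8
  have h12 := congrArg Polynomial.roots h8
  rw [roots_prod_X_sub_C', roots_prod_X_sub_C'] at h12
  rw [Multiset.map_map, Multiset.map_map, ← hγ]
  have h13 : ((fun c => c ^ q₀) ∘ f) = fun i => φ (f i) := by
    funext i
    rw [hφ]
    rfl
  rw [h13, h12]
  rfl

/-- a diagonal element of `SL_n` whose eigenvalue multiset is not stable under any map
`c ↦ γ⁻¹ c^q₀` is not conjugate into the subfield subgroup -/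
theorem bad_of_diag (F₀ : Subfield F) (q₀ : ℕ) (hF₀ : Nat.card ↥F₀ = q₀) (r : ℕ)
    (f : Fin n → F) (hprod : ∏ i, f i = 1) (z : F) (hz : ∀ i, f i ^ r = z)
    (hns : ∃ i j, f i ≠ f j)
    (hbad : ∀ γ : F, γ ≠ 0 → Multiset.map (fun c => c ^ q₀) (Finset.univ.val.map f) ≠
      Multiset.map (fun c => γ * c) (Finset.univ.val.map f)) :
    ∃ x : Matrix.SpecialLinearGroup (Fin n) F,
      (∃ z : F, ((x ^ r : Matrix.SpecialLinearGroup (Fin n) F) : Matrix (Fin n) (Fin n) F) =
        z • (1 : Matrix (Fin n) (Fin n) F)) ∧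
      (∀ z : F, (x : Matrix (Fin n) (Fin n) F) ≠ z • (1 : Matrix (Fin n) (Fin n) F)) ∧
      ∀ P : Matrix.SpecialLinearGroup (Fin n) F, P⁻¹ * x * P ∉
        ((Cfsg.Geo.subfieldSubgroup F₀ 1).comap
          (Matrix.SpecialLinearGroup.toGL :
            Matrix.SpecialLinearGroup (Fin n) F →* GL (Fin n) F)) := by
  classical
  obtain ⟨x, hx⟩ : ∃ x : Matrix.SpecialLinearGroup (Fin n) F,
      (x : Matrix (Fin n) (Fin n) F) = Matrix.diagonal f :=
    ⟨⟨Matrix.diagonal f, by rw [Matrix.det_diagonal]; exact hprod⟩, rfl⟩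
  obtain ⟨i₀, j₀, hij⟩ := hns
  refine ⟨x, ⟨z, ?_⟩, ?_, ?_⟩
  · rw [Matrix.SpecialLinearGroup.coe_pow, hx, Matrix.diagonal_pow, Matrix.smul_one_eq_diagonal]
    congr 1
    funext i
    exact hz i
  · intro z' hz'
    rw [hx, Matrix.smul_one_eq_diagonal] at hz'
    have h1 := Matrix.diagonal_injective hz'
    apply hij
    rw [congrFun h1 i₀, congrFun h1 j₀]
  · intro P hP
    rw [Subgroup.mem_comap] at hP
    obtain ⟨l, B, hlB⟩ := exists_eq_of_mem_subfieldSubgroup F₀ 1 _ hP
    rw [inv_one, one_mul, mul_one] at hlB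
    have h4 : ((P⁻¹ * x * P : Matrix.SpecialLinearGroup (Fin n) F) :
        Matrix (Fin n) (Fin n) F) = l • rmat F₀ B := hlB
    have h5 : Matrix.diagonal f * (P : Matrix (Fin n) (Fin n) F) =
        (P : Matrix (Fin n) (Fin n) F) * (l • rmat F₀ B) := by
      rw [← h4, Matrix.SpecialLinearGroup.coe_mul, Matrix.SpecialLinearGroup.coe_mul,
        ← Matrix.mul_assoc, ← Matrix.mul_assoc, ← Matrix.SpecialLinearGroup.coe_mul,
        mul_inv_cancel, Matrix.SpecialLinearGroup.coe_one, Matrix.one_mul, hx]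
    have hl : l ≠ 0 := by
      rintro rfl
      rw [zero_smul, Matrix.mul_zero] at h5
      have h6 := congrArg Matrix.det h5
      rw [Matrix.det_mul, Matrix.det_diagonal, hprod, one_mul] at h6
      have h7 : (P : Matrix (Fin n) (Fin n) F).det = 1 := P.2
      rw [h7] at h6
      have : Nonempty (Fin n) := ⟨i₀⟩
      rw [Matrix.det_zero] at h6
      exact one_ne_zero h6
    have hPP : (P : Matrix (Fin n) (Fin n) F) *
        ((P⁻¹ : Matrix.SpecialLinearGroup (Fin n) F) : Matrix (Fin n) (Fin n) F) = 1 := by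
      rw [← Matrix.SpecialLinearGroup.coe_mul, mul_inv_cancel, Matrix.SpecialLinearGroup.coe_one]
    have h8 := diag_multiset F₀ q₀ hF₀ f _ _ hPP l hl B h5
    have hq₀ : q₀ ≠ 0 := by
      have := two_le_of_card F₀ q₀ hF₀
      omega
    exact hbad (l ^ q₀ * l⁻¹) (mul_ne_zero (pow_ne_zero _ hl) (inv_ne_zero hl)) h8

end diag

end Cfsg.Agent.Lib.Helper15.PSf
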