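import Mathlib
import Cfsg.Agent.Lib.Helper15.PSf2

/-!
# Three families of diagonal elements not conjugate into the subfield subgroup
-/

set_option autoImplicit false

namespace Cfsg.Agent.Lib.Helper15.PSf

open Module Submodule Polynomial Cfsg.Agent.Lib.Helper15.PSub Cfsg.Agent.Lib.Helper15.PInv
  Cfsg.Agent.Lib.Helper13 Cfsg.Agent.Lib.Helper15.PSubf

section families

variable {F : Type*} [Field F] [Fintype F]

/-- `w • diag(λ, 1, …, 1)` -/
theorem bad_PR (F₀ : Subfield F) (q₀ : ℕ) (hF₀ : Nat.card ↥F₀ = q₀) (r m : ℕ) (hm : 2 ≤ m)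
    (lam w : F) (hw : w ≠ 0) (hlr : lam ^ r = 1) (h1 : lam ^ q₀ ≠ 1) (h2 : lam ^ q₀ ≠ lam)
    (hdet : w ^ (m + 1) * lam = 1) :
    ∃ x : Matrix.SpecialLinearGroup (Fin (m + 1)) F,
      (∃ z : F, ((x ^ r : Matrix.SpecialLinearGroup (Fin (m + 1)) F) :
        Matrix (Fin (m + 1)) (Fin (m + 1)) F) = z • (1 : Matrix (Fin (m + 1)) (Fin (m + 1)) F)) ∧
      (∀ z : F, (x : Matrix (Fin (m + 1)) (Fin (m + 1)) F) ≠
        z • (1 : Matrix (Fin (m + 1)) (Fin (m + 1)) F)) ∧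
      ∀ P : Matrix.SpecialLinearGroup (Fin (m + 1)) F, P⁻¹ * x * P ∉
        ((Cfsg.Geo.subfieldSubgroup F₀ 1).comap
          (Matrix.SpecialLinearGroup.toGL :
            Matrix.SpecialLinearGroup (Fin (m + 1)) F →* GL (Fin (m + 1)) F)) := by
  classical
  have hq₀ : q₀ ≠ 0 := by
    have := two_le_of_card F₀ q₀ hF₀
    omega
  have hw' : w ^ q₀ ≠ 0 := pow_ne_zero _ hw
  have hlam1 : lam ≠ 1 := by
    rintro rfl
    exact h1 (one_pow _)
  apply bad_of_diag F₀ q₀ hF₀ r (Fin.cons (w * lam) (fun _ => w) : Fin (m + 1) → F) ?_ (w ^ r)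
  · intro i
    refine Fin.cases ?_ (fun j => ?_) i
    · rw [Fin.cons_zero, mul_pow, hlr, mul_one]
    · rw [Fin.cons_succ]
  · refine ⟨0, Fin.succ ⟨0, by omega⟩, ?_⟩
    rw [Fin.cons_zero, Fin.cons_succ]
    intro h
    exact hlam1 ((mul_eq_left₀ hw).mp h)
  · intro γ hγ E
    rw [map_cons_val, map_const_val, Multiset.map_cons, Multiset.map_replicate,
      Multiset.map_cons, Multiset.map_replicate] at E
    have c1 := congrArg (Multiset.count (w ^ q₀)) E
    rw [Multiset.count_cons, Multiset.count_replicate, Multiset.count_cons,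
      Multiset.count_replicate, if_pos rfl] at c1
    have hA : γ * w = w ^ q₀ := by
      by_contra hA
      rw [if_neg hA] at c1
      split_ifs at c1 <;> omega
    have c2 := congrArg (Multiset.count ((w * lam) ^ q₀)) E
    rw [Multiset.count_cons, Multiset.count_replicate, Multiset.count_cons,
      Multiset.count_replicate, if_pos rfl] at c2
    by_cases hB : γ * w = (w * lam) ^ q₀
    · rw [hA, mul_pow] at hB
      exact h1 ((mul_eq_left₀ hw').mp hB.symm)
    · by_cases hC : (w * lam) ^ q₀ = γ * (w * lam)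
      · rw [← mul_assoc, hA, mul_pow] at hC
        exact h2 (mul_left_cancel₀ hw' hC)
      · rw [if_neg hB, if_neg hC] at c2
        split_ifs at c2 <;> omega
  · rw [Fin.prod_univ_succ]
    simp only [Fin.cons_zero, Fin.cons_succ, Finset.prod_const, Finset.card_univ,
      Fintype.card_fin]
    rw [pow_succ] at hdet
    linear_combination hdet

/-- `diag(λ, λ, λ⁻², 1, …, 1)` -/
theorem bad_T3 (F₀ : Subfield F) (q₀ : ℕ) (hF₀ : Nat.card ↥F₀ = q₀) (r m : ℕ) (hm : 4 ≤ m)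
    (lam : F) (hlr : lam ^ r = 1) (h1 : lam ^ q₀ ≠ 1) (h2 : lam ^ q₀ ≠ lam) :
    ∃ x : Matrix.SpecialLinearGroup (Fin (m + 1 + 1 + 1)) F,
      (∃ z : F, ((x ^ r : Matrix.SpecialLinearGroup (Fin (m + 1 + 1 + 1)) F) :
        Matrix (Fin (m + 1 + 1 + 1)) (Fin (m + 1 + 1 + 1)) F) =
          z • (1 : Matrix (Fin (m + 1 + 1 + 1)) (Fin (m + 1 + 1 + 1)) F)) ∧
      (∀ z : F, (x : Matrix (Fin (m + 1 + 1 + 1)) (Fin (m + 1 + 1 + 1)) F) ≠
        z • (1 : Matrix (Fin (m + 1 + 1 + 1)) (Fin (m + 1 + 1 + 1)) F)) ∧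
      ∀ P : Matrix.SpecialLinearGroup (Fin (m + 1 + 1 + 1)) F, P⁻¹ * x * P ∉
        ((Cfsg.Geo.subfieldSubgroup F₀ 1).comap
          (Matrix.SpecialLinearGroup.toGL :
            Matrix.SpecialLinearGroup (Fin (m + 1 + 1 + 1)) F →*
              GL (Fin (m + 1 + 1 + 1)) F)) := by
  classical
  have hq₀ : q₀ ≠ 0 := by
    have := two_le_of_card F₀ q₀ hF₀
    omega
  have hlam1 : lam ≠ 1 := by
    rintro rfl
    exact h1 (one_pow _)
  have hlam0 : lam ≠ 0 := by
    rintro rfl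
    rw [zero_pow hq₀] at h2
    exact h2 rfl
  apply bad_of_diag F₀ q₀ hF₀ r
    (Fin.cons lam (Fin.cons lam (Fin.cons (lam⁻¹ ^ 2) (fun _ => (1 : F)))) :
      Fin (m + 1 + 1 + 1) → F) ?_ 1
  · intro i
    refine Fin.cases ?_ (fun j => ?_) i
    · rw [Fin.cons_zero, hlr]
    · rw [Fin.cons_succ]
      refine Fin.cases ?_ (fun j' => ?_) j
      · rw [Fin.cons_zero, hlr]
      · rw [Fin.cons_succ]
        refine Fin.cases ?_ (fun j'' => ?_) j'
        · rw [Fin.cons_zero, ← pow_mul, mul_comm, pow_mul, inv_pow, hlr, inv_one, one_pow]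
        · rw [Fin.cons_succ, one_pow]
  · refine ⟨0, Fin.succ (Fin.succ (Fin.succ ⟨0, by omega⟩)), ?_⟩
    rw [Fin.cons_zero, Fin.cons_succ, Fin.cons_succ, Fin.cons_succ]
    exact hlam1
  · intro γ hγ E
    rw [map_cons_val, map_cons_val, map_cons_val, map_const_val] at E
    simp only [Multiset.map_cons, Multiset.map_replicate, one_pow, mul_one] at E
    have c1 := congrArg (Multiset.count (1 : F)) E
    simp only [Multiset.count_cons, Multiset.count_replicate] at c1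
    have hA : γ = 1 := by
      by_contra hA
      rw [if_neg hA] at c1
      split_ifs at c1 <;> omega
    rw [hA] at E
    simp only [one_mul] at E
    have c2 := congrArg (Multiset.count (lam ^ q₀)) E
    simp only [Multiset.count_cons, Multiset.count_replicate, if_neg h2,
      if_neg (Ne.symm h1)] at c2
    split_ifs at c2 <;> omega
  · rw [Fin.prod_univ_succ, Fin.prod_univ_succ, Fin.prod_univ_succ]
    simp only [Fin.cons_zero, Fin.cons_succ, Finset.prod_const_one, mul_one]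
    field_simp

/-- `diag(λ, λ⁻¹)` -/
theorem bad_D2 (F₀ : Subfield F) (q₀ : ℕ) (hF₀ : Nat.card ↥F₀ = q₀) (r : ℕ)
    (lam : F) (hlr : lam ^ r = 1) (h0 : (lam ^ q₀) ^ 2 ≠ 1) (h1 : (lam ^ q₀) ^ 2 ≠ lam ^ 2)
    (h2 : (lam ^ q₀) ^ 2 * lam ^ 2 ≠ 1) :
    ∃ x : Matrix.SpecialLinearGroup (Fin 2) F,
      (∃ z : F, ((x ^ r : Matrix.SpecialLinearGroup (Fin 2) F) :
        Matrix (Fin 2) (Fin 2) F) = z • (1 : Matrix (Fin 2) (Fin 2) F)) ∧
      (∀ z : F, (x : Matrix (Fin 2) (Fin 2) F) ≠ z • (1 : Matrix (Fin 2) (Fin 2) F)) ∧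
      ∀ P : Matrix.SpecialLinearGroup (Fin 2) F, P⁻¹ * x * P ∉
        ((Cfsg.Geo.subfieldSubgroup F₀ 1).comap
          (Matrix.SpecialLinearGroup.toGL :
            Matrix.SpecialLinearGroup (Fin 2) F →* GL (Fin 2) F)) := by
  classical
  have hq₀ : q₀ ≠ 0 := by
    have := two_le_of_card F₀ q₀ hF₀
    omega
  have hlam0 : lam ≠ 0 := by
    rintro rfl
    apply h1
    rw [zero_pow hq₀]
  have hlq : lam ^ q₀ ≠ 0 := pow_ne_zero _ hlam0
  apply bad_of_diag F₀ q₀ hF₀ r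
    (Fin.cons lam (Fin.cons lam⁻¹ (fun _ => (1 : F))) : Fin (0 + 1 + 1) → F) ?_ 1
  · intro i
    refine Fin.cases ?_ (fun j => ?_) i
    · rw [Fin.cons_zero, hlr]
    · rw [Fin.cons_succ]
      refine Fin.cases ?_ (fun j' => ?_) j
      · rw [Fin.cons_zero, inv_pow, hlr, inv_one]
      · exact j'.elim0
  · refine ⟨0, Fin.succ 0, ?_⟩
    rw [Fin.cons_zero, Fin.cons_succ, Fin.cons_zero]
    intro h
    apply h0
    have h3 : lam ^ 2 = 1 := by
      rw [pow_two]
      nth_rewrite 2 [h]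
      exact mul_inv_cancel₀ hlam0
    rw [← pow_mul, mul_comm, pow_mul, h3, one_pow]
  · intro γ hγ E
    rw [map_cons_val, map_cons_val, map_const_val] at E
    simp only [Multiset.map_cons, Multiset.replicate_zero, Multiset.map_zero] at E
    have m1 : lam ^ q₀ ∈ (γ * lam ::ₘ γ * lam⁻¹ ::ₘ (0 : Multiset F)) := by
      rw [← E]
      exact Multiset.mem_cons_self _ _
    have m2 : lam⁻¹ ^ q₀ ∈ (γ * lam ::ₘ γ * lam⁻¹ ::ₘ (0 : Multiset F)) := by
      rw [← E]
      exact Multiset.mem_cons_of_mem (Multiset.mem_cons_self _ _)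
    simp only [Multiset.mem_cons, Multiset.notMem_zero, or_false] at m1 m2
    have hinv : lam⁻¹ ^ q₀ = (lam ^ q₀)⁻¹ := inv_pow _ _
    rw [hinv] at m2
    rcases m1 with m1 | m1 <;> rcases m2 with m2 | m2
    · -- `μ = γλ`, `μ⁻¹ = γλ`
      apply h0
      have : lam ^ q₀ = (lam ^ q₀)⁻¹ := by rw [m2, ← m1]
      rw [pow_two]
      nth_rewrite 2 [this]
      exact mul_inv_cancel₀ hlq
    · apply h1
      have h3 : (lam ^ q₀) * ((lam ^ q₀)⁻¹)⁻¹ = (γ * lam) * (γ * lam⁻¹)⁻¹ := by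
        rw [← m1, ← m2]
      rw [inv_inv] at h3
      rw [pow_two, h3]
      field_simp
    · apply h2
      have h3 : (lam ^ q₀) * ((lam ^ q₀)⁻¹)⁻¹ = (γ * lam⁻¹) * (γ * lam)⁻¹ := by
        rw [← m1, ← m2]
      rw [inv_inv] at h3
      rw [pow_two, h3]
      field_simp
    · apply h0
      have : lam ^ q₀ = (lam ^ q₀)⁻¹ := by rw [m2, ← m1]
      rw [pow_two]
      nth_rewrite 2 [this]
      exact mul_inv_cancel₀ hlq
  · rw [Fin.prod_univ_succ, Fin.prod_univ_succ]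
    simp only [Fin.cons_zero, Fin.cons_succ, Finset.prod_const_one, mul_one]
    exact mul_inv_cancel₀ hlam0

end families

end Cfsg.Agent.Lib.Helper15.PSf
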