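import Mathlib
import Cfsg.Agent.Lib.Helper15.PSf3

/-!
# Elements of order `r` with `r ∤ q - 1` not conjugate into the subfield subgroup
-/

set_option autoImplicit false

namespace Cfsg.Agent.Lib.Helper15.PSf

open Module Submodule Polynomial Cfsg.Agent.Lib.Helper15.PSub Cfsg.Agent.Lib.Helper15.PInv
  Cfsg.Agent.Lib.Helper13 Cfsg.Agent.Lib.Helper15.PSubf Cfsg.Agent.Lib.Helper15.PJor

section descent

variable {F : Type*} [Field F] [Finite F] {n : ℕ}

/-- the kernel of a matrix over `F₀` does not grow (in dimension) over `F` -/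
theorem finrank_ker_map_le (F₀ : Subfield F) (M : Matrix (Fin n) (Fin n) F₀) :
    finrank F (LinearMap.ker (Matrix.toLin' (M.map F₀.subtype))) ≤
      finrank F₀ (LinearMap.ker (Matrix.toLin' M)) := by
  classical
  obtain ⟨K₀, hK₀⟩ : ∃ K₀ : Submodule F₀ (Fin n → F₀), K₀ = LinearMap.ker (Matrix.toLin' M) :=
    ⟨_, rfl⟩
  rw [← hK₀]
  let b₀ := Module.finBasis F₀ K₀
  obtain ⟨w, hw⟩ : ∃ w : Fin (finrank F₀ K₀) → (Fin n → F),
      w = fun j => rvec F₀ ((b₀ j : K₀) : Fin n → F₀) := ⟨_, rfl⟩
  obtain ⟨K', hK'⟩ : ∃ K' : Submodule F (Fin n → F), K' = span F (Set.range w) := ⟨_, rfl⟩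
  have hK'le : finrank F K' ≤ finrank F₀ K₀ := by
    rw [hK']
    have := finrank_range_le_card (R := F) w
    rwa [Fintype.card_fin] at this
  -- every rational kernel vector lies in `K'`
  have hrat : ∀ u : Fin n → F₀, u ∈ K₀ → rvec F₀ u ∈ K' := by
    intro u hu
    have h1 := b₀.sum_repr ⟨u, hu⟩
    have h2 : u = ∑ j, (b₀.repr ⟨u, hu⟩ j) • ((b₀ j : K₀) : Fin n → F₀) := by
      have h3 := congrArg (fun t : K₀ => (t : Fin n → F₀)) h1
      simp only [Submodule.coe_sum, Submodule.coe_smul] at h3
      exact h3.symm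
    have h4 : rvec F₀ u = ∑ j, ((b₀.repr ⟨u, hu⟩ j : F₀) : F) • w j := by
      conv_lhs => rw [h2]
      funext i
      simp only [rvec, hw, Finset.sum_apply, Pi.smul_apply, smul_eq_mul]
      push_cast
      rfl
    rw [h4, hK']
    apply Submodule.sum_mem
    intro j _
    exact Submodule.smul_mem _ _ (Submodule.subset_span ⟨j, rfl⟩)
  have hle : LinearMap.ker (Matrix.toLin' (M.map F₀.subtype)) ≤ K' := by
    intro v hv
    rw [LinearMap.mem_ker, Matrix.toLin'_apply] at hv
    let θ := Module.finBasis F₀ F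
    have hvt : ∀ t, (fun i => θ.coord t (v i)) ∈ K₀ := by
      intro t
      rw [hK₀, LinearMap.mem_ker, Matrix.toLin'_apply, ← retraction_mulVec F₀ (θ.coord t) M v, hv]
      funext i
      simp
    have h5 : v = ∑ t, (θ t) • rvec F₀ (fun i => θ.coord t (v i)) := by
      funext i
      simp only [Finset.sum_apply, Pi.smul_apply, rvec, smul_eq_mul]
      have h6 := θ.sum_repr (v i)
      conv_lhs => rw [← h6]
      apply Finset.sum_congr rfl
      intro t _
      rw [mul_comm]
      rfl
    rw [h5]
    apply Submodule.sum_mem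
    intro t _
    exact Submodule.smul_mem _ _ (hrat _ (hvt t))
  exact le_trans (Submodule.finrank_mono hle) hK'le

end descent

section model

variable {F : Type*} [Field F]

/-- an element of order `r` with one nontrivial block and fixed space of dimension exactly `k` -/
theorem exists_order_r_exact (r : ℕ) [hr : Fact r.Prime] (hr0 : (r : F) ≠ 0) (P : F[X])
    (hP : Irreducible P) (hPd : P ∣ cyclotomic r F) (s k n : ℕ) (hn : n = s * P.natDegree + k) :
    ∃ y : (Fin n → F) →ₗ[F] (Fin n → F), y ^ r = 1 ∧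
      finrank F (Module.End.eigenspace y 1) ≤ k ∧ k ≤ finrank F (Module.End.eigenspace y 1) := by
  have : Fact (Irreducible P) := ⟨hP⟩
  obtain ⟨y, e, hy⟩ := exists_model P s k n hn
  have hroot : AdjoinRoot.root P ^ r = 1 := by
    have h1 : P ∣ X ^ r - 1 := by
      rw [← cyclotomic_prime_mul_X_sub_one F r]
      exact Dvd.dvd.mul_right hPd _
    have h2 := AdjoinRoot.mk_eq_zero.mpr h1
    rw [map_sub, map_pow, AdjoinRoot.mk_X, map_one, sub_eq_zero] at h2
    exact h2
  have hroot1 : AdjoinRoot.root P - 1 ≠ 0 := by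
    intro h0
    have h1 : AdjoinRoot.mk P (X - 1) = 0 := by
      rw [map_sub, AdjoinRoot.mk_X, map_one]
      exact h0
    rw [AdjoinRoot.mk_eq_zero] at h1
    have h2 : (X - 1 : F[X]) ∣ cyclotomic r F := by
      have hirr : Irreducible (X - 1 : F[X]) := by
        have := irreducible_X_sub_C (1 : F)
        rwa [C_1] at this
      obtain ⟨g, hg⟩ := h1
      rcases hirr.isUnit_or_isUnit hg with h | h
      · exact absurd h hP.not_isUnit
      · obtain ⟨u, rfl⟩ := h
        have : (X - 1 : F[X]) * ↑u⁻¹ = P := by rw [hg, mul_assoc, Units.mul_inv, mul_one]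
        rw [← this] at hPd
        exact (Dvd.intro _ rfl).trans hPd
    have h3 : eval 1 (cyclotomic r F) = 0 := by
      obtain ⟨g, hg⟩ := h2
      rw [hg, eval_mul, eval_sub, eval_X, eval_one, sub_self, zero_mul]
    rw [eval_one_cyclotomic_prime] at h3
    exact hr0 h3
  refine ⟨y, ?_, ?_, ?_⟩
  · apply LinearMap.ext
    intro v
    apply e.injective
    rw [model_pow y e hy, hroot, one_smul, Module.End.one_apply]
  · have h1 : (Module.End.eigenspace y 1).map (e : (Fin n → F) →ₗ[F] _) ≤
        LinearMap.range (LinearMap.inr F (Fin s → AdjoinRoot P) (Fin k → F)) := by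
      rintro _ ⟨v, hv, rfl⟩
      rw [SetLike.mem_coe, Module.End.mem_eigenspace_iff, one_smul] at hv
      have h2 := hy v
      rw [hv] at h2
      have h3 : AdjoinRoot.root P • (e v).1 = (e v).1 := by
        have := congrArg Prod.fst h2
        exact this.symm
      have h4 : (AdjoinRoot.root P - 1) • (e v).1 = 0 := by
        rw [sub_smul, one_smul, h3, sub_self]
      have h5 : (e v).1 = 0 := (smul_eq_zero.mp h4).resolve_left hroot1
      refine ⟨(e v).2, ?_⟩
      rw [LinearMap.inr_apply]
      apply Prod.ext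
      · exact h5.symm
      · rfl
    have h2 := Submodule.finrank_mono h1
    rw [LinearEquiv.finrank_map_eq e, LinearMap.finrank_range_of_inj LinearMap.inr_injective,
      Module.finrank_fin_fun] at h2
    exact h2
  · have h1 : LinearMap.range ((e.symm : _ →ₗ[F] (Fin n → F)) ∘ₗ
        LinearMap.inr F (Fin s → AdjoinRoot P) (Fin k → F)) ≤ Module.End.eigenspace y 1 := by
      rintro _ ⟨w, rfl⟩
      rw [Module.End.mem_eigenspace_iff, one_smul]
      apply e.injective
      rw [hy]
      simp only [LinearMap.coe_comp, LinearEquiv.coe_coe, Function.comp_apply,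
        LinearEquiv.apply_symm_apply, LinearMap.inr_apply, smul_zero]
    have h2 := Submodule.finrank_mono h1
    have hinj : Function.Injective ((e.symm : _ →ₗ[F] (Fin n → F)) ∘ₗ
        LinearMap.inr F (Fin s → AdjoinRoot P) (Fin k → F)) := by
      rw [LinearMap.coe_comp]
      exact e.symm.injective.comp LinearMap.inr_injective
    rw [LinearMap.finrank_range_of_inj hinj, Module.finrank_fin_fun] at h2
    exact h2

end model

end Cfsg.Agent.Lib.Helper15.PSf
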