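import Mathlib
import Cfsg.Agent.Lib.Helper15.PSf4

/-!
# Elements of order `r` with `r ∤ q - 1` not conjugate into the subfield subgroup: main lemma
-/

set_option autoImplicit false

namespace Cfsg.Agent.Lib.Helper15.PSf

open Module Submodule Polynomial Cfsg.Agent.Lib.Helper15.PSub Cfsg.Agent.Lib.Helper15.PInv
  Cfsg.Agent.Lib.Helper13 Cfsg.Agent.Lib.Helper15.PSubf Cfsg.Agent.Lib.Helper15.PJor

section bad

variable {F : Type*} [Field F] [Fintype F]

theorem eigenspace_one_eq_ker {K : Type*} [Field K] {n : ℕ} (M : Matrix (Fin n) (Fin n) K) :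
    Module.End.eigenspace (Matrix.toLin' M) 1 = LinearMap.ker (Matrix.toLin' (M - 1)) := by
  ext v
  rw [Module.End.mem_eigenspace_iff, LinearMap.mem_ker, one_smul, map_sub, LinearMap.sub_apply,
    Matrix.toLin'_one, LinearMap.id_apply, sub_eq_zero]

theorem bad_i2_subf (p : ℕ) [Fact p.Prime] [CharP F p] (F₀ : Subfield F) (k q₀ : ℕ) (hk : 2 ≤ k)
    (hF₀ : Nat.card ↥F₀ = q₀) (hqk : Fintype.card F = q₀ ^ k)
    (r : ℕ) [hr : Fact r.Prime] (hrp : r ≠ p) (hrq : ¬ r ∣ Fintype.card F - 1) (n : ℕ)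
    (hin : orderOf ((Fintype.card F : ℕ) : ZMod r) ≤ n)
    (hi₀ : orderOf ((q₀ : ℕ) : ZMod r) = k * orderOf ((Fintype.card F : ℕ) : ZMod r)) :
    ∃ x : Matrix.SpecialLinearGroup (Fin n) F,
      (∃ z : F, ((x ^ r : Matrix.SpecialLinearGroup (Fin n) F) : Matrix (Fin n) (Fin n) F) =
        z • (1 : Matrix (Fin n) (Fin n) F)) ∧
      (∀ z : F, (x : Matrix (Fin n) (Fin n) F) ≠ z • (1 : Matrix (Fin n) (Fin n) F)) ∧
      ∀ P : Matrix.SpecialLinearGroup (Fin n) F, P⁻¹ * x * P ∉
        ((Cfsg.Geo.subfieldSubgroup F₀ 1).comap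
          (Matrix.SpecialLinearGroup.toGL :
            Matrix.SpecialLinearGroup (Fin n) F →* GL (Fin n) F)) := by
  classical
  have : Fintype ↥F₀ := Fintype.ofFinite _
  have hF₀' : Fintype.card ↥F₀ = q₀ := by rw [← Nat.card_eq_fintype_card]; exact hF₀
  have hq₀2 := two_le_of_card F₀ q₀ hF₀
  obtain ⟨i, hi⟩ : ∃ i, i = orderOf ((Fintype.card F : ℕ) : ZMod r) := ⟨_, rfl⟩
  rw [← hi] at hin hi₀
  have hipos : 0 < i := by rw [hi]; exact orderOf_pos_of_ne p r hrp
  have hr0 : (r : F) ≠ 0 := ne_zero_of_ne p r hr.out hrp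
  have hn0 : n ≠ 0 := by omega
  have hnu : ¬ IsUnit (cyclotomic r F) := by
    intro hu
    have := natDegree_eq_zero_of_isUnit hu
    rw [natDegree_cyclotomic, Nat.totient_prime hr.out] at this
    have := hr.out.two_le
    omega
  obtain ⟨P, hP, hPd⟩ := WfDvdMonoid.exists_irreducible_factor hnu (cyclotomic_ne_zero r F)
  have hdeg : P.natDegree = i := by
    rw [hi]
    exact cyclotomic_factor_degree p r hr.out hrp P hP hPd
  obtain ⟨y, hy, hE1, hE2⟩ := exists_order_r_exact r hr0 P hP hPd 1 (n - i) n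
    (by rw [hdeg]; omega)
  have hdet : LinearMap.det y = 1 := by
    apply eq_one_of_pow_eq_one r hr.out hrq
    rw [← map_pow, hy, map_one]
  have hyns : ∀ z : F, y ≠ z • (1 : (Fin n → F) →ₗ[F] (Fin n → F)) := by
    intro z hz
    have hz1 : z = 1 := by
      apply eq_one_of_pow_eq_one r hr.out hrq
      have h1 := hy
      rw [hz, _root_.smul_pow, one_pow] at h1
      exact smul_one_injective n hn0 _ _ (by rw [h1, one_smul])
    rw [hz1, one_smul] at hz
    have h2 : Module.End.eigenspace y 1 = ⊤ := by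
      rw [eq_top_iff]
      intro v _
      rw [Module.End.mem_eigenspace_iff, hz, one_smul, Module.End.one_apply]
    rw [h2, finrank_top, Module.finrank_fin_fun] at hE1
    omega
  obtain ⟨x, hx⟩ : ∃ x : Matrix.SpecialLinearGroup (Fin n) F, x = toSL y hdet := ⟨_, rfl⟩
  have hxy : Matrix.toLin' (x : Matrix (Fin n) (Fin n) F) = y := by
    rw [hx]
    exact toLin'_toSL y hdet
  have hxr : ((x ^ r : Matrix.SpecialLinearGroup (Fin n) F) : Matrix (Fin n) (Fin n) F) =
      (1 : F) • (1 : Matrix (Fin n) (Fin n) F) := by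
    rw [pow_SL_iff, hxy, hy, one_smul]
  refine ⟨x, ⟨1, hxr⟩, ?_, ?_⟩
  · intro z hz
    rw [scalar_SL_iff, hxy] at hz
    exact hyns z hz
  · intro Pg hP'
    rw [Subgroup.mem_comap] at hP'
    obtain ⟨l, B, hlB⟩ := exists_eq_of_mem_subfieldSubgroup F₀ 1 _ hP'
    rw [inv_one, one_mul, mul_one] at hlB
    have h4 : ((Pg⁻¹ * x * Pg : Matrix.SpecialLinearGroup (Fin n) F) :
        Matrix (Fin n) (Fin n) F) = l • rmat F₀ B := hlB
    obtain ⟨xm, hxm⟩ : ∃ xm : Matrix (Fin n) (Fin n) F,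
        xm = (x : Matrix (Fin n) (Fin n) F) := ⟨_, rfl⟩
    obtain ⟨Pm, hPm⟩ : ∃ Pm : Matrix (Fin n) (Fin n) F,
        Pm = (Pg : Matrix (Fin n) (Fin n) F) := ⟨_, rfl⟩
    obtain ⟨Pi, hPi⟩ : ∃ Pi : Matrix (Fin n) (Fin n) F,
        Pi = ((Pg⁻¹ : Matrix.SpecialLinearGroup (Fin n) F) : Matrix (Fin n) (Fin n) F) :=
      ⟨_, rfl⟩
    have hPmPi : Pm * Pi = 1 := by
      rw [hPm, hPi, ← Matrix.SpecialLinearGroup.coe_mul, mul_inv_cancel,
        Matrix.SpecialLinearGroup.coe_one]
    have hPiPm : Pi * Pm = 1 := by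
      rw [hPm, hPi, ← Matrix.SpecialLinearGroup.coe_mul, inv_mul_cancel,
        Matrix.SpecialLinearGroup.coe_one]
    have h5 : xm * Pm = Pm * (l • rmat F₀ B) := by
      rw [← h4, Matrix.SpecialLinearGroup.coe_mul, Matrix.SpecialLinearGroup.coe_mul,
        ← hPi, ← hPm, ← hxm, ← Matrix.mul_assoc, ← Matrix.mul_assoc, hPmPi, Matrix.one_mul]
    have hxmr : xm ^ r = 1 := by
      rw [hxm, ← Matrix.SpecialLinearGroup.coe_pow, hxr, one_smul]
    -- `(l • rmat B)^r = 1`
    have hN : (l • rmat F₀ B) ^ r = 1 := by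
      have h6 : SemiconjBy Pm (l • rmat F₀ B) xm := h5.symm
      have h7 := h6.pow_right r
      have h8 : Pm * (l • rmat F₀ B) ^ r = xm ^ r * Pm := h7
      rw [hxmr, Matrix.one_mul] at h8
      calc (l • rmat F₀ B) ^ r = Pi * (Pm * (l • rmat F₀ B) ^ r) := by
            rw [← Matrix.mul_assoc, hPiPm, Matrix.one_mul]
        _ = 1 := by rw [h8, hPiPm]
    have hN' : l ^ r • (B ^ r).map F₀.subtype = 1 := by
      rw [Matrix.map_pow, ← _root_.smul_pow]
      exact hN
    let j0 : Fin n := ⟨0, Nat.pos_of_ne_zero hn0⟩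
    obtain ⟨β, hβ⟩ : ∃ β : F₀, β = (B ^ r) j0 j0 := ⟨_, rfl⟩
    have hβ1 : l ^ r * (β : F) = 1 := by
      have h9 := congrFun (congrFun hN' j0) j0
      rw [Matrix.smul_apply, Matrix.map_apply, Matrix.one_apply_eq, smul_eq_mul] at h9
      rw [hβ]
      exact h9
    have hβ0 : β ≠ 0 := by
      rintro rfl
      rw [ZeroMemClass.coe_zero, mul_zero] at hβ1
      exact zero_ne_one hβ1
    have hrq₀ : ¬ r ∣ Fintype.card ↥F₀ - 1 := by
      rw [hF₀']
      intro h
      apply hrq
      rw [hqk]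
      have h3 : q₀ - 1 ∣ q₀ ^ k - 1 := by
        have := Nat.sub_dvd_pow_sub_pow q₀ 1 k
        rwa [one_pow] at this
      exact dvd_trans h h3
    obtain ⟨b, hb0, hb⟩ := exists_pow_eq_of_not_dvd (F := ↥F₀) r hr.out hrq₀ β⁻¹
      (inv_ne_zero hβ0)
    have hb0' : (b : F) ≠ 0 := fun h => hb0 (Subtype.ext h)
    have hb' : (b : F) ^ r = (β : F)⁻¹ := by
      have := congrArg (fun t : ↥F₀ => (t : F)) hb
      simpa using this
    have hlb : l = (b : F) := by
      have h10 : (l * (b : F)⁻¹) ^ r = 1 := by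
        rw [mul_pow, inv_pow, hb', inv_inv]
        exact hβ1
      have h11 := eq_one_of_pow_eq_one r hr.out hrq _ h10
      field_simp at h11
      exact h11
    obtain ⟨B', hB'⟩ : ∃ B' : Matrix (Fin n) (Fin n) F₀, B' = b • B := ⟨_, rfl⟩
    have hrB' : rmat F₀ B' = l • rmat F₀ B := by
      rw [hB', hlb]
      ext i j
      simp [rmat, Matrix.map_apply, Matrix.smul_apply]
    rw [← hrB'] at h5 hN
    have hB'r : B' ^ r = 1 := by
      apply Matrix.map_injective (f := (F₀.subtype : ↥F₀ → F)) F₀.subtype_injective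
      show (B' ^ r).map (F₀.subtype : ↥F₀ → F) = (1 : Matrix (Fin n) (Fin n) ↥F₀).map F₀.subtype
      rw [Matrix.map_pow]
      have h12 : (1 : Matrix (Fin n) (Fin n) ↥F₀).map (F₀.subtype : ↥F₀ → F) = 1 :=
        Matrix.map_one _ (map_zero _) (map_one _)
      rw [h12]
      exact hN
    have hf₀ : (Matrix.toLin' B') ^ r = 1 := by
      rw [← toLin'_pow', hB'r, Matrix.toLin'_one]
      rfl
    obtain ⟨s, hs⟩ := exists_structure (F := ↥F₀) p r hrp (Matrix.toLin' B') hf₀
    rw [Module.finrank_fin_fun, hF₀', hi₀, eigenspace_one_eq_ker] at hs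
    have hdesc := finrank_ker_map_le F₀ (B' - 1)
    have h13 : (B' - 1).map (F₀.subtype : ↥F₀ → F) = rmat F₀ B' - 1 := by
      rw [Matrix.map_sub (f := (F₀.subtype : ↥F₀ → F)) (fun a b => map_sub F₀.subtype a b),
        Matrix.map_one _ (map_zero _) (map_one _)]
      rfl
    rw [h13, ← eigenspace_one_eq_ker] at hdesc
    -- compare with the fixed space of `y`
    have hinj : Function.Injective (Matrix.toLin' Pi) := by
      apply Function.LeftInverse.injective (g := Matrix.toLin' Pm)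
      intro v
      rw [← LinearMap.comp_apply, ← Matrix.toLin'_mul, hPmPi, Matrix.toLin'_one,
        LinearMap.id_apply]
    have hmap : (Module.End.eigenspace y 1).map (Matrix.toLin' Pi) ≤
        Module.End.eigenspace (Matrix.toLin' (rmat F₀ B')) 1 := by
      rintro _ ⟨v, hv, rfl⟩
      rw [SetLike.mem_coe, Module.End.mem_eigenspace_iff, one_smul, ← hxy] at hv
      rw [Module.End.mem_eigenspace_iff, one_smul, ← LinearMap.comp_apply, ← Matrix.toLin'_mul]
      have h14 : rmat F₀ B' * Pi = Pi * xm := by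
        calc rmat F₀ B' * Pi = Pi * (Pm * rmat F₀ B') * Pi := by
              rw [← Matrix.mul_assoc, hPiPm, Matrix.one_mul]
          _ = Pi * xm := by
              rw [← h5, Matrix.mul_assoc, Matrix.mul_assoc, hPmPi, Matrix.mul_one]
      rw [h14, Matrix.toLin'_mul, LinearMap.comp_apply, hxm, hv]
    have h15 := Submodule.finrank_mono hmap
    rw [← LinearEquiv.finrank_eq
      (Submodule.equivMapOfInjective (Matrix.toLin' Pi) hinj (Module.End.eigenspace y 1))] at h15
    -- numerics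
    have hs0 : s = 0 := by
      by_contra hs0
      have h16 : k * i ≤ s * (k * i) := Nat.le_mul_of_pos_left _ (Nat.pos_of_ne_zero hs0)
      have h17 : 2 * i ≤ k * i := Nat.mul_le_mul_right _ hk
      omega
    rw [hs0, zero_mul, add_zero] at hs
    have h18 : LinearMap.ker (Matrix.toLin' (B' - 1)) = ⊤ := by
      apply Submodule.eq_top_of_finrank_eq
      rw [← hs, Module.finrank_fin_fun]
    have h19 : Matrix.toLin' (B' - 1) = 0 := LinearMap.ker_eq_top.mp h18
    have h20 : B' - 1 = 0 := by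
      apply Matrix.toLin'.injective
      rw [h19, map_zero]
    have h21 : B' = 1 := sub_eq_zero.mp h20
    have h22 : rmat F₀ B' = 1 := by
      rw [h21]
      exact Matrix.map_one _ (map_zero _) (map_one _)
    rw [h22, Matrix.mul_one] at h5
    have h23 : xm = 1 := by
      calc xm = xm * Pm * Pi := by rw [Matrix.mul_assoc, hPmPi, Matrix.mul_one]
        _ = 1 := by rw [h5, hPmPi]
    apply hyns 1
    rw [← hxy, ← hxm, h23, Matrix.toLin'_one, one_smul]
    rfl

end bad

end Cfsg.Agent.Lib.Helper15.PSf
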