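import Mathlib
import Cfsg.Agent.Lib.Helper15.PSf5

/-!
# Rational bases for elements of order `r` when `q ≡ q₀ (mod r)`
-/

set_option autoImplicit false

namespace Cfsg.Agent.Lib.Helper15.PSf

open Module Submodule Polynomial Cfsg.Agent.Lib.Helper15.PSub Cfsg.Agent.Lib.Helper15.PInv
  Cfsg.Agent.Lib.Helper13 Cfsg.Agent.Lib.Helper15.PSubf Cfsg.Agent.Lib.Helper15.PJor

section caseA

variable {F : Type*} [Field F] [Fintype F] {V : Type*} [AddCommGroup V] [Module F V]

/-- the irreducible factors of `X^r - 1` over `F` are defined over `F₀` when `q₀` and `q` have the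
same order modulo `r` -/
theorem rational_factor (p : ℕ) [Fact p.Prime] [CharP F p] (F₀ : Subfield F) (q₀ : ℕ)
    (hF₀ : Nat.card ↥F₀ = q₀) (r : ℕ) (hr : r.Prime) (hrp : r ≠ p)
    (hord : orderOf ((q₀ : ℕ) : ZMod r) = orderOf ((Fintype.card F : ℕ) : ZMod r))
    (P : F[X]) (hP : Irreducible P) (hPd : P ∣ X ^ r - 1) :
    ∃ P₀ : (↥F₀)[X], P₀.Monic ∧ P₀.map F₀.subtype = P * C P.leadingCoeff⁻¹ := by
  classical
  have : Fintype ↥F₀ := Fintype.ofFinite _
  have hF₀' : Fintype.card ↥F₀ = q₀ := by rw [← Nat.card_eq_fintype_card]; exact hF₀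
  have hP0 : P ≠ 0 := hP.ne_zero
  have hlc : P.leadingCoeff ≠ 0 := leadingCoeff_ne_zero.mpr hP0
  have hP1mon : (P * C P.leadingCoeff⁻¹).Monic := monic_mul_leadingCoeff_inv hP0
  have hP1deg : (P * C P.leadingCoeff⁻¹).natDegree = P.natDegree :=
    natDegree_mul_leadingCoeff_inv P hP0
  have hP1dvd : P * C P.leadingCoeff⁻¹ ∣ P := by
    refine Dvd.intro (C P.leadingCoeff) ?_
    rw [mul_assoc, ← C_mul, inv_mul_cancel₀ hlc, C_1, mul_one]
  have hprime : Prime P := hP.prime
  have hrf : Fact r.Prime := ⟨hr⟩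
  rw [← cyclotomic_prime_mul_X_sub_one F r] at hPd
  rcases hprime.dvd_or_dvd hPd with h1 | h1
  · -- `P ∣ cyclotomic`
    rw [← map_cyclotomic r (F₀.subtype : ↥F₀ →+* F)] at h1
    have hc0 : cyclotomic r ↥F₀ ≠ 0 := cyclotomic_ne_zero r _
    have hprod := UniqueFactorizationMonoid.factors_prod hc0
    have h2 : P ∣ ((UniqueFactorizationMonoid.factors (cyclotomic r ↥F₀)).map
        (Polynomial.map (F₀.subtype : ↥F₀ →+* F))).prod := by
      rw [← Polynomial.map_multiset_prod]
      exact dvd_trans h1 (Polynomial.map_dvd _ hprod.symm.dvd)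
    obtain ⟨P₀', hmem, hdvd⟩ := Prime.exists_mem_multiset_map_dvd hprime h2
    have hirr₀ : Irreducible P₀' := UniqueFactorizationMonoid.irreducible_of_factor _ hmem
    have hdvd₀ : P₀' ∣ cyclotomic r ↥F₀ := UniqueFactorizationMonoid.dvd_of_mem_factors hmem
    have hdeg₀ : P₀'.natDegree = orderOf ((Fintype.card ↥F₀ : ℕ) : ZMod r) :=
      cyclotomic_factor_degree p r hr hrp P₀' hirr₀ hdvd₀
    have hdegP : P.natDegree = orderOf ((Fintype.card F : ℕ) : ZMod r) :=
      cyclotomic_factor_degree p r hr hrp P hP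
        (by rw [map_cyclotomic] at h1; exact h1)
    have hP₀0 : P₀' ≠ 0 := hirr₀.ne_zero
    refine ⟨P₀' * C P₀'.leadingCoeff⁻¹, monic_mul_leadingCoeff_inv hP₀0, ?_⟩
    have hmon' : ((P₀' * C P₀'.leadingCoeff⁻¹).map (F₀.subtype : ↥F₀ →+* F)).Monic :=
      (monic_mul_leadingCoeff_inv hP₀0).map _
    have hdvd' : P * C P.leadingCoeff⁻¹ ∣
        (P₀' * C P₀'.leadingCoeff⁻¹).map (F₀.subtype : ↥F₀ →+* F) := by
      apply dvd_trans hP1dvd
      apply dvd_trans hdvd
      exact Polynomial.map_dvd _ (Dvd.intro _ rfl)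
    apply eq_of_monic_of_dvd_of_natDegree_le hP1mon hmon' hdvd'
    rw [hP1deg, natDegree_map, natDegree_mul_leadingCoeff_inv P₀' hP₀0, hdeg₀, hdegP, hF₀', hord]
  · -- `P ∣ X - 1`
    refine ⟨X - C 1, monic_X_sub_C 1, ?_⟩
    have h2 : (X - C (1 : ↥F₀)).map (F₀.subtype : ↥F₀ →+* F) = X - 1 := by
      rw [Polynomial.map_sub, Polynomial.map_X, Polynomial.map_C, map_one, C_1]
    rw [h2]
    have hmon' : (X - 1 : F[X]).Monic := by
      have := monic_X_sub_C (1 : F)
      rwa [C_1] at this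
    apply eq_of_monic_of_dvd_of_natDegree_le hP1mon hmon' (dvd_trans hP1dvd h1)
    rw [hP1deg]
    have h3 : (X - 1 : F[X]).natDegree = 1 := by
      have := natDegree_X_sub_C (1 : F)
      rwa [C_1] at this
    rw [h3]
    exact hP.natDegree_pos

omit [Fintype F] in
/-- a cyclic subspace for a rational irreducible polynomial has a rational basis -/
theorem cyc_RB (F₀ : Subfield F) (f : V →ₗ[F] V) (P₀ : (↥F₀)[X]) (hmon : P₀.Monic)
    (hirr : Irreducible (P₀.map F₀.subtype)) (v : V) (hv : v ≠ 0)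
    (hPv : aeval f (P₀.map F₀.subtype) v = 0) :
    ∃ W' : Submodule F V, W' ∈ Module.End.invtSubmodule f ∧ finrank F W' = P₀.natDegree ∧
      (∀ W : Submodule F V, W ∈ Module.End.invtSubmodule f → v ∈ W → W' ≤ W) ∧
      RB F₀ f 1 W' (Fin P₀.natDegree) := by
  classical
  obtain ⟨d, hd⟩ : ∃ d, d = P₀.natDegree := ⟨_, rfl⟩
  obtain ⟨P, hPdef⟩ : ∃ P : F[X], P = P₀.map F₀.subtype := ⟨_, rfl⟩
  rw [← hPdef] at hirr hPv
  have hPmon : P.Monic := by rw [hPdef]; exact hmon.map _
  have hPdeg : P.natDegree = d := by rw [hPdef, natDegree_map, hd]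
  have hdpos : 0 < d := by rw [← hPdeg]; exact hirr.natDegree_pos
  obtain ⟨W', hW'inv, hvW', hfr, hmin⟩ := exists_cyclic f P hirr v hv hPv
  rw [hPdeg] at hfr
  obtain ⟨e, he⟩ : ∃ e : Fin d → V, e = fun j : Fin d => (f ^ (j : ℕ)) v := ⟨_, rfl⟩
  -- the top relation
  have htop : (f ^ d) v = - ∑ i : Fin d, ((P₀.coeff (i : ℕ) : ↥F₀) : F) • e i := by
    have h1 := hPmon.as_sum
    rw [hPdeg] at h1
    rw [h1] at hPv
    simp only [map_add, map_sum, map_mul, map_pow, aeval_X, aeval_C, LinearMap.add_apply,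
      LinearMap.sum_apply, Module.End.mul_apply, Module.algebraMap_end_apply] at hPv
    rw [Finset.sum_range] at hPv
    rw [eq_neg_iff_add_eq_zero, ← hPv]
    congr 1
    apply Finset.sum_congr rfl
    intro i _
    rw [he, hPdef, coeff_map]
    rfl
  obtain ⟨S, hS⟩ : ∃ S : Submodule F V, S = span F (Set.range e) := ⟨_, rfl⟩
  have heS : ∀ j, e j ∈ S := fun j => by rw [hS]; exact subset_span ⟨j, rfl⟩
  have hstep : ∀ j : Fin d, (h : (j : ℕ) + 1 < d) → f (e j) = e ⟨(j : ℕ) + 1, h⟩ := by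
    intro j h
    rw [he]
    simp only
    rw [pow_succ', Module.End.mul_apply]
  have hlast : ∀ j : Fin d, ¬ (j : ℕ) + 1 < d → f (e j) = (f ^ d) v := by
    intro j h
    have hj : (j : ℕ) + 1 = d := by have := j.2; omega
    rw [he]
    simp only
    have h2 : (f ^ d) v = (f ^ ((j : ℕ) + 1)) v := by rw [hj]
    rw [h2, pow_succ', Module.End.mul_apply]
  have hSinv : S ∈ Module.End.invtSubmodule f := by
    rw [Module.End.mem_invtSubmodule, ← Submodule.map_le_iff_le_comap, hS, Submodule.map_span_le]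
    rintro _ ⟨j, rfl⟩
    rw [← hS]
    by_cases h : (j : ℕ) + 1 < d
    · rw [hstep j h]
      exact heS _
    · rw [hlast j h, htop]
      apply Submodule.neg_mem
      apply Submodule.sum_mem
      intro i _
      exact Submodule.smul_mem _ _ (heS i)
  have hvS : v ∈ S := by
    have := heS ⟨0, hdpos⟩
    rw [he] at this
    simpa using this
  have hSW' : S = W' := by
    apply le_antisymm
    · rw [hS, span_le]
      rintro _ ⟨j, rfl⟩
      rw [he]
      exact pow_mem_of_invt f hW'inv _ hvW'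
    · exact hmin S hSinv hvS
  have hLI : LinearIndependent F e := by
    rw [linearIndependent_iff_card_eq_finrank_span, Fintype.card_fin]
    show d = finrank F (span F (Set.range e))
    rw [← hS, hSW', hfr]
  rw [← hd]
  refine ⟨W', hW'inv, hfr, hmin, e,
    fun i j => if (j : ℕ) + 1 < d then (if (i : ℕ) = (j : ℕ) + 1 then 1 else 0)
      else - P₀.coeff (i : ℕ), hLI, ?_, ?_⟩
  · rw [← hS, hSW']
  · intro j
    rw [one_smul]
    by_cases h : (j : ℕ) + 1 < d
    · rw [hstep j h]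
      simp only [if_pos h]
      rw [Finset.sum_eq_single (⟨(j : ℕ) + 1, h⟩ : Fin d)]
      · simp
      · intro i _ hi
        have : (i : ℕ) ≠ (j : ℕ) + 1 := fun h' => hi (Fin.ext h')
        rw [if_neg this, ZeroMemClass.coe_zero, zero_smul]
      · intro h'
        exact absurd (Finset.mem_univ _) h'
    · rw [hlast j h, htop]
      simp only [if_neg h]
      rw [← Finset.sum_neg_distrib]
      apply Finset.sum_congr rfl
      intro i _
      rw [NegMemClass.coe_neg, neg_smul]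

/-- rational bases of all invariant subspaces -/
theorem RB_of_invt_A [FiniteDimensional F V] (p : ℕ) [Fact p.Prime] [CharP F p] (F₀ : Subfield F)
    (q₀ : ℕ) (hF₀ : Nat.card ↥F₀ = q₀) (r : ℕ) [hr : Fact r.Prime] (hrp : r ≠ p)
    (hord : orderOf ((q₀ : ℕ) : ZMod r) = orderOf ((Fintype.card F : ℕ) : ZMod r))
    (u : V →ₗ[F] V) (hu : u ^ r = 1) :
    ∀ (m : ℕ) (W : Submodule F V), W ∈ Module.End.invtSubmodule u → finrank F W = m →
      ∃ (κ : Type) (_ : Fintype κ), Fintype.card κ = m ∧ RB F₀ u 1 W κ := by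
  classical
  have hr0 : (r : F) ≠ 0 := ne_zero_of_ne p r hr.out hrp
  have hss : Module.End.IsSemisimple u :=
    isSemisimple_of_pow_eq_smul u r hr0 1 one_ne_zero (by rw [hu, one_smul])
  have hQ0 : (X ^ r - 1 : F[X]) ≠ 0 := by
    have := X_pow_sub_C_ne_zero hr.out.pos (1 : F)
    rwa [C_1] at this
  have hQu : aeval u (X ^ r - 1 : F[X]) = 0 := by
    have := aeval_X_pow_sub_C u r 1 (by rw [hu, one_smul])
    rwa [C_1] at this
  intro m
  induction m using Nat.strong_induction_on with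
  | _ m ih =>
    intro W hWinv hWm
    by_cases hW : W = ⊥
    · refine ⟨Empty, inferInstance, ?_, (RB.empty F₀ u 1).congr hW.symm⟩
      rw [← hWm, hW, finrank_bot]
      rfl
    · obtain ⟨w, hwW, hw0⟩ := Submodule.exists_mem_ne_zero_of_ne_bot hW
      obtain ⟨P, hP, hPd, v, hv0, hPv, hvin⟩ :=
        exists_irreducible_killer u (X ^ r - 1) hQ0 w hw0 (by rw [hQu, LinearMap.zero_apply])
      have hvW : v ∈ W := hvin W hWinv hwW
      obtain ⟨P₀, hmon, hmap⟩ := rational_factor p F₀ q₀ hF₀ r hr.out hrp hord P hP hPd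
      have hlc : P.leadingCoeff ≠ 0 := leadingCoeff_ne_zero.mpr hP.ne_zero
      have hirr' : Irreducible (P₀.map F₀.subtype) := by
        rw [hmap]
        exact (associated_mul_unit_right P _
          (isUnit_C.mpr (isUnit_iff_ne_zero.mpr (inv_ne_zero hlc)))).irreducible hP
      have hPv' : aeval u (P₀.map F₀.subtype) v = 0 := by
        rw [hmap, mul_comm, aeval_mul_apply, hPv, map_zero]
      obtain ⟨W', hW'inv, hfr, hmin, hRB⟩ := cyc_RB F₀ u P₀ hmon hirr' v hv0 hPv'
      have hle : W' ≤ W := hmin W hWinv hvW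
      obtain ⟨W'', hW''le, hW''inv, hinf, hsup, hdim⟩ :=
        exists_compl_in u hss W W' hWinv hW'inv hle
      have hdpos : 0 < P₀.natDegree := by
        have := hirr'.natDegree_pos
        rwa [natDegree_map] at this
      have hlt : finrank F W'' < m := by omega
      obtain ⟨κ'', hκ'', hcard, hRB''⟩ := ih _ hlt W'' hW''inv rfl
      refine ⟨Fin P₀.natDegree ⊕ κ'', inferInstance, ?_,
        (hRB.series hRB'' (disjoint_iff.mpr hinf)).congr hsup⟩
      rw [Fintype.card_sum, Fintype.card_fin, hcard]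
      omega

end caseA

end Cfsg.Agent.Lib.Helper15.PSf
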