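import Mathlib
import Cfsg.Agent.Lib.Helper15.PSf6

/-!
# Rational bases from eigenbases with a Frobenius-stable multiset of eigenvalues (`k = 2`)
-/

set_option autoImplicit false

namespace Cfsg.Agent.Lib.Helper15.PSf

open Module Submodule Polynomial Cfsg.Agent.Lib.Helper15.PSub Cfsg.Agent.Lib.Helper15.PInv
  Cfsg.Agent.Lib.Helper13 Cfsg.Agent.Lib.Helper15.PSubf Cfsg.Agent.Lib.Helper15.PJor

section fixed

variable {F : Type*} [Field F] [Fintype F]

/-- elements fixed by `a ↦ a^q₀` lie in `F₀` -/
theorem mem_of_pow_card_eq (F₀ : Subfield F) (q₀ : ℕ) (hF₀ : Nat.card ↥F₀ = q₀) (a : F)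
    (ha : a ^ q₀ = a) : ∃ s : F₀, (s : F) = a := by
  classical
  have : Fintype ↥F₀ := Fintype.ofFinite _
  have hF₀' : Fintype.card ↥F₀ = q₀ := by rw [← Nat.card_eq_fintype_card]; exact hF₀
  have hq₀2 := two_le_of_card F₀ q₀ hF₀
  have h1 : (X ^ q₀ - X : (↥F₀)[X]).roots = Finset.univ.val := by
    rw [← hF₀']
    exact FiniteField.roots_X_pow_card_sub_X ↥F₀
  have hdeg : (X ^ q₀ - X : (↥F₀)[X]).natDegree = q₀ :=
    FiniteField.X_pow_card_sub_X_natDegree_eq ↥F₀ (by omega)
  have h2 : (X ^ q₀ - X : (↥F₀)[X]).roots.card = (X ^ q₀ - X : (↥F₀)[X]).natDegree := by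
    rw [h1, hdeg, Finset.card_val, Finset.card_univ, hF₀']
  have h3 := Polynomial.roots_map_of_injective_of_card_eq_natDegree
    (f := (F₀.subtype : ↥F₀ →+* F)) F₀.subtype_injective h2
  have h4 : (X ^ q₀ - X : (↥F₀)[X]).map (F₀.subtype : ↥F₀ →+* F) = X ^ q₀ - X := by
    rw [Polynomial.map_sub, Polynomial.map_pow, Polynomial.map_X]
  rw [h4, h1] at h3
  have h5 : a ∈ (X ^ q₀ - X : F[X]).roots := by
    rw [Polynomial.mem_roots (FiniteField.X_pow_card_sub_X_ne_zero F (by omega)),
      Polynomial.IsRoot.def, eval_sub, eval_pow, eval_X, ha, sub_self]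
  rw [← h3, Multiset.mem_map] at h5
  obtain ⟨s, _, hs⟩ := h5
  exact ⟨s, hs⟩

end fixed

section pair

variable {F : Type*} [Field F] {V : Type*} [AddCommGroup V] [Module F V]

/-- two eigenvectors with conjugate eigenvalues span a rational plane -/
theorem pair_RB (F₀ : Subfield F) (X : V →ₗ[F] V) (l a a' : F) (T N : F₀)
    (hT : a + a' = (T : F)) (hN : a * a' = (N : F)) (hne : a ≠ a') (e₁ e₂ : V)
    (hLI : LinearIndependent F ![e₁, e₂]) (h₁ : X e₁ = (l * a) • e₁)
    (h₂ : X e₂ = (l * a') • e₂) : RB F₀ X l (span F {e₁, e₂}) (Fin 2) := by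
  classical
  have hLI' := LinearIndependent.pair_iff.mp hLI
  have hbLI : LinearIndependent F ![e₁ + e₂, a • e₁ + a' • e₂] := by
    rw [LinearIndependent.pair_iff]
    intro s t hst
    have h3 : (s + t * a) • e₁ + (s + t * a') • e₂ = 0 := by
      rw [← hst]
      module
    obtain ⟨h4, h5⟩ := hLI' _ _ h3
    have h6 : t * (a - a') = 0 := by linear_combination h4 - h5
    have h7 : t = 0 := by
      rcases mul_eq_zero.mp h6 with h | h
      · exact h
      · exact absurd (sub_eq_zero.mp h) hne
    rw [h7, zero_mul, add_zero] at h4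
    exact ⟨h4, h7⟩
  have hspan : span F (Set.range ![e₁ + e₂, a • e₁ + a' • e₂]) = span F {e₁, e₂} := by
    have hle : span F (Set.range ![e₁ + e₂, a • e₁ + a' • e₂]) ≤ span F {e₁, e₂} := by
      rw [span_le]
      rintro _ ⟨i, rfl⟩
      have he₁ : e₁ ∈ span F ({e₁, e₂} : Set V) := subset_span (by simp)
      have he₂ : e₂ ∈ span F ({e₁, e₂} : Set V) := subset_span (by simp)
      fin_cases i
      · exact Submodule.add_mem _ he₁ he₂
      · exact Submodule.add_mem _ (Submodule.smul_mem _ _ he₁) (Submodule.smul_mem _ _ he₂)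
    have hfd : FiniteDimensional F (span F ({e₁, e₂} : Set V)) :=
      FiniteDimensional.span_of_finite F (Set.toFinite _)
    apply Submodule.eq_of_le_of_finrank_eq hle
    have h8 := finrank_span_eq_card hbLI
    have h9 := finrank_span_eq_card hLI
    have h10 : Set.range ![e₁, e₂] = ({e₁, e₂} : Set V) := by
      rw [Matrix.range_cons, Matrix.range_cons, Matrix.range_empty]
      simp only [Set.union_empty, Set.union_singleton]
      exact Set.pair_comm _ _
    rw [h10] at h9
    rw [h8, h9]
  refine ⟨![e₁ + e₂, a • e₁ + a' • e₂], !![0, -N; 1, T], hbLI, hspan, ?_⟩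
  intro j
  rw [Fin.sum_univ_two]
  fin_cases j
  · simp only [Fin.zero_eta, Matrix.cons_val_zero, Matrix.of_apply, Matrix.cons_val', Matrix.cons_val_fin_one,
      Matrix.cons_val_one, ZeroMemClass.coe_zero, OneMemClass.coe_one, zero_smul, one_smul, zero_add, map_add, h₁, h₂]
    module
  · simp only [Fin.mk_one, Matrix.cons_val_zero, Matrix.of_apply, Matrix.cons_val', Matrix.cons_val_fin_one,
      Matrix.cons_val_one, NegMemClass.coe_neg, map_add, map_smul, h₁, h₂, ← hT, ← hN]
    module

end pair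

section eigen

variable {F : Type*} [Field F] [Fintype F] {V : Type*} [AddCommGroup V] [Module F V]

/-- an eigenbasis for an element of order `r` when `r ∣ q - 1` -/
theorem exists_eigenbasis [FiniteDimensional F V] (p : ℕ) [Fact p.Prime] [CharP F p] (r : ℕ)
    [hr : Fact r.Prime] (hrp : r ≠ p) (hrq : r ∣ Fintype.card F - 1)
    (u : V →ₗ[F] V) (hu : u ^ r = 1) :
    ∀ (m : ℕ) (W : Submodule F V), W ∈ Module.End.invtSubmodule u → finrank F W = m →
      ∃ (e : Fin m → V) (μ : Fin m → F), LinearIndependent F e ∧ span F (Set.range e) = W ∧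
        ∀ j, u (e j) = μ j • e j := by
  classical
  have hr0 : (r : F) ≠ 0 := ne_zero_of_ne p r hr.out hrp
  have hss : Module.End.IsSemisimple u :=
    isSemisimple_of_pow_eq_smul u r hr0 1 one_ne_zero (by rw [hu, one_smul])
  have hQ0 : (X ^ r - 1 : F[X]) ≠ 0 := by
    have := X_pow_sub_C_ne_zero hr.out.pos (1 : F)
    rwa [C_1] at this
  have hQu : aeval u (X ^ r - 1 : F[X]) = 0 := by
    have := aeval_X_pow_sub_C u r 1 (by rw [hu, one_smul])
    rwa [C_1] at this
  have hq1 : 1 ≤ Fintype.card F := Fintype.card_pos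
  have hord1 : orderOf ((Fintype.card F : ℕ) : ZMod r) = 1 :=
    (orderOf_zmod_eq_one_iff _ r hq1).mpr hrq
  intro m
  induction m with
  | zero =>
    intro W _ hWm
    have hW : W = ⊥ := Submodule.finrank_eq_zero.mp hWm
    refine ⟨fun j => j.elim0, fun j => j.elim0, linearIndependent_empty_type, ?_,
      fun j => j.elim0⟩
    rw [hW, Set.range_eq_empty, span_empty]
  | succ m ih =>
    intro W hWinv hWm
    have hW : W ≠ ⊥ := by
      intro h
      rw [h, finrank_bot] at hWm
      omega
    obtain ⟨w, hwW, hw0⟩ := Submodule.exists_mem_ne_zero_of_ne_bot hW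
    obtain ⟨P, hP, hPd, v, hv0, hPv, hvin⟩ :=
      exists_irreducible_killer u (X ^ r - 1) hQ0 w hw0 (by rw [hQu, LinearMap.zero_apply])
    have hvW : v ∈ W := hvin W hWinv hwW
    -- `P` has degree one
    have hdeg : P.natDegree = 1 := by
      rw [← cyclotomic_prime_mul_X_sub_one F r] at hPd
      rcases hP.prime.dvd_or_dvd hPd with h1 | h1
      · rw [cyclotomic_factor_degree p r hr.out hrp P hP h1, hord1]
      · have h2 := natDegree_le_of_dvd h1 (by
          have := X_sub_C_ne_zero (1 : F)
          rwa [C_1] at this)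
        have h3 : (X - 1 : F[X]).natDegree = 1 := by
          have := natDegree_X_sub_C (1 : F)
          rwa [C_1] at this
        have := hP.natDegree_pos
        omega
    have hPform := Polynomial.eq_X_add_C_of_natDegree_le_one (le_of_eq hdeg)
    have hc1 : P.coeff 1 ≠ 0 := by
      intro h
      rw [h, C_0, zero_mul, zero_add] at hPform
      rw [hPform, natDegree_C] at hdeg
      omega
    have huv : u v = (-(P.coeff 0) / P.coeff 1) • v := by
      rw [hPform] at hPv
      simp only [map_add, map_mul, aeval_C, aeval_X, LinearMap.add_apply, Module.End.mul_apply,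
        Module.algebraMap_end_apply] at hPv
      have h4 : P.coeff 1 • u v = -(P.coeff 0) • v := by
        rw [neg_smul, eq_neg_iff_add_eq_zero]
        exact hPv
      rw [div_eq_inv_mul, ← smul_smul, ← h4, smul_smul, inv_mul_cancel₀ hc1, one_smul]
    obtain ⟨μ₀, hμ₀⟩ : ∃ μ₀ : F, μ₀ = -(P.coeff 0) / P.coeff 1 := ⟨_, rfl⟩
    rw [← hμ₀] at huv
    have hW'inv : span F {v} ∈ Module.End.invtSubmodule u := by
      rw [Module.End.mem_invtSubmodule, ← Submodule.map_le_iff_le_comap, Submodule.map_span_le]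
      intro x hx
      rw [Set.mem_singleton_iff] at hx
      rw [hx, huv]
      exact Submodule.smul_mem _ _ (subset_span rfl)
    have hle : span F {v} ≤ W := by
      rw [span_le]
      intro x hx
      rw [Set.mem_singleton_iff] at hx
      rw [hx]
      exact hvW
    obtain ⟨W'', hW''le, hW''inv, hinf, hsup, hdim⟩ :=
      exists_compl_in u hss W (span F {v}) hWinv hW'inv hle
    rw [finrank_span_singleton hv0] at hdim
    obtain ⟨e'', μ'', hLI'', hsp'', hact''⟩ := ih W'' hW''inv (by omega)
    refine ⟨Fin.cons v e'', Fin.cons μ₀ μ'', ?_, ?_, ?_⟩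
    · rw [linearIndependent_finCons]
      refine ⟨hLI'', ?_⟩
      rw [hsp'']
      intro hv
      have h5 : v ∈ span F {v} ⊓ W'' := ⟨subset_span rfl, hv⟩
      rw [hinf] at h5
      exact hv0 ((Submodule.mem_bot F).mp h5)
    · rw [Fin.range_cons, span_insert, hsp'', hsup]
    · intro j
      refine Fin.cases ?_ (fun j' => ?_) j
      · rw [Fin.cons_zero, Fin.cons_zero]
        exact huv
      · rw [Fin.cons_succ, Fin.cons_succ]
        exact hact'' j'

end eigen

end Cfsg.Agent.Lib.Helper15.PSf
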