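import Mathlib
import Cfsg.Agent.Lib.Helper15.PSf7

/-!
# Rational bases from eigenbases: pairing the eigenvalues (`k = 2`)
-/

set_option autoImplicit false

namespace Cfsg.Agent.Lib.Helper15.PSf

open Module Submodule Polynomial Cfsg.Agent.Lib.Helper15.PSub Cfsg.Agent.Lib.Helper15.PInv
  Cfsg.Agent.Lib.Helper13 Cfsg.Agent.Lib.Helper15.PSubf Cfsg.Agent.Lib.Helper15.PJor

section paired

variable {F : Type*} [Field F] [Fintype F] {V : Type*} [AddCommGroup V] [Module F V]

theorem paired_RB [FiniteDimensional F V] {ι : Type*} [DecidableEq ι] (F₀ : Subfield F) (q₀ : ℕ)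
    (hF₀ : Nat.card ↥F₀ = q₀) (hq : Fintype.card F = q₀ ^ 2)
    (u : V →ₗ[F] V) (l : F) (e : ι → V) (α : ι → F) (hLI : LinearIndependent F e)
    (hact : ∀ j, u (e j) = (l * α j) • e j) :
    ∀ (m : ℕ) (J : Finset ι), J.card = m →
      Multiset.map (fun c => c ^ q₀) (J.val.map α) = J.val.map α →
      ∃ (κ : Type) (_ : Fintype κ), Fintype.card κ = m ∧
        RB F₀ u l (span F (e '' (J : Set ι))) κ := by
  classical
  obtain ⟨φ, hφ, -⟩ := exists_frob F₀ q₀ hF₀
  have hφφ : ∀ c : F, (c ^ q₀) ^ q₀ = c := by
    intro c
    rw [← pow_mul, ← pow_two, ← hq]
    exact FiniteField.pow_card c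
  intro m
  induction m using Nat.strong_induction_on with
  | _ m ih =>
    intro J hJm hinv
    by_cases hJ : J = ∅
    · subst hJ
      refine ⟨Empty, inferInstance, ?_, (RB.empty F₀ u l).congr ?_⟩
      · rw [← hJm]
        rfl
      · simp
    · obtain ⟨j, hj⟩ := Finset.nonempty_iff_ne_empty.mpr hJ
      have hJval : J.val = j ::ₘ (J.erase j).val := by
        rw [Finset.erase_val]
        exact (Multiset.cons_erase hj).symm
      have hcard' : (J.erase j).card = m - 1 := by rw [Finset.card_erase_of_mem hj, hJm]
      have hmpos : 0 < m := by
        rw [← hJm]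
        exact Finset.card_pos.mpr ⟨j, hj⟩
      rw [hJval, Multiset.map_cons, Multiset.map_cons] at hinv
      by_cases hfix : (α j) ^ q₀ = α j
      · rw [hfix, Multiset.cons_inj_right] at hinv
        obtain ⟨κ', hκ', hcard, hRB'⟩ := ih (m - 1) (by omega) (J.erase j) hcard' hinv
        obtain ⟨s, hs⟩ := mem_of_pow_card_eq F₀ q₀ hF₀ (α j) hfix
        have hU : span F {e j} ≤ Module.End.eigenspace u (l * (s : F)) := by
          rw [span_le]
          intro x hx
          rw [Set.mem_singleton_iff] at hx
          rw [hx, SetLike.mem_coe, Module.End.mem_eigenspace_iff, hs]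
          exact hact j
        have hRB1 := RB.of_eigen F₀ u l s (span F {e j}) hU
        have hfr : finrank F (span F {e j}) = 1 := finrank_span_singleton (hLI.ne_zero j)
        have hdisj : Disjoint (span F {e j})
            (span F (e '' ((J.erase j : Finset ι) : Set ι))) := by
          have h1 : Disjoint ({j} : Set ι) ((J.erase j : Finset ι) : Set ι) := by
            rw [Set.disjoint_singleton_left, Finset.mem_coe]
            exact Finset.notMem_erase j J
          have := hLI.disjoint_span_image h1
          rwa [Set.image_singleton] at this
        have hJset : (J : Set ι) = {j} ∪ ((J.erase j : Finset ι) : Set ι) := by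
          ext x
          simp only [Finset.mem_coe, Set.mem_union, Set.mem_singleton_iff, Finset.mem_erase]
          constructor
          · intro hx
            by_cases hxj : x = j
            · exact Or.inl hxj
            · exact Or.inr ⟨hxj, hx⟩
          · rintro (hx | hx)
            · rw [hx]
              exact hj
            · exact hx.2
        refine ⟨Fin (finrank F (span F {e j})) ⊕ κ', inferInstance, ?_,
          (hRB1.series hRB' hdisj).congr ?_⟩
        · rw [Fintype.card_sum, Fintype.card_fin, hfr, hcard]
          omega
        · rw [hJset, Set.image_union, span_union, Set.image_singleton]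
      · have hmem : (α j) ^ q₀ ∈ α j ::ₘ (J.erase j).val.map α := by
          rw [← hinv]
          exact Multiset.mem_cons_self _ _
        rw [Multiset.mem_cons] at hmem
        rcases hmem with h | hmem
        · exact absurd h hfix
        rw [Multiset.mem_map] at hmem
        obtain ⟨j', hj', hαj'⟩ := hmem
        have hj'mem : j' ∈ J.erase j := hj'
        have hjj' : j' ≠ j := Finset.ne_of_mem_erase hj'mem
        have hj'J : j' ∈ J := Finset.mem_of_mem_erase hj'mem
        obtain ⟨J'', hJ''⟩ : ∃ J'' : Finset ι, J'' = (J.erase j).erase j' := ⟨_, rfl⟩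
        have hJ'val : (J.erase j).val = j' ::ₘ J''.val := by
          rw [hJ'', Finset.erase_val]
          exact (Multiset.cons_erase hj').symm
        have hcard'' : J''.card = m - 2 := by
          rw [hJ'', Finset.card_erase_of_mem hj'mem, hcard']
          omega
        have hm2 : 2 ≤ m := by
          have := Finset.card_pos.mpr ⟨j', hj'mem⟩
          omega
        rw [hJ'val, Multiset.map_cons, Multiset.map_cons, hαj', hφφ, Multiset.cons_swap,
          Multiset.cons_inj_right, Multiset.cons_inj_right] at hinv
        obtain ⟨κ', hκ', hcard, hRB'⟩ := ih (m - 2) (by omega) J'' hcard'' hinv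
        -- trace and norm
        have hTfix : (α j + (α j) ^ q₀) ^ q₀ = α j + (α j) ^ q₀ := by
          rw [← hφ, map_add, hφ, hφ, hφφ, add_comm]
        have hNfix : (α j * (α j) ^ q₀) ^ q₀ = α j * (α j) ^ q₀ := by
          rw [mul_pow, hφφ, mul_comm]
        obtain ⟨T, hT⟩ := mem_of_pow_card_eq F₀ q₀ hF₀ _ hTfix
        obtain ⟨N, hN⟩ := mem_of_pow_card_eq F₀ q₀ hF₀ _ hNfix
        have hLIpair : LinearIndependent F ![e j, e j'] := by
          have hinj : Function.Injective ![j, j'] := by
            intro a b hab
            fin_cases a <;> fin_cases b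
            · rfl
            · exact absurd hab.symm hjj'
            · exact absurd hab hjj'
            · rfl
          have := hLI.comp ![j, j'] hinj
          have h2 : e ∘ ![j, j'] = ![e j, e j'] := by
            funext a
            fin_cases a <;> rfl
          rwa [h2] at this
        have hRB2 := pair_RB F₀ u l (α j) ((α j) ^ q₀) T N hT.symm hN.symm (Ne.symm hfix)
          (e j) (e j') hLIpair (hact j) (by rw [← hαj']; exact hact j')
        have hdisj : Disjoint (span F {e j, e j'}) (span F (e '' (J'' : Set ι))) := by
          have h1 : Disjoint ({j, j'} : Set ι) (J'' : Set ι) := by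
            rw [Set.disjoint_left]
            intro x hx hx''
            rw [hJ'', Finset.mem_coe, Finset.mem_erase, Finset.mem_erase] at hx''
            rcases hx with hx | hx
            · exact hx''.2.1 hx
            · exact hx''.1 hx
          have := hLI.disjoint_span_image h1
          rwa [Set.image_pair] at this
        have hJset : (J : Set ι) = {j, j'} ∪ (J'' : Set ι) := by
          ext x
          rw [hJ'']
          simp only [Finset.mem_coe, Set.mem_union, Set.mem_insert_iff, Set.mem_singleton_iff,
            Finset.mem_erase]
          constructor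
          · intro hx
            by_cases hxj : x = j
            · exact Or.inl (Or.inl hxj)
            · by_cases hxj' : x = j'
              · exact Or.inl (Or.inr hxj')
              · exact Or.inr ⟨hxj', hxj, hx⟩
          · rintro ((hx | hx) | hx)
            · rw [hx]
              exact hj
            · rw [hx]
              exact hj'J
            · exact hx.2.2
        refine ⟨Fin 2 ⊕ κ', inferInstance, ?_, (hRB2.series hRB' hdisj).congr ?_⟩
        · rw [Fintype.card_sum, Fintype.card_fin, hcard]
          omega
        · rw [hJset, Set.image_union, span_union, Set.image_pair]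

end paired

end Cfsg.Agent.Lib.Helper15.PSf
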