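import Mathlib
import Cfsg.Agent.Lib.Helper15.PSf8

/-!
# Elements of order `r` of `SL_r(q₀²)`, `r ∣ q₀ + 1`, with symmetric multiset of eigenvalues
-/

set_option autoImplicit false

namespace Cfsg.Agent.Lib.Helper15.PSf

open Module Submodule Polynomial Cfsg.Agent.Lib.Helper15.PSub Cfsg.Agent.Lib.Helper15.PInv
  Cfsg.Agent.Lib.Helper13 Cfsg.Agent.Lib.Helper15.PSubf Cfsg.Agent.Lib.Helper15.PJor

section sym

set_option maxRecDepth 100000 in
theorem sym5 : ∀ a₀ a₁ a₂ a₃ a₄ : ZMod 5, a₀ + a₁ + a₂ + a₃ + a₄ = 0 →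
    ¬ (a₀ = a₁ ∧ a₁ = a₂ ∧ a₂ = a₃ ∧ a₃ = a₄) →
    ∃ d : ZMod 5, ((d - a₀) ::ₘ (d - a₁) ::ₘ (d - a₂) ::ₘ (d - a₃) ::ₘ (d - a₄) ::ₘ
      (0 : Multiset (ZMod 5))) = a₀ ::ₘ a₁ ::ₘ a₂ ::ₘ a₃ ::ₘ a₄ ::ₘ 0 := by
  decide

theorem sym3 : ∀ a₀ a₁ a₂ : ZMod 3, a₀ + a₁ + a₂ = 0 →
    ¬ (a₀ = a₁ ∧ a₁ = a₂) →
    ∃ d : ZMod 3, ((d - a₀) ::ₘ (d - a₁) ::ₘ (d - a₂) ::ₘ (0 : Multiset (ZMod 3))) =
      a₀ ::ₘ a₁ ::ₘ a₂ ::ₘ 0 := by
  decide

theorem sym5' (a : Fin 5 → ZMod 5) (hsum : ∑ j, a j = 0) (hne : ∃ i j, a i ≠ a j) :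
    ∃ d : ZMod 5, Multiset.map (fun x => d - x) (Finset.univ.val.map a) =
      Finset.univ.val.map a := by
  have h1 : Finset.univ.val.map a = a 0 ::ₘ a 1 ::ₘ a 2 ::ₘ a 3 ::ₘ a 4 ::ₘ 0 := by
    rw [Fin.univ_val_map]
    rfl
  rw [Fin.sum_univ_five] at hsum
  have h2 : ¬ (a 0 = a 1 ∧ a 1 = a 2 ∧ a 2 = a 3 ∧ a 3 = a 4) := by
    rintro ⟨e1, e2, e3, e4⟩
    obtain ⟨i, j, hij⟩ := hne
    apply hij
    have hall : ∀ t : Fin 5, a t = a 0 := by
      intro t
      fin_cases t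
      · rfl
      · exact e1.symm
      · exact (e1.trans e2).symm
      · exact (e1.trans (e2.trans e3)).symm
      · exact (e1.trans (e2.trans (e3.trans e4))).symm
    rw [hall i, hall j]
  obtain ⟨d, hd⟩ := sym5 _ _ _ _ _ hsum h2
  refine ⟨d, ?_⟩
  rw [h1]
  simp only [Multiset.map_cons, Multiset.map_zero]
  exact hd

theorem sym3' (a : Fin 3 → ZMod 3) (hsum : ∑ j, a j = 0) (hne : ∃ i j, a i ≠ a j) :
    ∃ d : ZMod 3, Multiset.map (fun x => d - x) (Finset.univ.val.map a) =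
      Finset.univ.val.map a := by
  have h1 : Finset.univ.val.map a = a 0 ::ₘ a 1 ::ₘ a 2 ::ₘ 0 := by
    rw [Fin.univ_val_map]
    rfl
  rw [Fin.sum_univ_three] at hsum
  have h2 : ¬ (a 0 = a 1 ∧ a 1 = a 2) := by
    rintro ⟨e1, e2⟩
    obtain ⟨i, j, hij⟩ := hne
    apply hij
    have hall : ∀ t : Fin 3, a t = a 0 := by
      intro t
      fin_cases t
      · rfl
      · exact e1.symm
      · exact (e1.trans e2).symm
    rw [hall i, hall j]
  obtain ⟨d, hd⟩ := sym3 _ _ _ hsum h2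
  refine ⟨d, ?_⟩
  rw [h1]
  simp only [Multiset.map_cons, Multiset.map_zero]
  exact hd

end sym

section caseB

variable {F : Type*} [Field F] [Fintype F]

theorem caseB_RB (p : ℕ) [Fact p.Prime] [CharP F p] (F₀ : Subfield F) (q₀ : ℕ)
    (hF₀ : Nat.card ↥F₀ = q₀) (hq : Fintype.card F = q₀ ^ 2) (r : ℕ) [hr : Fact r.Prime]
    (hr2 : r ≠ 2) (hrp : r ≠ p) (hrq : r ∣ q₀ + 1) (n : ℕ) (hn : 0 < n)
    (hsym : ∀ a : Fin n → ZMod r, ∑ j, a j = 0 → (∃ i j, a i ≠ a j) →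
      ∃ d : ZMod r, Multiset.map (fun x => d - x) (Finset.univ.val.map a) =
        Finset.univ.val.map a)
    (u : (Fin n → F) →ₗ[F] (Fin n → F)) (hu : u ^ r = 1) (hdet : LinearMap.det u = 1)
    (hns : ∀ z : F, u ≠ z • (1 : (Fin n → F) →ₗ[F] (Fin n → F))) :
    ∃ (l : F) (κ : Type) (_ : Fintype κ), l ≠ 0 ∧ Fintype.card κ = n ∧ RB F₀ u l ⊤ κ := by
  classical
  have hq₀2 := two_le_of_card F₀ q₀ hF₀
  have hrq' : r ∣ Fintype.card F - 1 := by
    rw [hq]
    obtain ⟨a, rfl⟩ : ∃ a, q₀ = a + 1 := ⟨q₀ - 1, by omega⟩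
    have h1 : (a + 1) ^ 2 - 1 = (a + 1 + 1) * a := by
      apply Nat.sub_eq_of_eq_add
      ring
    rw [h1]
    exact Dvd.dvd.mul_right hrq _
  have htop : (⊤ : Submodule F (Fin n → F)) ∈ Module.End.invtSubmodule u := by
    rw [Module.End.mem_invtSubmodule]
    exact le_top
  obtain ⟨e, μ, hLI, hsp, hact⟩ := exists_eigenbasis p r hrp hrq' u hu n ⊤ htop
    (by rw [finrank_top, Module.finrank_fin_fun])
  have hpowact : ∀ (t : ℕ) (j : Fin n), (u ^ t) (e j) = (μ j ^ t) • e j := by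
    intro t j
    induction t with
    | zero => simp
    | succ t ih =>
      rw [pow_succ, Module.End.mul_apply, hact, map_smul, ih, smul_smul, pow_succ, mul_comm]
  have hμr : ∀ j, μ j ^ r = 1 := by
    intro j
    have h1 := hpowact r j
    rw [hu, Module.End.one_apply] at h1
    have h2 : (μ j ^ r - 1) • e j = 0 := by
      rw [sub_smul, one_smul, ← h1, sub_self]
    rcases smul_eq_zero.mp h2 with h | h
    · exact sub_eq_zero.mp h
    · exact absurd h (hLI.ne_zero j)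
  let b : Basis (Fin n) F (Fin n → F) := Basis.mk hLI (by rw [hsp])
  have hb : ∀ j, b j = e j := fun j => by
    show (Basis.mk hLI _) j = e j
    rw [Basis.mk_apply]
  have hmat : LinearMap.toMatrix b b u = Matrix.diagonal μ := by
    ext i j
    rw [LinearMap.toMatrix_apply, hb, hact, ← hb, map_smul, Basis.repr_self, Finsupp.smul_apply,
      Finsupp.single_apply, Matrix.diagonal_apply]
    by_cases hij : i = j
    · rw [if_pos hij.symm, if_pos hij, hij, smul_eq_mul, mul_one]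
    · rw [if_neg (Ne.symm hij), if_neg hij, smul_zero]
  have hprod : ∏ j, μ j = 1 := by
    rw [← Matrix.det_diagonal, ← hmat, LinearMap.det_toMatrix, hdet]
  have hnsμ : ∃ i j, μ i ≠ μ j := by
    by_contra hcon
    push Not at hcon
    apply hns (μ ⟨0, hn⟩)
    apply b.ext
    intro j
    rw [hb, hact, hcon j ⟨0, hn⟩, LinearMap.smul_apply, Module.End.one_apply]
  -- a primitive `r`-th root of unity
  have hcardu : r ∣ Fintype.card Fˣ := by
    rw [Fintype.card_units]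
    exact hrq'
  obtain ⟨lamu, hlamu⟩ := exists_prime_orderOf_dvd_card r hcardu
  obtain ⟨lam, hlam⟩ : ∃ lam : F, lam = (lamu : F) := ⟨_, rfl⟩
  have hord : orderOf lam = r := by rw [hlam, orderOf_units, hlamu]
  have hprim : IsPrimitiveRoot lam r := by
    rw [← hord]
    exact IsPrimitiveRoot.orderOf lam
  have hlam0 : lam ≠ 0 := by
    rw [hlam]
    exact Units.ne_zero lamu
  have hlamr : lam ^ r = 1 := by
    rw [← hord]
    exact pow_orderOf_eq_one lam
  have hnz : NeZero r := ⟨hr.out.ne_zero⟩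
  choose s hs_lt hs using fun j => hprim.eq_pow_of_pow_eq_one (hμr j)
  obtain ⟨a, ha⟩ : ∃ a : Fin n → ZMod r, a = fun j => ((s j : ℕ) : ZMod r) := ⟨_, rfl⟩
  have haval : ∀ j, (a j).val = s j := by
    intro j
    rw [ha]
    exact ZMod.val_natCast_of_lt (hs_lt j)
  -- the exponential
  obtain ⟨E, hE⟩ : ∃ E : ZMod r → F, E = fun x => lam ^ x.val := ⟨_, rfl⟩
  have hEadd : ∀ x y : ZMod r, E (x + y) = E x * E y := by
    intro x y
    rw [hE]
    simp only
    rw [ZMod.val_add, ← pow_add]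
    conv_rhs => rw [← Nat.div_add_mod (x.val + y.val) r, pow_add, pow_mul, hlamr, one_pow, one_mul]
  have hE0 : E 0 = 1 := by
    rw [hE]
    simp
  have hEneg : ∀ x : ZMod r, E (-x) = (E x)⁻¹ := by
    intro x
    have h1 : E x * E (-x) = 1 := by rw [← hEadd, add_neg_cancel, hE0]
    exact eq_inv_of_mul_eq_one_right h1
  have hEne : ∀ x : ZMod r, E x ≠ 0 := by
    intro x
    rw [hE]
    exact pow_ne_zero _ hlam0
  have hEa : ∀ j, E (a j) = μ j := by
    intro j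
    rw [hE]
    simp only
    rw [haval, hs]
  have hsum : ∑ j, a j = 0 := by
    have h1 : lam ^ (∑ j, s j) = 1 := by
      rw [← Finset.prod_pow_eq_pow_sum]
      simp only [hs]
      exact hprod
    have h2 : r ∣ ∑ j, s j := by
      rw [← hord]
      exact orderOf_dvd_of_pow_eq_one h1
    rw [ha]
    simp only
    rw [← Nat.cast_sum]
    exact (ZMod.natCast_eq_zero_iff _ _).mpr h2
  have hane : ∃ i j, a i ≠ a j := by
    obtain ⟨i, j, hij⟩ := hnsμ
    refine ⟨i, j, fun h => hij ?_⟩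
    rw [← hEa i, ← hEa j, h]
  obtain ⟨d, hd⟩ := hsym a hsum hane
  -- halve `d`
  have h2ne : (2 : ZMod r) ≠ 0 := by
    intro h
    have h1 : ((2 : ℕ) : ZMod r) = 0 := by exact_mod_cast h
    rw [ZMod.natCast_eq_zero_iff] at h1
    exact hr2 ((Nat.prime_dvd_prime_iff_eq hr.out Nat.prime_two).mp h1)
  obtain ⟨t, ht⟩ : ∃ t : ZMod r, t + t = d := by
    refine ⟨d * (2 : ZMod r)⁻¹, ?_⟩
    rw [← two_mul, mul_comm d, ← mul_assoc, mul_inv_cancel₀ h2ne, one_mul]
  -- Frobenius inverts `E`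
  have hlamq : lam ^ q₀ = lam⁻¹ := by
    have h1 : lam ^ (q₀ + 1) = 1 := by
      obtain ⟨c, hc⟩ := hrq
      rw [hc, pow_mul, hlamr, one_pow]
    rw [pow_succ] at h1
    exact eq_inv_of_mul_eq_one_left h1
  have hEq : ∀ x : ZMod r, (E x) ^ q₀ = E (-x) := by
    intro x
    rw [hEneg, hE]
    simp only
    rw [← pow_mul, mul_comm, pow_mul, hlamq, inv_pow]
  obtain ⟨l, hl⟩ : ∃ l : F, l = E t := ⟨_, rfl⟩
  have hl0 : l ≠ 0 := by rw [hl]; exact hEne t
  obtain ⟨α, hα⟩ : ∃ α : Fin n → F, α = fun j => l⁻¹ * μ j := ⟨_, rfl⟩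
  have hαE : ∀ j, α j = E (a j - t) := by
    intro j
    rw [hα]
    simp only
    rw [hl, ← hEa, sub_eq_add_neg, hEadd, hEneg, mul_comm]
  have hact' : ∀ j, u (e j) = (l * α j) • e j := by
    intro j
    rw [hact, hα]
    simp only
    rw [← mul_assoc, mul_inv_cancel₀ hl0, one_mul]
  have hinv : Multiset.map (fun c => c ^ q₀) ((Finset.univ : Finset (Fin n)).val.map α) =
      (Finset.univ : Finset (Fin n)).val.map α := by
    have h1 : (Finset.univ : Finset (Fin n)).val.map α =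
        ((Finset.univ : Finset (Fin n)).val.map a).map (fun x => E (x - t)) := by
      rw [Multiset.map_map]
      apply Multiset.map_congr rfl
      intro j _
      exact hαE j
    rw [h1]
    obtain ⟨A, hA⟩ : ∃ A : Multiset (ZMod r), A = (Finset.univ : Finset (Fin n)).val.map a :=
      ⟨_, rfl⟩
    rw [← hA] at hd ⊢
    have h2 : Multiset.map (fun c => c ^ q₀) (A.map (fun x => E (x - t))) =
        (A.map (fun x => d - x)).map (fun x => E (x - t)) := by
      rw [Multiset.map_map, Multiset.map_map]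
      apply Multiset.map_congr rfl
      intro x _
      simp only [Function.comp_apply]
      rw [hEq]
      congr 1
      rw [← ht]
      ring
    rw [h2, hd]
  obtain ⟨κ, hκ, hcard, hRB⟩ := paired_RB F₀ q₀ hF₀ hq u l e α hLI hact' n Finset.univ
    (by rw [Finset.card_univ, Fintype.card_fin]) hinv
  refine ⟨l, κ, hκ, hl0, hcard, hRB.congr ?_⟩
  rw [Finset.coe_univ, Set.image_univ, hsp]

end caseB

end Cfsg.Agent.Lib.Helper15.PSf
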