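import Mathlib
import Cfsg.Agent.Lib.Helper15.PSf9
import Cfsg.Agent.Lib.Helper15.SemiCent

/-!
# Conjugating elements of order `r` of `PSL_n(q)` into the subfield subgroup: the good cases
-/

set_option autoImplicit false

namespace Cfsg.Agent.Lib.Helper15.PSf

open Module Submodule Polynomial Cfsg.Agent.Lib.Helper15.PSub Cfsg.Agent.Lib.Helper15.PInv
  Cfsg.Agent.Lib.Helper13 Cfsg.Agent.Lib.Helper15.PSubf Cfsg.Agent.Lib.Helper15.PJor

section good

variable {F : Type*} [Field F] [Fintype F] {n : ℕ}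

/-- centraliser elements of arbitrary determinant for a semisimple element of `SL_n` -/
theorem exists_cent_det (p : ℕ) [Fact p.Prime] [CharP F p] (hn : 0 < n) (r : ℕ) (hr : r.Prime)
    (hrp : r ≠ p) (X : (Fin n → F) →ₗ[F] (Fin n → F)) (z : F) (hz : z ≠ 0)
    (hX : X ^ r = z • (1 : (Fin n → F) →ₗ[F] (Fin n → F))) (δ : F) :
    ∃ C : (Fin n → F) →ₗ[F] (Fin n → F), C ∘ₗ X = X ∘ₗ C ∧ LinearMap.det C = δ := by
  have hne : Nonempty (Fin n) := ⟨⟨0, hn⟩⟩
  have hnt : Nontrivial (Fin n → F) := Function.nontrivial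
  have hr0 : (r : F) ≠ 0 := ne_zero_of_ne p r hr hrp
  have hq1 : 1 ≤ Fintype.card F := Fintype.card_pos
  have hk : ((r * (Fintype.card F - 1) : ℕ) : F) ≠ 0 := by
    rw [Nat.cast_mul, Nat.cast_sub hq1, FiniteField.cast_card_eq_zero, Nat.cast_one, zero_sub]
    exact mul_ne_zero hr0 (neg_ne_zero.mpr one_ne_zero)
  have hXk : X ^ (r * (Fintype.card F - 1)) = 1 := by
    rw [pow_mul, hX, _root_.smul_pow, one_pow, FiniteField.pow_card_sub_one_eq_one z hz, one_smul]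
  obtain ⟨c, hc, hcd⟩ := exists_comm_det X _ hk hXk δ
  exact ⟨c, hc, hcd⟩

omit [Fintype F] in
theorem RB_scale {V : Type*} [AddCommGroup V] [Module F V] (F₀ : Subfield F) (X : V →ₗ[F] V)
    (w : F) (hw : w ≠ 0) (W : Submodule F V) (κ : Type) [Fintype κ]
    (h : RB F₀ (w⁻¹ • X) 1 W κ) : RB F₀ X w W κ := by
  obtain ⟨e, M, hLI, hsp, hact⟩ := h
  refine ⟨e, M, hLI, hsp, ?_⟩
  intro j
  have h1 := hact j
  rw [LinearMap.smul_apply, one_smul] at h1
  rw [← h1, smul_smul, mul_inv_cancel₀ hw, one_smul]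

/-- the good case `q ≡ q₀ (mod r)` -/
theorem good_A (p : ℕ) [Fact p.Prime] [CharP F p] (hn : 0 < n) (F₀ : Subfield F) (q₀ : ℕ)
    (hF₀ : Nat.card ↥F₀ = q₀) (r : ℕ) [hr : Fact r.Prime] (hr2 : r ≠ 2) (hrp : r ≠ p)
    (hord : orderOf ((q₀ : ℕ) : ZMod r) = orderOf ((Fintype.card F : ℕ) : ZMod r))
    (hgood : r ∣ Fintype.card F - 1 → padicValNat r n ≤ padicValNat r (Fintype.card F - 1))
    (x : Matrix.SpecialLinearGroup (Fin n) F) (z : F)
    (hx : ((x ^ r : Matrix.SpecialLinearGroup (Fin n) F) : Matrix (Fin n) (Fin n) F) =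
      z • (1 : Matrix (Fin n) (Fin n) F)) :
    ∃ P : Matrix.SpecialLinearGroup (Fin n) F, P⁻¹ * x * P ∈
      ((Cfsg.Geo.subfieldSubgroup F₀ 1).comap
        (Matrix.SpecialLinearGroup.toGL : Matrix.SpecialLinearGroup (Fin n) F →* GL (Fin n) F)) := by
  classical
  obtain ⟨X, hXdef⟩ : ∃ X : (Fin n → F) →ₗ[F] (Fin n → F),
      X = Matrix.toLin' (x : Matrix (Fin n) (Fin n) F) := ⟨_, rfl⟩
  have hX : X ^ r = z • (1 : (Fin n → F) →ₗ[F] (Fin n → F)) := by
    rw [hXdef]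
    exact (pow_SL_iff x r z).mp hx
  have hdet : LinearMap.det X = 1 := by rw [hXdef]; exact det_toLin'_SL x
  have hfr : finrank F (Fin n → F) = n := Module.finrank_fin_fun F
  have hn0 : n ≠ 0 := by omega
  have hz0 : z ≠ 0 := smul_ne_zero_of_pow X hdet r z hX (by rw [hfr]; exact hn0)
  -- `z` is an `r`-th power
  have hzpow : ∃ w : F, w ^ r = z := by
    by_cases hrq : r ∣ Fintype.card F - 1
    · by_contra hno
      push Not at hno
      obtain ⟨hrn, hdetX⟩ := det_of_not_pow r hr.out z hno X hX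
      rw [hfr] at hrn hdetX
      rw [hdet] at hdetX
      exact false_of_good r hr.out n hn0 hrn z hno hdetX.symm (hgood hrq)
        (fun h => absurd h hr2)
    · obtain ⟨b, _, hb⟩ := exists_pow_eq_of_not_dvd r hr.out hrq z hz0
      exact ⟨b, hb⟩
  obtain ⟨w, hwz⟩ := hzpow
  have hw0 : w ≠ 0 := by
    rintro rfl
    rw [zero_pow hr.out.ne_zero] at hwz
    exact hz0 hwz.symm
  have hu : (w⁻¹ • X) ^ r = 1 := scale_pow X r w hw0 (by rw [hwz]; exact hX)
  have htop : (⊤ : Submodule F (Fin n → F)) ∈ Module.End.invtSubmodule (w⁻¹ • X) := by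
    rw [Module.End.mem_invtSubmodule]
    exact le_top
  obtain ⟨κ, hκ, hcard, hRB⟩ := RB_of_invt_A p F₀ q₀ hF₀ r hrp hord (w⁻¹ • X) hu n ⊤ htop
    (by rw [finrank_top, hfr])
  have hRB' := RB_scale F₀ X w hw0 ⊤ κ hRB
  obtain ⟨b, M, hM⟩ := hRB'.toFin n hcard
  rw [hXdef] at hM
  apply conj_mem_subf F₀ x b w hw0 M hM
  intro δ _
  rw [← hXdef]
  exact exists_cent_det p hn r hr.out hrp X z hz0 hX δ

/-- the exceptional good case `k = 2`, `n = r`, `(q₀ + 1)_r = r` -/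
theorem good_B (p : ℕ) [Fact p.Prime] [CharP F p] (F₀ : Subfield F) (q₀ : ℕ)
    (hF₀ : Nat.card ↥F₀ = q₀) (hq : Fintype.card F = q₀ ^ 2) (r : ℕ) [hr : Fact r.Prime]
    (hr2 : r ≠ 2) (hrp : r ≠ p) (hv : padicValNat r (q₀ + 1) = 1)
    (hsym : ∀ a : Fin r → ZMod r, ∑ j, a j = 0 → (∃ i j, a i ≠ a j) →
      ∃ d : ZMod r, Multiset.map (fun x => d - x) (Finset.univ.val.map a) =
        Finset.univ.val.map a)
    (x : Matrix.SpecialLinearGroup (Fin r) F) (z : F)
    (hx : ((x ^ r : Matrix.SpecialLinearGroup (Fin r) F) : Matrix (Fin r) (Fin r) F) =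
      z • (1 : Matrix (Fin r) (Fin r) F))
    (hns : ∀ z : F, (x : Matrix (Fin r) (Fin r) F) ≠ z • (1 : Matrix (Fin r) (Fin r) F)) :
    ∃ P : Matrix.SpecialLinearGroup (Fin r) F, P⁻¹ * x * P ∈
      ((Cfsg.Geo.subfieldSubgroup F₀ 1).comap
        (Matrix.SpecialLinearGroup.toGL : Matrix.SpecialLinearGroup (Fin r) F →* GL (Fin r) F)) := by
  classical
  have hq₀2 := two_le_of_card F₀ q₀ hF₀
  have hrpos : 0 < r := hr.out.pos
  have hrq : r ∣ q₀ + 1 := by
    apply dvd_of_one_le_padicValNat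
    rw [hv]
  obtain ⟨X, hXdef⟩ : ∃ X : (Fin r → F) →ₗ[F] (Fin r → F),
      X = Matrix.toLin' (x : Matrix (Fin r) (Fin r) F) := ⟨_, rfl⟩
  have hX : X ^ r = z • (1 : (Fin r → F) →ₗ[F] (Fin r → F)) := by
    rw [hXdef]
    exact (pow_SL_iff x r z).mp hx
  have hdet : LinearMap.det X = 1 := by rw [hXdef]; exact det_toLin'_SL x
  have hfr : finrank F (Fin r → F) = r := Module.finrank_fin_fun F
  have hz0 : z ≠ 0 := smul_ne_zero_of_pow X hdet r z hX (by rw [hfr]; exact hr.out.ne_zero)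
  have hzr : z ^ r = 1 := by
    have h1 : LinearMap.det (X ^ r) = 1 := by rw [map_pow, hdet, one_pow]
    rw [hX, LinearMap.det_smul, hfr, map_one, mul_one] at h1
    exact h1
  -- the `r`-part of `q - 1`
  have hq1 : Fintype.card F - 1 = (q₀ - 1) * (q₀ + 1) := by
    rw [hq]
    obtain ⟨a, rfl⟩ : ∃ a, q₀ = a + 1 := ⟨q₀ - 1, by omega⟩
    apply Nat.sub_eq_of_eq_add
    rw [Nat.add_sub_cancel]
    ring
  have hnd : ¬ r ∣ q₀ - 1 := by
    intro h
    have h1 : r ∣ (q₀ + 1) - (q₀ - 1) := Nat.dvd_sub hrq h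
    have h2 : (q₀ + 1) - (q₀ - 1) = 2 := by omega
    rw [h2] at h1
    exact hr2 ((Nat.prime_dvd_prime_iff_eq hr.out Nat.prime_two).mp h1)
  have hvq : padicValNat r (Fintype.card F - 1) = 1 := by
    rw [hq1, padicValNat.mul (by omega) (by omega), padicValNat.eq_zero_of_not_dvd hnd, hv]
  have hqne : Fintype.card F - 1 ≠ 0 := by
    rw [hq1]
    apply Nat.mul_ne_zero <;> omega
  have hz1 : z = 1 := by
    have hzpow : ∃ w : F, w ^ r = z := by
      by_contra hno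
      push Not at hno
      obtain ⟨hrn, hdetX⟩ := det_of_not_pow r hr.out z hno X hX
      rw [hfr, hdet, Nat.div_self hrpos, pow_one] at hdetX
      have hodd : Even (r + 1) := by
        rcases hr.out.eq_two_or_odd' with h | h
        · exact absurd h hr2
        · exact Odd.add_one h
      rw [hodd.neg_one_pow, one_mul] at hdetX
      exact hno 1 (by rw [one_pow, ← hdetX])
    obtain ⟨w, hwz⟩ := hzpow
    have hw0 : w ≠ 0 := by
      rintro rfl
      rw [zero_pow hr.out.ne_zero] at hwz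
      exact hz0 hwz.symm
    have h1 : w ^ (r ^ 2) = 1 := by rw [pow_two, pow_mul, hwz, hzr]
    have h2 : w ^ (Fintype.card F - 1) = 1 := FiniteField.pow_card_sub_one_eq_one w hw0
    have h3 : orderOf w ∣ r ^ 2 := orderOf_dvd_of_pow_eq_one h1
    have h4 : orderOf w ∣ Fintype.card F - 1 := orderOf_dvd_of_pow_eq_one h2
    obtain ⟨j, hj, hoj⟩ := (Nat.dvd_prime_pow hr.out).mp h3
    have hj1 : j ≤ 1 := by
      by_contra hcon
      have hj2 : j = 2 := by omega
      rw [hoj, hj2] at h4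
      have := (padicValNat_dvd_iff_le hqne).mp h4
      omega
    have h5 : orderOf w ∣ r := by
      rw [hoj]
      calc r ^ j ∣ r ^ 1 := pow_dvd_pow r hj1
        _ = r := pow_one r
    rw [← hwz]
    exact orderOf_dvd_iff_pow_eq_one.mp h5
  rw [hz1, one_smul] at hX
  have hnsX : ∀ z : F, X ≠ z • (1 : (Fin r → F) →ₗ[F] (Fin r → F)) := by
    intro z' hz'
    rw [hXdef] at hz'
    exact hns z' ((scalar_SL_iff x z').mpr hz')
  obtain ⟨l, κ, hκ, hl0, hcard, hRB⟩ := caseB_RB p F₀ q₀ hF₀ hq r hr2 hrp hrq r hrpos hsym X hX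
    hdet hnsX
  obtain ⟨b, M, hM⟩ := hRB.toFin r hcard
  rw [hXdef] at hM
  apply conj_mem_subf F₀ x b l hl0 M hM
  intro δ _
  rw [← hXdef]
  exact exists_cent_det p hrpos r hr.out hrp X 1 one_ne_zero (by rw [hX, one_smul]) δ

end good

end Cfsg.Agent.Lib.Helper15.PSf
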