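import Mathlib
import Cfsg.Agent.Lib.Helper15.PSp7

/-!
# Case B: existence
-/

set_option autoImplicit false

namespace Cfsg.Agent.Lib.Helper15.PSp

open Module Submodule Cfsg.Agent.Lib.Helper15 Cfsg.Agent.Lib.Helper15.PInv
  Cfsg.Agent.Lib.Helper15.PSub

section caseB

variable {F : Type*} [Field F] [Fintype F] {n : ℕ}

theorem exists_caseB (m : ℕ) (hm : 2 ≤ m) (hnm : n = 2 * m)
    (f : (Fin n → F) → (Fin n → F) → F) (hf : Cfsg.Geo.IsSymplecticForm f)
    (r : ℕ) [hr : Fact r.Prime] (hr2 : r ≠ 2) (hgap : ¬ (n = 6 ∧ r = 3))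
    (hrq : r ∣ Fintype.card F - 1) :
    ∃ x : Matrix.SpecialLinearGroup (Fin n) F,
      (∃ z : F, ((x ^ r : Matrix.SpecialLinearGroup (Fin n) F) : Matrix (Fin n) (Fin n) F) =
        z • (1 : Matrix (Fin n) (Fin n) F)) ∧
      (∀ z : F, (x : Matrix (Fin n) (Fin n) F) ≠ z • (1 : Matrix (Fin n) (Fin n) F)) ∧
      ∀ P : Matrix.SpecialLinearGroup (Fin n) F, P⁻¹ * x * P ∉
        ((Cfsg.Geo.similarityGroup f).comap
          (Matrix.SpecialLinearGroup.toGL :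
            Matrix.SpecialLinearGroup (Fin n) F →* GL (Fin n) F)) := by
  classical
  -- the root of unity
  have hcu : r ∣ Nat.card Fˣ := by
    rw [Nat.card_units, Nat.card_eq_fintype_card]
    exact hrq
  obtain ⟨u, hu⟩ := exists_prime_orderOf_dvd_card' r hcu
  obtain ⟨ζ, hζdef⟩ : ∃ ζ : F, ζ = (u : F) := ⟨_, rfl⟩
  have hζ : ζ ^ r = 1 := by
    rw [hζdef, ← Units.val_pow_eq_pow_val, ← hu, pow_orderOf_eq_one, Units.val_one]
  have hζ1 : ζ ≠ 1 := by
    rw [hζdef]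
    intro h
    have h1 : u = 1 := Units.ext h
    rw [h1, orderOf_one] at hu
    exact hr.out.one_lt.ne' hu.symm
  have hζ0 : ζ ≠ 0 := by
    rw [hζdef]
    exact u.ne_zero
  obtain ⟨k, hk⟩ : ∃ k, 3 + k = n := ⟨n - 3, by omega⟩
  have hkodd : Odd k := ⟨m - 2, by omega⟩
  obtain ⟨e, -⟩ : ∃ e : Fin 3 ⊕ Fin k ≃ Fin n, e = e := ⟨finSumFinEquiv.trans (finCongr hk), rfl⟩
  obtain ⟨D, hD⟩ : ∃ D : Fin n → F, D = dB ζ k ∘ e.symm := ⟨_, rfl⟩
  have hDe : ∀ j, D (e j) = dB ζ k j := by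
    intro j
    rw [hD, Function.comp_apply, Equiv.symm_apply_apply]
  have hdr : ∀ j, dB ζ k j ^ r = 1 := by
    intro j
    rcases j with i | i
    · fin_cases i
      · exact hζ
      · exact hζ
      · show ((ζ⁻¹) ^ 2) ^ r = 1
        rw [← pow_mul, mul_comm, pow_mul, inv_pow, hζ, inv_one, one_pow]
    · show (1 : F) ^ r = 1
      exact one_pow r
  have hdet : (Matrix.diagonal D).det = 1 := by
    rw [Matrix.det_diagonal, hD]
    show ∏ i, dB ζ k (e.symm i) = 1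
    rw [Equiv.prod_comp e.symm (dB ζ k), Fintype.prod_sum_type, Fin.prod_univ_three]
    show ζ * ζ * (ζ⁻¹) ^ 2 * ∏ _a : Fin k, (1 : F) = 1
    rw [Finset.prod_const_one, mul_one, inv_pow, ← pow_two, mul_inv_cancel₀ (pow_ne_zero 2 hζ0)]
  have hk1 : 0 < k := by omega
  refine ⟨⟨Matrix.diagonal D, hdet⟩, ⟨1, ?_⟩, ?_, ?_⟩
  · rw [one_smul]
    show (Matrix.diagonal D) ^ r = 1
    rw [Matrix.diagonal_pow]
    rw [← Matrix.diagonal_one]
    congr 1
    funext i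
    rw [Pi.pow_apply, ← e.apply_symm_apply i, hDe, hdr]
  · intro z hz
    change Matrix.diagonal D = z • 1 at hz
    have h1 : ∀ i, D i = z := by
      intro i
      have := congrFun (congrFun hz i) i
      rw [Matrix.diagonal_apply_eq, Matrix.smul_apply, Matrix.one_apply_eq, smul_eq_mul,
        mul_one] at this
      exact this
    have h2 := h1 (e (Sum.inl 0))
    have h3 := h1 (e (Sum.inr ⟨0, hk1⟩))
    rw [hDe] at h2 h3
    apply hζ1
    have h4 : dB ζ k (Sum.inl 0) = ζ := rfl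
    have h5 : dB ζ k (Sum.inr ⟨0, hk1⟩) = 1 := rfl
    rw [← h4, h2, ← h3, h5]
  · intro P hmem
    obtain ⟨E, c, hc0, hc⟩ := conj_sim_data f hf _ P hmem
    obtain ⟨X, hX⟩ : ∃ X : (Fin n → F) →ₗ[F] (Fin n → F),
        X = Matrix.toLin' (Matrix.diagonal D) := ⟨_, rfl⟩
    change ∀ u v, bilOf hf (E.symm (Matrix.toLin' (Matrix.diagonal D) (E u)))
      (E.symm (Matrix.toLin' (Matrix.diagonal D) (E v))) = c * bilOf hf u v at hc
    rw [← hX] at hc
    obtain ⟨G, hGdef⟩ : ∃ G : (Fin n → F) →ₗ[F] (Fin n → F),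
        G = (E.symm : (Fin n → F) →ₗ[F] (Fin n → F)) ∘ₗ X ∘ₗ
          (E : (Fin n → F) →ₗ[F] (Fin n → F)) := ⟨_, rfl⟩
    have hGapp : ∀ v, G v = E.symm (X (E v)) := fun v => by rw [hGdef]; rfl
    obtain ⟨b₀, hb₀⟩ : ∃ b₀ : Basis (Fin 3 ⊕ Fin k) F (Fin n → F),
        b₀ = (Pi.basisFun F (Fin n)).reindex e.symm := ⟨_, rfl⟩
    have hb₀j : ∀ j, b₀ j = Pi.single (e j) (1 : F) := by
      intro j
      rw [hb₀, Basis.reindex_apply, Equiv.symm_symm, Pi.basisFun_apply]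
    have hXb : ∀ j, X (b₀ j) = dB ζ k j • b₀ j := by
      intro j
      rw [hX, hb₀j, Matrix.toLin'_apply, Matrix.diagonal_mulVec_single, hDe, mul_one]
      ext i
      by_cases hi : i = e j
      · rw [hi, Pi.single_eq_same, Pi.smul_apply, Pi.single_eq_same, smul_eq_mul, mul_one]
      · rw [Pi.single_eq_of_ne hi, Pi.smul_apply, Pi.single_eq_of_ne hi, smul_zero]
    obtain ⟨b, hb⟩ : ∃ b : Basis (Fin 3 ⊕ Fin k) F (Fin n → F), b = b₀.map E.symm := ⟨_, rfl⟩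
    have hbj : ∀ j, b j = E.symm (b₀ j) := by
      intro j
      rw [hb, Basis.map_apply]
    have hG : ∀ j, G (b j) = dB ζ k j • b j := by
      intro j
      rw [hGapp, hbj, LinearEquiv.apply_symm_apply, hXb, map_smul]
    have hcG : ∀ u v, bilOf hf (G u) (G v) = c * bilOf hf u v := by
      intro u v
      rw [hGapp, hGapp]
      exact hc u v
    exact not_sim_B (bilOf hf) (fun v => hf.alternating v) (fun v hv => symp_hnd hf v hv) k hkodd
      ζ r hr.out hr2 hζ hζ1 (fun h => hgap ⟨by omega, h.2⟩) b G hG c hc0 hcG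

end caseB

end Cfsg.Agent.Lib.Helper15.PSp
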