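import Mathlib
import Cfsg.Prelude.Def_GeometricClasses
import Cfsg.Agent.Lib.Helper15.PNorm6
import Cfsg.Agent.Lib.Helper15.PSp8

/-!
# Field subalgebras of degree `n` of `M_n(F)` (Singer cycles): structure
-/

set_option autoImplicit false

namespace Cfsg.Agent.Lib.Helper15.PSing

open Module Submodule Polynomial Cfsg.Agent.Lib.Helper15.PSub Cfsg.Agent.Lib.Helper15.PInv
  Cfsg.Agent.Lib.Helper15.PNorm

section kstruct

variable {F : Type*} [Field F] {n : ℕ}

/-- `F^n` is one-dimensional over a field subalgebra of degree `n` -/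
theorem exists_mulVec_eq (K : Subalgebra F (Matrix (Fin n) (Fin n) F))
    (hK : Cfsg.Geo.IsFieldSubalgebra n K) (v₀ : Fin n → F) (hv₀ : v₀ ≠ 0) (w : Fin n → F) :
    ∃ a ∈ K, a.mulVec v₀ = w := by
  classical
  let ψ : ↥K →ₗ[F] (Fin n → F) :=
    { toFun := fun a => (a : Matrix (Fin n) (Fin n) F).mulVec v₀
      map_add' := fun a b => by
        show ((a : Matrix (Fin n) (Fin n) F) + (b : Matrix (Fin n) (Fin n) F)).mulVec v₀ = _
        rw [Matrix.add_mulVec]
      map_smul' := fun c a => by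
        show (c • (a : Matrix (Fin n) (Fin n) F)).mulVec v₀ = _
        rw [Matrix.smul_mulVec]
        rfl }
  have hψ : ∀ a : ↥K, ψ a = (a : Matrix (Fin n) (Fin n) F).mulVec v₀ := fun a => rfl
  have hinj : Function.Injective ψ := by
    rw [← LinearMap.ker_eq_bot, LinearMap.ker_eq_bot']
    intro a ha
    rw [hψ] at ha
    by_contra hne
    have hne' : (a : Matrix (Fin n) (Fin n) F) ≠ 0 := fun h => hne (Subtype.ext h)
    exact hv₀ (mulVec_eq_zero K hK a.1 a.2 hne' v₀ ha)
  have hdim : finrank F ↥K = finrank F (Fin n → F) := by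
    rw [hK.finrank_eq, Module.finrank_fin_fun]
  have hsurj : Function.Surjective ψ :=
    (LinearMap.injective_iff_surjective_of_finrank_eq_finrank hdim).mp hinj
  obtain ⟨a, ha⟩ := hsurj w
  exact ⟨a.1, a.2, ha⟩

/-- the minimal polynomial of an element of a field subalgebra is irreducible -/
theorem minpoly_irreducible (hn : 0 < n) (K : Subalgebra F (Matrix (Fin n) (Fin n) F)) {r : ℕ}
    (hK : Cfsg.Geo.IsFieldSubalgebra r K) (a : Matrix (Fin n) (Fin n) F) (ha : a ∈ K) :
    Irreducible (minpoly F a) := by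
  classical
  have h1 : (1 : Matrix (Fin n) (Fin n) F) ≠ 0 := by
    intro h
    have := congrFun (congrFun h ⟨0, hn⟩) ⟨0, hn⟩
    simp at this
  have hnt : Nontrivial ↥K := ⟨⟨1, 0, fun h => h1 (congrArg Subtype.val h)⟩⟩
  have hnzd : NoZeroDivisors ↥K := by
    refine ⟨fun {x y} hxy => ?_⟩
    by_cases hx : x = 0
    · exact Or.inl hx
    · right
      have hx' : (x : Matrix (Fin n) (Fin n) F) ≠ 0 := fun h => hx (Subtype.ext h)
      obtain ⟨z, _, _, hzx⟩ := exists_inv K hK x.1 x.2 hx'
      have h2 : (x : Matrix (Fin n) (Fin n) F) * (y : Matrix (Fin n) (Fin n) F) = 0 :=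
        congrArg Subtype.val hxy
      apply Subtype.ext
      have h3 := congrArg (fun m => z * m) h2
      simp only [← Matrix.mul_assoc, hzx, Matrix.one_mul, Matrix.mul_zero] at h3
      exact h3
  have hdom : IsDomain ↥K := NoZeroDivisors.to_isDomain _
  have hint : IsIntegral F (⟨a, ha⟩ : ↥K) := IsIntegral.of_finite F _
  have hirr := minpoly.irreducible hint
  have heq := minpoly.algHom_eq K.val Subtype.val_injective (⟨a, ha⟩ : ↥K)
  rw [← heq] at hirr
  exact hirr

/-- the degree of the minimal polynomial divides `n` -/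
theorem natDegree_minpoly_dvd (hn : 0 < n) (K : Subalgebra F (Matrix (Fin n) (Fin n) F)) {r : ℕ}
    (hK : Cfsg.Geo.IsFieldSubalgebra r K) (a : Matrix (Fin n) (Fin n) F) (ha : a ∈ K) :
    (minpoly F a).natDegree ∣ n := by
  classical
  have hirr := minpoly_irreducible hn K hK a ha
  have hkill : aeval (Matrix.toLin' a) (minpoly F a) = 0 := by
    have h1 := aeval_algHom_apply (Matrix.toLinAlgEquiv' (R := F) (n := Fin n)) a (minpoly F a)
    rw [minpoly.aeval, map_zero] at h1
    exact h1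
  have hss : Module.End.IsSemisimple (Matrix.toLin' a) :=
    Module.End.isSemisimple_of_squarefree_aeval_eq_zero hirr.squarefree hkill
  have h2 := dvd_finrank_of_killed (Matrix.toLin' a) hss (minpoly F a) hirr.ne_zero
    (minpoly F a).natDegree (fun P hP hPd => by
      have hass := hP.associated_of_dvd hirr hPd
      exact natDegree_eq_of_degree_eq (degree_eq_degree_of_associated hass))
    ⊤ (Module.End.invtSubmodule.top_mem _) (fun w _ => by rw [hkill, LinearMap.zero_apply])
  rw [finrank_top, Module.finrank_fin_fun] at h2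
  exact h2

/-- an element commuting with a non-scalar element of a field subalgebra of prime degree `n`
commutes with the whole subalgebra -/
theorem comm_of_comm_gen (hn : n.Prime) (K : Subalgebra F (Matrix (Fin n) (Fin n) F))
    (hK : Cfsg.Geo.IsFieldSubalgebra n K) (a : Matrix (Fin n) (Fin n) F) (ha : a ∈ K)
    (hans : ∀ c : F, a ≠ c • (1 : Matrix (Fin n) (Fin n) F)) (g : Matrix (Fin n) (Fin n) F)
    (hg : g * a = a * g) : ∀ k ∈ K, g * k = k * g := by
  classical
  have hn0 : 0 < n := hn.pos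
  have hne : Nonempty (Fin n) := ⟨⟨0, hn0⟩⟩
  have hdvd := natDegree_minpoly_dvd hn0 K hK a ha
  have hd : (minpoly F a).natDegree = n := by
    rcases (Nat.dvd_prime hn).mp hdvd with h | h
    · exfalso
      have hnt : Nontrivial (Matrix (Fin n) (Fin n) F) := inferInstance
      obtain ⟨c, hc⟩ := minpoly.natDegree_eq_one_iff.mp h
      apply hans c
      rw [← hc, Algebra.algebraMap_eq_smul_one]
    · exact h
  have hli := linearIndependent_pow (K := F) a
  -- transport to `K`
  have hpm : ∀ i : ℕ, a ^ i ∈ K := fun i => K.pow_mem ha i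
  have hli' : LinearIndependent F
      (fun i : Fin (minpoly F a).natDegree => (⟨a ^ (i : ℕ), hpm i⟩ : ↥K)) := by
    apply LinearIndependent.of_comp K.val.toLinearMap
    exact hli
  have hne' : Nonempty (Fin (minpoly F a).natDegree) := by
    rw [hd]
    exact hne
  have hspan := hli'.span_eq_top_of_card_eq_finrank (by rw [Fintype.card_fin, hK.finrank_eq, hd])
  intro k hk
  have hmem : (⟨k, hk⟩ : ↥K) ∈ span F (Set.range
      (fun i : Fin (minpoly F a).natDegree => (⟨a ^ (i : ℕ), hpm i⟩ : ↥K))) := by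
    rw [hspan]
    trivial
  have hgoal : ∀ y : ↥K, y ∈ span F (Set.range
      (fun i : Fin (minpoly F a).natDegree => (⟨a ^ (i : ℕ), hpm i⟩ : ↥K))) →
      g * (y : Matrix (Fin n) (Fin n) F) = (y : Matrix (Fin n) (Fin n) F) * g := by
    intro y hy
    induction hy using Submodule.span_induction with
    | mem x hx =>
      obtain ⟨i, rfl⟩ := hx
      show g * a ^ (i : ℕ) = a ^ (i : ℕ) * g
      exact (Commute.pow_right (show Commute g a from hg) _).eq
    | zero =>
      show g * 0 = 0 * g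
      rw [Matrix.mul_zero, Matrix.zero_mul]
    | add x y _ _ hx hy =>
      show g * ((x : Matrix (Fin n) (Fin n) F) + (y : Matrix (Fin n) (Fin n) F)) =
        ((x : Matrix (Fin n) (Fin n) F) + (y : Matrix (Fin n) (Fin n) F)) * g
      rw [Matrix.mul_add, Matrix.add_mul, hx, hy]
    | smul c x _ hx =>
      show g * (c • (x : Matrix (Fin n) (Fin n) F)) = (c • (x : Matrix (Fin n) (Fin n) F)) * g
      rw [Matrix.mul_smul, Matrix.smul_mul, hx]
  exact hgoal ⟨k, hk⟩ hmem

/-- the centraliser of a field subalgebra of degree `n` is the subalgebra itself -/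
theorem mem_of_comm (hn : 0 < n) (K : Subalgebra F (Matrix (Fin n) (Fin n) F))
    (hK : Cfsg.Geo.IsFieldSubalgebra n K) (g : Matrix (Fin n) (Fin n) F)
    (hg : ∀ k ∈ K, g * k = k * g) : g ∈ K := by
  classical
  obtain ⟨v₀, hv₀def⟩ : ∃ v₀ : Fin n → F, v₀ = Pi.single ⟨0, hn⟩ 1 := ⟨_, rfl⟩
  have hv₀ : v₀ ≠ 0 := by
    intro h
    have := congrFun h ⟨0, hn⟩
    rw [hv₀def] at this
    simp at this
  obtain ⟨a₀, ha₀K, ha₀⟩ := exists_mulVec_eq K hK v₀ hv₀ (g.mulVec v₀)
  have heq : g = a₀ := by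
    apply Matrix.toLin'.injective
    apply LinearMap.ext
    intro w
    obtain ⟨b, hbK, hb⟩ := exists_mulVec_eq K hK v₀ hv₀ w
    rw [Matrix.toLin'_apply, Matrix.toLin'_apply, ← hb, Matrix.mulVec_mulVec, Matrix.mulVec_mulVec,
      hg b hbK, ← Matrix.mulVec_mulVec, ← ha₀, Matrix.mulVec_mulVec,
      hK.comm b hbK a₀ ha₀K]
  rw [heq]
  exact ha₀K

/-- **Eigenspaces**: a non-scalar element of the normaliser of a field subalgebra of prime degree
`n` of `M_n(F)` has eigenspaces of dimension at most one. -/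
theorem eigen_le_one (hn : n.Prime) (K : Subalgebra F (Matrix (Fin n) (Fin n) F))
    (hK : Cfsg.Geo.IsFieldSubalgebra n K) (g : GL (Fin n) F)
    (hg : g ∈ Cfsg.Geo.subalgebraNormalizer K)
    (hns : ∀ c : F, (g : Matrix (Fin n) (Fin n) F) ≠ c • (1 : Matrix (Fin n) (Fin n) F))
    (lam : F) (v w : Fin n → F) (hv : (g : Matrix (Fin n) (Fin n) F).mulVec v = lam • v)
    (hw : (g : Matrix (Fin n) (Fin n) F).mulVec w = lam • w) (hv0 : v ≠ 0) :
    ∃ c : F, w = c • v := by
  classical
  have hn0 : 0 < n := hn.pos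
  obtain ⟨a, haK, haw⟩ := exists_mulVec_eq K hK v hv0 w
  have hgg : (g : Matrix (Fin n) (Fin n) F) * ((g⁻¹ : GL (Fin n) F) : Matrix (Fin n) (Fin n) F) =
      1 := by
    rw [← Units.val_mul, mul_inv_cancel, Units.val_one]
  have hgg' : ((g⁻¹ : GL (Fin n) F) : Matrix (Fin n) (Fin n) F) * (g : Matrix (Fin n) (Fin n) F) =
      1 := by
    rw [← Units.val_mul, inv_mul_cancel, Units.val_one]
  have hlam : lam ≠ 0 := by
    rintro rfl
    rw [zero_smul] at hv
    have := congrArg ((g⁻¹ : GL (Fin n) F) : Matrix (Fin n) (Fin n) F).mulVec hv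
    rw [Matrix.mulVec_mulVec, hgg', Matrix.one_mulVec, Matrix.mulVec_zero] at this
    exact hv0 this
  obtain ⟨a', ha'def⟩ : ∃ a' : Matrix (Fin n) (Fin n) F,
      a' = (g : Matrix (Fin n) (Fin n) F) * a *
        ((g⁻¹ : GL (Fin n) F) : Matrix (Fin n) (Fin n) F) := ⟨_, rfl⟩
  have ha'K : a' ∈ K := by
    rw [ha'def]
    exact (hg a).mp haK
  have hga : (g : Matrix (Fin n) (Fin n) F) * a = a' * (g : Matrix (Fin n) (Fin n) F) := by
    rw [ha'def, Matrix.mul_assoc, hgg', Matrix.mul_one]
  -- `a' v = a v`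
  have h1 : a'.mulVec v = a.mulVec v := by
    have h2 : (g : Matrix (Fin n) (Fin n) F).mulVec (a.mulVec v) = lam • a'.mulVec v := by
      rw [Matrix.mulVec_mulVec, hga, ← Matrix.mulVec_mulVec, hv, Matrix.mulVec_smul]
    rw [haw, hw, ← haw] at h2
    have h3 : lam • (a.mulVec v - a'.mulVec v) = 0 := by
      rw [smul_sub, h2, sub_self]
    rcases smul_eq_zero.mp h3 with h4 | h4
    · exact absurd h4 hlam
    · exact (sub_eq_zero.mp h4).symm
  have h2 : a' = a := by
    by_contra hne
    apply hv0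
    apply mulVec_eq_zero K hK (a' - a) (K.sub_mem ha'K haK) (sub_ne_zero.mpr hne) v
    rw [Matrix.sub_mulVec, h1, sub_self]
  rw [h2] at hga
  by_cases hsc : ∃ c : F, a = c • (1 : Matrix (Fin n) (Fin n) F)
  · obtain ⟨c, hc⟩ := hsc
    refine ⟨c, ?_⟩
    rw [← haw, hc, Matrix.smul_mulVec, Matrix.one_mulVec]
  · exfalso
    have hans : ∀ c : F, a ≠ c • (1 : Matrix (Fin n) (Fin n) F) := fun c hc => hsc ⟨c, hc⟩
    have hcomm := comm_of_comm_gen hn K hK a haK hans (g : Matrix (Fin n) (Fin n) F) hga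
    have hgK := mem_of_comm hn0 K hK (g : Matrix (Fin n) (Fin n) F) hcomm
    exact hv0 (no_eigen K hK (g : Matrix (Fin n) (Fin n) F) hgK hns lam v hv)

end kstruct

end Cfsg.Agent.Lib.Helper15.PSing
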