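import Mathlib
import Cfsg.Agent.Lib.Helper15.PSing1

/-!
# Field subalgebras of degree `n` of `M_n(F)`, `F` finite: the Frobenius element of the normaliser
-/

set_option autoImplicit false

namespace Cfsg.Agent.Lib.Helper15.PSing

open Module Submodule Polynomial Cfsg.Agent.Lib.Helper15.PSub Cfsg.Agent.Lib.Helper15.PInv
  Cfsg.Agent.Lib.Helper15.PNorm

section frob

variable {F : Type*} [Field F] {n : ℕ}

theorem isField_K (hn : 0 < n) (K : Subalgebra F (Matrix (Fin n) (Fin n) F)) {r : ℕ}
    (hK : Cfsg.Geo.IsFieldSubalgebra r K) : IsField ↥K := by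
  classical
  have h1 : (1 : Matrix (Fin n) (Fin n) F) ≠ 0 := by
    intro h
    have := congrFun (congrFun h ⟨0, hn⟩) ⟨0, hn⟩
    simp at this
  refine ⟨⟨0, 1, fun h => h1 (congrArg Subtype.val h).symm⟩, fun a b => ?_, fun {a} ha => ?_⟩
  · exact Subtype.ext (hK.comm a.1 a.2 b.1 b.2)
  · have ha' : (a : Matrix (Fin n) (Fin n) F) ≠ 0 := fun h => ha (Subtype.ext h)
    obtain ⟨y, hy, hay⟩ := hK.inv a.1 a.2 ha'
    exact ⟨⟨y, hy⟩, Subtype.ext hay⟩

variable [Fintype F]

/-- `b^(q^n) = b` in a field subalgebra of degree `n` -/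
theorem pow_card_pow (hn : 0 < n) (K : Subalgebra F (Matrix (Fin n) (Fin n) F)) {r : ℕ}
    (hK : Cfsg.Geo.IsFieldSubalgebra r K) (b : Matrix (Fin n) (Fin n) F) (hb : b ∈ K) :
    b ^ (Fintype.card F ^ r) = b := by
  classical
  let fK : Field ↥K := (isField_K hn K hK).toField
  have instFt : Fintype ↥K := Fintype.ofFinite _
  have hcard : Fintype.card ↥K = Fintype.card F ^ r := by
    rw [card_eq_pow_finrank (K := F) (V := ↥K), hK.finrank_eq]
  have h := @FiniteField.pow_card ↥K _ instFt (⟨b, hb⟩ : ↥K)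
  rw [hcard] at h
  have h' := congrArg Subtype.val h
  exact h'

/-- not every element of a field subalgebra of degree at least two is fixed by Frobenius -/
theorem exists_pow_card_ne (hn : 0 < n) (K : Subalgebra F (Matrix (Fin n) (Fin n) F)) {r : ℕ}
    (hr : 2 ≤ r) (hK : Cfsg.Geo.IsFieldSubalgebra r K) :
    ∃ b ∈ K, b ^ Fintype.card F ≠ b := by
  classical
  by_contra hall
  have hall' : ∀ b ∈ K, b ^ Fintype.card F = b := by
    intro b hb
    by_contra hne
    exact hall ⟨b, hb, hne⟩
  let fK : Field ↥K := (isField_K hn K hK).toField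
  have instFt : Fintype ↥K := Fintype.ofFinite _
  have hcard : Fintype.card ↥K = Fintype.card F ^ r := by
    rw [card_eq_pow_finrank (K := F) (V := ↥K), hK.finrank_eq]
  have hq : 1 < Fintype.card F := Fintype.one_lt_card
  have hsub : (Finset.univ : Finset ↥K).val ⊆
      (X ^ Fintype.card F - X : (↥K)[X]).roots := by
    intro a _
    rw [mem_roots (FiniteField.X_pow_card_sub_X_ne_zero ↥K hq)]
    rw [IsRoot.def, eval_sub, eval_pow, eval_X, sub_eq_zero]
    apply Subtype.ext
    exact hall' a.1 a.2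
  have hle := card_le_degree_of_subset_roots hsub
  rw [FiniteField.X_pow_card_sub_X_natDegree_eq ↥K hq, Finset.card_univ, hcard] at hle
  have : Fintype.card F ^ 2 ≤ Fintype.card F ^ r := Nat.pow_le_pow_right (by omega) hr
  nlinarith

end frob

end Cfsg.Agent.Lib.Helper15.PSing
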