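import Mathlib
import Cfsg.Agent.Lib.Helper15.PSing2

/-!
# The Frobenius element of the normaliser of a Singer cycle
-/

set_option autoImplicit false

namespace Cfsg.Agent.Lib.Helper15.PSing

open Module Submodule Polynomial Cfsg.Agent.Lib.Helper15.PSub Cfsg.Agent.Lib.Helper15.PInv
  Cfsg.Agent.Lib.Helper15.PNorm

section frob

variable {F : Type*} [Field F] [Fintype F] {n : ℕ}

/-- the Frobenius map `b v₀ ↦ b^q v₀` -/
theorem exists_frob (p : ℕ) [hp : Fact p.Prime] [CharP F p] (hn : 2 ≤ n)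
    (K : Subalgebra F (Matrix (Fin n) (Fin n) F)) (hK : Cfsg.Geo.IsFieldSubalgebra n K) :
    ∃ φ : (Fin n → F) →ₗ[F] (Fin n → F), φ ^ n = 1 ∧ φ ≠ 1 ∧
      ∀ b ∈ K, ∀ v, φ (b.mulVec v) = (b ^ Fintype.card F).mulVec (φ v) := by
  classical
  have hn0 : 0 < n := by omega
  have hne : Nonempty (Fin n) := ⟨⟨0, hn0⟩⟩
  obtain ⟨q, hq⟩ : ∃ q, q = Fintype.card F := ⟨_, rfl⟩
  obtain ⟨⟨f, _⟩, -, hf⟩ := FiniteField.card F p
  have hqf : q = p ^ f := by rw [hq, hf]; rfl
  obtain ⟨v₀, hv₀def⟩ : ∃ v₀ : Fin n → F, v₀ = Pi.single ⟨0, hn0⟩ 1 := ⟨_, rfl⟩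
  have hv₀ : v₀ ≠ 0 := by
    intro h
    have := congrFun h ⟨0, hn0⟩
    rw [hv₀def] at this
    simp at this
  let ψ : ↥K →ₗ[F] (Fin n → F) :=
    { toFun := fun a => (a : Matrix (Fin n) (Fin n) F).mulVec v₀
      map_add' := fun a b => by
        show ((a : Matrix (Fin n) (Fin n) F) + (b : Matrix (Fin n) (Fin n) F)).mulVec v₀ = _
        rw [Matrix.add_mulVec]
      map_smul' := fun c a => by
        show (c • (a : Matrix (Fin n) (Fin n) F)).mulVec v₀ = _
        rw [Matrix.smul_mulVec]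
        rfl }
  have hψ : ∀ a : ↥K, ψ a = (a : Matrix (Fin n) (Fin n) F).mulVec v₀ := fun a => rfl
  have hinj : Function.Injective ψ := by
    rw [← LinearMap.ker_eq_bot, LinearMap.ker_eq_bot']
    intro a ha
    rw [hψ] at ha
    by_contra hne'
    have hne'' : (a : Matrix (Fin n) (Fin n) F) ≠ 0 := fun h => hne' (Subtype.ext h)
    exact hv₀ (mulVec_eq_zero K hK a.1 a.2 hne'' v₀ ha)
  have hdim : finrank F ↥K = finrank F (Fin n → F) := by
    rw [hK.finrank_eq, Module.finrank_fin_fun]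
  have hsurj : Function.Surjective ψ :=
    (LinearMap.injective_iff_surjective_of_finrank_eq_finrank hdim).mp hinj
  obtain ⟨Ψ, hΨ⟩ : ∃ Ψ : ↥K ≃ₗ[F] (Fin n → F), ∀ a, Ψ a = ψ a :=
    ⟨LinearEquiv.ofBijective ψ ⟨hinj, hsurj⟩, fun a => rfl⟩
  have hΨ' : ∀ a : ↥K, Ψ a = (a : Matrix (Fin n) (Fin n) F).mulVec v₀ := fun a => by
    rw [hΨ, hψ]
  let Fr : ↥K →ₗ[F] ↥K :=
    { toFun := fun a => ⟨(a : Matrix (Fin n) (Fin n) F) ^ q, K.pow_mem a.2 q⟩
      map_add' := fun a b => by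
        apply Subtype.ext
        show ((a : Matrix (Fin n) (Fin n) F) + (b : Matrix (Fin n) (Fin n) F)) ^ q =
          (a : Matrix (Fin n) (Fin n) F) ^ q + (b : Matrix (Fin n) (Fin n) F) ^ q
        rw [hqf]
        exact add_pow_char_pow_of_commute p f (hK.comm a.1 a.2 b.1 b.2)
      map_smul' := fun c a => by
        apply Subtype.ext
        show (c • (a : Matrix (Fin n) (Fin n) F)) ^ q = c • (a : Matrix (Fin n) (Fin n) F) ^ q
        rw [_root_.smul_pow, hq, FiniteField.pow_card] }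
  have hFr : ∀ a : ↥K, ((Fr a : ↥K) : Matrix (Fin n) (Fin n) F) =
      (a : Matrix (Fin n) (Fin n) F) ^ q := fun a => rfl
  obtain ⟨φ, hφdef⟩ : ∃ φ : (Fin n → F) →ₗ[F] (Fin n → F),
      φ = (Ψ : ↥K →ₗ[F] (Fin n → F)) ∘ₗ Fr ∘ₗ (Ψ.symm : (Fin n → F) →ₗ[F] ↥K) := ⟨_, rfl⟩
  have hφΨ : ∀ a : ↥K, φ (Ψ a) = Ψ (Fr a) := by
    intro a
    rw [hφdef]
    show Ψ (Fr (Ψ.symm (Ψ a))) = _
    rw [LinearEquiv.symm_apply_apply]
  have hFrpow : ∀ (j : ℕ) (a : ↥K), (((Fr ^ j) a : ↥K) : Matrix (Fin n) (Fin n) F) =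
      (a : Matrix (Fin n) (Fin n) F) ^ (q ^ j) := by
    intro j
    induction j with
    | zero => intro a; simp
    | succ j ih =>
      intro a
      rw [pow_succ', Module.End.mul_apply, hFr, ih, ← pow_mul, pow_succ]
  have hφpow : ∀ (j : ℕ) (a : ↥K), (φ ^ j) (Ψ a) = Ψ ((Fr ^ j) a) := by
    intro j
    induction j with
    | zero => intro a; simp
    | succ j ih =>
      intro a
      rw [pow_succ', Module.End.mul_apply, ih, hφΨ, pow_succ', Module.End.mul_apply]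
  refine ⟨φ, ?_, ?_, ?_⟩
  · apply LinearMap.ext
    intro v
    obtain ⟨a, rfl⟩ := Ψ.surjective v
    rw [hφpow, Module.End.one_apply]
    congr 1
    apply Subtype.ext
    rw [hFrpow, hq]
    exact pow_card_pow hn0 K hK a.1 a.2
  · intro h1
    obtain ⟨b, hb, hbne⟩ := exists_pow_card_ne hn0 K hn hK
    apply hbne
    have h2 := hφΨ ⟨b, hb⟩
    rw [h1, Module.End.one_apply] at h2
    have h3 := congrArg Subtype.val (Ψ.injective h2)
    rw [hFr] at h3
    rw [← hq]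
    exact h3.symm
  · intro b hb v
    obtain ⟨a, rfl⟩ := Ψ.surjective v
    have h1 : b.mulVec (Ψ a) = Ψ (⟨b, hb⟩ * a) := by
      rw [hΨ', hΨ', Matrix.mulVec_mulVec]
      rfl
    rw [h1, hφΨ, hφΨ, hΨ', hΨ', hFr, hFr, Matrix.mulVec_mulVec, ← hq]
    congr 1
    show (b * (a : Matrix (Fin n) (Fin n) F)) ^ q = b ^ q * (a : Matrix (Fin n) (Fin n) F) ^ q
    exact (show Commute b (a : Matrix (Fin n) (Fin n) F) from hK.comm b hb a.1 a.2).mul_pow q

/-- a matrix acting as a Frobenius map normalises the field subalgebra -/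
theorem mem_normalizer_of_frob (hn : 0 < n)
    (K : Subalgebra F (Matrix (Fin n) (Fin n) F)) (hK : Cfsg.Geo.IsFieldSubalgebra n K)
    (φ : (Fin n → F) →ₗ[F] (Fin n → F))
    (hφ : ∀ b ∈ K, ∀ v, φ (b.mulVec v) = (b ^ Fintype.card F).mulVec (φ v))
    (g : GL (Fin n) F) (hg : ∀ v, Matrix.toLin' (g : Matrix (Fin n) (Fin n) F) v = φ v) :
    g ∈ Cfsg.Geo.subalgebraNormalizer K := by
  classical
  have hgg : (g : Matrix (Fin n) (Fin n) F) * ((g⁻¹ : GL (Fin n) F) : Matrix (Fin n) (Fin n) F) =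
      1 := by
    rw [← Units.val_mul, mul_inv_cancel, Units.val_one]
  have hgg' : ((g⁻¹ : GL (Fin n) F) : Matrix (Fin n) (Fin n) F) * (g : Matrix (Fin n) (Fin n) F) =
      1 := by
    rw [← Units.val_mul, inv_mul_cancel, Units.val_one]
  have hgb : ∀ b ∈ K, (g : Matrix (Fin n) (Fin n) F) * b =
      b ^ Fintype.card F * (g : Matrix (Fin n) (Fin n) F) := by
    intro b hb
    apply Matrix.toLin'.injective
    apply LinearMap.ext
    intro v
    rw [Matrix.toLin'_apply, Matrix.toLin'_apply, ← Matrix.mulVec_mulVec, ← Matrix.mulVec_mulVec,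
      ← Matrix.toLin'_apply (g : Matrix (Fin n) (Fin n) F), ← Matrix.toLin'_apply
      (g : Matrix (Fin n) (Fin n) F), hg, hg, hφ b hb]
  have hconj : ∀ b ∈ K, (g : Matrix (Fin n) (Fin n) F) * b *
      ((g⁻¹ : GL (Fin n) F) : Matrix (Fin n) (Fin n) F) = b ^ Fintype.card F := by
    intro b hb
    rw [hgb b hb, Matrix.mul_assoc, hgg, Matrix.mul_one]
  intro k
  constructor
  · intro hk
    rw [hconj k hk]
    exact K.pow_mem hk _
  · intro hk
    obtain ⟨b, hbdef⟩ : ∃ b : Matrix (Fin n) (Fin n) F, b = (g : Matrix (Fin n) (Fin n) F) * k *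
      ((g⁻¹ : GL (Fin n) F) : Matrix (Fin n) (Fin n) F) := ⟨_, rfl⟩
    rw [← hbdef] at hk
    obtain ⟨c, hcdef⟩ : ∃ c : Matrix (Fin n) (Fin n) F, c = b ^ (Fintype.card F ^ (n - 1)) :=
      ⟨_, rfl⟩
    have hcK : c ∈ K := by
      rw [hcdef]
      exact K.pow_mem hk _
    have hcq : c ^ Fintype.card F = b := by
      rw [hcdef, ← pow_mul, ← pow_succ]
      have : n - 1 + 1 = n := by omega
      rw [this]
      exact pow_card_pow hn K hK b hk
    have h1 := hconj c hcK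
    rw [hcq, hbdef] at h1
    have h2 : k = c := by
      have h3 := congrArg (fun m => ((g⁻¹ : GL (Fin n) F) : Matrix (Fin n) (Fin n) F) * m *
        (g : Matrix (Fin n) (Fin n) F)) h1
      simp only [Matrix.mul_assoc, hgg', Matrix.mul_one] at h3
      simp only [← Matrix.mul_assoc, hgg', Matrix.one_mul] at h3
      exact h3.symm
    rw [h2]
    exact hcK

end frob

end Cfsg.Agent.Lib.Helper15.PSing
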