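import Mathlib
import Cfsg.Agent.Lib.Helper15.PSing3

/-!
# Operators of prime order `n` on an `n`-space when the cyclotomic polynomial is irreducible
-/

set_option autoImplicit false

namespace Cfsg.Agent.Lib.Helper15.PSing

open Module Submodule Polynomial Cfsg.Agent.Lib.Helper15.PSub Cfsg.Agent.Lib.Helper15.PInv
  Cfsg.Agent.Lib.Helper15.PNorm

section cyc

variable {F V : Type*} [Field F] [AddCommGroup V] [Module F V] [FiniteDimensional F V]

/-- the decomposition `V = E₁ ⊕ W` -/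
theorem order_structure (n : ℕ) (hn : n.Prime) (hn3 : 3 ≤ n) (hV : finrank F V = n)
    (hn0 : (n : F) ≠ 0) (hirr : Irreducible (cyclotomic n F)) (T : V →ₗ[F] V) (hT : T ^ n = 1)
    (hT1 : T ≠ 1) :
    ∃ E₁ W : Submodule F V, IsCompl E₁ W ∧ (∀ z ∈ E₁, T z = z) ∧ (∀ z ∈ W, T z ∈ W) ∧
      finrank F E₁ = 1 ∧ finrank F W = n - 1 ∧ (∀ w ∈ W, aeval T (cyclotomic n F) w = 0) ∧
      IsCoprime (X - 1 : F[X]) (cyclotomic n F) := by
  classical
  have hdegq : (cyclotomic n F).natDegree = n - 1 := by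
    rw [natDegree_cyclotomic, Nat.totient_prime hn]
  have hcop : IsCoprime (X - 1 : F[X]) (cyclotomic n F) := by
    rcases EuclideanDomain.dvd_or_coprime (cyclotomic n F) (X - 1 : F[X]) hirr with h | h
    · exfalso
      have h1 : (X - 1 : F[X]) ≠ 0 := X_sub_C_ne_zero (1 : F)
      have h2 := natDegree_le_of_dvd h h1
      have h3 : (X - 1 : F[X]).natDegree = 1 := natDegree_X_sub_C (1 : F)
      rw [hdegq, h3] at h2
      omega
    · exact h.symm
  have hprod : (X - 1 : F[X]) * cyclotomic n F = X ^ n - 1 := by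
    have hfact : Fact n.Prime := ⟨hn⟩
    rw [mul_comm]
    exact cyclotomic_prime_mul_X_sub_one F n
  have hkill : aeval T ((X - 1 : F[X]) * cyclotomic n F) = 0 := by
    rw [hprod, map_sub, map_pow, aeval_X, map_one, hT, sub_self]
  obtain ⟨E₁, hE₁⟩ : ∃ E₁ : Submodule F V, E₁ = LinearMap.ker (aeval T (X - 1 : F[X])) :=
    ⟨_, rfl⟩
  obtain ⟨W, hW⟩ : ∃ W : Submodule F V, W = LinearMap.ker (aeval T (cyclotomic n F)) := ⟨_, rfl⟩
  have hcompl : IsCompl E₁ W := by
    constructor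
    · rw [hE₁, hW]
      exact disjoint_ker_aeval_of_isCoprime T hcop
    · rw [codisjoint_iff, hE₁, hW, sup_ker_aeval_eq_ker_aeval_mul_of_coprime T hcop, hkill,
        LinearMap.ker_zero]
  have hE₁fix : ∀ z ∈ E₁, T z = z := by
    intro z hz
    rw [hE₁, LinearMap.mem_ker, map_sub, aeval_X, map_one, LinearMap.sub_apply,
      Module.End.one_apply, sub_eq_zero] at hz
    exact hz
  have hWkill : ∀ w ∈ W, aeval T (cyclotomic n F) w = 0 := by
    intro w hw
    rw [hW, LinearMap.mem_ker] at hw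
    exact hw
  have hWinv : ∀ z ∈ W, T z ∈ W := by
    intro z hz
    rw [hW, LinearMap.mem_ker]
    have h1 : aeval T (cyclotomic n F) (T z) = aeval T (cyclotomic n F * X) z := by
      rw [aeval_mul_apply, aeval_X]
    rw [h1, mul_comm, aeval_mul_apply, hWkill z hz, map_zero]
  have hss : Module.End.IsSemisimple T :=
    isSemisimple_of_pow_eq_smul T n hn0 1 one_ne_zero (by rw [hT, one_smul])
  have hWinv' : W ∈ Module.End.invtSubmodule T := by
    rw [Module.End.mem_invtSubmodule]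
    intro z hz
    exact hWinv z hz
  have hdvd := dvd_finrank_of_killed T hss (cyclotomic n F) hirr.ne_zero (n - 1)
    (fun P hP hPd => by
      have hass := hP.associated_of_dvd hirr hPd
      rw [natDegree_eq_of_degree_eq (degree_eq_degree_of_associated hass), hdegq])
    W hWinv' hWkill
  have hsum := Submodule.finrank_add_eq_of_isCompl hcompl
  rw [hV] at hsum
  have hWne : finrank F W ≠ 0 := by
    intro h0
    have hWbot : W = ⊥ := Submodule.finrank_eq_zero.mp h0
    apply hT1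
    apply LinearMap.ext
    intro v
    have hE₁top : E₁ = ⊤ := by
      have := hcompl.sup_eq_top
      rw [hWbot, sup_bot_eq] at this
      exact this
    rw [Module.End.one_apply]
    apply hE₁fix
    rw [hE₁top]
    trivial
  obtain ⟨t, ht⟩ := hdvd
  have ht1 : t = 1 := by
    rcases t with _ | _ | t
    · rw [mul_zero] at ht
      exact absurd ht hWne
    · rfl
    · exfalso
      have : (n - 1) * (t + 1 + 1) ≥ (n - 1) * 2 := Nat.mul_le_mul_left _ (by omega)
      omega
  rw [ht1, mul_one] at ht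
  exact ⟨E₁, W, hcompl, hE₁fix, hWinv, by omega, ht, hWkill, hcop⟩

/-- a cyclic vector -/
theorem exists_cyclic_vec (n : ℕ) (hn : n.Prime) (hn3 : 3 ≤ n) (hV : finrank F V = n)
    (hn0 : (n : F) ≠ 0) (hirr : Irreducible (cyclotomic n F)) (T : V →ₗ[F] V) (hT : T ^ n = 1)
    (hT1 : T ≠ 1) :
    ∃ u : V, LinearIndependent F (fun i : Fin n => (T ^ (i : ℕ)) u) := by
  classical
  obtain ⟨E₁, W, hcompl, hE₁fix, hWinv, hE₁dim, hWdim, hWkill, hcop⟩ :=
    order_structure n hn hn3 hV hn0 hirr T hT hT1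
  have hE₁ne : E₁ ≠ ⊥ := by
    intro h
    rw [h, finrank_bot] at hE₁dim
    omega
  have hWne : W ≠ ⊥ := by
    intro h
    rw [h, finrank_bot] at hWdim
    omega
  obtain ⟨v₁, hv₁E, hv₁0⟩ := Submodule.exists_mem_ne_zero_of_ne_bot hE₁ne
  obtain ⟨w, hwW, hw0⟩ := Submodule.exists_mem_ne_zero_of_ne_bot hWne
  have hWinv' : W ∈ Module.End.invtSubmodule T := by
    rw [Module.End.mem_invtSubmodule]
    intro z hz
    exact hWinv z hz
  have hpowfix : ∀ i : ℕ, (T ^ i) v₁ = v₁ := by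
    intro i
    induction i with
    | zero => rfl
    | succ i ih => rw [pow_succ, Module.End.mul_apply, hE₁fix v₁ hv₁E, ih]
  refine ⟨v₁ + w, ?_⟩
  rw [Fintype.linearIndependent_iff]
  intro c hc
  obtain ⟨a, ha⟩ : ∃ a : F[X], a = ∑ i : Fin n, C (c i) * X ^ (i : ℕ) := ⟨_, rfl⟩
  have hadeg : a.degree < n := by
    rw [ha]
    exact degree_sum_fin_lt c
  have haT : ∀ v : V, aeval T a v = ∑ i : Fin n, c i • (T ^ (i : ℕ)) v := by
    intro v
    rw [ha, map_sum, LinearMap.sum_apply]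
    apply Finset.sum_congr rfl
    intro i _
    rw [map_mul, aeval_C, map_pow, aeval_X, Module.End.mul_apply, Module.algebraMap_end_apply]
  have h0 : aeval T a (v₁ + w) = 0 := by
    rw [haT]
    exact hc
  rw [map_add] at h0
  have h1 : aeval T a v₁ ∈ E₁ := by
    rw [haT]
    apply Submodule.sum_mem
    intro i _
    rw [hpowfix]
    exact E₁.smul_mem _ hv₁E
  have h2 : aeval T a w ∈ W := aeval_mem_of_invt T hWinv' a hwW
  have h3 : aeval T a v₁ = 0 := by
    have h4 : aeval T a v₁ = -aeval T a w := eq_neg_of_add_eq_zero_left h0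
    have h5 : aeval T a v₁ ∈ E₁ ⊓ W := ⟨h1, by rw [h4]; exact W.neg_mem h2⟩
    rw [hcompl.inf_eq_bot] at h5
    exact (Submodule.mem_bot F).mp h5
  have h4 : aeval T a w = 0 := by
    rw [h3, zero_add] at h0
    exact h0
  -- `X - 1 ∣ a`
  have hd1 : (X - 1 : F[X]) ∣ a := by
    have h5 : aeval T a v₁ = (a.eval 1) • v₁ := by
      rw [haT, ha, eval_finsetSum, Finset.sum_smul]
      apply Finset.sum_congr rfl
      intro i _
      rw [hpowfix, eval_mul, eval_C, eval_pow, eval_X, one_pow, mul_one]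
    rw [h5] at h3
    have h6 : a.eval 1 = 0 := (smul_eq_zero.mp h3).resolve_right hv₁0
    have := dvd_iff_isRoot.mpr h6
    rwa [C_1] at this
  -- `Φ_n ∣ a`
  have hd2 : cyclotomic n F ∣ a := by
    rcases EuclideanDomain.dvd_or_coprime (cyclotomic n F) a hirr with h | h
    · exact h
    · exfalso
      obtain ⟨s, t, hst⟩ := h
      apply hw0
      have h5 : aeval T (s * cyclotomic n F + t * a) w = w := by
        rw [hst, map_one, Module.End.one_apply]
      rw [map_add, LinearMap.add_apply, aeval_mul_apply, aeval_mul_apply, hWkill w hwW, h4,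
        map_zero, map_zero, add_zero] at h5
      exact h5.symm
  have hd3 : (X - 1 : F[X]) * cyclotomic n F ∣ a := hcop.mul_dvd hd1 hd2
  have hprod : (X - 1 : F[X]) * cyclotomic n F = X ^ n - 1 := by
    have hfact : Fact n.Prime := ⟨hn⟩
    rw [mul_comm]
    exact cyclotomic_prime_mul_X_sub_one F n
  rw [hprod] at hd3
  have ha0 : a = 0 := by
    by_contra hne
    have h5 := natDegree_le_of_dvd hd3 hne
    have h6 : (X ^ n - 1 : F[X]).natDegree = n := by
      have := natDegree_X_pow_sub_C (R := F) (n := n) (r := 1)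
      rwa [C_1] at this
    rw [h6] at h5
    rw [degree_eq_natDegree hne, Nat.cast_lt] at hadeg
    omega
  intro i
  have h5 : a.coeff (i : ℕ) = c i := by
    rw [ha, finsetSum_coeff]
    rw [Finset.sum_eq_single i]
    · rw [coeff_C_mul, coeff_X_pow, if_pos rfl, mul_one]
    · intro j _ hji
      rw [coeff_C_mul, coeff_X_pow, if_neg (fun h => hji (Fin.ext h).symm), mul_zero]
    · intro h
      exact absurd (Finset.mem_univ i) h
  rw [← h5, ha0, coeff_zero]

/-- the centraliser contains elements of every determinant -/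
theorem exists_cent (n : ℕ) (hn : n.Prime) (hn3 : 3 ≤ n) (hV : finrank F V = n)
    (hn0 : (n : F) ≠ 0) (hirr : Irreducible (cyclotomic n F)) (T : V →ₗ[F] V) (hT : T ^ n = 1)
    (hT1 : T ≠ 1) (δ : F) :
    ∃ C : V →ₗ[F] V, C ∘ₗ T = T ∘ₗ C ∧ LinearMap.det C = δ := by
  obtain ⟨E₁, W, hcompl, hE₁fix, hWinv, hE₁dim, hWdim, hWkill, hcop⟩ :=
    order_structure n hn hn3 hV hn0 hirr T hT hT1
  obtain ⟨C, hC, hdet⟩ := exists_comm_det T E₁ W hcompl
    (fun z hz => by rw [hE₁fix z hz]; exact hz) hWinv (δ • LinearMap.id)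
    (fun z => by
      simp only [LinearMap.smul_apply, LinearMap.id_apply, Submodule.coe_smul, map_smul])
  refine ⟨C, hC, ?_⟩
  rw [hdet, LinearMap.det_smul, LinearMap.det_id, mul_one, hE₁dim, pow_one]

/-- two such operators are conjugate -/
theorem exists_intertwine (n : ℕ) (hn : n.Prime) (hn3 : 3 ≤ n) (hV : finrank F V = n)
    (hn0 : (n : F) ≠ 0) (hirr : Irreducible (cyclotomic n F)) (T T' : V →ₗ[F] V) (hT : T ^ n = 1)
    (hT1 : T ≠ 1) (hT' : T' ^ n = 1) (hT'1 : T' ≠ 1) :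
    ∃ Q : V ≃ₗ[F] V, ∀ v, Q.symm (T (Q v)) = T' v := by
  classical
  obtain ⟨u, hu⟩ := exists_cyclic_vec n hn hn3 hV hn0 hirr T hT hT1
  obtain ⟨u', hu'⟩ := exists_cyclic_vec n hn hn3 hV hn0 hirr T' hT' hT'1
  have hne : Nonempty (Fin n) := ⟨⟨0, hn.pos⟩⟩
  have hcard : Fintype.card (Fin n) = finrank F V := by rw [Fintype.card_fin, hV]
  obtain ⟨b, hb⟩ : ∃ b : Basis (Fin n) F V, ∀ i, b i = (T ^ (i : ℕ)) u :=
    ⟨basisOfLinearIndependentOfCardEqFinrank hu hcard, fun i => by
      rw [coe_basisOfLinearIndependentOfCardEqFinrank]⟩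
  obtain ⟨b', hb'⟩ : ∃ b' : Basis (Fin n) F V, ∀ i, b' i = (T' ^ (i : ℕ)) u' :=
    ⟨basisOfLinearIndependentOfCardEqFinrank hu' hcard, fun i => by
      rw [coe_basisOfLinearIndependentOfCardEqFinrank]⟩
  obtain ⟨Q, hQ⟩ : ∃ Q : V ≃ₗ[F] V, ∀ i, Q (b' i) = b i :=
    ⟨b'.equiv b (Equiv.refl _), fun i => by rw [Basis.equiv_apply]; rfl⟩
  have hmod : ∀ (S : V →ₗ[F] V), S ^ n = 1 → ∀ j : ℕ, S ^ j = S ^ (j % n) := by
    intro S hS j
    conv_lhs => rw [← Nat.div_add_mod j n, pow_add, pow_mul, hS, one_pow, one_mul]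
  have hQpow : ∀ j : ℕ, Q ((T' ^ j) u') = (T ^ j) u := by
    intro j
    rw [hmod T' hT' j, hmod T hT j]
    have hlt : j % n < n := Nat.mod_lt _ hn.pos
    have h1 := hQ ⟨j % n, hlt⟩
    rw [hb', hb] at h1
    exact h1
  refine ⟨Q, fun v => ?_⟩
  rw [LinearEquiv.symm_apply_eq]
  have hcomp : (T ∘ₗ (Q : V →ₗ[F] V)) = (Q : V →ₗ[F] V) ∘ₗ T' := by
    apply b'.ext
    intro i
    show T (Q (b' i)) = Q (T' (b' i))
    rw [hQ, hb, hb']
    have h1 : T' ((T' ^ (i : ℕ)) u') = (T' ^ ((i : ℕ) + 1)) u' := by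
      rw [pow_succ', Module.End.mul_apply]
    have h2 : T ((T ^ (i : ℕ)) u) = (T ^ ((i : ℕ) + 1)) u := by
      rw [pow_succ', Module.End.mul_apply]
    rw [h1, h2, hQpow]
  exact LinearMap.congr_fun hcomp v

end cyc

end Cfsg.Agent.Lib.Helper15.PSing
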