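import Mathlib
import Cfsg.Agent.Lib.Helper15.PSing4

/-!
# Elements of order `n` of `SL_n(q)` and the normaliser of a Singer cycle
-/

set_option autoImplicit false

namespace Cfsg.Agent.Lib.Helper15.PSing

open Module Submodule Polynomial Cfsg.Agent.Lib.Helper15.PSub Cfsg.Agent.Lib.Helper15.PInv
  Cfsg.Agent.Lib.Helper15.PNorm Cfsg.Agent.Lib.Helper15.PSp Cfsg.Agent.Lib.Helper15.PDec

section conj

variable {F : Type*} [Field F] {n : ℕ}

/-- eigenspaces of conjugate maps have the same dimension -/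
theorem finrank_eigenspace_conj (X G : (Fin n → F) →ₗ[F] (Fin n → F))
    (E : (Fin n → F) ≃ₗ[F] (Fin n → F)) (hG : ∀ v, G v = E.symm (X (E v))) (lam : F) :
    finrank F (Module.End.eigenspace G lam) = finrank F (Module.End.eigenspace X lam) := by
  have hmap : (Module.End.eigenspace X lam).map (E.symm : (Fin n → F) →ₗ[F] (Fin n → F)) =
      Module.End.eigenspace G lam := by
    ext v
    rw [Submodule.mem_map, Module.End.mem_eigenspace_iff, hG]
    constructor
    · rintro ⟨y, hy, rfl⟩
      rw [Module.End.mem_eigenspace_iff] at hy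
      show E.symm (X (E (E.symm y))) = lam • E.symm y
      rw [LinearEquiv.apply_symm_apply, hy, map_smul]
    · intro hv
      refine ⟨E v, ?_, E.symm_apply_apply v⟩
      rw [Module.End.mem_eigenspace_iff]
      have := congrArg E hv
      rw [LinearEquiv.apply_symm_apply, map_smul] at this
      exact this
  rw [← hmap]
  exact LinearEquiv.finrank_map_eq E.symm _

/-- an element with an eigenspace of dimension at least two is not conjugate into the normaliser
of a Singer cycle -/
theorem not_conj_singer (hn : n.Prime) (K : Subalgebra F (Matrix (Fin n) (Fin n) F))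
    (hK : Cfsg.Geo.IsFieldSubalgebra n K) (x : Matrix.SpecialLinearGroup (Fin n) F)
    (hns : ∀ z : F, (x : Matrix (Fin n) (Fin n) F) ≠ z • (1 : Matrix (Fin n) (Fin n) F))
    (lam : F) (hdim : 2 ≤ finrank F (Module.End.eigenspace
      (Matrix.toLin' (x : Matrix (Fin n) (Fin n) F)) lam))
    (P : Matrix.SpecialLinearGroup (Fin n) F) :
    P⁻¹ * x * P ∉ ((Cfsg.Geo.subalgebraNormalizer K).comap
      (Matrix.SpecialLinearGroup.toGL :
        Matrix.SpecialLinearGroup (Fin n) F →* GL (Fin n) F)) := by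
  classical
  intro hmem
  rw [Subgroup.mem_comap] at hmem
  obtain ⟨E, hE⟩ := conj_data x P
  obtain ⟨y, hy⟩ : ∃ y : Matrix.SpecialLinearGroup (Fin n) F, y = P⁻¹ * x * P := ⟨_, rfl⟩
  rw [← hy] at hmem hE
  have hcoe : ((Matrix.SpecialLinearGroup.toGL y : GL (Fin n) F) : Matrix (Fin n) (Fin n) F) =
      (y : Matrix (Fin n) (Fin n) F) := rfl
  have hyns : ∀ c : F, (y : Matrix (Fin n) (Fin n) F) ≠ c • (1 : Matrix (Fin n) (Fin n) F) := by
    intro c hc
    apply hns c
    have h1 : x = P * y * P⁻¹ := by rw [hy]; group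
    rw [h1, Matrix.SpecialLinearGroup.coe_mul, Matrix.SpecialLinearGroup.coe_mul, hc,
      Matrix.mul_smul, Matrix.mul_one, Matrix.smul_mul, ← Matrix.SpecialLinearGroup.coe_mul,
      mul_inv_cancel, Matrix.SpecialLinearGroup.coe_one]
  have hdimG := finrank_eigenspace_conj (Matrix.toLin' (x : Matrix (Fin n) (Fin n) F))
    (Matrix.toLin' (y : Matrix (Fin n) (Fin n) F)) E hE lam
  rw [← hdimG] at hdim
  have hne : Module.End.eigenspace (Matrix.toLin' (y : Matrix (Fin n) (Fin n) F)) lam ≠ ⊥ := by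
    intro h
    rw [h, finrank_bot] at hdim
    omega
  obtain ⟨v, hvE, hv0⟩ := Submodule.exists_mem_ne_zero_of_ne_bot hne
  have hle : finrank F (Module.End.eigenspace (Matrix.toLin' (y : Matrix (Fin n) (Fin n) F)) lam)
      ≤ 1 := by
    apply finrank_le_one (⟨v, hvE⟩ : Module.End.eigenspace
      (Matrix.toLin' (y : Matrix (Fin n) (Fin n) F)) lam)
    intro w
    have hv' := Module.End.mem_eigenspace_iff.mp hvE
    have hw' := Module.End.mem_eigenspace_iff.mp w.2
    rw [Matrix.toLin'_apply] at hv' hw'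
    obtain ⟨c, hc⟩ := eigen_le_one hn K hK (Matrix.SpecialLinearGroup.toGL y) hmem
      (by rw [hcoe]; exact hyns) lam v w.1 (by rw [hcoe]; exact hv') (by rw [hcoe]; exact hw') hv0
    refine ⟨c, ?_⟩
    apply Subtype.ext
    exact hc.symm
  omega

end conj

section main

variable {F : Type*} [Field F] [Fintype F] {n : ℕ}

/-- the cyclotomic polynomial is irreducible when `q` has order `n - 1` modulo `n` -/
theorem cyclotomic_irreducible (p : ℕ) [hp : Fact p.Prime] [CharP F p] (hn : n.Prime)
    (hnp : n ≠ p) (hord : orderOf ((Fintype.card F : ℕ) : ZMod n) = n - 1) :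
    Irreducible (cyclotomic n F) := by
  have hnu : ¬ IsUnit (cyclotomic n F) := by
    intro hu
    have := natDegree_eq_zero_of_isUnit hu
    rw [natDegree_cyclotomic, Nat.totient_prime hn] at this
    have := hn.two_le
    omega
  obtain ⟨P, hP, hPd⟩ := WfDvdMonoid.exists_irreducible_factor hnu (cyclotomic_ne_zero n F)
  have hdeg : P.natDegree = n - 1 := by
    rw [cyclotomic_factor_degree p n hn hnp P hP hPd, hord]
  have hass := associated_of_dvd_of_natDegree_le hPd (cyclotomic_ne_zero n F)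
    (by rw [hdeg, natDegree_cyclotomic, Nat.totient_prime hn])
  exact hass.irreducible hP

/-- **Sufficiency** -/
theorem good_singer (p : ℕ) [hp : Fact p.Prime] [CharP F p] (hn : n.Prime) (hn3 : 3 ≤ n)
    (hnp : n ≠ p) (K : Subalgebra F (Matrix (Fin n) (Fin n) F))
    (hK : Cfsg.Geo.IsFieldSubalgebra n K)
    (hord : orderOf ((Fintype.card F : ℕ) : ZMod n) = n - 1)
    (x : Matrix.SpecialLinearGroup (Fin n) F)
    (hx : ∃ z : F, ((x ^ n : Matrix.SpecialLinearGroup (Fin n) F) : Matrix (Fin n) (Fin n) F) =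
      z • (1 : Matrix (Fin n) (Fin n) F))
    (hns : ∀ z : F, (x : Matrix (Fin n) (Fin n) F) ≠ z • (1 : Matrix (Fin n) (Fin n) F)) :
    ∃ P : Matrix.SpecialLinearGroup (Fin n) F, P⁻¹ * x * P ∈
      ((Cfsg.Geo.subalgebraNormalizer K).comap
        (Matrix.SpecialLinearGroup.toGL :
          Matrix.SpecialLinearGroup (Fin n) F →* GL (Fin n) F)) := by
  classical
  have hrq : ¬ n ∣ Fintype.card F - 1 := by
    intro h
    have h1 := (orderOf_zmod_eq_one_iff (Fintype.card F) n Fintype.card_pos).mpr h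
    rw [hord] at h1
    omega
  have hn0F : (n : F) ≠ 0 := ne_zero_of_ne p n hn hnp
  have hirr := cyclotomic_irreducible p hn hnp hord
  obtain ⟨z, hz⟩ := hx
  obtain ⟨X, hX⟩ : ∃ X : (Fin n → F) →ₗ[F] (Fin n → F),
      X = Matrix.toLin' (x : Matrix (Fin n) (Fin n) F) := ⟨_, rfl⟩
  have hXz : X ^ n = z • (1 : (Fin n → F) →ₗ[F] (Fin n → F)) := by
    rw [hX]
    exact (pow_SL_iff x n z).mp hz
  have hdetX : LinearMap.det X = 1 := by
    rw [hX]
    exact det_toLin'_SL x
  have hz1 : z = 1 := by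
    apply eq_one_of_pow_eq_one n hn hrq
    have h1 := congrArg LinearMap.det hXz
    rw [map_pow, hdetX, one_pow, LinearMap.det_smul, map_one, mul_one,
      Module.finrank_fin_fun] at h1
    exact h1.symm
  rw [hz1, one_smul] at hXz
  have hX1 : X ≠ 1 := by
    intro h
    apply hns 1
    rw [scalar_SL_iff, ← hX, h, one_smul]
  obtain ⟨φ, hφn, hφ1, hφ⟩ := exists_frob p (by omega) K hK
  obtain ⟨Q, hQ⟩ := exists_intertwine n hn hn3 (Module.finrank_fin_fun F) hn0F hirr X φ hXz hX1
    hφn hφ1
  apply conj_mem_norm K x Q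
  · intro g hg
    apply mem_normalizer_of_frob hn.pos K hK φ hφ g
    intro v
    rw [hg, ← hX, hQ]
  · intro δ _
    rw [← hX]
    exact exists_cent n hn hn3 (Module.finrank_fin_fun F) hn0F hirr X hXz hX1 δ

end main

end Cfsg.Agent.Lib.Helper15.PSing
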