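import Mathlib
import Cfsg.Agent.Lib.Helper15.PSing5

/-!
# Elements of order `n` of `SL_n(q)` not conjugate into the normaliser of a Singer cycle
-/

set_option autoImplicit false

namespace Cfsg.Agent.Lib.Helper15.PSing

open Module Submodule Polynomial Cfsg.Agent.Lib.Helper15.PSub Cfsg.Agent.Lib.Helper15.PInv
  Cfsg.Agent.Lib.Helper15.PNorm Cfsg.Agent.Lib.Helper15.PSp Cfsg.Agent.Lib.Helper15.PDec

section diag

variable {F : Type*} [Field F] {n : ℕ}

/-- a diagonal matrix with two equal diagonal entries has an eigenspace of dimension at least 2 -/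
theorem two_le_finrank_eigenspace_diagonal (d : Fin n → F) (i j : Fin n) (hij : i ≠ j) (lam : F)
    (hi : d i = lam) (hj : d j = lam) :
    2 ≤ finrank F (Module.End.eigenspace (Matrix.toLin' (Matrix.diagonal d)) lam) := by
  classical
  have hli : LinearIndependent F ![(Pi.single i 1 : Fin n → F), Pi.single j 1] := by
    rw [LinearIndependent.pair_iff]
    intro s t hst
    have h1 := congrFun hst i
    have h2 := congrFun hst j
    simp only [Pi.add_apply, Pi.smul_apply, Pi.single_eq_same, Pi.single_eq_of_ne hij,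
      Pi.single_eq_of_ne hij.symm, smul_eq_mul, mul_one, mul_zero, add_zero, zero_add,
      Pi.zero_apply] at h1 h2
    exact ⟨h1, h2⟩
  have hmem : ∀ k : Fin n, d k = lam → (Pi.single k 1 : Fin n → F) ∈
      Module.End.eigenspace (Matrix.toLin' (Matrix.diagonal d)) lam := by
    intro k hk
    rw [Module.End.mem_eigenspace_iff, Matrix.toLin'_apply, Matrix.diagonal_mulVec_single, hk,
      mul_one]
    ext l
    by_cases hl : l = k
    · rw [hl, Pi.single_eq_same, Pi.smul_apply, Pi.single_eq_same, smul_eq_mul, mul_one]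
    · rw [Pi.single_eq_of_ne hl, Pi.smul_apply, Pi.single_eq_of_ne hl, smul_zero]
  have hle : span F (Set.range ![(Pi.single i 1 : Fin n → F), Pi.single j 1]) ≤
      Module.End.eigenspace (Matrix.toLin' (Matrix.diagonal d)) lam := by
    rw [Submodule.span_le]
    rintro _ ⟨k, rfl⟩
    fin_cases k
    · exact hmem i hi
    · exact hmem j hj
  have h2 := Submodule.finrank_mono hle
  rw [finrank_span_eq_card hli, Fintype.card_fin] at h2
  exact h2

end diag

section bad

variable {F : Type*} [Field F] [Fintype F] {n : ℕ}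

/-- **Necessity** -/
theorem bad_singer (p : ℕ) [hp : Fact p.Prime] [CharP F p] (hn : n.Prime) (hn3 : 3 < n)
    (hnp : n ≠ p) (K : Subalgebra F (Matrix (Fin n) (Fin n) F))
    (hK : Cfsg.Geo.IsFieldSubalgebra n K)
    (hord : orderOf ((Fintype.card F : ℕ) : ZMod n) ≠ n - 1) :
    ∃ x : Matrix.SpecialLinearGroup (Fin n) F,
      (∃ z : F, ((x ^ n : Matrix.SpecialLinearGroup (Fin n) F) : Matrix (Fin n) (Fin n) F) =
        z • (1 : Matrix (Fin n) (Fin n) F)) ∧
      (∀ z : F, (x : Matrix (Fin n) (Fin n) F) ≠ z • (1 : Matrix (Fin n) (Fin n) F)) ∧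
      ∀ P : Matrix.SpecialLinearGroup (Fin n) F, P⁻¹ * x * P ∉
        ((Cfsg.Geo.subalgebraNormalizer K).comap
          (Matrix.SpecialLinearGroup.toGL :
            Matrix.SpecialLinearGroup (Fin n) F →* GL (Fin n) F)) := by
  classical
  have hfact : Fact n.Prime := ⟨hn⟩
  by_cases hrq : n ∣ Fintype.card F - 1
  · -- a diagonal element
    have hcu : n ∣ Nat.card Fˣ := by
      rw [Nat.card_units, Nat.card_eq_fintype_card]
      exact hrq
    obtain ⟨u, hu⟩ := exists_prime_orderOf_dvd_card' n hcu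
    obtain ⟨ζ, hζdef⟩ : ∃ ζ : F, ζ = (u : F) := ⟨_, rfl⟩
    have hζ : ζ ^ n = 1 := by
      rw [hζdef, ← Units.val_pow_eq_pow_val, ← hu, pow_orderOf_eq_one, Units.val_one]
    have hζ1 : ζ ≠ 1 := by
      rw [hζdef]
      intro h
      have h1 : u = 1 := Units.ext h
      rw [h1, orderOf_one] at hu
      exact hn.one_lt.ne' hu.symm
    have hζ0 : ζ ≠ 0 := by
      rw [hζdef]
      exact u.ne_zero
    obtain ⟨i0, hi0⟩ : ∃ i : Fin n, i = ⟨0, by omega⟩ := ⟨_, rfl⟩
    obtain ⟨i1, hi1⟩ : ∃ i : Fin n, i = ⟨1, by omega⟩ := ⟨_, rfl⟩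
    obtain ⟨i2, hi2⟩ : ∃ i : Fin n, i = ⟨2, by omega⟩ := ⟨_, rfl⟩
    obtain ⟨i3, hi3⟩ : ∃ i : Fin n, i = ⟨3, by omega⟩ := ⟨_, rfl⟩
    have h01 : i0 ≠ i1 := by rw [hi0, hi1]; intro h; exact absurd (Fin.mk.inj_iff.mp h) (by omega)
    have h02 : i0 ≠ i2 := by rw [hi0, hi2]; intro h; exact absurd (Fin.mk.inj_iff.mp h) (by omega)
    have h03 : i0 ≠ i3 := by rw [hi0, hi3]; intro h; exact absurd (Fin.mk.inj_iff.mp h) (by omega)
    have h12 : i1 ≠ i2 := by rw [hi1, hi2]; intro h; exact absurd (Fin.mk.inj_iff.mp h) (by omega)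
    have h13 : i1 ≠ i3 := by rw [hi1, hi3]; intro h; exact absurd (Fin.mk.inj_iff.mp h) (by omega)
    have h23 : i2 ≠ i3 := by rw [hi2, hi3]; intro h; exact absurd (Fin.mk.inj_iff.mp h) (by omega)
    obtain ⟨d, hd⟩ : ∃ d : Fin n → F, d = fun i => if i = i0 then ζ else if i = i1 then ζ⁻¹ else 1 :=
      ⟨_, rfl⟩
    have hd0 : d i0 = ζ := by rw [hd]; simp
    have hd1 : d i1 = ζ⁻¹ := by rw [hd]; simp [h01.symm]
    have hdo : ∀ i, i ≠ i0 ∧ i ≠ i1 → d i = 1 := by
      intro i hi
      rw [hd]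
      simp [hi.1, hi.2]
    have hdet : (Matrix.diagonal d).det = 1 := by
      rw [Matrix.det_diagonal, Fintype.prod_eq_mul i0 i1 h01 hdo, hd0, hd1, mul_inv_cancel₀ hζ0]
    have hdn : ∀ i, d i ^ n = 1 := by
      intro i
      by_cases h0 : i = i0
      · rw [h0, hd0, hζ]
      · by_cases h1 : i = i1
        · rw [h1, hd1, inv_pow, hζ, inv_one]
        · rw [hdo i ⟨h0, h1⟩, one_pow]
    refine ⟨⟨Matrix.diagonal d, hdet⟩, ⟨1, ?_⟩, ?_, ?_⟩
    · rw [one_smul]
      show (Matrix.diagonal d) ^ n = 1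
      rw [Matrix.diagonal_pow, ← Matrix.diagonal_one]
      congr 1
      funext i
      rw [Pi.pow_apply, hdn]
    · intro z hz
      change Matrix.diagonal d = z • 1 at hz
      have h1 : ∀ i, d i = z := by
        intro i
        have := congrFun (congrFun hz i) i
        rw [Matrix.diagonal_apply_eq, Matrix.smul_apply, Matrix.one_apply_eq, smul_eq_mul,
          mul_one] at this
        exact this
      apply hζ1
      rw [← hd0, h1 i0, ← h1 i2, hdo i2 ⟨h02.symm, h12.symm⟩]
    · intro P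
      apply not_conj_singer hn K hK _ _ 1 _ P
      · intro z hz
        change Matrix.diagonal d = z • 1 at hz
        have h1 : ∀ i, d i = z := by
          intro i
          have := congrFun (congrFun hz i) i
          rw [Matrix.diagonal_apply_eq, Matrix.smul_apply, Matrix.one_apply_eq, smul_eq_mul,
            mul_one] at this
          exact this
        apply hζ1
        rw [← hd0, h1 i0, ← h1 i2, hdo i2 ⟨h02.symm, h12.symm⟩]
      · exact two_le_finrank_eigenspace_diagonal d i2 i3 h23 1 (hdo i2 ⟨h02.symm, h12.symm⟩)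
          (hdo i3 ⟨h03.symm, h13.symm⟩)
  · -- a semisimple element with a big fixed space
    obtain ⟨c₀, hc₀⟩ : ∃ c₀, c₀ = orderOf ((Fintype.card F : ℕ) : ZMod n) := ⟨_, rfl⟩
    rw [← hc₀] at hord
    have hc₀pos : 0 < c₀ := by
      rw [hc₀]
      exact orderOf_pos_of_ne p n hnp
    have hq0 : ((Fintype.card F : ℕ) : ZMod n) ≠ 0 := by
      rw [Ne, ZMod.natCast_eq_zero_iff]
      obtain ⟨⟨k, _⟩, -, hk⟩ := FiniteField.card F p
      rw [hk]
      intro h
      have h1 := hn.dvd_of_dvd_pow h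
      exact hnp ((Nat.prime_dvd_prime_iff_eq hn hp.out).mp h1)
    have hdvd : c₀ ∣ n - 1 := by
      rw [hc₀]
      exact orderOf_dvd_of_pow_eq_one (ZMod.pow_card_sub_one_eq_one hq0)
    obtain ⟨t, ht⟩ := hdvd
    have ht2 : 2 ≤ t := by
      rcases t with _ | _ | t
      · rw [mul_zero] at ht
        have := hn.two_le
        omega
      · rw [zero_add, mul_one] at ht
        exact absurd ht.symm hord
      · omega
    have hc₀le : 2 * c₀ ≤ n - 1 := by
      rw [ht]
      nlinarith
    obtain ⟨y, hdet, hyr, hns, hfix⟩ := exists_bad p n hnp hrq n 1 le_rfl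
      (by rw [one_mul, ← hc₀]; omega)
    rw [one_mul, ← hc₀] at hfix
    refine ⟨toSL y hdet, ⟨1, ?_⟩, ?_, ?_⟩
    · rw [pow_SL_iff, toLin'_toSL, hyr, one_smul]
    · intro z hz
      rw [scalar_SL_iff, toLin'_toSL] at hz
      exact hns z hz
    · intro P
      apply not_conj_singer hn K hK _ _ 1 _ P
      · intro z hz
        rw [scalar_SL_iff, toLin'_toSL] at hz
        exact hns z hz
      · rw [toLin'_toSL, hfix]
        omega

end bad

end Cfsg.Agent.Lib.Helper15.PSing
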