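import Mathlib
import Cfsg.Agent.Lib.Helper15.PSing6

/-!
# Operators of order three with cube roots of unity in the field
-/

set_option autoImplicit false

namespace Cfsg.Agent.Lib.Helper15.PSing

open Module Submodule Polynomial Cfsg.Agent.Lib.Helper15.PSub Cfsg.Agent.Lib.Helper15.PInv
  Cfsg.Agent.Lib.Helper15.PNorm Cfsg.Agent.Lib.Helper15.PSp Cfsg.Agent.Lib.Helper15.PDec

section three

variable {F V : Type*} [Field F] [AddCommGroup V] [Module F V]

/-- an operator killed by `(t - α)(t - β)` with `α ≠ β` is diagonalisable -/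
theorem quad_isCompl (T : V →ₗ[F] V) (α β : F) (hαβ : α ≠ β)
    (h : ∀ v, T (T v - β • v) - α • (T v - β • v) = 0) :
    IsCompl (Module.End.eigenspace T α) (Module.End.eigenspace T β) := by
  have hd : α - β ≠ 0 := sub_ne_zero.mpr hαβ
  constructor
  · rw [Submodule.disjoint_def]
    intro v hv hv'
    rw [Module.End.mem_eigenspace_iff] at hv hv'
    have h1 : (α - β) • v = 0 := by rw [sub_smul, ← hv, ← hv', sub_self]
    exact (smul_eq_zero.mp h1).resolve_left hd
  · rw [codisjoint_iff, eq_top_iff]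
    intro v _
    have h1 : v = (α - β)⁻¹ • (T v - β • v) + (-(α - β)⁻¹) • (T v - α • v) := by
      have h2 : (α - β)⁻¹ • (T v - β • v) + (-(α - β)⁻¹) • (T v - α • v) =
          ((α - β)⁻¹ * (α - β)) • v := by module
      rw [h2, inv_mul_cancel₀ hd, one_smul]
    rw [h1]
    apply Submodule.add_mem_sup
    · apply Submodule.smul_mem
      rw [Module.End.mem_eigenspace_iff]
      exact sub_eq_zero.mp (h v)
    · apply Submodule.smul_mem
      rw [Module.End.mem_eigenspace_iff]
      have h3 := h v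
      have h4 : T (T v - α • v) - β • (T v - α • v) = T (T v - β • v) - α • (T v - β • v) := by
        simp only [map_sub, map_smul]
        module
      rw [← h4] at h3
      exact sub_eq_zero.mp h3

variable [FiniteDimensional F V]

/-- a non-scalar operator of determinant one on a 3-space is not killed by `(t - α)(t - β)` with
`α ≠ β` cube roots of unity -/
theorem no_quad (hV : finrank F V = 3) (T : V →ₗ[F] V) (hdet : LinearMap.det T = 1)
    (hns : ∀ z : F, T ≠ z • (1 : V →ₗ[F] V)) (α β : F) (hα : α ^ 3 = 1) (hβ : β ^ 3 = 1)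
    (hαβ : α ≠ β) : ∃ v, T (T v - β • v) - α • (T v - β • v) ≠ 0 := by
  by_contra hall
  have h : ∀ v, T (T v - β • v) - α • (T v - β • v) = 0 := by
    intro v
    by_contra hne
    exact hall ⟨v, hne⟩
  have hcompl := quad_isCompl T α β hαβ h
  have hsum := Submodule.finrank_add_eq_of_isCompl hcompl
  rw [hV] at hsum
  have hd := det_of_isCompl_smul T _ _ hcompl α β
    (fun z hz => Module.End.mem_eigenspace_iff.mp hz)
    (fun z hz => Module.End.mem_eigenspace_iff.mp hz)
  rw [hdet] at hd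
  have hα0 : α ≠ 0 := by
    rintro rfl
    rw [zero_pow (by norm_num)] at hα
    exact zero_ne_one hα
  have hβ0 : β ≠ 0 := by
    rintro rfl
    rw [zero_pow (by norm_num)] at hβ
    exact zero_ne_one hβ
  have hscal : ∀ (γ : F) (Z : Submodule F V), Z = ⊤ → (∀ z ∈ Z, T z = γ • z) → False := by
    intro γ Z hZ hZγ
    apply hns γ
    apply LinearMap.ext
    intro v
    rw [LinearMap.smul_apply, Module.End.one_apply]
    apply hZγ
    rw [hZ]
    trivial
  obtain ⟨a, ha⟩ : ∃ a, a = finrank F (Module.End.eigenspace T α) := ⟨_, rfl⟩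
  obtain ⟨b, hb⟩ : ∃ b, b = finrank F (Module.End.eigenspace T β) := ⟨_, rfl⟩
  rw [← ha, ← hb] at hsum hd
  have hcases : (a = 0 ∧ b = 3) ∨ (a = 1 ∧ b = 2) ∨ (a = 2 ∧ b = 1) ∨ (a = 3 ∧ b = 0) := by omega
  rcases hcases with ⟨ha0, _⟩ | ⟨ha1, hb2⟩ | ⟨ha2, hb1⟩ | ⟨_, hb0⟩
  · have hbot : Module.End.eigenspace T α = ⊥ := Submodule.finrank_eq_zero.mp (ha ▸ ha0)
    have htop : Module.End.eigenspace T β = ⊤ := by
      have := hcompl.sup_eq_top
      rw [hbot, bot_sup_eq] at this
      exact this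
    exact hscal β _ htop (fun z hz => Module.End.mem_eigenspace_iff.mp hz)
  · rw [ha1, hb2, pow_one] at hd
    apply hαβ
    have : β = α * β ^ 3 := by
      have h3 : α * β ^ 3 = (α * β ^ 2) * β := by ring
      rw [h3, ← hd, one_mul]
    rw [this, hβ, mul_one]
  · rw [ha2, hb1, pow_one] at hd
    apply hαβ
    have : α = α ^ 3 * β := by
      have h3 : α ^ 3 * β = (α ^ 2 * β) * α := by ring
      rw [h3, ← hd, one_mul]
    rw [this, hα, one_mul]
  · have hbot : Module.End.eigenspace T β = ⊥ := Submodule.finrank_eq_zero.mp (hb ▸ hb0)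
    have htop : Module.End.eigenspace T α = ⊤ := by
      have := hcompl.sup_eq_top
      rw [hbot, sup_bot_eq] at this
      exact this
    exact hscal α _ htop (fun z hz => Module.End.mem_eigenspace_iff.mp hz)

omit [FiniteDimensional F V] in
/-- an eigenbasis for an operator of order three not killed by a quadratic -/
theorem eigenbasis3 (hV : finrank F V = 3) (T : V →ₗ[F] V) (hT : T ^ 3 = 1) (ω : F)
    (hω : ω ^ 2 + ω + 1 = 0) (hω1 : ω ≠ 1)
    (h : ∀ α β : F, α ^ 3 = 1 → β ^ 3 = 1 → α ≠ β →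
      ∃ v, T (T v - β • v) - α • (T v - β • v) ≠ 0) :
    ∃ b : Basis (Fin 3) F V, ∀ j : Fin 3, T (b j) = ω ^ (j : ℕ) • b j := by
  classical
  have hω3 : ω ^ 3 = 1 := by linear_combination (ω - 1) * hω
  have hω0 : ω ≠ 0 := by
    rintro rfl
    rw [zero_pow (by norm_num)] at hω3
    exact zero_ne_one hω3
  have hω2 : ω ^ 2 ≠ 1 := by
    intro h2
    apply hω1
    have h3 : ω ^ 3 = ω ^ 2 * ω := by ring
    rw [h2, one_mul] at h3
    rw [← h3]
    exact hω3
  have hω21 : ω ^ 2 ≠ ω := by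
    intro h2
    apply hω1
    have h3 : ω * ω = ω * 1 := by rw [mul_one, ← pow_two, h2]
    exact mul_left_cancel₀ hω0 h3
  have hT3 : ∀ v, T (T (T v)) = v := by
    intro v
    have := LinearMap.congr_fun hT v
    rw [pow_succ, pow_succ, pow_one, Module.End.mul_apply, Module.End.mul_apply,
      Module.End.one_apply] at this
    exact this
  -- eigenvectors
  have hev : ∀ (α β γ : F), α ^ 3 = 1 → β ^ 3 = 1 → α ≠ β → α + β + γ = 0 →
      α * β + β * γ + γ * α = 0 → α * β * γ = 1 → ∃ u, u ≠ 0 ∧ T u = γ • u := by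
    intro α β γ hα hβ hαβ e1 e2 e3
    obtain ⟨v, hv⟩ := h α β hα hβ hαβ
    refine ⟨_, hv, ?_⟩
    simp only [map_sub, map_smul]
    rw [← sub_eq_zero]
    have key : T (T (T v)) - β • T (T v) - α • (T (T v) - β • T v) -
        γ • (T (T v) - β • T v - α • (T v - β • v)) =
        (T (T (T v)) - v) - (α + β + γ) • T (T v) + (α * β + β * γ + γ * α) • T v -
          (α * β * γ - 1) • v := by
      module
    rw [key, e1, e2, e3, hT3]
    simp
  have hω6 : (ω ^ 2) ^ 3 = 1 := by rw [← pow_mul, pow_mul', hω3, one_pow]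
  obtain ⟨u0, hu0, hTu0⟩ := hev ω (ω ^ 2) 1 hω3 hω6 (Ne.symm hω21)
    (by linear_combination hω) (by linear_combination ω * hω)
    (by linear_combination (ω - 1) * hω)
  obtain ⟨u1, hu1, hTu1⟩ := hev 1 (ω ^ 2) ω (one_pow 3) hω6 (Ne.symm hω2)
    (by linear_combination hω) (by linear_combination ω * hω)
    (by linear_combination (ω - 1) * hω)
  obtain ⟨u2, hu2, hTu2⟩ := hev 1 ω (ω ^ 2) (one_pow 3) hω3 (Ne.symm hω1)
    (by linear_combination hω) (by linear_combination ω * hω)
    (by linear_combination (ω - 1) * hω)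
  obtain ⟨u, hudef⟩ : ∃ u : Fin 3 → V, u = ![u0, u1, u2] := ⟨_, rfl⟩
  have hTu : ∀ j : Fin 3, T (u j) = ω ^ (j : ℕ) • u j := by
    intro j
    rw [hudef]
    fin_cases j
    · show T u0 = ω ^ 0 • u0
      rw [pow_zero]
      exact hTu0
    · show T u1 = ω ^ 1 • u1
      rw [pow_one]
      exact hTu1
    · exact hTu2
  have hune : ∀ j : Fin 3, u j ≠ 0 := by
    intro j
    rw [hudef]
    fin_cases j
    · exact hu0
    · exact hu1
    · exact hu2
  have hinj : Function.Injective (fun j : Fin 3 => ω ^ (j : ℕ)) := by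
    intro i j hij
    fin_cases i <;> fin_cases j
    · rfl
    · exfalso
      change ω ^ 0 = ω ^ 1 at hij
      rw [pow_zero, pow_one] at hij
      exact hω1 hij.symm
    · exfalso
      change ω ^ 0 = ω ^ 2 at hij
      rw [pow_zero] at hij
      exact hω2 hij.symm
    · exfalso
      change ω ^ 1 = ω ^ 0 at hij
      rw [pow_zero, pow_one] at hij
      exact hω1 hij
    · rfl
    · exfalso
      change ω ^ 1 = ω ^ 2 at hij
      rw [pow_one] at hij
      exact hω21 hij.symm
    · exfalso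
      change ω ^ 2 = ω ^ 0 at hij
      rw [pow_zero] at hij
      exact hω2 hij
    · exfalso
      change ω ^ 2 = ω ^ 1 at hij
      rw [pow_one] at hij
      exact hω21 hij
    · rfl
  have hli : LinearIndependent F u :=
    Module.End.eigenvectors_linearIndependent' T (fun j : Fin 3 => ω ^ (j : ℕ)) hinj u
      (fun j => ⟨Module.End.mem_eigenspace_iff.mpr (hTu j), hune j⟩)
  have hcard : Fintype.card (Fin 3) = finrank F V := by rw [Fintype.card_fin, hV]
  refine ⟨basisOfLinearIndependentOfCardEqFinrank hli hcard, fun j => ?_⟩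
  rw [coe_basisOfLinearIndependentOfCardEqFinrank]
  exact hTu j

omit [FiniteDimensional F V] in
/-- two operators with eigenbases for `1, ω, ω²` are conjugate -/
theorem intertwine3 (T T' : V →ₗ[F] V) (ω : F) (b b' : Basis (Fin 3) F V)
    (hb : ∀ j : Fin 3, T (b j) = ω ^ (j : ℕ) • b j)
    (hb' : ∀ j : Fin 3, T' (b' j) = ω ^ (j : ℕ) • b' j) :
    ∃ Q : V ≃ₗ[F] V, ∀ v, Q.symm (T (Q v)) = T' v := by
  obtain ⟨Q, hQ⟩ : ∃ Q : V ≃ₗ[F] V, ∀ i, Q (b' i) = b i :=
    ⟨b'.equiv b (Equiv.refl _), fun i => by rw [Basis.equiv_apply]; rfl⟩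
  refine ⟨Q, fun v => ?_⟩
  rw [LinearEquiv.symm_apply_eq]
  have hcomp : (T ∘ₗ (Q : V →ₗ[F] V)) = (Q : V →ₗ[F] V) ∘ₗ T' := by
    apply b'.ext
    intro i
    show T (Q (b' i)) = Q (T' (b' i))
    rw [hQ, hb, hb', map_smul, hQ]
  exact LinearMap.congr_fun hcomp v

omit [FiniteDimensional F V] in
/-- the centraliser of such an operator has all determinants -/
theorem cent3 (T : V →ₗ[F] V) (ω : F) (b : Basis (Fin 3) F V)
    (hb : ∀ j : Fin 3, T (b j) = ω ^ (j : ℕ) • b j) (δ : F) :
    ∃ C : V →ₗ[F] V, C ∘ₗ T = T ∘ₗ C ∧ LinearMap.det C = δ := by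
  classical
  obtain ⟨d, hd⟩ : ∃ d : Fin 3 → F, d = ![δ, 1, 1] := ⟨_, rfl⟩
  obtain ⟨C, hC⟩ : ∃ C : V →ₗ[F] V, C = Matrix.toLin b b (Matrix.diagonal d) := ⟨_, rfl⟩
  have hCb : ∀ j, C (b j) = d j • b j := by
    intro j
    rw [hC, Matrix.toLin_self, Finset.sum_eq_single j]
    · rw [Matrix.diagonal_apply_eq]
    · intro i _ hij
      rw [Matrix.diagonal_apply_ne _ hij, zero_smul]
    · intro h
      exact absurd (Finset.mem_univ j) h
  refine ⟨C, ?_, ?_⟩
  · apply b.ext
    intro j
    show C (T (b j)) = T (C (b j))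
    rw [hb, map_smul, hCb, map_smul, hb, smul_comm]
  · rw [hC, LinearMap.det_toLin, Matrix.det_diagonal, Fin.prod_univ_three, hd]
    simp

end three

end Cfsg.Agent.Lib.Helper15.PSing
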