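import Mathlib
import Cfsg.Agent.Lib.Helper15.PSing7
import Cfsg.Agent.Lib.Helper3.CardSL

/-!
# `SL_3(q)` and the normaliser of a Singer cycle: the bad elements
-/

set_option autoImplicit false

namespace Cfsg.Agent.Lib.Helper15.PSing

open Module Submodule Polynomial Cfsg.Agent.Lib.Helper15.PSub Cfsg.Agent.Lib.Helper15.PInv
  Cfsg.Agent.Lib.Helper15.PNorm Cfsg.Agent.Lib.Helper15.PSp Cfsg.Agent.Lib.Helper15.PDec

section gen

variable {F : Type*} [Field F] {n : ℕ}

/-- eigenspaces of non-scalar elements of the normaliser have dimension at most one -/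
theorem finrank_eigenspace_le_one (hn : n.Prime) (K : Subalgebra F (Matrix (Fin n) (Fin n) F))
    (hK : Cfsg.Geo.IsFieldSubalgebra n K) (g : GL (Fin n) F)
    (hg : g ∈ Cfsg.Geo.subalgebraNormalizer K)
    (hns : ∀ c : F, (g : Matrix (Fin n) (Fin n) F) ≠ c • (1 : Matrix (Fin n) (Fin n) F))
    (lam : F) :
    finrank F (Module.End.eigenspace (Matrix.toLin' (g : Matrix (Fin n) (Fin n) F)) lam) ≤ 1 := by
  classical
  by_cases hne : Module.End.eigenspace (Matrix.toLin' (g : Matrix (Fin n) (Fin n) F)) lam = ⊥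
  · rw [hne, finrank_bot]
    exact Nat.zero_le 1
  · obtain ⟨v, hvE, hv0⟩ := Submodule.exists_mem_ne_zero_of_ne_bot hne
    apply finrank_le_one (⟨v, hvE⟩ : Module.End.eigenspace
      (Matrix.toLin' (g : Matrix (Fin n) (Fin n) F)) lam)
    intro w
    have hv' := Module.End.mem_eigenspace_iff.mp hvE
    have hw' := Module.End.mem_eigenspace_iff.mp w.2
    rw [Matrix.toLin'_apply] at hv' hw'
    obtain ⟨c, hc⟩ := eigen_le_one hn K hK g hg hns lam v w.1 hv' hw' hv0
    refine ⟨c, ?_⟩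
    apply Subtype.ext
    exact hc.symm

/-- two fixed coordinate vectors give an eigenspace of dimension at least two -/
theorem two_le_finrank_eigenspace_of_single (X : (Fin n → F) →ₗ[F] (Fin n → F)) (i j : Fin n)
    (hij : i ≠ j) (lam : F) (hi : X (Pi.single i 1) = lam • Pi.single i 1)
    (hj : X (Pi.single j 1) = lam • Pi.single j 1) :
    2 ≤ finrank F (Module.End.eigenspace X lam) := by
  classical
  have hli : LinearIndependent F ![(Pi.single i 1 : Fin n → F), Pi.single j 1] := by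
    rw [LinearIndependent.pair_iff]
    intro s t hst
    have h1 := congrFun hst i
    have h2 := congrFun hst j
    simp only [Pi.add_apply, Pi.smul_apply, Pi.single_eq_same, Pi.single_eq_of_ne hij,
      Pi.single_eq_of_ne hij.symm, smul_eq_mul, mul_one, mul_zero, add_zero, zero_add,
      Pi.zero_apply] at h1 h2
    exact ⟨h1, h2⟩
  have hle : span F (Set.range ![(Pi.single i 1 : Fin n → F), Pi.single j 1]) ≤
      Module.End.eigenspace X lam := by
    rw [Submodule.span_le]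
    rintro _ ⟨k, rfl⟩
    fin_cases k
    · exact Module.End.mem_eigenspace_iff.mpr hi
    · exact Module.End.mem_eigenspace_iff.mpr hj
  have h2 := Submodule.finrank_mono hle
  rw [finrank_span_eq_card hli, Fintype.card_fin] at h2
  exact h2

end gen

section bad3

variable {F : Type*} [Field F] [Fintype F]

omit [Fintype F] in
/-- characteristic three: a transvection -/
theorem bad3_char3 [CharP F 3] (K : Subalgebra F (Matrix (Fin 3) (Fin 3) F))
    (hK : Cfsg.Geo.IsFieldSubalgebra 3 K) :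
    ∃ x : Matrix.SpecialLinearGroup (Fin 3) F,
      (∃ z : F, ((x ^ 3 : Matrix.SpecialLinearGroup (Fin 3) F) : Matrix (Fin 3) (Fin 3) F) =
        z • (1 : Matrix (Fin 3) (Fin 3) F)) ∧
      (∀ z : F, (x : Matrix (Fin 3) (Fin 3) F) ≠ z • (1 : Matrix (Fin 3) (Fin 3) F)) ∧
      ∀ P : Matrix.SpecialLinearGroup (Fin 3) F, P⁻¹ * x * P ∉
        ((Cfsg.Geo.subalgebraNormalizer K).comap
          (Matrix.SpecialLinearGroup.toGL :
            Matrix.SpecialLinearGroup (Fin 3) F →* GL (Fin 3) F)) := by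
  classical
  have h01 : (0 : Fin 3) ≠ 1 := by decide
  have h02 : (0 : Fin 3) ≠ 2 := by decide
  have h12 : (1 : Fin 3) ≠ 2 := by decide
  obtain ⟨M, hM⟩ : ∃ M : Matrix (Fin 3) (Fin 3) F, M = Matrix.transvection 0 1 1 := ⟨_, rfl⟩
  have hdet : M.det = 1 := by
    rw [hM, Matrix.det_transvection_of_ne 0 1 h01]
  have hMv : ∀ u : Fin 3 → F, M.mulVec u = u + (u 1) • Pi.single 0 (1 : F) := by
    intro u
    rw [hM, Matrix.transvection, Matrix.add_mulVec, Matrix.one_mulVec, Matrix.single_mulVec_eq,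
      one_mul]
  have hM3 : M ^ 3 = 1 := by
    have h3 : (3 : F) = 0 := by
      have := CharP.cast_eq_zero F 3
      exact_mod_cast this
    rw [pow_succ, pow_succ, pow_one, hM, Matrix.transvection_mul_transvection_same 0 1 h01,
      Matrix.transvection_mul_transvection_same 0 1 h01]
    have h4 : (1 : F) + 1 + 1 = 0 := by rw [← h3]; norm_num
    rw [h4, Matrix.transvection_zero]
  have hns : ∀ z : F, M ≠ z • (1 : Matrix (Fin 3) (Fin 3) F) := by
    intro z hz
    have h1 : M 0 1 = 1 := by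
      rw [hM, Matrix.transvection, Matrix.add_apply, Matrix.one_apply_ne h01,
        Matrix.single_apply_same, zero_add]
    rw [hz, Matrix.smul_apply, Matrix.one_apply_ne h01, smul_zero] at h1
    exact zero_ne_one h1
  refine ⟨⟨M, hdet⟩, ⟨1, ?_⟩, hns, ?_⟩
  · rw [one_smul]
    exact hM3
  · intro P
    apply not_conj_singer Nat.prime_three K hK _ hns 1 _ P
    apply two_le_finrank_eigenspace_of_single _ 0 2 h02 1
    · show Matrix.toLin' M (Pi.single 0 1) = (1 : F) • Pi.single 0 1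
      rw [Matrix.toLin'_apply, hMv, Pi.single_eq_of_ne h01.symm, zero_smul, add_zero, one_smul]
    · show Matrix.toLin' M (Pi.single 2 1) = (1 : F) • Pi.single 2 1
      rw [Matrix.toLin'_apply, hMv, Pi.single_eq_of_ne h12, zero_smul, add_zero, one_smul]

/-- `9 ∣ q - 1`: the element `diag(η, η, η⁻²)` -/
theorem bad3_nine (h9 : 9 ∣ Fintype.card F - 1) (K : Subalgebra F (Matrix (Fin 3) (Fin 3) F))
    (hK : Cfsg.Geo.IsFieldSubalgebra 3 K) :
    ∃ x : Matrix.SpecialLinearGroup (Fin 3) F,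
      (∃ z : F, ((x ^ 3 : Matrix.SpecialLinearGroup (Fin 3) F) : Matrix (Fin 3) (Fin 3) F) =
        z • (1 : Matrix (Fin 3) (Fin 3) F)) ∧
      (∀ z : F, (x : Matrix (Fin 3) (Fin 3) F) ≠ z • (1 : Matrix (Fin 3) (Fin 3) F)) ∧
      ∀ P : Matrix.SpecialLinearGroup (Fin 3) F, P⁻¹ * x * P ∉
        ((Cfsg.Geo.subalgebraNormalizer K).comap
          (Matrix.SpecialLinearGroup.toGL :
            Matrix.SpecialLinearGroup (Fin 3) F →* GL (Fin 3) F)) := by
  classical
  obtain ⟨g, hg, -⟩ := Cfsg.Agent.Lib.Helper15.PSub.exists_gen (F := F)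
  obtain ⟨t, ht⟩ := h9
  have hq1 : 0 < Fintype.card F - 1 := by
    have := Fintype.one_lt_card (α := F)
    omega
  have ht0 : 0 < t := by
    rcases t with _ | t
    · rw [mul_zero] at ht
      omega
    · omega
  obtain ⟨η, hηdef⟩ : ∃ η : F, η = ((g ^ t : Fˣ) : F) := ⟨_, rfl⟩
  have hη9 : η ^ 9 = 1 := by
    rw [hηdef, ← Units.val_pow_eq_pow_val, ← pow_mul, mul_comm, ← ht, ← hg, pow_orderOf_eq_one,
      Units.val_one]
  have hη3 : η ^ 3 ≠ 1 := by
    rw [hηdef, ← Units.val_pow_eq_pow_val, ← pow_mul]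
    intro h
    have h1 : g ^ (t * 3) = 1 := Units.ext h
    have h2 : t * 3 < orderOf g := by rw [hg, ht]; omega
    exact pow_ne_one_of_lt_orderOf (by omega) h2 h1
  have hη0 : η ≠ 0 := by
    rw [hηdef]
    exact Units.ne_zero _
  obtain ⟨d, hd⟩ : ∃ d : Fin 3 → F, d = ![η, η, (η⁻¹) ^ 2] := ⟨_, rfl⟩
  have hdet : (Matrix.diagonal d).det = 1 := by
    rw [Matrix.det_diagonal, Fin.prod_univ_three, hd]
    show η * η * (η⁻¹) ^ 2 = 1
    rw [inv_pow, ← pow_two, mul_inv_cancel₀ (pow_ne_zero 2 hη0)]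
  have hinv6 : ((η⁻¹) ^ 2) ^ 3 = η ^ 3 := by
    have h1 : ((η⁻¹) ^ 2) ^ 3 * η ^ 6 = 1 := by
      rw [← pow_mul, inv_pow, inv_mul_cancel₀ (pow_ne_zero 6 hη0)]
    have h2 : η ^ 3 * η ^ 6 = 1 := by rw [← pow_add]; exact hη9
    exact mul_right_cancel₀ (pow_ne_zero 6 hη0) (h1.trans h2.symm)
  have hns : ∀ z : F, Matrix.diagonal d ≠ z • (1 : Matrix (Fin 3) (Fin 3) F) := by
    intro z hz
    have h1 : ∀ i, d i = z := by
      intro i
      have := congrFun (congrFun hz i) i
      rw [Matrix.diagonal_apply_eq, Matrix.smul_apply, Matrix.one_apply_eq, smul_eq_mul,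
        mul_one] at this
      exact this
    have h2 : d 0 = d 2 := by rw [h1 0, h1 2]
    rw [hd] at h2
    change η = (η⁻¹) ^ 2 at h2
    apply hη3
    calc η ^ 3 = η * η ^ 2 := by ring
      _ = (η⁻¹) ^ 2 * η ^ 2 := by rw [← h2]
      _ = 1 := by rw [inv_pow, inv_mul_cancel₀ (pow_ne_zero 2 hη0)]
  refine ⟨⟨Matrix.diagonal d, hdet⟩, ⟨η ^ 3, ?_⟩, hns, ?_⟩
  · show (Matrix.diagonal d) ^ 3 = η ^ 3 • (1 : Matrix (Fin 3) (Fin 3) F)
    rw [Matrix.diagonal_pow, ← Matrix.diagonal_one, ← Matrix.diagonal_smul]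
    congr 1
    funext i
    rw [hd]
    fin_cases i
    · show η ^ 3 = η ^ 3 • (1 : F)
      rw [smul_eq_mul, mul_one]
    · show η ^ 3 = η ^ 3 • (1 : F)
      rw [smul_eq_mul, mul_one]
    · show ((η⁻¹) ^ 2) ^ 3 = η ^ 3 • (1 : F)
      rw [smul_eq_mul, mul_one, hinv6]
  · intro P
    apply not_conj_singer Nat.prime_three K hK _ hns η _ P
    exact two_le_finrank_eigenspace_diagonal d 0 1 (by decide) η (by rw [hd]; rfl)
      (by rw [hd]; rfl)

end bad3

end Cfsg.Agent.Lib.Helper15.PSing
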