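import Mathlib
import Cfsg.Agent.Lib.Helper15.PSing8

/-!
# `SL_3(q)` and the normaliser of a Singer cycle: counting and the good case `q ≡ 4, 7 mod 9`
-/

set_option autoImplicit false

namespace Cfsg.Agent.Lib.Helper15.PSing

open Module Submodule Polynomial Cfsg.Agent.Lib.Helper15.PSub Cfsg.Agent.Lib.Helper15.PInv
  Cfsg.Agent.Lib.Helper15.PNorm Cfsg.Agent.Lib.Helper15.PSp Cfsg.Agent.Lib.Helper15.PDec

section count

theorem card_SL3 {F : Type*} [Field F] [Fintype F] (m : ℕ) (hm : Fintype.card F = m + 1) :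
    Nat.card (Matrix.SpecialLinearGroup (Fin 3) F) =
      m ^ 2 * (m + 1) ^ 3 * (m + 2) * (m ^ 2 + 3 * m + 3) := by
  have hSL := Cfsg.Agent.Lib.Helper3.CardSL.card_GL_eq_card_SL_mul (F := F) 3 (by omega)
  rw [Matrix.card_GL_field, Nat.card_units, Nat.card_eq_fintype_card (α := F)] at hSL
  rw [Fin.prod_univ_three, hm] at hSL
  simp only [Fin.val_zero, Fin.val_one, Fin.val_two, pow_zero, pow_one, Nat.add_sub_cancel] at hSL
  have hm0 : 0 < m := by
    have := Fintype.one_lt_card (α := F)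
    omega
  have e1 : (m + 1) ^ 3 - 1 = m * (m ^ 2 + 3 * m + 3) := by
    have : (m + 1) ^ 3 = m * (m ^ 2 + 3 * m + 3) + 1 := by ring
    omega
  have e2 : (m + 1) ^ 3 - (m + 1) = m * ((m + 1) * (m + 2)) := by
    have : (m + 1) ^ 3 = m * ((m + 1) * (m + 2)) + (m + 1) := by ring
    omega
  have e3 : (m + 1) ^ 3 - (m + 1) ^ 2 = m * (m + 1) ^ 2 := by
    have : (m + 1) ^ 3 = m * (m + 1) ^ 2 + (m + 1) ^ 2 := by ring
    omega
  rw [e1, e2, e3] at hSL
  have h2 : (m ^ 2 * (m + 1) ^ 3 * (m + 2) * (m ^ 2 + 3 * m + 3)) * m =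
      Nat.card (Matrix.SpecialLinearGroup (Fin 3) F) * m := by
    rw [← hSL]
    ring
  exact (Nat.eq_of_mul_eq_mul_right hm0 h2).symm

theorem not_nine_dvd (m : ℕ) (hm : m % 9 = 1 ∨ m % 9 = 4) :
    ¬ 9 ∣ m ^ 2 * (m + 1) ^ 3 * (m + 2) * (m ^ 2 + 3 * m + 3) := by
  intro h
  have h1 := Nat.mod_eq_zero_of_dvd h
  rcases hm with hm | hm
  · have : (m ^ 2 * (m + 1) ^ 3 * (m + 2) * (m ^ 2 + 3 * m + 3)) % 9 = 6 := by
      simp [Nat.mul_mod, Nat.add_mod, Nat.pow_mod, hm]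
    omega
  · have : (m ^ 2 * (m + 1) ^ 3 * (m + 2) * (m ^ 2 + 3 * m + 3)) % 9 = 3 := by
      simp [Nat.mul_mod, Nat.add_mod, Nat.pow_mod, hm]
    omega

variable {F : Type*} [Field F] [Fintype F]

/-- `q ≡ 2, 5 mod 9`: the hypotheses are contradictory -/
theorem count3 (p : ℕ) [hp : Fact p.Prime] [CharP F p]
    (K : Subalgebra F (Matrix (Fin 3) (Fin 3) F))
    (hq : Fintype.card F % 9 = 2 ∨ Fintype.card F % 9 = 5)
    (hΩ : 3 ∣ ((Cfsg.Geo.subalgebraNormalizer K).comap (Matrix.SpecialLinearGroup.toGL :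
      Matrix.SpecialLinearGroup (Fin 3) F →* GL (Fin 3) F)).index)
    (hall : ∀ x : Matrix.SpecialLinearGroup (Fin 3) F,
      (∃ z : F, ((x ^ 3 : Matrix.SpecialLinearGroup (Fin 3) F) : Matrix (Fin 3) (Fin 3) F) =
        z • (1 : Matrix (Fin 3) (Fin 3) F)) →
      (∀ z : F, (x : Matrix (Fin 3) (Fin 3) F) ≠ z • (1 : Matrix (Fin 3) (Fin 3) F)) →
      ∃ P : Matrix.SpecialLinearGroup (Fin 3) F, P⁻¹ * x * P ∈
        ((Cfsg.Geo.subalgebraNormalizer K).comap (Matrix.SpecialLinearGroup.toGL :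
          Matrix.SpecialLinearGroup (Fin 3) F →* GL (Fin 3) F))) : False := by
  classical
  have hf3 : Fact (Nat.Prime 3) := ⟨Nat.prime_three⟩
  have hq3 : Fintype.card F % 3 = 2 := by omega
  have hp3 : 3 ≠ p := by
    intro h
    obtain ⟨⟨k, hk0⟩, -, hk⟩ := FiniteField.card F p
    rw [← h] at hk
    have h1 : 3 ∣ Fintype.card F := by
      rw [hk]
      exact dvd_pow_self 3 (by exact_mod_cast hk0.ne')
    omega
  have hrq : ¬ 3 ∣ Fintype.card F - 1 := by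
    have := Fintype.one_lt_card (α := F)
    omega
  have hq0 : ((Fintype.card F : ℕ) : ZMod 3) ≠ 0 := by
    rw [Ne, ZMod.natCast_eq_zero_iff]
    omega
  have hord : orderOf ((Fintype.card F : ℕ) : ZMod 3) ≤ 2 := by
    apply Nat.le_of_dvd (by norm_num)
    exact orderOf_dvd_of_pow_eq_one (ZMod.pow_card_sub_one_eq_one hq0)
  obtain ⟨y, hdet, hyr, hns, -⟩ := exists_bad p 3 hp3 hrq 3 1 le_rfl (by omega)
  obtain ⟨P, hP⟩ := hall (toSL y hdet) ⟨1, by rw [pow_SL_iff, toLin'_toSL, hyr, one_smul]⟩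
    (fun z hz => by
      rw [scalar_SL_iff, toLin'_toSL] at hz
      exact hns z hz)
  obtain ⟨x, hx⟩ : ∃ x : Matrix.SpecialLinearGroup (Fin 3) F, x = toSL y hdet := ⟨_, rfl⟩
  rw [← hx] at hP
  have hx3 : x ^ 3 = 1 := by
    apply Subtype.ext
    have h1 : ((x ^ 3 : Matrix.SpecialLinearGroup (Fin 3) F) : Matrix (Fin 3) (Fin 3) F) =
        (1 : F) • (1 : Matrix (Fin 3) (Fin 3) F) := by
      rw [pow_SL_iff, hx, toLin'_toSL, hyr, one_smul]
    rw [one_smul] at h1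
    exact h1
  have hx1 : x ≠ 1 := by
    intro h
    apply hns 1
    have h2 := (scalar_SL_iff x 1).mp (by rw [h, one_smul]; rfl)
    rw [hx, toLin'_toSL] at h2
    exact h2
  obtain ⟨H, hH⟩ : ∃ H : Subgroup (Matrix.SpecialLinearGroup (Fin 3) F),
      H = (Cfsg.Geo.subalgebraNormalizer K).comap (Matrix.SpecialLinearGroup.toGL :
        Matrix.SpecialLinearGroup (Fin 3) F →* GL (Fin 3) F) := ⟨_, rfl⟩
  rw [← hH] at hP hΩ
  have hh3 : (P⁻¹ * x * P) ^ 3 = 1 := by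
    have h0 : P⁻¹ * x * P = P⁻¹ * x * (P⁻¹)⁻¹ := by rw [inv_inv]
    rw [h0, conj_pow, hx3, mul_one, mul_inv_cancel]
  have hh1 : P⁻¹ * x * P ≠ 1 := by
    intro h
    apply hx1
    have : x = P * (P⁻¹ * x * P) * P⁻¹ := by group
    rw [this, h]
    group
  have hord3 : orderOf (⟨P⁻¹ * x * P, hP⟩ : H) = 3 := by
    apply orderOf_eq_prime
    · apply Subtype.ext
      exact hh3
    · intro h
      exact hh1 (congrArg Subtype.val h)
  have h3H : 3 ∣ Nat.card H := by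
    have h0 := orderOf_dvd_natCard (⟨P⁻¹ * x * P, hP⟩ : H)
    rw [hord3] at h0
    exact h0
  have h9 : 9 ∣ Nat.card (Matrix.SpecialLinearGroup (Fin 3) F) := by
    rw [← Subgroup.index_mul_card H]
    exact Nat.mul_dvd_mul hΩ h3H
  obtain ⟨m, hm⟩ : ∃ m, Fintype.card F = m + 1 := by
    have := Fintype.one_lt_card (α := F)
    exact ⟨Fintype.card F - 1, by omega⟩
  rw [card_SL3 m hm] at h9
  exact not_nine_dvd m (by omega) h9

end count

end Cfsg.Agent.Lib.Helper15.PSing
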