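import Mathlib
import Cfsg.Agent.Lib.Helper15.PSing9

/-!
# `SL_3(q)` and the normaliser of a Singer cycle: the good case `q ≡ 4, 7 mod 9`
-/

set_option autoImplicit false

namespace Cfsg.Agent.Lib.Helper15.PSing

open Module Submodule Polynomial Cfsg.Agent.Lib.Helper15.PSub Cfsg.Agent.Lib.Helper15.PInv
  Cfsg.Agent.Lib.Helper15.PNorm Cfsg.Agent.Lib.Helper15.PSp Cfsg.Agent.Lib.Helper15.PDec

section good

variable {F : Type*} [Field F] [Fintype F]

theorem good3_one (p : ℕ) [hp : Fact p.Prime] [CharP F p]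
    (K : Subalgebra F (Matrix (Fin 3) (Fin 3) F)) (hK : Cfsg.Geo.IsFieldSubalgebra 3 K)
    (h3 : 3 ∣ Fintype.card F - 1) (h9 : ¬ 9 ∣ Fintype.card F - 1)
    (x : Matrix.SpecialLinearGroup (Fin 3) F)
    (hx : ∃ z : F, ((x ^ 3 : Matrix.SpecialLinearGroup (Fin 3) F) : Matrix (Fin 3) (Fin 3) F) =
      z • (1 : Matrix (Fin 3) (Fin 3) F))
    (hns : ∀ z : F, (x : Matrix (Fin 3) (Fin 3) F) ≠ z • (1 : Matrix (Fin 3) (Fin 3) F)) :
    ∃ P : Matrix.SpecialLinearGroup (Fin 3) F, P⁻¹ * x * P ∈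
      ((Cfsg.Geo.subalgebraNormalizer K).comap
        (Matrix.SpecialLinearGroup.toGL :
          Matrix.SpecialLinearGroup (Fin 3) F →* GL (Fin 3) F)) := by
  classical
  have hf3 : Fact (Nat.Prime 3) := ⟨Nat.prime_three⟩
  have hV : finrank F (Fin 3 → F) = 3 := Module.finrank_fin_fun F
  -- the cube root of unity
  have hcu : 3 ∣ Nat.card Fˣ := by
    rw [Nat.card_units, Nat.card_eq_fintype_card]
    exact h3
  obtain ⟨u, hu⟩ := exists_prime_orderOf_dvd_card' 3 hcu
  obtain ⟨ω, hωdef⟩ : ∃ ω : F, ω = (u : F) := ⟨_, rfl⟩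
  have hω3 : ω ^ 3 = 1 := by
    have h0 : u ^ 3 = 1 := by
      have := pow_orderOf_eq_one u
      rw [hu] at this
      exact this
    rw [hωdef, ← Units.val_pow_eq_pow_val, h0, Units.val_one]
  have hω1 : ω ≠ 1 := by
    rw [hωdef]
    intro h
    have h1 : u = 1 := Units.ext h
    rw [h1, orderOf_one] at hu
    norm_num at hu
  have hω : ω ^ 2 + ω + 1 = 0 := by
    have h1 : (ω - 1) * (ω ^ 2 + ω + 1) = 0 := by linear_combination hω3
    exact (mul_eq_zero.mp h1).resolve_left (sub_ne_zero.mpr hω1)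
  -- the element `x`
  obtain ⟨z, hz⟩ := hx
  obtain ⟨X, hX⟩ : ∃ X : (Fin 3 → F) →ₗ[F] (Fin 3 → F),
      X = Matrix.toLin' (x : Matrix (Fin 3) (Fin 3) F) := ⟨_, rfl⟩
  have hXz : X ^ 3 = z • (1 : (Fin 3 → F) →ₗ[F] (Fin 3 → F)) := by
    rw [hX]
    exact (pow_SL_iff x 3 z).mp hz
  have hdetX : LinearMap.det X = 1 := by
    rw [hX]
    exact det_toLin'_SL x
  have hz3 : z ^ 3 = 1 := by
    have h1 := congrArg LinearMap.det hXz
    rw [map_pow, hdetX, one_pow, LinearMap.det_smul, map_one, mul_one, hV] at h1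
    exact h1.symm
  have hz1 : z = 1 := by
    by_contra hne
    have hc : ∀ b : F, b ^ 3 ≠ z := by
      intro b hb
      have hb0 : b ≠ 0 := by
        rintro rfl
        rw [zero_pow (by norm_num)] at hb
        rw [← hb, zero_pow (by norm_num)] at hz3
        exact zero_ne_one hz3
      have hb9 : (Units.mk0 b hb0) ^ 9 = 1 := by
        apply Units.ext
        rw [Units.val_pow_eq_pow_val, Units.val_mk0, Units.val_one]
        have : b ^ 9 = (b ^ 3) ^ 3 := by ring
        rw [this, hb, hz3]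
      have hdvd : orderOf (Units.mk0 b hb0) ∣ 3 ^ 2 := orderOf_dvd_of_pow_eq_one hb9
      obtain ⟨k, hk2, hk⟩ := (Nat.dvd_prime_pow Nat.prime_three).mp hdvd
      have hk' : k = 2 ∨ k ≤ 1 := by omega
      rcases hk' with hk' | hk'
      · apply h9
        have h0 := orderOf_dvd_natCard (Units.mk0 b hb0)
        rw [hk, hk', Nat.card_units, Nat.card_eq_fintype_card] at h0
        exact h0
      · apply hne
        have h4 : orderOf (Units.mk0 b hb0) ∣ 3 := by
          rw [hk]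
          exact pow_dvd_pow 3 hk' |>.trans (by norm_num)
        have h5 : (Units.mk0 b hb0) ^ 3 = 1 := orderOf_dvd_iff_pow_eq_one.mp h4
        have h6 := congrArg Units.val h5
        rw [Units.val_pow_eq_pow_val, Units.val_mk0, Units.val_one] at h6
        rw [← hb, h6]
    have h1 := (det_of_not_pow 3 Nat.prime_three z hc X hXz).2
    rw [hdetX, hV] at h1
    apply hne
    have h2 : ((-1 : F) ^ (3 + 1) * z) ^ (3 / 3) = z := by norm_num
    rw [h2] at h1
    exact h1.symm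
  rw [hz1, one_smul] at hXz
  have hXns : ∀ c : F, X ≠ c • (1 : (Fin 3 → F) →ₗ[F] (Fin 3 → F)) := by
    intro c hc
    apply hns c
    rw [scalar_SL_iff, ← hX]
    exact hc
  obtain ⟨bX, hbX⟩ := eigenbasis3 hV X hXz ω hω hω1
    (fun α β hα hβ hαβ => no_quad hV X hdetX hXns α β hα hβ hαβ)
  -- the Frobenius element
  obtain ⟨φ, hφ3, hφ1, hφs⟩ := exists_frob p (by norm_num) K hK
  have hdetφ : LinearMap.det φ ≠ 0 := by
    intro h0
    have h1 := congrArg LinearMap.det hφ3
    rw [map_pow, h0, zero_pow (by norm_num), map_one] at h1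
    exact zero_ne_one h1
  obtain ⟨Mφ, hMφ⟩ : ∃ Mφ : Matrix (Fin 3) (Fin 3) F, Mφ = LinearMap.toMatrix' φ := ⟨_, rfl⟩
  have hMdet : Mφ.det ≠ 0 := by
    rw [hMφ, LinearMap.det_toMatrix']
    exact hdetφ
  obtain ⟨g, hg⟩ : ∃ g : GL (Fin 3) F, (g : Matrix (Fin 3) (Fin 3) F) = Mφ :=
    ⟨Matrix.GeneralLinearGroup.mkOfDetNeZero Mφ hMdet, rfl⟩
  have hgφ : Matrix.toLin' (g : Matrix (Fin 3) (Fin 3) F) = φ := by
    rw [hg, hMφ, Matrix.toLin'_toMatrix']
  have hgN : g ∈ Cfsg.Geo.subalgebraNormalizer K :=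
    mem_normalizer_of_frob (by norm_num) K hK φ hφs g (fun v => by rw [hgφ])
  have hgns : ∀ c : F, (g : Matrix (Fin 3) (Fin 3) F) ≠ c • (1 : Matrix (Fin 3) (Fin 3) F) := by
    intro c hc
    have hφc : φ = c • (1 : (Fin 3 → F) →ₗ[F] (Fin 3 → F)) := by
      rw [← hgφ, hc, toLin'_smul_one]
    have hc0 : c ≠ 0 := by
      rintro rfl
      rw [zero_smul] at hφc
      rw [hφc, zero_pow (by norm_num)] at hφ3
      have h0 := congrFun (LinearMap.congr_fun hφ3 (fun _ => 1)) 0
      rw [LinearMap.zero_apply, Module.End.one_apply, Pi.zero_apply] at h0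
      exact zero_ne_one h0
    obtain ⟨b, hbK, hbne⟩ := exists_pow_card_ne (by norm_num) K (by norm_num) hK
    apply hbne
    apply Matrix.toLin'.injective
    apply LinearMap.ext
    intro v
    have h1 := hφs b hbK v
    rw [hφc, LinearMap.smul_apply, LinearMap.smul_apply, Module.End.one_apply,
      Module.End.one_apply, Matrix.mulVec_smul] at h1
    rw [Matrix.toLin'_apply, Matrix.toLin'_apply]
    exact (smul_right_injective _ hc0 h1).symm
  have hquadφ : ∀ α β : F, α ^ 3 = 1 → β ^ 3 = 1 → α ≠ β →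
      ∃ v, φ (φ v - β • v) - α • (φ v - β • v) ≠ 0 := by
    intro α β _ _ hαβ
    by_contra hall
    have h : ∀ v, φ (φ v - β • v) - α • (φ v - β • v) = 0 := by
      intro v
      by_contra hne
      exact hall ⟨v, hne⟩
    have hcompl := quad_isCompl φ α β hαβ h
    have hsum := Submodule.finrank_add_eq_of_isCompl hcompl
    rw [hV] at hsum
    have h1 := finrank_eigenspace_le_one Nat.prime_three K hK g hgN hgns α
    have h2 := finrank_eigenspace_le_one Nat.prime_three K hK g hgN hgns β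
    rw [hgφ] at h1 h2
    omega
  obtain ⟨bφ, hbφ⟩ := eigenbasis3 hV φ hφ3 ω hω hω1 hquadφ
  obtain ⟨Q, hQ⟩ := intertwine3 X φ ω bX bφ hbX hbφ
  apply conj_mem_norm K x Q
  · intro g' hg'
    apply mem_normalizer_of_frob (by norm_num) K hK φ hφs g'
    intro v
    rw [hg', ← hX, hQ]
  · intro δ _
    rw [← hX]
    exact cent3 X ω bX hbX δ

end good

end Cfsg.Agent.Lib.Helper15.PSing
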