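import Mathlib
import Cfsg.Agent.Lib.Helper15.PSpL1

/-!
# Unipotent isometries: splitting off a nondegenerate block of top nilpotency degree
-/

set_option autoImplicit false

namespace Cfsg.Agent.Lib.Helper15.PSpL

open Module Submodule Cfsg.Agent.Lib.Helper15 Cfsg.Agent.Lib.Helper15.PSpI

section adj

variable {F V : Type*} [Field F] [AddCommGroup V] [Module F V]
variable {B : V →ₗ[F] V →ₗ[F] F}

theorem adj_one (y : V →ₗ[F] V) (hiso : ∀ u v, B (y u) (y v) = B u v) (a b : V) :
    B ((y - 1) a) (y b) = - B a ((y - 1) b) := by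
  simp only [LinearMap.sub_apply, Module.End.one_apply, map_sub, hiso]
  ring

theorem comm_pow (y : V →ₗ[F] V) (l : ℕ) (v : V) :
    ((y - 1) ^ l) (y v) = y (((y - 1) ^ l) v) := by
  have hc : Commute (y - 1) y := (Commute.refl y).sub_left (Commute.one_left y)
  have := (hc.pow_left l).eq
  have h2 := LinearMap.congr_fun this v
  rwa [Module.End.mul_apply, Module.End.mul_apply] at h2

theorem comm_pow' (y : V →ₗ[F] V) (l : ℕ) (v : V) :
    (y - 1) ((y ^ l) v) = (y ^ l) ((y - 1) v) := by
  have hc : Commute (y - 1) y := (Commute.refl y).sub_left (Commute.one_left y)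
  have := (hc.pow_right l).eq
  have h2 := LinearMap.congr_fun this v
  rwa [Module.End.mul_apply, Module.End.mul_apply] at h2

theorem adj_pow' (y : V →ₗ[F] V) (hiso : ∀ u v, B (y u) (y v) = B u v) (l : ℕ) :
    ∀ a b : V, B (((y - 1) ^ l) a) ((y ^ l) b) = (-1) ^ l * B a (((y - 1) ^ l) b) := by
  induction l with
  | zero => intro a b; simp
  | succ l ih =>
    intro a b
    have e1 : ((y - 1) ^ (l + 1)) a = (y - 1) (((y - 1) ^ l) a) := by
      rw [pow_succ', Module.End.mul_apply]
    have e2 : (y ^ (l + 1)) b = y ((y ^ l) b) := by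
      rw [pow_succ', Module.End.mul_apply]
    have e3 : ((y - 1) ^ (l + 1)) b = ((y - 1) ^ l) ((y - 1) b) := by
      rw [pow_succ, Module.End.mul_apply]
    rw [e1, e2, e3, adj_one y hiso, comm_pow', ih, pow_succ]
    ring

/-- `B(a, N^j b) = (-1)^j B(N^j a, y^j b)` -/
theorem adj_pow'' (y : V →ₗ[F] V) (hiso : ∀ u v, B (y u) (y v) = B u v) (l : ℕ) (a b : V) :
    B a (((y - 1) ^ l) b) = (-1) ^ l * B (((y - 1) ^ l) a) ((y ^ l) b) := by
  rw [adj_pow' y hiso l a b, ← mul_assoc, ← mul_pow]
  simp

theorem pow_mem_of_invt (N : V →ₗ[F] V) {V' : Submodule F V} (hV' : ∀ v ∈ V', N v ∈ V') (l : ℕ) :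
    ∀ v ∈ V', (N ^ l) v ∈ V' := by
  induction l with
  | zero => intro v hv; simpa using hv
  | succ l ih =>
    intro v hv
    rw [pow_succ', Module.End.mul_apply]
    exact hV' _ (ih v hv)

/-- the top form `β(u, v) = B(N^(k-1) u, v)` is invariant under `y` in the second variable -/
theorem beta_invt (y : V →ₗ[F] V) (hiso : ∀ u v, B (y u) (y v) = B u v) (k : ℕ) (hk : 1 ≤ k)
    (u : V) (hu : ((y - 1) ^ k) u = 0) (l : ℕ) :
    ∀ v : V, B (((y - 1) ^ (k - 1)) u) ((y ^ l) v) = B (((y - 1) ^ (k - 1)) u) v := by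
  induction l with
  | zero => intro v; simp
  | succ l ih =>
    intro v
    rw [pow_succ', Module.End.mul_apply]
    have h1 : y ((y ^ l) v) = (y ^ l) v + (y - 1) ((y ^ l) v) := by
      simp only [LinearMap.sub_apply, Module.End.one_apply]
      abel
    rw [h1, map_add, ih]
    have h2 : B (((y - 1) ^ (k - 1)) u) ((y - 1) ((y ^ l) v)) = 0 := by
      have h3 := adj_one (B := B) y hiso (((y - 1) ^ (k - 1)) u) ((y ^ l) v)
      rw [← Module.End.mul_apply (y - 1), ← pow_succ', show k - 1 + 1 = k by omega, hu, map_zero,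
        LinearMap.zero_apply] at h3
      exact neg_eq_zero.mp h3.symm
    rw [h2, add_zero]

/-- symmetry of the top form -/
theorem beta_symm (halt : ∀ x, B x x = 0) (y : V →ₗ[F] V) (hiso : ∀ u v, B (y u) (y v) = B u v)
    (k : ℕ) (hk : 1 ≤ k) (u v : V) (hu : ((y - 1) ^ k) u = 0) :
    B (((y - 1) ^ (k - 1)) v) u = (-1) ^ k * B (((y - 1) ^ (k - 1)) u) v := by
  rw [alt_swap B halt, adj_pow'' y hiso (k - 1) u v, beta_invt y hiso k hk u hu]
  have : (-1 : F) ^ k = (-1) ^ (k - 1) * (-1) := by
    rw [← pow_succ, show k - 1 + 1 = k by omega]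
  rw [this]
  ring

end adj

section block

variable {F V : Type*} [Field F] [AddCommGroup V] [Module F V]
variable {B : V →ₗ[F] V →ₗ[F] F}

/-- the filtration of the block generated by `U`: `Y l = N^(k-1) U + ... + N^(k-l) U` -/
def blockY (N : V →ₗ[F] V) (U : Submodule F V) (k : ℕ) : ℕ → Submodule F V
  | 0 => ⊥
  | l + 1 => U.map (N ^ (k - 1 - l)) ⊔ blockY N U k l

theorem blockY_succ (N : V →ₗ[F] V) (U : Submodule F V) (k l : ℕ) :
    blockY N U k (l + 1) = U.map (N ^ (k - 1 - l)) ⊔ blockY N U k l := rfl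

theorem blockY_mono (N : V →ₗ[F] V) (U : Submodule F V) (k : ℕ) : Monotone (blockY N U k) :=
  monotone_nat_of_le_succ fun _ => le_sup_right

theorem blockY_le (N : V →ₗ[F] V) (U : Submodule F V) (k : ℕ) {V' : Submodule F V}
    (hV' : ∀ v ∈ V', N v ∈ V') (hU : U ≤ V') : ∀ l, blockY N U k l ≤ V' := by
  intro l
  induction l with
  | zero => exact bot_le
  | succ l ih =>
    rw [blockY_succ]
    apply sup_le _ ih
    rintro _ ⟨u, hu, rfl⟩
    exact pow_mem_of_invt N hV' _ u (hU hu)

theorem blockY_kill (N : V →ₗ[F] V) (U : Submodule F V) (k : ℕ)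
    (hNk : ∀ u ∈ U, (N ^ k) u = 0) : ∀ l, l ≤ k → ∀ z ∈ blockY N U k l, (N ^ l) z = 0 := by
  intro l
  induction l with
  | zero =>
    intro _ z hz
    rw [(mem_bot F).mp hz, map_zero]
  | succ l ih =>
    intro hl z hz
    rw [blockY_succ] at hz
    obtain ⟨w, ⟨u, hu, rfl⟩, z', hz', rfl⟩ := mem_sup.mp hz
    rw [map_add, ← Module.End.mul_apply, ← pow_add, show l + 1 + (k - 1 - l) = k by omega,
      hNk u hu, zero_add, pow_succ', Module.End.mul_apply, ih (by omega) z' hz', map_zero]

theorem blockY_invt (N : V →ₗ[F] V) (U : Submodule F V) (k : ℕ)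
    (hNk : ∀ u ∈ U, (N ^ k) u = 0) :
    ∀ l, l ≤ k → ∀ z ∈ blockY N U k l, N z ∈ blockY N U k l := by
  intro l
  induction l with
  | zero =>
    intro _ z hz
    rw [(mem_bot F).mp hz, map_zero]
    exact zero_mem _
  | succ l ih =>
    intro hl z hz
    rw [blockY_succ] at hz
    obtain ⟨w, ⟨u, hu, rfl⟩, z', hz', rfl⟩ := mem_sup.mp hz
    rw [map_add]
    apply add_mem
    · rw [← Module.End.mul_apply, ← pow_succ']
      rcases Nat.eq_zero_or_pos l with h0 | hpos
      · rw [h0, show k - 1 - 0 + 1 = k by omega, hNk u hu]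
        exact zero_mem _
      · apply blockY_mono N U k (Nat.le_succ l)
        obtain ⟨l', rfl⟩ : ∃ l', l = l' + 1 := ⟨l - 1, by omega⟩
        rw [blockY_succ]
        apply mem_sup_left
        rw [show k - 1 - (l' + 1) + 1 = k - 1 - l' by omega]
        exact ⟨u, hu, rfl⟩
    · exact blockY_mono N U k (Nat.le_succ l) (ih (by omega) z' hz')

theorem gen_mem_blockY (N : V →ₗ[F] V) (U : Submodule F V) (k : ℕ) (i : ℕ) (hi : i < k) (u : V)
    (hu : u ∈ U) : (N ^ i) u ∈ blockY N U k k := by
  apply blockY_mono N U k (show k - 1 - i + 1 ≤ k by omega)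
  rw [blockY_succ]
  apply mem_sup_left
  rw [show k - 1 - (k - 1 - i) = i by omega]
  exact ⟨u, hu, rfl⟩

/-- the top component of an element of `Y (l+1)` -/
theorem top_component (N : V →ₗ[F] V) (U : Submodule F V) (k : ℕ)
    (hNk : ∀ u ∈ U, (N ^ k) u = 0) (l : ℕ) (hl : l + 1 ≤ k) (u z' : V)
    (hz' : z' ∈ blockY N U k l) :
    (N ^ l) ((N ^ (k - 1 - l)) u + z') = (N ^ (k - 1)) u := by
  rw [map_add, blockY_kill N U k hNk l (by omega) z' hz', add_zero, ← Module.End.mul_apply,
    ← pow_add, show l + (k - 1 - l) = k - 1 by omega]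

end block

section main

variable {F V : Type*} [Field F] [AddCommGroup V] [Module F V] [FiniteDimensional F V]
variable {B : V →ₗ[F] V →ₗ[F] F}

/-- **The block generated by a subspace on which the top form is nondegenerate.** -/
theorem block_props (y : V →ₗ[F] V) (hiso : ∀ u v, B (y u) (y v) = B u v)
    (k : ℕ) (hk : 1 ≤ k) (U : Submodule F V)
    (hNk : ∀ u ∈ U, ((y - 1) ^ k) u = 0)
    (hβ : ∀ u ∈ U, (∀ u' ∈ U, B (((y - 1) ^ (k - 1)) u) u' = 0) → u = 0) :
    NondegOn B (blockY (y - 1) U k k) ∧
    (∀ z ∈ blockY (y - 1) U k k, (y - 1) z ∈ blockY (y - 1) U k k) ∧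
    ∀ j, finrank F ↥(LinearMap.ker ((y - 1) ^ j) ⊓ blockY (y - 1) U k k) =
      finrank F U * min j k := by
  obtain ⟨N, hN⟩ : ∃ N : V →ₗ[F] V, N = y - 1 := ⟨_, rfl⟩
  rw [← hN] at hNk hβ ⊢
  -- the top coefficient vanishes
  have htop0 : ∀ u ∈ U, (N ^ (k - 1)) u = 0 → u = 0 := by
    intro u hu h0
    apply hβ u hu
    intro u' _
    rw [h0, map_zero, LinearMap.zero_apply]
  have hM : ∀ l, l ≤ k → ∀ z ∈ blockY N U k l,
      (∀ u' ∈ U, ∀ i < k, B z ((N ^ i) u') = 0) → z = 0 := by
    intro l
    induction l with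
    | zero =>
      intro _ z hz _
      exact (mem_bot F).mp hz
    | succ l ih =>
      intro hl z hz horth
      rw [blockY_succ] at hz
      obtain ⟨w, ⟨u, hu, rfl⟩, z', hz', rfl⟩ := mem_sup.mp hz
      have hu0 : u = 0 := by
        apply hβ u hu
        intro u' hu'
        have h1 := horth u' hu' l (by omega)
        rw [hN, adj_pow'' y hiso l, ← hN, top_component N U k hNk l hl u z' hz'] at h1
        have h2 : B ((N ^ (k - 1)) u) ((y ^ l) u') = 0 := by
          rcases mul_eq_zero.mp h1 with h | h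
          · exact absurd h (pow_ne_zero _ (neg_ne_zero.mpr one_ne_zero))
          · exact h
        rw [hN, beta_invt y hiso k hk u (by rw [← hN]; exact hNk u hu)] at h2
        rw [hN]
        exact h2
      rw [hu0, map_zero, zero_add] at horth ⊢
      exact ih (by omega) z' hz' horth
  have hP : ∀ l, l ≤ k → ∀ j, j ≤ l → ∀ z ∈ blockY N U k l, (N ^ j) z = 0 →
      z ∈ blockY N U k j := by
    intro l
    induction l with
    | zero =>
      intro _ j hj z hz _
      have : j = 0 := by omega
      rw [this]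
      exact hz
    | succ l ih =>
      intro hl j hj z hz hjz
      rcases Nat.eq_or_lt_of_le hj with h | h
      · rw [h]
        exact hz
      · rw [blockY_succ] at hz
        obtain ⟨w, ⟨u, hu, rfl⟩, z', hz', rfl⟩ := mem_sup.mp hz
        have h1 := top_component N U k hNk l hl u z' hz'
        have h2 : (N ^ l) ((N ^ (k - 1 - l)) u + z') = 0 := by
          have e : N ^ l = N ^ (l - j) * N ^ j := by
            rw [← pow_add]
            congr 1
            omega
          rw [e, Module.End.mul_apply, hjz, map_zero]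
        rw [h2] at h1
        have hu0 := htop0 u hu h1.symm
        rw [hu0, map_zero, zero_add] at hjz ⊢
        exact ih (by omega) j (by omega) z' hz' hjz
  have hdim : ∀ l, l ≤ k → finrank F (blockY N U k l) = finrank F U * l := by
    intro l
    induction l with
    | zero =>
      intro _
      show finrank F (⊥ : Submodule F V) = _
      rw [finrank_bot, mul_zero]
    | succ l ih =>
      intro hl
      rw [blockY_succ]
      have hdisj : U.map (N ^ (k - 1 - l)) ⊓ blockY N U k l = ⊥ := by
        rw [eq_bot_iff]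
        rintro w ⟨⟨u, hu, rfl⟩, hw⟩
        have h1 := blockY_kill N U k hNk l (by omega) _ hw
        rw [← Module.End.mul_apply, ← pow_add, show l + (k - 1 - l) = k - 1 by omega] at h1
        rw [htop0 u hu h1, map_zero]
        exact zero_mem _
      have hinjU : Function.Injective ((N ^ (k - 1 - l)).domRestrict U) := by
        rw [← LinearMap.ker_eq_bot, eq_bot_iff]
        intro u hu
        rw [LinearMap.mem_ker, LinearMap.domRestrict_apply] at hu
        have h1 : (N ^ (k - 1)) (u : V) = 0 := by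
          have e : N ^ (k - 1) = N ^ l * N ^ (k - 1 - l) := by
            rw [← pow_add]
            congr 1
            omega
          rw [e, Module.End.mul_apply, hu, map_zero]
        have := htop0 u.1 u.2 h1
        exact (mem_bot F).mpr (Subtype.ext this)
      have hfm : finrank F (U.map (N ^ (k - 1 - l))) = finrank F U := by
        rw [← LinearMap.range_domRestrict, LinearMap.finrank_range_of_inj hinjU]
      have h3 := Submodule.finrank_sup_add_finrank_inf_eq (U.map (N ^ (k - 1 - l)))
        (blockY N U k l)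
      rw [hdisj, finrank_bot, add_zero, hfm, ih (by omega)] at h3
      rw [h3]
      ring
  refine ⟨?_, blockY_invt N U k hNk k le_rfl, ?_⟩
  · intro z hz h0
    apply hM k le_rfl z hz
    intro u' hu' i hi
    exact h0 _ (gen_mem_blockY N U k i hi u' hu')
  · intro j
    have heq : LinearMap.ker (N ^ j) ⊓ blockY N U k k = blockY N U k (min j k) := by
      apply le_antisymm
      · rintro z ⟨hz1, hz2⟩
        rcases le_total j k with h | h
        · rw [min_eq_left h]
          exact hP k le_rfl j h z hz2 (LinearMap.mem_ker.mp hz1)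
        · rw [min_eq_right h]
          exact hz2
      · intro z hz
        refine ⟨LinearMap.mem_ker.mpr ?_, blockY_mono N U k (min_le_right j k) hz⟩
        have h1 := blockY_kill N U k hNk (min j k) (min_le_right j k) z hz
        have e : N ^ j = N ^ (j - min j k) * N ^ (min j k) := by
          rw [← pow_add]
          congr 1
          have := min_le_left j k
          omega
        rw [e, Module.End.mul_apply, h1, map_zero]
    rw [heq, hdim (min j k) (min_le_right j k)]

end main

end Cfsg.Agent.Lib.Helper15.PSpL
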