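import Mathlib
import Cfsg.Agent.Lib.Helper15.PSpL5
import Cfsg.Agent.Lib.Helper15.PSpJ3
import Cfsg.Agent.Lib.Helper14.JType2

/-!
# Unipotent isometries: invariant nondegenerate subspaces with prescribed Jordan type
-/

set_option autoImplicit false

namespace Cfsg.Agent.Lib.Helper15.PSpL

open Module Submodule Cfsg.Agent.Lib.Helper15 Cfsg.Agent.Lib.Helper15.PSpI
  Cfsg.Agent.Lib.Helper15.PSpJ Cfsg.Agent.Lib.Helper15.PDec Cfsg.Agent.Lib.Helper14.JType

section kappa

theorem kappa_add (A C : Multiset ℕ) (j : ℕ) : kappa (A + C) j = kappa A j + kappa C j := by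
  unfold kappa
  rw [Multiset.map_add, Multiset.sum_add]

theorem kappa_replicate (s k j : ℕ) : kappa (Multiset.replicate s k) j = s * min k j := by
  unfold kappa
  rw [Multiset.map_replicate, Multiset.sum_replicate, smul_eq_mul]

theorem kappa_mono (M : Multiset ℕ) {j j' : ℕ} (h : j ≤ j') : kappa M j ≤ kappa M j' := by
  induction M using Multiset.induction_on with
  | empty => simp [kappa_zero]
  | cons b M ih =>
    rw [kappa_cons, kappa_cons]
    have : min b j ≤ min b j' := min_le_min_left b h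
    omega

theorem kappa_eq_sum (M : Multiset ℕ) (j : ℕ) (h : ∀ a ∈ M, a ≤ j) : kappa M j = M.sum := by
  induction M using Multiset.induction_on with
  | empty => simp [kappa_zero]
  | cons b M ih =>
    rw [kappa_cons, Multiset.sum_cons, ih (fun a ha => h a (Multiset.mem_cons_of_mem ha)),
      min_eq_left (h b (Multiset.mem_cons_self b M))]

end kappa

section plane

variable {F V : Type*} [Field F] [AddCommGroup V] [Module F V]

/-- a plane spanned by a non-orthogonal pair for a form that is skew on the pair -/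
theorem plane_props' (B' : V →ₗ[F] V →ₗ[F] F) (u w : V) (huu : B' u u = 0) (hww : B' w w = 0)
    (hwu : B' w u = - B' u w) (huw : B' u w ≠ 0) :
    finrank F (span F ({u, w} : Set V)) = 2 ∧ NondegOn B' (span F ({u, w} : Set V)) := by
  constructor
  · have hli : LinearIndependent F ![u, w] := by
      rw [LinearIndependent.pair_iff]
      intro s t hst
      have h1 : B' (s • u + t • w) w = 0 := by rw [hst]; simp
      have h2 : B' u (s • u + t • w) = 0 := by rw [hst]; simp
      rw [map_add, map_smul, map_smul, LinearMap.add_apply, LinearMap.smul_apply,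
        LinearMap.smul_apply, hww, smul_zero, add_zero, smul_eq_mul] at h1
      rw [map_add, map_smul, map_smul, huu, smul_zero, zero_add, smul_eq_mul] at h2
      exact ⟨(mul_eq_zero.mp h1).resolve_right huw, (mul_eq_zero.mp h2).resolve_right huw⟩
    have h3 : finrank F (span F (Set.range ![u, w])) = 2 := by
      rw [finrank_span_eq_card hli, Fintype.card_fin]
    have h4 : Set.range ![u, w] = ({u, w} : Set V) := by
      ext v
      simp only [Set.mem_range, Fin.exists_fin_two, Matrix.cons_val_zero, Matrix.cons_val_one,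
        Set.mem_insert_iff, Set.mem_singleton_iff, eq_comm]
    rw [← h4]
    exact h3
  · intro v hv h0
    obtain ⟨a, b, rfl⟩ := mem_span_pair.mp hv
    have h1 := h0 w (subset_span (by simp))
    have h2 := h0 u (subset_span (by simp))
    rw [map_add, map_smul, map_smul, LinearMap.add_apply, LinearMap.smul_apply,
      LinearMap.smul_apply, hww, smul_zero, add_zero, smul_eq_mul] at h1
    rw [map_add, map_smul, map_smul, LinearMap.add_apply, LinearMap.smul_apply,
      LinearMap.smul_apply, huu, smul_zero, zero_add, smul_eq_mul, hwu, mul_neg,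
      neg_eq_zero] at h2
    rw [(mul_eq_zero.mp h1).resolve_right huw, (mul_eq_zero.mp h2).resolve_right huw]
    simp

end plane

section top

variable {F V : Type*} [Field F] [AddCommGroup V] [Module F V] [FiniteDimensional F V]
variable {B : V →ₗ[F] V →ₗ[F] F}

/-- **Splitting off a top block.** -/
theorem exists_top_block (h2 : (2 : F) ≠ 0) (halt : ∀ x, B x x = 0) (y : V →ₗ[F] V)
    (hiso : ∀ u v, B (y u) (y v) = B u v) (V' : Submodule F V)
    (hV'N : ∀ v ∈ V', (y - 1) v ∈ V') (hV'n : NondegOn B V') (k : ℕ) (hk : 1 ≤ k)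
    (hNk : ∀ v ∈ V', ((y - 1) ^ k) v = 0) (hNk1 : ∃ v ∈ V', ((y - 1) ^ (k - 1)) v ≠ 0) :
    ∃ Z : Submodule F V, Z ≤ V' ∧ NondegOn B Z ∧ (∀ z ∈ Z, (y - 1) z ∈ Z) ∧
      ∃ s : ℕ, ((s = 1 ∧ Even k) ∨ (s = 2 ∧ Odd k)) ∧
        ∀ j, finrank F ↥(LinearMap.ker ((y - 1) ^ j) ⊓ Z) = s * min j k := by
  obtain ⟨v, hv, hv0⟩ := hNk1
  have hv' : ((y - 1) ^ (k - 1)) v ∈ V' := pow_mem_of_invt (y - 1) hV'N _ v hv
  obtain ⟨w, hw, hvw⟩ : ∃ w ∈ V', B (((y - 1) ^ (k - 1)) v) w ≠ 0 := by
    by_contra h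
    push Not at h
    exact hv0 (hV'n _ hv' h)
  have hsymm : ∀ a ∈ V', ∀ b : V,
      B (((y - 1) ^ (k - 1)) b) a = (-1) ^ k * B (((y - 1) ^ (k - 1)) a) b :=
    fun a ha b => beta_symm halt y hiso k hk a b (hNk a ha)
  -- the final assembly from a subspace `U`
  have hfin : ∀ U : Submodule F V, U ≤ V' →
      (∀ u ∈ U, (∀ u' ∈ U, B (((y - 1) ^ (k - 1)) u) u' = 0) → u = 0) →
      ∃ Z : Submodule F V, Z ≤ V' ∧ NondegOn B Z ∧ (∀ z ∈ Z, (y - 1) z ∈ Z) ∧
        ∀ j, finrank F ↥(LinearMap.ker ((y - 1) ^ j) ⊓ Z) = finrank F U * min j k := by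
    intro U hU hβ
    obtain ⟨h1, h2', h3⟩ := block_props y hiso k hk U (fun u hu => hNk u (hU hu)) hβ
    exact ⟨_, blockY_le (y - 1) U k hV'N hU k, h1, h2', h3⟩
  rcases Nat.even_or_odd k with hke | hko
  · -- symmetric case: a vector with `β(u, u) ≠ 0`
    have hs : ∀ a ∈ V', ∀ b : V,
        B (((y - 1) ^ (k - 1)) b) a = B (((y - 1) ^ (k - 1)) a) b := by
      intro a ha b
      rw [hsymm a ha b, hke.neg_one_pow, one_mul]
    obtain ⟨u, hu, huu⟩ : ∃ u ∈ V', B (((y - 1) ^ (k - 1)) u) u ≠ 0 := by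
      by_contra hcon
      push Not at hcon
      have h1 := hcon (v + w) (V'.add_mem hv hw)
      simp only [map_add, LinearMap.add_apply] at h1
      have ha := hcon v hv
      have hd := hcon w hw
      have hcb := hs v hv w
      have h3 : (2 : F) * B (((y - 1) ^ (k - 1)) v) w = 0 := by
        linear_combination h1 - ha - hd - hcb
      rcases mul_eq_zero.mp h3 with h | h
      · exact h2 h
      · exact hvw h
    have hu0 : u ≠ 0 := by
      rintro rfl
      exact huu (by simp)
    obtain ⟨Z, hZ1, hZ2, hZ3, hZ4⟩ := hfin (span F {u})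
      (by rw [span_le]; intro x hx; rw [Set.mem_singleton_iff.mp hx]; exact hu)
      (by
        intro u' hu' h0
        obtain ⟨a, rfl⟩ := mem_span_singleton.mp hu'
        have h1 := h0 u (mem_span_singleton_self u)
        simp only [map_smul, LinearMap.smul_apply, smul_eq_mul] at h1
        rw [(mul_eq_zero.mp h1).resolve_right huu, zero_smul])
    rw [finrank_span_singleton hu0] at hZ4
    exact ⟨Z, hZ1, hZ2, hZ3, 1, Or.inl ⟨rfl, hke⟩, hZ4⟩
  · -- skew case: a pair with `β(u, u') ≠ 0`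
    have hs : ∀ a ∈ V', ∀ b : V,
        B (((y - 1) ^ (k - 1)) b) a = - B (((y - 1) ^ (k - 1)) a) b := by
      intro a ha b
      rw [hsymm a ha b, hko.neg_one_pow, neg_one_mul]
    have hdiag : ∀ a ∈ V', B (((y - 1) ^ (k - 1)) a) a = 0 := by
      intro a ha
      have h1 := hs a ha a
      have h3 : (2 : F) * B (((y - 1) ^ (k - 1)) a) a = 0 := by linear_combination h1
      exact (mul_eq_zero.mp h3).resolve_left h2
    obtain ⟨B', hB'⟩ : ∃ B' : V →ₗ[F] V →ₗ[F] F,
        B' = B.compl₁₂ ((y - 1) ^ (k - 1)) LinearMap.id := ⟨_, rfl⟩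
    have hB'a : ∀ a b, B' a b = B (((y - 1) ^ (k - 1)) a) b := by
      intro a b
      rw [hB', LinearMap.compl₁₂_apply, LinearMap.id_apply]
    obtain ⟨hp1, hp2⟩ := plane_props' B' v w (by rw [hB'a]; exact hdiag v hv)
      (by rw [hB'a]; exact hdiag w hw) (by rw [hB'a, hB'a]; exact hs v hv w)
      (by rw [hB'a]; exact hvw)
    obtain ⟨Z, hZ1, hZ2, hZ3, hZ4⟩ := hfin (span F {v, w}) (span_pair_le hv hw)
      (by
        intro u' hu' h0
        apply hp2 u' hu'
        intro b hb
        rw [hB'a]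
        exact h0 b hb)
    rw [hp1] at hZ4
    exact ⟨Z, hZ1, hZ2, hZ3, 2, Or.inr ⟨rfl, hko⟩, hZ4⟩

/-- additivity of the kernel profile over an invariant decomposition -/
theorem prof_add (N : V →ₗ[F] V) (Z T V' : Submodule F V) (hsup : Z ⊔ T = V')
    (hdisj : Z ⊓ T = ⊥) (hZ : ∀ z ∈ Z, N z ∈ Z) (hT : ∀ z ∈ T, N z ∈ T) (j : ℕ) :
    finrank F ↥(LinearMap.ker (N ^ j) ⊓ V') =
      finrank F ↥(LinearMap.ker (N ^ j) ⊓ Z) + finrank F ↥(LinearMap.ker (N ^ j) ⊓ T) := by
  obtain ⟨K, hK⟩ : ∃ K, K = LinearMap.ker (N ^ j) := ⟨_, rfl⟩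
  rw [← hK]
  have hs : (K ⊓ Z) ⊔ (K ⊓ T) = K ⊓ V' := by
    apply le_antisymm
    · rw [← hsup]
      exact sup_le (inf_le_inf_left K le_sup_left) (inf_le_inf_left K le_sup_right)
    · rintro v ⟨hvK, hvV⟩
      rw [← hsup] at hvV
      obtain ⟨z, hz, t, ht, rfl⟩ := mem_sup.mp hvV
      have h0 : (N ^ j) z + (N ^ j) t = 0 := by
        rw [← map_add]
        rw [hK] at hvK
        exact LinearMap.mem_ker.mp hvK
      have hz' : (N ^ j) z ∈ Z := pow_mem_of_invt N hZ j z hz
      have ht' : (N ^ j) t ∈ T := pow_mem_of_invt N hT j t ht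
      have h1 : (N ^ j) z = -(N ^ j) t := eq_neg_of_add_eq_zero_left h0
      have h2 : (N ^ j) z ∈ Z ⊓ T := ⟨hz', by rw [h1]; exact T.neg_mem ht'⟩
      rw [hdisj, Submodule.mem_bot] at h2
      have h3 : (N ^ j) t = 0 := by rw [h2, zero_add] at h0; exact h0
      apply Submodule.add_mem_sup
      · exact ⟨by rw [hK]; exact LinearMap.mem_ker.mpr h2, hz⟩
      · exact ⟨by rw [hK]; exact LinearMap.mem_ker.mpr h3, ht⟩
  have hi : (K ⊓ Z) ⊓ (K ⊓ T) = ⊥ := by
    rw [eq_bot_iff, ← hdisj]
    exact inf_le_inf inf_le_right inf_le_right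
  have h := Submodule.finrank_sup_add_finrank_inf_eq (K ⊓ Z) (K ⊓ T)
  rw [hs, hi, finrank_bot, add_zero] at h
  exact h

omit [FiniteDimensional F V] in
theorem map_pow_eq (y : V →ₗ[F] V) (V' : Submodule F V) (h : V'.map y = V') (l : ℕ) :
    V'.map (y ^ l) = V' := by
  induction l with
  | zero =>
    rw [pow_zero]
    exact Submodule.map_id V'
  | succ l ih =>
    rw [pow_succ', Module.End.mul_eq_comp, Submodule.map_comp, ih, h]

/-- the even kernel dimensions of a unipotent isometry are even -/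
theorem even_prof (halt : ∀ x, B x x = 0) (y : V →ₗ[F] V)
    (hiso : ∀ u v, B (y u) (y v) = B u v) (V' : Submodule F V) (hV'x : V'.map y = V')
    (hV'n : NondegOn B V') (l : ℕ) :
    Even (finrank F ↥(LinearMap.ker ((y - 1) ^ (2 * l)) ⊓ V')) := by
  obtain ⟨N, hN⟩ : ∃ N : V →ₗ[F] V, N = y - 1 := ⟨_, rfl⟩
  rw [← hN]
  obtain ⟨R, hR⟩ : ∃ R, R = LinearMap.ker (N ^ (2 * l)) ⊓ V' := ⟨_, rfl⟩
  rw [← hR]
  have hV'N : ∀ v ∈ V', N v ∈ V' := by
    intro v hv
    rw [hN, LinearMap.sub_apply, Module.End.one_apply]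
    exact V'.sub_mem (by rw [← hV'x]; exact ⟨v, hv, rfl⟩) hv
  obtain ⟨q, hq⟩ := Submodule.exists_isCompl R
  obtain ⟨C, hC⟩ : ∃ C, C = q ⊓ V' := ⟨_, rfl⟩
  have hRV : R ≤ V' := by rw [hR]; exact inf_le_right
  have hsup : R ⊔ C = V' := by
    rw [hC, ← sup_inf_assoc_of_le q hRV, hq.sup_eq_top, top_inf_eq]
  have hinf : R ⊓ C = ⊥ := by
    rw [eq_bot_iff, ← hq.inf_eq_bot, hC]
    exact inf_le_inf_left R inf_le_left
  obtain ⟨γ, hγ⟩ : ∃ γ : V →ₗ[F] V →ₗ[F] F, γ = B.compl₁₂ (N ^ l) (N ^ l) := ⟨_, rfl⟩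
  have hγa : ∀ a b, γ a b = B ((N ^ l) a) ((N ^ l) b) := by
    intro a b
    rw [hγ, LinearMap.compl₁₂_apply]
  have hγalt : ∀ x, γ x x = 0 := fun x => by rw [hγa]; exact halt _
  have h2l : ∀ a, (N ^ l) ((N ^ l) a) = (N ^ (2 * l)) a := by
    intro a
    rw [← Module.End.mul_apply, ← pow_add, two_mul]
  have hCn : NondegOn γ C := by
    intro u hu hu0
    have huV : u ∈ V' := by rw [hC] at hu; exact hu.2
    have hall : ∀ v ∈ V', γ u v = 0 := by
      intro v hv
      rw [← hsup] at hv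
      obtain ⟨r, hr, c, hc, rfl⟩ := mem_sup.mp hv
      rw [map_add, hu0 c hc, add_zero, hγa, alt_swap B halt, hN, adj_pow'' y hiso l, ← hN, h2l]
      have : (N ^ (2 * l)) r = 0 := by
        rw [hR] at hr
        exact LinearMap.mem_ker.mp hr.1
      rw [this, map_zero, LinearMap.zero_apply, mul_zero, neg_zero]
    have hker : (N ^ (2 * l)) u = 0 := by
      apply hV'n _ (pow_mem_of_invt N hV'N _ u huV)
      intro w hw
      rw [← map_pow_eq y V' hV'x l] at hw
      obtain ⟨v, hv, rfl⟩ := hw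
      have h1 := hall v hv
      rw [hγa, hN, adj_pow'' y hiso l, ← hN, h2l] at h1
      rcases mul_eq_zero.mp h1 with h | h
      · exact absurd h (pow_ne_zero _ (neg_ne_zero.mpr one_ne_zero))
      · exact h
    have : u ∈ R ⊓ C := ⟨by rw [hR]; exact ⟨LinearMap.mem_ker.mpr hker, huV⟩, hu⟩
    rw [hinf] at this
    exact (mem_bot F).mp this
  have h1 := even_finrank_of_nondegOn hγalt C hCn
  have h2 := even_finrank_of_nondegOn halt V' hV'n
  have h3 := Submodule.finrank_sup_add_finrank_inf_eq R C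
  rw [hsup, hinf, finrank_bot, add_zero] at h3
  obtain ⟨a, ha⟩ := h1
  obtain ⟨b, hb⟩ := h2
  exact ⟨b - a, by omega⟩

end top

section peel

variable {F V : Type*} [Field F] [AddCommGroup V] [Module F V] [FiniteDimensional F V]
variable {B : V →ₗ[F] V →ₗ[F] F}

/-- **Invariant nondegenerate subspaces with a prescribed sub-multiset of Jordan blocks.** -/
theorem exists_invt_of_sub (h2 : (2 : F) ≠ 0) (halt : ∀ x, B x x = 0) (y : V →ₗ[F] V)
    (hiso : ∀ u v, B (y u) (y v) = B u v) (hinj : Function.Injective y)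
    (hnil : ∃ M, (y - 1) ^ M = 0) :
    ∀ (n : ℕ) (V' : Submodule F V), V'.map y = V' → NondegOn B V' → finrank F V' = n →
      ∀ μ : Multiset ℕ, (∀ a ∈ μ, 1 ≤ a) → (∀ a, Odd a → Even (μ.count a)) →
      (∀ j, finrank F ↥(LinearMap.ker ((y - 1) ^ j) ⊓ V') = kappa μ j) →
      ∀ ν : Multiset ℕ, ν ≤ μ → (∀ a, Odd a → Even (ν.count a)) →
      ∃ W : Submodule F V, W ≤ V' ∧ W.map y = W ∧ NondegOn B W ∧ finrank F W = ν.sum := by
  classical
  intro n
  induction n using Nat.strong_induction_on with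
  | _ n ih =>
    intro V' hV'x hV'n hfr μ hμ1 hμe hprof ν hνμ hνe
    rcases Multiset.empty_or_exists_mem μ with rfl | ⟨b₀, hb₀⟩
    · have hν0 : ν = 0 := le_zero_iff.mp hνμ
      refine ⟨⊥, bot_le, Submodule.map_bot y, ?_, by rw [hν0, finrank_bot]; rfl⟩
      intro u hu _
      exact (mem_bot F).mp hu
    obtain ⟨k, hkμ', hkmax'⟩ := μ.toFinset.exists_max_image id ⟨b₀, Multiset.mem_toFinset.mpr hb₀⟩
    have hkμ : k ∈ μ := Multiset.mem_toFinset.mp hkμ'
    have hkmax : ∀ a ∈ μ, a ≤ k := fun a ha => hkmax' a (Multiset.mem_toFinset.mpr ha)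
    have hk1 : 1 ≤ k := hμ1 k hkμ
    obtain ⟨N, hN⟩ : ∃ N : V →ₗ[F] V, N = y - 1 := ⟨_, rfl⟩
    have hV'N : ∀ v ∈ V', (y - 1) v ∈ V' := by
      intro v hv
      rw [LinearMap.sub_apply, Module.End.one_apply]
      exact V'.sub_mem (by rw [← hV'x]; exact ⟨v, hv, rfl⟩) hv
    -- the dimension of `V'`
    have hsum : finrank F V' = μ.sum := by
      obtain ⟨M, hM⟩ := hnil
      have h1 := hprof (max M k)
      have h3 : LinearMap.ker ((y - 1) ^ (max M k)) = ⊤ := by
        rw [LinearMap.ker_eq_top]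
        have e : (y - 1) ^ (max M k) = (y - 1) ^ (max M k - M) * (y - 1) ^ M := by
          rw [← pow_add]
          congr 1
          have := le_max_left M k
          omega
        rw [e, hM, mul_zero]
      rw [h3, top_inf_eq, kappa_eq_sum μ _ (fun a ha => (hkmax a ha).trans (le_max_right M k))]
        at h1
      exact h1
    have hNk : ∀ v ∈ V', ((y - 1) ^ k) v = 0 := by
      have h1 := hprof k
      rw [kappa_eq_sum μ k hkmax, ← hsum] at h1
      have h3 : LinearMap.ker ((y - 1) ^ k) ⊓ V' = V' :=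
        Submodule.eq_of_le_of_finrank_eq inf_le_right h1
      intro v hv
      rw [← h3] at hv
      exact LinearMap.mem_ker.mp hv.1
    have hNk1 : ∃ v ∈ V', ((y - 1) ^ (k - 1)) v ≠ 0 := by
      by_contra hcon
      push Not at hcon
      have h1 := hprof (k - 1)
      have h3 : LinearMap.ker ((y - 1) ^ (k - 1)) ⊓ V' = V' := by
        apply le_antisymm inf_le_right
        intro v hv
        exact ⟨LinearMap.mem_ker.mpr (hcon v hv), hv⟩
      rw [h3, hsum, ← kappa_eq_sum μ k hkmax] at h1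
      obtain ⟨μ', rfl⟩ := Multiset.exists_cons_of_mem hkμ
      rw [kappa_cons, kappa_cons] at h1
      have h4 := kappa_mono μ' (show k - 1 ≤ k by omega)
      have h5 : min k k = k := min_self k
      have h6 : min k (k - 1) = k - 1 := min_eq_right (by omega)
      omega
    obtain ⟨Z, hZV', hZn, hZN, s, hs, hZprof⟩ :=
      exists_top_block h2 halt y hiso V' hV'N hV'n k hk1 hNk hNk1
    have hZx : Z.map y = Z := by
      apply map_eq_of_invt y hinj
      rw [Module.End.mem_invtSubmodule_iff_map_le]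
      rintro _ ⟨z, hz, rfl⟩
      have h1 := hZN z hz
      rw [LinearMap.sub_apply, Module.End.one_apply] at h1
      have : y z = (y z - z) + z := by abel
      rw [this]
      exact Z.add_mem h1 hz
    have hZf : finrank F Z = s * k := by
      have h1 := hZprof k
      rw [min_self] at h1
      have h3 : LinearMap.ker ((y - 1) ^ k) ⊓ Z = Z := by
        apply le_antisymm inf_le_right
        intro z hz
        exact ⟨LinearMap.mem_ker.mpr (hNk z (hZV' hz)), hz⟩
      rw [h3] at h1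
      exact h1
    have hs1 : 1 ≤ s := by
      rcases hs with ⟨h, -⟩ | ⟨h, -⟩ <;> omega
    have hsc : s ≤ μ.count k := by
      have hc1 : 1 ≤ μ.count k := Multiset.count_pos.mpr hkμ
      rcases hs with ⟨h, -⟩ | ⟨h, hko⟩
      · omega
      · obtain ⟨c, hc⟩ := hμe k hko
        omega
    have hrep : Multiset.replicate s k ≤ μ := Multiset.le_count_iff_replicate_le.mp hsc
    obtain ⟨μ₁, hμ₁⟩ : ∃ μ₁, μ₁ = μ - Multiset.replicate s k := ⟨_, rfl⟩
    have hμsplit : μ = Multiset.replicate s k + μ₁ := by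
      rw [hμ₁, add_tsub_cancel_of_le hrep]
    have hcount₁ : ∀ a, μ₁.count a = μ.count a - (if a = k then s else 0) := by
      intro a
      rw [hμ₁, Multiset.count_sub, Multiset.count_replicate]
      congr 1
      by_cases h : a = k
      · rw [if_pos h, if_pos h.symm]
      · rw [if_neg h, if_neg (Ne.symm h)]
    -- parity of removing `s` copies of `k`
    have hparity : ∀ (ρ : Multiset ℕ), (∀ a, Odd a → Even (ρ.count a)) →
        ∀ a, Odd a → Even (ρ.count a - (if a = k then s else 0)) := by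
      intro ρ hρ a ha
      by_cases h : a = k
      · rw [if_pos h]
        rcases hs with ⟨-, hke⟩ | ⟨h', -⟩
        · rw [h] at ha
          exact absurd hke (Nat.not_even_iff_odd.mpr ha)
        · obtain ⟨c, hc⟩ := hρ a ha
          exact ⟨c - 1, by omega⟩
      · rw [if_neg h, Nat.sub_zero]
        exact hρ a ha
    have hμ₁1 : ∀ a ∈ μ₁, 1 ≤ a := by
      intro a ha
      apply hμ1 a
      rw [hμsplit]
      exact Multiset.mem_add.mpr (Or.inr ha)
    have hμ₁e : ∀ a, Odd a → Even (μ₁.count a) := by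
      intro a ha
      rw [hcount₁]
      exact hparity μ hμe a ha
    -- the complement
    have hTx := map_perpIn_of_inj y hinj hiso hV'x hZx
    have hTn := nondegOn_perpIn halt hZV' hZn hV'n
    have hTf := finrank_perpIn halt hZV' hZn (V' := V')
    have hTN : ∀ z ∈ perpIn B V' Z, (y - 1) z ∈ perpIn B V' Z := by
      intro z hz
      rw [LinearMap.sub_apply, Module.End.one_apply]
      exact Submodule.sub_mem _ (by rw [← hTx]; exact ⟨z, hz, rfl⟩) hz
    have hTprof : ∀ j, finrank F ↥(LinearMap.ker ((y - 1) ^ j) ⊓ perpIn B V' Z) = kappa μ₁ j := by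
      intro j
      have h1 := prof_add (y - 1) Z (perpIn B V' Z) V' (sup_perpIn halt hZV' hZn)
        ((orth_perpIn V' Z).disjoint halt hZn).eq_bot hZN hTN j
      rw [hprof j, hZprof j, hμsplit, kappa_add, kappa_replicate, min_comm k j] at h1
      omega
    have hTlt : finrank F (perpIn B V' Z) < n := by
      have : 1 ≤ s * k := Nat.mul_pos hs1 hk1
      omega
    by_cases hkν : k ∈ ν
    · have hscν : s ≤ ν.count k := by
        have hc1 : 1 ≤ ν.count k := Multiset.count_pos.mpr hkν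
        rcases hs with ⟨h, -⟩ | ⟨h, hko⟩
        · omega
        · obtain ⟨c, hc⟩ := hνe k hko
          omega
      have hrepν : Multiset.replicate s k ≤ ν := Multiset.le_count_iff_replicate_le.mp hscν
      obtain ⟨ν₁, hν₁⟩ : ∃ ν₁, ν₁ = ν - Multiset.replicate s k := ⟨_, rfl⟩
      have hνsplit : ν = Multiset.replicate s k + ν₁ := by
        rw [hν₁, add_tsub_cancel_of_le hrepν]
      have hν₁μ₁ : ν₁ ≤ μ₁ := by
        rw [hν₁, hμ₁]
        exact tsub_le_tsub_right hνμ _
      have hν₁e : ∀ a, Odd a → Even (ν₁.count a) := by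
        intro a ha
        have : ν₁.count a = ν.count a - (if a = k then s else 0) := by
          rw [hν₁, Multiset.count_sub, Multiset.count_replicate]
          congr 1
          by_cases h : a = k
          · rw [if_pos h, if_pos h.symm]
          · rw [if_neg h, if_neg (Ne.symm h)]
        rw [this]
        exact hparity ν hνe a ha
      obtain ⟨W₁, hW₁T, hW₁x, hW₁n, hW₁f⟩ := ih _ hTlt (perpIn B V' Z) hTx hTn rfl μ₁ hμ₁1 hμ₁e
        hTprof ν₁ hν₁μ₁ hν₁e
      have ho : Orth B Z W₁ := (orth_perpIn V' Z).mono le_rfl hW₁T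
      refine ⟨Z ⊔ W₁, sup_le hZV' (hW₁T.trans (perpIn_le V' Z)), ?_,
        nondegOn_sup halt ho hZn hW₁n, ?_⟩
      · rw [Submodule.map_sup, hZx, hW₁x]
      · rw [finrank_sup_of_orth halt ho hZn, hZf, hW₁f, hνsplit, Multiset.sum_add,
          Multiset.sum_replicate, smul_eq_mul]
    · have hνμ₁ : ν ≤ μ₁ := by
        rw [Multiset.le_iff_count]
        intro a
        rw [hcount₁]
        by_cases h : a = k
        · rw [h, Multiset.count_eq_zero_of_notMem hkν]
          exact Nat.zero_le _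
        · rw [if_neg h, Nat.sub_zero]
          exact Multiset.le_iff_count.mp hνμ a
      obtain ⟨W, hWT, hWx, hWn, hWf⟩ := ih _ hTlt (perpIn B V' Z) hTx hTn rfl μ₁ hμ₁1 hμ₁e
        hTprof ν hνμ₁ hνe
      exact ⟨W, hWT.trans (perpIn_le V' Z), hWx, hWn, hWf⟩

end peel

end Cfsg.Agent.Lib.Helper15.PSpL
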