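import Mathlib
import Cfsg.Agent.Lib.Helper15.PSpL6
import Cfsg.Agent.Lib.Helper15.PSpL4
import Cfsg.Agent.Lib.Helper14.JType4
import Cfsg.Agent.Lib.Helper14.NilSplit

/-!
# Unipotent elements of order `p` of the symplectic group and nondegenerate subspaces
-/

set_option autoImplicit false

namespace Cfsg.Agent.Lib.Helper15.PSpL

open Module Submodule Polynomial Cfsg.Agent.Lib.Helper15 Cfsg.Agent.Lib.Helper15.PSpI
  Cfsg.Agent.Lib.Helper15.PSpJ Cfsg.Agent.Lib.Helper15.PDec Cfsg.Agent.Lib.Helper14.JType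
  Cfsg.Agent.Lib.Helper14

section comb

theorem kappa_zero' (M : Multiset ℕ) : kappa M 0 = 0 := by
  induction M using Multiset.induction_on with
  | empty => exact kappa_zero 0
  | cons b M ih => rw [kappa_cons, ih, Nat.min_zero]

theorem kappa_succ (M : Multiset ℕ) (h : ℕ) : kappa M (h + 1) = kappa M h + nuOf M h := by
  induction M using Multiset.induction_on with
  | empty => simp [kappa_zero, nuOf]
  | cons b M ih =>
    rw [kappa_cons, kappa_cons, nuOf_cons, ih]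
    split_ifs with hb
    · rw [min_eq_right (by omega : h + 1 ≤ b), min_eq_right (by omega : h ≤ b)]
      omega
    · rw [min_eq_left (by omega : b ≤ h + 1), min_eq_left (by omega : b ≤ h)]
      omega

theorem kappa_le_sum (M : Multiset ℕ) (j : ℕ) : kappa M j ≤ M.sum := by
  induction M using Multiset.induction_on with
  | empty => simp [kappa_zero]
  | cons b M ih =>
    rw [kappa_cons, Multiset.sum_cons]
    have := min_le_left b j
    omega

theorem kappa_one_lt (M : Multiset ℕ) (a₀ : ℕ) (ha₀ : a₀ ∈ M) (h2 : 2 ≤ a₀) :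
    kappa M 1 < M.sum := by
  obtain ⟨M', rfl⟩ := Multiset.exists_cons_of_mem ha₀
  rw [kappa_cons, Multiset.sum_cons]
  have := kappa_le_sum M' 1
  have : min a₀ 1 = 1 := min_eq_right (by omega)
  omega

/-- the parity condition from even kernel dimensions -/
theorem valid_of_even_kd (s : Multiset ℕ) (κ : ℕ → ℕ) (hmono : ∀ j, κ j ≤ κ (j + 1))
    (hnu : ∀ h, nuOf s h = κ (h + 1) - κ h) (heven : ∀ l, Even (κ (2 * l))) :
    ∀ a, Odd a → Even (s.count a) := by
  rintro a ⟨l, rfl⟩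
  have h1 := nuOf_pred s (2 * l + 1) (by omega)
  rw [show 2 * l + 1 - 1 = 2 * l by omega, hnu, hnu] at h1
  obtain ⟨e, he⟩ := heven l
  obtain ⟨e', he'⟩ := heven (l + 1)
  have h3 := hmono (2 * l)
  have h4 := hmono (2 * l + 1)
  rw [show 2 * (l + 1) = 2 * l + 1 + 1 by ring] at he'
  exact ⟨κ (2 * l + 1) - e - e', by omega⟩

end comb

section lin

variable {F V : Type*} [Field F] [AddCommGroup V] [Module F V]

theorem sub_one_pow_char (p : ℕ) [Fact p.Prime] [CharP F p] (y : Module.End F V) :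
    (y - 1) ^ p = y ^ p - 1 := by
  have h : (X - 1 : F[X]) ^ p = X ^ p - 1 := by rw [sub_pow_char, one_pow]
  have := congrArg (Polynomial.aeval y) h
  simpa using this

variable [FiniteDimensional F V]

/-- the kernel dimensions are those of the multiset of the Jordan type -/
theorem kd_eq_kappa (N : V →ₗ[F] V) (M : Multiset ℕ) (h : ∀ h, nuOf M h = nu N h) :
    ∀ j, kd N j = kappa M j := by
  intro j
  induction j with
  | zero => rw [kd_zero, kappa_zero']
  | succ j ih => rw [← kd_add_nu, kappa_succ, ih, h]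

theorem nu_eq_nuOf (N : V →ₗ[F] V) (M : Multiset ℕ) (h : ∀ j, kd N j = kappa M j) :
    ∀ h, nuOf M h = nu N h := by
  intro j
  unfold nu
  rw [h, h, kappa_succ]
  omega

end lin

section sp

variable {F : Type*} [Field F] [Fintype F]

/-- **Sufficiency** for `r = p` odd. -/
theorem unip_suff (p : ℕ) [hp : Fact p.Prime] [CharP F p] (hp2 : p ≠ 2) (d m : ℕ) (hd : 1 ≤ d)
    (hcomb : ∀ μ : Multiset ℕ, (∀ a ∈ μ, 0 < a ∧ a ≤ p) → (∀ a : ℕ, Odd a → Even (μ.count a)) →
      μ.sum = 2 * d →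
      ∃ ν : Multiset ℕ, ν ≤ μ ∧ ν.sum = m ∧ ∀ a : ℕ, Odd a → Even (ν.count a))
    (x : ↥(Matrix.symplecticGroup (Fin d) F))
    (hx : ∃ z : F, ((x ^ p : ↥(Matrix.symplecticGroup (Fin d) F)) :
      Matrix (Fin d ⊕ Fin d) (Fin d ⊕ Fin d) F) =
        z • (1 : Matrix (Fin d ⊕ Fin d) (Fin d ⊕ Fin d) F)) :
    ∃ W : Submodule F (Fin d ⊕ Fin d → F), finrank F W = m ∧
      (∀ u ∈ W, u ≠ 0 → ∃ v ∈ W, Cfsg.sympForm d F u v ≠ 0) ∧
      W.map (Matrix.toLin' (x : Matrix (Fin d ⊕ Fin d) (Fin d ⊕ Fin d) F)) ≤ W := by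
  classical
  obtain ⟨z, hz⟩ := hx
  have h2 : (2 : F) ≠ 0 := by
    intro h
    have h3 : ((2 : ℕ) : F) = 0 := by exact_mod_cast h
    rw [CharP.cast_eq_zero_iff F p 2] at h3
    exact hp2 ((Nat.prime_dvd_prime_iff_eq hp.out Nat.prime_two).mp h3)
  obtain ⟨y₀, hy₀⟩ : ∃ y₀ : (Fin d ⊕ Fin d → F) →ₗ[F] (Fin d ⊕ Fin d → F),
      y₀ = Matrix.toLin' (x : Matrix (Fin d ⊕ Fin d) (Fin d ⊕ Fin d) F) := ⟨_, rfl⟩
  rw [← hy₀]
  have hy₀r : y₀ ^ p = z • (1 : (Fin d ⊕ Fin d → F) →ₗ[F] (Fin d ⊕ Fin d → F)) := by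
    rw [hy₀, ← Matrix.toLin'_pow, ← SubmonoidClass.coe_pow, hz, map_smul, Matrix.toLin'_one]
    rfl
  have hiso₀ : ∀ u v, stdSymp d F (y₀ u) (y₀ v) = stdSymp d F u v := by
    intro u v
    rw [hy₀]
    exact sympLin_iso' x u v
  have hisoPow : ∀ k : ℕ, ∀ u v, stdSymp d F ((y₀ ^ k) u) ((y₀ ^ k) v) = stdSymp d F u v := by
    intro k
    induction k with
    | zero => intro u v; simp
    | succ k ih =>
      intro u v
      rw [pow_succ, Module.End.mul_apply, Module.End.mul_apply, ih, hiso₀]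
  have hz2 : z * z = 1 := by
    have h1 := hisoPow p (Pi.single (Sum.inl ⟨0, hd⟩) 1) (Pi.single (Sum.inr ⟨0, hd⟩) 1)
    have hval : stdSymp d F (Pi.single (Sum.inl ⟨0, hd⟩) 1) (Pi.single (Sum.inr ⟨0, hd⟩) 1) =
        -1 := by
      rw [stdSymp_apply, sympForm_single_right_inr, Pi.single_eq_same]
    rw [hy₀r] at h1
    simp only [LinearMap.smul_apply, Module.End.one_apply, map_smul, smul_eq_mul, hval] at h1
    linear_combination (-1 : F) * h1
  have hz0 : z ≠ 0 := by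
    rintro rfl
    rw [zero_mul] at hz2
    exact zero_ne_one hz2
  obtain ⟨y, hy⟩ : ∃ y : (Fin d ⊕ Fin d → F) →ₗ[F] (Fin d ⊕ Fin d → F), y = z • y₀ := ⟨_, rfl⟩
  have hyr : y ^ p = 1 := by
    rw [hy, _root_.smul_pow, hy₀r, smul_smul]
    obtain ⟨k, hk⟩ := hp.out.odd_of_ne_two hp2
    have : z ^ p * z = 1 := by
      rw [← pow_succ, hk, show 2 * k + 1 + 1 = 2 * (k + 1) by ring, pow_mul, pow_two, hz2,
        one_pow]
    rw [this, one_smul]
  have hiso : ∀ u v, stdSymp d F (y u) (y v) = stdSymp d F u v := by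
    intro u v
    rw [hy]
    simp only [LinearMap.smul_apply, map_smul, smul_eq_mul, hiso₀]
    linear_combination (stdSymp d F u v) * hz2
  have hmap : ∀ W : Submodule F (Fin d ⊕ Fin d → F), W.map y = W.map y₀ := by
    intro W
    rw [hy]
    exact Submodule.map_smul y₀ W z hz0
  have hinj : Function.Injective y :=
    injective_of_pow_eq_smul y p 1 one_ne_zero (by rw [hyr, one_smul]) hp.out.ne_zero
  have htop : (⊤ : Submodule F (Fin d ⊕ Fin d → F)).map y = ⊤ := by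
    rw [Submodule.map_top]
    exact LinearMap.range_eq_top.mpr (LinearMap.injective_iff_surjective.mp hinj)
  have hfr : finrank F (⊤ : Submodule F (Fin d ⊕ Fin d → F)) = 2 * d := by
    rw [finrank_top, finrank_std]
  have hNp : (y - 1) ^ p = 0 := by rw [sub_one_pow_char, hyr, sub_self]
  obtain ⟨μ, hμ⟩ := exists_partition_of_isNilpotent (y - 1) ⟨p, hNp⟩
  have hkd := kd_eq_kappa (y - 1) μ.parts hμ
  have hprof : ∀ j, finrank F ↥(LinearMap.ker ((y - 1) ^ j) ⊓
      (⊤ : Submodule F (Fin d ⊕ Fin d → F))) = kappa μ.parts j := by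
    intro j
    rw [inf_top_eq, ← hkd j]
    rfl
  have hμ1 : ∀ a ∈ μ.parts, 1 ≤ a := fun a ha => μ.parts_pos ha
  have hμp : ∀ a ∈ μ.parts, a ≤ p := by
    rw [← nuOf_eq_zero_iff, hμ]
    unfold nu
    rw [kd_eq_finrank_of_pow_eq_zero (y - 1) hNp (by omega),
      kd_eq_finrank_of_pow_eq_zero (y - 1) hNp le_rfl, Nat.sub_self]
  have hμe : ∀ a, Odd a → Even (μ.parts.count a) := by
    apply valid_of_even_kd μ.parts (kd (y - 1)) (kd_le_succ (y - 1)) hμ
    intro l
    have := even_prof (B := stdSymp d F) stdSymp_alt y hiso ⊤ htop (nondegOn_top d) l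
    rw [inf_top_eq] at this
    exact this
  obtain ⟨ν, hνμ, hνs, hνe⟩ := hcomb μ.parts (fun a ha => ⟨hμ1 a ha, hμp a ha⟩) hμe
    (by rw [μ.parts_sum, finrank_std])
  obtain ⟨W, -, hWx, hWn, hWf⟩ := exists_invt_of_sub (B := stdSymp d F) h2 stdSymp_alt y hiso hinj
    ⟨p, hNp⟩ (2 * d) ⊤ htop (nondegOn_top d) hfr μ.parts hμ1 hμe hprof ν hνμ hνe
  refine ⟨W, by rw [hWf, hνs], (nondegOn_iff W).mpr hWn, ?_⟩
  rw [← hmap, hWx]

/-- **Necessity** for `r = p` odd. -/
theorem unip_nec (p : ℕ) [hp : Fact p.Prime] [CharP F p] (d m : ℕ) (hd : 1 ≤ d)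
    (hme : Even m) (hmd : m ≤ 2 * d)
    (hgood : ∀ x : ↥(Matrix.symplecticGroup (Fin d) F),
      (Matrix.toLin' (x : Matrix (Fin d ⊕ Fin d) (Fin d ⊕ Fin d) F)) ^ p = 1 →
      (∀ z : F, (x : Matrix (Fin d ⊕ Fin d) (Fin d ⊕ Fin d) F) ≠
        z • (1 : Matrix (Fin d ⊕ Fin d) (Fin d ⊕ Fin d) F)) →
      ∃ W : Submodule F (Fin d ⊕ Fin d → F), finrank F W = m ∧
        (∀ u ∈ W, u ≠ 0 → ∃ v ∈ W, Cfsg.sympForm d F u v ≠ 0) ∧
        W.map (Matrix.toLin' (x : Matrix (Fin d ⊕ Fin d) (Fin d ⊕ Fin d) F)) ≤ W)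
    (μ : Multiset ℕ) (hμ : ∀ a ∈ μ, 0 < a ∧ a ≤ p) (hμe : ∀ a : ℕ, Odd a → Even (μ.count a))
    (hsum : μ.sum = 2 * d) :
    ∃ ν : Multiset ℕ, ν ≤ μ ∧ ν.sum = m ∧ ∀ a : ℕ, Odd a → Even (ν.count a) := by
  classical
  by_cases hall : ∀ a ∈ μ, a = 1
  · have h1 : μ = Multiset.replicate (Multiset.card μ) 1 :=
      Multiset.eq_replicate.mpr ⟨rfl, hall⟩
    have h3 : Multiset.card μ = 2 * d := by
      rw [h1, Multiset.sum_replicate, smul_eq_mul, mul_one] at hsum
      exact hsum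
    refine ⟨Multiset.replicate m 1, ?_, by rw [Multiset.sum_replicate, smul_eq_mul, mul_one], ?_⟩
    · rw [h1, h3]
      exact Multiset.replicate_le_replicate 1 |>.mpr hmd
    · intro a _
      rw [Multiset.count_replicate]
      split_ifs
      · exact hme
      · exact Even.zero
  push Not at hall
  obtain ⟨a₀, ha₀, ha₀1⟩ := hall
  have ha₀2 : 2 ≤ a₀ := by
    have := (hμ a₀ ha₀).1
    omega
  have hreal : IsRealised (-1 : F) (kappa μ) (2 * d) := by
    have h := realise_multiset (-1 : F) (fun b => Even b) (fun b hb => isRealised_evenSp_std b hb)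
      (fun b => isRealised_pair_std (-1 : F) (by ring) b) _ μ rfl
      (fun j hj => hμe j (Nat.not_even_iff_odd.1 hj))
    exact h.congr (fun _ => rfl) hsum
  obtain ⟨B, A, hnd, hsym, halt, hpres, hkdA⟩ := hreal
  obtain ⟨Ψ, hΨ⟩ := Cfsg.Agent.Lib.Helper16.exists_symp_equiv B (halt rfl) hnd d
    (by rw [Module.finrank_fin_fun])
  obtain ⟨A', hA'⟩ : ∃ A' : (Fin d ⊕ Fin d → F) →ₗ[F] (Fin d ⊕ Fin d → F),
      A' = Ψ.symm.toLinearMap ∘ₗ A ∘ₗ Ψ.toLinearMap := ⟨_, rfl⟩
  have hA'a : ∀ v, A' v = Ψ.symm (A (Ψ v)) := fun v => by rw [hA']; rfl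
  have hiso : ∀ u v, stdSymp d F (A' u) (A' v) = stdSymp d F u v := by
    intro u v
    rw [stdSymp_apply, stdSymp_apply, hA'a, hA'a, ← hΨ, ← hΨ, LinearEquiv.apply_symm_apply,
      LinearEquiv.apply_symm_apply, hpres]
  have hmem : LinearMap.toMatrix' A' ∈ Matrix.symplecticGroup (Fin d) F := by
    rw [Cfsg.Agent.Lib.Helper6.mem_symplecticGroup_iff_preserves]
    intro u v
    rw [← Matrix.toLin'_apply, ← Matrix.toLin'_apply, Matrix.toLin'_toMatrix']
    exact hiso u v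
  have hkd : ∀ j, kd (A' - 1) j = kappa μ j := by
    intro j
    rw [← hkdA j]
    symm
    apply kd_eq_of_equiv (A' - 1) (A - 1) Ψ
    intro v
    simp only [LinearMap.sub_apply, Module.End.one_apply, map_sub, hA'a,
      LinearEquiv.apply_symm_apply]
  have hμle : ∀ a ∈ μ, a ≤ p := fun a ha => (hμ a ha).2
  have hNp : (A' - 1) ^ p = 0 := by
    have h1 := hkd p
    rw [kappa_eq_sum μ p hμle, hsum, ← finrank_std (F := F) d] at h1
    have h3 : LinearMap.ker ((A' - 1) ^ p) = ⊤ := Submodule.eq_top_of_finrank_eq h1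
    exact LinearMap.ker_eq_top.mp h3
  have hA'p : A' ^ p = 1 := by
    have := sub_one_pow_char p A'
    rw [hNp] at this
    exact (sub_eq_zero.mp this.symm)
  have hns : ∀ z : F, LinearMap.toMatrix' A' ≠
      z • (1 : Matrix (Fin d ⊕ Fin d) (Fin d ⊕ Fin d) F) := by
    intro z hz
    have h1 : A' = z • LinearMap.id := by
      apply LinearMap.toMatrix'.injective
      rw [hz, map_smul, LinearMap.toMatrix'_id]
    have h3 : (z - 1) ^ p = 0 := by
      have h4 := LinearMap.congr_fun hNp (Pi.single (Sum.inl ⟨0, hd⟩) 1)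
      have h5 : A' - 1 = (z - 1) • (1 : (Fin d ⊕ Fin d → F) →ₗ[F] (Fin d ⊕ Fin d → F)) := by
        rw [h1]
        apply LinearMap.ext
        intro v
        simp [sub_smul]
      rw [h5, _root_.smul_pow, one_pow] at h4
      have h6 := congrFun h4 (Sum.inl ⟨0, hd⟩)
      simpa using h6
    have hz1 : z = 1 := by
      have := pow_eq_zero_iff (hp.out.ne_zero) |>.mp h3
      exact sub_eq_zero.mp this
    have h7 : A' - 1 = 0 := by
      rw [h1, hz1, one_smul]
      exact sub_self _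
    have h8 := hkd 1
    rw [h7] at h8
    have h9 : kd (0 : (Fin d ⊕ Fin d → F) →ₗ[F] (Fin d ⊕ Fin d → F)) 1 = 2 * d := by
      unfold kd
      rw [pow_one, LinearMap.ker_zero, finrank_top, finrank_std]
    have h10 := kappa_one_lt μ a₀ ha₀ ha₀2
    omega
  obtain ⟨W, hWf, hWn, hWx⟩ := hgood ⟨LinearMap.toMatrix' A', hmem⟩
    (by
      show (Matrix.toLin' (LinearMap.toMatrix' A')) ^ p = 1
      rw [Matrix.toLin'_toMatrix', hA'p])
    hns
  have hWx0 : W.map (Matrix.toLin' (LinearMap.toMatrix' A')) ≤ W := hWx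
  rw [Matrix.toLin'_toMatrix'] at hWx0
  have hWn' := (nondegOn_iff W).mp hWn
  have hinj : Function.Injective A' :=
    injective_of_pow_eq_smul A' p 1 one_ne_zero (by rw [hA'p, one_smul]) hp.out.ne_zero
  have hWx' : W.map A' = W := by
    apply map_eq_of_invt A' hinj
    rw [Module.End.mem_invtSubmodule_iff_map_le]
    exact hWx0
  have htop : (⊤ : Submodule F (Fin d ⊕ Fin d → F)).map A' = ⊤ := by
    rw [Submodule.map_top]
    exact LinearMap.range_eq_top.mpr (LinearMap.injective_iff_surjective.mp hinj)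
  have hTx := map_perpIn_of_inj (B := stdSymp d F) A' hinj hiso htop hWx'
  have hcompl : IsCompl W (perpIn (stdSymp d F) ⊤ W) := by
    constructor
    · exact (orth_perpIn ⊤ W).disjoint stdSymp_alt hWn'
    · rw [codisjoint_iff]
      exact sup_perpIn stdSymp_alt le_top hWn'
  have hWN : ∀ v ∈ W, (A' - 1) v ∈ W := by
    intro v hv
    rw [LinearMap.sub_apply, Module.End.one_apply]
    exact W.sub_mem (by rw [← hWx']; exact ⟨v, hv, rfl⟩) hv
  have hTN : ∀ v ∈ perpIn (stdSymp d F) ⊤ W, (A' - 1) v ∈ perpIn (stdSymp d F) ⊤ W := by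
    intro v hv
    rw [LinearMap.sub_apply, Module.End.one_apply]
    exact Submodule.sub_mem _ (by rw [← hTx]; exact ⟨v, hv, rfl⟩) hv
  have hnil : IsNilpotent (A' - 1) := ⟨p, hNp⟩
  obtain ⟨ν, hν⟩ := exists_partition_of_isNilpotent ((A' - 1).restrict hWN)
    (isNilpotent_restrict (A' - 1) hWN hnil)
  obtain ⟨ν', hν'⟩ := exists_partition_of_isNilpotent ((A' - 1).restrict hTN)
    (isNilpotent_restrict (A' - 1) hTN hnil)
  have hμν : μ = ν.parts + ν'.parts := by
    apply eq_of_nuOf_eq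
    · intro h0
      exact absurd (hμ 0 h0).1 (lt_irrefl 0)
    · intro h0
      rcases Multiset.mem_add.mp h0 with h | h
      · exact absurd (ν.parts_pos h) (lt_irrefl 0)
      · exact absurd (ν'.parts_pos h) (lt_irrefl 0)
    · intro h
      rw [nuOf_add, hν, hν', nu_eq_nuOf (A' - 1) μ hkd, nu_of_isCompl (A' - 1) hcompl hWN hTN]
  refine ⟨ν.parts, by rw [hμν]; exact Multiset.le_add_right _ _, by rw [ν.parts_sum, hWf], ?_⟩
  apply valid_of_even_kd ν.parts (kd ((A' - 1).restrict hWN)) (kd_le_succ _) hν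
  intro l
  rw [kd_restrict]
  exact even_prof (B := stdSymp d F) stdSymp_alt A' hiso W hWx' hWn' l

end sp

end Cfsg.Agent.Lib.Helper15.PSpL
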