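import Mathlib
import Cfsg.Agent.Lib.Helper16.CubeData

/-!
# The centraliser of a skew-adjoint square root of a non-square scalar in a symplectic group
-/

set_option autoImplicit false
set_option linter.unusedSimpArgs false
set_option linter.unusedSectionVars false

namespace Cfsg.Agent.Lib.Helper15.PSpN

open Module Cfsg.Agent.Lib.Helper6 Cfsg.Agent.Lib.Helper16 Matrix Cfsg

/-- data for a skew-adjoint map with scalar square acting on a symplectic space, with the
quadratic extension `K = F[ω]` acting on the space -/
structure QData (F K V : Type*) [Field F] [Field K] [Algebra F K] [AddCommGroup V] [Module F V]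
    [Module K V] (ω : K) (δ : F) (B : V →ₗ[F] V →ₗ[F] F) : Prop where
  hω : ω ^ 2 = algebraMap F K δ
  hspan : ∀ k : K, ∃ a b : F, k = algebraMap F K a + algebraMap F K b * ω
  hind : ∀ a b : F, algebraMap F K a + algebraMap F K b * ω = 0 → a = 0 ∧ b = 0
  halt : ∀ v, B v v = 0
  hnd : ∀ u, (∀ v, B u v = 0) → u = 0
  hBω : ∀ u v, B (ω • u) v = - B u (ω • v)

section
variable {F K V : Type*} [Field F] [Field K] [Algebra F K] [AddCommGroup V] [Module F V]
  [Module K V] [IsScalarTower F K V] {ω : K} {δ : F} {B : V →ₗ[F] V →ₗ[F] F}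

namespace QData

theorem skew (h : QData F K V ω δ B) (u v : V) : B u v = - B v u := by
  have h1 := h.halt (u + v)
  simp only [map_add, LinearMap.add_apply, h.halt, zero_add, add_zero] at h1
  linear_combination h1

theorem smul_smul_eq (h : QData F K V ω δ B) (v : V) : ω • ω • v = δ • v := by
  rw [smul_smul, ← pow_two, h.hω, algebraMap_smul]

/-- the hermitian form attached to the data -/
def herm (_h : QData F K V ω δ B) (u v : V) : K :=
  algebraMap F K (B u (ω • v)) + ω * algebraMap F K (B u v)

theorem herm_add_left (h : QData F K V ω δ B) (u u' v : V) :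
    h.herm (u + u') v = h.herm u v + h.herm u' v := by
  simp only [herm, map_add, LinearMap.add_apply]
  ring

theorem herm_add_right (h : QData F K V ω δ B) (u v v' : V) :
    h.herm u (v + v') = h.herm u v + h.herm u v' := by
  simp only [herm, map_add, smul_add]
  ring

theorem herm_smulF_left (h : QData F K V ω δ B) (a : F) (u v : V) :
    h.herm (a • u) v = algebraMap F K a * h.herm u v := by
  simp only [herm, map_smul, LinearMap.smul_apply, smul_eq_mul, map_mul]
  ring

theorem herm_smulF_right (h : QData F K V ω δ B) (a : F) (u v : V) :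
    h.herm u (a • v) = algebraMap F K a * h.herm u v := by
  simp only [herm, map_smul, smul_eq_mul, map_mul, smul_comm ω a v]
  ring

theorem herm_omega_right (h : QData F K V ω δ B) (u v : V) :
    h.herm u (ω • v) = ω * h.herm u v := by
  simp only [herm, h.smul_smul_eq, map_smul, smul_eq_mul, map_mul]
  linear_combination (-algebraMap F K (B u v)) * h.hω

theorem herm_omega_left (h : QData F K V ω δ B) (u v : V) :
    h.herm (ω • u) v = -ω * h.herm u v := by
  simp only [herm, h.hBω, h.smul_smul_eq, map_neg, map_smul, smul_eq_mul, map_mul]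
  linear_combination (algebraMap F K (B u v)) * h.hω

theorem coeff_eq (h : QData F K V ω δ B) {a b a' b' : F}
    (he : algebraMap F K a + ω * algebraMap F K b =
      algebraMap F K a' + ω * algebraMap F K b') : a = a' ∧ b = b' := by
  have h1 : algebraMap F K (a - a') + algebraMap F K (b - b') * ω = 0 := by
    simp only [map_sub]
    linear_combination he
  obtain ⟨h2, h3⟩ := h.hind _ _ h1
  exact ⟨sub_eq_zero.mp h2, sub_eq_zero.mp h3⟩

section finite
variable [Fintype F] [Fintype K] {q : ℕ}

theorem conj_omega (h : QData F K V ω δ B) (hF : Fintype.card F = q)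
    (hK : Fintype.card K = q ^ 2) : conjQ hK ω = -ω := by
  have h1 : conjQ hK ω ^ 2 = ω ^ 2 := by
    rw [← map_pow, h.hω, CubeData.conj_alg hF hK]
  have h2 : (conjQ hK ω - ω) * (conjQ hK ω + ω) = 0 := by linear_combination h1
  rcases mul_eq_zero.mp h2 with h3 | h3
  · exfalso
    apply conjQ_ne_id hK
    ext k
    obtain ⟨a, b, rfl⟩ := h.hspan k
    rw [map_add, map_mul, CubeData.conj_alg hF hK, CubeData.conj_alg hF hK, sub_eq_zero.mp h3]
    rfl
  · exact eq_neg_of_add_eq_zero_left h3

theorem herm_smul_right (h : QData F K V ω δ B) (k : K) (u v : V) :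
    h.herm u (k • v) = k * h.herm u v := by
  obtain ⟨a, b, rfl⟩ := h.hspan k
  rw [add_smul, mul_smul, algebraMap_smul, algebraMap_smul, h.herm_add_right, h.herm_smulF_right,
    h.herm_smulF_right, h.herm_omega_right]
  ring

theorem herm_smul_left (h : QData F K V ω δ B) (hF : Fintype.card F = q)
    (hK : Fintype.card K = q ^ 2) (k : K) (u v : V) :
    h.herm (k • u) v = conjQ hK k * h.herm u v := by
  obtain ⟨a, b, rfl⟩ := h.hspan k
  rw [add_smul, mul_smul, algebraMap_smul, algebraMap_smul, h.herm_add_left, h.herm_smulF_left,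
    h.herm_smulF_left, h.herm_omega_left, map_add, map_mul, CubeData.conj_alg hF hK,
    CubeData.conj_alg hF hK, h.conj_omega hF hK]
  ring

/-- the hermitian form as a sesquilinear map -/
noncomputable def hermL (h : QData F K V ω δ B) (hF : Fintype.card F = q)
    (hK : Fintype.card K = q ^ 2) : V →ₛₗ[conjQ hK] V →ₗ[K] K :=
  LinearMap.mk₂'ₛₗ (conjQ hK) (RingHom.id K) h.herm h.herm_add_left
    (fun k u v => h.herm_smul_left hF hK k u v) h.herm_add_right
    (fun k u v => h.herm_smul_right k u v)

theorem hermL_apply (h : QData F K V ω δ B) (hF : Fintype.card F = q)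
    (hK : Fintype.card K = q ^ 2) (u v : V) :
    h.hermL hF hK u v = algebraMap F K (B u (ω • v)) + ω * algebraMap F K (B u v) := rfl

theorem hermL_isSymm (h : QData F K V ω δ B) (hF : Fintype.card F = q)
    (hK : Fintype.card K = q ^ 2) : (h.hermL hF hK).IsSymm := by
  refine ⟨fun u v => ?_⟩
  rw [hermL_apply, hermL_apply]
  change conjQ hK _ = _
  rw [map_add, map_mul, CubeData.conj_alg hF hK, CubeData.conj_alg hF hK, h.conj_omega hF hK,
    h.skew v u, h.skew v (ω • u), h.hBω]
  simp only [map_neg, neg_neg]
  ring

theorem hermL_nondeg (h : QData F K V ω δ B) (hF : Fintype.card F = q)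
    (hK : Fintype.card K = q ^ 2) : (h.hermL hF hK).Nondegenerate := by
  have h1 : (h.hermL hF hK).SeparatingLeft := by
    intro u hu
    apply h.hnd
    intro v
    have h2 := hu v
    rw [hermL_apply] at h2
    have h3 : algebraMap F K (B u (ω • v)) + ω * algebraMap F K (B u v) =
        algebraMap F K 0 + ω * algebraMap F K 0 := by
      rw [h2, map_zero]; ring
    exact (h.coeff_eq h3).2
  exact ⟨h1, herm_sepRight (conjQ hK) (conjQ_conjQ hK) _ (h.hermL_isSymm hF hK) h1⟩

/-- `K`-linear isometries of the hermitian form correspond to `F`-linear isometries of `B`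
commuting with `ω`. -/
theorem card_isometries (h : QData F K V ω δ B) (hF : Fintype.card F = q)
    (hK : Fintype.card K = q ^ 2) :
    Nat.card {g : V →ₗ[F] V // (∀ v, g (ω • v) = ω • g v) ∧ ∀ u v, B (g u) (g v) = B u v} =
      Nat.card {g : V →ₗ[K] V // ∀ u v, h.hermL hF hK (g u) (g v) = h.hermL hF hK u v} := by
  symm
  let f : {g : V →ₗ[K] V // ∀ u v, h.hermL hF hK (g u) (g v) = h.hermL hF hK u v} →
      {g : V →ₗ[F] V // (∀ v, g (ω • v) = ω • g v) ∧ ∀ u v, B (g u) (g v) = B u v} := fun g =>
    ⟨g.1.restrictScalars F, fun v => map_smul g.1 ω v, fun u v => by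
      have h1 := g.2 u v
      rw [hermL_apply, hermL_apply] at h1
      exact (h.coeff_eq h1).2⟩
  apply Nat.card_eq_of_bijective f
  constructor
  · intro g g' hgg
    apply Subtype.ext
    apply LinearMap.ext
    intro v
    exact LinearMap.congr_fun (congrArg Subtype.val hgg) v
  · intro g
    have hlin : ∀ (k : K) (v : V), g.1 (k • v) = k • g.1 v := by
      intro k v
      obtain ⟨a, b, rfl⟩ := h.hspan k
      rw [add_smul, mul_smul, algebraMap_smul, algebraMap_smul, map_add, map_smul, map_smul,
        g.2.1, add_smul, mul_smul, algebraMap_smul, algebraMap_smul]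
    refine ⟨⟨{ toFun := g.1, map_add' := g.1.map_add, map_smul' := hlin }, ?_⟩, ?_⟩
    · intro u v
      rw [hermL_apply, hermL_apply]
      change algebraMap F K (B (g.1 u) (ω • g.1 v)) + ω * algebraMap F K (B (g.1 u) (g.1 v)) = _
      rw [← g.2.1, g.2.2, g.2.2]
    · apply Subtype.ext
      apply LinearMap.ext
      intro v
      rfl

theorem card_K (h : QData F K V ω δ B) (hF : Fintype.card F = q) : Fintype.card K = q ^ 2 := by
  classical
  let e : F × F → K := fun p => algebraMap F K p.1 + algebraMap F K p.2 * ω
  have he : Function.Bijective e := by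
    constructor
    · rintro ⟨a, b⟩ ⟨a', b'⟩ hab
      have h1 : algebraMap F K (a - a') + algebraMap F K (b - b') * ω = 0 := by
        simp only [map_sub]
        simp only [e] at hab
        linear_combination hab
      obtain ⟨h2, h3⟩ := h.hind _ _ h1
      rw [sub_eq_zero] at h2 h3
      rw [h2, h3]
    · intro k
      obtain ⟨a, b, rfl⟩ := h.hspan k
      exact ⟨(a, b), rfl⟩
  rw [← Fintype.card_of_bijective he, Fintype.card_prod, hF, sq]

/-- the abstract count of the centraliser -/
theorem card_centralizer (h : QData F K V ω δ B) (hF : Fintype.card F = q)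
    [FiniteDimensional F V] (m : ℕ) (hV : finrank F V = 2 * m) :
    Nat.card {g : V →ₗ[F] V // (∀ v, g (ω • v) = ω • g v) ∧ ∀ u v, B (g u) (g v) = B u v} =
      Nat.card (Cfsg.GU m K q) := by
  have hK := h.card_K hF
  rw [h.card_isometries hF hK]
  have : FiniteDimensional K V := Module.Finite.of_restrictScalars_finite F K V
  apply card_herm_isometries_eq_GU hK _ (h.hermL_isSymm hF hK) (h.hermL_nondeg hF hK) m
  have h1 := Module.finrank_mul_finrank F K V
  rw [finrank_eq_two_of_card hF hK, hV] at h1
  omega

end finite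

end QData

end

end Cfsg.Agent.Lib.Helper15.PSpN
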