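import Mathlib
import Cfsg.Agent.Lib.Helper15.PSpN1

/-!
# Elements of prime order centralising a skew-adjoint square root: restriction to a subspace
-/

set_option autoImplicit false
set_option linter.unusedSimpArgs false
set_option linter.unusedSectionVars false

namespace Cfsg.Agent.Lib.Helper15.PSpN

open Module Cfsg.Agent.Lib.Helper6 Cfsg.Agent.Lib.Helper16 Matrix Cfsg

section restr

variable {F K V : Type*} [Field F] [Field K] [Algebra F K] [AddCommGroup V] [Module F V]
  [Module K V] [IsScalarTower F K V] {ω : K} {δ : F} {B : V →ₗ[F] V →ₗ[F] F}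

/-- the restriction of the form to a subspace stable under the field -/
def restrB (B : V →ₗ[F] V →ₗ[F] F) (U : Submodule K V) : ↥U →ₗ[F] ↥U →ₗ[F] F :=
  LinearMap.mk₂ F (fun u v => B (u : V) (v : V))
    (fun u u' v => by simp only [Submodule.coe_add, map_add, LinearMap.add_apply])
    (fun c u v => by
      simp only [Submodule.coe_smul_of_tower, map_smul, LinearMap.smul_apply])
    (fun u v v' => by simp only [Submodule.coe_add, map_add])
    (fun c u v => by simp only [Submodule.coe_smul_of_tower, map_smul])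

theorem restrB_apply (U : Submodule K V) (u v : ↥U) : restrB B U u v = B (u : V) (v : V) := rfl

theorem qdata_restr (h : QData F K V ω δ B) (U : Submodule K V)
    (hU : ∀ u ∈ U, (∀ v ∈ U, B u v = 0) → u = 0) : QData F K ↥U ω δ (restrB B U) where
  hω := h.hω
  hspan := h.hspan
  hind := h.hind
  halt := fun v => by rw [restrB_apply]; exact h.halt _
  hnd := fun u hu => by
    apply Subtype.ext
    apply hU u.1 u.2
    intro v hv
    exact hu ⟨v, hv⟩
  hBω := fun u v => by
    rw [restrB_apply, restrB_apply, Submodule.coe_smul, Submodule.coe_smul, h.hBω]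

variable [Fintype F] {q : ℕ}

/-- an element of prime order of the centraliser acting nontrivially on a nondegenerate stable
subspace: its order divides the order of the unitary group of that subspace -/
theorem dvd_card_GU_of_restr (h : QData F K V ω δ B) [Fintype K] (hF : Fintype.card F = q)
    [FiniteDimensional F V] (U : Submodule K V)
    (hU : ∀ u ∈ U, (∀ v ∈ U, B u v = 0) → u = 0) (m : ℕ) (hm : finrank F ↥U = 2 * m)
    (g : V →ₗ[F] V) (hgω : ∀ v, g (ω • v) = ω • g v) (hgB : ∀ u v, B (g u) (g v) = B u v)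
    (hgU : ∀ u ∈ U, g u ∈ U) (r : ℕ) [hr : Fact r.Prime] (hgr : g ^ r = 1)
    (hfix : ∀ u ∈ U, g u = u → u = 0) (hU0 : ∃ u ∈ U, u ≠ 0) :
    r ∣ Nat.card (Cfsg.GU m K q) := by
  classical
  have hq := qdata_restr h U hU
  have hfd : FiniteDimensional F ↥U := by
    have : FiniteDimensional F ↥(U.restrictScalars F) := inferInstance
    exact this
  rw [← hq.card_centralizer hF m hm]
  obtain ⟨S, hS⟩ : ∃ S : Type _, S = {g' : ↥U →ₗ[F] ↥U //
      (∀ v, g' (ω • v) = ω • g' v) ∧ ∀ u v, restrB B U (g' u) (g' v) = restrB B U u v} := ⟨_, rfl⟩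
  -- the restriction of `g`
  let gU : ↥U →ₗ[F] ↥U :=
    { toFun := fun u => ⟨g u.1, hgU u.1 u.2⟩
      map_add' := fun u v => by
        apply Subtype.ext
        simp only [Submodule.coe_add, map_add]
      map_smul' := fun c u => by
        apply Subtype.ext
        simp only [Submodule.coe_smul_of_tower, map_smul, RingHom.id_apply] }
  have hgUval : ∀ u : ↥U, ((gU u : ↥U) : V) = g u.1 := fun u => rfl
  have hgUω : ∀ v, gU (ω • v) = ω • gU v := by
    intro v
    apply Subtype.ext
    rw [hgUval, Submodule.coe_smul, hgω, Submodule.coe_smul, hgUval]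
  have hgUB : ∀ u v, restrB B U (gU u) (gU v) = restrB B U u v := by
    intro u v
    rw [restrB_apply, restrB_apply, hgUval, hgUval, hgB]
  have hgUpow : ∀ (n : ℕ) (u : ↥U), (((gU ^ n) u : ↥U) : V) = (g ^ n) u.1 := by
    intro n
    induction n with
    | zero => intro u; simp
    | succ n ih =>
      intro u
      rw [pow_succ, Module.End.mul_apply, ih, hgUval, pow_succ, Module.End.mul_apply]
  have hgUr : gU ^ r = 1 := by
    apply LinearMap.ext
    intro u
    apply Subtype.ext
    rw [hgUpow, hgr]
    rfl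
  have hfin : Finite {g' : ↥U →ₗ[F] ↥U //
      (∀ v, g' (ω • v) = ω • g' v) ∧ ∀ u v, restrB B U (g' u) (g' v) = restrB B U u v} := by
    have : Finite ↥U := Module.finite_of_finite F
    have : Finite (↥U →ₗ[F] ↥U) := Finite.of_injective (fun f => (f : ↥U → ↥U))
      DFunLike.coe_injective
    exact Subtype.finite
  have hft : Fintype {g' : ↥U →ₗ[F] ↥U //
      (∀ v, g' (ω • v) = ω • g' v) ∧ ∀ u v, restrB B U (g' u) (g' v) = restrB B U u v} :=
    Fintype.ofFinite _
  let σ : Function.End {g' : ↥U →ₗ[F] ↥U //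
      (∀ v, g' (ω • v) = ω • g' v) ∧ ∀ u v, restrB B U (g' u) (g' v) = restrB B U u v} :=
    fun s => ⟨gU ∘ₗ s.1, fun v => by
      rw [LinearMap.comp_apply, s.2.1, hgUω, LinearMap.comp_apply], fun u v => by
      rw [LinearMap.comp_apply, LinearMap.comp_apply, hgUB, s.2.2]⟩
  have hσpow : ∀ (n : ℕ) s, ((σ ^ n) s).1 = gU ^ n * s.1 := by
    intro n
    induction n with
    | zero =>
      intro s
      rw [pow_zero, pow_zero, one_mul]
      rfl
    | succ n ih =>
      intro s
      rw [pow_succ']
      change gU ∘ₗ ((σ ^ n) s).1 = _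
      rw [ih, pow_succ', mul_assoc]
      rfl
  have hσr : σ ^ r ^ 1 = 1 := by
    rw [pow_one]
    funext s
    apply Subtype.ext
    rw [hσpow, hgUr, one_mul]
    rfl
  have hmod := Equiv.Perm.card_fixedPoints_modEq (p := r) (n := 1) hσr
  have hempty : Fintype.card ↑(Function.fixedPoints σ) = 0 := by
    rw [Fintype.card_eq_zero_iff]
    refine ⟨fun ⟨s, hs⟩ => ?_⟩
    have hs' : gU ∘ₗ s.1 = s.1 := congrArg Subtype.val hs
    -- `s` is injective
    have hsinj : Function.Injective s.1 := by
      rw [← LinearMap.ker_eq_bot, Submodule.eq_bot_iff]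
      intro u hu
      rw [LinearMap.mem_ker] at hu
      apply hq.hnd
      intro v
      rw [← s.2.2, hu, map_zero, LinearMap.zero_apply]
    have hssurj : Function.Surjective s.1 := LinearMap.surjective_of_injective hsinj
    obtain ⟨u₀, hu₀U, hu₀⟩ := hU0
    obtain ⟨w, hw⟩ := hssurj ⟨u₀, hu₀U⟩
    have h1 := LinearMap.congr_fun hs' w
    rw [LinearMap.comp_apply, hw] at h1
    have h2 : g u₀ = u₀ := congrArg Subtype.val h1
    exact hu₀ (hfix u₀ hu₀U h2)
  rw [hempty] at hmod
  rw [Nat.card_eq_fintype_card]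
  exact (Nat.modEq_zero_iff_dvd).mp hmod

end restr

end Cfsg.Agent.Lib.Helper15.PSpN
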