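import Mathlib
import Cfsg.Agent.Lib.Helper15.PSub6

/-!
# Arithmetic of the orders of unitary groups against primitive prime divisors
-/

set_option autoImplicit false
set_option linter.unusedSimpArgs false
set_option linter.unusedSectionVars false

namespace Cfsg.Agent.Lib.Helper15.PSpN

open Cfsg.Agent.Lib.Helper15.PSub

section arith

/-- the order of the general unitary group -/
def guOrd (q n : ℕ) : ℕ :=
  q ^ (n * (n - 1) / 2) *
    ∏ i ∈ Finset.range n, (if Even i then q ^ (i + 1) + 1 else q ^ (i + 1) - 1)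

theorem dvd_two_of_dvd (q r n : ℕ) (hq : 1 ≤ q) (h1 : r ∣ q ^ n + 1) (h2 : r ∣ q ^ n - 1) :
    r ∣ 2 := by
  have h3 := Nat.dvd_sub h1 h2
  have h4 : 1 ≤ q ^ n := Nat.one_le_pow _ _ hq
  have e : q ^ n + 1 - (q ^ n - 1) = 2 := by omega
  rwa [e] at h3

theorem dvd_sq_sub_one (q r n : ℕ) (hq : 1 ≤ q) (h1 : r ∣ q ^ n + 1) : r ∣ q ^ (2 * n) - 1 := by
  have h4 : 1 ≤ q ^ n := Nat.one_le_pow _ _ hq
  have e : q ^ (2 * n) - 1 = (q ^ n + 1) * (q ^ n - 1) := by
    have := Nat.sq_sub_sq (q ^ n) 1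
    rw [one_pow] at this
    rw [← this, ← pow_mul, mul_comm]
  rw [e]
  exact Dvd.dvd.mul_right h1 _

theorem four_dvd_of (i n : ℕ) (hn : Even n) (h1 : i ∣ 2 * n) (h2 : ¬ i ∣ n) : 4 ∣ i := by
  rcases Nat.even_or_odd i with hi | hi
  · obtain ⟨i', rfl⟩ := hi
    have h3 : i' ∣ n := by
      have : 2 * i' ∣ 2 * n := by rwa [two_mul i']
      exact Nat.dvd_of_mul_dvd_mul_left two_pos this
    rcases Nat.even_or_odd i' with hi' | hi'
    · obtain ⟨t, rfl⟩ := hi'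
      exact ⟨t, by ring⟩
    · exfalso
      apply h2
      obtain ⟨n', rfl⟩ := hn
      have hcop : Nat.Coprime i' 2 := Nat.coprime_two_right.mpr hi'
      have h4 : i' ∣ n' := by
        have : i' ∣ n' * 2 := by rwa [mul_two]
        exact hcop.dvd_of_dvd_mul_right this
      obtain ⟨t, rfl⟩ := h4
      exact ⟨t, by ring⟩
  · exfalso
    apply h2
    have hcop : Nat.Coprime i 2 := Nat.coprime_two_right.mpr hi
    exact hcop.dvd_of_dvd_mul_left h1

/-- primes whose order is odd, or divisible by four, do not divide the order of the small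
unitary group -/
theorem not_dvd_guOrd (q r m : ℕ) (hq : 2 ≤ q) (hr : r.Prime) (hr2 : r ≠ 2) (hrq : ¬ r ∣ q)
    (hi : 0 < orderOf ((q : ℕ) : ZMod r))
    (h : (Odd (orderOf ((q : ℕ) : ZMod r)) ∧ m = orderOf ((q : ℕ) : ZMod r)) ∨
      (4 ∣ orderOf ((q : ℕ) : ZMod r) ∧ 2 * m = orderOf ((q : ℕ) : ZMod r))) :
    ¬ r ∣ guOrd q m := by
  obtain ⟨i, hidef⟩ : ∃ i, i = orderOf ((q : ℕ) : ZMod r) := ⟨_, rfl⟩
  rw [← hidef] at h hi
  have hdvd : ∀ t, i ∣ t ↔ r ∣ q ^ t - 1 := fun t => by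
    rw [hidef]; exact orderOf_zmod_dvd_iff q r t (by omega)
  intro hdiv
  unfold guOrd at hdiv
  rcases (Nat.Prime.dvd_mul hr).mp hdiv with h1 | h1
  · exact hrq (hr.dvd_of_dvd_pow h1)
  obtain ⟨j, hj, hrj⟩ := (Prime.dvd_finsetProd_iff hr.prime _).mp h1
  rw [Finset.mem_range] at hj
  have hr2' : ¬ r ∣ 2 := by
    intro h2
    exact hr2 ((Nat.prime_dvd_prime_iff_eq hr Nat.prime_two).mp h2)
  by_cases hje : Even j
  · rw [if_pos hje] at hrj
    have h3 : i ∣ 2 * (j + 1) := (hdvd _).mpr (dvd_sq_sub_one q r _ (by omega) hrj)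
    rcases h with ⟨hodd, hm⟩ | ⟨h4, hm⟩
    · have hcop : Nat.Coprime i 2 := Nat.coprime_two_right.mpr hodd
      have h5 : i ∣ j + 1 := hcop.dvd_of_dvd_mul_left h3
      exact hr2' (dvd_two_of_dvd q r _ (by omega) hrj ((hdvd _).mp h5))
    · have h5 := Nat.le_of_dvd (by omega) h3
      have h6 : 2 * (j + 1) = i := by omega
      obtain ⟨t, ht⟩ := h4
      obtain ⟨s, hs⟩ := hje
      omega
  · rw [if_neg hje] at hrj
    have h3 : i ∣ j + 1 := (hdvd _).mpr hrj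
    have h5 := Nat.le_of_dvd (by omega) h3
    rcases h with ⟨hodd, hm⟩ | ⟨h4, hm⟩
    · have h6 : j + 1 = i := by omega
      rw [← h6] at hodd
      have : Odd j := Nat.not_even_iff_odd.mp hje
      obtain ⟨s, hs⟩ := this
      obtain ⟨t, ht⟩ := hodd
      omega
    · omega

theorem prod_factor (q d : ℕ) (hq : 1 ≤ q) :
    ∏ j ∈ Finset.range d, (q ^ (2 * (j + 1)) - 1) =
      (∏ j ∈ Finset.range d, (if Even j then q ^ (j + 1) + 1 else q ^ (j + 1) - 1)) *
        ∏ j ∈ Finset.range d, (if Even j then q ^ (j + 1) - 1 else q ^ (j + 1) + 1) := by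
  rw [← Finset.prod_mul_distrib]
  apply Finset.prod_congr rfl
  intro j _
  have e : q ^ (2 * (j + 1)) - 1 = (q ^ (j + 1) + 1) * (q ^ (j + 1) - 1) := by
    have := Nat.sq_sub_sq (q ^ (j + 1)) 1
    rw [one_pow] at this
    rw [← this, ← pow_mul, mul_comm]
  rw [e]
  split_ifs
  · rfl
  · rw [mul_comm]

/-- the primes dividing the index of `GU_d(q)` in `Sp_{2d}(q)` -/
theorem index_cases (q r d R : ℕ) (hq : 2 ≤ q) (hr : r.Prime) (hr2 : r ≠ 2) (hrq : ¬ r ∣ q)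
    (hrR : r ∣ R)
    (h : R * guOrd q d ∣ q ^ (d ^ 2) * ∏ j ∈ Finset.range d, (q ^ (2 * (j + 1)) - 1)) :
    (Odd (orderOf ((q : ℕ) : ZMod r)) ∧ orderOf ((q : ℕ) : ZMod r) ≤ d) ∨
      (4 ∣ orderOf ((q : ℕ) : ZMod r) ∧ orderOf ((q : ℕ) : ZMod r) ≤ 2 * d) := by
  obtain ⟨i, hidef⟩ : ∃ i, i = orderOf ((q : ℕ) : ZMod r) := ⟨_, rfl⟩
  rw [← hidef]
  have hdvd : ∀ t, i ∣ t ↔ r ∣ q ^ t - 1 := fun t => by
    rw [hidef]; exact orderOf_zmod_dvd_iff q r t (by omega)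
  have hr2' : ¬ r ∣ 2 := by
    intro h2
    exact hr2 ((Nat.prime_dvd_prime_iff_eq hr Nat.prime_two).mp h2)
  rw [prod_factor q d (by omega)] at h
  unfold guOrd at h
  obtain ⟨A, hA⟩ : ∃ A, A = ∏ j ∈ Finset.range d,
      (if Even j then q ^ (j + 1) + 1 else q ^ (j + 1) - 1) := ⟨_, rfl⟩
  rw [← hA] at h
  have hApos : 0 < A := by
    rw [hA]
    apply Finset.prod_pos
    intro j _
    have h4 : 2 ≤ q ^ (j + 1) := by
      calc 2 ≤ q := hq
        _ = q ^ 1 := (pow_one q).symm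
        _ ≤ q ^ (j + 1) := Nat.pow_le_pow_right (by omega) (by omega)
    split_ifs <;> omega
  have h1 : R * q ^ (d * (d - 1) / 2) * A ∣ (q ^ (d ^ 2) *
      ∏ j ∈ Finset.range d, (if Even j then q ^ (j + 1) - 1 else q ^ (j + 1) + 1)) * A := by
    convert h using 1 <;> ring
  have h2 := Nat.dvd_of_mul_dvd_mul_right hApos h1
  have h3 : r ∣ q ^ (d ^ 2) *
      ∏ j ∈ Finset.range d, (if Even j then q ^ (j + 1) - 1 else q ^ (j + 1) + 1) :=
    (hrR.trans (Dvd.intro _ rfl)).trans h2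
  rcases (Nat.Prime.dvd_mul hr).mp h3 with h4 | h4
  · exact absurd (hr.dvd_of_dvd_pow h4) hrq
  obtain ⟨j, hj, hrj⟩ := (Prime.dvd_finsetProd_iff hr.prime _).mp h4
  rw [Finset.mem_range] at hj
  by_cases hje : Even j
  · rw [if_pos hje] at hrj
    left
    have h5 : i ∣ j + 1 := (hdvd _).mpr hrj
    have h6 := Nat.le_of_dvd (by omega) h5
    refine ⟨?_, by omega⟩
    have : Odd (j + 1) := hje.add_one
    exact Odd.of_dvd_nat this h5
  · rw [if_neg hje] at hrj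
    right
    have h5 : i ∣ 2 * (j + 1) := (hdvd _).mpr (dvd_sq_sub_one q r _ (by omega) hrj)
    have h6 := Nat.le_of_dvd (by omega) h5
    refine ⟨?_, by omega⟩
    apply four_dvd_of i (j + 1) _ h5
    · intro h7
      exact hr2' (dvd_two_of_dvd q r _ (by omega) hrj ((hdvd _).mp h7))
    · have : Odd j := Nat.not_even_iff_odd.mp hje
      exact this.add_one

end arith

end Cfsg.Agent.Lib.Helper15.PSpN
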