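import Mathlib
import Cfsg.Agent.Lib.Helper15.PSpN2
import Cfsg.Agent.Lib.Helper15.PSpN3
import Cfsg.Agent.Lib.Helper15.PSpM12

/-!
# Unitary type subgroups of symplectic groups: the skew-adjoint generator and the index
-/

set_option autoImplicit false
set_option linter.unusedSimpArgs false
set_option linter.unusedSectionVars false

namespace Cfsg.Agent.Lib.Helper15.PSpN

open Module Matrix Cfsg.Agent.Lib.Helper15 Cfsg.Agent.Lib.Helper6 Cfsg.Agent.Lib.Helper15.PSpI
  Cfsg.Agent.Lib.Helper15.PSpJ Cfsg.Agent.Lib.Helper29.SPO Cfsg.Agent.Lib.Helper15.PSpM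

section gen

variable {F : Type*} [Field F] {d : ℕ}

local notation "VV" => (Fin d ⊕ Fin d → F)
local notation "MM" => Matrix (Fin d ⊕ Fin d) (Fin d ⊕ Fin d) F

/-- matrices with the same adjoint pairing are equal -/
theorem eq_of_sympForm_eq (A A' : MM)
    (h : ∀ u v : VV, Cfsg.sympForm d F u (A *ᵥ v) = Cfsg.sympForm d F u (A' *ᵥ v)) : A = A' := by
  apply matrix_ext_mulVec
  intro v
  rw [← sub_eq_zero]
  apply stdSymp_nondeg
  intro u
  rw [alt_swap (stdSymp d F) stdSymp_alt, neg_eq_zero, map_sub, stdSymp_apply, stdSymp_apply, h,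
    sub_self]

/-- the skew-adjoint generator of a quadratic field subalgebra which is closed under adjoints but
not self-adjoint -/
theorem exists_gen_skew (hd : 1 ≤ d) (h2 : (2 : F) ≠ 0) (K : Subalgebra F MM)
    (hK : Cfsg.Geo.IsFieldSubalgebra 2 K)
    (hKf : Cfsg.Geo.IsAdjointClosedFor (Cfsg.sympForm d F) K)
    (hKns : ¬ Cfsg.Geo.IsSelfAdjointFor (Cfsg.sympForm d F) K) :
    ∃ J ∈ K, ∃ δ : F, ¬ IsSquare δ ∧ J * J = δ • (1 : MM) ∧ (∀ c : F, J ≠ c • (1 : MM)) ∧
      (∀ k ∈ K, ∃ a b : F, k = a • (1 : MM) + b • J) ∧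
      ∀ u v : VV, Cfsg.sympForm d F (J *ᵥ u) v = -Cfsg.sympForm d F u (J *ᵥ v) := by
  classical
  have hne : Nonempty (Fin d ⊕ Fin d) := ⟨Sum.inl ⟨0, by omega⟩⟩
  obtain ⟨J, hJK, δ, hδ, hJJ, hJns, hgen⟩ := exists_gen_odd h2 K hK
  refine ⟨J, hJK, δ, hδ, hJJ, hJns, hgen, ?_⟩
  obtain ⟨J', hJ'K, hJ'⟩ := hKf J hJK
  obtain ⟨a, b, hab⟩ := hgen J' hJ'K
  have h1 : (1 : MM) ≠ 0 := by
    intro h
    have := congrFun (congrFun h (Sum.inl ⟨0, by omega⟩)) (Sum.inl ⟨0, by omega⟩)
    simp at this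
  have hind : ∀ s t : F, s • (1 : MM) + t • J = 0 → s = 0 ∧ t = 0 := by
    intro s t hst
    by_cases ht : t = 0
    · rw [ht, zero_smul, add_zero] at hst
      rcases smul_eq_zero.mp hst with h | h
      · exact ⟨h, ht⟩
      · exact absurd h h1
    · exfalso
      apply hJns (-(t⁻¹ * s))
      have h3 : t • J = -(s • (1 : MM)) := eq_neg_of_add_eq_zero_right hst
      calc J = t⁻¹ • (t • J) := by rw [smul_smul, inv_mul_cancel₀ ht, one_smul]
        _ = -(t⁻¹ * s) • (1 : MM) := by rw [h3, smul_neg, smul_smul, neg_smul]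
  have hsq : J' * J' = δ • (1 : MM) := by
    apply eq_of_sympForm_eq
    intro u v
    rw [← Matrix.mulVec_mulVec, ← hJ', ← hJ', Matrix.mulVec_mulVec, hJJ, Matrix.smul_mulVec,
      Matrix.smul_mulVec, Matrix.one_mulVec, Matrix.one_mulVec, sympForm_smul_left,
      sympForm_smul_right]
  have hexp : J' * J' = (a * a + b * b * δ) • (1 : MM) + (2 * a * b) • J := by
    rw [hab]
    simp only [Matrix.add_mul, Matrix.mul_add, Matrix.smul_mul, Matrix.mul_smul, Matrix.one_mul,
      Matrix.mul_one, hJJ, smul_smul, smul_add]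
    module
  have h3 : (a * a + b * b * δ - δ) • (1 : MM) + (2 * a * b) • J = 0 := by
    rw [sub_smul, sub_add_eq_add_sub, ← hexp, hsq, sub_self]
  obtain ⟨h4, h5⟩ := hind _ _ h3
  have hb0 : b ≠ 0 := by
    rintro rfl
    apply hδ
    exact ⟨a, by linear_combination -h4⟩
  have ha0 : a = 0 := by
    rcases mul_eq_zero.mp h5 with h6 | h6
    · rcases mul_eq_zero.mp h6 with h7 | h7
      · exact absurd h7 h2
      · exact h7
    · exact absurd h6 hb0
  have hδ0 : δ ≠ 0 := by
    rintro rfl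
    exact hδ ⟨0, by ring⟩
  have hbb : b * b = 1 := by
    rw [ha0] at h4
    have : (b * b - 1) * δ = 0 := by linear_combination h4
    rcases mul_eq_zero.mp this with h6 | h6
    · linear_combination h6
    · exact absurd h6 hδ0
  rcases mul_self_eq_one_iff.mp hbb with hb | hb
  · exfalso
    apply hKns
    have hJsa : ∀ u v : VV, Cfsg.sympForm d F (J *ᵥ u) v = Cfsg.sympForm d F u (J *ᵥ v) := by
      intro u v
      rw [hJ', hab, ha0, hb, zero_smul, zero_add, one_smul]
    intro k hk u v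
    obtain ⟨s, t, rfl⟩ := hgen k hk
    simp only [Matrix.add_mulVec, Matrix.smul_mulVec, Matrix.one_mulVec, sympForm_add_left,
      sympForm_add_right, sympForm_smul_left, sympForm_smul_right, hJsa]
  · intro u v
    rw [hJ', hab, ha0, hb, zero_smul, zero_add, neg_smul, one_smul, Matrix.neg_mulVec,
      ← stdSymp_apply, map_neg, stdSymp_apply]

end gen

end Cfsg.Agent.Lib.Helper15.PSpN
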