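import Mathlib
import Cfsg.Agent.Lib.Helper15.PSpN4

/-!
# Unitary type subgroups of symplectic groups: the index and the derangements
-/

set_option autoImplicit false
set_option linter.unusedSimpArgs false
set_option linter.unusedSectionVars false

namespace Cfsg.Agent.Lib.Helper15.PSpN

open Module Matrix Cfsg.Agent.Lib.Helper15 Cfsg.Agent.Lib.Helper6 Cfsg.Agent.Lib.Helper15.PSpI
  Cfsg.Agent.Lib.Helper15.PSpJ Cfsg.Agent.Lib.Helper29.SPO Cfsg.Agent.Lib.Helper15.PSpM
  Cfsg.Agent.Lib.Helper16 Cfsg.Agent.Lib.Helper15.PSpL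

section conc

variable {F L : Type*} [Field F] [Fintype F] [Field L] [Algebra F L] {d : ℕ}

local notation "VV" => (Fin d ⊕ Fin d → F)
local notation "MM" => Matrix (Fin d ⊕ Fin d) (Fin d ⊕ Fin d) F

/-- the abstract data in the concrete situation -/
theorem qdata_conc (hd : 1 ≤ d) (ρ : L →ₐ[F] MM) (ω : L) (δ : F) (hJJ : ρ ω * ρ ω = δ • (1 : MM))
    (hJns : ∀ c : F, ρ ω ≠ c • (1 : MM))
    (hgen : ∀ k : L, ∃ a b : F, ρ k = a • (1 : MM) + b • ρ ω)
    (hskew : ∀ u v : VV, Cfsg.sympForm d F (ρ ω *ᵥ u) v = -Cfsg.sympForm d F u (ρ ω *ᵥ v)) :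
    @QData F L VV _ _ _ _ _ (modOf ρ) ω δ (stdSymp d F) := by
  classical
  have hne : Nonempty (Fin d ⊕ Fin d) := ⟨Sum.inl ⟨0, by omega⟩⟩
  let _ := modOf ρ
  have hsm : ∀ (a : L) (v : VV), a • v = ρ a *ᵥ v := fun a v => rfl
  have hinj := rho_injective ρ
  have h1 : (1 : MM) ≠ 0 := by
    intro h
    have := congrFun (congrFun h (Sum.inl ⟨0, by omega⟩)) (Sum.inl ⟨0, by omega⟩)
    simp at this
  have hρalg : ∀ a b : F, ρ (algebraMap F L a + algebraMap F L b * ω) =
      a • (1 : MM) + b • ρ ω := by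
    intro a b
    rw [map_add, map_mul, AlgHom.commutes, AlgHom.commutes, Algebra.algebraMap_eq_smul_one,
      Algebra.algebraMap_eq_smul_one, smul_mul_assoc, one_mul]
  refine ⟨?_, ?_, ?_, stdSymp_alt, stdSymp_nondeg, ?_⟩
  · apply hinj
    rw [map_pow, pow_two, hJJ, AlgHom.commutes, Algebra.algebraMap_eq_smul_one]
  · intro k
    obtain ⟨a, b, hab⟩ := hgen k
    refine ⟨a, b, hinj ?_⟩
    rw [hab, hρalg]
  · intro a b hab
    have h3 := congrArg ρ hab
    rw [hρalg, map_zero] at h3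
    by_cases hb : b = 0
    · rw [hb, zero_smul, add_zero] at h3
      rcases smul_eq_zero.mp h3 with h | h
      · exact ⟨h, hb⟩
      · exact absurd h h1
    · exfalso
      apply hJns (-(b⁻¹ * a))
      have h4 : b • ρ ω = -(a • (1 : MM)) := eq_neg_of_add_eq_zero_right h3
      calc ρ ω = b⁻¹ • (b • ρ ω) := by rw [smul_smul, inv_mul_cancel₀ hb, one_smul]
        _ = -(b⁻¹ * a) • (1 : MM) := by rw [h4, smul_neg, smul_smul, neg_smul]
  · intro u v
    rw [hsm, hsm, stdSymp_apply, stdSymp_apply, hskew]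

/-- the index of the normaliser: the order of the unitary group divides the order of the
intersection with the symplectic group -/
theorem relIndex_mul_dvd_u (hd : 1 ≤ d) {q : ℕ} (hF : Fintype.card F = q) (ρ : L →ₐ[F] MM)
    (K : Subalgebra F MM) (hK : ∀ m, m ∈ K ↔ ∃ a, ρ a = m) (ω : L) (δ : F)
    (hJJ : ρ ω * ρ ω = δ • (1 : MM)) (hJns : ∀ c : F, ρ ω ≠ c • (1 : MM))
    (hgen : ∀ k : L, ∃ a b : F, ρ k = a • (1 : MM) + b • ρ ω)
    (hskew : ∀ u v : VV, Cfsg.sympForm d F (ρ ω *ᵥ u) v = -Cfsg.sympForm d F u (ρ ω *ᵥ v)) :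
    (Cfsg.Geo.subalgebraNormalizer K).relIndex (Cfsg.spGL d F) * guOrd q d ∣
      q ^ (d ^ 2) * ∏ i ∈ Finset.range d, (q ^ (2 * (i + 1)) - 1) := by
  classical
  have hne : Nonempty (Fin d ⊕ Fin d) := ⟨Sum.inl ⟨0, by omega⟩⟩
  let _ := modOf ρ
  have htower : IsScalarTower F L VV := modOf_tower ρ
  have hsm : ∀ (a : L) (v : VV), a • v = ρ a *ᵥ v := fun a v => rfl
  have hQ := qdata_conc hd ρ ω δ hJJ hJns hgen hskew
  have hfinL : Finite L := by
    have : FiniteDimensional F L := by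
      apply Module.finite_of_finrank_pos
      have hcard : Finite L := by
        apply Finite.of_injective (fun k : L => ρ k) (rho_injective ρ)
      exact Module.finrank_pos
    exact Module.finite_of_finite F
  have hFtL : Fintype L := Fintype.ofFinite L
  have hKcard := hQ.card_K hF
  have hcount := hQ.card_centralizer hF d finrank_VV
  rw [card_GU hKcard] at hcount
  -- the centraliser subgroup
  have hδ0 : δ ≠ 0 := by
    rintro rfl
    rw [zero_smul] at hJJ
    have hω0 : ω = 0 := by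
      have h0 : ρ (ω * ω) = 0 := by rw [map_mul, hJJ]
      have h1 : ω * ω = 0 := by
        apply rho_injective ρ
        rw [h0, map_zero]
      exact mul_self_eq_zero.mp h1
    apply hJns 0
    rw [hω0, map_zero, zero_smul]
  obtain ⟨Ju, hJu⟩ : ∃ Ju : GL (Fin d ⊕ Fin d) F, (Ju : MM) = ρ ω :=
    ⟨⟨ρ ω, δ⁻¹ • ρ ω, by rw [Matrix.mul_smul, hJJ, smul_smul, inv_mul_cancel₀ hδ0, one_smul],
      by rw [Matrix.smul_mul, hJJ, smul_smul, inv_mul_cancel₀ hδ0, one_smul]⟩, rfl⟩
  obtain ⟨C, hC⟩ : ∃ C : Subgroup (GL (Fin d ⊕ Fin d) F),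
      C = Cfsg.spGL d F ⊓ Subgroup.centralizer {Ju} := ⟨_, rfl⟩
  have hmemC : ∀ g : GL (Fin d ⊕ Fin d) F, g ∈ C ↔
      g ∈ Cfsg.spGL d F ∧ (g : MM) * ρ ω = ρ ω * (g : MM) := by
    intro g
    rw [hC, Subgroup.mem_inf, Subgroup.mem_centralizer_iff]
    constructor
    · rintro ⟨h1, h2⟩
      refine ⟨h1, ?_⟩
      have := h2 Ju (Set.mem_singleton _)
      have h3 := congrArg (fun u : GL (Fin d ⊕ Fin d) F => (u : MM)) this
      simp only [Units.val_mul, hJu] at h3
      exact h3.symm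
    · rintro ⟨h1, h2⟩
      refine ⟨h1, ?_⟩
      intro h hh
      rw [Set.mem_singleton_iff] at hh
      rw [hh]
      apply Units.ext
      rw [Units.val_mul, Units.val_mul, hJu, h2]
  have hCle : C ≤ Cfsg.Geo.subalgebraNormalizer K ⊓ Cfsg.spGL d F := by
    intro g hg
    rw [hmemC] at hg
    refine ⟨?_, hg.1⟩
    apply mem_normalizer_of_gen K (ρ ω) ((hK _).mpr ⟨ω, rfl⟩) (fun k hk => by
      obtain ⟨a, rfl⟩ := (hK k).mp hk
      exact hgen a) g 1 0 one_ne_zero
    rw [one_smul, zero_smul, add_zero, hg.2]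
  have hCcard : Nat.card ↥C = guOrd q d := by
    unfold guOrd
    rw [← hcount]
    let f : ↥C → {g : VV →ₗ[F] VV //
        (∀ v, g (ω • v) = ω • g v) ∧ ∀ u v, stdSymp d F (g u) (g v) = stdSymp d F u v} := fun g =>
      ⟨Matrix.toLin' (g.1 : MM), fun v => by
        rw [hsm, hsm, Matrix.toLin'_apply, Matrix.toLin'_apply, Matrix.mulVec_mulVec,
          ((hmemC g.1).mp g.2).2, ← Matrix.mulVec_mulVec], fun u v => by
        rw [stdSymp_apply, stdSymp_apply, Matrix.toLin'_apply, Matrix.toLin'_apply]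
        exact (mem_spGL_iff g.1).mp ((hmemC g.1).mp g.2).1 u v⟩
    apply Nat.card_eq_of_bijective f
    constructor
    · intro g g' hgg
      apply Subtype.ext
      apply Units.ext
      apply Matrix.toLin'.injective
      exact congrArg Subtype.val hgg
    · intro s
      obtain ⟨M, hM⟩ : ∃ M : MM, M = LinearMap.toMatrix' s.1 := ⟨_, rfl⟩
      have hMv : ∀ x, M *ᵥ x = s.1 x := by
        intro x
        rw [hM, LinearMap.toMatrix'_mulVec]
      have hmem : M ∈ Matrix.symplecticGroup (Fin d) F := by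
        rw [mem_symplecticGroup_iff_preserves]
        intro u v
        rw [hMv, hMv, ← stdSymp_apply, s.2.2, stdSymp_apply]
      refine ⟨⟨ofSp ⟨M, hmem⟩, ?_⟩, ?_⟩
      · rw [hmemC]
        refine ⟨ofSp_mem _, ?_⟩
        rw [ofSp_coe]
        apply matrix_ext_mulVec
        intro v
        change (M * ρ ω) *ᵥ v = (ρ ω * M) *ᵥ v
        rw [← Matrix.mulVec_mulVec, ← Matrix.mulVec_mulVec, hMv, hMv, ← hsm, ← hsm, s.2.1]
      · apply Subtype.ext
        apply LinearMap.ext
        intro v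
        change Matrix.toLin' M v = s.1 v
        rw [Matrix.toLin'_apply, hMv]
  have hdvd : Nat.card ↥C ∣ Nat.card ↥(Cfsg.Geo.subalgebraNormalizer K ⊓ Cfsg.spGL d F) :=
    Subgroup.card_dvd_of_le hCle
  have hidx := Subgroup.relIndex_mul_relIndex ⊥
    (Cfsg.Geo.subalgebraNormalizer K ⊓ Cfsg.spGL d F) (Cfsg.spGL d F) bot_le inf_le_right
  rw [Subgroup.relIndex_bot_left, Subgroup.relIndex_bot_left, Subgroup.inf_relIndex_right] at hidx
  have hsp := card_spGL (F := F) (d := d)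
  rw [hF] at hsp
  rw [← hsp, ← hidx, ← hCcard, mul_comm]
  exact Nat.mul_dvd_mul_right hdvd _

end conc

section derange

variable {F L : Type*} [Field F] [Fintype F] [Field L] [Algebra F L] {d : ℕ}

local notation "VV" => (Fin d ⊕ Fin d → F)
local notation "MM" => Matrix (Fin d ⊕ Fin d) (Fin d ⊕ Fin d) F

/-- an element of prime order of the centraliser of the field: its order divides the order of the
unitary group of its moved part -/
theorem dvd_guOrd_of_central (hd : 1 ≤ d) {q : ℕ} (hF : Fintype.card F = q) (ρ : L →ₐ[F] MM)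
    (ω : L) (δ : F)
    (hJJ : ρ ω * ρ ω = δ • (1 : MM)) (hJns : ∀ c : F, ρ ω ≠ c • (1 : MM))
    (hgen : ∀ k : L, ∃ a b : F, ρ k = a • (1 : MM) + b • ρ ω)
    (hskew : ∀ u v : VV, Cfsg.sympForm d F (ρ ω *ᵥ u) v = -Cfsg.sympForm d F u (ρ ω *ᵥ v))
    (r : ℕ) [hr : Fact r.Prime] (hr0 : (r : F) ≠ 0)
    (y : GL (Fin d ⊕ Fin d) F) (hy : y ∈ Cfsg.spGL d F) (hyr : y ^ r = 1)
    (hcomm : (y : MM) * ρ ω = ρ ω * (y : MM)) (m : ℕ) (hm0 : 0 < m)
    (hfixdim : finrank F (Module.End.eigenspace (Matrix.toLin' (y : MM)) 1) + 2 * m = 2 * d) :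
    r ∣ guOrd q m := by
  classical
  have hne : Nonempty (Fin d ⊕ Fin d) := ⟨Sum.inl ⟨0, by omega⟩⟩
  let _ := modOf ρ
  have htower : IsScalarTower F L VV := modOf_tower ρ
  have hsm : ∀ (a : L) (v : VV), a • v = ρ a *ᵥ v := fun a v => rfl
  have hQ := qdata_conc hd ρ ω δ hJJ hJns hgen hskew
  have hfinL : Finite L := Finite.of_injective (fun k : L => ρ k) (rho_injective ρ)
  have hFtL : Fintype L := Fintype.ofFinite L
  have hKcard := hQ.card_K hF
  obtain ⟨Y, hY⟩ : ∃ Y : VV →ₗ[F] VV, Y = Matrix.toLin' (y : MM) := ⟨_, rfl⟩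
  rw [← hY] at hfixdim
  have hYv : ∀ v, Y v = (y : MM) *ᵥ v := fun v => by rw [hY, Matrix.toLin'_apply]
  have hiso : ∀ u v, stdSymp d F (Y u) (Y v) = stdSymp d F u v := by
    intro u v
    rw [stdSymp_apply, hYv, hYv]
    exact (mem_spGL_iff y).mp hy u v
  have hpow : Y ^ r = 1 := by
    rw [hY, ← Matrix.toLin'_pow, ← Units.val_pow_eq_pow_val, hyr, Units.val_one, Matrix.toLin'_one]
    rfl
  have htop : (⊤ : Submodule F VV).map Y = ⊤ := by
    rw [Submodule.map_top, LinearMap.range_eq_top]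
    intro v
    refine ⟨((y⁻¹ : GL (Fin d ⊕ Fin d) F) : MM) *ᵥ v, ?_⟩
    rw [hYv, Matrix.mulVec_mulVec, ← Units.val_mul, mul_inv_cancel, Units.val_one,
      Matrix.one_mulVec]
  obtain ⟨hU1, hU2, hU3, hU4, -, -⟩ := movPart_props (B := stdSymp d F) stdSymp_alt Y hiso r
    hr.out.ne_zero hr0 hpow ⊤ htop (nondegOn_top d)
  obtain ⟨U, hUdef⟩ : ∃ U : Submodule F VV, U = movPart (stdSymp d F) Y ⊤ := ⟨_, rfl⟩
  rw [← hUdef] at hU1 hU2 hU3 hU4
  rw [top_inf_eq, finrank_top, finrank_VV] at hU4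
  have hUdim : finrank F U = 2 * m := by omega
  have hYJ : ∀ v, Y (ρ ω *ᵥ v) = ρ ω *ᵥ Y v := by
    intro v
    rw [hYv, hYv, Matrix.mulVec_mulVec, hcomm, ← Matrix.mulVec_mulVec]
  have hJU : ∀ u ∈ U, ρ ω *ᵥ u ∈ U := by
    intro u hu
    rw [hUdef] at hu ⊢
    unfold movPart at hu ⊢
    rw [mem_perpIn] at hu ⊢
    refine ⟨Submodule.mem_top, ?_⟩
    intro w hw
    have hw' : ρ ω *ᵥ w ∈ (⊤ : Submodule F VV) ⊓ Module.End.eigenspace Y 1 := by
      refine Submodule.mem_inf.mpr ⟨Submodule.mem_top, ?_⟩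
      rw [Module.End.mem_eigenspace_iff, one_smul, hYJ]
      have := (Submodule.mem_inf.mp hw).2
      rw [Module.End.mem_eigenspace_iff, one_smul] at this
      rw [this]
    have h1 := hu.2 _ hw'
    rw [stdSymp_apply, hskew, neg_eq_zero] at h1
    rw [stdSymp_apply]
    exact h1
  have hstab : ∀ (a : L) (u : VV), u ∈ U → a • u ∈ U := by
    intro a u hu
    obtain ⟨α, β, hab⟩ := hgen a
    rw [hsm, hab, Matrix.add_mulVec, Matrix.smul_mulVec, Matrix.smul_mulVec, Matrix.one_mulVec]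
    exact U.add_mem (U.smul_mem _ hu) (U.smul_mem _ (hJU u hu))
  have hfr : finrank F ↥(liftSub U hstab) = 2 * m := by
    have e : (liftSub U hstab).restrictScalars F = U := by
      ext v
      rfl
    have := (Submodule.restrictScalarsEquiv F L VV (liftSub U hstab)).restrictScalars F |>.finrank_eq
    rw [← this, e, hUdim]
  have hres := dvd_card_GU_of_restr hQ hF (liftSub U hstab)
    (fun u hu h => hU2 u hu h) m hfr Y
    (fun v => by rw [hsm, hsm, hYJ]) hiso
    (fun u hu => by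
      have : Y u ∈ U.map Y := Submodule.mem_map_of_mem hu
      rw [hU1] at this
      exact this) r hpow
    (fun u hu hfixu => by
      have : u ∈ U ⊓ Module.End.eigenspace Y 1 := by
        refine Submodule.mem_inf.mpr ⟨hu, ?_⟩
        rw [Module.End.mem_eigenspace_iff, one_smul, hfixu]
      rw [hU3] at this
      exact (Submodule.mem_bot F).mp this)
    (by
      have hpos : 0 < finrank F U := by omega
      obtain ⟨u, hu⟩ := Module.finrank_pos_iff_exists_ne_zero.mp hpos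
      exact ⟨u.1, u.2, fun h => hu (Subtype.ext h)⟩)
  rw [card_GU hKcard] at hres
  exact hres

end derange

section stable

variable {F L : Type*} [Field F] [Field L] [Algebra F L] [FiniteDimensional F L]
  {ι : Type} [Fintype ι] [DecidableEq ι]

/-- the fixed space of an element centralising the field is a space over the field -/
theorem dvd_finrank_fixed_of_central (ρ : L →ₐ[F] Matrix ι ι F) (y : Matrix ι ι F)
    (hc : ∀ a, y * ρ a = ρ a * y) :
    finrank F L ∣ finrank F (Module.End.eigenspace (Matrix.toLin' y) 1) := by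
  classical
  let _ := modOf ρ
  have htower : IsScalarTower F L (ι → F) := modOf_tower ρ
  have hsm : ∀ (a : L) (v : ι → F), a • v = ρ a *ᵥ v := fun a v => rfl
  apply dvd_finrank_of_stable
  intro a w hw
  rw [Module.End.mem_eigenspace_iff, one_smul, Matrix.toLin'_apply] at hw ⊢
  rw [hsm, Matrix.mulVec_mulVec, hc a, ← Matrix.mulVec_mulVec, hw]

end stable

end Cfsg.Agent.Lib.Helper15.PSpN
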