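import Mathlib
import Cfsg.Agent.Lib.Helper15.PSpN5

/-!
# Unitary type subgroups of symplectic groups: necessity
-/

set_option autoImplicit false
set_option linter.unusedSimpArgs false
set_option linter.unusedSectionVars false

namespace Cfsg.Agent.Lib.Helper15.PSpN

open Module Matrix Cfsg.Agent.Lib.Helper15 Cfsg.Agent.Lib.Helper6 Cfsg.Agent.Lib.Helper15.PSpI
  Cfsg.Agent.Lib.Helper15.PSpJ Cfsg.Agent.Lib.Helper29.SPO Cfsg.Agent.Lib.Helper15.PSpM
  Cfsg.Agent.Lib.Helper16 Cfsg.Agent.Lib.Helper15.PSpL Cfsg.Agent.Lib.Helper15.PSub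

section nec

variable {F : Type*} [Field F] [Fintype F] {d : ℕ}

local notation "VV" => (Fin d ⊕ Fin d → F)
local notation "MM" => Matrix (Fin d ⊕ Fin d) (Fin d ⊕ Fin d) F

theorem necessity_u (p : ℕ) [hp : Fact p.Prime] [CharP F p] (hodd : Odd (Fintype.card F))
    (hd : 2 ≤ d) (K : Subalgebra F MM) (hK : Cfsg.Geo.IsFieldSubalgebra 2 K)
    (hKf : Cfsg.Geo.IsAdjointClosedFor (Cfsg.sympForm d F) K)
    (hKns : ¬ Cfsg.Geo.IsSelfAdjointFor (Cfsg.sympForm d F) K)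
    (r : ℕ) [hr : Fact r.Prime]
    (hΩ : r ∣ (Cfsg.Geo.subalgebraNormalizer K).relIndex (Cfsg.spGL d F))
    (hall : ∀ x ∈ Cfsg.spGL d F,
      (∃ z : F, ((x ^ r : GL (Fin d ⊕ Fin d) F) : MM) = z • (1 : MM)) →
      (∀ z : F, (x : MM) ≠ z • (1 : MM)) →
      ∃ g ∈ Cfsg.spGL d F, g⁻¹ * x * g ∈ Cfsg.Geo.subalgebraNormalizer K) : r = 2 := by
  classical
  by_contra hr2
  have hne : Nonempty (Fin d ⊕ Fin d) := ⟨Sum.inl ⟨0, by omega⟩⟩
  have h2F : (2 : F) ≠ 0 := by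
    intro h
    have h1 : ringChar F = 2 :=
      CharP.ringChar_of_prime_eq_zero Nat.prime_two (by exact_mod_cast h)
    have := FiniteField.even_card_of_char_two h1
    have := Nat.odd_iff.mp hodd
    omega
  obtain ⟨J, hJK, δ, hδ, hJJ, hJns, hgen, hskew⟩ := exists_gen_skew (by omega) h2F K hK hKf hKns
  let fK : Field ↥K := (isField_sub K hK).toField
  have hfd : FiniteDimensional F ↥K := by
    apply Module.finite_of_finrank_pos
    rw [hK.finrank_eq]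
    norm_num
  have hK' : ∀ m, m ∈ K ↔ ∃ a : ↥K, K.val a = m :=
    fun m => ⟨fun hm => ⟨⟨m, hm⟩, rfl⟩, fun ⟨a, ha⟩ => ha ▸ a.2⟩
  obtain ⟨ω, hω⟩ : ∃ ω : ↥K, K.val ω = J := ⟨⟨J, hJK⟩, rfl⟩
  have hgen' : ∀ k : ↥K, ∃ a b : F, K.val k = a • (1 : MM) + b • K.val ω := by
    intro k
    rw [hω]
    exact hgen k.1 k.2
  have hscal : ∀ x : GL (Fin d ⊕ Fin d) F, x ^ r = 1 →
      ∃ z : F, ((x ^ r : GL (Fin d ⊕ Fin d) F) : MM) = z • (1 : MM) := by
    intro x hx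
    exact ⟨1, by rw [hx, one_smul]; rfl⟩
  have hconjpow : ∀ x g : GL (Fin d ⊕ Fin d) F, x ^ r = 1 → (g⁻¹ * x * g) ^ r = 1 := by
    intro x g hx
    have : g⁻¹ * x * g = g⁻¹ * x * (g⁻¹)⁻¹ := by rw [inv_inv]
    rw [this, conj_pow, hx, mul_one, mul_inv_cancel]
  by_cases hrp : r = p
  · obtain ⟨t, ht1, ht2, ht3, ht4⟩ := exists_transvection (F := F) (d := d) p (by omega)
    rw [← hrp] at ht2
    obtain ⟨g, hg, hmem⟩ := hall t ht1 (hscal t ht2) ht4
    have hfr := finrank_fixed_conj t g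
    rw [ht3] at hfr
    rcases centralises_or_small K.val K hK' _ hmem with hc | hs
    · have := dvd_finrank_fixed_of_central (L := ↥K) K.val _ hc
      rw [hfr, hK.finrank_eq] at this
      omega
    · rw [hfr, Fintype.card_sum, Fintype.card_fin] at hs
      omega
  have hrq : ¬ r ∣ Fintype.card F := by
    intro h
    obtain ⟨n, hn⟩ := FiniteField.card F p
    rw [hn.2] at h
    have := (Nat.prime_dvd_prime_iff_eq hr.out hp.out).mp (hr.out.dvd_of_dvd_pow h)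
    exact hrp this
  have hr0 : (r : F) ≠ 0 := by
    intro h
    rw [CharP.cast_eq_zero_iff F p] at h
    exact hrp ((Nat.prime_dvd_prime_iff_eq hp.out hr.out).mp h).symm
  have hq2 : 2 ≤ Fintype.card F := Fintype.one_lt_card
  have hJJ' : K.val ω * K.val ω = δ • (1 : MM) := by rw [hω]; exact hJJ
  have hJns' : ∀ c : F, K.val ω ≠ c • (1 : MM) := by rw [hω]; exact hJns
  have hskew' : ∀ u v : VV, Cfsg.sympForm d F (K.val ω *ᵥ u) v =
      -Cfsg.sympForm d F u (K.val ω *ᵥ v) := by rw [hω]; exact hskew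
  have hidx := relIndex_mul_dvd_u (L := ↥K) (by omega) rfl K.val K hK' ω δ hJJ' hJns' hgen' hskew'
  have hcases := index_cases (Fintype.card F) r d _ hq2 hr.out hr2 hrq hΩ hidx
  have hipos : 0 < orderOf ((Fintype.card F : ℕ) : ZMod r) := orderOf_pos_of_ne p r hrp
  obtain ⟨i, hidef⟩ : ∃ i, i = orderOf ((Fintype.card F : ℕ) : ZMod r) := ⟨_, rfl⟩
  rw [← hidef] at hcases hipos
  -- the block size
  obtain ⟨m, hm0, hcm, hmcase⟩ : ∃ m, 0 < m ∧ cOf i = 2 * m ∧ 2 * m ≤ 2 * d ∧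
      ((Odd i ∧ m = i) ∨ (4 ∣ i ∧ 2 * m = i)) := by
    rcases hcases with ⟨hio, hid⟩ | ⟨hi4, hid⟩
    · refine ⟨i, hipos, ?_, by omega, Or.inl ⟨hio, rfl⟩⟩
      unfold cOf
      rw [if_neg (Nat.not_even_iff_odd.mpr hio)]
    · obtain ⟨t, ht⟩ := hi4
      refine ⟨2 * t, by omega, ?_, by omega, Or.inr ⟨⟨t, ht⟩, by omega⟩⟩
      unfold cOf
      rw [if_pos ⟨2 * t, by omega⟩]
      omega
  obtain ⟨hmd, hmcase⟩ := hmcase
  obtain ⟨x, hx1, hx2, hx3⟩ := exists_elt (F := F) p r hr2 hrp d 1 le_rfl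
    (by rw [← hidef, mul_one, hcm]; exact hmd)
  rw [← hidef, mul_one, hcm] at hx2
  have hxr : (ofSp x) ^ r = 1 := by
    apply Units.ext
    rw [Units.val_pow_eq_pow_val, ofSp_coe, Units.val_one]
    apply Matrix.toLin'.injective
    rw [Matrix.toLin'_pow, hx1, Matrix.toLin'_one]
    rfl
  obtain ⟨g, hg, hmem⟩ := hall (ofSp x) (ofSp_mem x) (hscal _ hxr) (by rw [ofSp_coe]; exact hx3)
  obtain ⟨y, hy⟩ : ∃ y : GL (Fin d ⊕ Fin d) F, y = g⁻¹ * ofSp x * g := ⟨_, rfl⟩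
  rw [← hy] at hmem
  have hyr : y ^ r = 1 := by rw [hy]; exact hconjpow _ g hxr
  have hysp : y ∈ Cfsg.spGL d F := by
    rw [hy]
    exact Subgroup.mul_mem _ (Subgroup.mul_mem _ (Subgroup.inv_mem _ hg) (ofSp_mem x)) hg
  have hfr := finrank_fixed_conj (ofSp x) g
  rw [← hy, ofSp_coe, hx2] at hfr
  by_cases hc : ∀ a, (y : MM) * K.val a = K.val a * (y : MM)
  · have hdv := dvd_guOrd_of_central (L := ↥K) (by omega) rfl K.val ω δ hJJ' hJns' hgen' hskew' r hr0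
      y hysp hyr (hc ω) m hm0 (by rw [hfr]; omega)
    exact not_dvd_guOrd (Fintype.card F) r m hq2 hr.out hr2 hrq (by rw [← hidef]; exact hipos)
      (by rw [← hidef]; exact hmcase) hdv
  · have hfinF : Finite F := inferInstance
    have := dvd_finrank_of_not_centralises (L := ↥K) K.val K hK' y hmem r hr.out (fun a => by
      rw [hyr, Units.val_one, one_mul, mul_one]) hc
    rw [hK.finrank_eq] at this
    exact hr2 ((Nat.prime_dvd_prime_iff_eq hr.out Nat.prime_two).mp this)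

end nec

end Cfsg.Agent.Lib.Helper15.PSpN
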