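import Mathlib
import Cfsg.Agent.Lib.Helper15.PSpN6

/-!
# Standard matrices: skew-adjoint square roots of scalars in standard symplectic coordinates
-/

set_option autoImplicit false
set_option linter.unusedSimpArgs false
set_option linter.unusedSectionVars false

namespace Cfsg.Agent.Lib.Helper15.PSpN

open Module Matrix Cfsg.Agent.Lib.Helper15 Cfsg.Agent.Lib.Helper6 Cfsg.Agent.Lib.Helper29.SPO

section stdmat

variable {F : Type*} [Field F] {d : ℕ}

local notation "VV" => (Fin d ⊕ Fin d → F)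
local notation "MM" => Matrix (Fin d ⊕ Fin d) (Fin d ⊕ Fin d) F

/-- the standard skew-adjoint matrix with square `δ` -/
def stdJ (d : ℕ) (δ : F) : Matrix (Fin d ⊕ Fin d) (Fin d ⊕ Fin d) F :=
  Matrix.fromBlocks 0 1 (δ • 1) 0

/-- the standard skew-adjoint matrix with square `a² + b²` anticommuting with `stdJ d (-1)` -/
def stdM (d : ℕ) (a b : F) : Matrix (Fin d ⊕ Fin d) (Fin d ⊕ Fin d) F :=
  Matrix.fromBlocks ((-a) • 1) (b • 1) (b • 1) (a • 1)

/-- the standard involution -/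
def stdD (ε : Fin d → F) : MM := Matrix.diagonal (Sum.elim ε ε)

theorem stdJ_mulVec (δ : F) (v : VV) :
    stdJ d δ *ᵥ v = Sum.elim (fun t => v (Sum.inr t)) (fun t => δ * v (Sum.inl t)) := by
  unfold stdJ
  rw [← Sum.elim_comp_inl_inr v, Matrix.fromBlocks_mulVec]
  funext c
  rcases c with t | t <;>
    simp [Matrix.smul_mulVec, Matrix.one_mulVec, Matrix.zero_mulVec]

theorem stdM_mulVec (a b : F) (v : VV) :
    stdM d a b *ᵥ v = Sum.elim (fun t => -a * v (Sum.inl t) + b * v (Sum.inr t))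
      (fun t => b * v (Sum.inl t) + a * v (Sum.inr t)) := by
  unfold stdM
  rw [← Sum.elim_comp_inl_inr v, Matrix.fromBlocks_mulVec]
  funext c
  rcases c with t | t <;>
    simp [Matrix.smul_mulVec, Matrix.one_mulVec, Matrix.zero_mulVec, Matrix.neg_mulVec,
      Pi.neg_apply, Pi.smul_apply, smul_eq_mul, Function.comp]

theorem stdD_mulVec (ε : Fin d → F) (v : VV) :
    stdD ε *ᵥ v = fun c => Sum.elim ε ε c * v c := by
  funext c
  unfold stdD
  rw [Matrix.mulVec_diagonal]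

theorem stdJ_single_inr (δ : F) (t : Fin d) :
    stdJ d δ *ᵥ Pi.single (Sum.inr t) 1 = Pi.single (Sum.inl t) 1 := by
  classical
  rw [stdJ_mulVec]
  funext c
  rcases c with s | s <;> simp [Pi.single_apply]

theorem stdJ_single_inl (δ : F) (t : Fin d) :
    stdJ d δ *ᵥ Pi.single (Sum.inl t) 1 = δ • Pi.single (Sum.inr t) 1 := by
  classical
  rw [stdJ_mulVec]
  funext c
  rcases c with s | s <;> simp [Pi.single_apply]

theorem stdD_single (ε : Fin d → F) (c : Fin d ⊕ Fin d) :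
    stdD ε *ᵥ Pi.single c 1 = Sum.elim ε ε c • Pi.single c 1 := by
  classical
  rw [stdD_mulVec]
  funext c'
  by_cases h : c' = c
  · subst h; simp
  · simp [Pi.single_apply, h]

theorem stdM_sq (a b δ : F) (hab : a * a + b * b = δ) : stdM d a b * stdM d a b = δ • (1 : MM) := by
  apply matrix_ext_mulVec
  intro v
  rw [← Matrix.mulVec_mulVec, stdM_mulVec, stdM_mulVec, Matrix.smul_mulVec, Matrix.one_mulVec]
  funext c
  rcases c with t | t
  · simp only [Sum.elim_inl, Sum.elim_inr, Pi.smul_apply, smul_eq_mul]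
    rw [← hab]; ring
  · simp only [Sum.elim_inl, Sum.elim_inr, Pi.smul_apply, smul_eq_mul]
    rw [← hab]; ring

theorem stdM_anti (a b : F) : stdJ d (-1) * stdM d a b = -(stdM d a b * stdJ d (-1)) := by
  apply matrix_ext_mulVec
  intro v
  rw [Matrix.neg_mulVec, ← Matrix.mulVec_mulVec, ← Matrix.mulVec_mulVec, stdM_mulVec, stdJ_mulVec,
    stdM_mulVec, stdJ_mulVec]
  funext c
  rcases c with t | t
  · simp only [Sum.elim_inl, Sum.elim_inr, Pi.neg_apply]
    ring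
  · simp only [Sum.elim_inl, Sum.elim_inr, Pi.neg_apply]
    ring

theorem stdM_skew (a b : F) (u v : VV) :
    Cfsg.sympForm d F (stdM d a b *ᵥ u) v = -Cfsg.sympForm d F u (stdM d a b *ᵥ v) := by
  rw [sympForm_eq_sum, sympForm_eq_sum, stdM_mulVec, stdM_mulVec, ← Finset.sum_neg_distrib]
  apply Finset.sum_congr rfl
  intro t _
  simp only [Sum.elim_inl, Sum.elim_inr]
  ring

theorem stdD_comm (ε : Fin d → F) (δ : F) : stdD ε * stdJ d δ = stdJ d δ * stdD ε := by
  apply matrix_ext_mulVec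
  intro v
  rw [← Matrix.mulVec_mulVec, ← Matrix.mulVec_mulVec, stdD_mulVec, stdJ_mulVec, stdJ_mulVec,
    stdD_mulVec]
  funext c
  rcases c with t | t
  · simp only [Sum.elim_inl, Sum.elim_inr]
  · simp only [Sum.elim_inl, Sum.elim_inr]
    ring

/-- conjugates of (anti)commuting matrices: membership in the normaliser -/
theorem normalises_of_std (hd : 0 < d) (K : Subalgebra F MM) (J : MM) (hJK : J ∈ K)
    (hgen : ∀ k ∈ K, ∃ a b : F, k = a • (1 : MM) + b • J) (Q y : GL (Fin d ⊕ Fin d) F)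
    (X₀ J₁ : MM) (ε : F) (hε : ε ≠ 0) (hXJ : X₀ * J₁ = ε • (J₁ * X₀))
    (hy : (y : MM) = (Q : MM) * X₀ * ((Q⁻¹ : GL (Fin d ⊕ Fin d) F) : MM))
    (hJ : J = (Q : MM) * J₁ * ((Q⁻¹ : GL (Fin d ⊕ Fin d) F) : MM)) :
    y ∈ Cfsg.Geo.subalgebraNormalizer K := by
  have hne : Nonempty (Fin d ⊕ Fin d) := ⟨Sum.inl ⟨0, hd⟩⟩
  apply PSpM.mem_normalizer_of_gen K J hJK hgen y ε 0 hε
  rw [zero_smul, add_zero, hy, hJ]
  have e1 : (Q : MM) * X₀ * ((Q⁻¹ : GL (Fin d ⊕ Fin d) F) : MM) *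
      ((Q : MM) * J₁ * ((Q⁻¹ : GL (Fin d ⊕ Fin d) F) : MM)) =
      (Q : MM) * (X₀ * J₁) * ((Q⁻¹ : GL (Fin d ⊕ Fin d) F) : MM) := by
    simp only [mul_assoc, Units.inv_mul_cancel_left]
  have e2 : (ε • ((Q : MM) * J₁ * ((Q⁻¹ : GL (Fin d ⊕ Fin d) F) : MM))) *
      ((Q : MM) * X₀ * ((Q⁻¹ : GL (Fin d ⊕ Fin d) F) : MM)) =
      (Q : MM) * (ε • (J₁ * X₀)) * ((Q⁻¹ : GL (Fin d ⊕ Fin d) F) : MM) := by
    simp only [mul_assoc, Units.inv_mul_cancel_left, Matrix.smul_mul, Matrix.mul_smul]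
  rw [e1, e2, hXJ]

end stdmat

end Cfsg.Agent.Lib.Helper15.PSpN
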