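import Mathlib
import Cfsg.Agent.Lib.Helper15.PSpN7

/-!
# Symplectic frames adapted to skew-adjoint maps with scalar square and to involutions
-/

set_option autoImplicit false
set_option linter.unusedSimpArgs false
set_option linter.unusedSectionVars false

namespace Cfsg.Agent.Lib.Helper15.PSpN

open Module Cfsg.Agent.Lib.Helper15

section frames

variable {F V : Type*} [Field F] [AddCommGroup V] [Module F V] (B : V →ₗ[F] V →ₗ[F] F)

/-- extension of a compatible pair of families by one pair -/
theorem snoc_forall {k : ℕ} {α : Type*} (e : Fin k → α) (u : α) (P : Fin (k + 1) → α → Prop)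
    (h : ∀ t : Fin k, P t.castSucc (e t)) (hu : P (Fin.last k) u) :
    ∀ t : Fin (k + 1), P t ((Fin.snoc e u : Fin (k + 1) → α) t) := by
  intro t
  induction t using Fin.lastCases with
  | last => simp only [Fin.snoc_last]; exact hu
  | cast j => simp only [Fin.snoc_castSucc]; exact h j

/-- a nonzero vector in the complement of a short symplectic family -/
theorem exists_ne_zero_sympPerp [FiniteDimensional F V] (halt : ∀ x, B x x = 0) {k n : ℕ}
    (hV : finrank F V = 2 * n) (hk : k < n) {e f : Fin k → V} (h : IsSympFam B e f) :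
    ∃ w ∈ sympPerp B e f, w ≠ 0 := by
  have h1 := finrank_sympPerp B halt h
  have h2 : 0 < finrank F (sympPerp B e f) := by omega
  obtain ⟨w, hw⟩ := Module.finrank_pos_iff_exists_ne_zero.mp h2
  exact ⟨w.1, w.2, fun h0 => hw (Subtype.ext h0)⟩

variable [Fintype F]

/-- a frame adapted to a skew-adjoint map with nonzero scalar square -/
theorem gframe [FiniteDimensional F V] (hodd : Fintype.card F % 2 = 1) (halt : ∀ x, B x x = 0)
    (hnd : ∀ x, (∀ y, B x y = 0) → x = 0) (h2 : (2 : F) ≠ 0)
    (T : V →ₗ[F] V) (δ : F) (hδ0 : δ ≠ 0) (hTsk : ∀ u v, B (T u) v = -B u (T v))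
    (hT2 : ∀ v, T (T v) = δ • v) (n : ℕ) (hV : finrank F V = 2 * n) :
    ∃ e f : Fin n → V, IsSympFam B e f ∧ ∀ t, T (e t) = f t ∧ T (f t) = δ • e t := by
  have hsymm : ∀ u v, B u (T v) = B v (T u) := by
    intro u v
    rw [alt_swap B halt v (T u), hTsk, neg_neg]
  have key : ∀ k, k ≤ n → ∃ e f : Fin k → V, IsSympFam B e f ∧
      ∀ t, T (e t) = f t ∧ T (f t) = δ • e t := by
    intro k
    induction k with
    | zero =>
      intro _
      exact ⟨Fin.elim0, Fin.elim0, ⟨fun i => i.elim0, fun i => i.elim0, fun i => i.elim0⟩,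
        fun t => t.elim0⟩
    | succ k ih =>
      intro hk
      obtain ⟨e, f, hfam, hT⟩ := ih (by omega)
      obtain ⟨S, hS⟩ : ∃ S, S = sympPerp B e f := ⟨_, rfl⟩
      have hST : ∀ u ∈ S, T u ∈ S := by
        intro u hu
        rw [hS, mem_sympPerp] at hu ⊢
        intro i
        constructor
        · rw [hTsk, (hT i).1, (hu i).2, neg_zero]
        · rw [hTsk, (hT i).2, map_smul, (hu i).1, smul_zero, neg_zero]
      obtain ⟨w, hwS, hw0⟩ := exists_ne_zero_sympPerp B halt hV (by omega) hfam
      rw [← hS] at hwS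
      -- a non-isotropic vector
      obtain ⟨u, huS, hu⟩ : ∃ u ∈ S, B u (T u) ≠ 0 := by
        by_contra hall
        push Not at hall
        have hpol : ∀ a ∈ S, ∀ b ∈ S, B a (T b) = 0 := by
          intro a ha b hb
          have h1 := hall (a + b) (S.add_mem ha hb)
          simp only [map_add, LinearMap.add_apply, hall a ha, hall b hb, hsymm b a] at h1
          have h3 : (2 : F) * B a (T b) = 0 := by linear_combination h1
          exact (mul_eq_zero.mp h3).resolve_left h2
        apply hw0
        apply sympPerp_nondeg B halt hfam hnd w (hS ▸ hwS)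
        intro s hs
        have h1 := hpol w hwS (δ⁻¹ • T s) (S.smul_mem _ (hST s (hS ▸ hs)))
        rw [map_smul, hT2, smul_smul, inv_mul_cancel₀ hδ0, one_smul] at h1
        exact h1
      -- rescale
      obtain ⟨c, hc⟩ : ∃ c, c = B u (T u) := ⟨_, rfl⟩
      have hf2 : (Polynomial.X ^ 2 - Polynomial.C c⁻¹ : Polynomial F).degree = 2 :=
        Polynomial.degree_X_pow_sub_C (by norm_num) _
      have hg2 : (Polynomial.C (-δ) * Polynomial.X ^ 2 : Polynomial F).degree = 2 := by
        rw [Polynomial.degree_C_mul (neg_ne_zero.mpr hδ0), Polynomial.degree_X_pow]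
        rfl
      obtain ⟨a, b, hab⟩ := FiniteField.exists_root_sum_quadratic hf2 hg2 hodd
      simp only [Polynomial.eval_sub, Polynomial.eval_pow, Polynomial.eval_X, Polynomial.eval_C,
        Polynomial.eval_mul] at hab
      obtain ⟨v, hv⟩ : ∃ v, v = a • u + b • T u := ⟨_, rfl⟩
      have hvS : v ∈ S := by
        rw [hv]
        exact S.add_mem (S.smul_mem _ huS) (S.smul_mem _ (hST u huS))
      have hTuu : B (T u) u = -c := by rw [hTsk, hc]
      have hTuTu : B (T u) (T u) = 0 := halt _
      have hvTv : B v (T v) = 1 := by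
        rw [hv]
        simp only [map_add, map_smul, hT2, LinearMap.add_apply, LinearMap.smul_apply, smul_eq_mul,
          halt, hTuu, ← hc]
        have hc0 : c ≠ 0 := by rw [hc]; exact hu
        have h5 : (a ^ 2 - δ * b ^ 2) * c = 1 := by
          have : a ^ 2 - δ * b ^ 2 = c⁻¹ := by linear_combination hab
          rw [this, inv_mul_cancel₀ hc0]
        linear_combination h5
      refine ⟨Fin.snoc e v, Fin.snoc f (T v),
        isSympFam_snoc B halt hfam v (T v) (hS ▸ hvS) (hS ▸ hST v hvS) hvTv, ?_⟩
      intro t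
      induction t using Fin.lastCases with
      | last => simp only [Fin.snoc_last, true_and]; exact hT2 v
      | cast j => simp only [Fin.snoc_castSucc]; exact hT j
  exact key n le_rfl

omit [Fintype F] in
/-- a frame of eigenvectors of an involutory isometry -/
theorem involframe [FiniteDimensional F V] (halt : ∀ x, B x x = 0)
    (hnd : ∀ x, (∀ y, B x y = 0) → x = 0) (h2 : (2 : F) ≠ 0)
    (X : V →ₗ[F] V) (hiso : ∀ u v, B (X u) (X v) = B u v) (hX2 : ∀ v, X (X v) = v)
    (n : ℕ) (hV : finrank F V = 2 * n) :
    ∃ (e f : Fin n → V) (ε : Fin n → F), IsSympFam B e f ∧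
      ∀ t, ε t * ε t = 1 ∧ X (e t) = ε t • e t ∧ X (f t) = ε t • f t := by
  have key : ∀ k, k ≤ n → ∃ (e f : Fin k → V) (ε : Fin k → F), IsSympFam B e f ∧
      ∀ t, ε t * ε t = 1 ∧ X (e t) = ε t • e t ∧ X (f t) = ε t • f t := by
    intro k
    induction k with
    | zero =>
      intro _
      exact ⟨Fin.elim0, Fin.elim0, Fin.elim0,
        ⟨fun i => i.elim0, fun i => i.elim0, fun i => i.elim0⟩, fun t => t.elim0⟩
    | succ k ih =>
      intro hk
      obtain ⟨e, f, ε, hfam, hT⟩ := ih (by omega)
      obtain ⟨S, hS⟩ : ∃ S, S = sympPerp B e f := ⟨_, rfl⟩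
      have hε0 : ∀ i, ε i ≠ 0 := by
        intro i h
        have := (hT i).1
        rw [h, mul_zero] at this
        exact zero_ne_one this
      have hSX : ∀ u ∈ S, X u ∈ S := by
        intro u hu
        rw [hS, mem_sympPerp] at hu ⊢
        intro i
        constructor
        · have h1 := hiso u (e i)
          rw [(hT i).2.1, map_smul, smul_eq_mul, (hu i).1] at h1
          exact (mul_eq_zero.mp h1).resolve_left (hε0 i)
        · have h1 := hiso u (f i)
          rw [(hT i).2.2, map_smul, smul_eq_mul, (hu i).2] at h1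
          exact (mul_eq_zero.mp h1).resolve_left (hε0 i)
      obtain ⟨w, hwS, hw0⟩ := exists_ne_zero_sympPerp B halt hV (by omega) hfam
      rw [← hS] at hwS
      -- an eigenvector
      obtain ⟨η, hη, e', he'S, he'0, hXe'⟩ : ∃ η : F, η * η = 1 ∧ ∃ e' ∈ S, e' ≠ 0 ∧
          X e' = η • e' := by
        by_cases h1 : w + X w = 0
        · refine ⟨-1, by ring, w - X w, S.sub_mem hwS (hSX w hwS), ?_, ?_⟩
          · intro h3
            apply hw0
            have h4 : (2 : F) • w = 0 := by
              rw [two_smul]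
              have : w + w = (w + X w) + (w - X w) := by abel
              rw [this, h1, h3, add_zero]
            exact (smul_eq_zero.mp h4).resolve_left h2
          · rw [map_sub, hX2, neg_smul, one_smul, neg_sub]
        · refine ⟨1, by ring, w + X w, S.add_mem hwS (hSX w hwS), h1, ?_⟩
          rw [map_add, hX2, one_smul, add_comm]
      obtain ⟨s, hsS, hs⟩ : ∃ s ∈ S, B e' s ≠ 0 := by
        by_contra hall
        push Not at hall
        exact he'0 (sympPerp_nondeg B halt hfam hnd e' (hS ▸ he'S) (fun y hy => hall y (hS ▸ hy)))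
      obtain ⟨f', hf'⟩ : ∃ f', f' = (2 * B e' s)⁻¹ • (s + η • X s) := ⟨_, rfl⟩
      have hf'S : f' ∈ S := by
        rw [hf']
        exact S.smul_mem _ (S.add_mem hsS (S.smul_mem _ (hSX s hsS)))
      have hXf' : X f' = η • f' := by
        rw [hf', map_smul, map_add, map_smul, hX2, smul_comm η, smul_add η, smul_smul η η, hη,
          one_smul, add_comm]
      have hes : η * B e' (X s) = B e' s := by
        have h1 := hiso e' s
        rw [hXe', map_smul, LinearMap.smul_apply, smul_eq_mul] at h1
        exact h1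
      have hef : B e' f' = 1 := by
        rw [hf', map_smul, map_add, map_smul, smul_eq_mul, smul_eq_mul, hes]
        have h20 : 2 * B e' s ≠ 0 := mul_ne_zero h2 hs
        field_simp
        ring
      refine ⟨Fin.snoc e e', Fin.snoc f f', Fin.snoc ε η,
        isSympFam_snoc B halt hfam e' f' (hS ▸ he'S) (hS ▸ hf'S) hef, ?_⟩
      intro t
      induction t using Fin.lastCases with
      | last => simp only [Fin.snoc_last]; exact ⟨hη, hXe', hXf'⟩
      | cast j => simp only [Fin.snoc_castSucc]; exact hT j
  exact key n le_rfl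

end frames

end Cfsg.Agent.Lib.Helper15.PSpN
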