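import Mathlib
import Cfsg.Agent.Lib.Helper15.PSpN8

/-!
# Unitary type subgroups of `Sp_{2d}(q)`, `q` odd: sufficiency
-/

set_option autoImplicit false
set_option linter.unusedSimpArgs false
set_option linter.unusedSectionVars false

namespace Cfsg.Agent.Lib.Helper15.PSpN

open Module Matrix Cfsg.Agent.Lib.Helper15 Cfsg.Agent.Lib.Helper6 Cfsg.Agent.Lib.Helper16
  Cfsg.Agent.Lib.Helper29.SPO

section suff

variable {F : Type*} [Field F] {d : ℕ}

local notation "VV" => (Fin d ⊕ Fin d → F)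
local notation "MM" => Matrix (Fin d ⊕ Fin d) (Fin d ⊕ Fin d) F
local notation "GG" => GL (Fin d ⊕ Fin d) F

theorem finrank_VV' : finrank F VV = 2 * d := by
  rw [Module.finrank_fintype_fun_eq_card, Fintype.card_sum, Fintype.card_fin]
  ring

/-- the coercion of a conjugate -/
theorem conj_coe (Px Q x : GG) (X₀ : MM) (h : (x : MM) * (Px : MM) = (Px : MM) * X₀) :
    (((Px * Q⁻¹)⁻¹ * x * (Px * Q⁻¹) : GG) : MM) = (Q : MM) * X₀ * ((Q⁻¹ : GG) : MM) := by
  have e1 : (Px * Q⁻¹)⁻¹ * x * (Px * Q⁻¹) = Q * Px⁻¹ * x * Px * Q⁻¹ := by group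
  rw [e1]
  simp only [Units.val_mul]
  have e2 : (Q : MM) * ((Px⁻¹ : GG) : MM) * (x : MM) * (Px : MM) * ((Q⁻¹ : GG) : MM) =
      (Q : MM) * (((Px⁻¹ : GG) : MM) * ((x : MM) * (Px : MM))) * ((Q⁻¹ : GG) : MM) := by
    simp only [mul_assoc]
  rw [e2, h, Units.inv_mul_cancel_left]

theorem eq_conj_of_mul_eq (Q : GG) (A A₁ : MM) (h : A * (Q : MM) = (Q : MM) * A₁) :
    A = (Q : MM) * A₁ * ((Q⁻¹ : GG) : MM) := by
  rw [← h, mul_assoc, Units.mul_inv, mul_one]

variable [Fintype F]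

/-- a skew-adjoint matrix with nonzero scalar square is symplectically conjugate to the standard
one -/
theorem exists_conj_std (hodd : Fintype.card F % 2 = 1) (h2 : (2 : F) ≠ 0) (J' : MM) (δ : F)
    (hδ0 : δ ≠ 0)
    (hsk : ∀ u v : VV, Cfsg.sympForm d F (J' *ᵥ u) v = -Cfsg.sympForm d F u (J' *ᵥ v))
    (hJJ : J' * J' = δ • (1 : MM)) :
    ∃ P : GG, P ∈ Cfsg.spGL d F ∧ J' * (P : MM) = (P : MM) * stdJ d δ := by
  classical
  obtain ⟨e, f, hfam, hT⟩ := gframe (stdSymp d F) hodd stdSymp_alt stdSymp_nondeg h2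
    (Matrix.toLin' J') δ hδ0
    (fun u v => by
      rw [stdSymp_apply, stdSymp_apply, Matrix.toLin'_apply, Matrix.toLin'_apply]
      exact hsk u v)
    (fun v => by
      rw [Matrix.toLin'_apply, Matrix.toLin'_apply, Matrix.mulVec_mulVec, hJJ, Matrix.smul_mulVec,
        Matrix.one_mulVec]) d finrank_VV'
  obtain ⟨P, hP, hPe, hPf⟩ := PSpM.frame_matrix e f hfam
  refine ⟨P, hP, ?_⟩
  apply Matrix.ext_of_mulVec_single
  intro c
  rw [← Matrix.mulVec_mulVec, ← Matrix.mulVec_mulVec]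
  rcases c with t | t
  · rw [hPf, stdJ_single_inl, Matrix.mulVec_smul, hPe, ← Matrix.toLin'_apply, (hT t).2]
  · rw [hPe, stdJ_single_inr, hPf, ← Matrix.toLin'_apply, (hT t).1]

omit [Fintype F] in
/-- an involutory isometry is symplectically conjugate to a diagonal one -/
theorem exists_conj_diag (h2 : (2 : F) ≠ 0) (X : MM)
    (hiso : ∀ u v : VV, Cfsg.sympForm d F (X *ᵥ u) (X *ᵥ v) = Cfsg.sympForm d F u v)
    (hXX : X * X = 1) :
    ∃ (P : GG) (ε : Fin d → F), P ∈ Cfsg.spGL d F ∧ X * (P : MM) = (P : MM) * stdD ε := by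
  classical
  obtain ⟨e, f, ε, hfam, hT⟩ := involframe (stdSymp d F) stdSymp_alt stdSymp_nondeg h2
    (Matrix.toLin' X)
    (fun u v => by
      rw [stdSymp_apply, stdSymp_apply, Matrix.toLin'_apply, Matrix.toLin'_apply]
      exact hiso u v)
    (fun v => by
      rw [Matrix.toLin'_apply, Matrix.toLin'_apply, Matrix.mulVec_mulVec, hXX,
        Matrix.one_mulVec]) d finrank_VV'
  obtain ⟨P, hP, hPe, hPf⟩ := PSpM.frame_matrix e f hfam
  refine ⟨P, ε, hP, ?_⟩
  apply Matrix.ext_of_mulVec_single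
  intro c
  rw [← Matrix.mulVec_mulVec, ← Matrix.mulVec_mulVec, stdD_single, Matrix.mulVec_smul]
  rcases c with t | t
  · rw [hPf, Sum.elim_inl, ← Matrix.toLin'_apply, (hT t).2.2]
  · rw [hPe, Sum.elim_inr, ← Matrix.toLin'_apply, (hT t).2.1]

/-- every element with scalar square of `Sp_{2d}(q)`, `q` odd, normalises a conjugate of a
quadratic field subalgebra of unitary type -/
theorem sufficiency_u (hodd : Odd (Fintype.card F)) (hd : 1 ≤ d) (K : Subalgebra F MM)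
    (hK : Cfsg.Geo.IsFieldSubalgebra 2 K)
    (hKf : Cfsg.Geo.IsAdjointClosedFor (Cfsg.sympForm d F) K)
    (hKns : ¬ Cfsg.Geo.IsSelfAdjointFor (Cfsg.sympForm d F) K)
    (x : GG) (hx : x ∈ Cfsg.spGL d F)
    (hx2 : ∃ z : F, ((x ^ 2 : GG) : MM) = z • (1 : MM)) :
    ∃ g ∈ Cfsg.spGL d F, g⁻¹ * x * g ∈ Cfsg.Geo.subalgebraNormalizer K := by
  classical
  have hodd' : Fintype.card F % 2 = 1 := Nat.odd_iff.mp hodd
  have h2 : (2 : F) ≠ 0 := by
    intro h
    have h1 : ringChar F = 2 :=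
      CharP.ringChar_of_prime_eq_zero Nat.prime_two (by exact_mod_cast h)
    have := FiniteField.even_card_of_char_two h1
    omega
  obtain ⟨J, hJK, δ, hδ, hJJ, hJns, hgen, hJsk⟩ := exists_gen_skew hd h2 K hK hKf hKns
  have hδ0 : δ ≠ 0 := by
    rintro rfl
    exact hδ ⟨0, by ring⟩
  obtain ⟨PJ, hPJ, hPJeq⟩ := exists_conj_std hodd' h2 J δ hδ0 hJsk hJJ
  have hiso : ∀ u v : VV, Cfsg.sympForm d F ((x : MM) *ᵥ u) ((x : MM) *ᵥ v) =
      Cfsg.sympForm d F u v := (mem_spGL_iff x).mp hx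
  obtain ⟨z, hz⟩ := hx2
  have hxmul : (x : MM) * (x : MM) = z • (1 : MM) := by
    rw [← hz, pow_two, Units.val_mul]
  have hxx : ∀ v : VV, (x : MM) *ᵥ ((x : MM) *ᵥ v) = z • v := by
    intro v
    rw [Matrix.mulVec_mulVec, hxmul, Matrix.smul_mulVec, Matrix.one_mulVec]
  have hzz : z * z = 1 := by
    obtain ⟨u, v, huv⟩ := exists_sympForm_eq_one (F := F) (d := d) hd
    have h1 : Cfsg.sympForm d F ((x : MM) *ᵥ ((x : MM) *ᵥ u)) ((x : MM) *ᵥ ((x : MM) *ᵥ v)) =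
        Cfsg.sympForm d F u v := by
      rw [hiso, hiso]
    rw [hxx, hxx, sympForm_smul_left, sympForm_smul_right, huv, mul_one] at h1
    exact h1
  rcases mul_self_eq_one_iff.mp hzz with hz1 | hz1
  · -- type plus
    rw [hz1, one_smul] at hxmul
    obtain ⟨Px, ε, hPx, hPxeq⟩ := exists_conj_diag h2 (x : MM) hiso hxmul
    refine ⟨Px * PJ⁻¹, Subgroup.mul_mem _ hPx (Subgroup.inv_mem _ hPJ), ?_⟩
    apply normalises_of_std (by omega) K J hJK hgen PJ _ (stdD ε) (stdJ d δ) 1 one_ne_zero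
    · rw [one_smul]
      exact stdD_comm ε δ
    · exact conj_coe Px PJ x _ hPxeq
    · exact eq_conj_of_mul_eq PJ J _ hPJeq
  · -- type minus
    have hxsk : ∀ u v : VV, Cfsg.sympForm d F ((x : MM) *ᵥ u) v =
        -Cfsg.sympForm d F u ((x : MM) *ᵥ v) := by
      intro u v
      have h1 := hiso u ((x : MM) *ᵥ v)
      rw [hxx, hz1, sympForm_smul_right] at h1
      linear_combination -h1
    obtain ⟨Px, hPx, hPxeq⟩ := exists_conj_std hodd' h2 (x : MM) (-1) (by norm_num) hxsk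
      (by rw [hxmul, hz1])
    obtain ⟨a, b, hab⟩ := PSpM.exists_sq_add_sq hodd' δ
    obtain ⟨PM, hPM, hPMeq⟩ := exists_conj_std hodd' h2 (stdM d a b) δ hδ0 (stdM_skew a b)
      (stdM_sq a b δ hab)
    refine ⟨Px * (PJ * PM⁻¹)⁻¹, Subgroup.mul_mem _ hPx (Subgroup.inv_mem _
      (Subgroup.mul_mem _ hPJ (Subgroup.inv_mem _ hPM))), ?_⟩
    apply normalises_of_std (by omega) K J hJK hgen (PJ * PM⁻¹) _ (stdJ d (-1)) (stdM d a b) (-1)
      (by norm_num)
    · rw [neg_smul, one_smul]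
      exact stdM_anti a b
    · exact conj_coe Px (PJ * PM⁻¹) x _ hPxeq
    · apply eq_conj_of_mul_eq
      rw [Units.val_mul, ← mul_assoc, hPJeq]
      have h5 : ((PM⁻¹ : GG) : MM) * stdM d a b = stdJ d δ * ((PM⁻¹ : GG) : MM) := by
        have h6 : stdM d a b = (PM : MM) * stdJ d δ * ((PM⁻¹ : GG) : MM) :=
          eq_conj_of_mul_eq PM _ _ hPMeq
        rw [h6]
        simp only [← mul_assoc, Units.inv_mul, one_mul]
      rw [mul_assoc, mul_assoc, h5]

end suff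

end Cfsg.Agent.Lib.Helper15.PSpN
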