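import Mathlib
import Cfsg.Agent.Lib.Helper15.PSub8

/-!
# Necessity of the `m`-space condition (endomorphism level)
-/

set_option autoImplicit false

namespace Cfsg.Agent.Lib.Helper15.PSub

open Module

variable {F : Type*} [Field F] [Fintype F]

theorem necessity_mspace (p : ℕ) [Fact p.Prime] [CharP F p] (r : ℕ) [hr : Fact r.Prime]
    (hrp : r ≠ p) (n m : ℕ) (hmn : 2 * m ≤ n) (hm : 1 ≤ m)
    (hcount : ∃ t, n - m < t ∧ t ≤ n ∧ orderOf ((Fintype.card F : ℕ) : ZMod r) ∣ t)
    (H : ∀ x : (Fin n → F) →ₗ[F] (Fin n → F), LinearMap.det x = 1 →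
      (∃ c : F, x ^ r = c • (1 : (Fin n → F) →ₗ[F] (Fin n → F))) →
      (∀ z : F, x ≠ z • (1 : (Fin n → F) →ₗ[F] (Fin n → F))) →
      ∃ U : Submodule F (Fin n → F), U ∈ Module.End.invtSubmodule x ∧ finrank F U = m) :
    (orderOf ((Fintype.card F : ℕ) : ZMod r) = 1 ∧ (r ∣ m ∨
        (padicValNat r n ≤ padicValNat r (Fintype.card F - 1) ∧
          (r = 2 → Even n → Fintype.card F % 4 = 1)))) ∨
      (2 ≤ orderOf ((Fintype.card F : ℕ) : ZMod r) ∧
        orderOf ((Fintype.card F : ℕ) : ZMod r) ≤ m ∧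
        m % orderOf ((Fintype.card F : ℕ) : ZMod r) ≤
          n % orderOf ((Fintype.card F : ℕ) : ZMod r)) := by
  have hq1 : 1 ≤ Fintype.card F := Fintype.card_pos
  set i := orderOf ((Fintype.card F : ℕ) : ZMod r) with hi
  have hipos : 0 < i := orderOf_pos_of_ne p r hrp
  obtain ⟨t, ht1, ht2, hit⟩ := hcount
  by_cases hi1 : i = 1
  · left
    refine ⟨hi1, ?_⟩
    by_contra hcon
    have hrm : ¬ r ∣ m := fun h' => hcon (Or.inl h')
    have hbad : ¬ (padicValNat r n ≤ padicValNat r (Fintype.card F - 1) ∧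
        (r = 2 → Even n → Fintype.card F % 4 = 1)) := fun h' => hcon (Or.inr h')
    have hrq : r ∣ Fintype.card F - 1 := (orderOf_zmod_eq_one_iff _ r hq1).mp hi1
    obtain ⟨x, hdet, hc, hns, hdiv⟩ := bad_i1 r hr.out hrq n (by omega) hbad
    obtain ⟨W, hW, hWd⟩ := H x hdet hc hns
    have := hdiv W hW
    rw [hWd] at this
    exact hrm this
  · right
    have hi2 : 2 ≤ i := by omega
    have hrq : ¬ r ∣ Fintype.card F - 1 := fun h' => hi1 ((orderOf_zmod_eq_one_iff _ r hq1).mpr h')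
    have hin : i ≤ n := by
      have : i ≤ t := Nat.le_of_dvd (by omega) hit
      omega
    obtain ⟨y, hdet, hy, hns, hE⟩ := bad_i2 p r hrp hrq n hin
    obtain ⟨W, hW, hWd⟩ := H y hdet ⟨1, by rw [one_smul]; exact hy⟩ hns
    obtain ⟨j, hj⟩ := invt_profile p r hrp y hy W hW
    rw [hWd] at hj
    have hu : finrank F ↥(W ⊓ Module.End.eigenspace y 1) ≤ n % i :=
      (Submodule.finrank_mono inf_le_right).trans hE
    have hni : n % i < i := Nat.mod_lt n hipos
    have hmod : m % i = finrank F ↥(W ⊓ Module.End.eigenspace y 1) := by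
      rw [hj, Nat.add_mul_mod_self_right, Nat.mod_eq_of_lt (by omega)]
    have hmi : m % i ≤ n % i := by rw [hmod]; exact hu
    refine ⟨hi2, ?_, hmi⟩
    by_contra hlt
    have hlt : m < i := by omega
    rw [Nat.mod_eq_of_lt hlt] at hmi
    obtain ⟨t', rfl⟩ := hit
    have h1 : n % i = n - i * t' := by
      have h2 : n = (n - i * t') + i * t' := by omega
      conv_lhs => rw [h2, Nat.add_mul_mod_self_left]
      exact Nat.mod_eq_of_lt (by omega)
    omega

end Cfsg.Agent.Lib.Helper15.PSub
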