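import Mathlib
import Cfsg.Agent.Lib.Helper15.PSub11

/-!
# Necessity of the partition condition; partitions into parts `≤ 2`
-/

set_option autoImplicit false

namespace Cfsg.Agent.Lib.Helper15.PSub

open Module Cfsg.Agent.Lib.Helper14

section nec

variable {F : Type*} [Field F]

theorem smul_one_injective' (n : ℕ) (hn : n ≠ 0) (a b : F)
    (h : a • (1 : (Fin n → F) →ₗ[F] (Fin n → F)) = b • 1) : a = b := by
  have h1 := LinearMap.congr_fun h (fun _ => 1)
  have h2 := congrFun h1 ⟨0, Nat.pos_of_ne_zero hn⟩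
  simpa using h2

theorem unip_necessity (p : ℕ) [hp : Fact p.Prime] [CharP F p] (n m : ℕ) (hmn : m ≤ n)
    (H : ∀ x : (Fin n → F) →ₗ[F] (Fin n → F), LinearMap.det x = 1 → x ^ p = 1 →
      (∀ z : F, x ≠ z • (1 : (Fin n → F) →ₗ[F] (Fin n → F))) →
      ∃ U W : Submodule F (Fin n → F), IsCompl U W ∧ U ∈ Module.End.invtSubmodule x ∧
        W ∈ Module.End.invtSubmodule x ∧ finrank F U = m) :
    ∀ μ : Multiset ℕ, (∀ a ∈ μ, 0 < a ∧ a ≤ p) → μ.sum = n →
      ∃ ν : Multiset ℕ, ν ≤ μ ∧ ν.sum = m := by
  classical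
  intro μ hμ hsum
  have hpp : p.Prime := hp.out
  by_cases hall : ∀ b ∈ μ, b ≤ 1
  · have h1 : ∀ b ∈ μ, b = 1 := fun b hb => by
      have := hμ b hb
      have := hall b hb
      omega
    have h2 := Multiset.eq_replicate_card.mpr h1
    have h3 : Multiset.card μ = n := by
      have h4 := hsum
      rw [h2, Multiset.sum_replicate, smul_eq_mul, mul_one] at h4
      exact h4
    rw [h3] at h2
    refine ⟨Multiset.replicate m 1, ?_, by simp⟩
    rw [h2]
    exact (Multiset.replicate_le_replicate 1).mpr hmn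
  · have hall' : ∃ b ∈ μ, 1 < b := by
      by_contra hcon
      apply hall
      intro b hb
      by_contra hb1
      exact hcon ⟨b, hb, by omega⟩
    obtain ⟨b₀, hb₀, hb₀1⟩ := hall'
    have hn0 : n ≠ 0 := by
      rintro rfl
      have := Multiset.single_le_sum (fun x _ => Nat.zero_le x) b₀ hb₀
      omega
    let μP : Nat.Partition n := ⟨μ, fun hi => (hμ _ hi).1, hsum⟩
    set N₀ := stdNil (F := F) μP with hN₀
    have hNp : N₀ ^ p = 0 := by
      rw [hN₀, ← nilOf_stdUnip]
      exact (stdUnip_pow_eq_zero_iff μP p).mpr (fun b hb => (hμ b hb).2)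
    have hN1 : ¬ N₀ ^ 1 = 0 := by
      rw [hN₀, ← nilOf_stdUnip, stdUnip_pow_eq_zero_iff]
      intro hcon
      have := hcon b₀ hb₀
      omega
    set y : (Fin n → F) →ₗ[F] (Fin n → F) := 1 + N₀ with hy
    have hyp : y ^ p = 1 := by rw [hy, one_add_pow_char', hNp, add_zero]
    have hdet : LinearMap.det y = 1 := by
      have h1 : (LinearMap.det y) ^ p = 1 := by rw [← map_pow, hyp, map_one]
      have h2 : (LinearMap.det y - 1) ^ p = 0 := by
        rw [sub_pow_char, h1, one_pow, sub_self]
      exact sub_eq_zero.mp (pow_eq_zero_iff hpp.ne_zero |>.mp h2)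
    have hns : ∀ z : F, y ≠ z • (1 : (Fin n → F) →ₗ[F] (Fin n → F)) := by
      intro z hz
      have hnil : N₀ = (z - 1) • (1 : (Fin n → F) →ₗ[F] (Fin n → F)) := by
        have h1 : N₀ = y - 1 := by rw [hy, add_sub_cancel_left]
        have h2 : (z - 1) • (1 : (Fin n → F) →ₗ[F] (Fin n → F)) = z • 1 - 1 := by
          have h3 := sub_smul z 1 (1 : (Fin n → F) →ₗ[F] (Fin n → F))
          rw [one_smul] at h3
          exact h3
        rw [h2, ← hz]
        exact h1
      have h0 : (z - 1) ^ p = 0 := by
        have h1 := hNp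
        rw [hnil, smul_pow, one_pow] at h1
        have := smul_one_injective' n hn0 ((z - 1) ^ p) 0 (by rw [h1, zero_smul])
        exact this
      have hz1 : z - 1 = 0 := pow_eq_zero_iff hpp.ne_zero |>.mp h0
      apply hN1
      rw [hnil, hz1, zero_smul, pow_one]
    obtain ⟨U, W, hUW, hUy, hWy, hUd⟩ := H y hdet hyp hns
    have hNy : N₀ = y - 1 := by rw [hy, add_sub_cancel_left]
    have hU : ∀ x ∈ U, N₀ x ∈ U := by
      intro x hx
      rw [hNy, LinearMap.sub_apply, Module.End.one_apply]
      exact U.sub_mem (hUy hx) hx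
    have hW : ∀ x ∈ W, N₀ x ∈ W := by
      intro x hx
      rw [hNy, LinearMap.sub_apply, Module.End.one_apply]
      exact W.sub_mem (hWy hx) hx
    have hnil : IsNilpotent N₀ := ⟨p, hNp⟩
    obtain ⟨ν, hν⟩ := exists_partition_of_isNilpotent (N₀.restrict hU)
      (isNilpotent_restrict _ hU hnil)
    obtain ⟨ρ, hρ⟩ := exists_partition_of_isNilpotent (N₀.restrict hW)
      (isNilpotent_restrict _ hW hnil)
    have hμeq : μ = ν.parts + ρ.parts := by
      apply eq_of_nuOf_eq
      · intro h0
        exact absurd (hμ 0 h0).1 (lt_irrefl 0)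
      · intro h0
        rw [Multiset.mem_add] at h0
        rcases h0 with h0 | h0
        · exact absurd (ν.parts_pos h0) (lt_irrefl 0)
        · exact absurd (ρ.parts_pos h0) (lt_irrefl 0)
      · intro k
        rw [nuOf_add, hν, hρ, ← nu_of_isCompl N₀ hUW hU hW, hN₀, nu_stdNil]
    refine ⟨ν.parts, ?_, ?_⟩
    · rw [hμeq]
      exact Multiset.le_add_right _ _
    · rw [ν.parts_sum, hUd]

end nec

section two

theorem two_part_iff (n m : ℕ) (hmn : m ≤ n) :
    (∀ μ : Multiset ℕ, (∀ a ∈ μ, 0 < a ∧ a ≤ 2) → μ.sum = n →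
      ∃ ν : Multiset ℕ, ν ≤ μ ∧ ν.sum = m) ↔ (Odd n ∨ Even m) := by
  constructor
  · intro h
    by_cases hn : Odd n
    · exact Or.inl hn
    · right
      have hne : Even n := Nat.not_odd_iff_even.mp hn
      obtain ⟨k, hk⟩ := hne
      obtain ⟨ν, hν, hνs⟩ := h (Multiset.replicate k 2)
        (fun a ha => by rw [Multiset.eq_of_mem_replicate ha]; omega)
        (by rw [Multiset.sum_replicate, smul_eq_mul]; omega)
      obtain ⟨j, -, rfl⟩ := Multiset.le_replicate_iff.mp hν
      rw [Multiset.sum_replicate, smul_eq_mul] at hνs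
      exact ⟨j, by omega⟩
  · intro h μ hμ hsum
    set a₂ := Multiset.count 2 μ with ha₂
    set a₁ := Multiset.count 1 μ with ha₁
    have hμeq : μ = Multiset.replicate a₂ 2 + Multiset.replicate a₁ 1 := by
      ext x
      rw [Multiset.count_add, Multiset.count_replicate, Multiset.count_replicate]
      by_cases h2 : x = 2
      · subst h2
        simp [ha₂]
      · by_cases h1 : x = 1
        · subst h1
          simp [ha₁]
        · rw [if_neg (Ne.symm h2), if_neg (Ne.symm h1)]
          apply Multiset.count_eq_zero_of_notMem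
          intro hx
          have := hμ x hx
          omega
    have hn : n = 2 * a₂ + a₁ := by
      rw [← hsum]
      conv_lhs => rw [hμeq]
      rw [Multiset.sum_add, Multiset.sum_replicate, Multiset.sum_replicate, smul_eq_mul,
        smul_eq_mul]
      omega
    by_cases hc : m / 2 ≤ a₂
    · have hk1 : m % 2 ≤ a₁ := by
        rcases h with hodd | hev
        · obtain ⟨k, hk⟩ := hodd
          omega
        · obtain ⟨k, hk⟩ := hev
          omega
      refine ⟨Multiset.replicate (m / 2) 2 + Multiset.replicate (m % 2) 1, ?_, ?_⟩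
      · rw [hμeq]
        exact add_le_add ((Multiset.replicate_le_replicate 2).mpr hc)
          ((Multiset.replicate_le_replicate 1).mpr hk1)
      · rw [Multiset.sum_add, Multiset.sum_replicate, Multiset.sum_replicate, smul_eq_mul,
          smul_eq_mul]
        omega
    · refine ⟨Multiset.replicate a₂ 2 + Multiset.replicate (m - 2 * a₂) 1, ?_, ?_⟩
      · rw [hμeq]
        exact add_le_add le_rfl ((Multiset.replicate_le_replicate 1).mpr (by omega))
      · rw [Multiset.sum_add, Multiset.sum_replicate, Multiset.sum_replicate, smul_eq_mul,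
          smul_eq_mul]
        omega

end two

end Cfsg.Agent.Lib.Helper15.PSub
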