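import Mathlib
import Cfsg.Agent.Lib.Helper15.Mx17

/-!
# Maximal subgroups of `PGL₂(q)`, part 1: `PSL₂` inside `PGL₂`
-/

set_option autoImplicit false

open scoped Pointwise

namespace Cfsg.Agent.Lib.Helper15.Pg

open Matrix
open Cfsg.Agent.Lib.Helper14
open Cfsg.Agent.Lib.Helper15
open Cfsg.Agent.Lib.Helper15.Dk
open Cfsg.Agent.Lib.Helper15.Mx

variable {F : Type*} [Field F]

/-- the inclusion `PSL₂(F) → PGL₂(F)` -/
noncomputable abbrev iot (F : Type*) [Field F] :
    ProjectiveSpecialLinearGroup (Fin 2) F →* ProjGenLinGroup (Fin 2) F :=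
  ProjectiveSpecialLinearGroup.toPGL (n := Fin 2) (R := F)

theorem iot_toPSL2 (g : SpecialLinearGroup (Fin 2) F) :
    iot F (toPSL2 F g) = ProjGenLinGroup.mk (SpecialLinearGroup.toGL g) := rfl

theorem iot_injective : Function.Injective (iot F) := ProjectiveSpecialLinearGroup.toPGL_injective

/-- the image of `SL₂` in `PGL₂` is the image of `PSL₂` -/
theorem range_eq : (ProjGenLinGroup.mk.comp SpecialLinearGroup.toGL :
    SpecialLinearGroup (Fin 2) F →* ProjGenLinGroup (Fin 2) F).range = (iot F).range := by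
  ext x
  constructor
  · rintro ⟨g, rfl⟩
    exact ⟨toPSL2 F g, rfl⟩
  · rintro ⟨y, rfl⟩
    obtain ⟨g, rfl⟩ := toPSL2_surjective y
    exact ⟨g, rfl⟩

theorem toGL_glSL (P : GL (Fin 2) F) (g : SpecialLinearGroup (Fin 2) F) :
    SpecialLinearGroup.toGL (glSL P g) = P * SpecialLinearGroup.toGL g * P⁻¹ := by
  apply Units.ext
  rw [Units.val_mul, Units.val_mul]
  rfl

/-- conjugation by `PGL₂` on the image of `PSL₂` -/
theorem conj_iot (P : GL (Fin 2) F) (x : ProjectiveSpecialLinearGroup (Fin 2) F) :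
    ProjGenLinGroup.mk P * iot F x * (ProjGenLinGroup.mk P)⁻¹ = iot F (glAut P x) := by
  obtain ⟨g, rfl⟩ := toPSL2_surjective x
  rw [glAut_toPSL2, iot_toPSL2, iot_toPSL2, toGL_glSL, map_mul, map_mul, map_inv]

theorem glAut_mul (P Q : GL (Fin 2) F) (x : ProjectiveSpecialLinearGroup (Fin 2) F) :
    glAut (P * Q) x = glAut P (glAut Q x) := by
  obtain ⟨g, rfl⟩ := toPSL2_surjective x
  rw [glAut_toPSL2, glAut_toPSL2, glAut_toPSL2, glSL_mul]

theorem glAut_inv_apply (P : GL (Fin 2) F) (x : ProjectiveSpecialLinearGroup (Fin 2) F) :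
    glAut P⁻¹ (glAut P x) = x := by
  obtain ⟨g, rfl⟩ := toPSL2_surjective x
  rw [glAut_toPSL2, glAut_toPSL2, glSL_inv_apply]

theorem glAut_apply_inv (P : GL (Fin 2) F) (x : ProjectiveSpecialLinearGroup (Fin 2) F) :
    glAut P (glAut P⁻¹ x) = x := by
  have := glAut_inv_apply P⁻¹ x
  rwa [inv_inv] at this

/-- `glAut` of an element of `SL₂` is conjugation -/
theorem glAut_toGL (h : SpecialLinearGroup (Fin 2) F) (x : ProjectiveSpecialLinearGroup (Fin 2) F) :
    glAut (SpecialLinearGroup.toGL h) x = toPSL2 F h * x * (toPSL2 F h)⁻¹ := by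
  apply iot_injective
  rw [← conj_iot, map_mul, map_mul, map_inv, iot_toPSL2]

/-- the image of `PSL₂` is a normal subgroup -/
theorem range_normal : ((iot F).range).Normal := by
  constructor
  rintro _ ⟨x, rfl⟩ m
  induction m using ProjGenLinGroup.induction_on with | mk P =>
  rw [conj_iot]
  exact ⟨_, rfl⟩

/-- elements of the image have square determinant -/
theorem isSquare_det_of_mem_range (P : GL (Fin 2) F) (h : ProjGenLinGroup.mk P ∈ (iot F).range) :
    IsSquare ((GeneralLinearGroup.det P : Fˣ) : F) := by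
  obtain ⟨x, hx⟩ := h
  obtain ⟨g, rfl⟩ := toPSL2_surjective x
  rw [iot_toPSL2, ProjGenLinGroup.mk_eq_mk_iff] at hx
  obtain ⟨u, hu⟩ := hx
  rw [← hu, map_mul]
  refine ⟨(u : F), ?_⟩
  have h1 : GeneralLinearGroup.det (SpecialLinearGroup.toGL g) = 1 := by
    apply Units.ext
    simp
  rw [h1, one_mul]
  simp [GeneralLinearGroup.scalar]
  ring


section finite
variable [Fintype F]

/-- in odd characteristic the image of `PSL₂` is a proper subgroup -/
theorem range_ne_top (hodd : Odd (Fintype.card F)) : (iot F).range ≠ ⊤ := by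
  intro htop
  have hchar : ringChar F ≠ 2 := by
    intro h
    have := FiniteField.even_card_of_char_two h
    rw [Nat.odd_iff] at hodd
    omega
  obtain ⟨a, ha⟩ := FiniteField.exists_nonsquare hchar
  have ha0 : a ≠ 0 := by
    rintro rfl
    exact ha IsSquare.zero
  let P : GL (Fin 2) F := GeneralLinearGroup.mkOfDetNeZero !![a, 0; 0, 1] (by simp [Matrix.det_fin_two, ha0])
  have hP : ProjGenLinGroup.mk P ∈ (iot F).range := by rw [htop]; exact Subgroup.mem_top _
  have := isSquare_det_of_mem_range P hP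
  apply ha
  have hd : ((GeneralLinearGroup.det P : Fˣ) : F) = a := by
    show (!![a, 0; 0, 1] : Matrix (Fin 2) (Fin 2) F).det = a
    simp [Matrix.det_fin_two]
  rwa [hd] at this

/-- the image of `PSL₂` has index two: the product of two elements outside lies inside -/
theorem mul_mem_range_of_not_mem (x y : ProjGenLinGroup (Fin 2) F) (hx : x ∉ (iot F).range)
    (hy : y ∉ (iot F).range) : x * y ∈ (iot F).range := by
  have hx' : x⁻¹ ∉ (iot F).range := fun h => hx (by simpa using (iot F).range.inv_mem h)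
  have := pgl_index_two x⁻¹ y hx' hy
  rwa [inv_inv] at this

/-- a subgroup not inside the image of `PSL₂` meets it in a subgroup of index two -/
theorem card_eq_two_mul_comap (M : Subgroup (ProjGenLinGroup (Fin 2) F)) (t : ProjGenLinGroup (Fin 2) F)
    (htM : t ∈ M) (htL : t ∉ (iot F).range) : Nat.card M = 2 * Nat.card (M.comap (iot F)) := by
  have h1 : Nat.card (M.comap (iot F)) = Nat.card ((iot F).range.subgroupOf M) := by
    apply Nat.card_congr
    refine Equiv.ofBijective (fun x => (⟨⟨iot F x.1, x.2⟩, ?_⟩ : (iot F).range.subgroupOf M)) ⟨?_, ?_⟩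
    · rw [Subgroup.mem_subgroupOf]
      exact ⟨_, rfl⟩
    · intro x y hxy
      apply Subtype.ext
      apply iot_injective
      have := congrArg (fun z : (iot F).range.subgroupOf M => ((z : M) : ProjGenLinGroup (Fin 2) F)) hxy
      exact this
    · rintro ⟨⟨y, hyM⟩, hy⟩
      rw [Subgroup.mem_subgroupOf] at hy
      obtain ⟨x, hx⟩ := hy
      refine ⟨⟨x, ?_⟩, ?_⟩
      · rw [Subgroup.mem_comap]
        simp only at hx
        rw [hx]
        exact hyM
      · apply Subtype.ext
        apply Subtype.ext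
        exact hx
  have h2 : ((iot F).range.subgroupOf M).index = 2 := by
    rw [Subgroup.index_eq_two_iff]
    refine ⟨⟨t, htM⟩, ?_⟩
    intro b
    rw [Subgroup.mem_subgroupOf, Subgroup.mem_subgroupOf]
    by_cases hb : (b : ProjGenLinGroup (Fin 2) F) ∈ (iot F).range
    · refine Or.inr ⟨hb, ?_⟩
      intro h
      apply htL
      have : t = (b : ProjGenLinGroup (Fin 2) F)⁻¹ * ((b : ProjGenLinGroup (Fin 2) F) * t) := by group
      rw [this]
      exact (iot F).range.mul_mem ((iot F).range.inv_mem hb) h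
    · refine Or.inl ⟨?_, hb⟩
      exact mul_mem_range_of_not_mem _ _ hb htL
  rw [h1, ← Subgroup.index_mul_card ((iot F).range.subgroupOf M), h2]

end finite

end Cfsg.Agent.Lib.Helper15.Pg
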