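import Mathlib
import Cfsg.Agent.Lib.Helper15.Pg1

/-!
# Maximal subgroups of `PGL₂(q)`, part 2: normalizers in `PGL₂` of subgroups of `PSL₂`
-/

set_option autoImplicit false

open scoped Pointwise

namespace Cfsg.Agent.Lib.Helper15.Pg

open Matrix
open Cfsg.Agent.Lib.Helper14
open Cfsg.Agent.Lib.Helper15
open Cfsg.Agent.Lib.Helper15.Dk
open Cfsg.Agent.Lib.Helper15.Mx

variable {F : Type*} [Field F]

/-- the normalizer in `PGL₂` of the image of a subgroup of `PSL₂` -/
noncomputable def NG (K : Subgroup (ProjectiveSpecialLinearGroup (Fin 2) F)) :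
    Subgroup (ProjGenLinGroup (Fin 2) F) :=
  Subgroup.normalizer ((K.map (iot F) : Subgroup (ProjGenLinGroup (Fin 2) F)) :
    Set (ProjGenLinGroup (Fin 2) F))

theorem iot_mem_map_iff (K : Subgroup (ProjectiveSpecialLinearGroup (Fin 2) F))
    (x : ProjectiveSpecialLinearGroup (Fin 2) F) : iot F x ∈ K.map (iot F) ↔ x ∈ K := by
  constructor
  · rintro ⟨y, hy, hxy⟩
    rw [← iot_injective hxy]
    exact hy
  · intro hx
    exact ⟨x, hx, rfl⟩

theorem mk_mem_NG_iff (P : GL (Fin 2) F) (K : Subgroup (ProjectiveSpecialLinearGroup (Fin 2) F)) :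
    ProjGenLinGroup.mk P ∈ NG K ↔ ∀ x, x ∈ K ↔ glAut P x ∈ K := by
  unfold NG
  rw [Subgroup.mem_normalizer_iff]
  constructor
  · intro h x
    have := h (iot F x)
    rw [conj_iot, iot_mem_map_iff, iot_mem_map_iff] at this
    exact this
  · intro h y
    by_cases hy : y ∈ (iot F).range
    · obtain ⟨x, rfl⟩ := hy
      rw [conj_iot, iot_mem_map_iff, iot_mem_map_iff]
      exact h x
    · constructor
      · rintro ⟨x, -, rfl⟩
        exact (hy ⟨x, rfl⟩).elim
      · rintro ⟨x, -, hx⟩
        exfalso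
        apply hy
        have h1 : y = (ProjGenLinGroup.mk P)⁻¹ * iot F x * (ProjGenLinGroup.mk P)⁻¹⁻¹ := by
          rw [hx]; group
        rw [h1]
        exact range_normal.conj_mem _ ⟨x, rfl⟩ _

theorem mem_NG_iff (K : Subgroup (ProjectiveSpecialLinearGroup (Fin 2) F)) (m : ProjGenLinGroup (Fin 2) F) :
    m ∈ NG K ↔ ∀ P : GL (Fin 2) F, ProjGenLinGroup.mk P = m → ∀ x, x ∈ K ↔ glAut P x ∈ K := by
  constructor
  · rintro hm P rfl
    exact (mk_mem_NG_iff P K).1 hm
  · intro h
    induction m using ProjGenLinGroup.induction_on with | mk P =>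
    exact (mk_mem_NG_iff P K).2 (h P rfl)

/-- a subgroup all of whose elements map `K` into itself normalizes `K` -/
theorem le_NG_of_forall (M : Subgroup (ProjGenLinGroup (Fin 2) F))
    (K : Subgroup (ProjectiveSpecialLinearGroup (Fin 2) F))
    (h : ∀ P : GL (Fin 2) F, ProjGenLinGroup.mk P ∈ M → ∀ x ∈ K, glAut P x ∈ K) : M ≤ NG K := by
  intro m hm
  induction m using ProjGenLinGroup.induction_on with | mk P =>
  rw [mk_mem_NG_iff]
  intro x
  constructor
  · exact h P hm x
  · intro hx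
    have h1 : ProjGenLinGroup.mk P⁻¹ ∈ M := by
      rw [map_inv]; exact M.inv_mem hm
    have := h P⁻¹ h1 _ hx
    rwa [glAut_inv_apply] at this

/-- the part of the normalizer inside `PSL₂` -/
theorem comap_NG (K : Subgroup (ProjectiveSpecialLinearGroup (Fin 2) F)) :
    (NG K).comap (iot F) = Subgroup.normalizer ((K : Subgroup (ProjectiveSpecialLinearGroup (Fin 2) F)) :
      Set (ProjectiveSpecialLinearGroup (Fin 2) F)) := by
  ext x
  obtain ⟨h, rfl⟩ := toPSL2_surjective x
  rw [Subgroup.mem_comap, iot_toPSL2, mk_mem_NG_iff, Subgroup.mem_normalizer_iff]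
  constructor
  · intro hx y
    rw [← glAut_toGL]
    exact hx y
  · intro hx y
    rw [glAut_toGL]
    exact hx y

/-- a subgroup normalizes its intersection with `PSL₂` -/
theorem le_NG_comap (M : Subgroup (ProjGenLinGroup (Fin 2) F)) : M ≤ NG (M.comap (iot F)) := by
  apply le_NG_of_forall
  intro P hP x hx
  rw [Subgroup.mem_comap, ← conj_iot]
  exact M.mul_mem (M.mul_mem hP hx) (M.inv_mem hP)

section finite
variable [Fintype F]

/-- the normalizer of a proper nontrivial subgroup is proper -/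
theorem NG_ne_top (h4 : 4 ≤ Fintype.card F) (K : Subgroup (ProjectiveSpecialLinearGroup (Fin 2) F))
    (hK1 : K ≠ ⊥) (hK2 : K ≠ ⊤) : NG K ≠ ⊤ := by
  intro htop
  have hsimple : IsSimpleGroup (ProjectiveSpecialLinearGroup (Fin 2) F) :=
    Matrix.ProjectiveSpecialLinearGroup.rank_two_simple (by rw [Nat.card_eq_fintype_card]; exact h4)
  have hn : K.Normal := by
    rw [← Subgroup.normalizer_eq_top_iff, ← comap_NG, htop, Subgroup.comap_top]
  rcases hn.eq_bot_or_eq_top with h | h
  · exact hK1 h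
  · exact hK2 h

/-- a maximal subgroup normalizing a proper nontrivial subgroup of `PSL₂` is its full normalizer -/
theorem eq_NG_of_le (h4 : 4 ≤ Fintype.card F) (M : Subgroup (ProjGenLinGroup (Fin 2) F)) (hM : IsCoatom M)
    (K : Subgroup (ProjectiveSpecialLinearGroup (Fin 2) F)) (hK1 : K ≠ ⊥) (hK2 : K ≠ ⊤)
    (hle : M ≤ NG K) : M = NG K := by
  rcases eq_or_lt_of_le hle with h | h
  · exact h
  · exact (NG_ne_top h4 K hK1 hK2 (hM.2 _ h)).elim

end finite

end Cfsg.Agent.Lib.Helper15.Pg
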