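import Mathlib
import Cfsg.Agent.Lib.Helper15.Pg2

/-!
# Maximal subgroups of `PGL₂(q)`, part 3: maximal subgroups not containing `PSL₂`
-/

set_option autoImplicit false

open scoped Pointwise

namespace Cfsg.Agent.Lib.Helper15.Pg

open Matrix
open Cfsg.Agent.Lib.Helper14
open Cfsg.Agent.Lib.Helper15
open Cfsg.Agent.Lib.Helper15.Dk
open Cfsg.Agent.Lib.Helper15.Mx

/-- the list of possible maximal subgroups of `PGL₂(q)` not containing `PSL₂(q)` -/
def PGList (F : Type*) [Field F] [Fintype F] (G : Type*) [Group G] : Prop :=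
    Nat.card G = Fintype.card F * (Fintype.card F - 1) ∨
    (Fintype.card F ≠ 5 ∧ Nonempty (G ≃* DihedralGroup (Fintype.card F - 1))) ∨
    Nonempty (G ≃* DihedralGroup (Fintype.card F + 1)) ∨
    ((Fintype.card F).Prime ∧ (Fintype.card F % 8 = 3 ∨ Fintype.card F % 8 = 5) ∧ Nonempty (G ≃* Equiv.Perm (Fin 4))) ∨
    (∃ (F₀ : Type) (_ : Field F₀) (_ : Fintype F₀) (r : ℕ), r.Prime ∧ Odd r ∧ Fintype.card F = Fintype.card F₀ ^ r ∧
        Nonempty (G ≃* Matrix.ProjGenLinGroup (Fin 2) F₀))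

theorem PGList.congr {F : Type*} [Field F] [Fintype F] {G G' : Type*} [Group G] [Group G']
    (e : G ≃* G') (h : PGList F G') : PGList F G := by
  rcases h with h | ⟨h5, ⟨e'⟩⟩ | ⟨⟨e'⟩⟩ | ⟨hp, h8, ⟨e'⟩⟩ | ⟨F₀, i1, i2, r, hr, hro, hq, ⟨e'⟩⟩
  · left
    rw [Nat.card_congr e.toEquiv]
    exact h
  · exact Or.inr (Or.inl ⟨h5, ⟨e.trans e'⟩⟩)
  · exact Or.inr (Or.inr (Or.inl ⟨e.trans e'⟩))
  · exact Or.inr (Or.inr (Or.inr (Or.inl ⟨hp, h8, ⟨e.trans e'⟩⟩)))
  · exact Or.inr (Or.inr (Or.inr (Or.inr ⟨F₀, i1, i2, r, hr, hro, hq, ⟨e.trans e'⟩⟩)))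

variable {F : Type*} [Field F]

/-- a maximal subgroup of `PGL₂` not containing `PSL₂` -/
structure IsMax (M : Subgroup (ProjGenLinGroup (Fin 2) F)) : Prop where
  coatom : IsCoatom M
  notle : ¬ (iot F).range ≤ M

namespace IsMax

variable {M : Subgroup (ProjGenLinGroup (Fin 2) F)}

theorem comap_ne_top (hM : IsMax M) : M.comap (iot F) ≠ ⊤ := by
  intro h
  apply hM.notle
  rintro _ ⟨x, rfl⟩
  have : x ∈ M.comap (iot F) := by rw [h]; exact Subgroup.mem_top _
  exact this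

/-- conjugates -/
theorem conj (hM : IsMax M) (c : ProjectiveSpecialLinearGroup (Fin 2) F) :
    IsMax (MulAut.conj (iot F c) • M) := by
  refine ⟨isCoatom_conj_smul _ M hM.coatom, ?_⟩
  intro h
  apply hM.notle
  intro y hy
  have h1 : iot F c * y * (iot F c)⁻¹ ∈ (iot F).range := range_normal.conj_mem _ hy _
  have h2 := h h1
  rw [mem_conj_smul] at h2
  have e : (iot F c)⁻¹ * (iot F c * y * (iot F c)⁻¹) * iot F c = y := by group
  rwa [e] at h2

theorem comap_conj (M : Subgroup (ProjGenLinGroup (Fin 2) F)) (c : ProjectiveSpecialLinearGroup (Fin 2) F) :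
    (MulAut.conj (iot F c) • M).comap (iot F) = MulAut.conj c • (M.comap (iot F)) := by
  ext x
  rw [Subgroup.mem_comap, mem_conj_smul, mem_conj_smul, Subgroup.mem_comap, map_mul, map_mul, map_inv]

section finite
variable [Fintype F]

theorem exists_not_mem (hM : IsMax M) (hodd : Odd (Fintype.card F)) :
    ∃ t ∈ M, t ∉ (iot F).range := by
  by_contra hcon
  push Not at hcon
  have hle : M ≤ (iot F).range := hcon
  rcases eq_or_lt_of_le hle with h | h
  · exact hM.notle (le_of_eq h.symm)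
  · exact range_ne_top hodd (hM.coatom.2 _ h)

theorem card_eq (hM : IsMax M) (hodd : Odd (Fintype.card F)) :
    Nat.card M = 2 * Nat.card (M.comap (iot F)) := by
  obtain ⟨t, htM, htL⟩ := hM.exists_not_mem hodd
  exact card_eq_two_mul_comap M t htM htL

theorem eq_NG (hM : IsMax M) (h4 : 4 ≤ Fintype.card F) (hbot : M.comap (iot F) ≠ ⊥) :
    M = NG (M.comap (iot F)) :=
  eq_NG_of_le h4 M hM.coatom _ hbot hM.comap_ne_top (le_NG_comap M)

/-- the intersection with `PSL₂` is self-normalizing in `PSL₂` -/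
theorem normalizer_comap (hM : IsMax M) (h4 : 4 ≤ Fintype.card F) (hbot : M.comap (iot F) ≠ ⊥) :
    Subgroup.normalizer ((M.comap (iot F) : Subgroup (ProjectiveSpecialLinearGroup (Fin 2) F)) :
      Set (ProjectiveSpecialLinearGroup (Fin 2) F)) = M.comap (iot F) := by
  rw [← comap_NG, ← hM.eq_NG h4 hbot]

/-- a maximal subgroup normalizing `K` is the normalizer of `K` -/
theorem eq_NG_of_forall (hM : IsMax M) (h4 : 4 ≤ Fintype.card F)
    (K : Subgroup (ProjectiveSpecialLinearGroup (Fin 2) F)) (hK1 : K ≠ ⊥) (hK2 : K ≠ ⊤)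
    (h : ∀ P : GL (Fin 2) F, ProjGenLinGroup.mk P ∈ M → ∀ x ∈ K, glAut P x ∈ K) : M = NG K :=
  eq_NG_of_le h4 M hM.coatom K hK1 hK2 (le_NG_of_forall M K h)

end finite

end IsMax

end Cfsg.Agent.Lib.Helper15.Pg
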