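import Mathlib
import Cfsg.Agent.Lib.Helper15.Pg3

/-!
# Maximal subgroups of `PGL₂(q)`, part 4: the Borel case
-/

set_option autoImplicit false

open scoped Pointwise

namespace Cfsg.Agent.Lib.Helper15.Pg

open Matrix
open Cfsg.Agent.Lib.Helper14
open Cfsg.Agent.Lib.Helper15
open Cfsg.Agent.Lib.Helper15.Dk
open Cfsg.Agent.Lib.Helper15.Mx

section general
variable {F : Type*} [Field F]

/-- `glAut` transports the tori -/
theorem glAut_mem_Tor (Q : GL (Fin 2) F) (k : SpecialLinearGroup (Fin 2) F)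
    (x : ProjectiveSpecialLinearGroup (Fin 2) F) (hx : x ∈ Tor k) : glAut Q x ∈ Tor (glSL Q k) := by
  obtain ⟨h, rfl⟩ := toPSL2_surjective x
  rw [mem_Tor_iff, Subgroup.mem_centralizer_singleton_iff] at hx
  rw [glAut_toPSL2, mem_Tor_iff, Subgroup.mem_centralizer_singleton_iff, ← map_mul, ← map_mul, hx]

theorem glSL_not_scalar (Q : GL (Fin 2) F) (k : SpecialLinearGroup (Fin 2) F)
    (hk : ¬ IsScalar2 (k : Matrix (Fin 2) (Fin 2) F)) :
    ¬ IsScalar2 ((glSL Q k : SpecialLinearGroup (Fin 2) F) : Matrix (Fin 2) (Fin 2) F) := by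
  intro hs
  apply hk
  rw [← toPSL2_eq_one_iff'] at hs ⊢
  rw [← glAut_toPSL2] at hs
  have := congrArg (glAut Q⁻¹) hs
  rwa [glAut_inv_apply, map_one] at this

theorem glAut_mem_Tor_iff (Q : GL (Fin 2) F) (k : SpecialLinearGroup (Fin 2) F)
    (x : ProjectiveSpecialLinearGroup (Fin 2) F) : glAut Q x ∈ Tor (glSL Q k) ↔ x ∈ Tor k := by
  constructor
  · intro hx
    have := glAut_mem_Tor Q⁻¹ (glSL Q k) _ hx
    rwa [glAut_inv_apply, glSL_inv_apply] at this
  · exact glAut_mem_Tor Q k x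

end general

variable {F : Type*} [Field F] [Fintype F] (p : ℕ) [Fact p.Prime] [CharP F p]

/-- every Sylow `p`-subgroup of `PSL₂(F)` is the torus of each of its nontrivial elements -/
theorem sylow_eq_Tor (P : Sylow p (ProjectiveSpecialLinearGroup (Fin 2) F))
    (k : SpecialLinearGroup (Fin 2) F) (hk : ¬ IsScalar2 (k : Matrix (Fin 2) (Fin 2) F))
    (hkP : toPSL2 F k ∈ P) : (P : Subgroup (ProjectiveSpecialLinearGroup (Fin 2) F)) = Tor k := by
  obtain ⟨c, hc⟩ := MulAction.exists_smul_eq (ProjectiveSpecialLinearGroup (Fin 2) F) (UbarSylow p) P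
  obtain ⟨n, rfl⟩ := toPSL2_surjective c
  have h2 : (P : Subgroup (ProjectiveSpecialLinearGroup (Fin 2) F)) = Tor (n * uu 1 * n⁻¹) := by
    rw [← hc, Sylow.coe_subgroup_smul, coe_UbarSylow, ← Tor_conj]
    rfl
  have hns : ¬ IsScalar2 ((n * uu 1 * n⁻¹ : SpecialLinearGroup (Fin 2) F) : Matrix (Fin 2) (Fin 2) F) := by
    intro hs
    apply uu_not_scalar (1 : F) one_ne_zero
    have h1 : toPSL2 F (n * uu 1 * n⁻¹) = 1 := (toPSL2_eq_one_iff' _).2 hs
    rw [map_mul, map_mul, map_inv] at h1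
    apply (toPSL2_eq_one_iff' _).1
    have : toPSL2 F (uu 1) = (toPSL2 F n)⁻¹ * (toPSL2 F n * toPSL2 F (uu 1) * (toPSL2 F n)⁻¹) * toPSL2 F n := by group
    rw [this, h1]
    group
  rw [h2]
  symm
  apply Tor_eq_of_mem _ hns k _ hk
  rw [← h2]
  exact hkP

omit [Fintype F] [CharP F p] in
/-- a `p`-subgroup of the normalizer of a Sylow `p`-subgroup lies in it -/
theorem le_sylow_of_le_normalizer {G : Type*} [Group G] (P : Sylow p G) (R : Subgroup G) (hR : IsPGroup p R)
    (hle : R ≤ Subgroup.normalizer ((P : Subgroup G) : Set G)) : R ≤ P := by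
  have h1 : IsPGroup p (R ⊔ (P : Subgroup G) : Subgroup G) := hR.to_sup_of_normal_right' P.isPGroup' hle
  have h2 := P.is_maximal' h1 le_sup_right
  rw [← h2]
  exact le_sup_left

/-- the case of a normal `p`-subgroup: the order is `q (q - 1)` -/
theorem case_normalP (hodd : Odd (Fintype.card F)) (h4 : 4 ≤ Fintype.card F)
    {M : Subgroup (ProjGenLinGroup (Fin 2) F)} (hM : IsMax M) (h : HasNormalP p (M.comap (iot F))) :
    Nat.card M = Fintype.card F * (Fintype.card F - 1) := by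
  obtain ⟨S, hSH, hS, hS1, hnorm⟩ := h
  obtain ⟨P, hP⟩ := le_normalizer_sylow_of_normal p (M.comap (iot F)) S hS hS1 hnorm
  have hSP : S ≤ P := le_sylow_of_le_normalizer p P S hS (hSH.trans hP)
  obtain ⟨s, hsS, hs1⟩ : ∃ s : ProjectiveSpecialLinearGroup (Fin 2) F, s ∈ S ∧ s ≠ 1 := by
    obtain ⟨x, hx⟩ := (Subgroup.ne_bot_iff_exists_ne_one (H := S)).1 hS1
    exact ⟨(x : ProjectiveSpecialLinearGroup (Fin 2) F), x.2, fun h => hx (Subtype.ext h)⟩
  obtain ⟨k, rfl⟩ := toPSL2_surjective s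
  have hk : ¬ IsScalar2 (k : Matrix (Fin 2) (Fin 2) F) := fun hs => hs1 ((toPSL2_eq_one_iff' k).2 hs)
  have hPk := sylow_eq_Tor p P k hk (hSP hsS)
  have hPbot : (P : Subgroup (ProjectiveSpecialLinearGroup (Fin 2) F)) ≠ ⊥ := by
    intro hb
    have : toPSL2 F k ∈ (P : Subgroup (ProjectiveSpecialLinearGroup (Fin 2) F)) := hSP hsS
    rw [hb, Subgroup.mem_bot] at this
    exact hs1 this
  have hG := card_PSL2_mul (F := F)
  have hN := card_normalizer_sylow_mul p P
  have hq1 : 1 < Fintype.card F := Fintype.one_lt_card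
  have hPtop : (P : Subgroup (ProjectiveSpecialLinearGroup (Fin 2) F)) ≠ ⊤ := by
    intro ht
    rw [ht, Subgroup.normalizer_eq_top_iff.2 (inferInstance : (⊤ : Subgroup
      (ProjectiveSpecialLinearGroup (Fin 2) F)).Normal), Subgroup.card_top, hG] at hN
    have hd1 : 0 < Fintype.card F := by omega
    have h1 : Fintype.card F ^ 2 - 1 = Fintype.card F - 1 := Nat.eq_of_mul_eq_mul_left hd1 hN
    have h2 : Fintype.card F < Fintype.card F ^ 2 := by nlinarith
    omega
  -- `M` normalizes `P`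
  have hMP : M = NG (P : Subgroup (ProjectiveSpecialLinearGroup (Fin 2) F)) := by
    apply hM.eq_NG_of_forall h4 _ hPbot hPtop
    intro Q hQ x hx
    -- the image of `s`
    have h1 : glAut Q (toPSL2 F k) ∈ M.comap (iot F) := by
      rw [Subgroup.mem_comap, ← conj_iot]
      exact M.mul_mem (M.mul_mem hQ (hSH hsS)) (M.inv_mem hQ)
    -- the image of `S` is a `p`-subgroup of the normalizer of `P`
    have h2 : (S.map (glAut Q).toMonoidHom) ≤ P := by
      apply le_sylow_of_le_normalizer p P _ (hS.map _)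
      refine le_trans ?_ hP
      rintro _ ⟨y, hy, rfl⟩
      show glAut Q y ∈ M.comap (iot F)
      rw [Subgroup.mem_comap, ← conj_iot]
      exact M.mul_mem (M.mul_mem hQ (hSH hy)) (M.inv_mem hQ)
    have h3 : glAut Q (toPSL2 F k) ∈ P := h2 ⟨_, hsS, rfl⟩
    rw [glAut_toPSL2] at h3
    have h4' := sylow_eq_Tor p P (glSL Q k) (glSL_not_scalar Q k hk) h3
    show glAut Q x ∈ (P : Subgroup (ProjectiveSpecialLinearGroup (Fin 2) F))
    rw [h4']
    apply glAut_mem_Tor
    rw [← hPk]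
    exact hx
  have hH : M.comap (iot F) = Subgroup.normalizer ((P : Subgroup (ProjectiveSpecialLinearGroup (Fin 2) F)) :
      Set (ProjectiveSpecialLinearGroup (Fin 2) F)) := by
    rw [← comap_NG, ← hMP]
  rw [hM.card_eq hodd, hH]
  rw [card_center_of_odd hodd] at hN
  omega

end Cfsg.Agent.Lib.Helper15.Pg
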