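import Mathlib
import Cfsg.Agent.Lib.Helper15.Pg4
import Cfsg.Agent.Lib.Helper15.A4Odd
import Cfsg.Agent.Lib.Helper15.Syl2E
import Cfsg.Agent.Lib.Helper15.DihOrthPlus

/-!
# Maximal subgroups of `PGL₂(q)`, part 5: four-groups, involutions of cyclic groups, subgroups of
dihedral-like groups
-/

set_option autoImplicit false

open scoped Pointwise

namespace Cfsg.Agent.Lib.Helper15.Pg

open Matrix
open Cfsg.Agent.Lib.Helper14
open Cfsg.Agent.Lib.Helper15
open Cfsg.Agent.Lib.Helper15.Dk
open Cfsg.Agent.Lib.Helper15.Mx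

section v4
variable {F : Type*} [Field F]

/-- every four-group of `PSL₂(F)` is normalized by an element of order three permuting its involutions -/
theorem v4_normalized (h2 : (2 : F) ≠ 0) (a b : ProjectiveSpecialLinearGroup (Fin 2) F)
    (ha : a * a = 1) (ha1 : a ≠ 1) (hb : b * b = 1) (hb1 : b ≠ 1) (hab : a ≠ b) (hc : a * b = b * a) :
    ∃ y : ProjectiveSpecialLinearGroup (Fin 2) F, y ^ 3 = 1 ∧ y * a * y⁻¹ = b ∧ y * b * y⁻¹ = a * b := by
  obtain ⟨x, rfl⟩ := toPSL2_surjective a
  obtain ⟨s, rfl⟩ := toPSL2_surjective b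
  have hx : x * x = -1 := (toPSL2_invol_iff h2 x).1 ⟨ha1, ha⟩
  have hmem : s ∈ (fun g => toPSL2 F g) ⁻¹' (kleinPartners (toPSL2 F x)) :=
    ⟨hb1, fun h => hab h.symm, hb, hc⟩
  rw [preimage_kleinPartners h2 x hx] at hmem
  have hinv : s * x * s⁻¹ = x⁻¹ := hmem
  have hs : s * s = -1 := s0_sq h2 x hx s hinv
  refine ⟨toPSL2 F (omegaSL h2 x s hx hs), ?_, ?_, ?_⟩
  · rw [← map_pow, omegaSL_cube h2 x s hx hs hinv, toPSL2_eq_one_iff h2]
    exact Or.inr rfl
  · rw [← map_inv, ← map_mul, ← map_mul, omegaSL_conj_x h2 x s hx hs hinv]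
  · rw [← map_inv, ← map_mul, ← map_mul, omegaSL_conj_s h2 x s hx hs hinv, map_mul]

end v4

section cyc
variable {G : Type*} [Group G]

/-- a cyclic subgroup has at most one involution -/
theorem cyclic_invol_unique (T : Subgroup G) [Finite T] (hT : IsCyclic T) (a g : G) (haT : a ∈ T) (hgT : g ∈ T)
    (ha : a * a = 1) (hg : g * g = 1) (ha1 : a ≠ 1) (hg1 : g ≠ 1) : a = g := by
  classical
  by_contra hne
  have := Fintype.ofFinite T
  have hle := IsCyclic.card_pow_eq_one_le (α := T) (n := 2) (by norm_num)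
  have hsub : ({1, ⟨a, haT⟩, ⟨g, hgT⟩} : Finset T) ⊆ Finset.univ.filter (fun x : T => x ^ 2 = 1) := by
    intro x hx
    simp only [Finset.mem_insert, Finset.mem_singleton] at hx
    simp only [Finset.mem_filter, Finset.mem_univ, true_and]
    rcases hx with rfl | rfl | rfl
    · simp
    · apply Subtype.ext; simp [pow_two, ha]
    · apply Subtype.ext; simp [pow_two, hg]
  have hcard : ({1, ⟨a, haT⟩, ⟨g, hgT⟩} : Finset T).card = 3 := by
    rw [Finset.card_insert_of_notMem, Finset.card_insert_of_notMem, Finset.card_singleton]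
    · simp only [Finset.mem_singleton]
      intro h
      exact hne (congrArg Subtype.val h)
    · simp only [Finset.mem_insert, Finset.mem_singleton]
      rintro (h | h)
      · exact ha1 (congrArg Subtype.val h).symm
      · exact hg1 (congrArg Subtype.val h).symm
  have := Finset.card_le_card hsub
  omega

/-- a subgroup of a "dihedral-like" group, not inside the cyclic part and with an element of order at
least three in it, is dihedral -/
theorem dihedral_of_le (T N M : Subgroup G) [Finite M] (hT : IsCyclic T)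
    (hN : ∀ y ∈ N, y ∉ T → y * y = 1 ∧ ∀ x ∈ T, y * x * y⁻¹ = x⁻¹)
    (hMN : M ≤ N) (a : G) (haM : a ∈ M) (haT : a ∉ T) (x₁ : G) (hx₁T : x₁ ∈ T)
    (hx₁ : x₁ * x₁ ≠ 1) (n : ℕ) (hn : Nat.card M = 2 * n) : Nonempty (M ≃* DihedralGroup n) := by
  have hn0 : n ≠ 0 := by
    rintro rfl
    have : 0 < Nat.card M := Nat.card_pos
    omega
  have : NeZero n := ⟨hn0⟩
  -- the cyclic part
  set C : Subgroup M := T.subgroupOf M with hC
  have hCcyc : IsCyclic C := by
    let φ : T.subgroupOf M →* T :=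
      { toFun := fun z => ⟨(z : M), Subgroup.mem_subgroupOf.1 z.2⟩
        map_one' := rfl
        map_mul' := fun _ _ => rfl }
    have hφ : Function.Injective φ := by
      intro u v huv
      apply Subtype.ext
      apply Subtype.ext
      exact congrArg (fun z : T => (z : G)) huv
    exact isCyclic_of_injective φ hφ
  -- two elements outside `T` differ by an element of `T`
  have hout : ∀ u v : G, u ∈ M → v ∈ M → u ∉ T → v ∉ T → u⁻¹ * v ∈ T := by
    intro u v hu hv huT hvT
    by_contra hcon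
    have h1 := (hN u (hMN hu) huT).2 x₁ hx₁T
    have h2 := (hN v (hMN hv) hvT).2 x₁ hx₁T
    have h3 := (hN (u⁻¹ * v) (N.mul_mem (N.inv_mem (hMN hu)) (hMN hv)) hcon).2 x₁ hx₁T
    have h4 : u⁻¹ * v * x₁ * (u⁻¹ * v)⁻¹ = u⁻¹ * (v * x₁ * v⁻¹) * u := by group
    rw [h4, h2] at h3
    have h5 : u⁻¹ * x₁⁻¹ * u = x₁ := by
      have : x₁⁻¹ = u * x₁ * u⁻¹ := h1.symm
      rw [this]; group
    rw [h5] at h3
    apply hx₁
    calc x₁ * x₁ = x₁ * x₁⁻¹ := by rw [← h3]
      _ = 1 := mul_inv_cancel _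
  have hidx : C.index = 2 := by
    rw [Subgroup.index_eq_two_iff]
    refine ⟨⟨a, haM⟩, ?_⟩
    intro b
    rw [hC, Subgroup.mem_subgroupOf, Subgroup.mem_subgroupOf]
    by_cases hb : (b : G) ∈ T
    · refine Or.inr ⟨hb, ?_⟩
      intro h
      apply haT
      have : a = (b : G)⁻¹ * ((b : G) * a) := by group
      rw [this]
      exact T.mul_mem (T.inv_mem hb) h
    · refine Or.inl ⟨?_, hb⟩
      have h1 := hout (b : G)⁻¹ a (M.inv_mem b.2) haM (fun h => hb (by simpa using T.inv_mem h)) haT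
      rwa [inv_inv] at h1
  have hCcard : Nat.card C = n := by
    have := Subgroup.index_mul_card C
    rw [hidx, hn] at this
    omega
  obtain ⟨c₀, hc₀⟩ := hCcyc.exists_generator
  have hord : orderOf (c₀ : M) = n := by
    rw [← hCcard]
    have h1 : orderOf c₀ = Nat.card C := orderOf_eq_card_of_forall_mem_zpowers hc₀
    rw [← h1]
    exact (orderOf_injective C.subtype C.subtype_injective c₀)
  have hc₀T : ((c₀ : M) : G) ∈ T := Subgroup.mem_subgroupOf.1 c₀.2
  have ha2 := (hN a (hMN haM) haT).1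
  have hainv := (hN a (hMN haM) haT).2 _ hc₀T
  refine dihedral_of_card n (⟨a, haM⟩ : M) (c₀ : M) hord ?_ ?_ ?_ hn
  · apply Subtype.ext; exact ha2
  · apply Subtype.ext
    simpa using hainv
  · intro hmem
    apply haT
    obtain ⟨i, hi⟩ := Subgroup.mem_zpowers_iff.1 hmem
    have h1 : ((c₀ : M) : G) ^ i = a := by
      have := congrArg (fun z : M => (z : G)) hi
      simpa using this
    rw [← h1]
    exact T.zpow_mem hc₀T i

end cyc

end Cfsg.Agent.Lib.Helper15.Pg
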