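import Mathlib
import Cfsg.Agent.Lib.Helper15.Pg5
import Cfsg.Agent.Lib.Helper16.FieldEmbed

/-!
# Maximal subgroups of `PGL₂(q)`, part 6: transfer of `PGL₂(q)` into `PSL₂(q²)`
-/

set_option autoImplicit false

open scoped Pointwise

namespace Cfsg.Agent.Lib.Helper15.Pg

open Matrix
open Cfsg.Agent.Lib.Helper14
open Cfsg.Agent.Lib.Helper15
open Cfsg.Agent.Lib.Helper15.Dk
open Cfsg.Agent.Lib.Helper15.Mx

variable {F : Type*} [Field F] [Fintype F]

/-- a quadratic extension -/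
theorem exists_quadratic_ext :
    ∃ (F₂ : Type) (_ : Field F₂) (_ : Fintype F₂) (_ : F →+* F₂), Fintype.card F ^ 2 = Fintype.card F₂ := by
  obtain ⟨p, hp⟩ := CharP.exists F
  have hpr : Fact p.Prime := ⟨CharP.char_is_prime F p⟩
  obtain ⟨n, -, hn⟩ := FiniteField.card F p
  obtain ⟨K, i1, i2, hK, -⟩ := exists_field_card p (2 * (n : ℕ)) (by have := n.pos; omega)
  have hK' : Fintype.card K = Fintype.card F ^ 2 := by rw [hK, hn, ← pow_mul, mul_comm]
  obtain ⟨f⟩ := Cfsg.Agent.Lib.Helper16.exists_ringHom_of_card_pow (F := F) (K := K) (q := Fintype.card F)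
    (n := 2) (by norm_num) rfl hK'
  exact ⟨K, i1, i2, f, hK'.symm⟩

/-- the image of `PGL₂(F)` in `PGL₂(F₂)` lies in the image of `PSL₂(F₂)` -/
theorem map_mem_range {F₂ : Type*} [Field F₂] [Fintype F₂] (f : F →+* F₂) (hodd : Odd (Fintype.card F₂))
    (hK : Fintype.card F ^ 2 = Fintype.card F₂) (y : ProjGenLinGroup (Fin 2) F) :
    ProjGenLinGroup.map (n := Fin 2) f y ∈ (iot F₂).range := by
  induction y using ProjGenLinGroup.induction_on with | mk g =>
  rw [ProjGenLinGroup.map_mk]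
  obtain ⟨c, hc⟩ := isSquare_map_of_even f hodd 2 even_two hK ((GeneralLinearGroup.det g : Fˣ) : F)
  have hc0 : c ≠ 0 := by
    rintro rfl
    rw [mul_zero] at hc
    exact (GeneralLinearGroup.det g).ne_zero ((map_eq_zero f).1 hc)
  apply mk_mem_range_toPGL _ (Units.mk0 c hc0)⁻¹
  rw [GeneralLinearGroup.map_det]
  apply Units.ext
  rw [Units.val_mul, Units.val_pow_eq_pow_val, Units.val_inv_eq_inv_val, Units.val_mk0, Units.coe_map,
    Units.val_one]
  show c⁻¹ ^ 2 * f ((GeneralLinearGroup.det g : Fˣ) : F) = 1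
  rw [hc]
  field_simp

omit [Fintype F] in
/-- the images of elements of `PSL₂(F)` -/
theorem map_iot {F₂ : Type*} [Field F₂] (f : F →+* F₂) (g : SpecialLinearGroup (Fin 2) F) :
    ProjGenLinGroup.map (n := Fin 2) f (iot F (toPSL2 F g)) = iot F₂ (toPSL2 F₂ (SpecialLinearGroup.map f g)) := by
  rw [iot_toPSL2, iot_toPSL2, ProjGenLinGroup.map_mk, gl_map_toGL]

/-- transfer of a subgroup of `PGL₂(F)` into `PSL₂(F₂)` -/
theorem exists_transfer {F₂ : Type*} [Field F₂] [Fintype F₂] (f : F →+* F₂) (hodd : Odd (Fintype.card F₂))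
    (hK : Fintype.card F ^ 2 = Fintype.card F₂) (M : Subgroup (ProjGenLinGroup (Fin 2) F)) :
    ∃ (M₂ : Subgroup (ProjectiveSpecialLinearGroup (Fin 2) F₂)) (e : M ≃* M₂),
      ∀ m : M, iot F₂ (e m : ProjectiveSpecialLinearGroup (Fin 2) F₂) =
        ProjGenLinGroup.map (n := Fin 2) f (m : ProjGenLinGroup (Fin 2) F) := by
  set φ := ProjGenLinGroup.map (n := Fin 2) f with hφ
  have hφinj : Function.Injective φ := pgl_map_injective f
  refine ⟨(M.map φ).comap (iot F₂), ?_⟩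
  have h1 : ((M.map φ).comap (iot F₂)).map (iot F₂) = M.map φ := by
    rw [Subgroup.map_comap_eq, inf_eq_right]
    rintro _ ⟨y, -, rfl⟩
    exact map_mem_range f hodd hK y
  let e1 : M ≃* M.map φ := Subgroup.equivMapOfInjective M φ hφinj
  let e2 : ((M.map φ).comap (iot F₂)) ≃* ((M.map φ).comap (iot F₂)).map (iot F₂) :=
    Subgroup.equivMapOfInjective _ (iot F₂) iot_injective
  let e3 : ((M.map φ).comap (iot F₂)).map (iot F₂) ≃* M.map φ := MulEquiv.subgroupCongr h1
  refine ⟨e1.trans (e3.symm.trans e2.symm), ?_⟩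
  intro m
  have h2 : ∀ z : ((M.map φ).comap (iot F₂)).map (iot F₂),
      iot F₂ ((e2.symm z : (M.map φ).comap (iot F₂)) : ProjectiveSpecialLinearGroup (Fin 2) F₂) = z := by
    intro z
    have h3 : ((e2 (e2.symm z) : ((M.map φ).comap (iot F₂)).map (iot F₂)) : ProjGenLinGroup (Fin 2) F₂) =
        iot F₂ ((e2.symm z : (M.map φ).comap (iot F₂)) : ProjectiveSpecialLinearGroup (Fin 2) F₂) :=
      Subgroup.coe_equivMapOfInjective_apply _ _ _ _
    rw [e2.apply_symm_apply] at h3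
    exact h3.symm
  rw [MulEquiv.trans_apply, MulEquiv.trans_apply, h2]
  rfl

end Cfsg.Agent.Lib.Helper15.Pg
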