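import Mathlib
import Cfsg.Agent.Lib.Helper15.Pg6

/-!
# Maximal subgroups of `PGL₂(q)`, part 7: the torus case
-/

set_option autoImplicit false

open scoped Pointwise

namespace Cfsg.Agent.Lib.Helper15.Pg

open Matrix
open Cfsg.Agent.Lib.Helper14
open Cfsg.Agent.Lib.Helper15
open Cfsg.Agent.Lib.Helper15.Dk
open Cfsg.Agent.Lib.Helper15.Mx

section slmap
variable {F : Type*} [Field F] {F₂ : Type*} [Field F₂]

theorem slmap_apply (f : F →+* F₂) (g : SpecialLinearGroup (Fin 2) F) (i j : Fin 2) :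
    ((SpecialLinearGroup.map f g : SpecialLinearGroup (Fin 2) F₂) : Matrix (Fin 2) (Fin 2) F₂) i j =
      f ((g : Matrix (Fin 2) (Fin 2) F) i j) := rfl

theorem slmap_injective (f : F →+* F₂) : Function.Injective (SpecialLinearGroup.map (n := Fin 2) f) := by
  intro g h hgh
  apply Subtype.ext
  ext i j
  apply f.injective
  rw [← slmap_apply, ← slmap_apply, hgh]

theorem slmap_not_scalar (f : F →+* F₂) (g : SpecialLinearGroup (Fin 2) F)
    (hg : ¬ IsScalar2 (g : Matrix (Fin 2) (Fin 2) F)) :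
    ¬ IsScalar2 ((SpecialLinearGroup.map f g : SpecialLinearGroup (Fin 2) F₂) : Matrix (Fin 2) (Fin 2) F₂) := by
  rintro ⟨h1, h3, h4⟩
  apply hg
  rw [slmap_apply] at h1 h3 h4
  rw [slmap_apply] at h4
  refine ⟨?_, ?_, ?_⟩
  · exact (map_eq_zero f).1 h1
  · exact (map_eq_zero f).1 h3
  · exact f.injective h4

theorem slmap_trace (f : F →+* F₂) (g : SpecialLinearGroup (Fin 2) F) :
    ((SpecialLinearGroup.map f g : SpecialLinearGroup (Fin 2) F₂) : Matrix (Fin 2) (Fin 2) F₂).trace =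
      f ((g : Matrix (Fin 2) (Fin 2) F).trace) := by
  rw [Matrix.trace_fin_two, Matrix.trace_fin_two, slmap_apply, slmap_apply, map_add]

end slmap

variable {F : Type*} [Field F] [Fintype F]

/-- the non-degenerate part of the torus case -/
theorem case_torus_main (hodd : Odd (Fintype.card F)) (h5 : 5 ≤ Fintype.card F)
    {M : Subgroup (ProjGenLinGroup (Fin 2) F)} (hM : IsMax M)
    (g : SpecialLinearGroup (Fin 2) F) (hg : ¬ IsScalar2 (g : Matrix (Fin 2) (Fin 2) F))
    (ht : (g : Matrix (Fin 2) (Fin 2) F).trace ^ 2 ≠ 4)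
    (hHN : M.comap (iot F) ≤ Subgroup.normalizer ((Tor g : Subgroup (ProjectiveSpecialLinearGroup (Fin 2) F)) :
      Set (ProjectiveSpecialLinearGroup (Fin 2) F)))
    (x : ProjectiveSpecialLinearGroup (Fin 2) F) (hxH : x ∈ M.comap (iot F)) (hx2 : x * x ≠ 1) :
    (Fintype.card F ≠ 5 ∧ Nonempty (M ≃* DihedralGroup (Fintype.card F - 1))) ∨
      Nonempty (M ≃* DihedralGroup (Fintype.card F + 1)) := by
  have h2 := Mx.two_ne_zero_of_odd hodd
  have h4 : 4 ≤ Fintype.card F := by omega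
  set H := M.comap (iot F) with hH
  obtain ⟨hcyc, hcardN, -, hprop⟩ := torus_normalizer g hg ht
  set T := Tor g with hT
  have hxT : x ∈ T := by
    by_contra hc
    exact hx2 (hprop x (hHN hxH) hc).1
  have hx1 : x ≠ 1 := by
    rintro rfl
    exact hx2 (mul_one 1)
  obtain ⟨kx, rfl⟩ := toPSL2_surjective x
  have hkx : ¬ IsScalar2 (kx : Matrix (Fin 2) (Fin 2) F) := fun hs => hx1 ((toPSL2_eq_one_iff' kx).2 hs)
  have hTkx : Tor kx = T := Tor_eq_of_mem g hg kx hxT hkx
  have hTbot : T ≠ ⊥ := by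
    intro hb
    rw [hb, Subgroup.mem_bot] at hxT
    exact hx1 hxT
  have hTtop : T ≠ ⊤ := by
    intro htop
    apply not_comm_PSL2 (F := F)
    intro a b
    have ha : a ∈ T := by rw [htop]; exact Subgroup.mem_top _
    have hb : b ∈ T := by rw [htop]; exact Subgroup.mem_top _
    have := hcyc.commGroup.mul_comm (⟨a, ha⟩ : T) ⟨b, hb⟩
    exact congrArg Subtype.val this
  -- `M` is the normalizer of `T`
  have hMT : M = NG T := by
    apply hM.eq_NG_of_forall h4 T hTbot hTtop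
    intro Q hQ y hy
    have h1 : glAut Q (toPSL2 F kx) ∈ H := by
      rw [hH, Subgroup.mem_comap, ← conj_iot]
      exact M.mul_mem (M.mul_mem hQ hxH) (M.inv_mem hQ)
    have h3 : glAut Q (toPSL2 F kx) ∈ T := by
      by_contra hc
      have h5 := (hprop _ (hHN h1) hc).1
      rw [← map_mul] at h5
      have h6 := congrArg (glAut Q⁻¹) h5
      rw [glAut_inv_apply, map_one] at h6
      exact hx2 h6
    rw [glAut_toPSL2] at h3
    have h7 : Tor (glSL Q kx) = T := Tor_eq_of_mem g hg _ h3 (glSL_not_scalar Q kx hkx)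
    rw [← h7]
    apply glAut_mem_Tor
    rw [hTkx]
    exact hy
  have hHeq : H = Subgroup.normalizer ((T : Subgroup (ProjectiveSpecialLinearGroup (Fin 2) F)) :
      Set (ProjectiveSpecialLinearGroup (Fin 2) F)) := by
    rw [hH, ← comap_NG, ← hMT]
  have hTH : T ≤ H := by rw [hHeq]; exact Subgroup.le_normalizer
  -- cardinalities
  have hcT : Nat.card T * 2 = Nat.card (Subgroup.centralizer ({g} : Set (SpecialLinearGroup (Fin 2) F))) := by
    have := card_Tor_mul g
    rw [card_center_of_odd hodd] at this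
    exact this
  have hcM : Nat.card M = 2 * (2 * Nat.card T) := by
    rw [hM.card_eq hodd, ← hH, hHeq, hcardN]
  -- generator of `T`
  obtain ⟨c₁, hc₁⟩ := hcyc.exists_generator
  obtain ⟨k, hk⟩ := toPSL2_surjective (c₁ : ProjectiveSpecialLinearGroup (Fin 2) F)
  have hTz : ∀ y ∈ T, ∃ i : ℤ, toPSL2 F k ^ i = y := by
    intro y hy
    obtain ⟨i, hi⟩ := Subgroup.mem_zpowers_iff.1 (hc₁ ⟨y, hy⟩)
    refine ⟨i, ?_⟩
    rw [hk]
    have := congrArg (fun z : T => (z : ProjectiveSpecialLinearGroup (Fin 2) F)) hi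
    simpa using this
  have hk2 : toPSL2 F k * toPSL2 F k ≠ 1 := by
    intro h
    obtain ⟨i, hi⟩ := hTz _ hxT
    apply hx2
    rw [← hi, ← _root_.zpow_add, ← two_mul, _root_.zpow_mul, zpow_two, h, _root_.one_zpow]
  have hkT : toPSL2 F k ∈ T := by rw [hk]; exact c₁.2
  have hk1 : toPSL2 F k ≠ 1 := by
    intro h
    apply hk2
    rw [h, mul_one]
  have hkns : ¬ IsScalar2 (k : Matrix (Fin 2) (Fin 2) F) := fun hs => hk1 ((toPSL2_eq_one_iff' k).2 hs)
  have hTk : Tor k = T := Tor_eq_of_mem g hg k hkT hkns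
  have hkt : (k : Matrix (Fin 2) (Fin 2) F).trace ^ 2 ≠ 4 := by
    intro h
    exact ht ((trace_sq_eq_four_iff_of_mem g hg k ((mem_Tor_iff g k).1 hkT) hkns).1 h)
  -- the quadratic extension
  obtain ⟨F₂, i1, i2, f, hK⟩ := exists_quadratic_ext (F := F)
  have hodd₂ : Odd (Fintype.card F₂) := by rw [← hK]; exact hodd.pow
  obtain ⟨M₂, e, he⟩ := exists_transfer f hodd₂ hK M
  set k₂ := SpecialLinearGroup.map f k with hk₂def
  have hk₂ : ¬ IsScalar2 (k₂ : Matrix (Fin 2) (Fin 2) F₂) := slmap_not_scalar f k hkns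
  have ht₂ : (k₂ : Matrix (Fin 2) (Fin 2) F₂).trace ^ 2 ≠ 4 := by
    rw [slmap_trace]
    intro h
    apply hkt
    apply f.injective
    rw [map_pow, h, map_ofNat]
  obtain ⟨hcyc₂, -, -, hprop₂⟩ := torus_normalizer k₂ hk₂ ht₂
  -- membership in `M₂`
  have hmemM₂ : ∀ s : SpecialLinearGroup (Fin 2) F, toPSL2 F s ∈ H →
      toPSL2 F₂ (SpecialLinearGroup.map f s) ∈ M₂ := by
    intro s hs
    have h1 := he ⟨iot F (toPSL2 F s), hs⟩
    rw [map_iot] at h1
    have h3 := iot_injective h1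
    rw [← h3]
    exact (e _).2
  have hMN₂ : M₂ ≤ Subgroup.normalizer ((Tor k₂ : Subgroup (ProjectiveSpecialLinearGroup (Fin 2) F₂)) :
      Set (ProjectiveSpecialLinearGroup (Fin 2) F₂)) := by
    apply le_normalizer_Tor_of_normal M₂ k₂ hk₂
    intro m₂ hm₂
    obtain ⟨m, hm⟩ : ∃ m : M, e m = ⟨m₂, hm₂⟩ := e.surjective _
    have h1 := he m
    rw [hm] at h1
    -- `m` normalizes the image of `T`
    have h3 : (m : ProjGenLinGroup (Fin 2) F) ∈ NG T := by rw [← hMT]; exact m.2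
    have h5 : (m : ProjGenLinGroup (Fin 2) F) * iot F (toPSL2 F k) * (m : ProjGenLinGroup (Fin 2) F)⁻¹ ∈
        T.map (iot F) := (Subgroup.mem_normalizer_iff.1 h3 _).1 ⟨_, hkT, rfl⟩
    obtain ⟨y, hyT, hy⟩ := h5
    obtain ⟨i, hi⟩ := hTz y hyT
    refine Subgroup.mem_zpowers_iff.2 ⟨i, ?_⟩
    apply iot_injective
    have h7 : iot F₂ (toPSL2 F₂ k₂) = ProjGenLinGroup.map f (iot F (toPSL2 F k)) := (map_iot f k).symm
    have h8 : iot F₂ (m₂ * toPSL2 F₂ k₂ * m₂⁻¹) = ProjGenLinGroup.map f (iot F y) := by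
      rw [map_mul, map_mul, map_inv, h1, h7, ← map_inv, ← map_mul, ← map_mul, hy]
    rw [h8, ← hi, map_zpow, map_zpow, map_zpow, h7]
  -- an element outside the torus
  obtain ⟨s, hsN, hsT⟩ : ∃ s ∈ Subgroup.normalizer ((T : Subgroup (ProjectiveSpecialLinearGroup (Fin 2) F)) :
      Set (ProjectiveSpecialLinearGroup (Fin 2) F)), s ∉ T := by
    by_contra hcon
    push Not at hcon
    have hle : Subgroup.normalizer ((T : Subgroup (ProjectiveSpecialLinearGroup (Fin 2) F)) :
      Set (ProjectiveSpecialLinearGroup (Fin 2) F)) ≤ T := hcon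
    have := Subgroup.card_le_of_le hle
    have hpos : 0 < Nat.card T := Nat.card_pos
    omega
  obtain ⟨s', rfl⟩ := toPSL2_surjective s
  have hsH : toPSL2 F s' ∈ H := by rw [hHeq]; exact hsN
  have haM₂ := hmemM₂ s' hsH
  have haT₂ : toPSL2 F₂ (SpecialLinearGroup.map f s') ∉ Tor k₂ := by
    intro h
    apply hsT
    rw [← hTk, mem_Tor_iff, Subgroup.mem_centralizer_singleton_iff]
    rw [mem_Tor_iff, Subgroup.mem_centralizer_singleton_iff, hk₂def, ← map_mul, ← map_mul] at h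
    exact slmap_injective f h
  have hxt2 : toPSL2 F₂ k₂ * toPSL2 F₂ k₂ ≠ 1 := by
    intro h
    apply hk2
    apply iot_injective
    apply pgl_map_injective f
    rw [map_mul, map_mul, map_iot, ← map_mul, h, map_one, map_one, map_one]
  have hcM₂ : Nat.card M₂ = 2 * (2 * Nat.card T) := by
    rw [← hcM]
    exact (Nat.card_congr e.toEquiv).symm
  obtain ⟨e₂⟩ := dihedral_of_le (Tor k₂) _ M₂ hcyc₂ hprop₂ hMN₂ _ haM₂ haT₂ (toPSL2 F₂ k₂) (self_mem_Tor k₂) hxt2
    (2 * Nat.card T) hcM₂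
  rcases card_torus g hg ht with hc | hc
  · left
    rw [hc] at hcT
    constructor
    · intro h5'
      rw [h5'] at hcT
      have hT2 : Nat.card T = 2 := by omega
      apply hx2
      have h1 : (⟨toPSL2 F kx, hxT⟩ : T) ^ Nat.card T = 1 := pow_card_eq_one'
      rw [hT2] at h1
      have := congrArg (fun z : T => (z : ProjectiveSpecialLinearGroup (Fin 2) F)) h1
      simpa [pow_two] using this
    · rw [← hcT, mul_comm]
      exact ⟨e.trans e₂⟩
  · right
    rw [hc] at hcT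
    rw [← hcT, mul_comm]
    exact ⟨e.trans e₂⟩

end Cfsg.Agent.Lib.Helper15.Pg
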