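import Mathlib
import Cfsg.Agent.Lib.Helper15.Pg7

/-!
# Maximal subgroups of `PGL₂(q)`, part 8: the degenerate torus case and the torus case
-/

set_option autoImplicit false

open scoped Pointwise

namespace Cfsg.Agent.Lib.Helper15.Pg

open Matrix
open Cfsg.Agent.Lib.Helper14
open Cfsg.Agent.Lib.Helper15
open Cfsg.Agent.Lib.Helper15.Dk
open Cfsg.Agent.Lib.Helper15.Mx

theorem inv_mul_mem_of_card_two {G : Type*} [Group G] (T N : Subgroup G) [Finite N] (hTN : T ≤ N)
    (hc : Nat.card N = 2 * Nat.card T) (a b : G) (ha : a ∈ N) (hb : b ∈ N) (haT : a ∉ T) (hbT : b ∉ T) :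
    a⁻¹ * b ∈ T := by
  haveI : Finite T := Finite.of_injective _ (Subgroup.inclusion_injective hTN)
  have hidx : (T.subgroupOf N).index = 2 := by
    have h1 := Subgroup.card_mul_index (T.subgroupOf N)
    rw [Nat.card_congr (Subgroup.subgroupOfEquivOfLe hTN).toEquiv, hc] at h1
    have hpos : 0 < Nat.card T := Nat.card_pos
    have : Nat.card T * (T.subgroupOf N).index = Nat.card T * 2 := by rw [h1]; ring
    exact Nat.eq_of_mul_eq_mul_left hpos this
  have h2 := Subgroup.mul_mem_iff_of_index_two hidx (a := (⟨a, ha⟩ : N)⁻¹) (b := ⟨b, hb⟩)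
  rw [Subgroup.mem_subgroupOf, Subgroup.mem_subgroupOf, Subgroup.mem_subgroupOf] at h2
  apply h2.2
  constructor
  · intro h
    exfalso
    apply haT
    have : ((⟨a, ha⟩ : N)⁻¹ : N).1 = a⁻¹ := rfl
    rw [this] at h
    have := T.inv_mem h
    rwa [inv_inv] at this
  · intro h
    exact absurd h hbT

variable {F : Type*} [Field F] [Fintype F]

/-- the degenerate part of the torus case: `H` cannot be an elementary abelian `2`-group -/
theorem case_torus_degenerate (hodd : Odd (Fintype.card F)) (h5 : 5 ≤ Fintype.card F)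
    {M : Subgroup (ProjGenLinGroup (Fin 2) F)} (hM : IsMax M)
    (g : SpecialLinearGroup (Fin 2) F) (hg : ¬ IsScalar2 (g : Matrix (Fin 2) (Fin 2) F))
    (ht : (g : Matrix (Fin 2) (Fin 2) F).trace ^ 2 ≠ 4)
    (hgH : toPSL2 F g ∈ M.comap (iot F))
    (hHN : M.comap (iot F) ≤ Subgroup.normalizer ((Tor g : Subgroup (ProjectiveSpecialLinearGroup (Fin 2) F)) :
      Set (ProjectiveSpecialLinearGroup (Fin 2) F)))
    (hall : ∀ x ∈ M.comap (iot F), x * x = 1) : False := by
  have h2 := Mx.two_ne_zero_of_odd hodd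
  have h4 : 4 ≤ Fintype.card F := by omega
  set H := M.comap (iot F) with hH
  obtain ⟨hcyc, hcardN, -, hprop⟩ := torus_normalizer g hg ht
  set T := Tor g with hT
  set N := Subgroup.normalizer ((T : Subgroup (ProjectiveSpecialLinearGroup (Fin 2) F)) :
      Set (ProjectiveSpecialLinearGroup (Fin 2) F)) with hN
  have hTN : T ≤ N := Subgroup.le_normalizer
  have hg1 : toPSL2 F g ≠ 1 := fun h => hg ((toPSL2_eq_one_iff' g).1 h)
  have hgT : toPSL2 F g ∈ T := self_mem_Tor g
  have hgg : toPSL2 F g * toPSL2 F g = 1 := hall _ hgH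
  have hbot : H ≠ ⊥ := by
    intro hb
    rw [hb, Subgroup.mem_bot] at hgH
    exact hg1 hgH
  have hself := hM.normalizer_comap h4 hbot
  rw [← hH] at hself
  have hcomm : ∀ a ∈ H, ∀ b ∈ H, a * b = b * a := by
    intro a ha b hb
    have h1 := hall _ (H.mul_mem ha hb)
    have h3 := hall _ ha
    have h6 := hall _ hb
    have h7 : a⁻¹ = a := inv_eq_of_mul_eq_one_right h3
    have h8 : b⁻¹ = b := inv_eq_of_mul_eq_one_right h6
    have h9 : (a * b)⁻¹ = a * b := inv_eq_of_mul_eq_one_right h1
    rw [_root_.mul_inv_rev, h7, h8] at h9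
    exact h9.symm
  -- members of `H` inside the torus
  have hHT : ∀ b ∈ H, b ∈ T → b = 1 ∨ b = toPSL2 F g := by
    intro b hb hbT
    by_cases hb1 : b = 1
    · exact Or.inl hb1
    · exact Or.inr (cyclic_invol_unique T hcyc b _ hbT hgT (hall _ hb) hgg hb1 hg1)
  -- an element of the normalizer outside the torus
  obtain ⟨s, hsN, hsT⟩ : ∃ s ∈ N, s ∉ T := by
    by_contra hcon
    push Not at hcon
    have hle : N ≤ T := hcon
    have := Subgroup.card_le_of_le hle
    have hpos : 0 < Nat.card T := Nat.card_pos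
    omega
  by_cases hex : ∃ a ∈ H, a ≠ 1 ∧ a ≠ toPSL2 F g
  · obtain ⟨a, haH, ha1, hag⟩ := hex
    have haa := hall _ haH
    have haT : a ∉ T := by
      intro h
      rcases hHT a haH h with h | h
      · exact ha1 h
      · exact hag h
    have hga := hcomm _ hgH _ haH
    obtain ⟨y, hy3, hy1, hy2⟩ := v4_normalized h2 (toPSL2 F g) a hgg hg1 haa ha1 (fun h => hag h.symm) hga
    -- the four elements of `H`
    have hfour : ∀ b ∈ H, b = 1 ∨ b = toPSL2 F g ∨ b = a ∨ b = toPSL2 F g * a := by
      intro b hb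
      by_cases hbT : b ∈ T
      · rcases hHT b hb hbT with h | h
        · exact Or.inl h
        · exact Or.inr (Or.inl h)
      · have h1 := inv_mul_mem_of_card_two T N hTN hcardN a b (hHN haH) (hHN hb) haT hbT
        have h3 : a⁻¹ = a := inv_eq_of_mul_eq_one_right haa
        rw [h3] at h1
        rcases hHT _ (H.mul_mem haH hb) h1 with h | h
        · right; right; left
          have : b = a⁻¹ := (inv_eq_of_mul_eq_one_right h).symm
          rw [this, h3]
        · right; right; right
          rw [← h, hcomm _ haH _ hb, mul_assoc, haa, mul_one]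
    have hyN : y ∈ Subgroup.normalizer ((H : Subgroup (ProjectiveSpecialLinearGroup (Fin 2) F)) :
        Set (ProjectiveSpecialLinearGroup (Fin 2) F)) := by
      apply mem_normalizer_of_pow_eq_one H y 3 (by norm_num) hy3
      intro v hv
      rcases hfour v hv with rfl | rfl | rfl | rfl
      · rw [mul_one, mul_inv_cancel]; exact H.one_mem
      · rw [hy1]; exact haH
      · rw [hy2]; exact H.mul_mem hgH haH
      · have : y * (toPSL2 F g * a) * y⁻¹ = (y * toPSL2 F g * y⁻¹) * (y * a * y⁻¹) := by group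
        rw [this, hy1, hy2]
        exact H.mul_mem haH (H.mul_mem hgH haH)
    rw [hself] at hyN
    have hyy := hall _ hyN
    have hy1' : y = 1 := by
      have : y ^ 3 = y * y * y := by rw [pow_succ, pow_two]
      rw [this, hyy, one_mul] at hy3
      exact hy3
    rw [hy1'] at hy1
    apply hag
    rw [← hy1]
    group
  · push Not at hex
    have hsN' : s ∈ Subgroup.normalizer ((H : Subgroup (ProjectiveSpecialLinearGroup (Fin 2) F)) :
        Set (ProjectiveSpecialLinearGroup (Fin 2) F)) := by
      obtain ⟨hss, hsinv⟩ := hprop s hsN hsT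
      apply mem_normalizer_of_pow_eq_one H s 2 (by norm_num) (by rw [pow_two]; exact hss)
      intro v hv
      by_cases hv1 : v = 1
      · rw [hv1, mul_one, mul_inv_cancel]; exact H.one_mem
      · have hvg := hex v hv hv1
        rw [hvg, hsinv _ hgT, inv_eq_of_mul_eq_one_right hgg]
        exact hgH
    rw [hself] at hsN'
    by_cases hs1 : s = 1
    · apply hsT
      rw [hs1]
      exact T.one_mem
    · apply hsT
      rw [hex s hsN' hs1]
      exact hgT

/-- the torus case -/
theorem case_torus (hodd : Odd (Fintype.card F)) (h5 : 5 ≤ Fintype.card F)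
    {M : Subgroup (ProjGenLinGroup (Fin 2) F)} (hM : IsMax M)
    (h : HasNormalTorus (M.comap (iot F))) : PGList F M := by
  obtain ⟨g, hg, ht, hgH, hnorm⟩ := h
  have hHN := le_normalizer_Tor_of_normal _ g hg hnorm
  by_cases hall : ∀ x ∈ M.comap (iot F), x * x = 1
  · exact (case_torus_degenerate hodd h5 hM g hg ht hgH hHN hall).elim
  · push Not at hall
    obtain ⟨x, hxH, hx2⟩ := hall
    rcases case_torus_main hodd h5 hM g hg ht hHN x hxH hx2 with h | h
    · exact Or.inr (Or.inl h)
    · exact Or.inr (Or.inr (Or.inl h))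

end Cfsg.Agent.Lib.Helper15.Pg
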