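import Mathlib
import Cfsg.Agent.Lib.Helper15.Pg8

/-!
# Maximal subgroups of `PGL₂(q)`, part 9: matrices normalizing a subfield subgroup
-/

set_option autoImplicit false

open scoped Pointwise

namespace Cfsg.Agent.Lib.Helper15.Pg

open Matrix
open Cfsg.Agent.Lib.Helper14
open Cfsg.Agent.Lib.Helper15
open Cfsg.Agent.Lib.Helper15.Dk
open Cfsg.Agent.Lib.Helper15.Mx

section gen
variable {F : Type*} [Field F]

theorem glSL_mul_coe (P : GL (Fin 2) F) (g : SpecialLinearGroup (Fin 2) F) :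
    ((glSL P g : SpecialLinearGroup (Fin 2) F) : Matrix (Fin 2) (Fin 2) F) * (P : Matrix (Fin 2) (Fin 2) F) =
      (P : Matrix (Fin 2) (Fin 2) F) * (g : Matrix (Fin 2) (Fin 2) F) := by
  rw [coe_glSL, Matrix.mul_assoc, ← Units.val_mul, inv_mul_cancel, Units.val_one, Matrix.mul_one]

theorem gl_det_ne (P : GL (Fin 2) F) :
    (P : Matrix (Fin 2) (Fin 2) F) 0 0 * (P : Matrix (Fin 2) (Fin 2) F) 1 1 -
      (P : Matrix (Fin 2) (Fin 2) F) 0 1 * (P : Matrix (Fin 2) (Fin 2) F) 1 0 ≠ 0 := by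
  rw [← Matrix.det_fin_two]
  have h := (Matrix.isUnit_iff_isUnit_det _).1 P.isUnit
  exact h.ne_zero

/-- the entries of a conjugate -/
theorem glSL_entries (P : GL (Fin 2) F) (g : SpecialLinearGroup (Fin 2) F) :
    ((glSL P g : SpecialLinearGroup (Fin 2) F) : Matrix (Fin 2) (Fin 2) F) 0 0 *
      ((P : Matrix (Fin 2) (Fin 2) F) 0 0 * (P : Matrix (Fin 2) (Fin 2) F) 1 1 -
        (P : Matrix (Fin 2) (Fin 2) F) 0 1 * (P : Matrix (Fin 2) (Fin 2) F) 1 0) =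
      ((P : Matrix (Fin 2) (Fin 2) F) 0 0 * (g : Matrix (Fin 2) (Fin 2) F) 0 0 +
        (P : Matrix (Fin 2) (Fin 2) F) 0 1 * (g : Matrix (Fin 2) (Fin 2) F) 1 0) * (P : Matrix (Fin 2) (Fin 2) F) 1 1 -
      ((P : Matrix (Fin 2) (Fin 2) F) 0 0 * (g : Matrix (Fin 2) (Fin 2) F) 0 1 +
        (P : Matrix (Fin 2) (Fin 2) F) 0 1 * (g : Matrix (Fin 2) (Fin 2) F) 1 1) * (P : Matrix (Fin 2) (Fin 2) F) 1 0 ∧
    ((glSL P g : SpecialLinearGroup (Fin 2) F) : Matrix (Fin 2) (Fin 2) F) 0 1 *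
      ((P : Matrix (Fin 2) (Fin 2) F) 0 0 * (P : Matrix (Fin 2) (Fin 2) F) 1 1 -
        (P : Matrix (Fin 2) (Fin 2) F) 0 1 * (P : Matrix (Fin 2) (Fin 2) F) 1 0) =
      -((P : Matrix (Fin 2) (Fin 2) F) 0 0 * (g : Matrix (Fin 2) (Fin 2) F) 0 0 +
        (P : Matrix (Fin 2) (Fin 2) F) 0 1 * (g : Matrix (Fin 2) (Fin 2) F) 1 0) * (P : Matrix (Fin 2) (Fin 2) F) 0 1 +
      ((P : Matrix (Fin 2) (Fin 2) F) 0 0 * (g : Matrix (Fin 2) (Fin 2) F) 0 1 +
        (P : Matrix (Fin 2) (Fin 2) F) 0 1 * (g : Matrix (Fin 2) (Fin 2) F) 1 1) * (P : Matrix (Fin 2) (Fin 2) F) 0 0 ∧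
    ((glSL P g : SpecialLinearGroup (Fin 2) F) : Matrix (Fin 2) (Fin 2) F) 1 0 *
      ((P : Matrix (Fin 2) (Fin 2) F) 0 0 * (P : Matrix (Fin 2) (Fin 2) F) 1 1 -
        (P : Matrix (Fin 2) (Fin 2) F) 0 1 * (P : Matrix (Fin 2) (Fin 2) F) 1 0) =
      ((P : Matrix (Fin 2) (Fin 2) F) 1 0 * (g : Matrix (Fin 2) (Fin 2) F) 0 0 +
        (P : Matrix (Fin 2) (Fin 2) F) 1 1 * (g : Matrix (Fin 2) (Fin 2) F) 1 0) * (P : Matrix (Fin 2) (Fin 2) F) 1 1 -
      ((P : Matrix (Fin 2) (Fin 2) F) 1 0 * (g : Matrix (Fin 2) (Fin 2) F) 0 1 +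
        (P : Matrix (Fin 2) (Fin 2) F) 1 1 * (g : Matrix (Fin 2) (Fin 2) F) 1 1) * (P : Matrix (Fin 2) (Fin 2) F) 1 0 ∧
    ((glSL P g : SpecialLinearGroup (Fin 2) F) : Matrix (Fin 2) (Fin 2) F) 1 1 *
      ((P : Matrix (Fin 2) (Fin 2) F) 0 0 * (P : Matrix (Fin 2) (Fin 2) F) 1 1 -
        (P : Matrix (Fin 2) (Fin 2) F) 0 1 * (P : Matrix (Fin 2) (Fin 2) F) 1 0) =
      -((P : Matrix (Fin 2) (Fin 2) F) 1 0 * (g : Matrix (Fin 2) (Fin 2) F) 0 0 +
        (P : Matrix (Fin 2) (Fin 2) F) 1 1 * (g : Matrix (Fin 2) (Fin 2) F) 1 0) * (P : Matrix (Fin 2) (Fin 2) F) 0 1 +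
      ((P : Matrix (Fin 2) (Fin 2) F) 1 0 * (g : Matrix (Fin 2) (Fin 2) F) 0 1 +
        (P : Matrix (Fin 2) (Fin 2) F) 1 1 * (g : Matrix (Fin 2) (Fin 2) F) 1 1) * (P : Matrix (Fin 2) (Fin 2) F) 0 0 := by
  have h := glSL_mul_coe P g
  have h00 := congrFun (congrFun h 0) 0
  have h01 := congrFun (congrFun h 0) 1
  have h10 := congrFun (congrFun h 1) 0
  have h11 := congrFun (congrFun h 1) 1
  rw [Matrix.mul_apply, Fin.sum_univ_two, Matrix.mul_apply, Fin.sum_univ_two] at h00 h01 h10 h11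
  refine ⟨?_, ?_, ?_, ?_⟩
  · linear_combination (P : Matrix (Fin 2) (Fin 2) F) 1 1 * h00 - (P : Matrix (Fin 2) (Fin 2) F) 1 0 * h01
  · linear_combination (P : Matrix (Fin 2) (Fin 2) F) 0 0 * h01 - (P : Matrix (Fin 2) (Fin 2) F) 0 1 * h00
  · linear_combination (P : Matrix (Fin 2) (Fin 2) F) 1 1 * h10 - (P : Matrix (Fin 2) (Fin 2) F) 1 0 * h11
  · linear_combination (P : Matrix (Fin 2) (Fin 2) F) 0 0 * h11 - (P : Matrix (Fin 2) (Fin 2) F) 0 1 * h10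

/-- a third unipotent element -/
def u3 (b₁ : F) (hb : b₁ ≠ 0) : SpecialLinearGroup (Fin 2) F :=
  ⟨!![2, -b₁; 1 / b₁, 0], by rw [Matrix.det_fin_two_of]; field_simp; ring⟩

theorem u3_mem_SE (E : Subfield F) (b₁ : F) (hb : b₁ ≠ 0) : u3 b₁ hb ∈ SE E b₁ hb := by
  rw [mem_SE]
  have h2 : (2 : F) ∈ E := by
    have : (2 : F) = 1 + 1 := by norm_num
    rw [this]
    exact E.add_mem E.one_mem E.one_mem
  refine ⟨?_, ?_, ?_, ?_⟩
  · simpa [u3] using h2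
  · have : ((u3 b₁ hb : SpecialLinearGroup (Fin 2) F) : Matrix (Fin 2) (Fin 2) F) 0 1 / b₁ = -1 := by
      simp [u3]
      field_simp
    rw [this]
    exact E.neg_mem E.one_mem
  · have : ((u3 b₁ hb : SpecialLinearGroup (Fin 2) F) : Matrix (Fin 2) (Fin 2) F) 1 0 * b₁ = 1 := by
      simp [u3]
      field_simp
    rw [this]
    exact E.one_mem
  · simpa [u3] using E.zero_mem

theorem u3_trace (b₁ : F) (hb : b₁ ≠ 0) :
    ((u3 b₁ hb : SpecialLinearGroup (Fin 2) F) : Matrix (Fin 2) (Fin 2) F).trace = 2 := by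
  rw [Matrix.trace_fin_two]
  simp [u3]

theorem ll_mem_SE (E : Subfield F) (b₁ : F) (hb : b₁ ≠ 0) : ll (1 / b₁) ∈ SE E b₁ hb := by
  rw [mem_SE]
  refine ⟨?_, ?_, ?_, ?_⟩
  · simpa [ll] using E.one_mem
  · simpa [ll] using E.zero_mem
  · have : ((ll (1 / b₁) : SpecialLinearGroup (Fin 2) F) : Matrix (Fin 2) (Fin 2) F) 1 0 * b₁ = 1 := by
      simp [ll]
      field_simp
    rw [this]
    exact E.one_mem
  · simpa [ll] using E.one_mem

theorem ll_trace (x : F) :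
    ((ll x : SpecialLinearGroup (Fin 2) F) : Matrix (Fin 2) (Fin 2) F).trace = 2 := by
  rw [Matrix.trace_fin_two]
  simp [ll]
  norm_num

theorem uu_trace (x : F) :
    ((uu x : SpecialLinearGroup (Fin 2) F) : Matrix (Fin 2) (Fin 2) F).trace = 2 := by
  rw [Matrix.trace_fin_two]
  simp [uu, upperSL]
  norm_num

/-- the field computation behind `exists_scalar_of_conj` -/
theorem scalar_aux (h2 : (2 : F) ≠ 0) (E : Subfield F) (a b c d Δ : F)
    (hΔ : Δ ≠ 0) (hΔdef : Δ = a * d - b * c) (X00 X01 X10 Y00 Y01 Y10 Z00 Z01 Z10 : F)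
    (x00 : X00 ∈ E) (x01 : X01 ∈ E) (x10 : X10 ∈ E)
    (y00 : Y00 ∈ E) (y01 : Y01 ∈ E) (y10 : Y10 ∈ E)
    (z00 : Z00 ∈ E) (z01 : Z01 ∈ E) (z10 : Z10 ∈ E)
    (ex00 : X00 * Δ = Δ - a * c)
    (ex01 : X01 * Δ = a * a)
    (ex10 : X10 * Δ = -(c * c))
    (ey00 : Y00 * Δ = Δ + b * d)
    (ey01 : Y01 * Δ = -(b * b))
    (ey10 : Y10 * Δ = d * d)
    (ez00 : Z00 * Δ = 2 * (a * d) + b * d + a * c)
    (ez01 : Z01 * Δ = -(2 * (a * b) + b * b + a * a))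
    (ez10 : Z10 * Δ = 2 * (c * d) + d * d + c * c) :
    ∃ u : F, u ≠ 0 ∧ a / u ∈ E ∧ b / u ∈ E ∧ c / u ∈ E ∧ d / u ∈ E := by
  have h2E : (2 : F) ∈ E := by
    have : (2 : F) = 1 + 1 := by norm_num
    rw [this]
    exact E.add_mem E.one_mem E.one_mem
  have hi2 : (2 : F)⁻¹ ∈ E := E.inv_mem h2E
  -- the ten products
  have pac : a * c / Δ ∈ E := by
    have : a * c / Δ = 1 - X00 := by
      rw [div_eq_iff hΔ]
      linear_combination ex00
    rw [this]; exact E.sub_mem E.one_mem x00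
  have paa : a * a / Δ ∈ E := by
    have : a * a / Δ = X01 := by
      rw [div_eq_iff hΔ]
      linear_combination (-1 : F) * ex01
    rw [this]; exact x01
  have pcc : c * c / Δ ∈ E := by
    have : c * c / Δ = -X10 := by
      rw [div_eq_iff hΔ]
      linear_combination ex10
    rw [this]; exact E.neg_mem x10
  have pbd : b * d / Δ ∈ E := by
    have : b * d / Δ = Y00 - 1 := by
      rw [div_eq_iff hΔ]
      linear_combination (-1 : F) * ey00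
    rw [this]; exact E.sub_mem y00 E.one_mem
  have pbb : b * b / Δ ∈ E := by
    have : b * b / Δ = -Y01 := by
      rw [div_eq_iff hΔ]
      linear_combination ey01
    rw [this]; exact E.neg_mem y01
  have pdd : d * d / Δ ∈ E := by
    have : d * d / Δ = Y10 := by
      rw [div_eq_iff hΔ]
      linear_combination (-1 : F) * ey10
    rw [this]; exact y10
  have pad : a * d / Δ ∈ E := by
    have : a * d / Δ = (Z00 - (Y00 - 1) - (1 - X00)) * 2⁻¹ := by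
      rw [div_eq_iff hΔ]
      field_simp
      linear_combination (-1 : F) * ez00 + ey00 - ex00
    rw [this]
    exact E.mul_mem (E.sub_mem (E.sub_mem z00 (E.sub_mem y00 E.one_mem)) (E.sub_mem E.one_mem x00)) hi2
  have pbc : b * c / Δ ∈ E := by
    have : b * c / Δ = a * d / Δ - 1 := by
      rw [div_eq_iff hΔ, sub_mul, div_mul_cancel₀ _ hΔ]
      linear_combination hΔdef
    rw [this]; exact E.sub_mem pad E.one_mem
  have pab : a * b / Δ ∈ E := by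
    have : a * b / Δ = -(Z01 - Y01 + X01) * 2⁻¹ := by
      rw [div_eq_iff hΔ]
      field_simp
      linear_combination ez01 - ey01 + ex01
    rw [this]
    exact E.mul_mem (E.neg_mem (E.add_mem (E.sub_mem z01 y01) x01)) hi2
  have pcd : c * d / Δ ∈ E := by
    have : c * d / Δ = (Z10 - Y10 + X10) * 2⁻¹ := by
      rw [div_eq_iff hΔ]
      field_simp
      linear_combination (-1 : F) * ez10 + ey10 - ex10
    rw [this]
    exact E.mul_mem (E.add_mem (E.sub_mem z10 y10) x10) hi2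
  by_cases ha0 : a = 0
  · have hc0 : c ≠ 0 := by
      rintro rfl
      apply hΔ
      rw [hΔdef, ha0]
      ring
    refine ⟨c, hc0, ?_, ?_, ?_, ?_⟩
    · rw [ha0, zero_div]; exact E.zero_mem
    · have : b / c = (b * c / Δ) / (c * c / Δ) := by
        field_simp
      rw [this]; exact E.div_mem pbc pcc
    · rw [div_self hc0]; exact E.one_mem
    · have : d / c = (c * d / Δ) / (c * c / Δ) := by
        field_simp
      rw [this]; exact E.div_mem pcd pcc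
  · refine ⟨a, ha0, ?_, ?_, ?_, ?_⟩
    · rw [div_self ha0]; exact E.one_mem
    · have : b / a = (a * b / Δ) / (a * a / Δ) := by
        field_simp
      rw [this]; exact E.div_mem pab paa
    · have : c / a = (a * c / Δ) / (a * a / Δ) := by
        field_simp
      rw [this]; exact E.div_mem pac paa
    · have : d / a = (a * d / Δ) / (a * a / Δ) := by
        field_simp
      rw [this]; exact E.div_mem pad paa

/-- the field computation behind `exists_scalar_of_conj`, second form -/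
theorem scalar_aux2 (h2 : (2 : F) ≠ 0) (E : Subfield F) (b₁ : F) (hb : b₁ ≠ 0) (a b c d : F)
    (hΔ : a * d - b * c ≠ 0) (X00 X01 X10 Y00 Y01 Y10 Z00 Z01 Z10 : F)
    (x00 : X00 ∈ E) (x01 : X01 / b₁ ∈ E) (x10 : X10 * b₁ ∈ E)
    (y00 : Y00 ∈ E) (y01 : Y01 / b₁ ∈ E) (y10 : Y10 * b₁ ∈ E)
    (z00 : Z00 ∈ E) (z01 : Z01 / b₁ ∈ E) (z10 : Z10 * b₁ ∈ E)
    (ex00 : X00 * (a * d - b * c) = (a * 1 + b * 0) * d - (a * b₁ + b * 1) * c)
    (ex01 : X01 * (a * d - b * c) = -(a * 1 + b * 0) * b + (a * b₁ + b * 1) * a)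
    (ex10 : X10 * (a * d - b * c) = (c * 1 + d * 0) * d - (c * b₁ + d * 1) * c)
    (ey00 : Y00 * (a * d - b * c) = (a * 1 + b * (1 / b₁)) * d - (a * 0 + b * 1) * c)
    (ey01 : Y01 * (a * d - b * c) = -(a * 1 + b * (1 / b₁)) * b + (a * 0 + b * 1) * a)
    (ey10 : Y10 * (a * d - b * c) = (c * 1 + d * (1 / b₁)) * d - (c * 0 + d * 1) * c)
    (ez00 : Z00 * (a * d - b * c) = (a * 2 + b * (1 / b₁)) * d - (a * -b₁ + b * 0) * c)
    (ez01 : Z01 * (a * d - b * c) = -(a * 2 + b * (1 / b₁)) * b + (a * -b₁ + b * 0) * a)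
    (ez10 : Z10 * (a * d - b * c) = (c * 2 + d * (1 / b₁)) * d - (c * -b₁ + d * 0) * c) :
    ∃ u : F, u ≠ 0 ∧ a / u ∈ E ∧ b / b₁ / u ∈ E ∧ c * b₁ / u ∈ E ∧ d / u ∈ E := by
  have h : b / b₁ * (c * b₁) = b * c := by field_simp
  have hΔ' : a * d - b / b₁ * (c * b₁) ≠ 0 := by rw [h]; exact hΔ
  apply scalar_aux h2 E a (b / b₁) (c * b₁) d _ hΔ' rfl _ _ _ _ _ _ _ _ _ x00 x01 x10 y00 y01 y10 z00 z01 z10
  · rw [h]
    linear_combination ex00
  · rw [h, div_mul_eq_mul_div, ex01]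
    field_simp
    ring
  · rw [h]
    linear_combination b₁ * ex10
  · rw [h, ey00]
    field_simp
    ring
  · rw [h, div_mul_eq_mul_div, ey01]
    field_simp
    ring
  · rw [h, mul_right_comm, ey10]
    field_simp
    ring
  · rw [h, ez00]
    field_simp
    ring
  · rw [h, div_mul_eq_mul_div, ez01]
    field_simp
    ring
  · rw [h, mul_right_comm, ez10]
    field_simp
    ring

/-- a matrix conjugating three unipotent elements of the subfield subgroup into the subfield subgroup is,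
up to a scalar, in the subfield subgroup -/
theorem exists_scalar_of_conj (h2 : (2 : F) ≠ 0) (E : Subfield F) (b₁ : F) (hb : b₁ ≠ 0) (P : GL (Fin 2) F)
    (h1 : glSL P (uu b₁) ∈ SE E b₁ hb) (h3 : glSL P (ll (1 / b₁)) ∈ SE E b₁ hb)
    (h5 : glSL P (u3 b₁ hb) ∈ SE E b₁ hb) :
    ∃ u : F, u ≠ 0 ∧ (P : Matrix (Fin 2) (Fin 2) F) 0 0 / u ∈ E ∧
      (P : Matrix (Fin 2) (Fin 2) F) 0 1 / b₁ / u ∈ E ∧
      (P : Matrix (Fin 2) (Fin 2) F) 1 0 * b₁ / u ∈ E ∧ (P : Matrix (Fin 2) (Fin 2) F) 1 1 / u ∈ E := by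
  have hΔ := gl_det_ne P
  obtain ⟨x00, x01, x10, -⟩ := (mem_SE E b₁ hb _).1 h1
  obtain ⟨y00, y01, y10, -⟩ := (mem_SE E b₁ hb _).1 h3
  obtain ⟨z00, z01, z10, -⟩ := (mem_SE E b₁ hb _).1 h5
  obtain ⟨ex00, ex01, ex10, -⟩ := glSL_entries P (uu b₁)
  obtain ⟨ey00, ey01, ey10, -⟩ := glSL_entries P (ll (1 / b₁))
  obtain ⟨ez00, ez01, ez10, -⟩ := glSL_entries P (u3 b₁ hb)
  have u00 : ((uu b₁ : SpecialLinearGroup (Fin 2) F) : Matrix (Fin 2) (Fin 2) F) 0 0 = 1 := by simp [uu, upperSL]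
  have u01 : ((uu b₁ : SpecialLinearGroup (Fin 2) F) : Matrix (Fin 2) (Fin 2) F) 0 1 = b₁ := by simp [uu, upperSL]
  have u10 : ((uu b₁ : SpecialLinearGroup (Fin 2) F) : Matrix (Fin 2) (Fin 2) F) 1 0 = 0 := by simp [uu, upperSL]
  have u11 : ((uu b₁ : SpecialLinearGroup (Fin 2) F) : Matrix (Fin 2) (Fin 2) F) 1 1 = 1 := by simp [uu, upperSL]
  have l00 : ((ll (1 / b₁) : SpecialLinearGroup (Fin 2) F) : Matrix (Fin 2) (Fin 2) F) 0 0 = 1 := by simp [ll]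
  have l01 : ((ll (1 / b₁) : SpecialLinearGroup (Fin 2) F) : Matrix (Fin 2) (Fin 2) F) 0 1 = 0 := by simp [ll]
  have l10 : ((ll (1 / b₁) : SpecialLinearGroup (Fin 2) F) : Matrix (Fin 2) (Fin 2) F) 1 0 = 1 / b₁ := by simp [ll]
  have l11 : ((ll (1 / b₁) : SpecialLinearGroup (Fin 2) F) : Matrix (Fin 2) (Fin 2) F) 1 1 = 1 := by simp [ll]
  have v00 : ((u3 b₁ hb : SpecialLinearGroup (Fin 2) F) : Matrix (Fin 2) (Fin 2) F) 0 0 = 2 := by simp [u3]
  have v01 : ((u3 b₁ hb : SpecialLinearGroup (Fin 2) F) : Matrix (Fin 2) (Fin 2) F) 0 1 = -b₁ := by simp [u3]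
  have v10 : ((u3 b₁ hb : SpecialLinearGroup (Fin 2) F) : Matrix (Fin 2) (Fin 2) F) 1 0 = 1 / b₁ := by simp [u3]
  have v11 : ((u3 b₁ hb : SpecialLinearGroup (Fin 2) F) : Matrix (Fin 2) (Fin 2) F) 1 1 = 0 := by simp [u3]
  rw [u00, u01, u10, u11] at ex00 ex01 ex10
  rw [l00, l01, l10, l11] at ey00 ey01 ey10
  rw [v00, v01, v10, v11] at ez00 ez01 ez10
  exact scalar_aux2 h2 E b₁ hb _ _ _ _ hΔ _ _ _ _ _ _ _ _ _ x00 x01 x10 y00 y01 y10 z00 z01 z10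
    ex00 ex01 ex10 ey00 ey01 ey10 ez00 ez01 ez10

end gen

end Cfsg.Agent.Lib.Helper15.Pg
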