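import Mathlib
import Cfsg.Agent.Lib.Helper15.Pg9

/-!
# Maximal subgroups of `PGL₂(q)`, part 10: subfield subgroups of `PGL₂`
-/

set_option autoImplicit false

open scoped Pointwise

namespace Cfsg.Agent.Lib.Helper15.Pg

open Matrix
open Cfsg.Agent.Lib.Helper14
open Cfsg.Agent.Lib.Helper15
open Cfsg.Agent.Lib.Helper15.Dk
open Cfsg.Agent.Lib.Helper15.Mx

section gen
variable {F : Type*} [Field F] {K : Type*} [Field K]

theorem gl_eq_of_entries' (b₁ : F) (hb : b₁ ≠ 0) (f : K →+* F) (P : GL (Fin 2) F)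
    (g₀ : GL (Fin 2) K) (u : Fˣ)
    (e00 : (P : Matrix (Fin 2) (Fin 2) F) 0 0 = u * f (g₀ 0 0))
    (e01 : (P : Matrix (Fin 2) (Fin 2) F) 0 1 = u * f (g₀ 0 1) * b₁)
    (e10 : (P : Matrix (Fin 2) (Fin 2) F) 1 0 * b₁ = u * f (g₀ 1 0))
    (e11 : (P : Matrix (Fin 2) (Fin 2) F) 1 1 = u * f (g₀ 1 1)) :
    P * Dmat b₁ hb =
      Dmat b₁ hb * GeneralLinearGroup.map f g₀ * GeneralLinearGroup.scalar (Fin 2) u := by
  apply Units.ext
  rw [Units.val_mul, Units.val_mul, Units.val_mul, Dmat_coe, GeneralLinearGroup.coe_scalar]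
  ext i j
  fin_cases i <;> fin_cases j <;>
    simp [Matrix.mul_apply, Fin.sum_univ_two, Matrix.scalar_apply, Matrix.vecMul, dotProduct,
      Matrix.map_apply, e00, e01, e10, e11] <;> ring

/-- matrices which are scalar multiples of twisted subfield matrices are in the range of `psi` -/
theorem mk_mem_range_psi_of_entries (b₁ : F) (hb : b₁ ≠ 0) (f : K →+* F) (P : GL (Fin 2) F)
    (u : F) (hu : u ≠ 0) (k00 k01 k10 k11 : K)
    (e00 : (P : Matrix (Fin 2) (Fin 2) F) 0 0 = u * f k00)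
    (e01 : (P : Matrix (Fin 2) (Fin 2) F) 0 1 = u * f k01 * b₁)
    (e10 : (P : Matrix (Fin 2) (Fin 2) F) 1 0 * b₁ = u * f k10)
    (e11 : (P : Matrix (Fin 2) (Fin 2) F) 1 1 = u * f k11) :
    ProjGenLinGroup.mk P ∈ (psi b₁ hb f).range := by
  have hdet : (!![k00, k01; k10, k11] : Matrix (Fin 2) (Fin 2) K).det ≠ 0 := by
    intro h0
    have h1 : f ((!![k00, k01; k10, k11] : Matrix (Fin 2) (Fin 2) K).det) = 0 := by rw [h0, map_zero]
    rw [Matrix.det_fin_two_of, map_sub, map_mul, map_mul] at h1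
    apply gl_det_ne P
    have e10' : (P : Matrix (Fin 2) (Fin 2) F) 1 0 = u * f k10 / b₁ := by
      rw [← e10]; field_simp
    rw [e00, e01, e10', e11]
    field_simp
    linear_combination u ^ 2 * h1
  refine ⟨ProjGenLinGroup.mk (GeneralLinearGroup.mkOfDetNeZero _ hdet), ?_⟩
  apply mem_range_psi b₁ hb f _ _ (Units.mk0 u hu)
  apply gl_eq_of_entries'
  · exact e00
  · exact e01
  · exact e10
  · exact e11

/-- diagonal elements in the range of `psi` -/
theorem diag_mem_range_psi (b₁ : F) (hb : b₁ ≠ 0) (f : K →+* F) (x : F) (hx : x ≠ 0) (k : K) (hk : f k = x) :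
    ProjGenLinGroup.mk (Dmat x hx) ∈ (psi b₁ hb f).range := by
  apply mk_mem_range_psi_of_entries b₁ hb f _ 1 one_ne_zero k 0 0 1
  · rw [Dmat_coe, hk]; simp
  · rw [Dmat_coe]; simp
  · rw [Dmat_coe]; simp
  · rw [Dmat_coe]; simp

theorem of_diag_mem_range_psi (b₁ : F) (hb : b₁ ≠ 0) (f : K →+* F) (x : F) (hx : x ≠ 0)
    (h : ProjGenLinGroup.mk (Dmat x hx) ∈ (psi b₁ hb f).range) : ∃ k : K, f k = x := by
  obtain ⟨y, hy⟩ := h
  induction y using ProjGenLinGroup.induction_on with | mk g₀ =>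
  rw [psi_apply, ProjGenLinGroup.map_mk, mul_inv_eq_iff_eq_mul, ← map_mul, ← map_mul,
    ProjGenLinGroup.mk_eq_mk_iff] at hy
  obtain ⟨u, h1⟩ := hy
  have h3 := congrArg (fun A : GL (Fin 2) F => (A : Matrix (Fin 2) (Fin 2) F)) h1
  simp only [Units.val_mul, Dmat_coe, GeneralLinearGroup.coe_scalar] at h3
  have h00 := congrFun (congrFun h3 0) 0
  have h11 := congrFun (congrFun h3 1) 1
  simp [Matrix.mul_apply, Fin.sum_univ_two, Matrix.scalar_apply, Matrix.vecMul, dotProduct,
    Matrix.map_apply] at h00 h11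
  have hu0 : (u : F) ≠ 0 := u.ne_zero
  have h11' : f (g₀ 1 1) ≠ 0 := by
    intro h
    rw [h, zero_mul] at h11
    exact one_ne_zero h11.symm
  refine ⟨g₀ 0 0 / g₀ 1 1, ?_⟩
  rw [map_div₀]
  field_simp
  have : (u : F) = (f (g₀ 1 1))⁻¹ := by
    field_simp
    linear_combination h11
  rw [this] at h00
  field_simp at h00
  linear_combination h00

end gen

section fin
variable {F : Type*} [Field F] [Fintype F] {K : Type*} [Field K] [Fintype K]

/-- for an extension of even degree the image of `PGL₂(K)` lies in the image of `PSL₂(F)` -/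
theorem map_mem_range_of_even (f : K →+* F) (hodd : Odd (Fintype.card F)) (m : ℕ) (hm : Even m)
    (hK : Fintype.card K ^ m = Fintype.card F) (y : ProjGenLinGroup (Fin 2) K) :
    ProjGenLinGroup.map (n := Fin 2) f y ∈ (iot F).range := by
  induction y using ProjGenLinGroup.induction_on with | mk g =>
  rw [ProjGenLinGroup.map_mk]
  obtain ⟨c, hc⟩ := isSquare_map_of_even f hodd m hm hK ((GeneralLinearGroup.det g : Kˣ) : K)
  have hc0 : c ≠ 0 := by
    rintro rfl
    rw [mul_zero] at hc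
    exact (GeneralLinearGroup.det g).ne_zero ((map_eq_zero f).1 hc)
  apply mk_mem_range_toPGL _ (Units.mk0 c hc0)⁻¹
  rw [GeneralLinearGroup.map_det]
  apply Units.ext
  rw [Units.val_mul, Units.val_pow_eq_pow_val, Units.val_inv_eq_inv_val, Units.val_mk0, Units.coe_map,
    Units.val_one]
  show c⁻¹ ^ 2 * f ((GeneralLinearGroup.det g : Kˣ) : K) = 1
  rw [hc]
  field_simp

theorem range_psi_le_of_even (b₁ : F) (hb : b₁ ≠ 0) (f : K →+* F) (hodd : Odd (Fintype.card F)) (m : ℕ)
    (hm : Even m) (hK : Fintype.card K ^ m = Fintype.card F) :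
    (psi b₁ hb f).range ≤ (iot F).range := by
  rintro _ ⟨y, rfl⟩
  rw [psi_apply]
  exact range_normal.conj_mem _ (map_mem_range_of_even f hodd m hm hK y) _

/-- a unipotent element of a subgroup in the subfield configuration lies in the subfield subgroup -/
theorem unip_mem_SE (h2 : (2 : F) ≠ 0) {Ht : Subgroup (SpecialLinearGroup (Fin 2) F)} {b₁ : F}
    {w : SpecialLinearGroup (Fin 2) F} (c : Cfg Ht b₁ w) (g : SpecialLinearGroup (Fin 2) F) (hg : g ∈ Ht)
    (ht : (g : Matrix (Fin 2) (Fin 2) F).trace = 2) : g ∈ SE (multField Ht) b₁ c.hb₁ := by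
  obtain ⟨lam, hlam, c00, hc00, c01, hc01, c10, hc10, c11, hc11, e00, e01, e10, e11⟩ := c.core g hg
  have hb := c.hb₁
  rw [Matrix.trace_fin_two, e00, e11] at ht
  have hs : c00 + c11 ≠ 0 := by
    intro h
    apply h2
    rw [← ht]
    linear_combination lam * h
  have h2K : (2 : F) ∈ multField Ht := by
    have : (2 : F) = 1 + 1 := by norm_num
    rw [this]
    exact (multField Ht).add_mem (multField Ht).one_mem (multField Ht).one_mem
  have hl : lam ∈ multField Ht := by
    have : lam = 2 / (c00 + c11) := by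
      field_simp
      linear_combination ht
    rw [this]
    exact (multField Ht).div_mem h2K ((multField Ht).add_mem hc00 hc11)
  rw [mem_SE]
  refine ⟨?_, ?_, ?_, ?_⟩
  · rw [e00]; exact (multField Ht).mul_mem hl hc00
  · rw [e01, mul_div_assoc, div_self hb, mul_one]; exact (multField Ht).mul_mem hl hc01
  · rw [e10]; exact (multField Ht).mul_mem hl hc10
  · rw [e11]; exact (multField Ht).mul_mem hl hc11

end fin

end Cfsg.Agent.Lib.Helper15.Pg
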