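import Mathlib
import Cfsg.Agent.Lib.Helper15.Pg10

/-!
# Maximal subgroups of `PGL₂(q)`, part 11: the subfield case
-/

set_option autoImplicit false

open scoped Pointwise

namespace Cfsg.Agent.Lib.Helper15.Pg

open Matrix
open Cfsg.Agent.Lib.Helper14
open Cfsg.Agent.Lib.Helper15
open Cfsg.Agent.Lib.Helper15.Dk
open Cfsg.Agent.Lib.Helper15.Mx

variable {F : Type*} [Field F] [Fintype F]

/-- the subfield case -/
theorem case_cfg (hodd : Odd (Fintype.card F)) (h5 : 5 ≤ Fintype.card F)
    {M : Subgroup (ProjGenLinGroup (Fin 2) F)} (hM : IsMax M) (b₁ : F) (w : SpecialLinearGroup (Fin 2) F)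
    (c : Cfg ((M.comap (iot F)).comap (toPSL2 F)) b₁ w) : PGList F M := by
  have h2 := Mx.two_ne_zero_of_odd hodd
  set H := M.comap (iot F) with hH
  set Ht := H.comap (toPSL2 F) with hHt
  set K₀ := multField Ht with hK₀
  have hb := c.hb₁
  obtain ⟨K, i1, i2, m, f, hm, hf⟩ := exists_type_field K₀
  have hlowSE : ∀ g, g ∈ SE K₀ b₁ hb → g ∈ Ht := by
    rintro g ⟨g00, g01, g10, g11⟩
    exact c.lower g _ _ _ _ g00 g01 g10 g11 rfl (div_mul_cancel₀ _ hb).symm
      (mul_div_cancel_right₀ _ hb).symm rfl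
  have hK₀top : K₀ ≠ ⊤ := by
    intro htop
    apply hM.comap_ne_top
    rw [eq_top_iff]
    intro x _
    obtain ⟨g, rfl⟩ := toPSL2_surjective x
    have : g ∈ Ht := by
      apply hlowSE
      rw [mem_SE, htop]
      exact ⟨Subfield.mem_top _, Subfield.mem_top _, Subfield.mem_top _, Subfield.mem_top _⟩
    exact this
  have hcardK : Nat.card K₀ = Fintype.card K := by
    rw [← Nat.card_eq_fintype_card]
    symm
    apply Nat.card_congr
    exact Equiv.ofBijective (fun k : K => (⟨f k, (hf _).2 ⟨k, rfl⟩⟩ : K₀))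
      ⟨fun a b hab => f.injective (congrArg Subtype.val hab),
       fun ⟨x, hx⟩ => by
        obtain ⟨k, hk⟩ := (hf x).1 hx
        exact ⟨k, Subtype.ext hk⟩⟩
  have hK1 : 1 < Fintype.card K := Fintype.one_lt_card
  have hF1 : 1 < Fintype.card F := Fintype.one_lt_card
  have hm2 : 2 ≤ m := by
    by_contra hlt
    have : m = 0 ∨ m = 1 := by omega
    rcases this with rfl | rfl
    · rw [pow_zero] at hm
      omega
    · rw [pow_one] at hm
      apply hK₀top
      rw [eq_top_iff]
      intro x _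
      have hbij : Function.Bijective f :=
        (Fintype.bijective_iff_injective_and_card f).2 ⟨f.injective, hm⟩
      obtain ⟨k, hk⟩ := hbij.2 x
      exact (hf x).2 ⟨k, hk⟩
  -- conjugation by elements of `M` preserves `Ht`
  have hconj : ∀ P : GL (Fin 2) F, ProjGenLinGroup.mk P ∈ M → ∀ g ∈ Ht, glSL P g ∈ Ht := by
    intro P hP g hg
    have h1 : glAut P (toPSL2 F g) ∈ H := by
      rw [hH, Subgroup.mem_comap, ← conj_iot]
      exact M.mul_mem (M.mul_mem hP hg) (M.inv_mem hP)
    rw [glAut_toPSL2] at h1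
    exact h1
  -- the key inclusion
  have hkey : ∀ E : Subfield F, K₀ ≤ E → ∀ (K' : Type) (_ : Field K') (f' : K' →+* F),
      (∀ x : F, x ∈ E ↔ ∃ k : K', f' k = x) → M ≤ (psi b₁ hb f').range := by
    intro E hKE K' _ f' hf' t ht
    induction t using ProjGenLinGroup.induction_on with | mk P =>
    have hu1 : glSL P (uu b₁) ∈ SE E b₁ hb := by
      apply SE_mono hKE
      apply unip_mem_SE h2 c _ (hconj P ht _ c.hu)
      rw [trace_glSL, uu_trace]
    have hu2 : glSL P (ll (1 / b₁)) ∈ SE E b₁ hb := by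
      apply SE_mono hKE
      apply unip_mem_SE h2 c _ (hconj P ht _ (hlowSE _ (ll_mem_SE K₀ b₁ hb)))
      rw [trace_glSL, ll_trace]
    have hu3 : glSL P (u3 b₁ hb) ∈ SE E b₁ hb := by
      apply SE_mono hKE
      apply unip_mem_SE h2 c _ (hconj P ht _ (hlowSE _ (u3_mem_SE K₀ b₁ hb)))
      rw [trace_glSL, u3_trace]
    obtain ⟨u, hu, p00, p01, p10, p11⟩ := exists_scalar_of_conj h2 E b₁ hb P hu1 hu2 hu3
    obtain ⟨k00, hk00⟩ := (hf' _).1 p00
    obtain ⟨k01, hk01⟩ := (hf' _).1 p01
    obtain ⟨k10, hk10⟩ := (hf' _).1 p10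
    obtain ⟨k11, hk11⟩ := (hf' _).1 p11
    apply mk_mem_range_psi_of_entries b₁ hb f' P u hu k00 k01 k10 k11
    · rw [hk00]; field_simp
    · rw [hk01]; field_simp
    · rw [hk10]; field_simp
    · rw [hk11]; field_simp
  have hMR : M ≤ (psi b₁ hb f).range := hkey K₀ le_rfl K i1 f hf
  have hRtop : (psi b₁ hb f).range ≠ ⊤ := by
    intro htop
    apply hK₀top
    rw [eq_top_iff]
    intro x _
    by_cases hx : x = 0
    · rw [hx]; exact K₀.zero_mem
    · have h1 : ProjGenLinGroup.mk (Dmat x hx) ∈ (psi b₁ hb f).range := by rw [htop]; exact Subgroup.mem_top _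
      exact (hf x).2 (of_diag_mem_range_psi b₁ hb f x hx h1)
  have hMeq : M = (psi b₁ hb f).range := by
    rcases eq_or_lt_of_le hMR with h | h
    · exact h
    · exact absurd (hM.coatom.2 _ h) hRtop
  have hmp : m.Prime := by
    by_contra hnp
    obtain ⟨a, ha, ha2, ham⟩ := Nat.exists_dvd_of_not_prime2 hm2 hnp
    obtain ⟨b, hb'⟩ := ha
    have hb2 : 1 < b := by
      by_contra hlt
      have : b = 0 ∨ b = 1 := by omega
      rcases this with rfl | rfl
      · omega
      · omega
    obtain ⟨E, hE1, hE2, hE3⟩ := exists_intermediate_subfield K₀ m a b (by rw [hcardK, hm]) hb'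
      (by omega) hb2
    obtain ⟨K', j1, j2, m', f', -, hf'⟩ := exists_type_field E
    have hMR' := hkey E hE1 K' j1 f' hf'
    obtain ⟨x, hxE, hxK⟩ : ∃ x ∈ E, x ∉ K₀ := by
      by_contra hcon
      push Not at hcon
      exact hE2 (le_antisymm hcon hE1)
    have hx0 : x ≠ 0 := by
      rintro rfl
      exact hxK K₀.zero_mem
    have hdx : ProjGenLinGroup.mk (Dmat x hx0) ∈ (psi b₁ hb f').range :=
      diag_mem_range_psi b₁ hb f' x hx0 _ ((hf' x).1 hxE).choose_spec
    rcases eq_or_lt_of_le hMR' with h | h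
    · rw [← h, hMeq] at hdx
      exact hxK ((hf x).2 (of_diag_mem_range_psi b₁ hb f x hx0 hdx))
    · have htop := hM.coatom.2 _ h
      apply hE3
      rw [eq_top_iff]
      intro y _
      by_cases hy : y = 0
      · rw [hy]; exact E.zero_mem
      · have h1 : ProjGenLinGroup.mk (Dmat y hy) ∈ (psi b₁ hb f').range := by
          rw [htop]; exact Subgroup.mem_top _
        exact (hf' y).2 (of_diag_mem_range_psi b₁ hb f' y hy h1)
  have hmodd : Odd m := by
    by_contra hne
    rw [Nat.not_odd_iff_even] at hne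
    obtain ⟨t, htM, htL⟩ := hM.exists_not_mem hodd
    apply htL
    apply range_psi_le_of_even b₁ hb f hodd m hne hm
    rw [← hMeq]
    exact htM
  right; right; right; right
  refine ⟨K, i1, i2, m, hmp, hmodd, hm.symm, ?_⟩
  exact ⟨(MulEquiv.subgroupCongr hMeq).trans (MonoidHom.ofInjective (psi_injective b₁ hb f)).symm⟩

end Cfsg.Agent.Lib.Helper15.Pg
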