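import Mathlib
import Cfsg.Agent.Lib.Helper15.Pg11

/-!
# Maximal subgroups of `PGL₂(q)`, part 12: a further refinement of Dickson's theorem
(`A₅` does not occur in characteristic five outside the subfield configuration)
-/

set_option autoImplicit false

open scoped Pointwise

namespace Cfsg.Agent.Lib.Helper15.Pg

open Matrix
open Cfsg.Agent.Lib.Helper14
open Cfsg.Agent.Lib.Helper15
open Cfsg.Agent.Lib.Helper15.Dk
open Cfsg.Agent.Lib.Helper15.Mx

variable {F : Type*} [Field F] [Fintype F]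

omit [Fintype F] in
theorem fact60_five : (60 : ℕ).factorization 5 = 1 := by
  have h : (60 : ℕ) = 5 ^ 1 * 12 := by norm_num
  rw [h, Nat.factorization_mul (by norm_num) (by norm_num), Nat.Prime.factorization_pow (by norm_num)]
  have : (12 : ℕ).factorization 5 = 0 := Nat.factorization_eq_zero_of_not_dvd (by norm_num)
  simp [this]

variable (p : ℕ) [Fact p.Prime] [CharP F p]

/-- the refined normalized situation, with `p ≠ 5` in the `A₅` case -/
theorem dickson_aux_refined5 (H : Subgroup (ProjectiveSpecialLinearGroup (Fin 2) F)) (b₁ : F) (hb₁ : b₁ ≠ 0)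
    (hH : toPSL2 F (uu b₁) ∈ H) (w : SpecialLinearGroup (Fin 2) F) (hw : toPSL2 F w ∈ H)
    (hw0 : (w : Matrix (Fin 2) (Fin 2) F) 0 0 = 0) :
    Cfg (H.comap (toPSL2 F)) b₁ w ∨ HasNormalTorus H ∨
      (Nonempty (H ≃* alternatingGroup (Fin 5)) ∧ p ≠ 2 ∧ p ≠ 5) := by
  rcases dickson_aux_refined p H b₁ hb₁ hH w hw hw0 with h | h | ⟨⟨hA5⟩, hp2⟩
  · exact Or.inl h
  · exact Or.inr (Or.inl h)
  · by_cases hp5 : p = 5
    · left
      have hyp := pHyp_QH p H b₁ hb₁ hH
      have hw10 : (w : Matrix (Fin 2) (Fin 2) F) 1 0 ≠ 0 := by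
        intro h
        have hd := det_eq w
        rw [hw0, h, zero_mul, mul_zero, sub_zero] at hd
        exact zero_ne_one hd
      have hnn : ¬ (QH H).Normal := by
        intro hn
        have h1 : (⟨toPSL2 F w, hw⟩ : ↥H) ∈ Subgroup.normalizer ((QH H : Subgroup ↥H) : Set ↥H) := by
          rw [Subgroup.normalizer_eq_top_iff.2 hn]
          exact Subgroup.mem_top _
        exact hw10 (isB_of_normalizes H b₁ hb₁ hH _ h1 w rfl)
      have hcfg : (partH H).oi ((partH H).orb ⟨QH H, hyp.hQ⟩) = Nat.card (QH H) + 1 →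
          Cfg (H.comap (toPSL2 F)) b₁ w := fun hN =>
        { hb₁ := hb₁
          hu := hH
          hw := hw
          hw0 := hw0
          h3 := fun g hg h10 => h3_of_card p H b₁ hb₁ hH w hw hw0 hN g hg h10 }
      apply hcfg
      subst hp5
      have h60 : Nat.card H = 60 := by rw [Nat.card_congr hA5.toEquiv, card_A5]
      obtain ⟨S, hS⟩ := hyp.syl
      have hQ5 : Nat.card (QH H) = 5 := by
        rw [← hS, Sylow.card_eq_multiplicity, h60, fact60_five]
        norm_num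
      obtain ⟨t, ht⟩ := hyp.card_orbit_mod
      rw [← (partH H).oi_orb] at ht
      have h2 := hyp.two_le_orbit hnn
      have hmul := (partH H).oi_mul_on ((partH H).orb ⟨QH H, hyp.hQ⟩)
      rw [h60] at hmul
      set N := (partH H).oi ((partH H).orb ⟨QH H, hyp.hQ⟩) with hN
      have hdvd : N ∣ 60 := Dvd.intro _ hmul
      have hle : N ≤ 60 := Nat.le_of_dvd (by norm_num) hdvd
      rw [hQ5] at ht ⊢
      clear_value N
      interval_cases N <;> omega
    · right; right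
      exact ⟨⟨hA5⟩, hp2, hp5⟩

/-- Dickson's theorem, refined, for subgroups of order divisible by `p` -/
theorem dickson_refined5 (H : Subgroup (ProjectiveSpecialLinearGroup (Fin 2) F)) (hp : p ∣ Nat.card ↥H) :
    ∃ x : ProjectiveSpecialLinearGroup (Fin 2) F,
      HasNormalP p (MulAut.conj x • H) ∨
      (∃ (b₁ : F) (w : SpecialLinearGroup (Fin 2) F), Cfg ((MulAut.conj x • H).comap (toPSL2 F)) b₁ w) ∨
      HasNormalTorus (MulAut.conj x • H) ∨
      (Nonempty ((MulAut.conj x • H : Subgroup (ProjectiveSpecialLinearGroup (Fin 2) F)) ≃*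
        alternatingGroup (Fin 5)) ∧ p ≠ 2 ∧ p ≠ 5) := by
  obtain ⟨S⟩ : Nonempty (Sylow p ↥H) := inferInstance
  have hS1 : (S : Subgroup ↥H) ≠ ⊥ := by
    intro h
    have h1 : Nat.card (S : Subgroup ↥H) = 1 := by rw [h]; exact Subgroup.card_bot
    rw [Sylow.card_eq_multiplicity] at h1
    have h2 : 0 < (Nat.card ↥H).factorization p :=
      (Fact.out : p.Prime).factorization_pos_of_dvd Nat.card_pos.ne' hp
    have h3 : 1 < p ^ (Nat.card ↥H).factorization p :=
      Nat.one_lt_pow h2.ne' (Fact.out : p.Prime).one_lt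
    omega
  have hSp : IsPGroup p ((S : Subgroup ↥H).map H.subtype) := S.2.map _
  obtain ⟨S₂, hS₂⟩ := hSp.exists_le_sylow
  obtain ⟨c, hc⟩ := MulAction.exists_smul_eq (ProjectiveSpecialLinearGroup (Fin 2) F) S₂ (UbarSylow p)
  set H₁ : Subgroup (ProjectiveSpecialLinearGroup (Fin 2) F) := MulAut.conj c • H with hH₁
  obtain ⟨x, hxS, hx1⟩ : ∃ x : ↥H, x ∈ (S : Subgroup ↥H) ∧ x ≠ 1 := by
    obtain ⟨x, hx⟩ := (Subgroup.ne_bot_iff_exists_ne_one (H := (S : Subgroup ↥H))).1 hS1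
    exact ⟨(x : ↥H), x.2, fun h => hx (Subtype.ext h)⟩
  have hxU : c * (x : ProjectiveSpecialLinearGroup (Fin 2) F) * c⁻¹ ∈ Ubar F := by
    rw [← coe_UbarSylow p, ← hc, Sylow.coe_subgroup_smul, mem_conj_smul]
    apply hS₂
    refine ⟨x, hxS, ?_⟩
    simp [mul_assoc]
  have hxH₁ : c * (x : ProjectiveSpecialLinearGroup (Fin 2) F) * c⁻¹ ∈ H₁ := by
    rw [hH₁, mem_conj_smul]
    have : c⁻¹ * (c * (x : ProjectiveSpecialLinearGroup (Fin 2) F) * c⁻¹) * c = x := by group
    rw [this]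
    exact x.2
  obtain ⟨k, hk⟩ := toPSL2_surjective (c * (x : ProjectiveSpecialLinearGroup (Fin 2) F) * c⁻¹)
  have hkUT : IsUT k := by
    rw [← mem_Ubar_iff, hk]
    exact hxU
  have hkns : ¬ IsScalar2 (k : Matrix (Fin 2) (Fin 2) F) := by
    intro hs
    have h1 : toPSL2 F k = 1 := (toPSL2_eq_one_iff' k).2 hs
    rw [hk] at h1
    apply hx1
    apply Subtype.ext
    have : (x : ProjectiveSpecialLinearGroup (Fin 2) F) = c⁻¹ * (c * (x : ProjectiveSpecialLinearGroup (Fin 2) F) * c⁻¹) * c := by group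
    rw [this, h1]
    simp
  set b₁ : F := (k : Matrix (Fin 2) (Fin 2) F) 0 0 * (k : Matrix (Fin 2) (Fin 2) F) 0 1 with hb₁def
  have hb₁ : b₁ ≠ 0 := by
    have hsq := hkUT.sq
    intro h0
    apply hkns
    have h00 : (k : Matrix (Fin 2) (Fin 2) F) 0 0 ≠ 0 := by
      intro h
      rw [h, mul_zero] at hsq
      exact zero_ne_one hsq
    have h01 : (k : Matrix (Fin 2) (Fin 2) F) 0 1 = 0 := (mul_eq_zero.1 h0).resolve_left h00
    exact ⟨h01, hkUT.1, hkUT.2⟩
  have hH : toPSL2 F (uu b₁) ∈ H₁ := by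
    rw [hb₁def, ← isUT_toPSL2 k hkUT, hk]
    exact hxH₁
  by_cases hn : (QH H₁).Normal
  · -- the Borel case
    refine ⟨c, Or.inl ⟨Ubar F ⊓ H₁, inf_le_right, (isPGroup_Ubar p).to_le inf_le_left, ?_, ?_⟩⟩
    · intro hbot
      have h1 : toPSL2 F (uu b₁) ∈ Ubar F ⊓ H₁ := ⟨(mem_Ubar_iff _).2 (isUT_uu b₁), hH⟩
      rw [hbot, Subgroup.mem_bot] at h1
      exact uu_not_scalar b₁ hb₁ ((toPSL2_eq_one_iff' _).1 h1)
    · intro m hm s hs
      refine ⟨?_, H₁.mul_mem (H₁.mul_mem hm hs.2) (H₁.inv_mem hm)⟩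
      have h1 : (⟨s, hs.2⟩ : ↥H₁) ∈ QH H₁ := Subgroup.mem_subgroupOf.2 hs.1
      have h2 := hn.conj_mem _ h1 ⟨m, hm⟩
      exact Subgroup.mem_subgroupOf.1 h2
  · -- the main case: find an element outside the Borel subgroup
    have hex : ∃ g : SpecialLinearGroup (Fin 2) F, toPSL2 F g ∈ H₁ ∧
        (g : Matrix (Fin 2) (Fin 2) F) 1 0 ≠ 0 := by
      by_contra hcon
      simp only [not_exists, not_and, not_not] at hcon
      apply hn
      rw [← Subgroup.normalizer_eq_top_iff]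
      rw [eq_top_iff]
      intro z _
      obtain ⟨m, hm⟩ := toPSL2_surjective (z : ProjectiveSpecialLinearGroup (Fin 2) F)
      exact normalizes_of_isB H₁ z m hm (hcon m (by rw [hm]; exact z.2))
    obtain ⟨g, hgH, hg10⟩ := hex
    set r : F := (g : Matrix (Fin 2) (Fin 2) F) 0 0 / (g : Matrix (Fin 2) (Fin 2) F) 1 0 with hr
    set H₂ : Subgroup (ProjectiveSpecialLinearGroup (Fin 2) F) :=
      MulAut.conj (toPSL2 F (uu (-r))) • H₁ with hH₂
    have hH₂' : H₂ = MulAut.conj (toPSL2 F (uu (-r)) * c) • H := by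
      rw [hH₂, hH₁, map_mul, mul_smul]
    have hmemH₂ : ∀ m : SpecialLinearGroup (Fin 2) F, toPSL2 F m ∈ H₁ →
        toPSL2 F (uu (-r) * m * (uu (-r))⁻¹) ∈ H₂ := by
      intro m hm
      rw [hH₂, mem_conj_smul, map_mul, map_mul, map_inv]
      have : (toPSL2 F (uu (-r)))⁻¹ * (toPSL2 F (uu (-r)) * toPSL2 F m * (toPSL2 F (uu (-r)))⁻¹) *
          toPSL2 F (uu (-r)) = toPSL2 F m := by group
      rw [this]
      exact hm
    have hu₂ : toPSL2 F (uu b₁) ∈ H₂ := by
      have := hmemH₂ (uu b₁) hH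
      rwa [uu_conj_comm] at this
    have haux := dickson_aux_refined5 p H₂ b₁ hb₁ hu₂ (uu (-r) * g * (uu (-r))⁻¹) (hmemH₂ g hgH) (by
      rw [uu_inv, Matrix.SpecialLinearGroup.coe_mul, Matrix.SpecialLinearGroup.coe_mul]
      simp [uu, Matrix.mul_apply, Fin.sum_univ_two, Matrix.vecMul, dotProduct]
      rw [hr]
      field_simp
      ring)
    refine ⟨toPSL2 F (uu (-r)) * c, ?_⟩
    rw [← hH₂']
    rcases haux with h | h | h
    · exact Or.inr (Or.inl ⟨_, _, h⟩)
    · exact Or.inr (Or.inr (Or.inl h))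
    · exact Or.inr (Or.inr (Or.inr h))

end Cfsg.Agent.Lib.Helper15.Pg
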