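import Mathlib
import Cfsg.Agent.Lib.Helper15.Pg12

/-!
# Maximal subgroups of `PGL₂(q)`, part 13: Dickson's theorem for `p'`-subgroups of `PGL₂(q)`
-/

set_option autoImplicit false

open scoped Pointwise

namespace Cfsg.Agent.Lib.Helper15.Pg

open Matrix
open Cfsg.Agent.Lib.Helper14
open Cfsg.Agent.Lib.Helper15
open Cfsg.Agent.Lib.Helper15.Dk
open Cfsg.Agent.Lib.Helper15.Mx

/-- the property "non-involutions commute" -/
def NonInvComm {G : Type*} [Group G] (X : Subgroup G) : Prop :=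
  ∀ z ∈ X, ∀ w ∈ X, z * z ≠ 1 → w * w ≠ 1 → z * w = w * z

theorem noncomm_A4 : ∃ c₁ c₂ : alternatingGroup (Fin 4), c₁ * c₁ ≠ 1 ∧ c₂ * c₂ ≠ 1 ∧ c₁ * c₂ ≠ c₂ * c₁ := by
  refine ⟨⟨c[0, 1, 2], by rw [Equiv.Perm.mem_alternatingGroup]; decide⟩,
    ⟨c[0, 1, 3], by rw [Equiv.Perm.mem_alternatingGroup]; decide⟩, ?_, ?_, ?_⟩ <;>
  · intro h
    have := congrArg Subtype.val h
    revert this
    decide

theorem noncomm_S4 : ∃ c₁ c₂ : Equiv.Perm (Fin 4), c₁ * c₁ ≠ 1 ∧ c₂ * c₂ ≠ 1 ∧ c₁ * c₂ ≠ c₂ * c₁ := by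
  refine ⟨c[0, 1, 2], c[0, 1, 3], ?_, ?_, ?_⟩ <;> decide

theorem noncomm_A5 : ∃ c₁ c₂ : alternatingGroup (Fin 5), c₁ * c₁ ≠ 1 ∧ c₂ * c₂ ≠ 1 ∧ c₁ * c₂ ≠ c₂ * c₁ := by
  refine ⟨⟨c[0, 1, 2], by rw [Equiv.Perm.mem_alternatingGroup]; decide⟩,
    ⟨c[0, 1, 3], by rw [Equiv.Perm.mem_alternatingGroup]; decide⟩, ?_, ?_, ?_⟩ <;>
  · intro h
    have := congrArg Subtype.val h
    revert this
    decide

/-- a subgroup containing a copy of a group with two non-commuting non-involutions does not have the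
property `NonInvComm` -/
theorem not_nonInvComm {G : Type*} [Group G] (X A : Subgroup G) (hAX : A ≤ X) {Y : Type*} [Group Y]
    (e : A ≃* Y) (hY : ∃ c₁ c₂ : Y, c₁ * c₁ ≠ 1 ∧ c₂ * c₂ ≠ 1 ∧ c₁ * c₂ ≠ c₂ * c₁) : ¬ NonInvComm X := by
  intro h
  obtain ⟨c₁, c₂, h1, h3, h5⟩ := hY
  have key := h _ (hAX (e.symm c₁).2) _ (hAX (e.symm c₂).2) ?_ ?_
  · apply h5
    have h7 : e.symm c₁ * e.symm c₂ = e.symm c₂ * e.symm c₁ := Subtype.ext key
    rw [← map_mul, ← map_mul] at h7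
    exact e.symm.injective h7
  · intro h7
    apply h1
    have h8 : e.symm c₁ * e.symm c₁ = 1 := Subtype.ext h7
    rw [← map_mul] at h8
    have := e.symm.injective (h8.trans (map_one e.symm).symm)
    exact this
  · intro h7
    apply h3
    have h8 : e.symm c₂ * e.symm c₂ = 1 := Subtype.ext h7
    rw [← map_mul] at h8
    have := e.symm.injective (h8.trans (map_one e.symm).symm)
    exact this

section psl
variable {F : Type*} [Field F] [Fintype F]

/-- in a subgroup with a normal torus, the non-involutions commute -/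
theorem nonInvComm_of_hasNormalTorus (X : Subgroup (ProjectiveSpecialLinearGroup (Fin 2) F))
    (h : HasNormalTorus X) : NonInvComm X := by
  obtain ⟨g, hg, ht, -, hnorm⟩ := h
  have hXN := le_normalizer_Tor_of_normal X g hg hnorm
  obtain ⟨hcyc, -, -, hprop⟩ := torus_normalizer g hg ht
  intro z hz w hw hz2 hw2
  have hzT : z ∈ Tor g := by
    by_contra hc
    exact hz2 (hprop z (hXN hz) hc).1
  have hwT : w ∈ Tor g := by
    by_contra hc
    exact hw2 (hprop w (hXN hw) hc).1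
  have := hcyc.commGroup.mul_comm (⟨z, hzT⟩ : Tor g) ⟨w, hwT⟩
  exact congrArg Subtype.val this

end psl

theorem NonInvComm.of_equiv {G G' : Type*} [Group G] [Group G'] {X : Subgroup G} {X' : Subgroup G'}
    (e : X ≃* X') (h : NonInvComm X') : NonInvComm X := by
  intro z hz w hw hz2 hw2
  have key := h _ (e ⟨z, hz⟩).2 _ (e ⟨w, hw⟩).2 ?_ ?_
  · have h7 : e ⟨z, hz⟩ * e ⟨w, hw⟩ = e ⟨w, hw⟩ * e ⟨z, hz⟩ := Subtype.ext key
    rw [← map_mul, ← map_mul] at h7
    exact congrArg Subtype.val (e.injective h7)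
  · intro h7
    apply hz2
    have h8 : e ⟨z, hz⟩ * e ⟨z, hz⟩ = 1 := Subtype.ext h7
    rw [← map_mul] at h8
    exact congrArg Subtype.val (e.injective (h8.trans (map_one e).symm))
  · intro h7
    apply hw2
    have h8 : e ⟨w, hw⟩ * e ⟨w, hw⟩ = 1 := Subtype.ext h7
    rw [← map_mul] at h8
    exact congrArg Subtype.val (e.injective (h8.trans (map_one e).symm))

variable {F : Type*} [Field F] [Fintype F]

/-- Dickson's theorem for `p'`-subgroups of `PGL₂(q)`, `q` odd -/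
theorem dickson_pgl_coprime (p : ℕ) [Fact p.Prime] [CharP F p] (hodd : Odd (Fintype.card F))
    (M : Subgroup (ProjGenLinGroup (Fin 2) F)) (hp : ¬ p ∣ Nat.card M) :
    Nat.card M = 1 ∨ NonInvComm M ∨ Nonempty (M ≃* alternatingGroup (Fin 4)) ∨
      Nonempty (M ≃* Equiv.Perm (Fin 4)) ∨ Nonempty (M ≃* alternatingGroup (Fin 5)) := by
  obtain ⟨F₂, i1, i2, f, hK⟩ := exists_quadratic_ext (F := F)
  have hodd₂ : Odd (Fintype.card F₂) := by rw [← hK]; exact hodd.pow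
  have : CharP F₂ p := charP_of_injective_ringHom f.injective p
  obtain ⟨M₂, e, -⟩ := exists_transfer f hodd₂ hK M
  have hc : Nat.card M₂ = Nat.card M := (Nat.card_congr e.toEquiv).symm
  rcases dickson_coprime_refined p M₂ (by rw [hc]; exact hp) with h | h | ⟨⟨e'⟩⟩ | ⟨⟨e'⟩⟩ | ⟨⟨e'⟩⟩
  · left; rw [← hc]; exact h
  · right; left
    exact (nonInvComm_of_hasNormalTorus M₂ h).of_equiv e
  · exact Or.inr (Or.inr (Or.inl ⟨e.trans e'⟩))
  · exact Or.inr (Or.inr (Or.inr (Or.inl ⟨e.trans e'⟩)))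
  · exact Or.inr (Or.inr (Or.inr (Or.inr ⟨e.trans e'⟩)))

end Cfsg.Agent.Lib.Helper15.Pg
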