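import Mathlib
import Cfsg.Agent.Lib.Helper15.Pg13

/-!
# Maximal subgroups of `PGL₂(q)`, part 14: the trivial case and the small cases in coprime characteristic
-/

set_option autoImplicit false

open scoped Pointwise

namespace Cfsg.Agent.Lib.Helper15.Pg

open Matrix
open Cfsg.Agent.Lib.Helper14
open Cfsg.Agent.Lib.Helper15
open Cfsg.Agent.Lib.Helper15.Dk
open Cfsg.Agent.Lib.Helper15.Mx

variable {F : Type*} [Field F] [Fintype F]

instance finite_pgl : Finite (ProjGenLinGroup (Fin 2) F) :=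
  Finite.of_surjective _ ProjGenLinGroup.mk_surjective

omit [Field F] [Fintype F] in
theorem eight_dvd_of_odd (q : ℕ) (hq : Odd q) : 8 ∣ q * (q ^ 2 - 1) := by
  obtain ⟨j, rfl⟩ := hq
  have h1 : (2 * j + 1) ^ 2 - 1 = 4 * (j * (j + 1)) := by
    have : (2 * j + 1) ^ 2 = 4 * (j * (j + 1)) + 1 := by ring
    omega
  rw [h1]
  obtain ⟨k, hk⟩ := Nat.even_mul_succ_self j
  rw [hk]
  exact ⟨(2 * j + 1) * k, by ring⟩

/-- the intersection with `PSL₂` is not trivial -/
theorem case_trivial (hodd : Odd (Fintype.card F)) (h5 : 5 ≤ Fintype.card F)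
    {M : Subgroup (ProjGenLinGroup (Fin 2) F)} (hM : IsMax M)
    (h1 : Nat.card (M.comap (iot F)) = 1) : False := by
  have hcM : Nat.card M = 2 := by rw [hM.card_eq hodd, h1]
  have hpM : IsPGroup 2 M := IsPGroup.of_card (n := 1) (by rw [hcM, pow_one])
  obtain ⟨D, hD⟩ := hpM.exists_le_sylow
  have hcG := card_PGL2 (F := F)
  have h8 := eight_dvd_of_odd _ hodd
  rw [← hcG] at h8
  have hcD : Nat.card D = 2 ^ (Nat.card (ProjGenLinGroup (Fin 2) F)).factorization 2 :=
    Sylow.card_eq_multiplicity D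
  have hfac : 3 ≤ (Nat.card (ProjGenLinGroup (Fin 2) F)).factorization 2 := by
    have h83 : (2 : ℕ) ^ 3 ∣ Nat.card (ProjGenLinGroup (Fin 2) F) := by norm_num; exact h8
    exact (Nat.Prime.pow_dvd_iff_le_factorization Nat.prime_two Nat.card_pos.ne').1 h83
  have hD8 : 8 ≤ Nat.card D := by
    rw [hcD]
    calc 8 = 2 ^ 3 := by norm_num
      _ ≤ _ := Nat.pow_le_pow_right (by norm_num) hfac
  rcases eq_or_lt_of_le hD with h | h
  · have : Nat.card M = Nat.card D := by rw [h]
    omega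
  · have htop := hM.coatom.2 _ h
    have hcD' : Nat.card D = Nat.card (ProjGenLinGroup (Fin 2) F) := by
      show Nat.card (D : Subgroup (ProjGenLinGroup (Fin 2) F)) = _
      rw [htop, Subgroup.card_top]
    rw [hcD, hcG] at hcD'
    have hq : Fintype.card F ∣ 2 ^ (Nat.card (ProjGenLinGroup (Fin 2) F)).factorization 2 := by
      rw [hcG, hcD']
      exact Dvd.intro _ rfl
    have hcop : Nat.Coprime (Fintype.card F) (2 ^ (Nat.card (ProjGenLinGroup (Fin 2) F)).factorization 2) := by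
      apply Nat.Coprime.pow_right
      exact Nat.coprime_two_right.mpr hodd
    have := Nat.Coprime.eq_one_of_dvd hcop hq
    omega

omit [Fintype F] in
/-- the copy of the intersection inside `PGL₂` -/
theorem map_comap_le' (M : Subgroup (ProjGenLinGroup (Fin 2) F)) :
    (M.comap (iot F)).map (iot F) ≤ M := Subgroup.map_comap_le _ _

/-- the small cases in coprime characteristic -/
theorem case_small (p : ℕ) [Fact p.Prime] [CharP F p] (hodd : Odd (Fintype.card F))
    {M : Subgroup (ProjGenLinGroup (Fin 2) F)} (hM : IsMax M) {X : Type*} [Group X]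
    (e : M.comap (iot F) ≃* X) (hX : ∃ c₁ c₂ : X, c₁ * c₁ ≠ 1 ∧ c₂ * c₂ ≠ 1 ∧ c₁ * c₂ ≠ c₂ * c₁)
    (hp : ¬ p ∣ 2 * Nat.card X) :
    Nat.card M = 2 * Nat.card X ∧ (Nonempty (M ≃* alternatingGroup (Fin 4)) ∨
      Nonempty (M ≃* Equiv.Perm (Fin 4)) ∨ Nonempty (M ≃* alternatingGroup (Fin 5))) := by
  have hcM : Nat.card M = 2 * Nat.card X := by rw [hM.card_eq hodd, Nat.card_congr e.toEquiv]
  refine ⟨hcM, ?_⟩
  let eA : (M.comap (iot F)).map (iot F) ≃* X :=
    (Subgroup.equivMapOfInjective _ (iot F) iot_injective).symm.trans e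
  rcases dickson_pgl_coprime p hodd M (by rw [hcM]; exact hp) with h | h | h
  · exfalso
    obtain ⟨c₁, c₂, -, -, h3⟩ := hX
    have : 1 < Nat.card X := by
      haveI : Finite X := Finite.of_equiv _ e.toEquiv
      rw [Finite.one_lt_card_iff_nontrivial]
      exact ⟨c₁ * c₂, c₂ * c₁, h3⟩
    omega
  · exact absurd h (not_nonInvComm M _ (map_comap_le' M) eA hX)
  · exact h

end Cfsg.Agent.Lib.Helper15.Pg
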