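import Mathlib
import Cfsg.Agent.Lib.Helper15.Pg14

/-!
# Maximal subgroups of `PGL₂(q)`, part 15: the cases `S₄`, `A₅` and the isomorphism type in the case `A₄`
-/

set_option autoImplicit false

open scoped Pointwise

namespace Cfsg.Agent.Lib.Helper15.Pg

open Matrix
open Cfsg.Agent.Lib.Helper14
open Cfsg.Agent.Lib.Helper15
open Cfsg.Agent.Lib.Helper15.Dk
open Cfsg.Agent.Lib.Helper15.Mx

/-- a group of order `120` containing `A₅` has no nontrivial normal `p`-subgroup, `p` odd -/
theorem no_normal_p_of_A5 {G : Type*} [Group G] (p : ℕ) [Fact p.Prime] (hp : 3 ≤ p) (X A S : Subgroup G)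
    [Finite X] (hcX : Nat.card X = 120) (hAX : A ≤ X) (e : A ≃* alternatingGroup (Fin 5)) (hSX : S ≤ X)
    (hS : IsPGroup p S) (hS1 : S ≠ ⊥) (hnorm : ∀ m ∈ X, ∀ s ∈ S, m * s * m⁻¹ ∈ S) : False := by
  have hcA : Nat.card A = 60 := by rw [Nat.card_congr e.toEquiv, card_A5]
  haveI : Finite A := Nat.finite_of_card_ne_zero (by rw [hcA]; norm_num)
  have : IsSimpleGroup A := e.isSimpleGroup
  haveI : Finite S := Finite.of_injective _ (Subgroup.inclusion_injective hSX)
  have hN : (S.subgroupOf A).Normal := by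
    constructor
    intro n hn g
    rw [Subgroup.mem_subgroupOf] at hn ⊢
    exact hnorm _ (hAX g.2) _ hn
  have hpr : p.Prime := Fact.out
  rcases hN.eq_bot_or_eq_top with h | h
  · -- trivial intersection
    let φ : S × A → X := fun sa => ⟨(sa.1 : G) * (sa.2 : G), X.mul_mem (hSX sa.1.2) (hAX sa.2.2)⟩
    have hφ : Function.Injective φ := by
      rintro ⟨s, a⟩ ⟨s', a'⟩ hsa
      have h1 : (s : G) * (a : G) = (s' : G) * (a' : G) := congrArg Subtype.val hsa
      have h3 : (a' : G) * (a : G)⁻¹ = (s' : G)⁻¹ * (s : G) := by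
        rw [eq_inv_mul_iff_mul_eq, ← mul_assoc, ← h1]; group
      have h5 : a' * a⁻¹ ∈ S.subgroupOf A := by
        rw [Subgroup.mem_subgroupOf]
        show (a' : G) * (a : G)⁻¹ ∈ S
        rw [h3]
        exact S.mul_mem (S.inv_mem s'.2) s.2
      rw [h, Subgroup.mem_bot] at h5
      have h7 : a' = a := by rw [mul_inv_eq_one] at h5; exact h5
      subst h7
      have h9 : (s : G) = (s' : G) := mul_right_cancel h1
      rw [Prod.mk.injEq]
      exact ⟨Subtype.ext h9, rfl⟩
    have hle := Nat.card_le_card_of_injective φ hφ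
    rw [Nat.card_prod, hcA, hcX] at hle
    obtain ⟨n, hn⟩ := hS.exists_card_eq
    have hn0 : n ≠ 0 := by
      rintro rfl
      rw [pow_zero] at hn
      exact hS1 (Subgroup.card_eq_one.1 hn)
    have : p ^ 1 ≤ p ^ n := Nat.pow_le_pow_right hpr.pos (by omega)
    rw [pow_one] at this
    omega
  · -- `A ≤ S`
    have hAS : A ≤ S := by
      intro a ha
      have : (⟨a, ha⟩ : A) ∈ S.subgroupOf A := by rw [h]; exact Subgroup.mem_top _
      exact Subgroup.mem_subgroupOf.1 this
    have hpA : IsPGroup p A := hS.to_le hAS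
    obtain ⟨n, hn⟩ := hpA.exists_card_eq
    rw [hcA] at hn
    have h2 : 2 ∣ p ^ n := by rw [← hn]; norm_num
    have h2p := (Nat.Prime.dvd_of_dvd_pow Nat.prime_two h2)
    have := (Nat.prime_dvd_prime_iff_eq Nat.prime_two hpr).1 h2p
    omega

section psl
variable {F₂ : Type*} [Field F₂] [Fintype F₂]

/-- in characteristic three there is no subgroup of order `120` of `PSL₂` containing `A₅` -/
theorem no_A5_ext_char3 [CharP F₂ 3] (X A : Subgroup (ProjectiveSpecialLinearGroup (Fin 2) F₂))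
    (hcX : Nat.card X = 120) (hAX : A ≤ X) (e : A ≃* alternatingGroup (Fin 5)) : False := by
  have : Fact (Nat.Prime 3) := ⟨Nat.prime_three⟩
  obtain ⟨x, h⟩ := dickson_refined5 3 X (by rw [hcX]; norm_num)
  set X' := MulAut.conj x • X with hX'
  set A' := MulAut.conj x • A with hA'
  have hA'X' : A' ≤ X' := by
    intro a ha
    rw [hA', mem_conj_smul] at ha
    rw [hX', mem_conj_smul]
    exact hAX ha
  have e' : A' ≃* alternatingGroup (Fin 5) := (Subgroup.equivSMul (MulAut.conj x) A).symm.trans e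
  have hcX' : Nat.card X' = 120 := by rw [hX', card_conj_smul, hcX]
  haveI : Finite X' := Nat.finite_of_card_ne_zero (by rw [hcX']; norm_num)
  rcases h with ⟨S, hSX, hS, hS1, hnorm⟩ | ⟨b₁, w, c⟩ | h | ⟨⟨e''⟩, -⟩
  · exact no_normal_p_of_A5 3 le_rfl X' A' S hcX' hA'X' e' hSX hS hS1 hnorm
  · obtain ⟨K, i1, i2, m, f, hm, hf⟩ := exists_type_field (multField (X'.comap (toPSL2 F₂)))
    have : CharP K 3 := RingHom.charP f f.injective 3
    obtain ⟨n, -, hn⟩ := FiniteField.card K 3
    have hKodd : Odd (Fintype.card K) := by rw [hn]; exact Odd.pow (by decide)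
    have hk : Fintype.card K = 3 ∨ 9 ≤ Fintype.card K := by
      rw [hn]
      by_cases h1 : (n : ℕ) = 1
      · left; rw [h1, pow_one]
      · right
        have : 2 ≤ (n : ℕ) := by have := n.pos; omega
        calc 9 = 3 ^ 2 := by norm_num
          _ ≤ 3 ^ (n : ℕ) := Nat.pow_le_pow_right (by norm_num) this
    have hbig : 9 ≤ Fintype.card K → 720 ≤ Fintype.card K * (Fintype.card K ^ 2 - 1) := by
      intro h9
      have h1 : 80 ≤ Fintype.card K ^ 2 - 1 := by
        have : 81 ≤ Fintype.card K ^ 2 := by nlinarith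
        omega
      calc 720 = 9 * 80 := by norm_num
        _ ≤ _ := Nat.mul_le_mul h9 h1
    rcases psl_or_pgl X' b₁ w c f hf with ⟨⟨e''⟩⟩ | ⟨⟨e''⟩⟩
    · have h1 := card_PSL2_of_odd hKodd
      rw [← Nat.card_congr e''.toEquiv, hcX'] at h1
      rcases hk with hk | hk
      · rw [hk] at h1; norm_num at h1
      · have := hbig hk; omega
    · have h1 := card_PGL2 (F := K)
      rw [← Nat.card_congr e''.toEquiv, hcX'] at h1
      rcases hk with hk | hk
      · rw [hk] at h1; norm_num at h1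
      · have := hbig hk; omega
  · exact not_nonInvComm X' A' hA'X' e' noncomm_A5 (nonInvComm_of_hasNormalTorus X' h)
  · have := Nat.card_congr e''.toEquiv
    rw [card_A5, hcX'] at this
    omega

end psl

variable {F : Type*} [Field F] [Fintype F]

omit [Field F] [Fintype F] in
theorem not_dvd_120 (p : ℕ) (hp : p.Prime) (h2 : p ≠ 2) (h3 : p ≠ 3) (h5 : p ≠ 5) : ¬ p ∣ 120 := by
  intro h
  have e : (120 : ℕ) = 2 ^ 3 * 3 * 5 := by norm_num
  rw [e] at h
  rcases (Nat.Prime.dvd_mul hp).1 h with h | h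
  · rcases (Nat.Prime.dvd_mul hp).1 h with h | h
    · exact h2 ((Nat.prime_dvd_prime_iff_eq hp Nat.prime_two).1 (hp.dvd_of_dvd_pow h))
    · exact h3 ((Nat.prime_dvd_prime_iff_eq hp Nat.prime_three).1 h)
  · exact h5 ((Nat.prime_dvd_prime_iff_eq hp Nat.prime_five).1 h)

/-- the case `A₅` -/
theorem case_A5 (p : ℕ) [Fact p.Prime] [CharP F p] (hodd : Odd (Fintype.card F))
    {M : Subgroup (ProjGenLinGroup (Fin 2) F)} (hM : IsMax M)
    (e : M.comap (iot F) ≃* alternatingGroup (Fin 5)) (hp5 : p ≠ 5) : False := by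
  have hpr : p.Prime := Fact.out
  have h2 := Mx.two_ne_zero_of_odd hodd
  have hp2 : p ≠ 2 := by
    rintro rfl
    apply h2
    exact CharP.ofNat_eq_zero F 2
  have hcM : Nat.card M = 120 := by rw [hM.card_eq hodd, Nat.card_congr e.toEquiv, card_A5]
  by_cases hp3 : p = 3
  · subst hp3
    obtain ⟨F₂, i1, i2, f, hK⟩ := exists_quadratic_ext (F := F)
    have hodd₂ : Odd (Fintype.card F₂) := by rw [← hK]; exact hodd.pow
    have : CharP F₂ 3 := charP_of_injective_ringHom f.injective 3
    obtain ⟨M₂, eM, -⟩ := exists_transfer f hodd₂ hK M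
    set A := (M.comap (iot F)).map (iot F) with hA
    have hAM : A ≤ M := map_comap_le' M
    let e1 : (M.comap (iot F)) ≃* A := Subgroup.equivMapOfInjective _ (iot F) iot_injective
    let e2 : A.subgroupOf M ≃* A := Subgroup.subgroupOfEquivOfLe hAM
    let e3 : A.subgroupOf M ≃* (A.subgroupOf M).map eM.toMonoidHom :=
      Subgroup.equivMapOfInjective _ eM.toMonoidHom eM.injective
    let e4 : (A.subgroupOf M).map eM.toMonoidHom ≃* ((A.subgroupOf M).map eM.toMonoidHom).map M₂.subtype :=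
      Subgroup.equivMapOfInjective _ M₂.subtype M₂.subtype_injective
    refine no_A5_ext_char3 M₂ (((A.subgroupOf M).map eM.toMonoidHom).map M₂.subtype) ?_ ?_
      (e4.symm.trans (e3.symm.trans (e2.trans (e1.symm.trans e))))
    · rw [← Nat.card_congr eM.toEquiv, hcM]
    · exact Subgroup.map_subtype_le _
  · have hnd := not_dvd_120 p hpr hp2 hp3 hp5
    obtain ⟨-, h⟩ := case_small p hodd hM e noncomm_A5 (by rw [card_A5]; exact hnd)
    rcases h with ⟨⟨e'⟩⟩ | ⟨⟨e'⟩⟩ | ⟨⟨e'⟩⟩
    · have := Nat.card_congr e'.toEquiv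
      rw [card_A4, hcM] at this
      omega
    · have := Nat.card_congr e'.toEquiv
      rw [card_S4, hcM] at this
      omega
    · have := Nat.card_congr e'.toEquiv
      rw [card_A5, hcM] at this
      omega

/-- the case `S₄` -/
theorem case_S4 (p : ℕ) [Fact p.Prime] [CharP F p] (hodd : Odd (Fintype.card F))
    {M : Subgroup (ProjGenLinGroup (Fin 2) F)} (hM : IsMax M)
    (e : M.comap (iot F) ≃* Equiv.Perm (Fin 4)) (hp : ¬ p ∣ Nat.card (M.comap (iot F))) : False := by
  have hpr : p.Prime := Fact.out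
  have hcH : Nat.card (M.comap (iot F)) = 24 := by rw [Nat.card_congr e.toEquiv, card_S4]
  have hcM : Nat.card M = 48 := by rw [hM.card_eq hodd, hcH]
  rw [hcH] at hp
  have hp48 : ¬ p ∣ 2 * Nat.card (Equiv.Perm (Fin 4)) := by
    rw [card_S4]
    intro h
    rcases (Nat.Prime.dvd_mul hpr).1 h with h | h
    · apply hp
      exact Dvd.dvd.mul_right h 12
    · exact hp h
  obtain ⟨-, h⟩ := case_small p hodd hM e noncomm_S4 hp48
  rcases h with ⟨⟨e'⟩⟩ | ⟨⟨e'⟩⟩ | ⟨⟨e'⟩⟩
  · have := Nat.card_congr e'.toEquiv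
    rw [card_A4, hcM] at this
    omega
  · have := Nat.card_congr e'.toEquiv
    rw [card_S4, hcM] at this
    omega
  · have := Nat.card_congr e'.toEquiv
    rw [card_A5, hcM] at this
    omega

/-- the isomorphism type in the case `A₄` -/
theorem case_A4_iso (p : ℕ) [Fact p.Prime] [CharP F p] (hodd : Odd (Fintype.card F))
    {M : Subgroup (ProjGenLinGroup (Fin 2) F)} (hM : IsMax M)
    (e : M.comap (iot F) ≃* alternatingGroup (Fin 4)) (hp : ¬ p ∣ Nat.card (M.comap (iot F))) :
    Nonempty (M ≃* Equiv.Perm (Fin 4)) := by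
  have hpr : p.Prime := Fact.out
  have hcH : Nat.card (M.comap (iot F)) = 12 := by rw [Nat.card_congr e.toEquiv, card_A4]
  have hcM : Nat.card M = 24 := by rw [hM.card_eq hodd, hcH]
  rw [hcH] at hp
  have hp24 : ¬ p ∣ 2 * Nat.card (alternatingGroup (Fin 4)) := by
    rw [card_A4]
    intro h
    rcases (Nat.Prime.dvd_mul hpr).1 h with h | h
    · apply hp
      exact Dvd.dvd.mul_right h 6
    · exact hp h
  obtain ⟨-, h⟩ := case_small p hodd hM e noncomm_A4 hp24
  rcases h with ⟨⟨e'⟩⟩ | h | ⟨⟨e'⟩⟩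
  · have := Nat.card_congr e'.toEquiv
    rw [card_A4, hcM] at this
    omega
  · exact h
  · have := Nat.card_congr e'.toEquiv
    rw [card_A5, hcM] at this
    omega

end Cfsg.Agent.Lib.Helper15.Pg
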