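import Mathlib
import Cfsg.Agent.Lib.Helper15.Pg15
import Cfsg.Agent.Lib.Helper15.S4Odd

/-!
# Maximal subgroups of `PGL₂(q)`, part 16: `S₄` inside `PGL₂(q)`, `q` odd
-/

set_option autoImplicit false

open scoped Pointwise

namespace Cfsg.Agent.Lib.Helper15.Pg

open Matrix
open Cfsg.Agent.Lib.Helper14
open Cfsg.Agent.Lib.Helper15
open Cfsg.Agent.Lib.Helper15.Dk
open Cfsg.Agent.Lib.Helper15.Mx

section gen
variable {E : Type*} [Field E]

theorem mk_eq_of_coe_eq (A B : GL (Fin 2) E)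
    (h : (A : Matrix (Fin 2) (Fin 2) E) = (B : Matrix (Fin 2) (Fin 2) E)) :
    ProjGenLinGroup.mk A = ProjGenLinGroup.mk B := by
  rw [Units.ext h]

theorem mk_eq_of_coe_eq_neg (A B : GL (Fin 2) E)
    (h : (A : Matrix (Fin 2) (Fin 2) E) = -(B : Matrix (Fin 2) (Fin 2) E)) :
    ProjGenLinGroup.mk A = ProjGenLinGroup.mk B := by
  symm
  rw [ProjGenLinGroup.mk_eq_mk_iff]
  refine ⟨-1, Units.ext ?_⟩
  rw [Units.val_mul, GeneralLinearGroup.coe_scalar, h]
  ext i j
  fin_cases i <;> fin_cases j <;> simp [Matrix.mul_apply, Fin.sum_univ_two, Matrix.scalar_apply]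

theorem mk_eq_one_of_coe_eq_smul (A : GL (Fin 2) E) (c : E) (hc : c ≠ 0)
    (h : (A : Matrix (Fin 2) (Fin 2) E) = c • (1 : Matrix (Fin 2) (Fin 2) E)) :
    ProjGenLinGroup.mk A = 1 := by
  have : A = GeneralLinearGroup.scalar (Fin 2) (Units.mk0 c hc) := by
    apply Units.ext
    rw [GeneralLinearGroup.coe_scalar, h]
    ext i j
    fin_cases i <;> fin_cases j <;> simp [Matrix.scalar_apply]
  rw [this, ProjGenLinGroup.mk_scalar]

theorem s4_S_sq (X J : Matrix (Fin 2) (Fin 2) E) (h1 : X * X = -1) (h2' : J * J = -1)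
    (h3 : J * X = -(X * J)) : J * (1 + X) * (J * (1 + X)) = (-2 : E) • (1 : Matrix (Fin 2) (Fin 2) E) := by
  have e : (-2 : E) • (1 : Matrix (Fin 2) (Fin 2) E) = -1 + -1 := by
    rw [show (-2 : E) = -1 + -1 by norm_num, add_smul, neg_smul, one_smul]
  rw [e]
  have k1 : J * X * J = X := by
    rw [h3, Matrix.neg_mul, Matrix.mul_assoc, h2', Matrix.mul_neg, Matrix.mul_one, neg_neg]
  have k2 : J * X * (J * X) = -1 := by
    rw [← Matrix.mul_assoc, k1, h1]
  calc J * (1 + X) * (J * (1 + X)) = J * J + J * (J * X) + J * X * J + J * X * (J * X) := by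
        noncomm_ring
    _ = -1 + -1 := by
        rw [← Matrix.mul_assoc J J X, h2', k1, k2]
        noncomm_ring

theorem s4_S_X (X J : Matrix (Fin 2) (Fin 2) E) (h1 : X * X = -1)
    (h3 : J * X = -(X * J)) : J * (1 + X) * X = -(X * (J * (1 + X))) := by
  have k3 : X * J * X = J := by
    rw [Matrix.mul_assoc, h3, Matrix.mul_neg, ← Matrix.mul_assoc, h1, Matrix.neg_mul, Matrix.one_mul, neg_neg]
  calc J * (1 + X) * X = J * X + J * (X * X) := by noncomm_ring
    _ = -(X * J) + -J := by rw [h1, h3, Matrix.mul_neg, Matrix.mul_one]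
    _ = -(X * J + X * J * X) := by rw [k3, neg_add]
    _ = -(X * (J * (1 + X))) := by noncomm_ring

theorem s4_S_J (X J : Matrix (Fin 2) (Fin 2) E) (h1 : X * X = -1) (h2' : J * J = -1)
    (h3 : J * X = -(X * J)) : J * (1 + X) * J = -(X * J * (J * (1 + X))) := by
  have k1 : J * X * J = X := by
    rw [h3, Matrix.neg_mul, Matrix.mul_assoc, h2', Matrix.mul_neg, Matrix.mul_one, neg_neg]
  calc J * (1 + X) * J = J * J + J * X * J := by noncomm_ring
    _ = -1 + X := by rw [h2', k1]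
    _ = -(X * (J * J) + X * (J * J) * X) := by
        rw [h2', Matrix.mul_neg, Matrix.mul_one, Matrix.neg_mul, h1, neg_add, neg_neg, neg_neg, add_comm]
    _ = -(X * J * (J * (1 + X))) := by noncomm_ring

end gen

section fin
variable {E : Type*} [Field E] [Fintype E]

/-- `PGL₂(q)` contains `S₄`, `q` odd -/
theorem exists_S4_PGL2 (h2 : (2 : E) ≠ 0) :
    ∃ S : Subgroup (ProjGenLinGroup (Fin 2) E), Nonempty (S ≃* Equiv.Perm (Fin 4)) := by
  have ha : w0 E * w0 E = -1 := w0_sq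
  obtain ⟨b, hb⟩ := exists_inverting (w0 E) (trace_sq_ne_four_of_sq h2 (w0 E) ha)
  have hbb : b * b = -1 := s0_sq h2 (w0 E) ha b hb
  obtain ⟨f1, f2, f3, f4, f5, f6⟩ := frame_toPSL2 h2 (w0 E) b ha hb
  set a := w0 E with hadef
  have hXX := coe_sq_of_sq a ha
  have hJJ := coe_sq_of_sq b hbb
  have hJX := coe_anticomm a b ha hb
  set X := (a : Matrix (Fin 2) (Fin 2) E) with hX
  set J := (b : Matrix (Fin 2) (Fin 2) E) with hJ
  have hdet : (J * (1 + X)).det ≠ 0 := by
    rw [Matrix.det_mul, hJ, b.det_coe, one_mul,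
      det_one_add_of_trace_zero X (trace_eq_zero_of_sq a ha) a.det_coe]
    exact h2
  set Sg : GL (Fin 2) E := GeneralLinearGroup.mkOfDetNeZero (J * (1 + X)) hdet with hSg
  have hSgc : (Sg : Matrix (Fin 2) (Fin 2) E) = J * (1 + X) := rfl
  have hS2 := s4_S_sq X J hXX hJJ hJX
  have hSX := s4_S_X X J hXX hJX
  have hSJ := s4_S_J X J hXX hJJ hJX
  have hom := omegaMat_mul_S_mul h2 X J (J * (1 + X)) hXX hJJ hJX hSX hSJ
  set ω := omegaSL h2 a b ha hbb with hω
  have hωc : (ω : Matrix (Fin 2) (Fin 2) E) = omegaMat X J := rfl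
  -- the elements
  have hainv : (toPSL2 E a)⁻¹ = toPSL2 E a := inv_eq_of_mul_eq_one_right f4
  have hsu : ProjGenLinGroup.mk Sg * iot E (toPSL2 E a) = iot E (toPSL2 E a) * ProjGenLinGroup.mk Sg := by
    rw [iot_toPSL2, ← map_mul, ← map_mul]
    apply mk_eq_of_coe_eq_neg
    rw [Units.val_mul, Units.val_mul, hSgc]
    exact hSX
  have hsv : ProjGenLinGroup.mk Sg * iot E (toPSL2 E b) =
      iot E (toPSL2 E a) * iot E (toPSL2 E b) * ProjGenLinGroup.mk Sg := by
    rw [iot_toPSL2, iot_toPSL2, ← map_mul, ← map_mul, ← map_mul]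
    apply mk_eq_of_coe_eq_neg
    rw [Units.val_mul, Units.val_mul, Units.val_mul, hSgc]
    exact hSJ
  have hsh : iot E (toPSL2 E ω) * ProjGenLinGroup.mk Sg * iot E (toPSL2 E ω) = ProjGenLinGroup.mk Sg := by
    rw [iot_toPSL2, ← map_mul, ← map_mul]
    apply mk_eq_of_coe_eq
    rw [Units.val_mul, Units.val_mul, hSgc]
    exact hom
  apply exists_S4_of_data (iot E (toPSL2 E a)) (iot E (toPSL2 E b)) (iot E (toPSL2 E ω)) (ProjGenLinGroup.mk Sg)
  · rw [← map_mul (iot E), f4, map_one]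
  · rw [← map_mul (iot E), f5, map_one]
  · rw [← map_mul (iot E), ← map_mul (iot E), f6]
  · intro h; exact f1 (iot_injective (h.trans (map_one _).symm))
  · intro h; exact f2 (iot_injective (h.trans (map_one _).symm))
  · intro h; exact f3 (iot_injective h)
  · rw [← map_pow (iot E), ← map_pow (toPSL2 E), omegaSL_cube h2 a b ha hbb hb]
    have : toPSL2 E (-1) = 1 := by
      rw [toPSL2_eq_one_iff h2]
      exact Or.inr rfl
    rw [this, map_one]
  · rw [← map_inv (iot E), ← map_mul (iot E), ← map_mul (iot E), ← map_inv (toPSL2 E), ← map_mul (toPSL2 E),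
      ← map_mul (toPSL2 E), omegaSL_conj_x h2 a b ha hbb hb]
  · rw [← map_inv (iot E), ← map_mul (iot E), ← map_mul (iot E), ← map_inv (toPSL2 E), ← map_mul (toPSL2 E),
      ← map_mul (toPSL2 E), omegaSL_conj_s h2 a b ha hbb hb, map_mul (toPSL2 E), map_mul (iot E)]
  · rw [← map_mul]
    apply mk_eq_one_of_coe_eq_smul _ (-2) (neg_ne_zero.2 h2)
    rw [Units.val_mul, hSgc]
    exact hS2
  · rw [hsu, mul_inv_cancel_right]
  · rw [hsv, mul_inv_cancel_right]
  · rw [mul_inv_eq_iff_eq_mul, eq_inv_mul_iff_mul_eq, ← mul_assoc]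
    exact hsh

end fin

section max
variable {F : Type*} [Field F]

/-- squares lie in the image of `PSL₂` -/
theorem sq_mem_range (g : ProjGenLinGroup (Fin 2) F) : g * g ∈ (iot F).range := by
  induction g using ProjGenLinGroup.induction_on with | mk P =>
  rw [← map_mul]
  apply mk_mem_range_toPGL (P * P) (GeneralLinearGroup.det P)⁻¹
  rw [map_mul, inv_pow, pow_two, inv_mul_cancel]

/-- conjugates of maximal subgroups by arbitrary elements -/
theorem IsMax.conj' {M : Subgroup (ProjGenLinGroup (Fin 2) F)} (hM : IsMax M) (t : ProjGenLinGroup (Fin 2) F) :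
    IsMax (MulAut.conj t • M) := by
  refine ⟨isCoatom_conj_smul _ M hM.coatom, ?_⟩
  intro h
  apply hM.notle
  intro y hy
  have h1 : t * y * t⁻¹ ∈ (iot F).range := range_normal.conj_mem _ hy _
  have h2 := h h1
  rw [mem_conj_smul] at h2
  have e : t⁻¹ * (t * y * t⁻¹) * t = y := by group
  rwa [e] at h2

theorem IsMax.comap_conj' (M : Subgroup (ProjGenLinGroup (Fin 2) F)) (P : GL (Fin 2) F) :
    (MulAut.conj (ProjGenLinGroup.mk P)⁻¹ • M).comap (iot F) =
      (M.comap (iot F)).comap (glAut P).toMonoidHom := by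
  ext x
  rw [Subgroup.mem_comap, mem_conj_smul, inv_inv, Subgroup.mem_comap, Subgroup.mem_comap]
  show _ ↔ iot F (glAut P x) ∈ M
  rw [← conj_iot]

end max

end Cfsg.Agent.Lib.Helper15.Pg
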