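import Mathlib
import Cfsg.Agent.Lib.Helper15.Pg16

/-!
# Maximal subgroups of `PGL₂(q)`, part 17: the case `A₄`
-/

set_option autoImplicit false

open scoped Pointwise

namespace Cfsg.Agent.Lib.Helper15.Pg

open Matrix
open Cfsg.Agent.Lib.Helper14
open Cfsg.Agent.Lib.Helper15
open Cfsg.Agent.Lib.Helper15.Dk
open Cfsg.Agent.Lib.Helper15.Mx

variable {F : Type*} [Field F] [Fintype F]

/-- a self-normalizing subgroup of order `12` has no overgroup of order at most `24` -/
theorem eq_of_le_of_card_le {G : Type*} [Group G] [Finite G] (H B : Subgroup G) (hHB : H ≤ B)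
    (hself : Subgroup.normalizer (H : Set G) = H) (hc : Nat.card B ≤ 2 * Nat.card H) : B = H := by
  apply le_antisymm _ hHB
  have h1 := Subgroup.card_mul_index (H.subgroupOf B)
  rw [Nat.card_congr (Subgroup.subgroupOfEquivOfLe hHB).toEquiv] at h1
  have hpos : 0 < Nat.card H := Nat.card_pos
  have hipos : 0 < (H.subgroupOf B).index := Nat.pos_of_ne_zero Subgroup.index_ne_zero_of_finite
  have hle : (H.subgroupOf B).index ≤ 2 := by
    by_contra hlt
    push Not at hlt
    have : Nat.card H * 3 ≤ Nat.card H * (H.subgroupOf B).index := Nat.mul_le_mul_left _ hlt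
    omega
  have hnormal : (H.subgroupOf B).Normal := by
    have : (H.subgroupOf B).index = 1 ∨ (H.subgroupOf B).index = 2 := by omega
    rcases this with h | h
    · rw [Subgroup.index_eq_one] at h
      rw [h]
      infer_instance
    · exact Subgroup.normal_of_index_eq_two h
  have := (Subgroup.normal_subgroupOf_iff_le_normalizer hHB).1 hnormal
  rw [hself] at this
  exact this

/-- the case `A₄` -/
theorem case_A4 (p : ℕ) [Fact p.Prime] [CharP F p] (hodd : Odd (Fintype.card F)) (h5 : 5 ≤ Fintype.card F)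
    {M : Subgroup (ProjGenLinGroup (Fin 2) F)} (hM : IsMax M)
    (e : M.comap (iot F) ≃* alternatingGroup (Fin 4)) (hp : ¬ p ∣ Nat.card (M.comap (iot F))) :
    PGList F M := by
  have hpr : p.Prime := Fact.out
  have h2 := Mx.two_ne_zero_of_odd hodd
  have h4 : 4 ≤ Fintype.card F := by omega
  have hqodd : Fintype.card F % 2 = 1 := Nat.odd_iff.1 hodd
  obtain ⟨eM⟩ := case_A4_iso p hodd hM e hp
  set H := M.comap (iot F) with hH
  have hcH : Nat.card H = 12 := by rw [Nat.card_congr e.toEquiv, card_A4]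
  have hcM : Nat.card M = 24 := by rw [hM.card_eq hodd, ← hH, hcH]
  have hbot : H ≠ ⊥ := by
    intro h
    rw [h, Subgroup.card_bot] at hcH
    omega
  have hself := hM.normalizer_comap h4 hbot
  rw [← hH] at hself
  -- (i) `q ≡ ±3 mod 8`
  have h16 : ¬ Fintype.card F ^ 2 % 16 = 1 := by
    intro h
    obtain ⟨S, ⟨eS⟩⟩ := (Cfsg.Agent.S0803.result (F := F) rfl).2 h
    have hcS : Nat.card S = 24 := by rw [Nat.card_congr eS.toEquiv, card_S4]
    obtain ⟨P, hP⟩ := exists_le_map_of_gen h2 H S e gen_A4 (has_S4_33.of_iso eS) (by omega) (by omega) (tau33 h2)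
    have hcB : Nat.card (S.map (glAut P).toMonoidHom) = 24 := by
      rw [← hcS]
      exact (Nat.card_congr (Subgroup.equivMapOfInjective S _ (glAut P).injective).toEquiv).symm
    have := eq_of_le_of_card_le H _ hP hself (by rw [hcB, hcH])
    rw [this, hcH] at hcB
    omega
  have hq8 : Fintype.card F % 8 = 3 ∨ Fintype.card F % 8 = 5 := by
    have := (sq_mod16 _ hqodd).not.1 h16
    omega
  -- (ii) `q` is prime
  have hp5 : 5 ≤ p := by
    rw [hcH] at hp
    have h2' : p ≠ 2 := by
      rintro rfl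
      exact hp (by norm_num)
    have h3' : p ≠ 3 := by
      rintro rfl
      exact hp (by norm_num)
    have := hpr.two_le
    have h4' : p ≠ 4 := by
      rintro rfl
      exact absurd hpr (by norm_num)
    omega
  have h2E : (2 : ZMod p) ≠ 0 := by
    intro h
    have h1 : ((2 : ℕ) : ZMod p) = 0 := by exact_mod_cast h
    rw [ZMod.natCast_eq_zero_iff] at h1
    have := Nat.le_of_dvd (by norm_num) h1
    omega
  obtain ⟨S₀, ⟨eS₀⟩⟩ := exists_S4_PGL2 (E := ZMod p) h2E
  set f : ZMod p →+* F := ZMod.castHom (dvd_refl p) F with hf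
  set φ := ProjGenLinGroup.map (n := Fin 2) f with hφ
  have hφinj : Function.Injective φ := pgl_map_injective f
  set S := S₀.map φ with hS
  have eS : S ≃* Equiv.Perm (Fin 4) := (Subgroup.equivMapOfInjective S₀ φ hφinj).symm.trans eS₀
  have hcS : Nat.card S = 24 := by rw [Nat.card_congr eS.toEquiv, card_S4]
  have hSR : S ≤ φ.range := by
    rintro _ ⟨y, -, rfl⟩
    exact ⟨y, rfl⟩
  set B := S.comap (iot F) with hB
  -- `B` contains a pair of type `(2, 3, 3)`
  have hB2 : Has2 B 3 3 := by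
    obtain ⟨a₀, b₀, ha₀, hb₀, hab₀⟩ := has_S4_33
    set a₁ : ProjGenLinGroup (Fin 2) F := ((eS.symm a₀ : S) : ProjGenLinGroup (Fin 2) F) with ha₁
    set b₁ : ProjGenLinGroup (Fin 2) F := ((eS.symm b₀ : S) : ProjGenLinGroup (Fin 2) F) with hb₁
    have hoa : orderOf a₁ = 2 := by rw [ha₁, orderOf_iso_coe, ha₀]
    have hob : orderOf b₁ = 3 := by rw [hb₁, orderOf_iso_coe, hb₀]
    have hoab : orderOf (a₁ * b₁) = 3 := by
      have : a₁ * b₁ = ((eS.symm (a₀ * b₀) : S) : ProjGenLinGroup (Fin 2) F) := by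
        rw [map_mul]; rfl
      rw [this, orderOf_iso_coe, hab₀]
    have hcube : ∀ z : ProjGenLinGroup (Fin 2) F, orderOf z = 3 → z ∈ (iot F).range := by
      intro z hz
      have h3 : z ^ 3 = 1 := by rw [← hz]; exact pow_orderOf_eq_one z
      have h4' : z = (z * z) * (z * z) := by
        have : (z * z) * (z * z) = z ^ 3 * z := by
          rw [pow_succ, pow_two]; simp only [mul_assoc]
        rw [this, h3, one_mul]
      rw [h4']
      exact (iot F).range.mul_mem (sq_mem_range z) (sq_mem_range z)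
    obtain ⟨b₂, hb₂⟩ := hcube b₁ hob
    obtain ⟨c₂, hc₂⟩ := hcube (a₁ * b₁) hoab
    have ha₂ : iot F (c₂ * b₂⁻¹) = a₁ := by
      rw [map_mul, map_inv, hb₂, hc₂, mul_inv_cancel_right]
    have hb₂B : b₂ ∈ B := by
      rw [hB, Subgroup.mem_comap, hb₂]
      exact (eS.symm b₀).2
    have ha₂B : c₂ * b₂⁻¹ ∈ B := by
      rw [hB, Subgroup.mem_comap, ha₂]
      exact (eS.symm a₀).2
    refine ⟨⟨c₂ * b₂⁻¹, ha₂B⟩, ⟨b₂, hb₂B⟩, ?_, ?_, ?_⟩
    · rw [orderOf_subtype, ← orderOf_injective (iot F) iot_injective, ha₂, hoa]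
    · rw [orderOf_subtype, ← orderOf_injective (iot F) iot_injective, hb₂, hob]
    · have : (⟨c₂ * b₂⁻¹, ha₂B⟩ : B) * ⟨b₂, hb₂B⟩ = ⟨c₂ * b₂⁻¹ * b₂, B.mul_mem ha₂B hb₂B⟩ := rfl
      rw [this, orderOf_subtype, ← orderOf_injective (iot F) iot_injective, map_mul, ha₂, hb₂, hoab]
  obtain ⟨P, hP⟩ := exists_le_map_of_gen h2 H B e gen_A4 hB2 (by omega) (by omega) (tau33 h2)
  have hcB : Nat.card B ≤ 24 := by
    rw [← hcS]
    have hinj : Function.Injective (fun x : B => (⟨iot F x, x.2⟩ : S)) := by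
      intro x y hxy
      apply Subtype.ext
      exact iot_injective (congrArg Subtype.val hxy)
    exact Nat.card_le_card_of_injective _ hinj
  have hcB' : Nat.card (B.map (glAut P).toMonoidHom) ≤ 24 := by
    have := Nat.card_congr (Subgroup.equivMapOfInjective B (glAut P).toMonoidHom (glAut P).injective).toEquiv
    rw [← this]
    exact hcB
  have hHB := eq_of_le_of_card_le H _ hP hself (by rw [hcH]; exact hcB')
  -- the conjugate of `M`
  set M' := MulAut.conj (ProjGenLinGroup.mk P)⁻¹ • M with hM'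
  have hM'max : IsMax M' := hM.conj' _
  have hM'B : M'.comap (iot F) = B := by
    rw [hM', IsMax.comap_conj', ← hH, ← hHB]
    ext x
    rw [Subgroup.mem_comap, Subgroup.mem_map]
    constructor
    · rintro ⟨y, hy, hxy⟩
      have : y = x := (glAut P).injective hxy
      rw [← this]; exact hy
    · intro hx
      exact ⟨x, hx, rfl⟩
  have hcM' : Nat.card M' = 24 := by rw [hM', card_conj_smul, hcM]
  have hBbot : B ≠ ⊥ := by
    intro h
    have h1 := hM'max.card_eq hodd
    rw [hM'B, h, Subgroup.card_bot, hcM'] at h1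
    omega
  have hM'NG : M' = NG B := by
    have := hM'max.eq_NG h4 (by rw [hM'B]; exact hBbot)
    rw [hM'B] at this
    exact this
  have hSM' : S ≤ M' := by
    rw [hM'NG]
    intro s hs
    rw [NG, Subgroup.mem_normalizer_iff]
    have hmap : B.map (iot F) = S ⊓ (iot F).range := by
      rw [hB, Subgroup.map_comap_eq, inf_comm]
    intro x
    rw [hmap]
    constructor
    · rintro ⟨hxS, hxL⟩
      exact ⟨S.mul_mem (S.mul_mem hs hxS) (S.inv_mem hs), range_normal.conj_mem _ hxL _⟩
    · rintro ⟨hxS, hxL⟩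
      refine ⟨?_, ?_⟩
      · have := S.mul_mem (S.mul_mem (S.inv_mem hs) hxS) hs
        have e' : s⁻¹ * (s * x * s⁻¹) * s = x := by group
        rwa [e'] at this
      · have := range_normal.conj_mem _ hxL s⁻¹
        have e' : s⁻¹ * (s * x * s⁻¹) * s⁻¹⁻¹ = x := by group
        rwa [e'] at this
  have hSeq : S = M' := by
    apply Subgroup.eq_of_le_of_card_ge hSM'
    rw [hcS, hcM']
  have hM'R : M' ≤ φ.range := by rw [← hSeq]; exact hSR
  have hcR : Nat.card φ.range = p * (p ^ 2 - 1) := by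
    rw [← Nat.card_congr (MonoidHom.ofInjective hφinj).toEquiv, card_PGL2, ZMod.card]
  have hp24 : 24 < p * (p ^ 2 - 1) := by
    have : 24 ≤ p ^ 2 - 1 := by
      have : 25 ≤ p ^ 2 := by nlinarith
      omega
    nlinarith
  have hRtop : φ.range = ⊤ := by
    rcases eq_or_lt_of_le hM'R with h | h
    · exfalso
      rw [← h, hcM'] at hcR
      omega
    · exact hM'max.coatom.2 _ h
  have hqp : Fintype.card F = p := by
    have h1 : Nat.card φ.range = Nat.card (ProjGenLinGroup (Fin 2) F) := by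
      rw [hRtop, Subgroup.card_top]
    rw [hcR, card_PGL2] at h1
    obtain ⟨n, -, hn⟩ := FiniteField.card F p
    by_contra hne
    have hlt : p < Fintype.card F := by
      rw [hn]
      have : p ^ 1 ≤ p ^ (n : ℕ) := Nat.pow_le_pow_right hpr.pos n.pos
      rw [pow_one] at this
      rcases eq_or_lt_of_le this with h | h
      · exact absurd (by rw [hn, ← h]) hne
      · exact h
    have h3 : p ^ 2 - 1 < Fintype.card F ^ 2 - 1 := by
      have : p ^ 2 < Fintype.card F ^ 2 := Nat.pow_lt_pow_left hlt (by norm_num)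
      have : 1 ≤ p ^ 2 := Nat.one_le_pow _ _ hpr.pos
      omega
    have := Nat.mul_lt_mul'' hlt h3
    omega
  right; right; right; left
  exact ⟨by rw [hqp]; exact hpr, hq8, ⟨eM⟩⟩

end Cfsg.Agent.Lib.Helper15.Pg
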