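import Mathlib
import Cfsg.Agent.Lib.Helper15.Pg17

/-!
# Maximal subgroups of `PGL₂(q)`, part 18: the assembly
-/

set_option autoImplicit false

open scoped Pointwise

namespace Cfsg.Agent.Lib.Helper15.Pg

open Matrix
open Cfsg.Agent.Lib.Helper14
open Cfsg.Agent.Lib.Helper15
open Cfsg.Agent.Lib.Helper15.Dk
open Cfsg.Agent.Lib.Helper15.Mx

variable {F : Type*} [Field F] [Fintype F]

/-- the maximal subgroups of `PGL₂(q)`, `q` odd, not containing `PSL₂(q)` -/
theorem maximal_pgl (hodd : Odd (Fintype.card F)) (h3 : 3 < Fintype.card F)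
    (M : Subgroup (ProjGenLinGroup (Fin 2) F)) (hM : IsMax M) : PGList F M := by
  obtain ⟨p, hp⟩ := CharP.exists F
  have hpr : Fact p.Prime := ⟨CharP.char_is_prime F p⟩
  have h5 : 5 ≤ Fintype.card F := by
    rw [Nat.odd_iff] at hodd
    omega
  have h4 : 4 ≤ Fintype.card F := by omega
  by_cases hpd : p ∣ Nat.card (M.comap (iot F))
  · obtain ⟨x, h⟩ := dickson_refined5 p (M.comap (iot F)) hpd
    have hM' := hM.conj x
    rw [← IsMax.comap_conj] at h
    apply PGList.congr (Subgroup.equivSMul (MulAut.conj (iot F x)) M)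
    rcases h with h | ⟨b₁, w, c⟩ | h | ⟨⟨e⟩, -, hp5⟩
    · left
      exact case_normalP p hodd h4 hM' h
    · exact case_cfg hodd h5 hM' b₁ w c
    · exact case_torus hodd h5 hM' h
    · exact (case_A5 p hodd hM' e hp5).elim
  · rcases dickson_coprime_refined p (M.comap (iot F)) hpd with h | h | ⟨⟨e⟩⟩ | ⟨⟨e⟩⟩ | ⟨⟨e⟩⟩
    · exact (case_trivial hodd h5 hM h).elim
    · exact case_torus hodd h5 hM h
    · exact case_A4 p hodd h5 hM e hpd
    · exact (case_S4 p hodd hM e hpd).elim
    · have hp5 : p ≠ 5 := by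
        rintro rfl
        apply hpd
        rw [Nat.card_congr e.toEquiv, card_A5]
        norm_num
      exact (case_A5 p hodd hM e hp5).elim

end Cfsg.Agent.Lib.Helper15.Pg
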