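import Mathlib
import Cfsg.Agent.Lib.Helper15.Pg18

/-!
# Maximal subgroups of `PGL₂(q)`, part 19: intersections with `PSL₂`, generic reductions
-/

set_option autoImplicit false

open scoped Pointwise

namespace Cfsg.Agent.Lib.Helper15.Pg

open Matrix
open Cfsg.Agent.Lib.Helper14
open Cfsg.Agent.Lib.Helper15
open Cfsg.Agent.Lib.Helper15.Dk
open Cfsg.Agent.Lib.Helper15.Mx

section generic

variable {P G : Type*} [Group P] [Group G]

/-- transport of coatoms along an injective homomorphism: the intersection with the range -/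
theorem isCoatom_inf_range_of_comap (f : P →* G) (hf : Function.Injective f) (M : Subgroup G)
    (h : IsCoatom (M.comap f)) : IsCoatom ((M ⊓ f.range).subgroupOf f.range) := by
  let e : P ≃* f.range := MonoidHom.ofInjective hf
  have key : (MulEquiv.comapSubgroup e) ((M ⊓ f.range).subgroupOf f.range) = M.comap f := by
    ext x
    rw [MulEquiv.comapSubgroup_apply, Subgroup.mem_comap, Subgroup.mem_subgroupOf, Subgroup.mem_comap,
      Subgroup.mem_inf]
    constructor
    · intro hx
      exact hx.1
    · intro hx
      exact ⟨hx, ⟨x, rfl⟩⟩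
  rw [← (MulEquiv.comapSubgroup e).isCoatom_iff, key]
  exact h

/-- the trivial case: the range is everything -/
theorem isCoatom_inf_of_eq_top (L M : Subgroup G) (hL : L = ⊤) (hM : IsCoatom M) :
    IsCoatom ((M ⊓ L).subgroupOf L) := by
  subst hL
  have key : (MulEquiv.comapSubgroup (Subgroup.topEquiv (G := G))) M = (M ⊓ ⊤).subgroupOf ⊤ := by
    ext x
    rw [MulEquiv.comapSubgroup_apply, Subgroup.mem_comap, Subgroup.mem_subgroupOf, inf_top_eq]
    rfl
  rw [← key, (MulEquiv.comapSubgroup (Subgroup.topEquiv (G := G))).isCoatom_iff]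
  exact hM

end generic

variable {F : Type*} [Field F] [Fintype F]

/-- in characteristic two `PSL₂` is all of `PGL₂` -/
theorem range_iot_eq_top_of_two (h2 : (2 : F) = 0) : (iot F).range = ⊤ := by
  have hinj : Function.Injective (iot F) := iot_injective
  have hcard : Nat.card (ProjectiveSpecialLinearGroup (Fin 2) F) = Nat.card (ProjGenLinGroup (Fin 2) F) := by
    rw [card_PGL2, ← card_PSL2_mul, center_SL2_eq_bot_of_two h2, Subgroup.card_bot, mul_one]
  have hbij : Function.Bijective (iot F) :=
    (Nat.bijective_iff_injective_and_card _).2 ⟨hinj, hcard⟩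
  exact MonoidHom.range_eq_top.2 hbij.2

end Cfsg.Agent.Lib.Helper15.Pg
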