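import Mathlib

/-!
# Maximal subgroups of `PGL₂(q)`, part 20: arithmetic for the intersections with `PSL₂`
-/

set_option autoImplicit false

namespace Cfsg.Agent.Lib.Helper15.Pg.Ar

/-! ### point stabilisers: `2 h = q (q - 1)` -/

theorem A2 (q h x : ℕ) (hq : 5 ≤ q) (hA : 2 * h = q * (q - 1)) (hd : h ∣ x) (hx : x = q - 1) : False := by
  obtain ⟨m, rfl⟩ : ∃ m, q = m + 1 := ⟨q - 1, by omega⟩
  rw [Nat.add_sub_cancel] at hA hx
  have hle : h ≤ x := Nat.le_of_dvd (by omega) hd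
  nlinarith

theorem A3 (q h x : ℕ) (hq : 5 ≤ q) (hA : 2 * h = q * (q - 1)) (hd : h ∣ x) (hx : x = q + 1) : False := by
  obtain ⟨m, rfl⟩ : ∃ m, q = m + 1 := ⟨q - 1, by omega⟩
  rw [Nat.add_sub_cancel] at hA
  have hle : h ≤ x := Nat.le_of_dvd (by omega) hd
  nlinarith

theorem A4 (q h x q₁ : ℕ) (hq : 5 ≤ q) (hA : 2 * h = q * (q - 1)) (hd : h ∣ x) (hq1 : q = q₁ ^ 2)
    (hx : x = q₁ * (q₁ ^ 2 - 1)) : False := by
  rw [← hq1] at hx
  obtain ⟨m, rfl⟩ : ∃ m, q = m + 1 := ⟨q - 1, by omega⟩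
  rw [Nat.add_sub_cancel] at hA hx
  have hq1pos : 0 < q₁ := by
    rcases Nat.eq_zero_or_pos q₁ with h0 | h0
    · rw [h0] at hq1; simp at hq1
    · exact h0
  have hxpos : 0 < x := by rw [hx]; exact Nat.mul_pos hq1pos (by omega)
  have hle : h ≤ x := Nat.le_of_dvd hxpos hd
  have h1 : (m + 1) * m ≤ 2 * q₁ * m := by nlinarith
  have h2 : m + 1 ≤ 2 * q₁ := Nat.le_of_mul_le_mul_right h1 (by omega)
  nlinarith

theorem lt_of_pow (q q₁ s x : ℕ) (hs : 3 ≤ s) (hq1 : q = q₁ ^ s) (hq : 5 ≤ q) (hx : 2 * x = q₁ * (q₁ ^ 2 - 1)) :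
    2 * x < q := by
  have hq1pos : 0 < q₁ := by
    rcases Nat.eq_zero_or_pos q₁ with h0 | h0
    · rw [h0, zero_pow (by omega)] at hq1; omega
    · exact h0
  have h1 : q₁ ^ 3 ≤ q₁ ^ s := Nat.pow_le_pow_right hq1pos hs
  have h2 : q₁ * (q₁ ^ 2 - 1) < q₁ ^ 3 := by
    have : 1 ≤ q₁ ^ 2 := Nat.one_le_pow _ _ hq1pos
    have h3 : q₁ ^ 3 = q₁ * q₁ ^ 2 := by ring
    rw [h3]
    apply Nat.mul_lt_mul_of_pos_left _ hq1pos
    omega
  omega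

theorem A5 (q h x q₁ s : ℕ) (hq : 5 ≤ q) (hA : 2 * h = q * (q - 1)) (hd : h ∣ x) (hs : 3 ≤ s) (hq1 : q = q₁ ^ s)
    (hx : 2 * x = q₁ * (q₁ ^ 2 - 1)) (hxpos : 0 < x) : False := by
  have hlt := lt_of_pow q q₁ s x hs hq1 hq hx
  have hle : h ≤ x := Nat.le_of_dvd hxpos hd
  obtain ⟨m, rfl⟩ : ∃ m, q = m + 1 := ⟨q - 1, by omega⟩
  rw [Nat.add_sub_cancel] at hA
  nlinarith

theorem A6 (q h x : ℕ) (hq : 5 ≤ q) (hodd : q % 2 = 1) (h7 : q ≠ 7) (h9 : q ≠ 9) (h11 : q ≠ 11)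
    (hA : 2 * h = q * (q - 1)) (hd : h ∣ x) (hx : x = 60) (h10 : q % 10 = 1 ∨ q % 10 = 9) : False := by
  have hle : h ≤ x := Nat.le_of_dvd (by omega) hd
  obtain ⟨m, rfl⟩ : ∃ m, q = m + 1 := ⟨q - 1, by omega⟩
  rw [Nat.add_sub_cancel] at hA
  have hm : m ≤ 10 := by
    by_contra hlt
    push Not at hlt
    nlinarith
  interval_cases m <;> omega

theorem A7 (q h x : ℕ) (hq : 5 ≤ q) (hodd : q % 2 = 1)
    (hA : 2 * h = q * (q - 1)) (hd : h ∣ x) (hx : x = 12) : False := by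
  have hle : h ≤ x := Nat.le_of_dvd (by omega) hd
  obtain ⟨m, rfl⟩ : ∃ m, q = m + 1 := ⟨q - 1, by omega⟩
  rw [Nat.add_sub_cancel] at hA
  have hm : m ≤ 4 := by
    by_contra hlt
    push Not at hlt
    nlinarith
  have hm4 : m = 4 := by omega
  subst hm4
  have hh : h = 10 := by omega
  subst hh hx
  revert hd
  decide

theorem A8 (q h x : ℕ) (hq : 5 ≤ q) (hodd : q % 2 = 1) (h7 : q ≠ 7)
    (hA : 2 * h = q * (q - 1)) (hd : h ∣ x) (hx : x = 24) (h8 : q % 8 = 1 ∨ q % 8 = 7) : False := by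
  have hle : h ≤ x := Nat.le_of_dvd (by omega) hd
  obtain ⟨m, rfl⟩ : ∃ m, q = m + 1 := ⟨q - 1, by omega⟩
  rw [Nat.add_sub_cancel] at hA
  have hm : m ≤ 6 := by
    by_contra hlt
    push Not at hlt
    nlinarith
  interval_cases m <;> omega

/-! ### split dihedral: `h = q - 1` -/

theorem B1 (q h x : ℕ) (hq : 5 ≤ q) (hodd : q % 2 = 1) (hB : h = q - 1) (hd : h ∣ x)
    (hx : 2 * x = q * (q - 1)) : False := by
  obtain ⟨m, rfl⟩ : ∃ m, q = m + 1 := ⟨q - 1, by omega⟩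
  rw [Nat.add_sub_cancel] at hB hx
  subst hB
  obtain ⟨c, rfl⟩ := hd
  have h1 : h * (2 * c) = h * (h + 1) := by nlinarith
  have h2 : 2 * c = h + 1 := Nat.eq_of_mul_eq_mul_left (by omega) h1
  omega

theorem B3 (q h x : ℕ) (hq : 5 ≤ q) (hB : h = q - 1) (hd : h ∣ x) (hx : x = q + 1) : False := by
  obtain ⟨m, rfl⟩ : ∃ m, q = m + 1 := ⟨q - 1, by omega⟩
  rw [Nat.add_sub_cancel] at hB
  subst hB hx
  have h2 : h ∣ 2 := by
    have : h ∣ h + 1 + 1 - h := Nat.dvd_sub hd (dvd_refl h)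
    have e : h + 1 + 1 - h = 2 := by omega
    rwa [e] at this
  have := Nat.le_of_dvd (by norm_num) h2
  omega

theorem B5 (q h x q₁ s : ℕ) (hq : 5 ≤ q) (hB : h = q - 1) (hd : h ∣ x) (hs : 3 ≤ s) (hq1 : q = q₁ ^ s)
    (hx : 2 * x = q₁ * (q₁ ^ 2 - 1)) (hxpos : 0 < x) : False := by
  have hlt := lt_of_pow q q₁ s x hs hq1 hq hx
  have hle : h ≤ x := Nat.le_of_dvd hxpos hd
  omega

theorem B6 (q h x p : ℕ) (hq : 13 ≤ q) (hp : p.Prime) (hB : h = q - 1) (hd : h ∣ x) (hx : x = 60)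
    (h10 : q % 10 = 1 ∨ q % 10 = 9) (hqp : q = p ∨ q = p ^ 2) : x ≤ 2 * h := by
  have hle : h ≤ x := Nat.le_of_dvd (by omega) hd
  by_contra hlt
  push Not at hlt
  have hq21 : q = 21 := by
    subst hx hB
    have hq61 : q ≤ 61 := by omega
    interval_cases q <;> omega
  subst hq21
  rcases hqp with h1 | h1
  · subst h1
    revert hp
    decide
  · have hp5 : p ≤ 5 := by
      by_contra hlt
      push Not at hlt
      nlinarith
    interval_cases p <;> omega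

theorem B7 (q h x : ℕ) (hq : 13 ≤ q) (hB : h = q - 1) (hx : x = 12) : x ≤ 2 * h := by
  omega

theorem B8 (q h x : ℕ) (hq : 13 ≤ q) (hB : h = q - 1) (hx : x = 24) : x ≤ 2 * h := by
  omega

/-! ### nonsplit dihedral: `h = q + 1` -/

theorem C1 (q h x : ℕ) (hq : 5 ≤ q) (hC : h = q + 1) (hd : h ∣ x)
    (hx : 2 * x = q * (q - 1)) : False := by
  obtain ⟨m, rfl⟩ : ∃ m, q = m + 2 := ⟨q - 2, by omega⟩
  have e1 : m + 2 - 1 = m + 1 := by omega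
  rw [e1] at hx
  subst hC
  have h1 : m + 2 + 1 ∣ 2 * x := Dvd.dvd.mul_left hd 2
  rw [hx] at h1
  have e2 : (m + 2) * (m + 1) = (m + 2 + 1) * m + 2 := by ring
  rw [e2] at h1
  have h2 : m + 2 + 1 ∣ 2 := (Nat.dvd_add_right (Dvd.intro _ rfl)).1 h1
  have := Nat.le_of_dvd (by norm_num) h2
  omega

theorem C4 (q h x q₁ : ℕ) (hq : 5 ≤ q) (hC : h = q + 1) (hd : h ∣ x) (hq1 : q = q₁ ^ 2)
    (hx : x = q₁ * (q₁ ^ 2 - 1)) : False := by
  have hq1pos : 2 ≤ q₁ := by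
    by_contra hlt
    push Not at hlt
    interval_cases q₁ <;> omega
  subst hC hx hq1
  have h1 : q₁ ^ 2 + 1 ∣ q₁ * (q₁ ^ 2 - 1) + 2 * q₁ → q₁ ^ 2 + 1 ∣ 2 * q₁ := fun h => (Nat.dvd_add_right hd).1 h
  have e : q₁ * (q₁ ^ 2 - 1) + 2 * q₁ = (q₁ ^ 2 + 1) * q₁ := by
    have : 1 ≤ q₁ ^ 2 := Nat.one_le_pow _ _ (by omega)
    obtain ⟨c, hc⟩ : ∃ c, q₁ ^ 2 = c + 1 := ⟨q₁ ^ 2 - 1, by omega⟩
    rw [hc, Nat.add_sub_cancel]
    ring
  have h2 := h1 (by rw [e]; exact Dvd.intro _ rfl)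
  have h3 := Nat.le_of_dvd (by omega) h2
  nlinarith

theorem C5 (q h x q₁ s : ℕ) (hq : 5 ≤ q) (hC : h = q + 1) (hd : h ∣ x) (hs : 3 ≤ s) (hq1 : q = q₁ ^ s)
    (hx : 2 * x = q₁ * (q₁ ^ 2 - 1)) (hxpos : 0 < x) : False := by
  have hlt := lt_of_pow q q₁ s x hs hq1 hq hx
  have hle : h ≤ x := Nat.le_of_dvd hxpos hd
  omega

theorem C6 (q h x p : ℕ) (hq : 5 ≤ q) (h9 : q ≠ 9) (h11 : q ≠ 11) (hp : p.Prime)
    (h40 : q.Prime → q % 40 ∉ ({11, 19, 21, 29} : Finset ℕ))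
    (hC : h = q + 1) (hd : h ∣ x) (hx : x = 60)
    (h10 : q % 10 = 1 ∨ q % 10 = 9) (hqp : q = p ∨ q = p ^ 2) : x ≤ 2 * h := by
  have hle : h ≤ x := Nat.le_of_dvd (by omega) hd
  by_contra hlt
  push Not at hlt
  have hq19 : q = 19 := by
    subst hx hC
    have hq61 : q ≤ 61 := by omega
    interval_cases q <;> omega
  subst hq19
  rcases hqp with h1 | h1
  · exact h40 (h1 ▸ hp) (by decide)
  · have hp5 : p ≤ 5 := by
      by_contra hlt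
      push Not at hlt
      nlinarith
    interval_cases p <;> omega

theorem C7 (q h x : ℕ) (hq : 5 ≤ q) (hC : h = q + 1) (hx : x = 12) :
    x ≤ 2 * h := by
  omega

theorem C8 (q h x : ℕ) (hq : 5 ≤ q) (h7 : q ≠ 7) (hC : h = q + 1) (hd : h ∣ x) (hx : x = 24)
    (h8 : q % 8 = 1 ∨ q % 8 = 7) : x ≤ 2 * h := by
  have hle : h ≤ x := Nat.le_of_dvd (by omega) hd
  by_contra hlt
  push Not at hlt
  subst hx hC
  have hq61 : q ≤ 10 := by omega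
  interval_cases q <;> omega

/-! ### `S₄`: `h = 12` -/

theorem D1 (q h x : ℕ) (hq : 5 ≤ q) (h8 : q % 8 = 3 ∨ q % 8 = 5) (hD : h = 12) (hd : h ∣ x)
    (hx : 2 * x = q * (q - 1)) : False := by
  subst hD
  obtain ⟨c, rfl⟩ := hd
  have h1 : q * (q - 1) % 8 = 0 := by omega
  rw [Nat.mul_mod] at h1
  have h2 : (q - 1) % 8 = 2 ∨ (q - 1) % 8 = 4 := by omega
  rcases h8 with h8 | h8 <;> rcases h2 with h2 | h2 <;> rw [h8, h2] at h1 <;> omega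

theorem not_prime_pow (q q₁ s : ℕ) (hs : 2 ≤ s) (hq1 : q = q₁ ^ s) (hq : q.Prime) : False := by
  rw [hq1] at hq
  exact Nat.Prime.not_prime_pow hs hq

theorem D6 (q : ℕ) (hq : q.Prime) (h40 : q.Prime → q % 40 ∉ ({11, 19, 21, 29} : Finset ℕ))
    (h8 : q % 8 = 3 ∨ q % 8 = 5) (h10 : q % 10 = 1 ∨ q % 10 = 9) : False := by
  apply h40 hq
  simp only [Finset.mem_insert, Finset.mem_singleton]
  omega

end Cfsg.Agent.Lib.Helper15.Pg.Ar
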