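import Mathlib
import Cfsg.Agent.Lib.Helper15.Pg20

/-!
# Maximal subgroups of `PGL₂(q)`, part 21: arithmetic for subfield subgroups
-/

set_option autoImplicit false

namespace Cfsg.Agent.Lib.Helper15.Pg.Ar

theorem succ_dvd_of (q₀ h : ℕ) (hq0 : 2 ≤ q₀) (hE : 2 * h = q₀ * (q₀ ^ 2 - 1)) : q₀ + 1 ∣ 2 * h := by
  rw [hE]
  obtain ⟨c, rfl⟩ : ∃ c, q₀ = c + 1 := ⟨q₀ - 1, by omega⟩
  have e : (c + 1) ^ 2 - 1 = (c + 1 + 1) * c := by
    have : (c + 1) ^ 2 = (c + 1 + 1) * c + 1 := by ring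
    rw [this, Nat.add_sub_cancel]
  rw [e]
  exact Dvd.dvd.mul_left (Dvd.intro _ rfl) _

theorem self_dvd_of (q₀ h : ℕ) (hE : 2 * h = q₀ * (q₀ ^ 2 - 1)) : q₀ ∣ 2 * h := by
  rw [hE]
  exact Dvd.intro _ rfl

theorem succ_dvd_succ (q q₀ r : ℕ) (hro : Odd r) (hq : q = q₀ ^ r) : q₀ + 1 ∣ q + 1 := by
  have := Odd.nat_add_dvd_pow_add_pow q₀ 1 hro
  rwa [one_pow, ← hq] at this

theorem E1 (q h x q₀ r : ℕ) (hq5 : 5 ≤ q) (hq0 : 2 ≤ q₀) (hE : 2 * h = q₀ * (q₀ ^ 2 - 1)) (hro : Odd r)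
    (hq : q = q₀ ^ r) (hd : h ∣ x) (hx : 2 * x = q * (q - 1)) : False := by
  have h1 : q₀ + 1 ∣ 2 * x := (succ_dvd_of q₀ h hq0 hE).trans (Nat.mul_dvd_mul_left 2 hd)
  have h2 := succ_dvd_succ q q₀ r hro hq
  rw [hx] at h1
  obtain ⟨m, rfl⟩ : ∃ m, q = m + 2 := ⟨q - 2, by omega⟩
  have e1 : m + 2 - 1 = m + 1 := by omega
  rw [e1] at h1
  have e2 : (m + 2) * (m + 1) = (m + 2 + 1) * m + 2 := by ring
  rw [e2] at h1
  have h3 : q₀ + 1 ∣ 2 := (Nat.dvd_add_right (Dvd.dvd.mul_right h2 _)).1 h1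
  have := Nat.le_of_dvd (by norm_num) h3
  omega

theorem self_dvd_two (q h x q₀ r : ℕ) (hr : r ≠ 0) (hE : 2 * h = q₀ * (q₀ ^ 2 - 1))
    (hq : q = q₀ ^ r) (hd : h ∣ x) (hx : x = q - 1 ∨ x = q + 1) (hq5 : 5 ≤ q) : q₀ ∣ 2 := by
  have h1 : q₀ ∣ 2 * x := (self_dvd_of q₀ h hE).trans (Nat.mul_dvd_mul_left 2 hd)
  have h2 : q₀ ∣ 2 * q := by
    rw [hq]
    exact Dvd.dvd.mul_left (dvd_pow_self _ hr) _
  rcases hx with hx | hx
  · have e : 2 = 2 * q - 2 * x := by omega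
    rw [e]
    exact Nat.dvd_sub h2 h1
  · have e : 2 = 2 * x - 2 * q := by omega
    rw [e]
    exact Nat.dvd_sub h1 h2

theorem E23 (q h x q₀ r : ℕ) (hq5 : 5 ≤ q) (hodd : q % 2 = 1) (hq0 : 2 ≤ q₀) (hr : r ≠ 0)
    (hE : 2 * h = q₀ * (q₀ ^ 2 - 1)) (hq : q = q₀ ^ r) (hd : h ∣ x) (hx : x = q - 1 ∨ x = q + 1) : False := by
  have h2 := self_dvd_two q h x q₀ r hr hE hq hd hx hq5
  have h3 := Nat.le_of_dvd (by norm_num) h2
  have h4 : q₀ = 2 := by omega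
  subst h4
  have : 2 ∣ q := by rw [hq]; exact dvd_pow_self _ hr
  omega

theorem odd_of_pow (q q₀ r : ℕ) (hodd : q % 2 = 1) (hr : r ≠ 0) (hq : q = q₀ ^ r) : q₀ % 2 = 1 := by
  by_contra h
  have h2 : 2 ∣ q₀ := by omega
  have : 2 ∣ q := by rw [hq]; exact h2.trans (dvd_pow_self _ hr)
  omega

theorem three_pow_ne_sq (r q₁ : ℕ) (hro : Odd r) (h : 3 ^ r = q₁ ^ 2) : False := by
  have : Fact (Nat.Prime 3) := ⟨Nat.prime_three⟩
  have h1 : padicValNat 3 (3 ^ r) = r := padicValNat.prime_pow r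
  have h2 : padicValNat 3 (q₁ ^ 2) = 2 * padicValNat 3 q₁ := padicValNat.pow q₁ 2
  rw [h, h2] at h1
  rw [Nat.odd_iff] at hro
  omega

theorem E4 (q h x q₀ r q₁ : ℕ) (hq5 : 5 ≤ q) (hodd : q % 2 = 1) (hq0 : 2 ≤ q₀)
    (hE : 2 * h = q₀ * (q₀ ^ 2 - 1)) (hro : Odd r) (hq : q = q₀ ^ r) (hd : h ∣ x)
    (hq1 : q = q₁ ^ 2) (hx : x = q₁ * (q₁ ^ 2 - 1)) : False := by
  have hr : r ≠ 0 := by
    rintro rfl
    simp at hro
  have h1 : q₀ + 1 ∣ 2 * x := (succ_dvd_of q₀ h hq0 hE).trans (Nat.mul_dvd_mul_left 2 hd)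
  have h2 := succ_dvd_succ q q₀ r hro hq
  rw [hx, ← hq1] at h1
  have h3 : q₀ + 1 ∣ 4 * q₁ := by
    have e : 2 * (q₁ * (q - 1)) + 4 * q₁ = (q + 1) * (2 * q₁) := by
      obtain ⟨m, rfl⟩ : ∃ m, q = m + 1 := ⟨q - 1, by omega⟩
      rw [Nat.add_sub_cancel]
      ring
    have h4 : q₀ + 1 ∣ 2 * (q₁ * (q - 1)) + 4 * q₁ := by
      rw [e]
      exact Dvd.dvd.mul_right h2 _
    exact (Nat.dvd_add_right h1).1 h4
  have hcop : Nat.Coprime (q₀ + 1) q₁ := by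
    have c1 : Nat.Coprime (q₀ + 1) q₀ := by
      rw [Nat.coprime_comm]
      simp
    have c2 : Nat.Coprime (q₀ + 1) (q₀ ^ r) := c1.pow_right r
    rw [← hq, hq1] at c2
    exact Nat.Coprime.coprime_dvd_right (dvd_pow_self _ (by norm_num)) c2
  have h5 : q₀ + 1 ∣ 4 := hcop.dvd_of_dvd_mul_right h3
  have h6 := Nat.le_of_dvd (by norm_num) h5
  have h7 := odd_of_pow q q₀ r hodd hr hq
  have h8 : q₀ = 3 := by omega
  subst h8
  exact three_pow_ne_sq r q₁ hro (by rw [← hq, hq1])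

theorem three_pow_mod (k : ℕ) : 3 ^ (2 * k + 1) % 10 = 3 ∨ 3 ^ (2 * k + 1) % 10 = 7 := by
  induction k with
  | zero => left; norm_num
  | succ k ih =>
    have e : 3 ^ (2 * (k + 1) + 1) = 9 * 3 ^ (2 * k + 1) := by ring
    rw [e]
    omega

theorem E6 (q h x q₀ r : ℕ) (hq5 : 5 ≤ q) (hodd : q % 2 = 1) (hq0 : 2 ≤ q₀)
    (hE : 2 * h = q₀ * (q₀ ^ 2 - 1)) (hro : Odd r) (hq : q = q₀ ^ r) (hd : h ∣ x)
    (hx : x = 60) (h10 : q % 10 = 1 ∨ q % 10 = 9) : x ≤ 2 * h := by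
  have hr : r ≠ 0 := by
    rintro rfl
    simp at hro
  have h7 := odd_of_pow q q₀ r hodd hr hq
  have hle : h ≤ x := Nat.le_of_dvd (by omega) hd
  by_contra hlt
  push Not at hlt
  have h5 : q₀ ≤ 4 := by
    by_contra h5
    push Not at h5
    have : 5 ^ 2 ≤ q₀ ^ 2 := Nat.pow_le_pow_left h5 2
    have h24 : 24 ≤ q₀ ^ 2 - 1 := by omega
    have : 5 * 24 ≤ q₀ * (q₀ ^ 2 - 1) := Nat.mul_le_mul h5 h24
    omega
  have h3 : q₀ = 3 := by omega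
  subst h3
  obtain ⟨k, rfl⟩ := hro
  have := three_pow_mod k
  rw [hq] at h10
  obtain ⟨N, hN⟩ : ∃ N, N = 3 ^ (2 * k + 1) := ⟨_, rfl⟩
  rw [← hN] at this h10
  rcases this with h | h <;> rcases h10 with h' | h' <;> omega

theorem E5 (q h x q₀ r q₁ s p a b : ℕ) (hp : p.Prime) (hq0 : q₀ = p ^ a) (hq1 : q₁ = p ^ b)
    (hq02 : 2 ≤ q₀) (hE : 2 * h = q₀ * (q₀ ^ 2 - 1)) (hr : r.Prime) (hq : q = q₀ ^ r) (hd : h ∣ x)
    (hs : s.Prime) (hqs : q = q₁ ^ s) (hx : 2 * x = q₁ * (q₁ ^ 2 - 1)) : x ≤ 2 * h := by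
  have hp2 : 2 ≤ p := hp.two_le
  have hars : a * r = b * s := by
    apply Nat.pow_right_injective hp2
    show p ^ (a * r) = p ^ (b * s)
    rw [pow_mul, pow_mul, ← hq0, ← hq1, ← hq, ← hqs]
  have ha : a ≠ 0 := by
    rintro rfl
    rw [pow_zero] at hq0
    omega
  have h1 : 2 * h ∣ 2 * x := Nat.mul_dvd_mul_left 2 hd
  rw [hE, hx, hq0, hq1, ← pow_mul, ← pow_mul] at h1
  have hcop : Nat.Coprime (p ^ (a * 2) - 1) (p ^ b) := by
    apply Nat.Coprime.pow_right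
    have h1le : 1 ≤ p ^ (a * 2) := Nat.one_le_pow _ _ (by omega)
    have hpd : p ∣ p ^ (a * 2) := dvd_pow_self _ (by omega)
    rw [Nat.coprime_comm, Nat.Prime.coprime_iff_not_dvd hp]
    intro hdv
    have : p ∣ p ^ (a * 2) - (p ^ (a * 2) - 1) := Nat.dvd_sub hpd hdv
    have e : p ^ (a * 2) - (p ^ (a * 2) - 1) = 1 := by omega
    rw [e] at this
    have := Nat.le_of_dvd (by norm_num) this
    omega
  have h2 : p ^ (a * 2) - 1 ∣ p ^ (b * 2) - 1 := by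
    have : p ^ (a * 2) - 1 ∣ p ^ b * (p ^ (b * 2) - 1) := (Dvd.intro_left _ rfl).trans h1
    exact hcop.dvd_of_dvd_mul_left this
  have h3 : a * 2 ∣ b * 2 := by
    have hg := Nat.pow_sub_one_gcd_pow_sub_one p (a * 2) (b * 2)
    rw [Nat.gcd_eq_left h2] at hg
    have h1le : 1 ≤ p ^ (a * 2) := Nat.one_le_pow _ _ (by omega)
    have h1le' : 1 ≤ p ^ (Nat.gcd (a * 2) (b * 2)) := Nat.one_le_pow _ _ (by omega)
    have hpow : p ^ (a * 2) = p ^ (Nat.gcd (a * 2) (b * 2)) := by omega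
    have := Nat.pow_right_injective hp2 hpow
    rw [this]
    exact Nat.gcd_dvd_right _ _
  have h4 : a ∣ b := by
    obtain ⟨c, hc⟩ := h3
    exact ⟨c, by nlinarith⟩
  obtain ⟨c, rfl⟩ := h4
  have h5 : r = c * s := by
    have : a * r = a * (c * s) := by rw [hars]; ring
    exact Nat.eq_of_mul_eq_mul_left (by omega) this
  have h6 : s = r := (Nat.prime_dvd_prime_iff_eq hs hr).1 ⟨c, by rw [h5]; ring⟩
  subst h6
  have hc1 : c = 1 := by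
    have hs0 : 0 < s := hs.pos
    have : c * s = 1 * s := by omega
    exact Nat.eq_of_mul_eq_mul_right hs0 this
  subst hc1
  rw [mul_one] at hq1
  rw [← hq0] at hq1
  subst hq1
  omega

end Cfsg.Agent.Lib.Helper15.Pg.Ar
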