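import Mathlib
import Cfsg.Agent.Lib.Helper15.Pg19
import Cfsg.Agent.Lib.Helper15.Pg21
import Cfsg.Agent.Lib.Helper15.PSL2Orders2

/-!
# Maximal subgroups of `PGL₂(q)`, part 22: structural lemmas for the intersections with `PSL₂`
-/

set_option autoImplicit false

open scoped Pointwise

namespace Cfsg.Agent.Lib.Helper15.Pg

open Matrix
open Cfsg.Agent.Lib.Helper14
open Cfsg.Agent.Lib.Helper15
open Cfsg.Agent.Lib.Helper15.Dk
open Cfsg.Agent.Lib.Helper15.Mx

section dihedral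

/-- elements of order three of a dihedral group commute -/
theorem dihedral_comm_of_pow_three (k : ℕ) (u v : DihedralGroup k) (hu : u ^ 3 = 1) (hv : v ^ 3 = 1) :
    u * v = v * u := by
  have key : ∀ w : DihedralGroup k, w ^ 3 = 1 → ∃ i, w = DihedralGroup.r i := by
    intro w hw
    cases w with
    | r i => exact ⟨i, rfl⟩
    | sr i =>
      exfalso
      have h1 : (DihedralGroup.sr i : DihedralGroup k) ^ 3 = DihedralGroup.sr i := by
        rw [pow_succ, pow_two, DihedralGroup.sr_mul_self, one_mul]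
      rw [h1, DihedralGroup.one_def] at hw
      cases hw
  obtain ⟨i, rfl⟩ := key u hu
  obtain ⟨j, rfl⟩ := key v hv
  rw [DihedralGroup.r_mul_r, DihedralGroup.r_mul_r, add_comm]

end dihedral

variable {F : Type*} [Field F]

/-- an element of `M ∩ PSL₂` from a rotation of a dihedral `M` -/
theorem exists_orderOf_of_dihedral (M : Subgroup (ProjGenLinGroup (Fin 2) F)) (n : ℕ)
    (e : M ≃* DihedralGroup n) :
    ∃ y ∈ M.comap (iot F), orderOf y = n / Nat.gcd n 2 := by
  set t : ProjGenLinGroup (Fin 2) F := ((e.symm (DihedralGroup.r 1) : M) : ProjGenLinGroup (Fin 2) F) with ht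
  have hot : orderOf t = n := by
    rw [ht, orderOf_iso_coe, DihedralGroup.orderOf_r_one]
  obtain ⟨y, hy⟩ := sq_mem_range t
  refine ⟨y, ?_, ?_⟩
  · rw [Subgroup.mem_comap, hy]
    exact M.mul_mem (SetLike.coe_mem _) (SetLike.coe_mem _)
  · rw [← orderOf_injective (iot F) iot_injective y, hy, ← pow_two, orderOf_pow' t (by norm_num), hot]

/-- two non-commuting elements of order three in `M ∩ PSL₂` for `M ≅ S₄` -/
theorem exists_noncomm_of_S4 (M : Subgroup (ProjGenLinGroup (Fin 2) F)) (e : M ≃* Equiv.Perm (Fin 4)) :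
    ∃ y z, y ∈ M.comap (iot F) ∧ z ∈ M.comap (iot F) ∧ y ^ 3 = 1 ∧ z ^ 3 = 1 ∧ y * z ≠ z * y := by
  obtain ⟨a, b, ha, hb, hab⟩ : ∃ a b : Equiv.Perm (Fin 4), a ^ 3 = 1 ∧ b ^ 3 = 1 ∧ a * b ≠ b * a :=
    ⟨c[0, 1, 2], c[0, 1, 3], by decide, by decide, by decide⟩
  have hsq : ∀ c : Equiv.Perm (Fin 4), c ^ 3 = 1 →
      ∃ y, y ∈ M.comap (iot F) ∧ iot F y = ((e.symm c : M) : ProjGenLinGroup (Fin 2) F) := by
    intro c hc
    have h1 : c = c⁻¹ * c⁻¹ := by
      have : c * (c * c) = 1 := by rw [← hc, pow_succ, pow_two, mul_assoc]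
      rw [← _root_.mul_inv_rev, ← inv_eq_of_mul_eq_one_right this, inv_inv]
    obtain ⟨y, hy⟩ := sq_mem_range (((e.symm c⁻¹ : M) : ProjGenLinGroup (Fin 2) F))
    have h2 : iot F y = ((e.symm c : M) : ProjGenLinGroup (Fin 2) F) := by
      rw [hy, ← Subgroup.coe_mul, ← map_mul, ← h1]
    refine ⟨y, ?_, h2⟩
    rw [Subgroup.mem_comap, h2]
    exact SetLike.coe_mem _
  obtain ⟨y, hyM, hy⟩ := hsq a ha
  obtain ⟨z, hzM, hz⟩ := hsq b hb
  refine ⟨y, z, hyM, hzM, ?_, ?_, ?_⟩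
  · apply iot_injective
    rw [map_pow, hy, ← Subgroup.coe_pow, ← map_pow, ha, map_one, map_one]
    rfl
  · apply iot_injective
    rw [map_pow, hz, ← Subgroup.coe_pow, ← map_pow, hb, map_one, map_one]
    rfl
  · intro hyz
    apply hab
    have h1 := congrArg (iot F) hyz
    rw [map_mul, map_mul, hy, hz, ← Subgroup.coe_mul, ← Subgroup.coe_mul, ← map_mul, ← map_mul] at h1
    exact e.symm.injective (Subtype.ext h1)

/-- `M ∩ PSL₂` for `M ≅ S₄` is not contained in a dihedral subgroup -/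
theorem not_le_dihedral_of_S4 (M : Subgroup (ProjGenLinGroup (Fin 2) F)) (e : M ≃* Equiv.Perm (Fin 4))
    (X : Subgroup (ProjectiveSpecialLinearGroup (Fin 2) F)) (k : ℕ) (eX : X ≃* DihedralGroup k)
    (hle : M.comap (iot F) ≤ X) : False := by
  obtain ⟨y, z, hyM, hzM, hy, hz, hyz⟩ := exists_noncomm_of_S4 M e
  have hyX := hle hyM
  have hzX := hle hzM
  have h1 : (eX ⟨y, hyX⟩) ^ 3 = 1 := by
    rw [← map_pow]
    have : (⟨y, hyX⟩ : X) ^ 3 = 1 := Subtype.ext (by rw [Subgroup.coe_pow]; exact hy)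
    rw [this, map_one]
  have h2 : (eX ⟨z, hzX⟩) ^ 3 = 1 := by
    rw [← map_pow]
    have : (⟨z, hzX⟩ : X) ^ 3 = 1 := Subtype.ext (by rw [Subgroup.coe_pow]; exact hz)
    rw [this, map_one]
  have h3 := dihedral_comm_of_pow_three k _ _ h1 h2
  rw [← map_mul, ← map_mul] at h3
  have h4 := eX.injective h3
  apply hyz
  exact congrArg Subtype.val h4

section finite

variable [Fintype F]

/-- the orders of the elements of `PGL₂(q)`, `q` odd, are at most `2 q` -/
theorem orderOf_le_pgl (hodd : Odd (Fintype.card F)) (g : ProjGenLinGroup (Fin 2) F) :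
    0 < orderOf g ∧ orderOf g ≤ 2 * Fintype.card F := by
  obtain ⟨p, hp⟩ := CharP.exists F
  have hpr : Fact p.Prime := ⟨CharP.char_is_prime F p⟩
  have h2 : (2 : F) ≠ 0 := Mx.two_ne_zero_of_odd hodd
  obtain ⟨y, hy⟩ := sq_mem_range g
  obtain ⟨g', rfl⟩ := toPSL2_surjective y
  have hq3 : 3 ≤ Fintype.card F := by
    have h1 : 1 < Fintype.card F := Fintype.one_lt_card
    rw [Nat.odd_iff] at hodd
    omega
  have hple : p ≤ Fintype.card F := by
    obtain ⟨n, -, hn⟩ := FiniteField.card F p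
    rw [hn]
    exact Nat.le_self_pow n.ne_zero p
  have hy_le : 0 < orderOf (toPSL2 F g') ∧ orderOf (toPSL2 F g') ≤ Fintype.card F := by
    have hgcd := gcd_two_of_ne h2
    rcases orderOf_mk_dvd p g' with h | h | h
    · exact ⟨Nat.pos_of_dvd_of_pos h hpr.out.pos, (Nat.le_of_dvd hpr.out.pos h).trans hple⟩
    · rw [hgcd] at h
      have hpos : 0 < (Fintype.card F - 1) / 2 := by omega
      refine ⟨Nat.pos_of_dvd_of_pos h hpos, (Nat.le_of_dvd hpos h).trans ?_⟩
      omega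
    · rw [hgcd] at h
      have hpos : 0 < (Fintype.card F + 1) / 2 := by omega
      refine ⟨Nat.pos_of_dvd_of_pos h hpos, (Nat.le_of_dvd hpos h).trans ?_⟩
      omega
  have hpow : g ^ (2 * orderOf (toPSL2 F g')) = 1 := by
    rw [pow_mul, pow_two, ← hy, ← map_pow, pow_orderOf_eq_one, map_one]
  have hdvd := orderOf_dvd_of_pow_eq_one hpow
  have hpos2 : 0 < 2 * orderOf (toPSL2 F g') := by omega
  refine ⟨Nat.pos_of_dvd_of_pos hdvd hpos2, (Nat.le_of_dvd hpos2 hdvd).trans ?_⟩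
  omega

/-- subfields have prime power order for the same prime -/
theorem exists_card_eq_pow (p : ℕ) [Fact p.Prime] [CharP F p] (F₀ : Type*) [Field F₀] [Fintype F₀] (r : ℕ)
    (hq : Fintype.card F = Fintype.card F₀ ^ r) : ∃ a, Fintype.card F₀ = p ^ a := by
  obtain ⟨l, hl⟩ := CharP.exists F₀
  have hlr : Fact l.Prime := ⟨CharP.char_is_prime F₀ l⟩
  obtain ⟨n, -, hn⟩ := FiniteField.card F₀ l
  obtain ⟨m, -, hm⟩ := FiniteField.card F p
  have h1 : l ∣ Fintype.card F₀ := by rw [hn]; exact dvd_pow_self _ n.ne_zero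
  have hr : r ≠ 0 := by
    rintro rfl
    rw [pow_zero] at hq
    have : 1 < Fintype.card F := Fintype.one_lt_card
    omega
  have h2 : l ∣ p ^ (m : ℕ) := by
    rw [← hm, hq]
    exact h1.trans (dvd_pow_self _ hr)
  have h3 : l = p := (Nat.prime_dvd_prime_iff_eq hlr.out (Fact.out : p.Prime)).1 (hlr.out.dvd_of_dvd_pow h2)
  exact ⟨n, by rw [hn, h3]⟩

end finite

end Cfsg.Agent.Lib.Helper15.Pg
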