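import Mathlib
import Cfsg.Agent.Lib.Helper15.Pg22

/-!
# Maximal subgroups of `PGL₂(q)`, part 23: the intersection with `PSL₂` is maximal
-/

set_option autoImplicit false

open scoped Pointwise

namespace Cfsg.Agent.Lib.Helper15.Pg

open Matrix
open Cfsg.Agent.Lib.Helper14
open Cfsg.Agent.Lib.Helper15
open Cfsg.Agent.Lib.Helper15.Dk
open Cfsg.Agent.Lib.Helper15.Mx

variable {F : Type*} [Field F] [Fintype F]

/-- numerical summary of the list of maximal subgroups of `PGL₂(q)` -/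
theorem M_summary (p : ℕ) [Fact p.Prime] [CharP F p] (hodd : Odd (Fintype.card F)) (h5 : 5 ≤ Fintype.card F)
    (h7 : Fintype.card F ≠ 7) (h9 : Fintype.card F ≠ 9) (h11 : Fintype.card F ≠ 11)
    (M : Subgroup (ProjGenLinGroup (Fin 2) F)) (hM : IsMax M) :
    2 * Nat.card (M.comap (iot F)) = Fintype.card F * (Fintype.card F - 1) ∨
    (Nat.card (M.comap (iot F)) = Fintype.card F - 1 ∧ 13 ≤ Fintype.card F ∧
      ∃ y ∈ M.comap (iot F), 2 * orderOf y = Fintype.card F - 1) ∨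
    Nat.card (M.comap (iot F)) = Fintype.card F + 1 ∨
    (Nat.card (M.comap (iot F)) = 12 ∧ (Fintype.card F).Prime ∧
      (Fintype.card F % 8 = 3 ∨ Fintype.card F % 8 = 5) ∧ Nonempty (M ≃* Equiv.Perm (Fin 4))) ∨
    (∃ q₀ r a : ℕ, 2 ≤ q₀ ∧ 2 * Nat.card (M.comap (iot F)) = q₀ * (q₀ ^ 2 - 1) ∧ r.Prime ∧ Odd r ∧
      Fintype.card F = q₀ ^ r ∧ q₀ = p ^ a) := by
  have hcM := hM.card_eq hodd
  have hodd' := Nat.odd_iff.1 hodd
  rcases maximal_pgl hodd (by omega) M hM with hA | ⟨hq5, ⟨eM⟩⟩ | ⟨⟨eM⟩⟩ | ⟨hqp, hq8, ⟨eM⟩⟩ |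
    ⟨F₀, i1, i2, r, hr, hro, hq0, ⟨eM⟩⟩
  · left
    omega
  · right; left
    have h1 : Nat.card M = 2 * (Fintype.card F - 1) := by
      rw [Nat.card_congr eM.toEquiv, DihedralGroup.nat_card]
    refine ⟨by omega, by omega, ?_⟩
    obtain ⟨y, hy, hoy⟩ := exists_orderOf_of_dihedral M _ eM
    refine ⟨y, hy, ?_⟩
    have h2 : Nat.gcd (Fintype.card F - 1) 2 = 2 := Nat.gcd_eq_right (by omega)
    rw [hoy, h2]
    omega
  · right; right; left
    have h1 : Nat.card M = 2 * (Fintype.card F + 1) := by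
      rw [Nat.card_congr eM.toEquiv, DihedralGroup.nat_card]
    omega
  · right; right; right; left
    have h1 : Nat.card M = 24 := by
      rw [Nat.card_congr eM.toEquiv, card_S4]
    exact ⟨by omega, hqp, hq8, ⟨eM⟩⟩
  · right; right; right; right
    have h1 : Nat.card M = Fintype.card F₀ * (Fintype.card F₀ ^ 2 - 1) := by
      rw [Nat.card_congr eM.toEquiv, card_PGL2]
    obtain ⟨a, ha⟩ := exists_card_eq_pow p F₀ r hq0
    exact ⟨Fintype.card F₀, r, a, Fintype.one_lt_card, by omega, hr, hro, hq0, ha⟩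

/-- numerical summary of the list of maximal subgroups of `PSL₂(q)` -/
theorem X_summary (p : ℕ) [Fact p.Prime] [CharP F p] (hodd : Odd (Fintype.card F)) (h5 : 5 ≤ Fintype.card F)
    (X : Subgroup (ProjectiveSpecialLinearGroup (Fin 2) F)) (hX : IsCoatom X) :
    2 * Nat.card X = Fintype.card F * (Fintype.card F - 1) ∨
    (Nat.card X = Fintype.card F - 1 ∧ ∃ k : ℕ, Nonempty (X ≃* DihedralGroup k)) ∨
    (Nat.card X = Fintype.card F + 1 ∧ ∃ k : ℕ, Nonempty (X ≃* DihedralGroup k)) ∨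
    (∃ q₁ : ℕ, Fintype.card F = q₁ ^ 2 ∧ Nat.card X = q₁ * (q₁ ^ 2 - 1) ∧
      ∀ y ∈ X, 0 < orderOf y ∧ orderOf y ≤ 2 * q₁) ∨
    (∃ q₁ s b : ℕ, s.Prime ∧ Odd s ∧ Fintype.card F = q₁ ^ s ∧ 2 * Nat.card X = q₁ * (q₁ ^ 2 - 1) ∧
      q₁ = p ^ b) ∨
    (Nat.card X = 60 ∧ (Fintype.card F % 10 = 1 ∨ Fintype.card F % 10 = 9) ∧
      (Fintype.card F = p ∨ Fintype.card F = p ^ 2)) ∨
    (Nat.card X = 12 ∧ Fintype.card F = p ∧ (p % 8 = 3 ∨ p % 8 = 5)) ∨
    (Nat.card X = 24 ∧ Fintype.card F = p ∧ (p % 8 = 1 ∨ p % 8 = 7)) := by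
  rcases maximal_odd p hodd h5 X hX with h1 | ⟨h13, k, hk, ⟨eX⟩⟩ | ⟨h7', h9', k, hk, ⟨eX⟩⟩ |
    ⟨F₁, j1, j2, hq1, ⟨eX⟩⟩ | ⟨F₁, j1, j2, s, hs, hso, hq1, ⟨eX⟩⟩ | ⟨h10, hqp', ⟨eX⟩⟩ |
    ⟨hqp', h8', h10', ⟨eX⟩⟩ | ⟨hqp', h8', ⟨eX⟩⟩
  · left
    exact h1
  · right; left
    refine ⟨?_, k, ⟨eX⟩⟩
    rw [Nat.card_congr eX.toEquiv, DihedralGroup.nat_card, hk]
  · right; right; left
    refine ⟨?_, k, ⟨eX⟩⟩
    rw [Nat.card_congr eX.toEquiv, DihedralGroup.nat_card, hk]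
  · right; right; right; left
    have hodd₁ : Odd (Fintype.card F₁) := by
      rw [hq1] at hodd
      exact (Nat.odd_pow_iff (by norm_num)).1 hodd
    refine ⟨Fintype.card F₁, hq1, ?_, ?_⟩
    · rw [Nat.card_congr eX.toEquiv, card_PGL2]
    · intro y hy
      have h1 := orderOf_le_pgl hodd₁ (eX ⟨y, hy⟩)
      rw [MulEquiv.orderOf_eq, orderOf_subtype] at h1
      exact h1
  · right; right; right; right; left
    have hodd₁ : Odd (Fintype.card F₁) := by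
      rw [hq1] at hodd
      exact (Nat.odd_pow_iff hs.ne_zero).1 hodd
    obtain ⟨b, hb⟩ := exists_card_eq_pow p F₁ s hq1
    refine ⟨Fintype.card F₁, s, b, hs, hso, hq1, ?_, hb⟩
    rw [Nat.card_congr eX.toEquiv, card_PSL2_of_odd hodd₁]
  · right; right; right; right; right; left
    refine ⟨?_, h10, ?_⟩
    · rw [Nat.card_congr eX.toEquiv, card_A5]
    · rcases hqp' with h | h
      · exact Or.inl h
      · exact Or.inr h.1
  · right; right; right; right; right; right; left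
    refine ⟨?_, hqp', h8'⟩
    rw [Nat.card_congr eX.toEquiv, card_A4]
  · right; right; right; right; right; right; right
    refine ⟨?_, hqp', h8'⟩
    rw [Nat.card_congr eX.toEquiv, card_S4]

end Cfsg.Agent.Lib.Helper15.Pg
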