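import Mathlib
import Cfsg.Agent.Lib.Helper15.Pg23

/-!
# Maximal subgroups of `PGL₂(q)`, part 24: the intersection with `PSL₂` is maximal, the assembly
-/

set_option autoImplicit false

open scoped Pointwise

namespace Cfsg.Agent.Lib.Helper15.Pg

open Matrix
open Cfsg.Agent.Lib.Helper14
open Cfsg.Agent.Lib.Helper15
open Cfsg.Agent.Lib.Helper15.Dk
open Cfsg.Agent.Lib.Helper15.Mx

variable {F : Type*} [Field F] [Fintype F]

/-- the intersection of a maximal subgroup of `PGL₂(q)` with `PSL₂(q)` is maximal, `q` odd, outside the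
exceptional cases -/
theorem inter_maximal_odd (hodd : Odd (Fintype.card F)) (h5 : 5 ≤ Fintype.card F)
    (h7 : Fintype.card F ≠ 7) (h9 : Fintype.card F ≠ 9) (h11 : Fintype.card F ≠ 11)
    (h40 : (Fintype.card F).Prime → Fintype.card F % 40 ∉ ({11, 19, 21, 29} : Finset ℕ))
    (M : Subgroup (ProjGenLinGroup (Fin 2) F)) (hM : IsMax M) : IsCoatom (M.comap (iot F)) := by
  obtain ⟨p, hp⟩ := CharP.exists F
  have hpr : Fact p.Prime := ⟨CharP.char_is_prime F p⟩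
  have hpp : p.Prime := hpr.out
  have h4 : 4 ≤ Fintype.card F := by omega
  have hodd' := Nat.odd_iff.1 hodd
  have hMs := M_summary p hodd h5 h7 h9 h11 M hM
  obtain ⟨H₀, hH₀⟩ : ∃ H₀, H₀ = M.comap (iot F) := ⟨_, rfl⟩
  rw [← hH₀] at hMs ⊢
  have hne_top : H₀ ≠ ⊤ := by rw [hH₀]; exact hM.comap_ne_top
  have hh2 : 2 ≤ Nat.card H₀ := by
    rcases hMs with hA | ⟨hB, h13, -⟩ | hC | ⟨hD, -⟩ | ⟨q₀, r, a, hq02, hE, -⟩
    · obtain ⟨m, hm⟩ : ∃ m, Fintype.card F = m + 1 := ⟨Fintype.card F - 1, by omega⟩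
      rw [hm, Nat.add_sub_cancel] at hA
      nlinarith
    · omega
    · omega
    · omega
    · have : 2 ^ 2 ≤ q₀ ^ 2 := Nat.pow_le_pow_left hq02 2
      have : 2 * 3 ≤ q₀ * (q₀ ^ 2 - 1) := Nat.mul_le_mul hq02 (by omega)
      omega
  have hbot : H₀ ≠ ⊥ := by
    intro h
    rw [h, Subgroup.card_bot] at hh2
    omega
  have hself : Subgroup.normalizer ((H₀ : Subgroup (ProjectiveSpecialLinearGroup (Fin 2) F)) :
      Set (ProjectiveSpecialLinearGroup (Fin 2) F)) = H₀ := by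
    rw [hH₀]
    exact hM.normalizer_comap h4 (by rw [← hH₀]; exact hbot)
  rcases eq_top_or_exists_le_coatom H₀ with h | ⟨X, hX, hle⟩
  · exact (hne_top h).elim
  suffices hXH : X = H₀ by rw [← hXH]; exact hX
  have key : Nat.card X ≤ 2 * Nat.card H₀ → X = H₀ := eq_of_le_of_card_le H₀ X hle hself
  have hdvd : Nat.card H₀ ∣ Nat.card X := Subgroup.card_dvd_of_le hle
  have hxpos : 0 < Nat.card X := Nat.card_pos
  have hXs := X_summary p hodd h5 X hX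
  obtain ⟨h, hh⟩ : ∃ h, h = Nat.card H₀ := ⟨_, rfl⟩
  obtain ⟨x, hx⟩ : ∃ x, x = Nat.card X := ⟨_, rfl⟩
  rw [← hh] at hMs hdvd key hh2
  rw [← hx] at hXs hdvd key hxpos
  rcases hMs with hA | ⟨hB, h13, y, hyH, hoy⟩ | hC | ⟨hD, hqprime, hq8, ⟨eM⟩⟩ |
    ⟨q₀, r, a, hq02, hE, hr, hro, hq0, hq0p⟩
  · -- point stabilisers
    rcases hXs with h1 | ⟨h1, -⟩ | ⟨h1, -⟩ | ⟨q₁, hq1, h1, -⟩ | ⟨q₁, s, b, hs, hso, hq1, h1, -⟩ |
      ⟨h1, h10, hqp⟩ | ⟨h1, hqp, h8⟩ | ⟨h1, hqp, h8⟩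
    · exact key (by omega)
    · exact (Ar.A2 _ h x h5 hA hdvd h1).elim
    · exact (Ar.A3 _ h x h5 hA hdvd h1).elim
    · exact (Ar.A4 _ h x q₁ h5 hA hdvd hq1 h1).elim
    · have hs3 : 3 ≤ s := by
        have := hs.two_le
        rcases hso with ⟨c, hc⟩
        omega
      exact (Ar.A5 _ h x q₁ s h5 hA hdvd hs3 hq1 h1 hxpos).elim
    · exact (Ar.A6 _ h x h5 hodd' h7 h9 h11 hA hdvd h1 h10).elim
    · exact (Ar.A7 _ h x h5 hodd' hA hdvd h1).elim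
    · rw [← hqp] at h8
      exact (Ar.A8 _ h x h5 hodd' h7 hA hdvd h1 h8).elim
  · -- split dihedral
    rcases hXs with h1 | ⟨h1, -⟩ | ⟨h1, -⟩ | ⟨q₁, hq1, h1, hord⟩ | ⟨q₁, s, b, hs, hso, hq1, h1, -⟩ |
      ⟨h1, h10, hqp⟩ | ⟨h1, hqp, h8⟩ | ⟨h1, hqp, h8⟩
    · exact (Ar.B1 _ h x h5 hodd' hB hdvd h1).elim
    · exact key (by omega)
    · exact (Ar.B3 _ h x h5 hB hdvd h1).elim
    · exfalso
      have hyX : y ∈ X := hle hyH
      obtain ⟨-, h2⟩ := hord y hyX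
      have h3 : q₁ ^ 2 - 1 ≤ 4 * q₁ := by
        rw [← hq1]
        omega
      have h4' : q₁ ≤ 4 := by
        by_contra hlt
        push Not at hlt
        have : 5 * q₁ ≤ q₁ * q₁ := Nat.mul_le_mul_right _ hlt
        have e : q₁ ^ 2 = q₁ * q₁ := pow_two _
        omega
      have h5' : 4 ≤ q₁ := by
        by_contra hlt
        push Not at hlt
        have : q₁ ^ 2 ≤ 3 ^ 2 := Nat.pow_le_pow_left (by omega) 2
        omega
      have h6 : q₁ = 4 := by omega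
      rw [h6] at hq1
      omega
    · have hs3 : 3 ≤ s := by
        have := hs.two_le
        rcases hso with ⟨c, hc⟩
        omega
      exact (Ar.B5 _ h x q₁ s h5 hB hdvd hs3 hq1 h1 hxpos).elim
    · exact key (Ar.B6 _ h x p h13 hpp hB hdvd h1 h10 hqp)
    · exact key (Ar.B7 _ h x h13 hB h1)
    · exact key (Ar.B8 _ h x h13 hB h1)
  · -- nonsplit dihedral
    rcases hXs with h1 | ⟨h1, -⟩ | ⟨h1, -⟩ | ⟨q₁, hq1, h1, -⟩ | ⟨q₁, s, b, hs, hso, hq1, h1, -⟩ |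
      ⟨h1, h10, hqp⟩ | ⟨h1, hqp, h8⟩ | ⟨h1, hqp, h8⟩
    · exact (Ar.C1 _ h x h5 hC hdvd h1).elim
    · exfalso
      have := Nat.le_of_dvd hxpos hdvd
      omega
    · exact key (by omega)
    · exact (Ar.C4 _ h x q₁ h5 hC hdvd hq1 h1).elim
    · have hs3 : 3 ≤ s := by
        have := hs.two_le
        rcases hso with ⟨c, hc⟩
        omega
      exact (Ar.C5 _ h x q₁ s h5 hC hdvd hs3 hq1 h1 hxpos).elim
    · exact key (Ar.C6 _ h x p h5 h9 h11 hpp h40 hC hdvd h1 h10 hqp)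
    · exact key (Ar.C7 _ h x h5 hC h1)
    · rw [← hqp] at h8
      exact key (Ar.C8 _ h x h5 h7 hC hdvd h1 h8)
  · -- `S₄`
    rcases hXs with h1 | ⟨h1, k, ⟨eX⟩⟩ | ⟨h1, k, ⟨eX⟩⟩ | ⟨q₁, hq1, h1, -⟩ | ⟨q₁, s, b, hs, hso, hq1, h1, -⟩ |
      ⟨h1, h10, hqp⟩ | ⟨h1, hqp, h8⟩ | ⟨h1, hqp, h8⟩
    · exact (Ar.D1 _ h x h5 hq8 hD hdvd h1).elim
    · exact (not_le_dihedral_of_S4 M eM X k eX (by rw [← hH₀]; exact hle)).elim
    · exact (not_le_dihedral_of_S4 M eM X k eX (by rw [← hH₀]; exact hle)).elim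
    · exact (Ar.not_prime_pow _ q₁ 2 (le_refl 2) hq1 hqprime).elim
    · exact (Ar.not_prime_pow _ q₁ s hs.two_le hq1 hqprime).elim
    · exact (Ar.D6 _ hqprime h40 hq8 h10).elim
    · exact key (by omega)
    · exact key (by omega)
  · -- subfield subgroups
    have hr0 : r ≠ 0 := hr.ne_zero
    rcases hXs with h1 | ⟨h1, -⟩ | ⟨h1, -⟩ | ⟨q₁, hq1, h1, -⟩ | ⟨q₁, s, b, hs, hso, hq1, h1, hq1p⟩ |
      ⟨h1, h10, hqp⟩ | ⟨h1, hqp, h8⟩ | ⟨h1, hqp, h8⟩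
    · exact (Ar.E1 _ h x q₀ r h5 hq02 hE hro hq0 hdvd h1).elim
    · exact (Ar.E23 _ h x q₀ r h5 hodd' hq02 hr0 hE hq0 hdvd (Or.inl h1)).elim
    · exact (Ar.E23 _ h x q₀ r h5 hodd' hq02 hr0 hE hq0 hdvd (Or.inr h1)).elim
    · exact (Ar.E4 _ h x q₀ r q₁ h5 hodd' hq02 hE hro hq0 hdvd hq1 h1).elim
    · exact key (Ar.E5 _ h x q₀ r q₁ s p a b hpp hq0p hq1p hq02 hE hr hq0 hdvd hs hq1 h1)
    · exact key (Ar.E6 _ h x q₀ r h5 hodd' hq02 hE hro hq0 hdvd h1 h10)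
    · exact (Ar.not_prime_pow _ q₀ r hr.two_le hq0 (hqp ▸ hpp)).elim
    · exact (Ar.not_prime_pow _ q₀ r hr.two_le hq0 (hqp ▸ hpp)).elim

end Cfsg.Agent.Lib.Helper15.Pg
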