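import Mathlib
import Cfsg.Agent.Lib.Helper15.Pg24

/-!
# Maximal subgroups of `PGL₂(q)`, part 25: the intersection with `PSL₂` is maximal, all `q`
-/

set_option autoImplicit false

open scoped Pointwise

namespace Cfsg.Agent.Lib.Helper15.Pg

open Matrix
open Cfsg.Agent.Lib.Helper14
open Cfsg.Agent.Lib.Helper15
open Cfsg.Agent.Lib.Helper15.Dk
open Cfsg.Agent.Lib.Helper15.Mx

variable {F : Type*} [Field F] [Fintype F]

/-- a maximal subgroup of `PGL₂(q)` not containing `PSL₂(q)` meets `PSL₂(q)` in a maximal subgroup, outside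
the exceptional cases -/
theorem inter_coatom (h4 : 4 ≤ Fintype.card F)
    (h7 : Fintype.card F ≠ 7) (h9 : Fintype.card F ≠ 9) (h11 : Fintype.card F ≠ 11)
    (h40 : (Fintype.card F).Prime → Fintype.card F % 40 ∉ ({11, 19, 21, 29} : Finset ℕ))
    (M : Subgroup (ProjGenLinGroup (Fin 2) F)) (hM : IsCoatom M) (hML : ¬ (iot F).range ≤ M) :
    IsCoatom ((M ⊓ (iot F).range).subgroupOf (iot F).range) := by
  by_cases h2 : (2 : F) = 0
  · exact isCoatom_inf_of_eq_top _ M (range_iot_eq_top_of_two h2) hM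
  · have hnd : ¬ 2 ∣ Fintype.card F := fun h => h2 (two_dvd_card_iff.1 h)
    have hodd : Odd (Fintype.card F) := by
      rw [Nat.odd_iff]
      omega
    have h5 : 5 ≤ Fintype.card F := by omega
    exact isCoatom_inf_range_of_comap (iot F) iot_injective M
      (inter_maximal_odd hodd h5 h7 h9 h11 h40 M ⟨hM, hML⟩)

end Cfsg.Agent.Lib.Helper15.Pg
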