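import Mathlib
set_option autoImplicit false
namespace Cfsg.Agent.Lib.Helper15

open Projectivization
open scoped LinearAlgebra.Projectivization

section ptsIn
variable {F : Type*} [Field F] {V : Type*} [AddCommGroup V] [Module F V]

theorem rep_mem_iff (W : Submodule F V) (v : V) (hv : v ≠ 0) :
    (Projectivization.mk F v hv).rep ∈ W ↔ v ∈ W := by
  obtain ⟨a, ha⟩ := Projectivization.exists_smul_eq_mk_rep F v hv
  rw [← ha, Units.smul_def]
  exact Submodule.smul_mem_iff W a.ne_zero

theorem card_ptsIn (W : Submodule F V) :
    Nat.card {x : ℙ F V // x.rep ∈ W} = Nat.card (ℙ F W) := by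
  symm
  have hinj : Function.Injective W.subtype := W.subtype_injective
  have hmem : ∀ y : ℙ F W, (Projectivization.map W.subtype hinj y).rep ∈ W := by
    intro y
    induction y using Projectivization.ind with
    | h w hw =>
      rw [Projectivization.map_mk, rep_mem_iff]
      exact w.2
  refine Nat.card_congr (Equiv.ofBijective (fun y => ⟨Projectivization.map W.subtype hinj y, hmem y⟩) ⟨?_, ?_⟩)
  · intro y y' h
    have h' := congrArg Subtype.val h
    exact Projectivization.map_injective W.subtype hinj h'
  · rintro ⟨x, hx⟩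
    have hne : (⟨x.rep, hx⟩ : W) ≠ 0 := by
      intro h
      exact x.rep_nonzero (congrArg Subtype.val h)
    refine ⟨Projectivization.mk F ⟨x.rep, hx⟩ hne, ?_⟩
    apply Subtype.ext
    show Projectivization.map W.subtype hinj (Projectivization.mk F ⟨x.rep, hx⟩ hne) = x
    rw [Projectivization.map_mk]
    exact x.mk_rep

end ptsIn

section count
variable {F : Type*} [Field F] [Finite F] {V : Type*} [AddCommGroup V] [Module F V] [Finite V]

/-- the number of projective points in a nonzero subspace is `1` modulo `q` -/
theorem card_ptsIn_mod (W : Submodule F V) (hW : W ≠ ⊥) :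
    (Nat.card {x : ℙ F V // x.rep ∈ W} : ZMod (Nat.card F)) = 1 := by
  classical
  haveI : Fintype F := Fintype.ofFinite F
  haveI : Fintype W := Fintype.ofFinite W
  rw [card_ptsIn]
  have h1 := Projectivization.card' F W
  have hq : 1 < Nat.card F := Finite.one_lt_card
  have hdvd : Nat.card F ∣ Nat.card W := by
    rw [Nat.card_eq_fintype_card, Nat.card_eq_fintype_card, Module.card_eq_pow_finrank (K := F) (V := W)]
    have hpos : 0 < Module.finrank F W := by
      rw [Module.finrank_pos_iff]
      exact Submodule.nontrivial_iff_ne_bot.2 hW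
    exact dvd_pow_self _ hpos.ne'
  have h2 : ((Nat.card W : ℕ) : ZMod (Nat.card F)) = 0 := (ZMod.natCast_eq_zero_iff _ _).2 hdvd
  rw [h1] at h2
  push_cast at h2
  have h3 : ((Nat.card F - 1 : ℕ) : ZMod (Nat.card F)) = -1 := by
    rw [Nat.cast_sub hq.le, ZMod.natCast_self, Nat.cast_one, zero_sub]
  rw [h3] at h2
  linear_combination -h2

end count
end Cfsg.Agent.Lib.Helper15
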