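import Mathlib
import Cfsg.Agent.Lib.Helper15.QuadF2d

set_option autoImplicit false

namespace Cfsg.Agent.Lib.Helper15

open Module QuadraticMap

/-- the twisted function `q + f(·, w)` -/
def twist (m : ℕ) (q : (Fin m ⊕ Fin m → ZMod 2) → ZMod 2) (w : Fin m ⊕ Fin m → ZMod 2) :
    (Fin m ⊕ Fin m → ZMod 2) → ZMod 2 :=
  fun v => q v + (Cfsg.quadFormPlus m (ZMod 2) (v + w) - Cfsg.quadFormPlus m (ZMod 2) v - Cfsg.quadFormPlus m (ZMod 2) w)

theorem twist_polarId {m : ℕ} {q : (Fin m ⊕ Fin m → ZMod 2) → ZMod 2} (hq : PolarId m q) (w : Fin m ⊕ Fin m → ZMod 2) :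
    PolarId m (twist m q w) := by
  intro u v
  unfold twist
  have h1 : ∀ a b : Fin m ⊕ Fin m → ZMod 2, Cfsg.quadFormPlus m (ZMod 2) (a + b) - Cfsg.quadFormPlus m (ZMod 2) a
      - Cfsg.quadFormPlus m (ZMod 2) b = polar (QPlus (ZMod 2) m) a b := by
    intro a b
    unfold polar
    rw [QPlus_apply, QPlus_apply, QPlus_apply]
  rw [hq u v, h1, h1, h1, h1, polar_add_left]
  ring

theorem twist_eq {m : ℕ} {q : (Fin m ⊕ Fin m → ZMod 2) → ZMod 2} (hq : PolarId m q) (w v : Fin m ⊕ Fin m → ZMod 2) :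
    twist m q w v = q (v + w) - q w := by
  unfold twist
  rw [hq v w]
  ring

theorem card_space (m : ℕ) : Nat.card (Fin m ⊕ Fin m → ZMod 2) = 2 ^ (2 * m) := by
  rw [Nat.card_eq_fintype_card, Fintype.card_fun]
  simp
  ring

theorem twist_iff {m : ℕ} (hm : 1 ≤ m) {q : (Fin m ⊕ Fin m → ZMod 2) → ZMod 2} (hq : PolarId m q)
    (w : Fin m ⊕ Fin m → ZMod 2) :
    (∃ g : (Fin m ⊕ Fin m → ZMod 2) ≃ₗ[ZMod 2] (Fin m ⊕ Fin m → ZMod 2), ∀ v, twist m q w v = q (g v)) ↔ q w = 0 := by
  classical
  obtain ⟨k, rfl⟩ : ∃ k, m = k + 1 := ⟨m - 1, by omega⟩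
  have hq' := twist_polarId hq w
  have h01 : ∀ z : ZMod 2, z = 0 ∨ z = 1 := by decide
  constructor
  · rintro ⟨g, hg⟩
    by_contra hne
    have hw1 : q w = 1 := (h01 (q w)).resolve_left hne
    -- zero counts
    have hZ : Nat.card {v // twist (k + 1) q w v = 0} = Nat.card {v // q v = 0} := by
      apply Nat.card_congr
      exact g.toEquiv.subtypeEquiv (fun v => by rw [hg]; rfl)
    have hZ' : Nat.card {v // twist (k + 1) q w v = 0} = Nat.card {v // ¬ q v = 0} := by
      apply Nat.card_congr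
      refine (Equiv.addRight w).subtypeEquiv (fun v => ?_)
      rw [twist_eq hq, hw1]
      show q (v + w) - 1 = 0 ↔ ¬ q (v + w) = 0
      rcases h01 (q (v + w)) with h | h <;> rw [h] <;> decide
    have hcompl : Nat.card {v // ¬ q v = 0} = 2 ^ (2 * (k + 1)) - Nat.card {v // q v = 0} := by
      rw [← card_space, Nat.card_eq_fintype_card, Nat.card_eq_fintype_card, Nat.card_eq_fintype_card]
      exact Fintype.card_subtype_compl _
    have hle : Nat.card {v // q v = 0} ≤ 2 ^ (2 * (k + 1)) := by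
      rw [← card_space]
      exact Nat.card_le_card_of_injective _ Subtype.val_injective
    have e1 : (2 : ℕ) ^ (2 * (k + 1)) = 2 * 2 ^ (2 * k + 1) := by ring
    have e2 : (2 : ℕ) ^ (k + 1) = 2 * 2 ^ k := by ring
    have hpos : 0 < 2 ^ k := by positivity
    rcases hq.plus_or_minus hm with hp | hmn
    · have := hp.card_zeros
      omega
    · have := hmn.card_zeros
      omega
  · intro hw0
    have hZ : Nat.card {v // twist (k + 1) q w v = 0} = Nat.card {v // q v = 0} := by
      apply Nat.card_congr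
      refine (Equiv.addRight w).subtypeEquiv (fun v => ?_)
      rw [twist_eq hq, hw0, sub_zero]
      rfl
    have hpos : 0 < 2 ^ (k + 1) := by positivity
    rcases hq.plus_or_minus hm with hp | hmn
    · rcases hq'.plus_or_minus hm with hp' | hmn'
      · exact hp.exists_equiv hp'
      · have := hp.card_zeros
        have := hmn'.card_zeros
        omega
    · rcases hq'.plus_or_minus hm with hp' | hmn'
      · have := hp'.card_zeros
        have := hmn.card_zeros
        omega
      · exact hmn.exists_equiv hmn'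

end Cfsg.Agent.Lib.Helper15
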