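import Mathlib
import Cfsg.Agent.Lib.Helper15.QuadF2e

set_option autoImplicit false

namespace Cfsg.Agent.Lib.Helper15

open Module QuadraticMap

theorem polarId_plus (m : ℕ) : PolarId m (Cfsg.quadFormPlus m (ZMod 2)) := by
  intro u v
  ring

theorem twist_plus_apply (m : ℕ) (w v : Fin m ⊕ Fin m → ZMod 2) :
    twist m (Cfsg.quadFormPlus m (ZMod 2)) w v = Cfsg.quadFormPlus m (ZMod 2) v + polar (QPlus (ZMod 2) m) v w := by
  unfold twist polar
  rw [QPlus_apply, QPlus_apply, QPlus_apply]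

theorem twist_plus_injective (m : ℕ) : Function.Injective (twist m (Cfsg.quadFormPlus m (ZMod 2))) := by
  intro w w' h
  have hnd := nondegenerate_QPlus (ZMod 2) m
  have h1 : ∀ v, polar (QPlus (ZMod 2) m) v (w - w') = 0 := by
    intro v
    have := congrFun h v
    rw [twist_plus_apply, twist_plus_apply] at this
    rw [polar_sub_right, add_left_cancel this, sub_self]
  have := hnd.2 (w - w') (fun v => by rw [polarBilin_apply_apply]; exact h1 v)
  exact sub_eq_zero.mp this

theorem twist_plus_surjective (m : ℕ) (q : (Fin m ⊕ Fin m → ZMod 2) → ZMod 2) (hq : PolarId m q) :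
    ∃ w, twist m (Cfsg.quadFormPlus m (ZMod 2)) w = q := by
  have hnd := nondegenerate_QPlus (ZMod 2) m
  have h01 : ∀ z : ZMod 2, z = 0 ∨ z = 1 := by decide
  have hplus0 : Cfsg.quadFormPlus m (ZMod 2) 0 = 0 := (polarId_plus m).map_zero
  let ℓ : (Fin m ⊕ Fin m → ZMod 2) →ₗ[ZMod 2] ZMod 2 :=
    { toFun := fun v => q v - Cfsg.quadFormPlus m (ZMod 2) v
      map_add' := by
        intro u v
        rw [hq u v]
        ring
      map_smul' := by
        intro c v
        rcases h01 c with rfl | rfl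
        · simp [hq.map_zero, hplus0]
        · simp }
  refine ⟨(LinearMap.BilinForm.toDual (polarBilin (QPlus (ZMod 2) m)) hnd).symm ℓ, ?_⟩
  funext v
  rw [twist_plus_apply, polar_comm, ← polarBilin_apply_apply, LinearMap.BilinForm.apply_toDual_symm_apply]
  show _ + (q v - _) = _
  ring

theorem card_polarId_and (m : ℕ) (P : ((Fin m ⊕ Fin m → ZMod 2) → ZMod 2) → Prop) :
    Nat.card {q : (Fin m ⊕ Fin m → ZMod 2) → ZMod 2 // PolarId m q ∧ P q} =
      Nat.card {w : Fin m ⊕ Fin m → ZMod 2 // P (twist m (Cfsg.quadFormPlus m (ZMod 2)) w)} := by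
  symm
  apply Nat.card_congr
  refine Equiv.ofBijective (fun w => ⟨twist m (Cfsg.quadFormPlus m (ZMod 2)) w.1,
    ⟨twist_polarId (polarId_plus m) w.1, w.2⟩⟩) ⟨?_, ?_⟩
  · intro w w' h
    apply Subtype.ext
    apply twist_plus_injective m
    exact congrArg Subtype.val h
  · rintro ⟨q, hq, hP⟩
    obtain ⟨w, rfl⟩ := twist_plus_surjective m q hq
    exact ⟨⟨w, hP⟩, rfl⟩

end Cfsg.Agent.Lib.Helper15
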