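import Mathlib
set_option autoImplicit false
namespace Cfsg.Agent.Lib.Helper15

section redquot
variable {G : Type*} [Group G] [Finite G] (p : ℕ) [Fact p.Prime]

/-- a Sylow subgroup is redundant when every `p`-element lies in another Sylow subgroup -/
def IsRedundantSylow {H : Type*} [Group H] (Q : Sylow p H) : Prop :=
  ∀ x : H, (∃ k : ℕ, orderOf x = p ^ k) → ∃ P : Sylow p H, P ≠ Q ∧ x ∈ P

variable {p}

omit [Finite G] [Fact p.Prime] in
theorem mem_sylow_of_mk_mem (N : Subgroup G) [N.Normal] (hN : N ≤ Subgroup.center G) (P : Sylow p G)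
    (x : G) (k : ℕ) (hx : x ^ p ^ k = 1)
    (h : QuotientGroup.mk' N x ∈ (P : Subgroup G).map (QuotientGroup.mk' N)) : x ∈ (P : Subgroup G) := by
  obtain ⟨y, hy, hyx⟩ := h
  rw [QuotientGroup.mk'_apply, QuotientGroup.mk'_apply, QuotientGroup.eq] at hyx
  set z := y⁻¹ * x with hz
  have hzc : z ∈ Subgroup.center G := hN hyx
  rw [Subgroup.mem_center_iff] at hzc
  have hxyz : x = y * z := by rw [hz]; group
  obtain ⟨m, hm⟩ := P.isPGroup' ⟨y, hy⟩
  have hm' : y ^ p ^ m = 1 := by
    have := congrArg Subtype.val hm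
    simpa using this
  -- `z` is a `p`-element
  have hzp : z ^ (p ^ k * p ^ m) = 1 := by
    have hcomm : Commute y⁻¹ x := by
      have : Commute y z := hzc y
      have h1 : Commute y x := by rw [hxyz]; exact (Commute.refl y).mul_right this
      exact h1.inv_left
    rw [hz, hcomm.mul_pow, inv_pow, pow_mul', hm', one_pow, inv_one, one_mul, pow_mul, hx, one_pow]
  have hpz : IsPGroup p (Subgroup.zpowers z) := by
    intro w
    refine ⟨k + m, ?_⟩
    obtain ⟨n, hn⟩ := Subgroup.mem_zpowers_iff.1 w.2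
    apply Subtype.ext
    rw [Subgroup.coe_pow, Subgroup.coe_one, ← hn, ← zpow_natCast, ← zpow_mul, mul_comm, zpow_mul, zpow_natCast,
      pow_add, hzp, one_zpow]
  have hnorm : (P : Subgroup G) ≤ Subgroup.normalizer ((Subgroup.zpowers z : Subgroup G) : Set G) := by
    intro a _
    rw [Subgroup.mem_normalizer_iff]
    intro b
    have hb : ∀ b : G, b ∈ Subgroup.zpowers z → Commute a b := by
      intro b hb
      obtain ⟨n, rfl⟩ := Subgroup.mem_zpowers_iff.1 hb
      exact (show Commute a z from hzc a).zpow_right n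
    constructor
    · intro hb'
      have : a * b * a⁻¹ = b := by rw [(hb b hb').eq, mul_assoc, mul_inv_cancel, mul_one]
      rw [this]; exact hb'
    · intro hb'
      have h1 : Commute a (a * b * a⁻¹) := hb _ hb'
      have h3 : b = a * b * a⁻¹ := by
        calc b = a⁻¹ * ((a * b * a⁻¹) * a) := by group
          _ = a⁻¹ * (a * (a * b * a⁻¹)) := by rw [h1.eq]
          _ = a * b * a⁻¹ := by group
      rw [h3]; exact hb'
  have hsup : IsPGroup p ((P : Subgroup G) ⊔ Subgroup.zpowers z : Subgroup G) :=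
    P.isPGroup'.to_sup_of_normal_right' hpz hnorm
  have h1 := P.is_maximal' hsup le_sup_left
  have hzP : z ∈ (P : Subgroup G) := by
    rw [← h1]
    exact Subgroup.mem_sup_right (Subgroup.mem_zpowers z)
  rw [hxyz]
  exact Subgroup.mul_mem _ hy hzP

omit [Finite G] [Fact p.Prime] in
theorem sylow_eq_of_map_eq (N : Subgroup G) [N.Normal] (hN : N ≤ Subgroup.center G) (P Q : Sylow p G)
    (h : (P : Subgroup G).map (QuotientGroup.mk' N) = (Q : Subgroup G).map (QuotientGroup.mk' N)) : P = Q := by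
  have hle : (P : Subgroup G) ≤ (Q : Subgroup G) := by
    intro x hx
    obtain ⟨k, hk⟩ := P.isPGroup' ⟨x, hx⟩
    have hk' : x ^ p ^ k = 1 := by
      have := congrArg Subtype.val hk
      simpa using this
    apply mem_sylow_of_mk_mem N hN Q x k hk'
    rw [← h]
    exact Subgroup.mem_map_of_mem _ hx
  have := P.is_maximal' Q.isPGroup' hle
  exact Sylow.ext this.symm

/-- redundancy of Sylow subgroups passes to and from central quotients -/
theorem exists_redundant_quotient_iff (N : Subgroup G) [N.Normal] (hN : N ≤ Subgroup.center G) :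
    (∃ Q : Sylow p G, IsRedundantSylow p Q) ↔ ∃ Q : Sylow p (G ⧸ N), IsRedundantSylow p Q := by
  have hsurj : Function.Surjective (QuotientGroup.mk' N) := QuotientGroup.mk'_surjective N
  constructor
  · rintro ⟨Q, hQ⟩
    refine ⟨Q.mapSurjective hsurj, ?_⟩
    rintro xb ⟨k, hk⟩
    -- `xb` lies in some Sylow subgroup of the quotient
    have hpz : IsPGroup p (Subgroup.zpowers xb) := by
      intro w
      refine ⟨k, ?_⟩
      obtain ⟨n, hn⟩ := Subgroup.mem_zpowers_iff.1 w.2
      apply Subtype.ext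
      rw [Subgroup.coe_pow, Subgroup.coe_one, ← hn, ← zpow_natCast, ← zpow_mul, mul_comm, zpow_mul, zpow_natCast,
        ← hk, pow_orderOf_eq_one, one_zpow]
    obtain ⟨Rb, hRb⟩ := hpz.exists_le_sylow
    obtain ⟨R, rfl⟩ := Sylow.mapSurjective_surjective hsurj p Rb
    have hx : xb ∈ (R : Subgroup G).map (QuotientGroup.mk' N) := by
      have := hRb (Subgroup.mem_zpowers xb)
      rwa [Sylow.coe_mapSurjective] at this
    obtain ⟨y, hyR, rfl⟩ := hx
    obtain ⟨j, hj⟩ := R.isPGroup' ⟨y, hyR⟩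
    have hj' : y ^ p ^ j = 1 := by
      have := congrArg Subtype.val hj
      simpa using this
    have hyo : ∃ i : ℕ, orderOf y = p ^ i := by
      obtain ⟨i, _, hi⟩ := (Nat.dvd_prime_pow (Fact.out : p.Prime)).1 (orderOf_dvd_of_pow_eq_one hj')
      exact ⟨i, hi⟩
    obtain ⟨P, hPQ, hyP⟩ := hQ y hyo
    refine ⟨P.mapSurjective hsurj, ?_, ?_⟩
    · intro heq
      apply hPQ
      apply sylow_eq_of_map_eq N hN
      have := congrArg (fun S : Sylow p (G ⧸ N) => (S : Subgroup (G ⧸ N))) heq
      simpa only [Sylow.coe_mapSurjective] using this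
    · show QuotientGroup.mk' N y ∈ ((P.mapSurjective hsurj : Sylow p (G ⧸ N)) : Subgroup (G ⧸ N))
      rw [Sylow.coe_mapSurjective]
      exact Subgroup.mem_map_of_mem _ hyP
  · rintro ⟨Qb, hQb⟩
    obtain ⟨Q, rfl⟩ := Sylow.mapSurjective_surjective hsurj p Qb
    refine ⟨Q, ?_⟩
    rintro x ⟨k, hk⟩
    have hxk : x ^ p ^ k = 1 := by rw [← hk]; exact pow_orderOf_eq_one x
    have hxb : ∃ i : ℕ, orderOf (QuotientGroup.mk' N x) = p ^ i := by
      have : (QuotientGroup.mk' N x) ^ p ^ k = 1 := by rw [← map_pow, hxk, map_one]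
      obtain ⟨i, _, hi⟩ := (Nat.dvd_prime_pow (Fact.out : p.Prime)).1 (orderOf_dvd_of_pow_eq_one this)
      exact ⟨i, hi⟩
    obtain ⟨Pb, hPQ, hxP⟩ := hQb _ hxb
    obtain ⟨P, rfl⟩ := Sylow.mapSurjective_surjective hsurj p Pb
    refine ⟨P, ?_, ?_⟩
    · rintro rfl
      exact hPQ rfl
    · apply mem_sylow_of_mk_mem N hN P x k hxk
      have : QuotientGroup.mk' N x ∈ ((P.mapSurjective hsurj : Sylow p (G ⧸ N)) : Subgroup (G ⧸ N)) := hxP
      rwa [Sylow.coe_mapSurjective] at this

end redquot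
end Cfsg.Agent.Lib.Helper15
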