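import Mathlib
import Cfsg.Agent.Lib.Helper15.RedSyl1
import Cfsg.Agent.Lib.Helper14.SemiConjFin
set_option autoImplicit false
namespace Cfsg.Agent.Lib.Helper15

open Matrix
open Cfsg.Agent.Lib.Helper14

section redsyl2
variable {F : Type*} [Field F] [Fintype F]

/-- two Sylow `2`-subgroups containing the `2`-part of a torus whose order is not a power of `2` -/
theorem exists_two_sylow (hodd : Odd (Fintype.card F)) (h2 : (2 : F) ≠ 0)
    (x : SpecialLinearGroup (Fin 2) F) (hx : x * x = -1)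
    (S : Sylow 2 (SpecialLinearGroup (Fin 2) F))
    (hS : ∀ s ∈ (S : Subgroup (SpecialLinearGroup (Fin 2) F)), s * x * s⁻¹ = x ∨ s * x * s⁻¹ = x⁻¹)
    (hnp : ¬ ∃ j : ℕ, Nat.card (Subgroup.centralizer ({x} : Set (SpecialLinearGroup (Fin 2) F))) = 2 ^ j) :
    ∃ S' : Sylow 2 (SpecialLinearGroup (Fin 2) F), S' ≠ S ∧
      torusTwo h2 x hx ≤ (S' : Subgroup (SpecialLinearGroup (Fin 2) F)) := by
  set T := Subgroup.centralizer ({x} : Set (SpecialLinearGroup (Fin 2) F)) with hT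
  have hns := not_isScalar2_of_sq h2 x hx
  -- an odd prime divides `|T|`
  obtain ⟨ℓ, hℓ, hℓdvd, hℓ2⟩ : ∃ ℓ : ℕ, ℓ.Prime ∧ ℓ ∣ Nat.card T ∧ ℓ ≠ 2 := by
    by_contra hcon
    push Not at hcon
    apply hnp
    refine ⟨(Nat.card T).primeFactorsList.length, ?_⟩
    apply Nat.eq_prime_pow_of_unique_prime_dvd Nat.card_pos.ne'
    intro d hd hdd
    exact hcon d hd hdd
  have : Fact ℓ.Prime := ⟨hℓ⟩
  obtain ⟨t, ht⟩ := exists_prime_orderOf_dvd_card' ℓ hℓdvd
  have htT : (t : SpecialLinearGroup (Fin 2) F) ∈ T := t.2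
  have hto : (t : SpecialLinearGroup (Fin 2) F) ^ ℓ = 1 := by
    have := pow_orderOf_eq_one t
    rw [ht] at this
    have := congrArg Subtype.val this
    simpa using this
  have ht1 : (t : SpecialLinearGroup (Fin 2) F) ≠ 1 := by
    intro h
    have : t = 1 := Subtype.ext h
    rw [this, orderOf_one] at ht
    exact hℓ.one_lt.ne ht
  refine ⟨(t : SpecialLinearGroup (Fin 2) F) • S, ?_, ?_⟩
  · intro heq
    rw [Sylow.smul_eq_iff_mem_normalizer] at heq
    obtain ⟨s₀, hs₀S, hs₀⟩ := exists_inverting_mem_sylow hodd h2 x hx S hS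
    have htx : (t : SpecialLinearGroup (Fin 2) F) * x * (t : SpecialLinearGroup (Fin 2) F)⁻¹ = x :=
      (mem_centralizer_iff_conj_eq x t).1 htT
    have htS := mem_sylow_of_mem_normalizer h2 x hx S hS s₀ hs₀S hs₀ t (Or.inl htx) heq
    obtain ⟨k, hk⟩ := S.isPGroup' ⟨t, htS⟩
    have hk' : (t : SpecialLinearGroup (Fin 2) F) ^ 2 ^ k = 1 := by
      have := congrArg Subtype.val hk
      simpa using this
    apply ht1
    apply eq_one_of_pow_coprime _ (2 ^ k) ℓ _ hk' hto
    apply Nat.Coprime.pow_left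
    exact (Nat.coprime_primes Nat.prime_two hℓ).2 hℓ2.symm
  · intro g hg
    have hgS := torusTwo_le_sylow h2 x hx S hS hg
    have hgT : g ∈ T := ((mem_torusTwo h2 x hx g).1 hg).1
    rw [Sylow.coe_subgroup_smul, Subgroup.mem_pointwise_smul_iff_inv_smul_mem, MulAut.smul_def,
      ← map_inv, MulAut.conj_apply, inv_inv]
    have hcomm := centralizer_commute x hns (t : SpecialLinearGroup (Fin 2) F) g htT hgT
    have : (t : SpecialLinearGroup (Fin 2) F)⁻¹ * g * t = g := by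
      rw [mul_assoc, ← hcomm, ← mul_assoc, inv_mul_cancel, one_mul]
    rw [this]
    exact hgS

/-- square roots of `-1` in `SL₂(F)` are conjugate -/
theorem isConj_of_sq_neg_one (h2 : (2 : F) ≠ 0) (x y : SpecialLinearGroup (Fin 2) F) (hx : x * x = -1)
    (hy : y * y = -1) : IsConj x y := by
  obtain ⟨p, hp⟩ := CharP.exists F
  have hpp : Fact p.Prime := ⟨CharP.char_is_prime F p⟩
  have hp2 : p ≠ 2 := by
    rintro rfl
    apply h2
    have := CharP.cast_eq_zero F 2
    exact_mod_cast this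
  have hcop : Nat.Coprime 4 p := by
    have : Nat.Coprime 2 p := (Nat.coprime_primes Nat.prime_two hpp.out).2 hp2.symm
    exact Nat.Coprime.pow_left 2 this
  have hord : ∀ z : SpecialLinearGroup (Fin 2) F, z * z = -1 → (orderOf z).Coprime p := by
    intro z hz
    exact Nat.Coprime.coprime_dvd_left (orderOf_dvd_of_pow_eq_one (pow_four_of_sq z hz)) hcop
  apply isConj_SL_of_charpoly_eq p x y (hord x hx) (hord y hy)
  rw [Matrix.charpoly_fin_two, Matrix.charpoly_fin_two, trace_eq_zero_of_sq x hx, trace_eq_zero_of_sq y hy,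
    x.det_coe, y.det_coe]

/-- every `2`-element of `SL₂(F)` lies in the `2`-part of the torus of a square root of `-1` normalized
by some Sylow `2`-subgroup -/
theorem exists_torusTwo_cover (hodd : Odd (Fintype.card F)) (h2 : (2 : F) ≠ 0)
    (g : SpecialLinearGroup (Fin 2) F) (k : ℕ) (hg : g ^ 2 ^ k = 1) :
    ∃ (x : SpecialLinearGroup (Fin 2) F) (hx : x * x = -1) (S : Sylow 2 (SpecialLinearGroup (Fin 2) F)),
      (∀ s ∈ (S : Subgroup (SpecialLinearGroup (Fin 2) F)), s * x * s⁻¹ = x ∨ s * x * s⁻¹ = x⁻¹) ∧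
        g ∈ torusTwo h2 x hx := by
  have hpg : IsPGroup 2 (Subgroup.zpowers g) := by
    intro h
    refine ⟨k, ?_⟩
    obtain ⟨n, hn⟩ := Subgroup.mem_zpowers_iff.1 h.2
    apply Subtype.ext
    rw [Subgroup.coe_pow, Subgroup.coe_one, ← hn, ← zpow_natCast, ← _root_.zpow_mul, mul_comm, _root_.zpow_mul, zpow_natCast, hg,
      _root_.one_zpow]
  obtain ⟨S', hS'⟩ := hpg.exists_le_sylow
  have hgS' : g ∈ (S' : Subgroup (SpecialLinearGroup (Fin 2) F)) := hS' (Subgroup.mem_zpowers g)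
  obtain ⟨x₀, hx₀, hS₀⟩ := exists_sq_normalized hodd h2 S'
  rcases hS₀ g hgS' with h | h
  · refine ⟨x₀, hx₀, S', hS₀, ?_⟩
    rw [mem_torusTwo]
    exact ⟨(mem_centralizer_iff_conj_eq x₀ g).2 h, k, hg⟩
  · have hgg : g * g = -1 := s0_sq h2 x₀ hx₀ g h
    obtain ⟨c, hc⟩ := isConj_iff.1 (isConj_of_sq_neg_one h2 x₀ g hx₀ hgg)
    refine ⟨g, hgg, c • S', ?_, self_mem_torusTwo h2 g hgg⟩
    intro s hs
    rw [Sylow.coe_subgroup_smul, Subgroup.mem_pointwise_smul_iff_inv_smul_mem, MulAut.smul_def,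
      ← map_inv, MulAut.conj_apply, inv_inv] at hs
    have key : s * g * s⁻¹ = c * ((c⁻¹ * s * c) * x₀ * (c⁻¹ * s * c)⁻¹) * c⁻¹ := by
      rw [← hc]; group
    rcases hS₀ _ hs with h' | h'
    · left
      rw [key, h', hc]
    · right
      rw [key, h', ← hc]
      group

end redsyl2
end Cfsg.Agent.Lib.Helper15
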