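import Mathlib
import Cfsg.Prelude.Def_Characters
import Cfsg.Agent.Lib.Helper11.S3282Defs
import Cfsg.Agent.Lib.Helper15.S3282A3
import Cfsg.Agent.Lib.Helper12.S3282G1a
import Cfsg.Agent.Lib.Helper14.S3282G2b
import Cfsg.Agent.Lib.Helper20.S3282A1

/-!
# S3282 piece A3 (helper15, for helper11): `A3_caseA` with the exact skeleton signature
-/

set_option autoImplicit false

namespace Cfsg.Agent.Lib.Helper15.S3282A3w

open Cfsg Cfsg.Agent.Lib.Helper11 Cfsg.Agent.Lib.Helper11.S3282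

universe u

variable {G : Type u} [Group G] {t s : G} {K : Subgroup G}

theorem coprime_aux (k : ℕ) : (2 * k + 1).Coprime (k * (2 * k + 2)) := by
  apply Nat.Coprime.mul_right
  · have h1 : Nat.gcd (2 * k + 1) k ∣ 2 * k + 1 := Nat.gcd_dvd_left _ _
    have h2 : Nat.gcd (2 * k + 1) k ∣ k := Nat.gcd_dvd_right _ _
    have h3 : Nat.gcd (2 * k + 1) k ∣ 1 := (Nat.dvd_add_right (h2.mul_left 2)).mp h1
    exact Nat.dvd_one.mp h3
  · have h1 : Nat.gcd (2 * k + 1) (2 * k + 2) ∣ 2 * k + 1 := Nat.gcd_dvd_left _ _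
    have h2 : Nat.gcd (2 * k + 1) (2 * k + 2) ∣ 2 * k + 1 + 1 := Nat.gcd_dvd_right _ _
    have h3 : Nat.gcd (2 * k + 1) (2 * k + 2) ∣ 1 := (Nat.dvd_add_right h1).mp h2
    exact Nat.dvd_one.mp h3

theorem A3_caseA [Finite G] (h : Hyp t s K) (hk : 4 ≤ Nat.card K)
    (hG : Nat.card G = Nat.card K * (2 * Nat.card K + 1) * (2 * Nat.card K + 2))
    {x : G} (hx : x ∈ RO K)
    (hcx : Nat.card (Subgroup.centralizer ({x} : Set G)) = 2 * Nat.card K + 1) :
    ∃ Q : Subgroup G, Nat.card Q = 2 * Nat.card K + 1 ∧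
      (∀ y ∈ Q, y ≠ 1 → Subgroup.centralizer ({y} : Set G) = Q) ∧ Q ⊓ K = ⊥ ∧
      Subgroup.normalizer (Q : Set G) = Q ⊔ K := by
  have hcent : ∀ y ∈ Subgroup.centralizer ({x} : Set G), y ≠ 1 →
      Subgroup.centralizer ({y} : Set G) = Subgroup.centralizer ({x} : Set G) :=
    fun y hy hy1 => (Cfsg.Agent.Lib.Helper14.S3282G2b.G2_cent h hx hy hy1).2
  have hQ1 : Subgroup.centralizer ({x} : Set G) ≠ ⊥ := by
    intro h0
    rw [h0, Subgroup.card_bot] at hcx
    omega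
  have hcop : (Nat.card (Subgroup.centralizer ({x} : Set G))).Coprime
      (Nat.card G / Nat.card (Subgroup.centralizer ({x} : Set G))) := by
    rw [hcx, hG]
    have e : Nat.card K * (2 * Nat.card K + 1) * (2 * Nat.card K + 2) / (2 * Nat.card K + 1) =
        Nat.card K * (2 * Nat.card K + 2) := by
      rw [mul_right_comm, Nat.mul_div_cancel _ (by omega)]
    rw [e]
    exact coprime_aux _
  exact Cfsg.Agent.Lib.Helper15.S3282A3.A3_caseA_aux h hk hG hcx
    (Cfsg.Agent.Lib.Helper12.S3282G1a.G1_even h)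
    (fun w hw hwK => Cfsg.Agent.Lib.Helper12.S3282G1a.G1_invol_of_not_mem h hw hwK)
    hcent
    (Cfsg.Agent.Lib.Helper20.S3282A1.A1_normalizer hQ1 hcent hcop)

end Cfsg.Agent.Lib.Helper15.S3282A3w
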