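import Mathlib
import Cfsg.Prelude.Def_GeometricClasses
import Cfsg.Agent.Lib.Helper16.TensDefs

/-!
# S5637 FO-T2b (helper15, for helper16): `exists_kron_of_normalizes`

An element `m ∈ SL` stabilising `hyp ψ0` and normalising the root group `{rootGL k ψ0}` differs from an element
of `N0 ∩ SL` by an element acting trivially on `hyp ψ0` and on the quotient.
-/

set_option autoImplicit false

namespace Cfsg.Agent.Lib.Helper15.S5637T2b

open Matrix Module
open scoped Kronecker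
open Cfsg.Agent.Lib.Helper16.Tens

variable {F : Type*} [Field F] {a b : ℕ}

/-- contraction on the left factor: `φ ⊗ 1 : U ⊗ W → W` -/
def ctl (φ : Fin a → F) : (Fin a × Fin b → F) →ₗ[F] (Fin b → F) where
  toFun v j := ∑ i, φ i * v (i, j)
  map_add' v v' := by
    funext j; simp [mul_add, Finset.sum_add_distrib]
  map_smul' c v := by
    funext j; simp [Finset.mul_sum, mul_left_comm]

theorem ctl_apply (φ : Fin a → F) (v : Fin a × Fin b → F) (j : Fin b) :
    ctl φ v j = ∑ i, φ i * v (i, j) := rfl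

theorem ctl_pur (φ u : Fin a → F) (w : Fin b → F) : ctl φ (pur u w) = (φ ⬝ᵥ u) • w := by
  funext j
  simp only [ctl_apply, pur_apply, Pi.smul_apply, smul_eq_mul, dotProduct, Finset.sum_mul]
  apply Finset.sum_congr rfl
  intro i _
  ring

theorem ctl_dot (φ : Fin a → F) (ψ : Fin b → F) (v : Fin a × Fin b → F) :
    ctl φ v ⬝ᵥ ψ = φ ⬝ᵥ ctr ψ v := by
  simp only [ctl_apply, dotProduct, ctr_apply, Finset.sum_mul, Finset.mul_sum]
  rw [Finset.sum_comm]
  apply Finset.sum_congr rfl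
  intro i _
  apply Finset.sum_congr rfl
  intro j _
  ring

/-- every vector is the sum of its rows -/
theorem eq_sum_pur (v : Fin a × Fin b → F) :
    v = ∑ i, pur (Pi.single i (1 : F)) (fun j => v (i, j)) := by
  funext ⟨i, j⟩
  rw [Finset.sum_apply]
  simp only [pur_apply]
  rw [Finset.sum_eq_single i]
  · simp
  · intro i' _ hi'
    simp [Ne.symm hi']
  · simp

/-- linear maps agreeing on pure tensors are equal -/
theorem lin_ext_pur {X : Type*} [AddCommMonoid X] [Module F X]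
    (f g : (Fin a × Fin b → F) →ₗ[F] X) (h : ∀ u w, f (pur u w) = g (pur u w)) : f = g := by
  apply LinearMap.ext
  intro v
  rw [eq_sum_pur v, map_sum, map_sum]
  exact Finset.sum_congr rfl (fun i _ => h _ _)

theorem row_dot_of_mem_hyp {ψ : Fin b → F} {v : Fin a × Fin b → F} (hv : v ∈ hyp ψ) (i : Fin a) :
    ψ ⬝ᵥ (fun j => v (i, j)) = 0 := by
  rw [mem_hyp_iff] at hv
  have := congrFun hv i
  rw [ctr_apply] at this
  rw [dotProduct_comm]
  exact this

/-- `v - (ctr ψ v) ⊗ w*` lies in `hyp ψ` when `w* ⬝ᵥ ψ = 1` -/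
theorem sub_pur_mem_hyp {ψ ws : Fin b → F} (hws : ws ⬝ᵥ ψ = 1) (v : Fin a × Fin b → F) :
    v - pur (ctr ψ v) ws ∈ hyp ψ := by
  rw [mem_hyp_iff, map_sub, ctr_pur, hws, one_smul, sub_self]

theorem mem_hyp_iff_act {ψ0 : Fin b → F} {m : GL (Fin a × Fin b) F}
    (hstab : img m (hyp ψ0) = hyp ψ0) (v : Fin a × Fin b → F) :
    act m v ∈ hyp ψ0 ↔ v ∈ hyp ψ0 := by
  conv_lhs => rw [← hstab]
  rw [mem_img_iff, act_inv_act]


/-- a unipotent element (trivial on `hyp ψ` and on the quotient) has determinant one -/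
theorem det_eq_one_of_radical {ψ ws : Fin b → F} (hws : ws ⬝ᵥ ψ = 1) (z : GL (Fin a × Fin b) F)
    (h1 : ∀ v, act z v - v ∈ hyp ψ) (h2 : ∀ v ∈ hyp (a := a) ψ, act z v = v) :
    (z : Matrix (Fin a × Fin b) (Fin a × Fin b) F).det = 1 := by
  set Z : Matrix (Fin a × Fin b) (Fin a × Fin b) F := (z : Matrix (Fin a × Fin b) (Fin a × Fin b) F) with hZ
  set N : Matrix (Fin a × Fin b) (Fin a × Fin b) F := Z - 1 with hN
  set P : Matrix (Fin a × Fin b) (Fin a) F := LinearMap.toMatrix' (purL (a := a) ws) with hP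
  set C : Matrix (Fin a) (Fin a × Fin b) F := LinearMap.toMatrix' (ctr (a := a) ψ) with hC
  have hNv : ∀ v, N *ᵥ v = act z v - v := by
    intro v
    rw [hN, Matrix.sub_mulVec, Matrix.one_mulVec, act_apply]
  have hPv : ∀ u, P *ᵥ u = pur u ws := by
    intro u
    rw [hP, ← Matrix.toLin'_apply, Matrix.toLin'_toMatrix', purL_apply]
  have hCv : ∀ v, C *ᵥ v = ctr ψ v := by
    intro v
    rw [hC, ← Matrix.toLin'_apply, Matrix.toLin'_toMatrix']
  have hNkill : ∀ v ∈ hyp (a := a) ψ, N *ᵥ v = 0 := by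
    intro v hv
    rw [hNv, h2 v hv, sub_self]
  have e1 : N = (N * P) * C := by
    apply Matrix.toLin'.injective
    apply LinearMap.ext
    intro v
    rw [Matrix.toLin'_apply, Matrix.toLin'_apply, ← Matrix.mulVec_mulVec, ← Matrix.mulVec_mulVec, hCv, hPv]
    have := hNkill _ (sub_pur_mem_hyp hws v)
    rw [Matrix.mulVec_sub, sub_eq_zero] at this
    exact this
  have e2 : C * (N * P) = 0 := by
    apply Matrix.toLin'.injective
    apply LinearMap.ext
    intro u
    rw [Matrix.toLin'_apply, ← Matrix.mulVec_mulVec, ← Matrix.mulVec_mulVec, hPv, hNv, hCv, map_zero,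
      LinearMap.zero_apply]
    exact (mem_hyp_iff _ _).mp (h1 _)
  have hZN : Z = 1 + (N * P) * C := by
    rw [← e1, hN]; abel
  rw [hZN, Matrix.det_one_add_mul_comm, e2, add_zero, Matrix.det_one]


/-- the Kronecker product of two invertible matrices, as an element of `GL` -/
def kronGL (A : GL (Fin a) F) (B : GL (Fin b) F) : GL (Fin a × Fin b) F where
  val := (A : Matrix (Fin a) (Fin a) F) ⊗ₖ (B : Matrix (Fin b) (Fin b) F)
  inv := ((A⁻¹ : GL (Fin a) F) : Matrix (Fin a) (Fin a) F) ⊗ₖ ((B⁻¹ : GL (Fin b) F) : Matrix (Fin b) (Fin b) F)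
  val_inv := by
    rw [← Matrix.mul_kronecker_mul, ← Units.val_mul, ← Units.val_mul, mul_inv_cancel, mul_inv_cancel,
      Units.val_one, Units.val_one, Matrix.one_kronecker_one]
  inv_val := by
    rw [← Matrix.mul_kronecker_mul, ← Units.val_mul, ← Units.val_mul, inv_mul_cancel, inv_mul_cancel,
      Units.val_one, Units.val_one, Matrix.one_kronecker_one]

theorem kronGL_mem (A : GL (Fin a) F) (B : GL (Fin b) F) :
    kronGL A B ∈ Cfsg.Geo.kroneckerSubgroup a b F :=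
  (mem_kron_iff _).mpr ⟨A, B, rfl⟩

theorem act_kronGL_pur (A : GL (Fin a) F) (B : GL (Fin b) F) (u : Fin a → F) (w : Fin b → F) :
    act (kronGL A B) (pur u w) =
      pur ((A : Matrix (Fin a) (Fin a) F) *ᵥ u) ((B : Matrix (Fin b) (Fin b) F) *ᵥ w) := by
  rw [act_apply]
  exact kron_mulVec_pur _ _ u w

/-- an injective endomorphism of `Fin n → F` comes from an element of `GL` -/
theorem exists_GL_of_injective {n : ℕ} (f : (Fin n → F) →ₗ[F] (Fin n → F)) (hf : Function.Injective f) :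
    ∃ A : GL (Fin n) F, ∀ x, (A : Matrix (Fin n) (Fin n) F) *ᵥ x = f x := by
  have hinj : Function.Injective (LinearMap.toMatrix' f).mulVec := by
    intro x y hxy
    apply hf
    have hx : (LinearMap.toMatrix' f) *ᵥ x = f x := by
      rw [← Matrix.toLin'_apply, Matrix.toLin'_toMatrix']
    have hy : (LinearMap.toMatrix' f) *ᵥ y = f y := by
      rw [← Matrix.toLin'_apply, Matrix.toLin'_toMatrix']
    rw [← hx, ← hy]
    exact hxy
  have hu : IsUnit (LinearMap.toMatrix' f) := Matrix.mulVec_injective_iff_isUnit.mp hinj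
  refine ⟨hu.unit, ?_⟩
  intro x
  rw [IsUnit.unit_spec, ← Matrix.toLin'_apply, Matrix.toLin'_toMatrix']

/-- FO-T2b -/
theorem exists_kron_of_normalizes (ha : 1 ≤ a) (hb : 2 ≤ b) (ψ0 : Fin b → F) (hψ0 : ψ0 ≠ 0)
    (m : GL (Fin a × Fin b) F) (hmSL : m ∈ Cfsg.Geo.specialLinear (Fin a × Fin b) F)
    (hstab : img m (hyp ψ0) = hyp ψ0)
    (hnorm : ∀ (k : Fin b → F) (h : ψ0 ⬝ᵥ k = 0), ∃ (k' : Fin b → F) (h' : ψ0 ⬝ᵥ k' = 0),
      m * rootGL k ψ0 h * m⁻¹ = rootGL k' ψ0 h') :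
    ∃ h : GL (Fin a × Fin b) F, h ∈ Cfsg.Geo.kroneckerSubgroup a b F ∧
      h ∈ Cfsg.Geo.specialLinear (Fin a × Fin b) F ∧
      (∀ v, act (h⁻¹ * m) v - v ∈ hyp ψ0) ∧ (∀ v ∈ hyp (a := a) ψ0, act (h⁻¹ * m) v = v) := by
  -- a vector `w*` with `w* ⬝ᵥ ψ0 = 1`
  obtain ⟨j0, hj0⟩ : ∃ j, ψ0 j ≠ 0 := by
    by_contra hall; push Not at hall; exact hψ0 (funext hall)
  set ws : Fin b → F := Pi.single j0 (ψ0 j0)⁻¹ with hwsdef
  have hws : ws ⬝ᵥ ψ0 = 1 := by
    rw [hwsdef, single_dotProduct, inv_mul_cancel₀ hj0]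
  -- the map induced on the quotient
  set δ : (Fin a → F) →ₗ[F] (Fin a → F) :=
    (ctr (a := a) ψ0) ∘ₗ (act m).toLinearMap ∘ₗ (purL (a := a) ws) with hδdef
  have hδ : ∀ u, δ u = ctr ψ0 (act m (pur u ws)) := fun u => rfl
  have hkey : ∀ v, ctr ψ0 (act m v) = δ (ctr ψ0 v) := by
    intro v
    have h := (mem_hyp_iff_act hstab _).mpr (sub_pur_mem_hyp (a := a) hws v)
    rw [mem_hyp_iff, map_sub, map_sub, sub_eq_zero] at h
    rw [h, hδ]
  have hδinj : Function.Injective δ := by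
    rw [← LinearMap.ker_eq_bot, LinearMap.ker_eq_bot']
    intro u hu
    rw [hδ, ← mem_hyp_iff, mem_hyp_iff_act hstab, mem_hyp_iff, ctr_pur, hws, one_smul] at hu
    exact hu
  -- the normalising condition on pure tensors
  have hroot : ∀ (k : Fin b → F), ψ0 ⬝ᵥ k = 0 → ∃ k' : Fin b → F, ψ0 ⬝ᵥ k' = 0 ∧
      ∀ u, act m (pur u k) = pur (δ u) k' := by
    intro k hk
    obtain ⟨k', hk', heq⟩ := hnorm k hk
    refine ⟨k', hk', ?_⟩
    intro u
    have h1 : m * rootGL k ψ0 hk = rootGL k' ψ0 hk' * m := by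
      rw [← heq]; group
    have h2 := congrArg (fun g => act g (pur u ws)) h1
    simp only [act_mul, act_rootGL, ctr_pur, hws, one_smul, map_add] at h2
    rw [← hδ] at h2
    exact add_left_cancel h2
  -- the second factor
  obtain ⟨u0, hu0⟩ : ∃ u0 : Fin a → F, u0 ≠ 0 := by
    refine ⟨Pi.single ⟨0, by omega⟩ 1, ?_⟩
    intro h
    have := congrFun h ⟨0, by omega⟩
    simp at this
  have hδu0 : δ u0 ≠ 0 := fun h => hu0 (hδinj (by rw [h, map_zero]))
  obtain ⟨i1, hi1⟩ : ∃ i, δ u0 i ≠ 0 := by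
    by_contra hall; push Not at hall; exact hδu0 (funext hall)
  set φ0 : Fin a → F := Pi.single i1 (δ u0 i1)⁻¹ with hφ0def
  have hφ0 : φ0 ⬝ᵥ δ u0 = 1 := by
    rw [hφ0def, single_dotProduct, inv_mul_cancel₀ hi1]
  set β : (Fin b → F) →ₗ[F] (Fin b → F) :=
    (ctl (b := b) φ0) ∘ₗ (act m).toLinearMap ∘ₗ (purR (b := b) u0) with hβdef
  have hβ : ∀ w, β w = ctl φ0 (act m (pur u0 w)) := fun w => rfl
  have hβroot : ∀ (k : Fin b → F), ψ0 ⬝ᵥ k = 0 → ∀ u, act m (pur u k) = pur (δ u) (β k) := by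
    intro k hk u
    obtain ⟨k', _, hk'⟩ := hroot k hk
    rw [hβ, hk' u0, ctl_pur, hφ0, one_smul]
    exact hk' u
  have hβdot : ∀ w, β w ⬝ᵥ ψ0 = w ⬝ᵥ ψ0 := by
    intro w
    rw [hβ, ctl_dot, hkey, ctr_pur, map_smul, dotProduct_smul, hφ0, smul_eq_mul, mul_one]
  have hβinj : Function.Injective β := by
    rw [← LinearMap.ker_eq_bot, LinearMap.ker_eq_bot']
    intro w hw
    have hw0 : ψ0 ⬝ᵥ w = 0 := by
      rw [dotProduct_comm, ← hβdot, hw, zero_dotProduct]
    have h := hβroot w hw0 u0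
    rw [hw, pur_zero_right] at h
    have h' : pur u0 w = 0 := by
      apply (act m).injective
      rw [h, map_zero]
    rcases pur_eq_zero h' with h'' | h''
    · exact absurd h'' hu0
    · exact h''
  -- the element `h = δ ⊗ β`
  obtain ⟨A, hA⟩ := exists_GL_of_injective δ hδinj
  obtain ⟨B, hB⟩ := exists_GL_of_injective β hβinj
  set h : GL (Fin a × Fin b) F := kronGL A B with hhdef
  have hpur : ∀ u w, act h (pur u w) = pur (δ u) (β w) := by
    intro u w
    rw [hhdef, act_kronGL_pur, hA, hB]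
  have hagree : ∀ v ∈ hyp (a := a) ψ0, act h v = act m v := by
    intro v hv
    rw [eq_sum_pur v, map_sum, map_sum]
    apply Finset.sum_congr rfl
    intro i _
    rw [hpur, hβroot _ (row_dot_of_mem_hyp hv i)]
  have hquot : ∀ v, ctr ψ0 (act h v) = δ (ctr ψ0 v) := by
    have : (ctr (a := a) ψ0) ∘ₗ (act h).toLinearMap = δ ∘ₗ (ctr (a := a) ψ0) := by
      apply lin_ext_pur
      intro u w
      simp only [LinearMap.comp_apply, LinearEquiv.coe_coe]
      rw [hpur, ctr_pur, ctr_pur, hβdot, map_smul]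
    intro v
    exact LinearMap.congr_fun this v
  have hz2 : ∀ v ∈ hyp (a := a) ψ0, act (h⁻¹ * m) v = v := by
    intro v hv
    rw [act_mul, ← hagree v hv, act_inv_act]
  have hz1 : ∀ v, act (h⁻¹ * m) v - v ∈ hyp ψ0 := by
    intro v
    rw [mem_hyp_iff, map_sub, sub_eq_zero]
    apply hδinj
    rw [← hquot, act_mul, act_act_inv, hkey]
  refine ⟨h, kronGL_mem A B, ?_, hz1, hz2⟩
  have hdz := det_eq_one_of_radical hws (h⁻¹ * m) hz1 hz2
  have hdm := (mem_SL_iff m).mp hmSL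
  rw [mem_SL_iff]
  have hmul : (m : Matrix (Fin a × Fin b) (Fin a × Fin b) F) =
      (h : Matrix (Fin a × Fin b) (Fin a × Fin b) F) *
        ((h⁻¹ * m : GL (Fin a × Fin b) F) : Matrix (Fin a × Fin b) (Fin a × Fin b) F) := by
    rw [← Units.val_mul, mul_inv_cancel_left]
  rw [hmul, Matrix.det_mul, hdz, mul_one] at hdm
  exact hdm

end Cfsg.Agent.Lib.Helper15.S5637T2b
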