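import Mathlib
import Cfsg.Agent.Lib.Helper15.S5670T4Defs
import Cfsg.Agent.Lib.Helper6.SUSimple

/-!
# S5670 FO-T4: pieces SLOT, J, CORE (helper15)
-/

set_option autoImplicit false
set_option linter.unusedSectionVars false
set_option linter.unusedVariables false

namespace Cfsg.Agent.Lib.Helper15.S5670T4

open Matrix Module
open Cfsg.Agent.Lib.Helper6 Cfsg.Agent.Lib.Helper6.SUG Cfsg.Agent.Lib.Helper13
open Cfsg.Agent.S0779 Cfsg.Agent.S0781

variable {F : Type*} [Field F] [Fintype F] {a b n q : ℕ}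
variable {tp : (Fin a → F) → (Fin b → F) → (Fin n → F)} {M : Subgroup (GL (Fin n) F)}

local notation "hU" => Cfsg.hermForm a F q
local notation "hW" => Cfsg.hermForm b F q
local notation "hV" => Cfsg.hermForm n F q

theorem tp_zero_left (hT : TP q tp) (w : Fin b → F) : tp 0 w = 0 := by
  have := hT.smul_left 0 0 w
  simpa using this

theorem tp_zero_right (hT : TP q tp) (u : Fin a → F) : tp u 0 = 0 := by
  have := hT.smul_right 0 u 0
  simpa using this

theorem tp_neg_right (hT : TP q tp) (u : Fin a → F) (w : Fin b → F) : tp u (-w) = -tp u w := by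
  have := hT.smul_right (-1) u w
  simpa using this

theorem tp_sub_right (hT : TP q tp) (u : Fin a → F) (w w' : Fin b → F) :
    tp u (w - w') = tp u w - tp u w' := by
  rw [sub_eq_add_neg, hT.add_right, tp_neg_right hT, ← sub_eq_add_neg]

/-- the form on a hyperbolic slot -/
theorem herm_slot (hF : Fintype.card F = q ^ 2) (hT : TP q tp) (e f : Fin a → F)
    (he : hU e e = 0) (hf : hU f f = 0) (hef : hU e f = 1) (w w' z z' : Fin b → F) :
    hV (tp e w + tp f w') (tp e z + tp f z') = hW w z' + hW w' z := by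
  have hfe : hU f e = 1 := by rw [← herm_conj hF e f, hef, one_pow]
  rw [herm_add_left, herm_add_right hF, herm_add_right hF, hT.herm, hT.herm, hT.herm, hT.herm,
    he, hf, hef, hfe]
  ring

theorem herm_slot_self (hF : Fintype.card F = q ^ 2) (hT : TP q tp) (e f : Fin a → F)
    (he : hU e e = 0) (hf : hU f f = 0) (hef : hU e f = 1) (w w' : Fin b → F) :
    hV (tp e w + tp f w') (tp e w + tp f w') = hW w w' + (hW w w') ^ q := by
  rw [herm_slot hF hT e f he hf hef, herm_conj hF w w']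

/-- T4-CORE -/
theorem core (hF : Fintype.card F = q ^ 2) (hT : TP q tp) (e f : Fin a → F)
    (he : hU e e = 0) (hf : hU f f = 0) (hef : hU e f = 1)
    (hJe : InJ q M tp e) (hJf : InJ q M tp f) (w w' : Fin b → F)
    (hiso : hV (tp e w + tp f w') (tp e w + tp f w') = 0) : SuX q M (tp e w + tp f w') := by
  have key : ∀ w w' : Fin b → F, hW w w' ≠ 0 →
      hV (tp e w + tp f w') (tp e w + tp f w') = 0 → SuX q M (tp e w + tp f w') := by
    intro w w' hne hiso
    have h1 := SuX.rule hF (hJe w) (hJf w') (by rw [hT.herm, hef, one_mul]; exact hne) 1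
      (by rw [one_smul]; exact hiso)
    rwa [one_smul] at h1
  by_cases hne : hW w w' = 0
  swap
  · exact key w w' hne hiso
  by_cases hw0 : w = 0
  · rw [hw0, tp_zero_right hT, zero_add]
    exact hJf w'
  · obtain ⟨y, hy⟩ := exists_herm_ne_zero hF w hw0
    obtain ⟨ε, hε0, hε⟩ := exists_trace_zero hF
    -- w'' := l • y with hW w w'' = ε
    obtain ⟨w'', hw''⟩ : ∃ w'' : Fin b → F, hW w w'' = ε := by
      refine ⟨((ε / hW w y) ^ q) • y, ?_⟩
      rw [herm_smul_right, pow_q_q hF, div_mul_cancel₀ _ hy]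
    have h1 : SuX q M (tp e w + tp f w'') := by
      apply key w w'' (by rw [hw'']; exact hε0)
      rw [herm_slot_self hF hT e f he hf hef, hw'', hε]
      ring
    have h2 : hV (tp e w + tp f w'') (tp f (w' - w'')) ≠ 0 := by
      have : tp f (w' - w'') = tp e 0 + tp f (w' - w'') := by rw [tp_zero_right hT, zero_add]
      rw [this, herm_slot hF hT e f he hf hef, herm_zero_right hF, add_zero, herm_sub_right hF, hne,
        hw'', zero_sub]
      exact neg_ne_zero.mpr hε0
    have h3 : tp e w + tp f w'' + (1 : F) • tp f (w' - w'') = tp e w + tp f w' := by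
      rw [one_smul, tp_sub_right hT]
      abel
    have h4 := SuX.rule hF h1 (hJf (w' - w'')) h2 1 (by rw [h3]; exact hiso)
    rwa [h3] at h4


/-- T4-SLOT, with the richness lemma as a hypothesis -/
theorem slot_of_rich (hF : Fintype.card F = q ^ 2) (hT : TP q tp) (e f : Fin a → F)
    (he : hU e e = 0) (hf : hU f f = 0) (hef : hU e f = 1)
    (hIe : InI q M tp e) (hIf : InI q M tp f) (z₀ : Fin b → F) (hz0 : z₀ ≠ 0) (hz : hW z₀ z₀ = 0)
    (hrich : ∀ w' : Fin b → F, hW z₀ w' + (hW z₀ w') ^ q = 0 →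
      w' ∈ AddSubgroup.closure {z : Fin b → F | hW z z = 0 ∧ hW z₀ z ≠ 0 ∧
        hW z₀ z + (hW z₀ z) ^ q = 0})
    (w' : Fin b → F) (h : hW z₀ w' + (hW z₀ w') ^ q = 0) : SuX q M (tp e z₀ + tp f w') := by
  have step : ∀ z : Fin b → F, hW z z = 0 → hW z₀ z ≠ 0 → hW z₀ z + (hW z₀ z) ^ q = 0 →
      ∀ w' : Fin b → F, SuX q M (tp e z₀ + tp f w') → SuX q M (tp e z₀ + tp f (w' + z)) := by
    intro z hzz hne htr w' hS
    have h2 : hV (tp e z₀ + tp f w') (tp f z) ≠ 0 := by
      have : tp f z = tp e 0 + tp f z := by rw [tp_zero_right hT, zero_add]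
      rw [this, herm_slot hF hT e f he hf hef, herm_zero_right hF, add_zero]
      exact hne
    have h3 : tp e z₀ + tp f w' + (1 : F) • tp f z = tp e z₀ + tp f (w' + z) := by
      rw [one_smul, hT.add_right]
      abel
    have h0 := hS.1
    rw [herm_slot_self hF hT e f he hf hef] at h0
    have h4 := SuX.rule hF hS (hIf z hzz) h2 1 (by
      rw [h3, herm_slot_self hF hT e f he hf hef, herm_add_right hF, add_pow_q hF]
      linear_combination h0 + htr)
    rwa [h3] at h4
  have hneg : ∀ z : Fin b → F, hW z z = 0 → hW z₀ z ≠ 0 → hW z₀ z + (hW z₀ z) ^ q = 0 →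
      hW (-z) (-z) = 0 ∧ hW z₀ (-z) ≠ 0 ∧ hW z₀ (-z) + (hW z₀ (-z)) ^ q = 0 := by
    intro z hzz hne htr
    have e1 : (-z) = (-1 : F) • z := by rw [neg_smul, one_smul]
    have e2 : hW z₀ (-z) = -hW z₀ z := by
      rw [e1, herm_smul_right, neg_pow_q hF, one_pow]
      ring
    refine ⟨?_, ?_, ?_⟩
    · rw [e1, herm_smul_left, herm_smul_right, hzz]
      ring
    · rw [e2]
      exact neg_ne_zero.mpr hne
    · rw [e2, neg_pow_q hF]
      linear_combination -htr
  have hclo : ∀ v : Fin b → F, v ∈ AddSubgroup.closure {z : Fin b → F | hW z z = 0 ∧ hW z₀ z ≠ 0 ∧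
      hW z₀ z + (hW z₀ z) ^ q = 0} →
      (∀ w' : Fin b → F, SuX q M (tp e z₀ + tp f w') → SuX q M (tp e z₀ + tp f (w' + v))) ∧
      (∀ w' : Fin b → F, SuX q M (tp e z₀ + tp f w') → SuX q M (tp e z₀ + tp f (w' - v))) := by
    intro v hv
    induction hv using AddSubgroup.closure_induction with
    | mem z hzG =>
      obtain ⟨hzz, hne, htr⟩ := hzG
      refine ⟨step z hzz hne htr, ?_⟩
      intro w' hS
      obtain ⟨h1, h2, h3⟩ := hneg z hzz hne htr
      have := step (-z) h1 h2 h3 w' hS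
      rwa [← sub_eq_add_neg] at this
    | zero =>
      refine ⟨fun w' hS => ?_, fun w' hS => ?_⟩
      · rwa [add_zero]
      · rwa [sub_zero]
    | add x y _ _ hx hy =>
      refine ⟨fun w' hS => ?_, fun w' hS => ?_⟩
      · rw [← add_assoc]
        exact hy.1 _ (hx.1 _ hS)
      · rw [← sub_sub]
        exact hy.2 _ (hx.2 _ hS)
    | neg x _ hx =>
      refine ⟨fun w' hS => ?_, fun w' hS => ?_⟩
      · rw [← sub_eq_add_neg]
        exact hx.2 _ hS
      · rw [sub_neg_eq_add]
        exact hx.1 _ hS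
  have h0 : SuX q M (tp e z₀ + tp f 0) := by
    rw [tp_zero_right hT, add_zero]
    exact hIe z₀ hz
  have := (hclo w' (hrich w' h)).1 0 h0
  rwa [zero_add] at this

/-- T4-J, from SLOT for the swapped pair -/
theorem inJ_of_slot (hF : Fintype.card F = q ^ 2) (hb : 2 ≤ b) (hT : TP q tp) (e f : Fin a → F)
    (he : hU e e = 0) (hf : hU f f = 0) (hef : hU e f = 1) (hIf : InI q M tp f)
    (hslot : ∀ z₀ : Fin b → F, z₀ ≠ 0 → hW z₀ z₀ = 0 → ∀ w' : Fin b → F,
      hW z₀ w' + (hW z₀ w') ^ q = 0 → SuX q M (tp f z₀ + tp e w')) : InJ q M tp e := by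
  intro w
  by_cases hw0 : w = 0
  · rw [hw0, tp_zero_right hT]
    exact SuX.zero M
  have hfe : hU f e = 1 := by rw [← herm_conj hF e f, hef, one_pow]
  -- an isotropic vector not perpendicular to `w`
  obtain ⟨z₁, hz₁, hz₁w⟩ : ∃ z₁ : Fin b → F, hW z₁ z₁ = 0 ∧ hW z₁ w ≠ 0 := by
    by_cases hww : hW w w = 0
    · obtain ⟨x', hx'w, -, -⟩ := exists_herm_partner hF w hw0 hww
      obtain ⟨y, hy⟩ := exists_herm_ne_zero hF w hw0
      obtain ⟨l, hl⟩ := exists_iso_partner hF w y hww hy
      refine ⟨y + l • w, hl, ?_⟩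
      rw [herm_add_left, herm_smul_left, hww, mul_zero, add_zero, ← herm_conj hF w y]
      exact pow_ne_zero _ hy
    · -- `w` non-isotropic: `w + y` with `y ⊥ w`, `N y = - N w`
      have hIU := SUND.hB_isU (n := b) hF
      have hww' : (SUND.hB b hF) w w ≠ 0 := by rw [SUND.hB_apply]; exact hww
      have hnd := UND.ndOn_cut_noniso hIU ⊤ hIU.ndOn_top w Submodule.mem_top hww'
      obtain ⟨s₀, -, hs₀0, hs₀⟩ := UND.exists_ne_zero_cut (B := SUND.hB b hF) ⊤ 1 ![w] (by
        rw [finrank_top, Module.finrank_fintype_fun_eq_card, Fintype.card_fin]; omega)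
      have hs₀mem : s₀ ∈ UND.cutS (SUND.hB b hF) ⊤ {w} := by
        refine ⟨Submodule.mem_top, fun t ht => ?_⟩
        rw [Set.mem_singleton_iff] at ht
        rw [ht]
        simpa using hs₀ 0
      have hν : conjQ hF (-(hW w w)) = -(hW w w) := by
        rw [conjQ_apply, neg_pow_q hF, herm_conj hF]
      obtain ⟨y, hy, hyn⟩ := UND.exists_norm_in hIU _ hnd s₀ hs₀mem hs₀0 (-(hW w w))
        (neg_ne_zero.mpr hww) hν
      have hyw : hW y w = 0 := hy.2 w (Set.mem_singleton w)
      have hyn' : hW y y = -(hW w w) := hyn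
      refine ⟨w + y, ?_, ?_⟩
      · rw [herm_add_left, herm_add_right hF, herm_add_right hF, hyw, herm_swap_zero hF hyw, hyn']
        ring
      · rw [herm_add_left, hyw, add_zero]
        exact hww
  obtain ⟨ε, hε0, hε⟩ := exists_trace_zero hF
  obtain ⟨z', hz'z', hz'w⟩ : ∃ z' : Fin b → F, hW z' z' = 0 ∧ hW z' w = ε := by
    refine ⟨(ε / hW z₁ w) • z₁, ?_, ?_⟩
    · rw [herm_smul_left, herm_smul_right, hz₁]
      ring
    · rw [herm_smul_left, div_mul_cancel₀ _ hz₁w]
  have hz'0 : z' ≠ 0 := by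
    rintro rfl
    rw [herm_zero_left] at hz'w
    exact hε0 hz'w.symm
  have h1 : SuX q M (tp f z' + tp e w) := hslot z' hz'0 hz'z' w (by rw [hz'w, hε]; ring)
  have h2 : hV (tp f z' + tp e w) (tp f z') ≠ 0 := by
    rw [herm_add_left, hT.herm, hT.herm, hf, hef, zero_mul, zero_add, one_mul, ← herm_conj hF z' w,
      hz'w]
    exact pow_ne_zero _ hε0
  have h3 : tp f z' + tp e w + (-1 : F) • tp f z' = tp e w := by
    rw [neg_smul, one_smul]
    abel
  have h4 := SuX.rule hF h1 (hIf z' hz'z') h2 (-1) (by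
    rw [h3, hT.herm, he, zero_mul])
  rwa [h3] at h4

end Cfsg.Agent.Lib.Helper15.S5670T4
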