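import Mathlib
import Cfsg.Agent.Lib.Helper15.S5670T4SJC
import Cfsg.Agent.Lib.Helper13.SubfSU
import Cfsg.Agent.Lib.Helper29.S5670T3cFAPI

/-!
# S5670 FO-T4: piece CONV2 (helper15): `q = 2`, from a non-isotropic `u` to an isotropic one
-/

set_option autoImplicit false
set_option linter.unusedSectionVars false
set_option linter.unusedVariables false

namespace Cfsg.Agent.Lib.Helper15.S5670T4

open Matrix Module
open Cfsg.Agent.Lib.Helper6 Cfsg.Agent.Lib.Helper6.SUG Cfsg.Agent.Lib.Helper13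
open Cfsg.Agent.S0779 Cfsg.Agent.S0781
open Cfsg.Agent.Lib.Helper29.S5670T3cFAPI

variable {F : Type*} [Field F] [Fintype F] {a b n q : ℕ}
variable {tp : (Fin a → F) → (Fin b → F) → (Fin n → F)} {M : Subgroup (GL (Fin n) F)}

local notation "hU" => Cfsg.hermForm a F q
local notation "hW" => Cfsg.hermForm b F q
local notation "hV" => Cfsg.hermForm n F q

/-- a transvection fixes the vectors perpendicular to its centre -/
theorem av_tv_add_perp (hF : Fintype.card F = q ^ 2) (v : Fin n → F) (c : F) (hvv : hV v v = 0)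
    (hc : c ^ q = -c) (x y : Fin n → F) (hy : hV y v = 0) :
    av (tv hF v c hvv hc) (x + y) = av (tv hF v c hvv hc) x + y := by
  rw [av_add, av_tv hF v c hvv hc y, hy, mul_zero, zero_smul, add_zero]

/-- T4-CONV2, with T4-TRANSA as a hypothesis -/
theorem conv_of_two_aux (hF : Fintype.card F = q ^ 2) (hq : q = 2) (ha : 3 ≤ a) (hT : TP q tp)
    (hK : KronIn q M tp)
    (htrans : ∀ x y : Fin a → F, hU x x ≠ 0 → hU y y = hU x x → ∃ A : ↥(Cfsg.SU a F q), av A x = y)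
    (u : Fin a → F) (hu : hU u u ≠ 0) (k₀ : Fin b → F) (hk : hW k₀ k₀ = 0)
    (hX : SuX q M (tp u k₀)) : ∃ e : Fin a → F, e ≠ 0 ∧ hU e e = 0 ∧ SuX q M (tp e k₀) := by
  subst hq
  have h2 := f4_two hF
  obtain ⟨ω, hω0, hω1, hω⟩ := f4_exists_omega hF
  have hω3 : ω ^ 3 = 1 := f4_pow_three hF hω0
  have hω10 : ω + 1 ≠ 0 := by
    intro h
    apply hω1
    linear_combination h - h2
  have hω13 : (ω + 1) ^ 3 = 1 := f4_pow_three hF hω10
  -- the norm of `u` is one
  have hn : Cfsg.hermForm a F 2 u u = 1 := by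
    have h1 := herm_conj hF u u
    have h3 : Cfsg.hermForm a F 2 u u * (Cfsg.hermForm a F 2 u u - 1) = 0 := by
      linear_combination h1
    rcases mul_eq_zero.mp h3 with h4 | h4
    · exact absurd h4 hu
    · exact sub_eq_zero.mp h4
  have hgood : ∀ v : Fin a → F, Cfsg.hermForm a F 2 v v = 1 → SuX 2 M (tp v k₀) := by
    intro v hv
    obtain ⟨A, hA⟩ := htrans u v hu (by rw [hv, hn])
    obtain ⟨g, hgM, hg⟩ := hK.left A
    have := hX.map g hgM
    rwa [hg, hA] at this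
  -- three standard basis vectors
  obtain ⟨i0, i1, i2, h01, h02, h12⟩ : ∃ i0 i1 i2 : Fin a, i0 ≠ i1 ∧ i0 ≠ i2 ∧ i1 ≠ i2 :=
    ⟨⟨0, by omega⟩, ⟨1, by omega⟩, ⟨2, by omega⟩, by simp [Fin.ext_iff], by simp [Fin.ext_iff],
      by simp [Fin.ext_iff]⟩
  obtain ⟨g0, hg0⟩ : ∃ g0 : Fin a → F, g0 = Pi.single i0 1 := ⟨_, rfl⟩
  obtain ⟨g1, hg1⟩ : ∃ g1 : Fin a → F, g1 = Pi.single i1 1 := ⟨_, rfl⟩
  obtain ⟨g2, hg2⟩ : ∃ g2 : Fin a → F, g2 = Pi.single i2 1 := ⟨_, rfl⟩
  have hs : ∀ (x : Fin a → F) (i : Fin a), Cfsg.hermForm a F 2 x (Pi.single i 1) = x i :=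
    fun x i => herm_single_right hF x i
  have h00 : Cfsg.hermForm a F 2 g0 g0 = 1 := by rw [hg0, hs]; simp
  have h11 : Cfsg.hermForm a F 2 g1 g1 = 1 := by rw [hg1, hs]; simp
  have h22 : Cfsg.hermForm a F 2 g2 g2 = 1 := by rw [hg2, hs]; simp
  have h01' : Cfsg.hermForm a F 2 g0 g1 = 0 := by rw [hg0, hg1, hs]; simp [h01]
  have h10' : Cfsg.hermForm a F 2 g1 g0 = 0 := by rw [hg0, hg1, hs]; simp [h01.symm]
  have h02' : Cfsg.hermForm a F 2 g0 g2 = 0 := by rw [hg0, hg2, hs]; simp [h02]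
  have h20' : Cfsg.hermForm a F 2 g2 g0 = 0 := by rw [hg0, hg2, hs]; simp [h02.symm]
  have h12' : Cfsg.hermForm a F 2 g1 g2 = 0 := by rw [hg1, hg2, hs]; simp [h12]
  have h21' : Cfsg.hermForm a F 2 g2 g1 = 0 := by rw [hg1, hg2, hs]; simp [h12.symm]
  obtain ⟨e, hedef⟩ : ∃ e : Fin a → F, e = g0 + g1 := ⟨_, rfl⟩
  have hee : Cfsg.hermForm a F 2 e e = 0 := by
    rw [hedef, herm_add_left, herm_add_right hF, herm_add_right hF, h00, h11, h01', h10']
    linear_combination h2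
  have heg : Cfsg.hermForm a F 2 e g2 = 0 := by
    rw [hedef, herm_add_left, h02', h12', add_zero]
  have hge : Cfsg.hermForm a F 2 g2 e = 0 := by
    rw [hedef, herm_add_right hF, h20', h21', add_zero]
  have he0 : e ≠ 0 := by
    intro h
    have h1 := congrFun h i0
    rw [hedef, hg0, hg1] at h1
    simp [h01] at h1
  refine ⟨e, he0, hee, ?_⟩
  -- the norm of `e + β g2`
  have hnv : ∀ β : F, β ^ 3 = 1 → Cfsg.hermForm a F 2 (e + β • g2) (e + β • g2) = 1 := by
    intro β hβ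
    rw [herm_add_left, herm_add_right hF, herm_add_right hF, herm_smul_left, herm_smul_left,
      herm_smul_right, herm_smul_right, hee, heg, hge, h22]
    linear_combination hβ
  obtain ⟨E, hE⟩ : ∃ E : Fin n → F, E = tp e k₀ := ⟨_, rfl⟩
  obtain ⟨G, hG⟩ : ∃ G : Fin n → F, G = tp g2 k₀ := ⟨_, rfl⟩
  have htpv : ∀ β : F, tp (e + β • g2) k₀ = E + β • G := by
    intro β
    rw [hT.add_left, hT.smul_left, hE, hG]
  have hEE : Cfsg.hermForm n F 2 E E = 0 := by rw [hE, hT.herm, hk, mul_zero]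
  have hEG : Cfsg.hermForm n F 2 E G = 0 := by rw [hE, hG, hT.herm, hk, mul_zero]
  have hGE : Cfsg.hermForm n F 2 G E = 0 := by rw [hE, hG, hT.herm, hk, mul_zero]
  have hGG : Cfsg.hermForm n F 2 G G = 0 := by rw [hG, hT.herm, hk, mul_zero]
  have hX1 : SuX 2 M (E + (1 : F) • G) := by rw [← htpv]; exact hgood _ (hnv 1 (one_pow 3))
  have hX2 : SuX 2 M (E + ω • G) := by rw [← htpv]; exact hgood _ (hnv ω hω3)
  have hX3 : SuX 2 M (E + (ω + 1) • G) := by rw [← htpv]; exact hgood _ (hnv (ω + 1) hω13)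
  have hX4 : SuX 2 M G := by rw [hG]; exact hgood g2 h22
  rw [← hE]
  apply SuX.of_tv hF hEE
  intro c hc
  have hc' : c * (c - 1) = 0 := by
    have := f4_neg hF c
    rw [this] at hc
    linear_combination hc
  rcases mul_eq_zero.mp hc' with hc0 | hc1
  · subst hc0
    have : tv hF E 0 hEE hc = 1 := by
      apply ext_av
      intro x
      rw [av_tv, av_one, zero_mul, zero_smul, add_zero]
    rw [this, map_one]
    exact M.one_mem
  · have hc1' : c = 1 := sub_eq_zero.mp hc1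
    subst hc1'
    have hprod : tv hF E 1 hEE hc = tv hF (E + (1 : F) • G) 1 hX1.1 hc * tv hF (E + ω • G) 1 hX2.1 hc *
        tv hF (E + (ω + 1) • G) 1 hX3.1 hc * tv hF G 1 hGG hc := by
      apply ext_av
      intro x
      have hperpG : ∀ s β' : F, Cfsg.hermForm n F 2 (s • G) (E + β' • G) = 0 := by
        intro s β'
        rw [herm_smul_left, herm_add_right hF, herm_smul_right, hGE, hGG]; ring
      have hperp : ∀ s β β' : F, Cfsg.hermForm n F 2 (s • (E + β • G)) (E + β' • G) = 0 := by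
        intro s β β'
        rw [herm_smul_left, herm_add_left, herm_add_right hF, herm_add_right hF, herm_smul_left,
          herm_smul_left, herm_smul_right, herm_smul_right, hEE, hEG, hGE, hGG]; ring
      rw [av_mul, av_mul, av_mul, av_tv hF G, one_mul]
      rw [av_tv_add_perp hF _ _ _ _ _ _ (hperpG _ _), av_tv hF (E + (ω + 1) • G), one_mul]
      rw [av_tv_add_perp hF _ _ _ _ _ _ (hperpG _ _), av_tv_add_perp hF _ _ _ _ _ _ (hperp _ _ _),
        av_tv hF (E + ω • G), one_mul]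
      rw [av_tv_add_perp hF _ _ _ _ _ _ (hperpG _ _), av_tv_add_perp hF _ _ _ _ _ _ (hperp _ _ _),
        av_tv_add_perp hF _ _ _ _ _ _ (hperp _ _ _), av_tv hF (E + (1 : F) • G), av_tv hF E, one_mul,
        one_mul]
      rw [herm_add_right hF x E, herm_add_right hF x E, herm_add_right hF x E, herm_smul_right,
        herm_smul_right, herm_smul_right]
      obtain ⟨XE, hXE⟩ : ∃ XE : F, XE = Cfsg.hermForm n F 2 x E := ⟨_, rfl⟩
      obtain ⟨XG, hXG⟩ : ∃ XG : F, XG = Cfsg.hermForm n F 2 x G := ⟨_, rfl⟩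
      rw [← hXE, ← hXG]
      have hvec : x + (XE + 1 ^ 2 * XG) • (E + (1 : F) • G) + (XE + ω ^ 2 * XG) • (E + ω • G) +
          (XE + (ω + 1) ^ 2 * XG) • (E + (ω + 1) • G) + XG • G =
          x + ((XE + 1 ^ 2 * XG) + (XE + ω ^ 2 * XG) + (XE + (ω + 1) ^ 2 * XG)) • E +
            ((XE + 1 ^ 2 * XG) * 1 + (XE + ω ^ 2 * XG) * ω + (XE + (ω + 1) ^ 2 * XG) * (ω + 1) + XG) • G := by
        module
      have hcE : (XE + 1 ^ 2 * XG) + (XE + ω ^ 2 * XG) + (XE + (ω + 1) ^ 2 * XG) = XE := by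
        linear_combination (XE + XG * (ω ^ 2 + ω + 1)) * h2
      have hcG : (XE + 1 ^ 2 * XG) * 1 + (XE + ω ^ 2 * XG) * ω + (XE + (ω + 1) ^ 2 * XG) * (ω + 1) + XG
          = 0 := by
        linear_combination (XE * (ω + 1) + 2 * XG) * h2 + XG * hω3 + XG * hω13
      rw [hvec, hcE, hcG, zero_smul, add_zero]
    rw [hprod, map_mul, map_mul, map_mul]
    exact M.mul_mem (M.mul_mem (M.mul_mem (hX1.2 _ 1 rfl) (hX2.2 _ 1 rfl)) (hX3.2 _ 1 rfl))
      (hX4.2 _ 1 rfl)

end Cfsg.Agent.Lib.Helper15.S5670T4
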