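import Mathlib
import Cfsg.Agent.Lib.Helper15.S5670T4SJC
import Cfsg.Agent.Lib.Helper15.S5670T4CONV2
import Cfsg.Agent.Lib.Helper19.S5670T4RICH
import Cfsg.Agent.Lib.Helper28.S5670T4TRANSA

/-!
# S5670 FO-T4: wiring, part 1 (helper15): SLOT, J, CONV2 in skeleton form
-/

set_option autoImplicit false
set_option linter.unusedSectionVars false
set_option linter.unusedVariables false

namespace Cfsg.Agent.Lib.Helper15.S5670T4

open Matrix Module
open Cfsg.Agent.Lib.Helper6 Cfsg.Agent.Lib.Helper6.SUG Cfsg.Agent.Lib.Helper13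
open Cfsg.Agent.S0779 Cfsg.Agent.S0781

variable {F : Type*} [Field F] [Fintype F] {a b n q : ℕ}
variable {tp : (Fin a → F) → (Fin b → F) → (Fin n → F)} {M : Subgroup (GL (Fin n) F)}

local notation "hU" => Cfsg.hermForm a F q
local notation "hW" => Cfsg.hermForm b F q
local notation "hV" => Cfsg.hermForm n F q

/-- T4-SLOT -/
theorem slot (hF : Fintype.card F = q ^ 2) (hb : 3 ≤ b) (hT : TP q tp) (e f : Fin a → F)
    (he : hU e e = 0) (hf : hU f f = 0) (hef : hU e f = 1)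
    (hIe : InI q M tp e) (hIf : InI q M tp f) (z₀ : Fin b → F) (hz0 : z₀ ≠ 0) (hz : hW z₀ z₀ = 0)
    (w' : Fin b → F) (h : hW z₀ w' + (hW z₀ w') ^ q = 0) : SuX q M (tp e z₀ + tp f w') :=
  slot_of_rich hF hT e f he hf hef hIe hIf z₀ hz0 hz
    (fun w' h => Cfsg.Agent.Lib.Helper19.S5670T4RICH.rich_iso hF hb z₀ hz0 hz w' h) w' h

/-- T4-J -/
theorem inJ_of_pair (hF : Fintype.card F = q ^ 2) (hb : 3 ≤ b) (hT : TP q tp) (e f : Fin a → F)
    (he : hU e e = 0) (hf : hU f f = 0) (hef : hU e f = 1)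
    (hIe : InI q M tp e) (hIf : InI q M tp f) : InJ q M tp e := by
  have hfe : hU f e = 1 := by rw [← herm_conj hF e f, hef, one_pow]
  exact inJ_of_slot hF (by omega) hT e f he hf hef hIf
    (fun z₀ hz0 hz w' h => slot hF hb hT f e hf he hfe hIf hIe z₀ hz0 hz w' h)

/-- T4-CONV2 -/
theorem conv_of_two (hF : Fintype.card F = q ^ 2) (hq : q = 2) (ha : 3 ≤ a) (hT : TP q tp)
    (hK : KronIn q M tp) (u : Fin a → F) (hu : hU u u ≠ 0) (k₀ : Fin b → F) (hk : hW k₀ k₀ = 0)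
    (hX : SuX q M (tp u k₀)) : ∃ e : Fin a → F, e ≠ 0 ∧ hU e e = 0 ∧ SuX q M (tp e k₀) :=
  conv_of_two_aux hF hq ha hT hK
    (fun x y hx hxy => Cfsg.Agent.Lib.Helper28.S5670T4TRANSA.exists_su_map_aniso hF (by omega) x y hx hxy)
    u hu k₀ hk hX

end Cfsg.Agent.Lib.Helper15.S5670T4
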