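import Mathlib
import Cfsg.Agent.Lib.Helper15.S5670T4W1
import Cfsg.Agent.Lib.Helper13.S5670T4A
import Cfsg.Agent.Lib.Helper13.S5670T4C
import Cfsg.Agent.Lib.Helper21.S5670T4GROW
import Cfsg.Agent.Lib.Helper21.S5670T4P0

/-!
# S5670 FO-T4: wiring, part 2 (helper15): the abstract spreading theorem `all_suX`
-/

set_option autoImplicit false
set_option linter.unusedSectionVars false
set_option linter.unusedVariables false

namespace Cfsg.Agent.Lib.Helper15.S5670T4

open Matrix Module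
open Cfsg.Agent.Lib.Helper6 Cfsg.Agent.Lib.Helper6.SUG Cfsg.Agent.Lib.Helper13
open Cfsg.Agent.S0779 Cfsg.Agent.S0781

variable {F : Type*} [Field F] [Fintype F] {a b n q : ℕ}
variable {tp : (Fin a → F) → (Fin b → F) → (Fin n → F)} {M : Subgroup (GL (Fin n) F)}

local notation "hU" => Cfsg.hermForm a F q
local notation "hW" => Cfsg.hermForm b F q
local notation "hV" => Cfsg.hermForm n F q

/-- one pure tensor `u ⊗ k₀` (`k₀` isotropic) in `X` forces every isotropic vector into `X` -/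
theorem all_suX (hF : Fintype.card F = q ^ 2) (ha : 2 ≤ a) (hb : 3 ≤ b) (hex : ¬ (a = 2 ∧ q = 2))
    (hT : TP q tp) (hK : KronIn q M tp) (u : Fin a → F) (hu : u ≠ 0) (k₀ : Fin b → F) (hk0 : k₀ ≠ 0)
    (hk : hW k₀ k₀ = 0) (hX : SuX q M (tp u k₀)) : ∀ x, hV x x = 0 → SuX q M x := by
  -- an isotropic start
  obtain ⟨e₀, he0, he, hXe⟩ : ∃ e : Fin a → F, e ≠ 0 ∧ hU e e = 0 ∧ SuX q M (tp e k₀) := by
    by_cases huu : hU u u = 0
    · exact ⟨u, hu, huu, hX⟩
    · have h2 := two_le_q hF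
      by_cases hq : q = 2
      · exact conv_of_two hF hq (by omega) hT hK u huu k₀ hk hX
      · exact Cfsg.Agent.Lib.Helper13.S5670T4C.conv_of_three_le hF (by omega) ha hT hK u huu k₀ hk hX
  have hI0 : InI q M tp e₀ :=
    Cfsg.Agent.Lib.Helper13.S5670T4A.inI_of_one hF hb hT hK e₀ k₀ hk0 hk hXe
  have hIall : ∀ v : Fin a → F, hU v v = 0 → InI q M tp v :=
    Cfsg.Agent.Lib.Helper13.S5670T4A.iso_all hF ha (InI q M tp)
      (fun v A h => Cfsg.Agent.Lib.Helper13.S5670T4A.inI_map hK v A h)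
      (fun v c h => Cfsg.Agent.Lib.Helper13.S5670T4A.inI_smul hT v c h) e₀ he0 he hI0
  have hJall : ∀ v : Fin a → F, hU v v = 0 → InJ q M tp v := by
    intro v hvv
    by_cases hv0 : v = 0
    · intro w
      rw [hv0, tp_zero_left hT]
      exact SuX.zero M
    · obtain ⟨f, -, hvf, hff⟩ := exists_herm_partner hF v hv0 hvv
      exact inJ_of_pair hF hb hT v f hvv hff hvf (hIall v hvv) (hIall f hff)
  have hcore : ∀ e f : Fin a → F, hU e e = 0 → hU f f = 0 → hU e f = 1 → ∀ w w' : Fin b → F,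
      hV (tp e w + tp f w') (tp e w + tp f w') = 0 → SuX q M (tp e w + tp f w') :=
    fun e f he hf hef w w' h => core hF hT e f he hf hef (hJall e he) (hJall f hf) w w' h
  exact Cfsg.Agent.Lib.Helper21.S5670T4GROW.grow hF ha hb hT hJall
    (Cfsg.Agent.Lib.Helper21.S5670T4P0.p0 hF ha hT hcore)

end Cfsg.Agent.Lib.Helper15.S5670T4
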