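import Mathlib
import Cfsg.Agent.Lib.Helper15.S5670T4W2
import Cfsg.Agent.Lib.Helper8.S5670T4BRC

/-!
# S5670 FO-T4 (helper15, sub-architect): `ug_sl_le_of_transvection`

One unitary transvection with pure centre `u ⊗ k₀` (`k₀` isotropic) in an overgroup `M` of `N₀ ∩ SU` forces `SU ≤ M`.
Pieces: helper19 (RICH), helper21 (GROW, P0), helper13 (BASIC, IW, ISOALL, CONV3), helper28 (TRANSA), helper8 (bridge),
helper15 (SLOT, J, CORE, CONV2, wiring).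
-/

set_option autoImplicit false
set_option linter.unusedSectionVars false
set_option linter.unusedVariables false

namespace Cfsg.Agent.Lib.Helper15.S5670T4

open Matrix Module
open Cfsg.Agent.Lib.Helper16.Tens Cfsg.Agent.Lib.Helper10.TensFund Cfsg.Agent.Lib.Helper28.TensU
open Cfsg.Agent.Lib.Helper6 Cfsg.Agent.Lib.Helper6.SUG Cfsg.Agent.Lib.Helper13
open scoped Kronecker

variable {F : Type*} [Field F] [Fintype F] {a b q : ℕ} {M : Subgroup (GL (Fin a × Fin b) F)}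

/-- FO-T4 -/
theorem ug_sl_le_of_transvection (hF : Fintype.card F = q ^ 2) (ha : 2 ≤ a) (hb : 3 ≤ b)
    (hex : ¬ (a = 2 ∧ q = 2)) (hM : OverU q M)
    (k₀ : Fin b → F) (hk0 : k₀ ≠ 0) (hk : hs q k₀ k₀ = 0) (u : Fin a → F) (c : F) (t : GL (Fin a × Fin b) F)
    (hu : u ≠ 0) (hc : c ≠ 0) (hcc : c + c ^ q = 0) (ht : t ∈ M)
    (htv : ∀ v : Fin a × Fin b → F, act t v = v + (c * hs q v (pur u k₀)) • pur u k₀) :
    UG (Fin a × Fin b) F q ⊓ Cfsg.Geo.specialLinear (Fin a × Fin b) F ≤ M := by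
  have hX := Cfsg.Agent.Lib.Helper8.S5670T4BRC.suX_of_tv hF hb hM k₀ hk0 hk u c t hc hcc ht htv
  exact Cfsg.Agent.Lib.Helper8.S5670T4BRC.le_of_forall_suX hF ha hb
    (all_suX hF ha hb hex Cfsg.Agent.Lib.Helper8.S5670T4BRA.tpc_TP
      (Cfsg.Agent.Lib.Helper8.S5670T4BRB.kronIn_Mp hF hM) u hu k₀ hk0 hk hX)

/-- the same with `5 ≤ b` -/
theorem ug_sl_le_of_transvection5 (hF : Fintype.card F = q ^ 2) (ha : 2 ≤ a) (hb : 5 ≤ b)
    (hex : ¬ (a = 2 ∧ q = 2)) (hM : OverU q M)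
    (k₀ : Fin b → F) (hk0 : k₀ ≠ 0) (hk : hs q k₀ k₀ = 0) (u : Fin a → F) (c : F) (t : GL (Fin a × Fin b) F)
    (hu : u ≠ 0) (hc : c ≠ 0) (hcc : c + c ^ q = 0) (ht : t ∈ M)
    (htv : ∀ v : Fin a × Fin b → F, act t v = v + (c * hs q v (pur u k₀)) • pur u k₀) :
    UG (Fin a × Fin b) F q ⊓ Cfsg.Geo.specialLinear (Fin a × Fin b) F ≤ M :=
  ug_sl_le_of_transvection hF ha (by omega) hex hM k₀ hk0 hk u c t hu hc hcc ht htv

end Cfsg.Agent.Lib.Helper15.S5670T4
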