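import Mathlib
import Cfsg.Agent.Lib.Helper9.OExtDefs
import Cfsg.Agent.Lib.Helper13.OrthParab
import Cfsg.Agent.Lib.Helper26.S5701FOBAS
import Cfsg.Agent.Lib.Helper26.S5701FOSIEG
import Cfsg.Agent.Lib.Helper26.S5701FOGEOa
import Cfsg.Agent.Lib.Helper21.S5664FOBASb

/-!
# S5701 FO-F3 (helper15, for helper9): `omega_le_of_orX`

`omega_le_of_orX_aux` takes the output of FO-GEO G3 (`exists_sieg_data` with `y = 0`, `π = z`) as an
explicit hypothesis, and `5 ≤ Fintype.card ι` (needed by `Helper13.omegaGL_le_of_forall`; it does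
NOT follow from `0 < r`, `4 * r ≤ card ι` when `r = 1`).
-/

set_option autoImplicit false

namespace Cfsg.Agent.Lib.Helper15.S5701F3

open Matrix Module QuadraticMap Cfsg.Agent.Lib.Helper7.SpExt Cfsg.Agent.Lib.Helper9.OExt
  Cfsg.Agent.Lib.Helper6 Cfsg.Agent.Lib.Helper13 Cfsg.Agent.Lib.Helper26.S5701BAS
  Cfsg.Agent.Lib.Helper26.S5701SIEG Cfsg.Agent.Lib.Helper26.S5701GEO Cfsg.Agent.Lib.Helper21.S5664BASb

variable {F : Type*} [Field F] {L : Type*} [Field L] [Algebra F L] {ι : Type} [Fintype ι]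
  [DecidableEq ι] {ρ : L →ₐ[F] Matrix ι ι F} {Q : QuadraticForm F (ι → F)} {τ : L →ₗ[F] F}
  {B : (ι → F) →ₗ[F] (ι → F) →ₗ[F] L} {r : ℕ}

/-- the polar form of an `OStr` is nondegenerate in Mathlib's sense -/
theorem polarBilin_nondeg (S : OStr ρ Q τ B) : (polarBilin Q).Nondegenerate := by
  constructor
  · intro v hv
    by_contra h0
    obtain ⟨w, hw⟩ := S.nondeg v h0
    exact hw (hv w)
  · intro v hv
    by_contra h0
    obtain ⟨w, hw⟩ := S.nondeg v h0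
    apply hw
    rw [polar_comm]
    exact hv w

/-- the squares of `L` are not all in the kernel of `τ (· * x₀)` -/
theorem exists_sq_tau_ne (h2 : (2 : F) ≠ 0) (hτ : τ ≠ 0) {x₀ : L} (hx₀ : x₀ ≠ 0) :
    ∃ c : L, τ (c ^ 2 * x₀) ≠ 0 := by
  by_contra hcon
  push Not at hcon
  apply hτ
  apply LinearMap.ext
  intro d
  have h1 : ∀ c : L, τ (c * x₀) = 0 := by
    intro c
    have e1 := hcon (c + 1)
    have e2 := hcon c
    have e3 := hcon 1
    have : (c + 1) ^ 2 * x₀ = c ^ 2 * x₀ + (2 : F) • (c * x₀) + 1 ^ 2 * x₀ := by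
      rw [Algebra.smul_def, map_ofNat]
      ring
    rw [this, map_add, map_add, e2, e3, map_smul, smul_eq_mul, zero_add, add_zero] at e1
    exact (mul_eq_zero.mp e1).resolve_left h2
  have := h1 (d / x₀)
  rw [div_mul_cancel₀ _ hx₀] at this
  rw [this, LinearMap.zero_apply]

theorem omega_le_of_orX_aux [Fintype F] (S : OStr ρ Q τ B) (h5 : 5 ≤ Fintype.card ι)
    (H : Subgroup (GL ι F)) (hS : HasSieg ρ B H)
    (hH : H ≤ Cfsg.isometryGroup F ⇑Q) {z : ι → F} (hz : LSing B z) (hX : OrX Q H z)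
    (hG3 : ∃ s t, LSing B s ∧ B s t = 0 ∧ B s z ≠ 0 ∧ B t t ≠ 0) :
    Cfsg.Geo.omegaGL ⇑Q ≤ H := by
  obtain ⟨s, t, hs, hst, hsz, htt⟩ := hG3
  have h2L : (2 : L) ≠ 0 := two_ne_zero_L S
  have hQn := polarBilin_nondeg S
  obtain ⟨x₀, hx₀def⟩ : ∃ x₀ : L, x₀ = -(B t t / 2 * (B z s) ^ 2) := ⟨_, rfl⟩
  have hzs : B z s ≠ 0 := by rw [S.symm]; exact hsz
  have hx₀ : x₀ ≠ 0 := by
    rw [hx₀def]
    exact neg_ne_zero.mpr (mul_ne_zero (div_ne_zero htt h2L) (pow_ne_zero 2 hzs))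
  obtain ⟨c, hc⟩ := exists_sq_tau_ne S.two (tau_ne S hz.1) hx₀
  have hv : B (ρ c *ᵥ s) (ρ c *ᵥ s) = 0 := by
    rw [S.lin, B_lin_right S, hs.2, mul_zero, mul_zero]
  have hvw : B (ρ c *ᵥ s) t = 0 := by rw [S.lin, hst, mul_zero]
  obtain ⟨g, hg, -, -, -, hgQ⟩ := exists_sieg S (ρ c *ᵥ s) t hv hvw
  have hgH : g ∈ H := hS _ _ g hv hvw hg
  have hgz := hg z
  have hB : B z (act g z) = c ^ 2 * x₀ := by
    rw [hgz, map_sub, map_sub, map_add]
    simp only [B_lin_right S]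
    rw [hz.2, hx₀def]
    ring
  have hpol : polar (⇑Q) z (act g z) ≠ 0 := by
    rw [S.tr, hB]
    exact hc
  have hX' : OrX Q H (act g z) :=
    hX.map (⟨g, hgQ⟩ : ↥(Cfsg.isometryGroup F ⇑Q)) hgH
  exact omegaGL_le_of_forall hQn h5 (fun z' hz' => OrX.all hQn hX hX' hpol z' hz')

/-- in `s^⊥` (for `s` an `L`-singular vector) there is an `L`-nonsingular vector -/
theorem exists_nonsing_perp [Fintype F] (S : OStr ρ Q τ B) (hrk : finrank F L = r) (hr : 0 < r)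
    (hn : 4 * r ≤ Fintype.card ι) {s : ι → F} (hs : LSing B s) :
    ∃ t, B s t = 0 ∧ B t t ≠ 0 := by
  have hk := finrank_perp1 S hrk hr hs.1
  have hp := finrank_pt ρ hrk hr hs.1
  obtain ⟨u, hu, hnot⟩ : ∃ u, u ∈ LinearMap.ker (B.flip s) ∧ u ∉ pt ρ s := by
    by_contra hcon
    push Not at hcon
    have hle : LinearMap.ker (B.flip s) ≤ pt ρ s := hcon
    have := Submodule.finrank_mono hle
    omega
  have hus : B u s = 0 := by
    have := LinearMap.mem_ker.mp hu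
    rwa [LinearMap.flip_apply] at this
  obtain ⟨w, hws, huw⟩ := exists_dual1 S hs hus hnot 1
  have h2L : (2 : L) ≠ 0 := two_ne_zero_L S
  by_cases h1 : B u u = 0
  · by_cases h2 : B w w = 0
    · refine ⟨u + w, ?_, ?_⟩
      · rw [map_add, S.symm s u, S.symm s w, hus, hws, add_zero]
      · rw [map_add, map_add, LinearMap.add_apply, LinearMap.add_apply, h1, h2, S.symm w u, huw]
        intro h
        apply h2L
        rw [← h]
        ring
    · exact ⟨w, by rw [S.symm, hws], h2⟩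
  · exact ⟨u, by rw [S.symm, hus], h1⟩

/-- FO-F3, the skeleton's signature plus `h5` (NOT derivable from `0 < r`, `4 * r ≤ card ι` when
`r = 1`; in `main` use `h5 := by have := hr.two_le; omega`). -/
theorem omega_le_of_orX [Fintype F] (S : OStr ρ Q τ B) (hrk : finrank F L = r) (hr : 0 < r)
    (hn : 4 * r ≤ Fintype.card ι) (h5 : 5 ≤ Fintype.card ι) (H : Subgroup (GL ι F))
    (hS : HasSieg ρ B H) (hH : H ≤ Cfsg.isometryGroup F ⇑Q) {z : ι → F} (hz : LSing B z)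
    (hX : OrX Q H z) : Cfsg.Geo.omegaGL ⇑Q ≤ H := by
  obtain ⟨s, hs, hzs⟩ := exists_partner S hz
  obtain ⟨t, hst, htt⟩ := exists_nonsing_perp S hrk hr hn hs
  refine omega_le_of_orX_aux S h5 H hS hH hz hX ⟨s, t, hs, hst, ?_, htt⟩
  rw [S.symm, hzs]
  exact one_ne_zero

/-- FO-F3 for `2 ≤ r` (what `main` has: `hr.two_le`) -/
theorem omega_le_of_orX' [Fintype F] (S : OStr ρ Q τ B) (hrk : finrank F L = r) (hr : 2 ≤ r)
    (hn : 4 * r ≤ Fintype.card ι) (H : Subgroup (GL ι F))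
    (hS : HasSieg ρ B H) (hH : H ≤ Cfsg.isometryGroup F ⇑Q) {z : ι → F} (hz : LSing B z)
    (hX : OrX Q H z) : Cfsg.Geo.omegaGL ⇑Q ≤ H :=
  omega_le_of_orX S hrk (by omega) hn (by omega) H hS hH hz hX

end Cfsg.Agent.Lib.Helper15.S5701F3
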