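import Mathlib
import Cfsg.Agent.Lib.Helper9.OExtDefs
import Cfsg.Agent.Lib.Helper13.OrthParab
import Cfsg.Agent.Lib.Helper26.S5701FOBAS
import Cfsg.Agent.Lib.Helper26.S5701FOSIEG
import Cfsg.Agent.Lib.Helper26.S5701FOGEOa
import Cfsg.Agent.Lib.Helper21.S5664FOBASb
import Cfsg.Agent.Lib.Helper15.S5701FOF0
import Cfsg.Agent.Lib.Helper15.S5701FOF3

/-!
# S5701 FO-F1 (helper15, for helper9): `orX_of_Z_three`
-/

set_option autoImplicit false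

namespace Cfsg.Agent.Lib.Helper15.S5701F1

open Matrix Module QuadraticMap Cfsg.Agent.Lib.Helper7.SpExt Cfsg.Agent.Lib.Helper9.OExt
  Cfsg.Agent.Lib.Helper6 Cfsg.Agent.Lib.Helper13 Cfsg.Agent.Lib.Helper26.S5701BAS
  Cfsg.Agent.Lib.Helper26.S5701SIEG Cfsg.Agent.Lib.Helper26.S5701GEO Cfsg.Agent.Lib.Helper21.S5664BASb
  Cfsg.Agent.Lib.Helper15.S5701F0 Cfsg.Agent.Lib.Helper15.S5701F3

variable {F : Type*} [Field F] {L : Type*} [Field L] [Algebra F L] {ι : Type} [Fintype ι]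
  [DecidableEq ι] {ρ : L →ₐ[F] Matrix ι ι F} {Q : QuadraticForm F (ι → F)} {τ : L →ₗ[F] F}
  {B : (ι → F) →ₗ[F] (ι → F) →ₗ[F] L} {r : ℕ}

/-- the additive group of all `w ⟂ u` with `ρ_{u,w} ∈ H` -/
def RS (Q : QuadraticForm F (ι → F)) (H : Subgroup (GL ι F)) (u : ι → F) (hu : Q u = 0) :
    AddSubgroup (ι → F) where
  carrier := {w | polar (⇑Q) u w = 0 ∧ SiegIn Q H u w}
  zero_mem' := ⟨by rw [polar_zero_right], SiegIn.zero H u⟩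
  add_mem' := by
    rintro a b ⟨ha, ha'⟩ ⟨hb, hb'⟩
    exact ⟨by rw [polar_add_right, ha, hb, add_zero], SiegIn.add hu ha hb ha' hb'⟩
  neg_mem' := by
    rintro a ⟨ha, ha'⟩
    exact ⟨by rw [polar_neg_right, ha, neg_zero], SiegIn.neg hu ha ha'⟩

theorem mem_RS {H : Subgroup (GL ι F)} {u : ι → F} (hu : Q u = 0) (w : ι → F) :
    w ∈ RS Q H u hu ↔ polar (⇑Q) u w = 0 ∧ SiegIn Q H u w := Iff.rfl

/-- `RS` is stable under isometries in `H` fixing `u` -/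
theorem RS_act {H : Subgroup (GL ι F)} {u : ι → F} (hu : Q u = 0) {k : GL ι F} (hk : k ∈ H)
    (hkQ : k ∈ Cfsg.isometryGroup F ⇑Q) (hku : act k u = u) {w : ι → F} (hw : w ∈ RS Q H u hu) :
    act k w ∈ RS Q H u hu := by
  obtain ⟨h1, h2⟩ := hw
  have h3 := SiegIn.conj hk hkQ hu h1 h2
  rw [hku] at h3
  refine ⟨?_, h3⟩
  have := polar_act hkQ u w
  rw [hku] at this
  rw [this, h1]

theorem exists_c_dual [Fintype F] (hrk : finrank F L = r) (hr : 0 < r) (hτ : τ ≠ 0) {p q : L}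
    (hq : q ∉ Submodule.span F {p}) : ∃ c : L, τ (c * q) = 1 ∧ τ (c * p) = 0 := by
  obtain ⟨f, hfq, hle⟩ := Submodule.exists_le_ker_of_notMem hq
  obtain ⟨z, hz⟩ := exists_tau_rep hrk hr hτ ((f q)⁻¹ • f)
  refine ⟨z, ?_, ?_⟩
  · rw [← hz, LinearMap.smul_apply, smul_eq_mul, inv_mul_cancel₀ hfq]
  · rw [← hz, LinearMap.smul_apply]
    have : f p = 0 := LinearMap.mem_ker.mp (hle (Submodule.mem_span_singleton_self p))
    rw [this, smul_zero]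

theorem exists_beta (hrk : finrank F L = r) (h3 : 3 ≤ r) {φ : L →ₗ[F] F} (hφ : φ ≠ 0) (α : L) :
    ∃ β, φ β = 0 ∧ β ∉ Submodule.span F {α} := by
  have : FiniteDimensional F L := Module.finite_of_finrank_pos (by omega)
  have h1 := Module.Dual.finrank_ker_add_one_of_ne_zero hφ
  by_contra hcon
  push Not at hcon
  have hle : LinearMap.ker φ ≤ Submodule.span F {α} :=
    fun β hβ => hcon β (LinearMap.mem_ker.mp hβ)
  have h2 := Submodule.finrank_mono hle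
  have h3' : finrank F (Submodule.span F {α}) ≤ 1 := by
    have := finrank_span_le_card (R := F) ({α} : Set L)
    simpa using this
  omega

theorem orX_of_Z_three [Fintype F] (S : OStr ρ Q τ B) (hr : r.Prime) (hrk : finrank F L = r)
    (h3 : 3 ≤ r)
    (hn : 4 * r ≤ Fintype.card ι) (H : Subgroup (GL ι F)) (hS : HasSieg ρ B H)
    (hH : H ≤ Cfsg.isometryGroup F ⇑Q) {v₁ : ι → F} (hv₁ : LSing B v₁)
    (hZ : ∀ a b : L, SiegIn Q H (ρ a *ᵥ v₁) (ρ b *ᵥ v₁)) : OrX Q H v₁ := by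
  have hr0 : 0 < r := hr.pos
  have h2L : (2 : L) ≠ 0 := two_ne_zero_L S
  have hτ : τ ≠ 0 := tau_ne S hv₁.1
  have hQv₁ : Q v₁ = 0 := by rw [Q_eq S, hv₁.2, map_zero, mul_zero]
  -- the element k and v₂
  obtain ⟨s, hs, hv₁s⟩ := exists_partner S hv₁
  obtain ⟨t, hst, htt⟩ := exists_nonsing_perp S hrk hr0 hn hs
  obtain ⟨k, hk, -, klin, kB, kQ⟩ := exists_sieg S s t hs.2 hst
  have hkH : k ∈ H := hS _ _ k hs.2 hst hk
  obtain ⟨v₂, hv₂def⟩ : ∃ v₂, v₂ = act k v₁ := ⟨_, rfl⟩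
  obtain ⟨κ, hκdef⟩ : ∃ κ, κ = B v₁ v₂ := ⟨_, rfl⟩
  have hκ : κ ≠ 0 := by
    have : κ = -(B t t / 2) := by
      rw [hκdef, hv₂def, hk v₁, map_sub, map_sub, map_add]
      simp only [B_lin_right S]
      rw [hv₁.2, hv₁s]
      ring
    rw [this]
    exact neg_ne_zero.mpr (div_ne_zero htt h2L)
  have hκ' : B v₂ v₁ = κ := by rw [S.symm, hκdef]
  have hv₂v₂ : B v₂ v₂ = 0 := by rw [hv₂def, kB, hv₁.2]
  have hZ1 : ∀ c : L, ρ c *ᵥ v₁ ∈ RS Q H v₁ hQv₁ := by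
    intro c
    refine ⟨by rw [polar_rho_right S, hv₁.2, mul_zero, map_zero], ?_⟩
    have := hZ 1 c
    rwa [rho_one_mulVec] at this
  -- the root group of v₂
  have hZ2 : ∀ a b : L, SiegIn Q H (ρ a *ᵥ v₂) (ρ b *ᵥ v₂) := by
    intro a b
    have h1 := SiegIn.conj hkH kQ (Q_rho_of_sing S hv₁.2 a)
      (by rw [polar_rho_left S, B_lin_right S, hv₁.2, mul_zero, mul_zero, map_zero]) (hZ a b)
    rwa [klin, klin, ← hv₂def] at h1
  -- step 2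
  have step2 : ∀ α β c : L, τ (α * κ) = 0 → τ (β * κ) = 0 →
      τ (c * (β * κ)) • (ρ α *ᵥ v₂) + (-τ (c * (α * κ))) • (ρ β *ᵥ v₂) ∈ RS Q H v₁ hQv₁ := by
    intro α β c hα hβ
    have hu₂ : Q (ρ α *ᵥ v₂) = 0 := Q_rho_of_sing S hv₂v₂ α
    have hβ₂ : Q (ρ β *ᵥ v₂) = 0 := Q_rho_of_sing S hv₂v₂ β
    have huw₂ : polar (⇑Q) (ρ α *ᵥ v₂) (ρ β *ᵥ v₂) = 0 := by
      rw [polar_rho_left S, B_lin_right S, hv₂v₂, mul_zero, mul_zero, map_zero]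
    have hR := (siegIn_iff hu₂ huw₂).mp (hZ2 α β)
    have hRQ : ((siegIso Q _ _ hu₂ huw₂ : ↥(Cfsg.isometryGroup F ⇑Q)) : GL ι F) ∈
        Cfsg.isometryGroup F ⇑Q := (siegIso Q _ _ hu₂ huw₂).2
    have hfix : act ((siegIso Q _ _ hu₂ huw₂ : ↥(Cfsg.isometryGroup F ⇑Q)) : GL ι F) v₁ = v₁ := by
      rw [act_siegIso, sieg_mulVec, polar_rho_left S, polar_rho_left S, hκ', hα, hβ]
      simp
    have h1 := RS_act hQv₁ hR hRQ hfix (hZ1 c)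
    have h2 := (RS Q H v₁ hQv₁).sub_mem h1 (hZ1 c)
    have e : act ((siegIso Q _ _ hu₂ huw₂ : ↥(Cfsg.isometryGroup F ⇑Q)) : GL ι F) (ρ c *ᵥ v₁)
        - ρ c *ᵥ v₁ =
        τ (c * (β * κ)) • (ρ α *ᵥ v₂) + (-τ (c * (α * κ))) • (ρ β *ᵥ v₂) := by
      rw [act_siegIso, sieg_mulVec, polar_rho_left S, polar_rho_left S, B_lin_right S, hκ', hβ₂,
        zero_mul, sub_zero]
      have e1 : β * (c * κ) = c * (β * κ) := by ring
      have e2 : α * (c * κ) = c * (α * κ) := by ring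
      rw [e1, e2]
      abel
    rwa [e] at h2
  -- the functional τ(· κ)
  obtain ⟨φ, hφdef⟩ : ∃ φ : L →ₗ[F] F, φ = τ ∘ₗ LinearMap.mulRight F κ := ⟨_, rfl⟩
  have hφapp : ∀ x, φ x = τ (x * κ) := by
    intro x
    rw [hφdef, LinearMap.comp_apply, LinearMap.mulRight_apply]
  have hφ : φ ≠ 0 := by
    intro h0
    apply hτ
    apply LinearMap.ext
    intro d
    have := hφapp (d / κ)
    rw [h0, LinearMap.zero_apply, div_mul_cancel₀ _ hκ] at this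
    rw [← this, LinearMap.zero_apply]
  -- step 3
  have step3 : ∀ α : L, τ (α * κ) = 0 → ρ α *ᵥ v₂ ∈ RS Q H v₁ hQv₁ := by
    intro α hα
    obtain ⟨β, hβ, hβα⟩ := exists_beta hrk h3 hφ α
    rw [hφapp] at hβ
    have hq : β * κ ∉ Submodule.span F {α * κ} := by
      intro hmem
      obtain ⟨x, hx⟩ := Submodule.mem_span_singleton.mp hmem
      apply hβα
      apply Submodule.mem_span_singleton.mpr
      refine ⟨x, ?_⟩
      apply mul_right_cancel₀ hκ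
      rw [← hx, smul_mul_assoc]
    obtain ⟨c, hc1, hc2⟩ := exists_c_dual hrk hr0 hτ hq
    have := step2 α β c hα hβ
    rwa [hc1, hc2, one_smul, neg_zero, zero_smul, add_zero] at this
  -- a nonzero α₀ in the kernel
  obtain ⟨α₀, hα₀, hα₀ne⟩ : ∃ α₀ : L, τ (α₀ * κ) = 0 ∧ α₀ ≠ 0 := by
    obtain ⟨β, hβ, hβ0⟩ := exists_beta hrk h3 hφ 0
    rw [hφapp] at hβ
    refine ⟨β, hβ, ?_⟩
    intro h0
    apply hβ0
    rw [h0]
    exact Submodule.zero_mem _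
  have hακ : α₀ * κ ≠ 0 := mul_ne_zero hα₀ne hκ
  -- step 4
  have step4 : ∀ w : ι → F, B w v₁ = 0 → B w v₂ = 0 → w ∈ RS Q H v₁ hQv₁ := by
    intro w hw1 hw2
    obtain ⟨w', hw'def⟩ : ∃ w', w' = ρ (α₀ * κ)⁻¹ *ᵥ w := ⟨_, rfl⟩
    have hw'1 : B v₁ w' = 0 := by rw [hw'def, B_lin_right S, S.symm, hw1, mul_zero]
    have hw'2 : B v₂ w' = 0 := by rw [hw'def, B_lin_right S, S.symm, hw2, mul_zero]
    have hww' : ρ (α₀ * κ) *ᵥ w' = w := by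
      rw [hw'def, ← rho_mul_mulVec, mul_inv_cancel₀ hακ, rho_one_mulVec]
    obtain ⟨x, hx, -, -, -, xQ⟩ := exists_sieg S v₁ w' hv₁.2 hw'1
    have hxH : x ∈ H := hS _ _ x hv₁.2 hw'1 hx
    have hfix : act x v₁ = v₁ := by
      rw [hx v₁, hw'1, hv₁.2, mul_zero, rho_zero_mulVec, rho_zero_mulVec]
      simp
    have h1 := RS_act hQv₁ hxH xQ hfix (step3 α₀ hα₀)
    have e : act x (ρ α₀ *ᵥ v₂) =
        ρ α₀ *ᵥ v₂ - w - ρ (B w' w' / 2 * (α₀ * κ)) *ᵥ v₁ := by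
      rw [hx (ρ α₀ *ᵥ v₂), S.lin, S.lin, hw'2, hκ', mul_zero, rho_zero_mulVec, add_zero, hww']
    rw [e] at h1
    have h2 := (RS Q H v₁ hQv₁).sub_mem ((RS Q H v₁ hQv₁).sub_mem (step3 α₀ hα₀) h1)
      (hZ1 (B w' w' / 2 * (α₀ * κ)))
    have e2 : ρ α₀ *ᵥ v₂ - (ρ α₀ *ᵥ v₂ - w - ρ (B w' w' / 2 * (α₀ * κ)) *ᵥ v₁)
        - ρ (B w' w' / 2 * (α₀ * κ)) *ᵥ v₁ = w := by abel
    rwa [e2] at h2
  -- step 5
  apply orX_of_SiegIn hQv₁
  intro z hz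
  obtain ⟨α, hαdef⟩ : ∃ α, α = B z v₁ / κ := ⟨_, rfl⟩
  obtain ⟨a, hadef⟩ : ∃ a, a = B z v₂ / κ := ⟨_, rfl⟩
  have hα : τ (α * κ) = 0 := by
    rw [hαdef, div_mul_cancel₀ _ hκ, ← S.tr, polar_comm]
    exact hz
  have hw1 : B (z - ρ a *ᵥ v₁ - ρ α *ᵥ v₂) v₁ = 0 := by
    simp only [map_sub, LinearMap.sub_apply, S.lin]
    rw [hv₁.2, hκ', hαdef, div_mul_cancel₀ _ hκ]
    ring
  have hw2 : B (z - ρ a *ᵥ v₁ - ρ α *ᵥ v₂) v₂ = 0 := by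
    simp only [map_sub, LinearMap.sub_apply, S.lin]
    rw [hv₂v₂, ← hκdef, hadef, div_mul_cancel₀ _ hκ]
    ring
  have h1 := (RS Q H v₁ hQv₁).add_mem ((RS Q H v₁ hQv₁).add_mem (step4 _ hw1 hw2) (hZ1 a))
    (step3 α hα)
  have e : z - ρ a *ᵥ v₁ - ρ α *ᵥ v₂ + ρ a *ᵥ v₁ + ρ α *ᵥ v₂ = z := by abel
  rw [e] at h1
  exact h1.2

end Cfsg.Agent.Lib.Helper15.S5701F1
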