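import Mathlib
import Cfsg.Agent.Lib.Helper9.OExtDefs
import Cfsg.Agent.Lib.Helper13.OrthParab
import Cfsg.Agent.Lib.Helper15.Witt1
import Cfsg.Agent.Lib.Helper26.S5701FOBAS
import Cfsg.Agent.Lib.Helper26.S5701FOSIEG
import Cfsg.Agent.Lib.Helper26.S5701FOGEOa
import Cfsg.Agent.Lib.Helper26.S5701FOGEOb
import Cfsg.Agent.Lib.Helper21.S5664FOBASb
import Cfsg.Agent.Lib.Helper15.S5701FOF0
import Cfsg.Agent.Lib.Helper15.S5701FOF1

/-!
# S5701 FO-F2, sub-piece (b) (helper15, for helper22 / helper9): the orbit lemma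

An additive subgroup `R` of `V` which is stable under the `L`-Siegel elements `x_{s,t}` with
`s, t ⟂ v₁` and contains some `u ⟂ v₁` outside `L∙v₁` contains all of `v₁^⊥` (`6 r ≤ n`).
-/

set_option autoImplicit false

namespace Cfsg.Agent.Lib.Helper15.S5701F2b

open Matrix Module QuadraticMap Cfsg.Agent.Lib.Helper7.SpExt Cfsg.Agent.Lib.Helper9.OExt
  Cfsg.Agent.Lib.Helper6 Cfsg.Agent.Lib.Helper13 Cfsg.Agent.Lib.Helper26.S5701BAS
  Cfsg.Agent.Lib.Helper26.S5701SIEG Cfsg.Agent.Lib.Helper26.S5701GEO Cfsg.Agent.Lib.Helper21.S5664BASb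
  Cfsg.Agent.Lib.Helper15.S5701F0 Cfsg.Agent.Lib.Helper15.S5701F1

variable {F : Type*} [Field F] {L : Type*} [Field L] [Algebra F L] {ι : Type} [Fintype ι]
  [DecidableEq ι] {ρ : L →ₐ[F] Matrix ι ι F} {Q : QuadraticForm F (ι → F)} {τ : L →ₗ[F] F}
  {B : (ι → F) →ₗ[F] (ι → F) →ₗ[F] L} {r : ℕ}

/-- the common kernel of three `B(·,yᵢ)` has `F`-dimension `≥ n - 3r` -/
theorem finrank_ker3 (hrk : finrank F L = r) (hr : 0 < r) (y₁ y₂ y₃ : ι → F) :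
    Fintype.card ι ≤ finrank F ↥(LinearMap.ker (B.flip y₁) ⊓ LinearMap.ker (B.flip y₂) ⊓
      LinearMap.ker (B.flip y₃)) + 3 * r := by
  have hfin : Module.Finite F L := Module.finite_of_finrank_pos (hrk ▸ hr)
  have h1 := finrank_cut (⊤ : Submodule F (ι → F)) (B.flip y₁)
  rw [top_inf_eq, finrank_top, Module.finrank_pi, hrk] at h1
  have h2 := finrank_cut (LinearMap.ker (B.flip y₁)) (B.flip y₂)
  have h3 := finrank_cut (LinearMap.ker (B.flip y₁) ⊓ LinearMap.ker (B.flip y₂)) (B.flip y₃)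
  rw [hrk] at h2 h3
  omega

omit [Fintype ι] [DecidableEq ι] in
theorem mem_ker3 (y₁ y₂ y₃ x : ι → F) :
    x ∈ LinearMap.ker (B.flip y₁) ⊓ LinearMap.ker (B.flip y₂) ⊓ LinearMap.ker (B.flip y₃) ↔
      B x y₁ = 0 ∧ B x y₂ = 0 ∧ B x y₃ = 0 := by
  simp only [Submodule.mem_inf, LinearMap.mem_ker, LinearMap.flip_apply, and_assoc]

/-- an `L`-singular vector perpendicular to three given vectors (`6 r ≤ n`) -/
theorem exists_lsing_perp3 [Fintype F] (S : OStr ρ Q τ B) (hrk : finrank F L = r) (hr : 0 < r)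
    (hn : 6 * r ≤ Fintype.card ι) (y₁ y₂ y₃ : ι → F) :
    ∃ s, LSing B s ∧ B s y₁ = 0 ∧ B s y₂ = 0 ∧ B s y₃ = 0 := by
  have hfin : Module.Finite F L := Module.finite_of_finrank_pos (hrk ▸ hr)
  have hLfin : Finite L := Module.finite_of_finite F
  have hKdim : 3 * r ≤ finrank F ↥(LinearMap.ker (B.flip y₁) ⊓ LinearMap.ker (B.flip y₂) ⊓
      LinearMap.ker (B.flip y₃)) := by
    have := finrank_ker3 (B := B) hrk hr y₁ y₂ y₃
    omega
  obtain ⟨e0, he0, e1, he1, e2, he2, hind⟩ := exists_three (ρ := ρ) hrk hr _ hKdim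
  rw [mem_ker3] at he0 he1 he2
  let e : Fin 3 → (ι → F) := ![e0, e1, e2]
  let M : Matrix (Fin 3) (Fin 3) L := Matrix.of fun i j => B (e i) (e j)
  obtain ⟨x, hx0, hx⟩ := Cfsg.Agent.Lib.Helper15.exists_singular_of_three_le_finrank
    (M.toQuadraticForm') (by rw [Module.finrank_pi, Fintype.card_fin])
  refine ⟨ρ (x 0) *ᵥ e0 + ρ (x 1) *ᵥ e1 + ρ (x 2) *ᵥ e2, ⟨?_, ?_⟩, ?_, ?_, ?_⟩
  · intro h0
    obtain ⟨h1, h2, h3⟩ := hind _ _ _ h0
    apply hx0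
    funext i
    fin_cases i
    · exact h1
    · exact h2
    · exact h3
  · have hq : M.toQuadraticForm' x = x ⬝ᵥ M *ᵥ x := by
      unfold Matrix.toQuadraticForm'
      rw [LinearMap.BilinMap.toQuadraticMap_apply, Matrix.toLinearMap₂'_apply']
    rw [hq] at hx
    simp only [Matrix.mulVec, dotProduct, Fin.sum_univ_three, M, Matrix.of_apply] at hx
    rw [show e 0 = e0 from rfl, show e 1 = e1 from rfl, show e 2 = e2 from rfl] at hx
    simp only [map_add, LinearMap.add_apply, S.lin, B_lin_right S]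
    rw [← hx]
    ring
  · simp only [map_add, LinearMap.add_apply, S.lin, he0.1, he1.1, he2.1, mul_zero, add_zero]
  · simp only [map_add, LinearMap.add_apply, S.lin, he0.2.1, he1.2.1, he2.2.1, mul_zero, add_zero]
  · simp only [map_add, LinearMap.add_apply, S.lin, he0.2.2, he1.2.2, he2.2.2, mul_zero, add_zero]

/-- a nonsingular vector perpendicular to `v₁` and to a hyperbolic pair `z, z'` in `v₁^⊥` -/
theorem exists_nonsing_perp3 [Fintype F] (S : OStr ρ Q τ B) (hrk : finrank F L = r) (hr : 0 < r)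
    (hn : 5 * r ≤ Fintype.card ι) {v₁ z z' : ι → F} (hv₁ : LSing B v₁)
    (hz1 : B z v₁ = 0) (hz'1 : B z' v₁ = 0) (hzz : B z z = 0) (hz'z' : B z' z' = 0)
    (hzz' : B z z' = 1) :
    ∃ t, B t v₁ = 0 ∧ B t z = 0 ∧ B t z' = 0 ∧ B t t ≠ 0 := by
  have h2L : (2 : L) ≠ 0 := two_ne_zero_L S
  have hk := finrank_ker3 (B := B) hrk hr v₁ z z'
  have hp := finrank_pt ρ hrk hr hv₁.1
  obtain ⟨t₁, ht₁, hnot⟩ := exists_mem_not_mem
    (LinearMap.ker (B.flip v₁) ⊓ LinearMap.ker (B.flip z) ⊓ LinearMap.ker (B.flip z')) (pt ρ v₁)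
    (by omega)
  rw [mem_ker3] at ht₁
  obtain ⟨h11, h1z, h1z'⟩ := ht₁
  obtain ⟨w, hw1, htw⟩ := exists_dual1 S hv₁ h11 hnot 1
  have hz'z : B z' z = 1 := by rw [S.symm, hzz']
  obtain ⟨w', hw'def⟩ : ∃ w', w' = w - ρ (B w z') *ᵥ z - ρ (B w z) *ᵥ z' := ⟨_, rfl⟩
  have hw'1 : B w' v₁ = 0 := by
    rw [hw'def]
    simp only [map_sub, LinearMap.sub_apply, S.lin]
    rw [hw1, hz1, hz'1]
    ring
  have hw'z : B w' z = 0 := by
    rw [hw'def]
    simp only [map_sub, LinearMap.sub_apply, S.lin]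
    rw [hzz, hz'z]
    ring
  have hw'z' : B w' z' = 0 := by
    rw [hw'def]
    simp only [map_sub, LinearMap.sub_apply, S.lin]
    rw [hzz', hz'z']
    ring
  have htw' : B t₁ w' = 1 := by
    rw [hw'def]
    simp only [map_sub, B_lin_right S]
    rw [htw, h1z, h1z']
    ring
  by_cases h1 : B t₁ t₁ = 0
  · by_cases h2 : B w' w' = 0
    · refine ⟨t₁ + w', ?_, ?_, ?_, ?_⟩
      · rw [map_add, LinearMap.add_apply, h11, hw'1, add_zero]
      · rw [map_add, LinearMap.add_apply, h1z, hw'z, add_zero]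
      · rw [map_add, LinearMap.add_apply, h1z', hw'z', add_zero]
      · rw [map_add, map_add, LinearMap.add_apply, LinearMap.add_apply, h1, h2, S.symm w' t₁, htw']
        intro h
        apply h2L
        rw [← h]
        ring
    · exact ⟨w', hw'1, hw'z, hw'z', h2⟩
  · exact ⟨t₁, h11, h1z, h1z', h1⟩

section orbit

variable {v₁ : ι → F} {R : AddSubgroup (ι → F)}

/-- one half of the core step: from `z ∈ R` (singular, with partner `z'`, both in `v₁^⊥`) get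
`L∙t ⊆ R` for `t ⟂ v₁, z, z'` and `L∙z' ⊆ R` -/
theorem core_half (S : OStr ρ Q τ B)
    (hmv : ∀ s t x, B s s = 0 → B s t = 0 → B s v₁ = 0 → B t v₁ = 0 → x ∈ R →
      x + ρ (B x t) *ᵥ s - ρ (B x s) *ᵥ t - ρ (B t t / 2 * B x s) *ᵥ s ∈ R)
    {z z' : ι → F} (hzR : z ∈ R) (hz1 : B z v₁ = 0) (hz'1 : B z' v₁ = 0)
    (hz'z' : B z' z' = 0) (hzz' : B z z' = 1) :
    (∀ t, B t v₁ = 0 → B t z = 0 → B t z' = 0 → ∀ c : L, ρ c *ᵥ t ∈ R) ∧
    (∀ t₀, B t₀ v₁ = 0 → B t₀ z = 0 → B t₀ z' = 0 → B t₀ t₀ ≠ 0 → ∀ c : L, ρ c *ᵥ z' ∈ R) := by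
  have h2L : (2 : L) ≠ 0 := two_ne_zero_L S
  have hE : ∀ t, B t v₁ = 0 → B t z = 0 → B t z' = 0 → ∀ c : L,
      z - ρ c *ᵥ t - ρ (c ^ 2 * (B t t / 2)) *ᵥ z' ∈ R := by
    intro t ht1 htz htz' c
    have h := hmv z' (ρ c *ᵥ t) z hz'z'
      (by rw [B_lin_right S, S.symm, htz', mul_zero])
      hz'1 (by rw [S.lin, ht1, mul_zero]) hzR
    rw [B_lin_right S, S.symm z t, htz, mul_zero, rho_zero_mulVec, add_zero, hzz',
      rho_one_mulVec, S.lin, B_lin_right S, mul_one] at h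
    have e : c * (c * B t t) / 2 = c ^ 2 * (B t t / 2) := by ring
    rwa [e] at h
  have hA : ∀ t, B t v₁ = 0 → B t z = 0 → B t z' = 0 → ∀ c : L, ρ c *ᵥ t ∈ R := by
    intro t ht1 htz htz' c
    have h1 := hE t ht1 htz htz' (c / 2)
    have h2 := hE t ht1 htz htz' (-(c / 2))
    have h3 := R.sub_mem h2 h1
    have e : z - ρ (-(c / 2)) *ᵥ t - ρ ((-(c / 2)) ^ 2 * (B t t / 2)) *ᵥ z' -
        (z - ρ (c / 2) *ᵥ t - ρ ((c / 2) ^ 2 * (B t t / 2)) *ᵥ z') = ρ c *ᵥ t := by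
      have e1 : (-(c / 2)) ^ 2 = (c / 2) ^ 2 := by ring
      have e2 : c = c / 2 + c / 2 := by field_simp; ring
      rw [e1, rho_neg_mulVec]
      conv_rhs => rw [e2, rho_add_mulVec]
      abel
    rwa [e] at h3
  refine ⟨hA, ?_⟩
  intro t₀ h01 h0z h0z' h00 c
  obtain ⟨β, hβdef⟩ : ∃ β, β = B t₀ t₀ / 2 := ⟨_, rfl⟩
  have hβ : β ≠ 0 := by rw [hβdef]; exact div_ne_zero h00 h2L
  have hsq : ∀ c' : L, ρ (c' ^ 2 * β) *ᵥ z' ∈ R := by
    intro c'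
    have h1 := hE t₀ h01 h0z h0z' c'
    rw [← hβdef] at h1
    have h2 := R.sub_mem (R.sub_mem hzR (hA t₀ h01 h0z h0z' c')) h1
    have e : z - ρ c' *ᵥ t₀ - (z - ρ c' *ᵥ t₀ - ρ (c' ^ 2 * β) *ᵥ z') = ρ (c' ^ 2 * β) *ᵥ z' := by
      abel
    rwa [e] at h2
  have h1 := hsq (c / (2 * β) + 1)
  have h2 := hsq (c / (2 * β))
  have h3 := hsq 1
  have h4 := R.sub_mem (R.sub_mem h1 h2) h3
  have e : ρ ((c / (2 * β) + 1) ^ 2 * β) *ᵥ z' - ρ ((c / (2 * β)) ^ 2 * β) *ᵥ z' -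
      ρ (1 ^ 2 * β) *ᵥ z' = ρ c *ᵥ z' := by
    rw [← rho_sub_mulVec, ← rho_sub_mulVec]
    congr 2
    field_simp
    ring
  rwa [e] at h4

/-- the core step: a singular `z ∈ R`, `z ⟂ v₁`, `z ∉ L∙v₁` forces `v₁^⊥ ⊆ R` -/
theorem core [Fintype F] (S : OStr ρ Q τ B) (hrk : finrank F L = r) (hr : 0 < r)
    (hn : 5 * r ≤ Fintype.card ι) (hv₁ : LSing B v₁)
    (hmv : ∀ s t x, B s s = 0 → B s t = 0 → B s v₁ = 0 → B t v₁ = 0 → x ∈ R →
      x + ρ (B x t) *ᵥ s - ρ (B x s) *ᵥ t - ρ (B t t / 2 * B x s) *ᵥ s ∈ R)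
    {z : ι → F} (hzR : z ∈ R) (hz1 : B z v₁ = 0) (hzz : B z z = 0) (hznot : z ∉ pt ρ v₁) :
    ∀ b, B b v₁ = 0 → b ∈ R := by
  obtain ⟨w, hw1, hzw⟩ := exists_dual1 S hv₁ hz1 hznot 1
  obtain ⟨z', hz'def⟩ : ∃ z', z' = w - ρ (B w w / 2) *ᵥ z := ⟨_, rfl⟩
  have h2L : (2 : L) ≠ 0 := two_ne_zero_L S
  have hz'1 : B z' v₁ = 0 := by
    rw [hz'def, map_sub, LinearMap.sub_apply, S.lin, hw1, hz1, mul_zero, sub_zero]
  have hzz' : B z z' = 1 := by
    rw [hz'def, map_sub, B_lin_right S, hzz, hzw, mul_zero, sub_zero]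
  have hz'z : B z' z = 1 := by rw [S.symm, hzz']
  have hz'z' : B z' z' = 0 := by
    rw [hz'def]
    simp only [map_sub, LinearMap.sub_apply, S.lin, B_lin_right S]
    rw [hzz, S.symm w z, hzw]
    field_simp
    ring
  obtain ⟨t₀, h01, h0z, h0z', h00⟩ := exists_nonsing_perp3 S hrk hr hn hv₁ hz1 hz'1 hzz hz'z' hzz'
  obtain ⟨hA, hB⟩ := core_half S hmv hzR hz1 hz'1 hz'z' hzz'
  have hLz' := hB t₀ h01 h0z h0z' h00
  have hz'R : z' ∈ R := by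
    have := hLz' 1
    rwa [rho_one_mulVec] at this
  obtain ⟨-, hB'⟩ := core_half S hmv hz'R hz'1 hz1 hzz hz'z
  have hLz := hB' t₀ h01 h0z' h0z h00
  intro b hb1
  obtain ⟨t, htdef⟩ : ∃ t, t = b - ρ (B b z') *ᵥ z - ρ (B b z) *ᵥ z' := ⟨_, rfl⟩
  have ht1 : B t v₁ = 0 := by
    rw [htdef]
    simp only [map_sub, LinearMap.sub_apply, S.lin]
    rw [hb1, hz1, hz'1]
    ring
  have htz : B t z = 0 := by
    rw [htdef]
    simp only [map_sub, LinearMap.sub_apply, S.lin]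
    rw [hzz, hz'z]
    ring
  have htz' : B t z' = 0 := by
    rw [htdef]
    simp only [map_sub, LinearMap.sub_apply, S.lin]
    rw [hzz', hz'z']
    ring
  have htR : t ∈ R := by
    have := hA t ht1 htz htz' 1
    rwa [rho_one_mulVec] at this
  have h := R.add_mem (R.add_mem htR (hLz (B b z'))) (hLz' (B b z))
  have e : t + ρ (B b z') *ᵥ z + ρ (B b z) *ᵥ z' = b := by
    rw [htdef]
    abel
  rwa [e] at h

/-- the orbit lemma (abstract form) -/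
theorem orbit_aux [Fintype F] (S : OStr ρ Q τ B) (hrk : finrank F L = r) (hr : 0 < r)
    (hn : 6 * r ≤ Fintype.card ι) (hv₁ : LSing B v₁)
    (hmv : ∀ s t x, B s s = 0 → B s t = 0 → B s v₁ = 0 → B t v₁ = 0 → x ∈ R →
      x + ρ (B x t) *ᵥ s - ρ (B x s) *ᵥ t - ρ (B t t / 2 * B x s) *ᵥ s ∈ R)
    {u : ι → F} (huR : u ∈ R) (hu1 : B u v₁ = 0) (hunot : u ∉ pt ρ v₁) :
    ∀ b, B b v₁ = 0 → b ∈ R := by
  by_cases huu : B u u = 0
  · exact core S hrk hr (by omega) hv₁ hmv huR hu1 huu hunot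
  obtain ⟨v₂, hv₂, h12⟩ := exists_partner S hv₁
  obtain ⟨s, hs, hs1, hs2, hsu⟩ := exists_lsing_perp3 S hrk hr hn v₁ v₂ u
  have hus : B u s = 0 := by rw [S.symm, hsu]
  have h := hmv s u u hs.2 hsu hs1 hu1 huR
  rw [hus, mul_zero, rho_zero_mulVec, rho_zero_mulVec, sub_zero, sub_zero] at h
  have heR : ρ (B u u) *ᵥ s ∈ R := by
    have := R.sub_mem h huR
    rwa [add_sub_cancel_left] at this
  have he := lsing_smul S hs huu
  refine core S hrk hr (by omega) hv₁ hmv heR (by rw [S.lin, hs1, mul_zero]) he.2 ?_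
  rintro ⟨c, hc⟩
  change ρ c *ᵥ v₁ = _ at hc
  have h1 : B (ρ c *ᵥ v₁) v₂ = B (ρ (B u u) *ᵥ s) v₂ := by rw [hc]
  rw [S.lin, S.lin, h12, hs2, mul_zero, mul_one] at h1
  apply he.1
  rw [← hc, h1, rho_zero_mulVec]

end orbit

/-- the orbit lemma for the root group `RS Q H v₁` -/
theorem orbit_RS [Fintype F] (S : OStr ρ Q τ B) (hrk : finrank F L = r) (hr : 0 < r)
    (hn : 6 * r ≤ Fintype.card ι) (H : Subgroup (GL ι F)) (hS : HasSieg ρ B H)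
    (hH : H ≤ Cfsg.isometryGroup F ⇑Q) {v₁ u : ι → F} (hv₁ : LSing B v₁) (hQv₁ : Q v₁ = 0)
    (huR : u ∈ RS Q H v₁ hQv₁) (hu1 : B u v₁ = 0) (hunot : u ∉ pt ρ v₁) :
    ∀ b, B b v₁ = 0 → b ∈ RS Q H v₁ hQv₁ := by
  refine orbit_aux S hrk hr hn hv₁ ?_ huR hu1 hunot
  intro s t x hss hst hs1 ht1 hx
  obtain ⟨g, hg, -, -, -, -⟩ := exists_sieg S s t hss hst
  have hgH : g ∈ H := hS _ _ g hss hst hg
  have hfix : act g v₁ = v₁ := by
    rw [hg v₁, S.symm v₁ t, ht1, S.symm v₁ s, hs1, mul_zero, rho_zero_mulVec, rho_zero_mulVec]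
    simp
  have := RS_act hQv₁ hgH (hH hgH) hfix hx
  rwa [hg x] at this

end Cfsg.Agent.Lib.Helper15.S5701F2b
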