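import Mathlib
import Cfsg.Prelude.Def_GeometricClasses
import Cfsg.Prelude.Def_LieClassical
import Cfsg.Agent.Lib.Helper8.S5637FOBRIDGE
import Cfsg.Agent.Lib.Helper15.FQuad
import Cfsg.Agent.Lib.Helper14.GUConj2

/-!
# S5778 (SU_3): common tools for the six exceptional non-maximality lemmas  (helper15)

* `stabSet S` : the subgroup of `GL (Fin n) F` of the matrices `g` with `v ∈ S ↔ g v ∈ S`;
  `mem_stabSet_of_forall` (finite `F`: `g S ⊆ S` suffices).
* `not_maximal_of_stabSet` : `H₀ ≤ stabSet S`, some `w ∈ G ∩ stabSet S` outside `H₀`, some `s ∈ G` outside `stabSet S`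
  ⇒ `H₀` is not maximal in `G`.
* `not_maximal_conj` : non-maximality in `SU_n(q)` of `A ⊓ SU` passes to the conjugate of `A` by an element of `GU_n(q)`.
* `mapM φ A`, `mapGL`, `mapM_mem_GU`, `mapM_mem_SU` : concrete matrices over `K9 / K25` (or any field) pushed into `F`.
-/

set_option autoImplicit false
set_option linter.unusedSectionVars false

namespace Cfsg.Agent.Lib.Helper15.S5778Core

open Matrix Cfsg Cfsg.Geo

variable {F : Type*} [Field F] {n : ℕ}

/-- `SU_n(q)` inside `GL_n(F)` in the shape of the frozen statements -/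
abbrev SUn (n : ℕ) (F : Type*) [Field F] (q : ℕ) : Subgroup (GL (Fin n) F) :=
  GU n F q ⊓ specialLinear (Fin n) F

/-- the stabiliser of a set of vectors -/
def stabSet (S : Set (Fin n → F)) : Subgroup (GL (Fin n) F) where
  carrier := {g | ∀ v, v ∈ S ↔ (g : Matrix (Fin n) (Fin n) F) *ᵥ v ∈ S}
  mul_mem' {a b} ha hb := by
    intro v
    rw [Units.val_mul, ← Matrix.mulVec_mulVec, ← ha, ← hb]
  one_mem' := by
    intro v
    simp
  inv_mem' {a} ha := by
    intro v
    rw [ha ((a⁻¹ : GL (Fin n) F) *ᵥ v), Matrix.mulVec_mulVec, ← Units.val_mul, mul_inv_cancel, Units.val_one,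
      Matrix.one_mulVec]

theorem mem_stabSet {S : Set (Fin n → F)} {g : GL (Fin n) F} :
    g ∈ stabSet S ↔ ∀ v, v ∈ S ↔ (g : Matrix (Fin n) (Fin n) F) *ᵥ v ∈ S := Iff.rfl

/-- over a finite field it suffices that `g` maps `S` into `S` -/
theorem mem_stabSet_of_forall [Finite F] {S : Set (Fin n → F)} {g : GL (Fin n) F}
    (h : ∀ v ∈ S, (g : Matrix (Fin n) (Fin n) F) *ᵥ v ∈ S) : g ∈ stabSet S := by
  classical
  intro v
  refine ⟨h v, fun hv => ?_⟩
  -- `v ↦ g v` is an injective self-map of the finite set `S`, hence surjective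
  let f : S → S := fun x => ⟨(g : Matrix (Fin n) (Fin n) F) *ᵥ x.1, h x.1 x.2⟩
  have hinj : Function.Injective f := by
    intro x y hxy
    have h1 : (g : Matrix (Fin n) (Fin n) F) *ᵥ x.1 = (g : Matrix (Fin n) (Fin n) F) *ᵥ y.1 :=
      congrArg Subtype.val hxy
    have h2 := congrArg (fun u => ((g⁻¹ : GL (Fin n) F) : Matrix (Fin n) (Fin n) F) *ᵥ u) h1
    simp only [Matrix.mulVec_mulVec, ← Units.val_mul, inv_mul_cancel, Units.val_one, Matrix.one_mulVec] at h2
    exact Subtype.ext h2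
  have : Finite S := Finite.of_injective (fun x : S => x.1) Subtype.val_injective
  obtain ⟨x, hx⟩ := (Finite.injective_iff_surjective.mp hinj) ⟨_, hv⟩
  have h1 : (g : Matrix (Fin n) (Fin n) F) *ᵥ x.1 = (g : Matrix (Fin n) (Fin n) F) *ᵥ v :=
    congrArg Subtype.val hx
  have h2 := congrArg (fun u => ((g⁻¹ : GL (Fin n) F) : Matrix (Fin n) (Fin n) F) *ᵥ u) h1
  simp only [Matrix.mulVec_mulVec, ← Units.val_mul, inv_mul_cancel, Units.val_one, Matrix.one_mulVec] at h2
  rw [← h2]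
  exact x.2

/-- the invariant-set criterion for non-maximality -/
theorem not_maximal_of_stabSet {G H₀ : Subgroup (GL (Fin n) F)} (S : Set (Fin n → F))
    (hH₀ : H₀ ≤ stabSet S) {w : GL (Fin n) F} (hwG : w ∈ G) (hwS : w ∈ stabSet S) (hw : w ∉ H₀)
    {s : GL (Fin n) F} (hsG : s ∈ G) (hs : s ∉ stabSet S) : ¬ IsMaximalIn G H₀ := by
  rintro ⟨hlt, hmax⟩
  rcases hmax (stabSet S ⊓ G) (le_inf hH₀ hlt.le) inf_le_right with h | h
  · have : w ∈ stabSet S ⊓ G := Subgroup.mem_inf.2 ⟨hwS, hwG⟩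
    rw [h] at this
    exact hw this
  · have : s ∈ stabSet S ⊓ G := by
      rw [h]
      exact hsG
    exact hs this.1

/-- conjugation by an element of `GU` normalises `SU` -/
theorem map_conj_SUn {q : ℕ} (g : GL (Fin n) F) (hg : g ∈ GU n F q) :
    (SUn n F q).map (MulAut.conj g).toMonoidHom = SUn n F q := by
  ext x
  simp only [Subgroup.mem_map, MulEquiv.coe_toMonoidHom, MulAut.conj_apply]
  constructor
  · rintro ⟨y, hy, rfl⟩
    refine Subgroup.mem_inf.2 ⟨(GU n F q).mul_mem ((GU n F q).mul_mem hg hy.1) ((GU n F q).inv_mem hg), ?_⟩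
    have hy2 : Matrix.GeneralLinearGroup.det y = 1 := hy.2
    show Matrix.GeneralLinearGroup.det (g * y * g⁻¹) = 1
    rw [map_mul, map_mul, hy2, mul_one, ← map_mul, mul_inv_cancel, map_one]
  · intro hx
    refine ⟨g⁻¹ * x * g, Subgroup.mem_inf.2 ⟨(GU n F q).mul_mem ((GU n F q).mul_mem ((GU n F q).inv_mem hg) hx.1) hg,
      ?_⟩, by group⟩
    have hx2 : Matrix.GeneralLinearGroup.det x = 1 := hx.2
    show Matrix.GeneralLinearGroup.det (g⁻¹ * x * g) = 1
    rw [map_mul, map_mul, hx2, mul_one, ← map_mul, inv_mul_cancel, map_one]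

/-- non-maximality in `SU` of `A ⊓ SU` passes to `g A g⁻¹ ⊓ SU`, `g ∈ GU` -/
theorem not_maximal_conj {q : ℕ} (g : GL (Fin n) F) (hg : g ∈ GU n F q) (A : Subgroup (GL (Fin n) F))
    (h : ¬ IsMaximalIn (SUn n F q) (A ⊓ SUn n F q)) :
    ¬ IsMaximalIn (SUn n F q) (A.map (MulAut.conj g).toMonoidHom ⊓ SUn n F q) := by
  intro hmax
  apply h
  have h1 := Cfsg.Agent.Lib.Helper8.S5637FOBRIDGE.isMaximalIn_map (MulAut.conj g⁻¹) _ _ hmax
  rw [map_conj_SUn g⁻¹ ((GU n F q).inv_mem hg)] at h1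
  have h2 : (A.map (MulAut.conj g).toMonoidHom ⊓ SUn n F q).map (MulAut.conj g⁻¹).toMonoidHom = A ⊓ SUn n F q := by
    rw [Subgroup.map_inf _ _ _ (MulAut.conj g⁻¹).injective, map_conj_SUn g⁻¹ ((GU n F q).inv_mem hg),
      Subgroup.map_map]
    congr 1
    ext x
    simp only [Subgroup.mem_map, MonoidHom.coe_comp, MulEquiv.coe_toMonoidHom, Function.comp_apply,
      MulAut.conj_apply]
    constructor
    · rintro ⟨y, hy, rfl⟩
      have : g⁻¹ * (g * y * g⁻¹) * g⁻¹⁻¹ = y := by group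
      rw [this]
      exact hy
    · intro hx
      exact ⟨x, hx, by group⟩
  rw [h2] at h1
  exact h1

/-! ### concrete matrices pushed into `F` -/

section mapM
variable {K : Type*} [Field K] [Fintype F] {q : ℕ}

/-- a matrix over `K` with determinant one, as an element of `GL (Fin n) F` -/
noncomputable def mapGL (φ : K →+* F) (A : Matrix (Fin n) (Fin n) K) (hdet : A.det = 1) : GL (Fin n) F :=
  Matrix.GeneralLinearGroup.mk'' (A.map φ) (by
    rw [show A.map φ = (φ.mapMatrix A) from rfl, ← RingHom.map_det, hdet, map_one]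
    exact isUnit_one)

@[simp] theorem mapGL_coe (φ : K →+* F) (A : Matrix (Fin n) (Fin n) K) (hdet : A.det = 1) :
    ((mapGL φ A hdet : GL (Fin n) F) : Matrix (Fin n) (Fin n) F) = A.map φ := rfl

theorem map_mulVec (φ : K →+* F) (A : Matrix (Fin n) (Fin n) K) (v : Fin n → K) :
    A.map φ *ᵥ (φ ∘ v) = φ ∘ (A *ᵥ v) := by
  ext i
  simp [Matrix.mulVec, dotProduct, map_sum, map_mul]

/-- a matrix over `K` with `(A^(q))ᵀ A = 1` preserves the hermitian form over `F` -/
theorem map_pres (hF : Fintype.card F = q ^ 2) (φ : K →+* F) (A : Matrix (Fin n) (Fin n) K)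
    (hA : (A.map (· ^ q))ᵀ * A = 1) (u v : Fin n → F) :
    hermForm n F q (A.map φ *ᵥ u) (A.map φ *ᵥ v) = hermForm n F q u v := by
  revert u v
  rw [Cfsg.Agent.Lib.Helper14.GUConj.pres_iff hF]
  have h : ((A.map (· ^ q))ᵀ * A).map φ = (1 : Matrix (Fin n) (Fin n) K).map φ := by rw [hA]
  rw [Matrix.map_mul] at h
  rw [show (1 : Matrix (Fin n) (Fin n) K).map φ = 1 from by
    ext i j; simp [Matrix.one_apply, apply_ite]] at h
  rw [← h]
  congr 1
  ext i j
  simp [Cfsg.Agent.Lib.Helper14.GUConj.sharp_apply, Cfsg.Agent.Lib.Helper14.HSemi.sigQ_apply]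

theorem mapGL_mem_SUn (hF : Fintype.card F = q ^ 2) (φ : K →+* F) (A : Matrix (Fin n) (Fin n) K)
    (hdet : A.det = 1) (hA : (A.map (· ^ q))ᵀ * A = 1) : mapGL φ A hdet ∈ SUn n F q := by
  refine Subgroup.mem_inf.2 ⟨fun u v => map_pres hF φ A hA u v, ?_⟩
  show Matrix.GeneralLinearGroup.det (mapGL φ A hdet) = 1
  apply Units.ext
  show (A.map φ).det = 1
  rw [show A.map φ = (φ.mapMatrix A) from rfl, ← RingHom.map_det, hdet, map_one]

end mapM

end Cfsg.Agent.Lib.Helper15.S5778Core
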