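import Cfsg.Agent.Lib.Helper15.S5778Tools

/-!
# S5778 (SU_3(3)): explicit matrices over `K9` and their verified properties  (helper15)

Over `K9 = ZMod 3 [i]`, `i² = 2 = -1`, `α = 1 + i`, `β = α² = 2i`:
`ζ₀` (order 7), `Φ₀` (cyclic permutation, `Φ₀ ζ₀ Φ₀⁻¹ = ζ₀²`), `w₃ = diag(1,-1,-1)`, `s₃`.
All unitary of determinant one; `ζ₀, Φ₀, w₃` preserve `S21`; `s₃` moves `e₀` out of `S21`.
-/

set_option autoImplicit false
set_option maxRecDepth 100000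

namespace Cfsg.Agent.Lib.Helper15.S5778Data3

open Matrix Cfsg Cfsg.Geo Cfsg.Agent.Lib.Helper15.FQuad Cfsg.Agent.Lib.Helper15.S5778Tools
  Cfsg.Agent.Lib.Helper15.S5778Core

/-- `a + b i` -/
abbrev e (a b : ZMod 3) : K9 := ⟨a, b⟩

/-- `β = α² = 2 i` -/
def β : K9 := e 0 2

def ζ₀ : Matrix (Fin 3) (Fin 3) K9 := !![e 1 0, e 2 1, e 2 0; e 1 0, e 1 2, e 2 0; e 2 2, 0, e 2 2]
def Φ₀ : Matrix (Fin 3) (Fin 3) K9 := !![0, 1, 0; 0, 0, 1; 1, 0, 0]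
def w₃ : Matrix (Fin 3) (Fin 3) K9 := !![1, 0, 0; 0, e 2 0, 0; 0, 0, e 2 0]
def s₃ : Matrix (Fin 3) (Fin 3) K9 := !![e 1 1, e 1 1, 0; e 1 2, e 2 1, 0; 0, 0, e 2 0]

theorem pow8 : ∀ c : K9, c ≠ 0 → c ^ 8 = 1 := by decide +kernel

theorem det_ζ₀ : ζ₀.det = 1 := by decide +kernel
theorem det_Φ₀ : Φ₀.det = 1 := by decide +kernel
theorem det_w₃ : w₃.det = 1 := by decide +kernel
theorem det_s₃ : s₃.det = 1 := by decide +kernel

theorem unit_ζ₀ : (ζ₀.map (· ^ 3))ᵀ * ζ₀ = 1 := by decide +kernel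
theorem unit_Φ₀ : (Φ₀.map (· ^ 3))ᵀ * Φ₀ = 1 := by decide +kernel
theorem unit_w₃ : (w₃.map (· ^ 3))ᵀ * w₃ = 1 := by decide +kernel
theorem unit_s₃ : (s₃.map (· ^ 3))ᵀ * s₃ = 1 := by decide +kernel

theorem ζ₀_pow : ζ₀ ^ 7 = 1 := by decide +kernel
theorem ζ₀_ne_one : ζ₀ ≠ 1 := by decide +kernel
theorem Φ₀_pow : Φ₀ ^ 3 = 1 := by decide +kernel
theorem Φ₀_conj : Φ₀ * ζ₀ = ζ₀ ^ 2 * Φ₀ := by decide +kernel
theorem w₃_sq : w₃ * w₃ = 1 := by decide +kernel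
/-- `w₃ ζ₀ w₃⁻¹` does not commute with `ζ₀` -/
theorem w₃_not_norm : (w₃ * ζ₀ * w₃) * ζ₀ ≠ ζ₀ * (w₃ * ζ₀ * w₃) := by decide +kernel

/-- scaling invariance of `S21` -/
theorem shape21_smul {K : Type*} [Field K] (β c : K) (hc : c ≠ 0) (x y z : K) :
    shape21 β (c * x) (c * y) (c * z) ↔ shape21 β x y z := by
  have h2 : c ^ 2 ≠ 0 := pow_ne_zero _ hc
  unfold shape21
  have e1 : β * (c ^ 2 * x ^ 2) = c ^ 2 * (β * x ^ 2) := by ring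
  rw [mul_pow c y, mul_pow c x, mul_pow c z, e1, mul_right_inj' h2, mul_right_inj' h2, mul_ne_zero_iff,
    mul_eq_zero, mul_eq_zero]
  simp only [hc, ne_eq, not_false_eq_true, true_and, false_or]

theorem inS21_smul {K : Type*} [Field K] (β c : K) (hc : c ≠ 0) (v : Fin 3 → K) :
    inS21 β (c • v) ↔ inS21 β v := by
  unfold inS21
  simp only [Pi.smul_apply, smul_eq_mul, shape21_smul β c hc]

theorem not21_zero : ¬ inS21 β (0 : Fin 3 → K9) := by decide +kernel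

theorem pres21_of (A : Matrix (Fin 3) (Fin 3) K9)
    (h1 : ∀ b c : K9, inS21 β ![1, b, c] → inS21 β (A *ᵥ ![1, b, c]))
    (h2 : ∀ c : K9, inS21 β ![0, 1, c] → inS21 β (A *ᵥ ![0, 1, c]))
    (h3 : inS21 β ![0, 0, (1 : K9)] → inS21 β (A *ᵥ ![0, 0, 1])) : ∀ v, inS21 β v → inS21 β (A *ᵥ v) :=
  forall_of_normalised _ (fun c hc v => inS21_smul β c hc v) not21_zero A h1 h2 h3

theorem ζ₀_pres : ∀ v : Fin 3 → K9, inS21 β v → inS21 β (ζ₀ *ᵥ v) :=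
  pres21_of ζ₀ (by decide +kernel) (by decide +kernel) (by decide +kernel)
theorem Φ₀_pres : ∀ v : Fin 3 → K9, inS21 β v → inS21 β (Φ₀ *ᵥ v) :=
  pres21_of Φ₀ (by decide +kernel) (by decide +kernel) (by decide +kernel)
theorem w₃_pres : ∀ v : Fin 3 → K9, inS21 β v → inS21 β (w₃ *ᵥ v) :=
  pres21_of w₃ (by decide +kernel) (by decide +kernel) (by decide +kernel)

theorem s₃_moves : inS21 β ![(1 : K9), 0, 0] ∧ ¬ inS21 β (s₃ *ᵥ ![(1 : K9), 0, 0]) := by decide +kernel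

/-! ### pushed to an arbitrary field with 9 elements -/

section push
variable {F : Type*} [Field F] [Fintype F] (φ : K9 →+* F)

/-- `S21` over `F` (depends on `φ` through `φ β`) -/
def S21 : Set (Fin 3 → F) := {u | inS21 (φ β) u}

theorem mem_SU_of (hF : Fintype.card F = 3 ^ 2) (A : Matrix (Fin 3) (Fin 3) K9) (hdet : A.det = 1)
    (hA : (A.map (· ^ 3))ᵀ * A = 1) : mapGL φ A hdet ∈ SUn 3 F 3 := mapGL_mem_SUn hF φ A hdet hA

theorem mem_stab21_of (hφ : Function.Surjective φ) (A : Matrix (Fin 3) (Fin 3) K9) (hdet : A.det = 1)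
    (h : ∀ v, inS21 β v → inS21 β (A *ᵥ v)) : mapGL φ A hdet ∈ stabSet (S21 φ) :=
  mapGL_mem_stabSet φ hφ (inS21 β) (inS21 (φ β)) (inS21_map φ β) A hdet h

theorem s₃_not_mem_stab21 : mapGL φ s₃ det_s₃ ∉ stabSet (S21 φ) :=
  mapGL_not_mem_stabSet φ (inS21 β) (inS21 (φ β)) (inS21_map φ β) s₃ det_s₃ _ s₃_moves.1 s₃_moves.2

end push

end Cfsg.Agent.Lib.Helper15.S5778Data3
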