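import Cfsg.Agent.Lib.Helper15.S5778Tools

/-!
# S5778 (SU_3(5)): explicit matrices over `K25` and their verified properties  (helper15)

Over `K25 = ZMod 5 [i]`, `i² = 2`, `ω = 2 + 2i`:
`w = 4J - I`, `s`, `ζ₀`, `Φ₀`, `w₂`, `d = diag(ω, ω², 1)`, `a = diag(1, ω, ω²)`, `b` = cyclic shift.
All are unitary of determinant one; `w, ζ₀, Φ₀, d` preserve `S105`; `w₂` preserves `S45`; `s` moves `e₀` out of `S105`
and `(0,1,4)` out of `S45`.
-/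

set_option autoImplicit false
set_option maxRecDepth 100000

namespace Cfsg.Agent.Lib.Helper15.S5778Data5

open Matrix Cfsg.Agent.Lib.Helper15.FQuad Cfsg.Agent.Lib.Helper15.S5778Tools

/-- `a + b i` -/
abbrev e (a b : ZMod 5) : K25 := ⟨a, b⟩

def ω : K25 := e 2 2
def ω2 : K25 := e 2 3

def w : Matrix (Fin 3) (Fin 3) K25 := !![e 3 0, e 4 0, e 4 0; e 4 0, e 3 0, e 4 0; e 4 0, e 4 0, e 3 0]
def s : Matrix (Fin 3) (Fin 3) K25 := !![e 3 0, e 0 2, 0; e 0 2, e 3 0, 0; 0, 0, 1]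
def ζ₀ : Matrix (Fin 3) (Fin 3) K25 := !![e 4 3, e 1 1, e 2 0; e 1 3, e 2 0, e 1 4; 0, e 4 3, e 1 3]
def Φ₀ : Matrix (Fin 3) (Fin 3) K25 := !![0, 0, e 3 2; e 3 3, 0, 0; 0, 1, 0]
def w₂ : Matrix (Fin 3) (Fin 3) K25 := !![e 1 0, e 4 0, e 2 0; e 4 0, e 2 0, e 4 0; e 2 0, e 4 0, e 1 0]
def d : Matrix (Fin 3) (Fin 3) K25 := !![ω, 0, 0; 0, ω2, 0; 0, 0, 1]
def a : Matrix (Fin 3) (Fin 3) K25 := !![1, 0, 0; 0, ω, 0; 0, 0, ω2]
def b : Matrix (Fin 3) (Fin 3) K25 := !![0, 0, 1; 1, 0, 0; 0, 1, 0]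

theorem pow24 : ∀ c : K25, c ≠ 0 → c ^ 24 = 1 := by decide +kernel

theorem omega_cube : ω ^ 3 = 1 ∧ ω ≠ 1 ∧ ω2 = ω ^ 2 := by decide +kernel

/-! ### determinants and unitarity -/

theorem det_w : w.det = 1 := by decide +kernel
theorem det_s : s.det = 1 := by decide +kernel
theorem det_ζ₀ : ζ₀.det = 1 := by decide +kernel
theorem det_Φ₀ : Φ₀.det = 1 := by decide +kernel
theorem det_w₂ : w₂.det = 1 := by decide +kernel
theorem det_d : d.det = 1 := by decide +kernel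
theorem det_a : a.det = 1 := by decide +kernel
theorem det_b : b.det = 1 := by decide +kernel

theorem unit_w : (w.map (· ^ 5))ᵀ * w = 1 := by decide +kernel
theorem unit_s : (s.map (· ^ 5))ᵀ * s = 1 := by decide +kernel
theorem unit_ζ₀ : (ζ₀.map (· ^ 5))ᵀ * ζ₀ = 1 := by decide +kernel
theorem unit_Φ₀ : (Φ₀.map (· ^ 5))ᵀ * Φ₀ = 1 := by decide +kernel
theorem unit_w₂ : (w₂.map (· ^ 5))ᵀ * w₂ = 1 := by decide +kernel
theorem unit_d : (d.map (· ^ 5))ᵀ * d = 1 := by decide +kernel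
theorem unit_a : (a.map (· ^ 5))ᵀ * a = 1 := by decide +kernel
theorem unit_b : (b.map (· ^ 5))ᵀ * b = 1 := by decide +kernel

/-! ### relations -/

theorem ζ₀_pow : ζ₀ ^ 7 = 1 := by decide +kernel
theorem ζ₀_ne_one : ζ₀ ≠ 1 := by decide +kernel
theorem Φ₀_pow : Φ₀ ^ 3 = 1 := by decide +kernel
theorem Φ₀_conj : Φ₀ * ζ₀ = ζ₀ ^ 2 * Φ₀ := by decide +kernel
/-- `w ζ₀ w⁻¹` does not commute with `ζ₀` (`w⁻¹ = w`) -/
theorem w_sq : w * w = 1 := by decide +kernel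
theorem w_not_norm : (w * ζ₀ * w) * ζ₀ ≠ ζ₀ * (w * ζ₀ * w) := by decide +kernel

end Cfsg.Agent.Lib.Helper15.S5778Data5
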