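import Cfsg.Agent.Lib.Helper15.S5778Data5

/-!
# S5778 (SU_3(5)): invariance of `S105` / `S45` under the explicit matrices  (helper15)

Scaling invariance of `inS105`, `inS45` (over any field with `c ^ 24 = 1` for `c ≠ 0`), and the `decide`-checks over `K25`:
`w, ζ₀, Φ₀, d, a, b` preserve `S105`; `w₂, a, b` preserve `S45`; `s` does not preserve `S105` nor `S45`.
Then the same facts pushed to an arbitrary field `F` with 25 elements along a bijective `φ : K25 →+* F`.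
-/

set_option autoImplicit false
set_option maxRecDepth 100000

namespace Cfsg.Agent.Lib.Helper15.S5778Data5

open Matrix Cfsg Cfsg.Geo Cfsg.Agent.Lib.Helper15.FQuad Cfsg.Agent.Lib.Helper15.S5778Tools
  Cfsg.Agent.Lib.Helper15.S5778Core

theorem inS105_smul {K : Type*} [Field K] (h24 : ∀ c : K, c ≠ 0 → c ^ 24 = 1) (c : K) (hc : c ≠ 0)
    (v : Fin 3 → K) : inS105 (c • v) ↔ inS105 v := by
  have h6 : c ^ 6 ≠ 0 := pow_ne_zero _ hc
  have e1 : c * v 0 * (c * v 0) ^ 5 + c * v 1 * (c * v 1) ^ 5 + c * v 2 * (c * v 2) ^ 5 =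
      c ^ 6 * (v 0 * (v 0) ^ 5 + v 1 * (v 1) ^ 5 + v 2 * (v 2) ^ 5) := by ring
  have e2 : (c * v 0 * (c * v 1) * (c * v 2)) ^ 8 = (v 0 * v 1 * v 2) ^ 8 := by
    have : (c * v 0 * (c * v 1) * (c * v 2)) ^ 8 = c ^ 24 * (v 0 * v 1 * v 2) ^ 8 := by ring
    rw [this, h24 c hc, one_mul]
  unfold inS105
  simp only [Pi.smul_apply, smul_eq_mul]
  rw [e1, e2, mul_pow c (v 0), mul_pow c (v 1), mul_pow c (v 2), mul_right_inj' h6, mul_right_inj' h6,
    mul_right_inj' h6, mul_ne_zero_iff]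
  simp only [h6, ne_eq, not_false_eq_true, true_and]

theorem inS45_smul {K : Type*} [Field K] (h24 : ∀ c : K, c ≠ 0 → c ^ 24 = 1) (c : K) (hc : c ≠ 0)
    (v : Fin 3 → K) : inS45 (c • v) ↔ inS45 v := by
  have h6 : c ^ 6 ≠ 0 := pow_ne_zero _ hc
  have h3 : c ^ 3 ≠ 0 := pow_ne_zero _ hc
  have h12 : c ^ 12 ≠ 0 := pow_ne_zero _ hc
  have e1 : c * v 0 * (c * v 0) ^ 5 + c * v 1 * (c * v 1) ^ 5 + c * v 2 * (c * v 2) ^ 5 =
      c ^ 6 * (v 0 * (v 0) ^ 5 + v 1 * (v 1) ^ 5 + v 2 * (v 2) ^ 5) := by ring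
  have eA : (c * v 0) ^ 3 + (c * v 1) ^ 3 + (c * v 2) ^ 3 = c ^ 3 * ((v 0) ^ 3 + (v 1) ^ 3 + (v 2) ^ 3) := by ring
  have eB : c * v 0 * (c * v 1) * (c * v 2) = c ^ 3 * (v 0 * v 1 * v 2) := by ring
  have e36 : c ^ 36 = c ^ 12 := by
    have : c ^ 36 = c ^ 24 * c ^ 12 := by ring
    rw [this, h24 c hc, one_mul]
  unfold inS45
  simp only [Pi.smul_apply, smul_eq_mul]
  rw [e1, eA, eB]
  have eP : c ^ 3 * (v 0 * v 1 * v 2) * ((c ^ 3 * ((v 0) ^ 3 + (v 1) ^ 3 + (v 2) ^ 3)) ^ 3 +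
      3 * (c ^ 3 * (v 0 * v 1 * v 2)) ^ 3) =
      c ^ 12 * (v 0 * v 1 * v 2 * (((v 0) ^ 3 + (v 1) ^ 3 + (v 2) ^ 3) ^ 3 + 3 * (v 0 * v 1 * v 2) ^ 3)) := by ring
  have eH : 3 * (c ^ 6 * (v 0 * (v 0) ^ 5 + v 1 * (v 1) ^ 5 + v 2 * (v 2) ^ 5)) ^ 6 =
      c ^ 12 * (3 * (v 0 * (v 0) ^ 5 + v 1 * (v 1) ^ 5 + v 2 * (v 2) ^ 5) ^ 6) := by
    have : 3 * (c ^ 6 * (v 0 * (v 0) ^ 5 + v 1 * (v 1) ^ 5 + v 2 * (v 2) ^ 5)) ^ 6 =
      c ^ 36 * (3 * (v 0 * (v 0) ^ 5 + v 1 * (v 1) ^ 5 + v 2 * (v 2) ^ 5) ^ 6) := by ring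
    rw [this, e36]
  rw [eP, eH, mul_right_inj' h12, mul_ne_zero_iff, mul_eq_zero, mul_eq_zero]
  simp only [h6, h3, ne_eq, not_false_eq_true, true_and, false_or]

theorem not105_zero : ¬ inS105 (0 : Fin 3 → K25) := by decide +kernel
theorem not45_zero : ¬ inS45 (0 : Fin 3 → K25) := by decide +kernel

/-- the `decide` pattern: preservation of `S105` on all vectors from the normalised ones -/
theorem pres105_of (A : Matrix (Fin 3) (Fin 3) K25)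
    (h1 : ∀ b c : K25, inS105 ![1, b, c] → inS105 (A *ᵥ ![1, b, c]))
    (h2 : ∀ c : K25, inS105 ![0, 1, c] → inS105 (A *ᵥ ![0, 1, c]))
    (h3 : inS105 ![0, 0, (1 : K25)] → inS105 (A *ᵥ ![0, 0, 1])) : ∀ v, inS105 v → inS105 (A *ᵥ v) :=
  forall_of_normalised _ (inS105_smul pow24) not105_zero A h1 h2 h3

theorem pres45_of (A : Matrix (Fin 3) (Fin 3) K25)
    (h1 : ∀ b c : K25, inS45 ![1, b, c] → inS45 (A *ᵥ ![1, b, c]))
    (h2 : ∀ c : K25, inS45 ![0, 1, c] → inS45 (A *ᵥ ![0, 1, c]))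
    (h3 : inS45 ![0, 0, (1 : K25)] → inS45 (A *ᵥ ![0, 0, 1])) : ∀ v, inS45 v → inS45 (A *ᵥ v) :=
  forall_of_normalised _ (inS45_smul pow24) not45_zero A h1 h2 h3

theorem w_pres : ∀ v : Fin 3 → K25, inS105 v → inS105 (w *ᵥ v) :=
  pres105_of w (by decide +kernel) (by decide +kernel) (by decide +kernel)
theorem ζ₀_pres : ∀ v : Fin 3 → K25, inS105 v → inS105 (ζ₀ *ᵥ v) :=
  pres105_of ζ₀ (by decide +kernel) (by decide +kernel) (by decide +kernel)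
theorem Φ₀_pres : ∀ v : Fin 3 → K25, inS105 v → inS105 (Φ₀ *ᵥ v) :=
  pres105_of Φ₀ (by decide +kernel) (by decide +kernel) (by decide +kernel)
theorem d_pres : ∀ v : Fin 3 → K25, inS105 v → inS105 (d *ᵥ v) :=
  pres105_of d (by decide +kernel) (by decide +kernel) (by decide +kernel)
theorem a_pres : ∀ v : Fin 3 → K25, inS105 v → inS105 (a *ᵥ v) :=
  pres105_of a (by decide +kernel) (by decide +kernel) (by decide +kernel)
theorem b_pres : ∀ v : Fin 3 → K25, inS105 v → inS105 (b *ᵥ v) :=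
  pres105_of b (by decide +kernel) (by decide +kernel) (by decide +kernel)

theorem w₂_pres45 : ∀ v : Fin 3 → K25, inS45 v → inS45 (w₂ *ᵥ v) :=
  pres45_of w₂ (by decide +kernel) (by decide +kernel) (by decide +kernel)
theorem a_pres45 : ∀ v : Fin 3 → K25, inS45 v → inS45 (a *ᵥ v) :=
  pres45_of a (by decide +kernel) (by decide +kernel) (by decide +kernel)
theorem b_pres45 : ∀ v : Fin 3 → K25, inS45 v → inS45 (b *ᵥ v) :=
  pres45_of b (by decide +kernel) (by decide +kernel) (by decide +kernel)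

/-- `e₀ ∈ S105`, `s e₀ ∉ S105` -/
theorem s_moves105 : inS105 ![(1 : K25), 0, 0] ∧ ¬ inS105 (s *ᵥ ![(1 : K25), 0, 0]) := by decide +kernel
/-- `(0,1,4) ∈ S45`, `s (0,1,4) ∉ S45` -/
theorem s_moves45 : inS45 ![(0 : K25), 1, e 4 0] ∧ ¬ inS45 (s *ᵥ ![(0 : K25), 1, e 4 0]) := by decide +kernel

/-- `w₂ a w₂⁻¹` is not in `Rstd` : it is not monomial (entry `(0,1)` and `(0,0)` both non-zero); `w₂² = 1` -/
theorem w₂_sq : w₂ * w₂ = 1 := by decide +kernel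
theorem w₂_a : (w₂ * a * w₂) 0 0 ≠ 0 ∧ (w₂ * a * w₂) 0 1 ≠ 0 := by decide +kernel

/-! ### the same facts over an arbitrary field with 25 elements -/

section push
variable {F : Type*} [Field F] [Fintype F] (φ : K25 →+* F)

/-- `S105` over `F` -/
def S105 (F : Type*) [Field F] : Set (Fin 3 → F) := {u | inS105 u}
/-- `S45` over `F` -/
def S45 (F : Type*) [Field F] : Set (Fin 3 → F) := {u | inS45 u}

theorem mem_SU_of (hF : Fintype.card F = 5 ^ 2) (A : Matrix (Fin 3) (Fin 3) K25) (hdet : A.det = 1) (hA : (A.map (· ^ 5))ᵀ * A = 1) :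
    mapGL φ A hdet ∈ SUn 3 F 5 := mapGL_mem_SUn hF φ A hdet hA

theorem mem_stab105_of (hφ : Function.Surjective φ) (A : Matrix (Fin 3) (Fin 3) K25) (hdet : A.det = 1)
    (h : ∀ v, inS105 v → inS105 (A *ᵥ v)) : mapGL φ A hdet ∈ stabSet (S105 F) :=
  mapGL_mem_stabSet φ hφ inS105 inS105 (inS105_map φ) A hdet h

theorem mem_stab45_of (hφ : Function.Surjective φ) (A : Matrix (Fin 3) (Fin 3) K25) (hdet : A.det = 1)
    (h : ∀ v, inS45 v → inS45 (A *ᵥ v)) : mapGL φ A hdet ∈ stabSet (S45 F) :=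
  mapGL_mem_stabSet φ hφ inS45 inS45 (inS45_map φ) A hdet h

theorem s_not_mem_stab105 : mapGL φ s det_s ∉ stabSet (S105 F) :=
  mapGL_not_mem_stabSet φ inS105 inS105 (inS105_map φ) s det_s _ s_moves105.1 s_moves105.2

theorem s_not_mem_stab45 : mapGL φ s det_s ∉ stabSet (S45 F) :=
  mapGL_not_mem_stabSet φ inS45 inS45 (inS45_map φ) s det_s _ s_moves45.1 s_moves45.2

end push

end Cfsg.Agent.Lib.Helper15.S5778Data5
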