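import Cfsg.Agent.Lib.Helper15.S5778Core

/-!
# S5778 (SU_3): tools for explicit invariant sets  (helper15)

* `forall_of_normalised` : a scaling-invariant predicate on `K³` preserved by `A` on the normalised vectors
  `![1,b,c]`, `![0,1,c]`, `![0,0,1]` is preserved by `A` on all vectors.
* `mapGL_mem_stabSet` : transport of such a check along a bijective `φ : K →+* F`.
* `S105`, `S45` (`q = 5`) and `S21` (`q = 3`) as predicates over an arbitrary commutative ring, their scaling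
  invariance and their transport along an injective ring homomorphism.
-/

set_option autoImplicit false
set_option linter.unusedSectionVars false

namespace Cfsg.Agent.Lib.Helper15.S5778Tools

open Matrix Cfsg Cfsg.Geo Cfsg.Agent.Lib.Helper15.S5778Core

section normalised
variable {K : Type*} [Field K]

theorem vec3_eta (v : Fin 3 → K) : v = ![v 0, v 1, v 2] := by
  ext i
  fin_cases i <;> rfl

/-- reduction to normalised vectors -/
theorem forall_of_normalised (P : (Fin 3 → K) → Prop) (hsc : ∀ (c : K), c ≠ 0 → ∀ v, P (c • v) ↔ P v)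
    (h0 : ¬ P 0) (A : Matrix (Fin 3) (Fin 3) K)
    (h1 : ∀ b c : K, P ![1, b, c] → P (A *ᵥ ![1, b, c]))
    (h2 : ∀ c : K, P ![0, 1, c] → P (A *ᵥ ![0, 1, c]))
    (h3 : P ![0, 0, 1] → P (A *ᵥ ![0, 0, 1])) : ∀ v, P v → P (A *ᵥ v) := by
  intro v hv
  by_cases ha : v 0 = 0
  · by_cases hb : v 1 = 0
    · by_cases hc : v 2 = 0
      · exfalso
        apply h0
        have : v = 0 := by
          ext i
          fin_cases i <;> simp [ha, hb, hc]
        rwa [this] at hv
      · have hv' : v = v 2 • ![0, 0, 1] := by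
          ext i
          fin_cases i <;> simp [ha, hb]
        rw [hv'] at hv ⊢
        rw [Matrix.mulVec_smul, hsc _ hc]
        exact h3 ((hsc _ hc _).1 hv)
    · have hv' : v = v 1 • ![0, 1, (v 1)⁻¹ * v 2] := by
        ext i
        fin_cases i <;> simp [ha, hb]
      rw [hv'] at hv ⊢
      rw [Matrix.mulVec_smul, hsc _ hb]
      exact h2 _ ((hsc _ hb _).1 hv)
  · have hv' : v = v 0 • ![1, (v 0)⁻¹ * v 1, (v 0)⁻¹ * v 2] := by
      ext i
      fin_cases i <;> simp [ha]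
    rw [hv'] at hv ⊢
    rw [Matrix.mulVec_smul, hsc _ ha]
    exact h1 _ _ ((hsc _ ha _).1 hv)

end normalised

section transport
variable {F : Type*} [Field F] [Fintype F] {K : Type*} [Field K]

/-- a matrix over `K` preserving `PK` gives an element of the stabiliser of the transported set -/
theorem mapGL_mem_stabSet (φ : K →+* F) (hφ : Function.Surjective φ) (PK : (Fin 3 → K) → Prop)
    (PF : (Fin 3 → F) → Prop) (htr : ∀ v : Fin 3 → K, PF (φ ∘ v) ↔ PK v)
    (A : Matrix (Fin 3) (Fin 3) K) (hdet : A.det = 1) (h : ∀ v, PK v → PK (A *ᵥ v)) :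
    mapGL φ A hdet ∈ stabSet {u | PF u} := by
  apply mem_stabSet_of_forall
  intro u hu
  have hex : ∃ v : Fin 3 → K, u = φ ∘ v := by
    choose f hf using hφ
    exact ⟨fun i => f (u i), by ext i; simp [hf]⟩
  obtain ⟨v, rfl⟩ := hex
  rw [mapGL_coe, map_mulVec]
  exact (htr _).2 (h v ((htr v).1 hu))

/-- a matrix over `K` NOT preserving `PK` at `v` gives an element outside the stabiliser -/
theorem mapGL_not_mem_stabSet (φ : K →+* F) (PK : (Fin 3 → K) → Prop)
    (PF : (Fin 3 → F) → Prop) (htr : ∀ v : Fin 3 → K, PF (φ ∘ v) ↔ PK v)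
    (A : Matrix (Fin 3) (Fin 3) K) (hdet : A.det = 1) (v : Fin 3 → K) (hv : PK v) (hAv : ¬ PK (A *ᵥ v)) :
    mapGL φ A hdet ∉ stabSet {u | PF u} := by
  intro hmem
  have h1 := (hmem (φ ∘ v)).1 ((htr v).2 hv)
  rw [mapGL_coe, map_mulVec] at h1
  exact hAv ((htr _).1 h1)

end transport

/-! ### the three sets -/

section sets
variable {R : Type*} [CommRing R]

/-- `S105` (`q = 5`) -/
def inS105 (v : Fin 3 → R) : Prop :=
  v 0 * (v 0) ^ 5 + v 1 * (v 1) ^ 5 + v 2 * (v 2) ^ 5 ≠ 0 ∧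
  ((v 0) ^ 6 = (v 1) ^ 6 ∨ (v 1) ^ 6 = (v 2) ^ 6 ∨ (v 0) ^ 6 = (v 2) ^ 6) ∧
  ((v 0 * v 1 * v 2) ^ 8 = 0 ∨ (v 0 * v 1 * v 2) ^ 8 = 1)

/-- `S45` (`q = 5`) -/
def inS45 (v : Fin 3 → R) : Prop :=
  v 0 * (v 0) ^ 5 + v 1 * (v 1) ^ 5 + v 2 * (v 2) ^ 5 ≠ 0 ∧
  (((v 0) ^ 3 + (v 1) ^ 3 + (v 2) ^ 3 = 0 ∧ v 0 * v 1 * v 2 = 0) ∨
    v 0 * v 1 * v 2 * (((v 0) ^ 3 + (v 1) ^ 3 + (v 2) ^ 3) ^ 3 + 3 * (v 0 * v 1 * v 2) ^ 3) =
      3 * (v 0 * (v 0) ^ 5 + v 1 * (v 1) ^ 5 + v 2 * (v 2) ^ 5) ^ 6)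

/-- one of the three shapes of `S21` (`q = 3`), for the coordinates in the order `x, y, z`; `β = α²` -/
def shape21 (β x y z : R) : Prop :=
  x ≠ 0 ∧ ((y = 0 ∧ z = 0) ∨ (z = 0 ∧ y ^ 2 = x ^ 2) ∨ (y ^ 2 = x ^ 2 ∧ z ^ 2 = β * x ^ 2))

/-- `S21` (`q = 3`), `β = α² = 2i` -/
def inS21 (β : R) (v : Fin 3 → R) : Prop :=
  shape21 β (v 0) (v 1) (v 2) ∨ shape21 β (v 0) (v 2) (v 1) ∨ shape21 β (v 1) (v 0) (v 2) ∨
  shape21 β (v 1) (v 2) (v 0) ∨ shape21 β (v 2) (v 0) (v 1) ∨ shape21 β (v 2) (v 1) (v 0)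

instance [DecidableEq R] : DecidablePred (inS105 (R := R)) := fun v => by unfold inS105; infer_instance
instance [DecidableEq R] : DecidablePred (inS45 (R := R)) := fun v => by unfold inS45; infer_instance
instance [DecidableEq R] (β x y z : R) : Decidable (shape21 β x y z) := by unfold shape21; infer_instance
instance [DecidableEq R] (β : R) : DecidablePred (inS21 β) := fun v => by unfold inS21; infer_instance

end sets

section transportSets
variable {K F : Type*} [Field K] [Field F]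

theorem inS105_map (φ : K →+* F) (v : Fin 3 → K) : inS105 (φ ∘ v) ↔ inS105 v := by
  have hinj := φ.injective
  unfold inS105
  simp only [Function.comp_apply, ← map_pow, ← map_mul, ← map_add]
  rw [map_ne_zero_iff _ hinj, hinj.eq_iff, hinj.eq_iff, hinj.eq_iff, map_eq_zero_iff _ hinj, map_eq_one_iff _ hinj]

theorem inS45_map (φ : K →+* F) (v : Fin 3 → K) : inS45 (φ ∘ v) ↔ inS45 v := by
  have hinj := φ.injective
  have h3 : (3 : F) = φ 3 := (map_ofNat φ 3).symm
  unfold inS45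
  simp only [Function.comp_apply, h3, ← map_pow, ← map_mul, ← map_add]
  rw [map_ne_zero_iff _ hinj, hinj.eq_iff, map_eq_zero_iff _ hinj, map_eq_zero_iff _ hinj]

theorem shape21_map (φ : K →+* F) (β x y z : K) : shape21 (φ β) (φ x) (φ y) (φ z) ↔ shape21 β x y z := by
  have hinj := φ.injective
  unfold shape21
  simp only [← map_pow, ← map_mul]
  rw [map_ne_zero_iff _ hinj, hinj.eq_iff, hinj.eq_iff, map_eq_zero_iff _ hinj, map_eq_zero_iff _ hinj]

theorem inS21_map (φ : K →+* F) (β : K) (v : Fin 3 → K) : inS21 (φ β) (φ ∘ v) ↔ inS21 β v := by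
  unfold inS21
  simp only [Function.comp_apply, shape21_map]

end transportSets

end Cfsg.Agent.Lib.Helper15.S5778Tools
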