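import Mathlib

/-!
# S3589, part b: the twelve numbers and their divisibility bookkeeping
-/

set_option autoImplicit false

namespace Cfsg.Agent.Lib.Helper15.SO8

/-- the "cyclotomic" numbers -/
def Phi (i q : ℕ) : ℕ :=
  match i with
  | 1 => q - 1
  | 2 => q + 1
  | 3 => q ^ 2 + q + 1
  | 4 => q ^ 2 + 1
  | 6 => q ^ 2 - q + 1
  | 8 => q ^ 4 + 1
  | _ => 1

/-- the number coded by a pair `(k, S)`: `2^k ∏_{i ∈ S} Φ_i(q)` -/
def num (q : ℕ) (p : ℕ × Finset ℕ) : ℕ := 2 ^ p.1 * ∏ i ∈ p.2, Phi i q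

/-- domination of codes -/
def dom (p p' : ℕ × Finset ℕ) : Prop := p.1 ≤ p'.1 ∧ p.2 ⊆ p'.2

instance (p p' : ℕ × Finset ℕ) : Decidable (dom p p') := by
  unfold dom; infer_instance

/-- join of codes -/
def join (p p' : ℕ × Finset ℕ) : ℕ × Finset ℕ := (max p.1 p'.1, p.2 ∪ p'.2)

theorem num_dvd_of_dom (q : ℕ) {p p' : ℕ × Finset ℕ} (h : dom p p') : num q p ∣ num q p' := by
  unfold num
  exact Nat.mul_dvd_mul (pow_dvd_pow 2 h.1) (Finset.prod_dvd_prod_of_subset _ _ _ h.2)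

theorem dom_join_left (p p' : ℕ × Finset ℕ) : dom p (join p p') :=
  ⟨le_max_left _ _, Finset.subset_union_left⟩

theorem dom_join_right (p p' : ℕ × Finset ℕ) : dom p' (join p p') :=
  ⟨le_max_right _ _, Finset.subset_union_right⟩

theorem dom_trans {p p' p'' : ℕ × Finset ℕ} (h : dom p p') (h' : dom p' p'') : dom p p'' :=
  ⟨h.1.trans h'.1, h.2.trans h'.2⟩

/-- the final list of twelve codes -/
def LL : List (ℕ × Finset ℕ) :=
  [(0, {8}), (0, {1, 2, 4}), (0, {1, 2, 6}), (0, {1, 2, 3}), (1, {2, 4}), (1, {1, 4}), (2, {1, 2}),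
    (1, {2, 6}), (1, {1, 3}), (2, {4}), (3, {2}), (3, {1})]

/-- covering lists for self-dual polynomials of degree `2 r` without the factor `X + 1` -/
def Lam : ℕ → List (ℕ × Finset ℕ)
  | 0 => [(0, ∅)]
  | 1 => [(0, {2}), (0, {1})]
  | 2 => [(0, {4}), (0, {1, 2}), (1, {2}), (1, {1})]
  | 3 => [(0, {2, 6}), (0, {1, 3}), (2, {2}), (2, {1}), (0, {1, 4}), (0, {2, 4}), (1, {1, 2})]
  | 4 => [(0, {8}), (0, {1, 2, 4}), (0, {1, 2, 6}), (0, {1, 2, 3}), (1, {2, 4}), (1, {1, 4}), (2, {1, 2})]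
  | _ => []

def Splus : ℕ → Finset ℕ
  | 1 => {2}
  | 2 => {4}
  | 3 => {2, 6}
  | 4 => {8}
  | _ => ∅

def Sminus : ℕ → Finset ℕ
  | 1 => {1}
  | 2 => {1, 2}
  | 3 => {1, 3}
  | 4 => {1, 2, 4}
  | _ => ∅

theorem Phi_1 (q : ℕ) : Phi 1 q = q - 1 := rfl
theorem Phi_2 (q : ℕ) : Phi 2 q = q + 1 := rfl
theorem Phi_3 (q : ℕ) : Phi 3 q = q ^ 2 + q + 1 := rfl
theorem Phi_4 (q : ℕ) : Phi 4 q = q ^ 2 + 1 := rfl
theorem Phi_6 (q : ℕ) : Phi 6 q = q ^ 2 - q + 1 := rfl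
theorem Phi_8 (q : ℕ) : Phi 8 q = q ^ 4 + 1 := rfl

theorem num_zero (q : ℕ) (S : Finset ℕ) : num q (0, S) = ∏ i ∈ S, Phi i q := by
  unfold num
  simp

theorem num_Splus (q d : ℕ) (hd1 : 1 ≤ d) (hd4 : d ≤ 4) : num q (0, Splus d) = q ^ d + 1 := by
  rw [num_zero]
  interval_cases d
  · show ∏ i ∈ ({2} : Finset ℕ), Phi i q = _
    rw [Finset.prod_singleton, Phi_2, pow_one]
  · show ∏ i ∈ ({4} : Finset ℕ), Phi i q = _
    rw [Finset.prod_singleton, Phi_4]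
  · show ∏ i ∈ ({2, 6} : Finset ℕ), Phi i q = _
    have h1 : q ≤ q ^ 2 := by nlinarith [Nat.zero_le q]
    rw [Finset.prod_pair (by norm_num), Phi_2, Phi_6]
    zify [h1]
    ring
  · show ∏ i ∈ ({8} : Finset ℕ), Phi i q = _
    rw [Finset.prod_singleton, Phi_8]

theorem num_Sminus (q d : ℕ) (hq : 1 ≤ q) (hd1 : 1 ≤ d) (hd4 : d ≤ 4) : num q (0, Sminus d) = q ^ d - 1 := by
  have hq2 : 1 ≤ q ^ 2 := Nat.one_le_pow _ _ hq
  have hq3 : 1 ≤ q ^ 3 := Nat.one_le_pow _ _ hq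
  have hq4 : 1 ≤ q ^ 4 := Nat.one_le_pow _ _ hq
  rw [num_zero]
  interval_cases d
  · show ∏ i ∈ ({1} : Finset ℕ), Phi i q = _
    rw [Finset.prod_singleton, Phi_1, pow_one]
  · show ∏ i ∈ ({1, 2} : Finset ℕ), Phi i q = _
    rw [Finset.prod_pair (by norm_num), Phi_1, Phi_2]
    zify [hq, hq2]
    ring
  · show ∏ i ∈ ({1, 3} : Finset ℕ), Phi i q = _
    rw [Finset.prod_pair (by norm_num), Phi_1, Phi_3]
    zify [hq, hq3]
    ring
  · show ∏ i ∈ ({1, 2, 4} : Finset ℕ), Phi i q = _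
    rw [Finset.prod_insert (by decide), Finset.prod_pair (by norm_num), Phi_1, Phi_2, Phi_4]
    zify [hq, hq4]
    ring

theorem num_shift (q k j : ℕ) (S : Finset ℕ) : num q (k + j, S) = 2 ^ j * num q (k, S) := by
  unfold num
  simp only
  rw [pow_add]
  ring

theorem lam_join : ∀ r₁ r₂ : ℕ, 1 ≤ r₁ → 1 ≤ r₂ → r₁ + r₂ ≤ 4 → ∀ p ∈ Lam r₁, ∀ p' ∈ Lam r₂,
    ∃ p'' ∈ Lam (r₁ + r₂), dom (join p p') p'' := by
  intro r₁ r₂ h1 h2 h3
  have : r₁ ≤ 3 := by omega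
  have : r₂ ≤ 3 := by omega
  interval_cases r₁ <;> interval_cases r₂ <;> first | omega | decide

theorem lam_plus : ∀ d e : ℕ, 1 ≤ d → 1 ≤ e → d * e ≤ 4 → ∃ p ∈ Lam (d * e), dom (Nat.clog 2 e, Splus d) p := by
  intro d e h1 h2 h3
  have : d ≤ 4 := by nlinarith
  have : e ≤ 4 := by nlinarith
  interval_cases d <;> interval_cases e <;> first | omega | decide

theorem lam_minus : ∀ d e : ℕ, 1 ≤ d → 1 ≤ e → d * e ≤ 4 → ∃ p ∈ Lam (d * e), dom (Nat.clog 2 e, Sminus d) p := by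
  intro d e h1 h2 h3
  have : d ≤ 4 := by nlinarith
  have : e ≤ 4 := by nlinarith
  interval_cases d <;> interval_cases e <;> first | omega | decide

theorem lam_final : ∀ e r : ℕ, e + 2 * r ≤ 8 → ∀ p ∈ Lam r, ∃ p' ∈ LL, dom (join (Nat.clog 2 e, ∅) p) p' := by
  intro e r h
  have : e ≤ 8 := by omega
  have : r ≤ 4 := by omega
  interval_cases e <;> interval_cases r <;> first | omega | decide

end Cfsg.Agent.Lib.Helper15.SO8
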