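import Cfsg.Agent.Lib.Helper15.Sps4

/-!
# The irreducible cases for symplectic matrices (for S2512)
-/

set_option autoImplicit false
set_option linter.unusedSectionVars false

namespace Cfsg.Agent.Lib.Helper15.Sps

open Matrix Polynomial Cfsg Cfsg.Agent.Lib.Helper15.Spr Cfsg.Agent.Lib.Helper15.SpReg
  Cfsg.Agent.Lib.Helper15.Spu

section involution

/-- An involutive `F`-automorphism of a finite extension `E` of the finite field `F` is the
`d`-th power of the Frobenius, where `[E : F] = 2 d`. -/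
theorem involution_eq_frob {F E : Type*} [Field F] [Fintype F] [Field E] [Algebra F E] [Finite E]
    (τ : E →+* E) (hτF : ∀ a : F, τ (algebraMap F E a) = algebraMap F E a)
    (hτ2 : ∀ x, τ (τ x) = x) (hne : ∃ x, τ x ≠ x) :
    ∃ d, Module.finrank F E = 2 * d ∧ ∀ x, τ x = x ^ (Fintype.card F ^ d) := by
  classical
  have hbij : Function.Bijective τ :=
    Function.bijective_iff_has_inverse.mpr ⟨τ, hτ2, hτ2⟩
  let g : E ≃ₐ[F] E := AlgEquiv.ofRingEquiv (f := RingEquiv.ofBijective τ hbij) (by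
    intro a
    exact hτF a)
  have hg : ∀ x, g x = τ x := fun x => rfl
  obtain ⟨⟨i, hi⟩, hgi⟩ := (FiniteField.bijective_frobeniusAlgEquivOfAlgebraic_pow F E).2 g
  simp only at hgi
  have hord := FiniteField.orderOf_frobeniusAlgEquivOfAlgebraic F E
  have hpow : ∀ (t : ℕ) (x : E),
      (FiniteField.frobeniusAlgEquivOfAlgebraic F E ^ t) x = x ^ (Fintype.card F ^ t) := by
    intro t x
    rw [AlgEquiv.coe_pow, FiniteField.coe_frobeniusAlgEquivOfAlgebraic_iterate]
  have hgg : g ^ 2 = 1 := by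
    ext x
    rw [pow_two, AlgEquiv.mul_apply, hg, hg, hτ2]
    rfl
  have h2i : Module.finrank F E ∣ 2 * i := by
    rw [← hord, orderOf_dvd_iff_pow_eq_one, mul_comm, pow_mul, hgi, hgg]
  have hi0 : i ≠ 0 := by
    intro h0
    obtain ⟨x, hx⟩ := hne
    apply hx
    rw [← hg, ← hgi, h0, pow_zero]
    rfl
  have hiN : 2 * i = Module.finrank F E := by
    obtain ⟨c, hc⟩ := h2i
    have hc1 : c = 1 := by
      rcases c with _ | _ | c
      · omega
      · rfl
      · exfalso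
        have : Module.finrank F E * (c + 1 + 1) ≥ Module.finrank F E * 2 :=
          Nat.mul_le_mul_left _ (by omega)
        omega
    rw [hc, hc1, mul_one]
  refine ⟨i, hiN.symm, ?_⟩
  intro x
  rw [← hg, ← hgi, hpow]

end involution

section tau

variable {F : Type*} [Field F]

theorem root_ne_zero' (f : F[X]) [hfi : Fact (Irreducible f)] (hf0 : f.coeff 0 ≠ 0) :
    AdjoinRoot.root f ≠ 0 := by
  intro h0
  have h1 := AdjoinRoot.eval₂_root f
  rw [h0, Polynomial.eval₂_at_zero] at h1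
  have : (AdjoinRoot.of f) (f.coeff 0) = (AdjoinRoot.of f) 0 := by rw [h1, map_zero]
  exact hf0 ((AdjoinRoot.of f).injective this)

/-- The involution of `F[X]/(f)` for a self-dual irreducible `f`. -/
theorem exists_involution_adjoinRoot_sp (f : F[X]) [hfi : Fact (Irreducible f)]
    (hf0 : f.coeff 0 ≠ 0) (hsd : dualS f = f) :
    ∃ τ : AdjoinRoot f →+* AdjoinRoot f, (∀ x, τ (τ x) = x) ∧
      (∀ a : F, τ (algebraMap F (AdjoinRoot f) a) = algebraMap F (AdjoinRoot f) a) ∧
      τ (AdjoinRoot.root f) * AdjoinRoot.root f = 1 := by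
  have hθ : AdjoinRoot.root f ≠ 0 := root_ne_zero' f hf0
  have hrev : f.reverse = C (f.coeff 0) * f := by
    have h1 : C ((f.coeff 0)⁻¹) * f.reverse = f := hsd
    have h2 : C (f.coeff 0) * (C ((f.coeff 0)⁻¹) * f.reverse) = f.reverse := by
      rw [← mul_assoc, ← C_mul, mul_inv_cancel₀ hf0, C_1, one_mul]
    rw [h1] at h2
    exact h2.symm
  have h : Polynomial.eval₂ (AdjoinRoot.of f) (AdjoinRoot.root f)⁻¹ f = 0 := by
    let _ : Invertible (AdjoinRoot.root f)⁻¹ := invertibleOfNonzero (inv_ne_zero hθ)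
    rw [← Polynomial.eval₂_reverse_eq_zero_iff, invOf_eq_inv, inv_inv, hrev, Polynomial.eval₂_mul,
      AdjoinRoot.eval₂_root, mul_zero]
  refine ⟨AdjoinRoot.lift (AdjoinRoot.of f) (AdjoinRoot.root f)⁻¹ h, ?_, ?_, ?_⟩
  · intro x
    have : (AdjoinRoot.lift (AdjoinRoot.of f) (AdjoinRoot.root f)⁻¹ h).comp
        (AdjoinRoot.lift (AdjoinRoot.of f) (AdjoinRoot.root f)⁻¹ h) =
        RingHom.id _ := by
      apply AdjoinRoot.ringHom_ext
      · ext a
        simp only [RingHom.comp_apply, AdjoinRoot.lift_of, RingHom.id_apply]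
      · simp only [RingHom.comp_apply, AdjoinRoot.lift_root, RingHom.id_apply, map_inv₀, inv_inv]
    exact congrFun (congrArg DFunLike.coe this) x
  · intro a
    rw [AdjoinRoot.algebraMap_eq, AdjoinRoot.lift_of]
  · rw [AdjoinRoot.lift_root]
    exact inv_mul_cancel₀ hθ

end tau

section cases

variable {F : Type*} [Field F] [Fintype F] {n : ℕ}

local notation "MM" => Matrix (Fin n ⊕ Fin n) (Fin n ⊕ Fin n) F

theorem two_mul_half_add (Q : ℕ) (hQ : Odd Q) : 2 * ((Q + 1) / 2) = Q + 1 := by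
  obtain ⟨t, rfl⟩ := hQ
  omega

theorem two_mul_half_sub (Q : ℕ) (hQ : Odd Q) : 2 * ((Q - 1) / 2) = Q - 1 := by
  obtain ⟨t, rfl⟩ := hQ
  omega

/-- In a field, an element whose square is one is `±1`; phrased with `algebraMap`. -/
theorem exists_sign_of_sq {E : Type*} [Field E] [Algebra F E] (y : E) (hy : y ^ 2 = 1) :
    ∃ ε : F, ε * ε = 1 ∧ y = algebraMap F E ε := by
  have : y * y = 1 := by rw [← sq, hy]
  rcases mul_self_eq_one_iff.mp this with h | h
  · exact ⟨1, one_mul 1, by rw [h, map_one]⟩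
  · exact ⟨-1, by ring, by rw [h, map_neg, map_one]⟩

/-- **Case T1, irreducible**: `A ^ ((q^n + 1)/2)` is scalar. -/
theorem case_irreducible_selfdual_sp (hn : 2 ≤ n) (hodd : Odd (Fintype.card F)) (A : MM)
    (hA : sig A * A = 1) (hirr : Irreducible (minpoly F A))
    (hdeg : (minpoly F A).natDegree = 2 * n) :
    ∃ ν : F, A ^ ((Fintype.card F ^ n + 1) / 2) = Matrix.scalar (Fin n ⊕ Fin n) ν := by
  classical
  have : Nonempty (Fin n ⊕ Fin n) := ⟨Sum.inl ⟨0, by omega⟩⟩
  have hAu : IsUnit A := IsUnit.of_mul_eq_one _ (mul_eq_one_comm.mp hA)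
  obtain ⟨hmonic, -, -, hc0, hfacts⟩ := minpoly_facts' A hAu
  have hsd := dualS_minpoly (by omega) A hA
  have : Fact (Irreducible (minpoly F A)) := ⟨hirr⟩
  obtain ⟨hfin, hfr, hae, -⟩ := adjoinRoot_facts (minpoly F A) hmonic
  have : Finite (AdjoinRoot (minpoly F A)) := Module.finite_of_finite F
  obtain ⟨τ, hτ2, hτF, hτθ⟩ := exists_involution_adjoinRoot_sp (minpoly F A) hc0 hsd
  set θ := AdjoinRoot.root (minpoly F A) with hθdef
  have hθ0 : θ ≠ 0 := root_ne_zero' _ hc0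
  have hτne : ∃ x, τ x ≠ x := by
    refine ⟨θ, fun h => ?_⟩
    rw [h] at hτθ
    have h1 : Polynomial.aeval θ (X ^ 2 - C (1 : F)) = 0 := by
      rw [map_sub, map_pow, Polynomial.aeval_X, Polynomial.aeval_C, map_one, sq, hτθ, sub_self]
    have h2 := (hae _).mp h1
    have h3 := Polynomial.natDegree_le_of_dvd h2 (Polynomial.X_pow_sub_C_ne_zero two_pos 1)
    rw [Polynomial.natDegree_X_pow_sub_C, hdeg] at h3
    omega
  obtain ⟨d, hd, hτpow⟩ := involution_eq_frob τ hτF hτ2 hτne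
  have hdn : d = n := by
    rw [hfr, hdeg] at hd
    omega
  rw [hdn] at hτpow
  have h1 : θ ^ (Fintype.card F ^ n + 1) = 1 := by
    rw [pow_succ, ← hτpow]
    exact hτθ
  have hQ : Odd (Fintype.card F ^ n) := hodd.pow
  have h2 : (θ ^ ((Fintype.card F ^ n + 1) / 2)) ^ 2 = 1 := by
    rw [← pow_mul, mul_comm, two_mul_half_add _ hQ, h1]
  obtain ⟨ε, -, hε⟩ := exists_sign_of_sq (F := F) _ h2
  refine ⟨ε, (hfacts _ ε).mpr ((hae _).mp ?_)⟩
  rw [map_sub, map_pow, Polynomial.aeval_X, Polynomial.aeval_C, hε, sub_self]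

/-- **Case T2, irreducible pair**: `A ^ ((q^n - 1)/2)` is scalar. -/
theorem case_irreducible_pair_sp (hn : 1 ≤ n) (hodd : Odd (Fintype.card F)) (A : MM)
    (hA : sig A * A = 1) (f : F[X]) (hfm : f.Monic) (hfi : Irreducible f)
    (hμ : minpoly F A = f * dualS f) (hdeg : (minpoly F A).natDegree = 2 * n)
    (hne : dualS f ≠ f) :
    ∃ ν : F, A ^ ((Fintype.card F ^ n - 1) / 2) = Matrix.scalar (Fin n ⊕ Fin n) ν := by
  classical
  have : Nonempty (Fin n ⊕ Fin n) := ⟨Sum.inl ⟨0, by omega⟩⟩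
  have hAu : IsUnit A := IsUnit.of_mul_eq_one _ (mul_eq_one_comm.mp hA)
  obtain ⟨hmonic, -, -, hc0, hfacts⟩ := minpoly_facts' A hAu
  have hf0 : f.coeff 0 ≠ 0 := coeff_zero_ne_of_dvd' ⟨_, hμ⟩ hc0
  have hf'm : (dualS f).Monic := dualS_monic hf0
  have hf'i : Irreducible (dualS f) := dualS_irreducible hfm hfi hf0
  have hcop : IsCoprime f (dualS f) :=
    isCoprime_of_irreducible_ne' hfi hfm hf'i hf'm (fun h => hne h.symm)
  have hdf : f.natDegree = n := by
    rw [hμ, hfm.natDegree_mul hf'm, natDegree_dualS hf0] at hdeg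
    omega
  have : Fact (Irreducible f) := ⟨hfi⟩
  obtain ⟨hfin, hfr, hae, -⟩ := adjoinRoot_facts f hfm
  have : Finite (AdjoinRoot f) := Module.finite_of_finite F
  have := Fintype.ofFinite (AdjoinRoot f)
  set θ := AdjoinRoot.root f with hθdef
  have hθ0 : θ ≠ 0 := root_ne_zero' _ hf0
  have hcard : Fintype.card (AdjoinRoot f) = Fintype.card F ^ n := by
    rw [Module.card_eq_pow_finrank (K := F) (V := AdjoinRoot f), hfr, hdf]
  have h1 : θ ^ (Fintype.card F ^ n - 1) = 1 := by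
    rw [← hcard]
    exact FiniteField.pow_card_sub_one_eq_one θ hθ0
  have hQ : Odd (Fintype.card F ^ n) := hodd.pow
  have h2 : (θ ^ ((Fintype.card F ^ n - 1) / 2)) ^ 2 = 1 := by
    rw [← pow_mul, mul_comm, two_mul_half_sub _ hQ, h1]
  obtain ⟨ε, hε1, hε⟩ := exists_sign_of_sq (F := F) _ h2
  have hε0 : ε ≠ 0 := by
    rintro rfl
    rw [mul_zero] at hε1
    exact zero_ne_one hε1
  have hεinv : ε⁻¹ = ε := inv_eq_of_mul_eq_one_right hε1
  have hSpos : 0 < (Fintype.card F ^ n - 1) / 2 := by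
    have h3 : 3 ≤ Fintype.card F := by
      have h4 : 2 ≤ Fintype.card F := Fintype.one_lt_card
      obtain ⟨t, ht⟩ := hodd
      omega
    have h5 : 3 ^ 1 ≤ Fintype.card F ^ n :=
      (Nat.pow_le_pow_left h3 1).trans (Nat.pow_le_pow_right (by omega) hn)
    omega
  have hd1 : f ∣ X ^ ((Fintype.card F ^ n - 1) / 2) - C ε := by
    apply (hae _).mp
    rw [map_sub, map_pow, Polynomial.aeval_X, Polynomial.aeval_C, hε, sub_self]
  have hd2 : dualS f ∣ X ^ ((Fintype.card F ^ n - 1) / 2) - C ε := by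
    have h6 := dualS_dvd hd1
    rwa [dualS_X_pow_sub_C hSpos hε0, hεinv] at h6
  refine ⟨ε, (hfacts _ ε).mpr ?_⟩
  rw [hμ]
  exact hcop.mul_dvd hd1 hd2

end cases

end Cfsg.Agent.Lib.Helper15.Sps
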