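import Mathlib
import Cfsg.Agent.Lib.Helper15.SO8b
import Cfsg.Agent.Lib.Helper15.Sps5

/-!
# S3589, part c: covering self-dual polynomials by `X ^ N - 1`
-/

set_option autoImplicit false
set_option linter.unusedSectionVars false

namespace Cfsg.Agent.Lib.Helper15.SO8

open Polynomial Cfsg.Agent.Lib.Helper15.Sps

variable {F : Type*} [Field F] [Fintype F]

/-- `ν` divides `X ^ N - 1` for the number `N` coded by `p` -/
def Cov (ν : F[X]) (p : ℕ × Finset ℕ) : Prop := ν ∣ X ^ num (Fintype.card F) p - 1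

theorem X_pow_sub_one_dvd {a b : ℕ} (h : a ∣ b) : (X ^ a - 1 : F[X]) ∣ X ^ b - 1 := by
  obtain ⟨c, rfl⟩ := h
  have := sub_dvd_pow_sub_pow ((X : F[X]) ^ a) 1 c
  rwa [one_pow, ← pow_mul] at this

theorem Cov.mono {ν : F[X]} {p p' : ℕ × Finset ℕ} (h : dom p p') (hc : Cov ν p) : Cov ν p' :=
  dvd_trans hc (X_pow_sub_one_dvd (num_dvd_of_dom _ h))

theorem Cov.mul {g₁ g₂ : F[X]} {p p' : ℕ × Finset ℕ} (hcop : IsCoprime g₁ g₂) (h1 : Cov g₁ p)
    (h2 : Cov g₂ p') : Cov (g₁ * g₂) (join p p') :=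
  hcop.mul_dvd (h1.mono (dom_join_left p p')) (h2.mono (dom_join_right p p'))

theorem cov_one (p : ℕ × Finset ℕ) : Cov (1 : F[X]) p := one_dvd _

theorem Cov.pow [CharP F 2] {P : F[X]} {k : ℕ} {S : Finset ℕ} (h : Cov P (k, S)) (e j : ℕ)
    (he : e ≤ 2 ^ j) : Cov (P ^ e) (k + j, S) := by
  unfold Cov at h ⊢
  rw [num_shift]
  have h1 : P ^ e ∣ P ^ (2 ^ j) := pow_dvd_pow P he
  have h2 : P ^ (2 ^ j) ∣ (X ^ num (Fintype.card F) (k, S) - 1 : F[X]) ^ (2 ^ j) := pow_dvd_pow_of_dvd h _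
  have h3 : (X ^ num (Fintype.card F) (k, S) - 1 : F[X]) ^ (2 ^ j) =
      X ^ (2 ^ j * num (Fintype.card F) (k, S)) - 1 := by
    rw [sub_pow_char_pow, one_pow, ← pow_mul, mul_comm]
  rw [h3] at h2
  exact h1.trans h2

theorem cov_of_dvd {ν : F[X]} {p : ℕ × Finset ℕ} {N : ℕ} (hN : num (Fintype.card F) p = N)
    (h : ν ∣ X ^ N - 1) : Cov ν p := by
  unfold Cov
  rw [hN]
  exact h

/-- a self-dual irreducible polynomial other than `X - 1` has even degree `2d` and divides
`X ^ (q ^ d + 1) - 1` -/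
theorem dvd_of_irreducible_selfdual [CharP F 2] (f : F[X]) (hfi : Irreducible f)
    (hf0 : f.coeff 0 ≠ 0) (hsd : dualS f = f) (h1 : f.eval 1 ≠ 0) :
    ∃ d : ℕ, 1 ≤ d ∧ f.natDegree = 2 * d ∧ f ∣ X ^ (Fintype.card F ^ d + 1) - 1 := by
  classical
  have : Fact (Irreducible f) := ⟨hfi⟩
  obtain ⟨τ, hτ2, hτF, hτθ⟩ := exists_involution_adjoinRoot_sp f hf0 hsd
  have hfne : f ≠ 0 := hfi.ne_zero
  let pb := AdjoinRoot.powerBasis hfne
  have : Module.Finite F (AdjoinRoot f) := pb.finite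
  have : Finite (AdjoinRoot f) := Module.finite_of_finite F
  have hfr : Module.finrank F (AdjoinRoot f) = f.natDegree := by
    rw [pb.finrank, AdjoinRoot.powerBasis_dim]
  have hθ : AdjoinRoot.root f ≠ 0 := root_ne_zero' f hf0
  have hchar : CharP (AdjoinRoot f) 2 :=
    charP_of_injective_algebraMap (algebraMap F (AdjoinRoot f)).injective 2
  have hne : ∃ x, τ x ≠ x := by
    refine ⟨AdjoinRoot.root f, fun h => ?_⟩
    rw [h] at hτθ
    have h2 : (AdjoinRoot.root f - 1) ^ 2 = 0 := by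
      rw [CharTwo.sub_eq_add, CharTwo.add_sq, pow_two, hτθ, one_pow, CharTwo.add_self_eq_zero]
    have h3 : AdjoinRoot.root f = 1 := by
      have := pow_eq_zero_iff (two_ne_zero) |>.mp h2
      exact sub_eq_zero.mp this
    have h4 : Polynomial.eval₂ (AdjoinRoot.of f) (AdjoinRoot.root f) f = 0 := AdjoinRoot.eval₂_root f
    rw [h3] at h4
    have h5 : Polynomial.eval₂ (AdjoinRoot.of f) 1 f = AdjoinRoot.of f (f.eval 1) := by
      rw [Polynomial.eval₂_at_one]
    rw [h5] at h4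
    have h6 : f.eval 1 = 0 := by
      have := (AdjoinRoot.of f).injective (h4.trans (map_zero _).symm)
      exact this
    exact h1 h6
  obtain ⟨d, hd, hτpow⟩ := involution_eq_frob τ hτF hτ2 hne
  have hdeg : f.natDegree = 2 * d := by rw [← hfr, hd]
  have hpos : 0 < f.natDegree := hfi.natDegree_pos
  refine ⟨d, by omega, hdeg, ?_⟩
  have h2 : AdjoinRoot.root f ^ (Fintype.card F ^ d + 1) = 1 := by
    rw [pow_succ, ← hτpow]
    exact hτθ
  rw [← AdjoinRoot.mk_eq_zero, map_sub, map_pow, AdjoinRoot.mk_X, map_one, h2, sub_self]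

/-- an irreducible polynomial of degree `d` with non-zero constant term divides
`X ^ (q ^ d - 1) - 1` -/
theorem dvd_of_irreducible (f : F[X]) (hfi : Irreducible f) (hf0 : f.coeff 0 ≠ 0) :
    f ∣ X ^ (Fintype.card F ^ f.natDegree - 1) - 1 := by
  have h1 : f ∣ X ^ (Nat.card F) ^ f.natDegree - X :=
    (hfi.natDegree_dvd_iff_dvd_X_pow_card_pow_sub_X (n := f.natDegree)).mp dvd_rfl
  rw [Nat.card_eq_fintype_card] at h1
  have hq : 1 ≤ Fintype.card F ^ f.natDegree := Nat.one_le_pow _ _ Fintype.card_pos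
  have h2 : (X ^ Fintype.card F ^ f.natDegree - X : F[X]) =
      X * (X ^ (Fintype.card F ^ f.natDegree - 1) - 1) := by
    rw [mul_sub, mul_one, ← pow_succ', Nat.sub_add_cancel hq]
  rw [h2] at h1
  have hcop : IsCoprime f X := by
    rw [hfi.coprime_iff_not_dvd]
    intro h
    obtain ⟨c, hc⟩ := h
    have : (X : F[X]).natDegree = f.natDegree + c.natDegree := by
      rw [hc, Polynomial.natDegree_mul hfi.ne_zero]
      rintro rfl
      rw [mul_zero] at hc
      exact X_ne_zero hc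
    have hfd : 0 < f.natDegree := hfi.natDegree_pos
    rw [Polynomial.natDegree_X] at this
    have hc0 : c.natDegree = 0 := by omega
    have hf1 : f.natDegree = 1 := by omega
    -- then f = u * X, so f.coeff 0 = 0
    obtain ⟨u, hu⟩ := Polynomial.natDegree_eq_zero.mp hc0
    have hu0 : u ≠ 0 := by
      rintro rfl
      rw [map_zero] at hu
      rw [← hu, mul_zero] at hc
      exact X_ne_zero hc
    have : f = C u⁻¹ * X := by
      rw [hc, ← hu, mul_comm f, ← mul_assoc, ← C_mul, inv_mul_cancel₀ hu0, C_1, one_mul]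
    apply hf0
    rw [this]
    simp
  exact hcop.dvd_of_dvd_mul_left h1

theorem dvd_of_irreducible_pair (f : F[X]) (hfm : f.Monic) (hfi : Irreducible f) (hf0 : f.coeff 0 ≠ 0)
    (hne : dualS f ≠ f) :
    f * dualS f ∣ X ^ (Fintype.card F ^ f.natDegree - 1) - 1 := by
  have hf'm : (dualS f).Monic := dualS_monic hf0
  have hf'i : Irreducible (dualS f) := dualS_irreducible hfm hfi hf0
  have hf'0 : (dualS f).coeff 0 ≠ 0 := coeff_zero_dualS_ne hfm hf0
  have hcop : IsCoprime f (dualS f) :=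
    isCoprime_of_irreducible_ne' hfi hfm hf'i hf'm (fun h => hne h.symm)
  have h1 := dvd_of_irreducible f hfi hf0
  have h2 := dvd_of_irreducible (dualS f) hf'i hf'0
  rw [natDegree_dualS hf0] at h2
  exact hcop.mul_dvd h1 h2

end Cfsg.Agent.Lib.Helper15.SO8
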