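import Mathlib
import Cfsg.Agent.Lib.Helper15.SO8c

/-!
# S3589, part d: every self-dual polynomial of degree at most 8 without the factor `X - 1`
is covered by one of the lists `Lam r`
-/

set_option autoImplicit false
set_option linter.unusedSectionVars false

namespace Cfsg.Agent.Lib.Helper15.SO8

open Polynomial Cfsg.Agent.Lib.Helper15.Sps

variable {F : Type*} [Field F] [Fintype F]

theorem eval_one_ne_of_dvd {g h : F[X]} (hgh : g ∣ h) (hh : h.eval 1 ≠ 0) : g.eval 1 ≠ 0 := by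
  obtain ⟨c, rfl⟩ := hgh
  rw [Polynomial.eval_mul] at hh
  exact left_ne_zero_of_mul hh

theorem cover_main [CharP F 2] : ∀ m : ℕ, m ≤ 8 → ∀ ν : F[X], ν.Monic → ν.coeff 0 ≠ 0 → dualS ν = ν →
    ν.eval 1 ≠ 0 → ν.natDegree = m → ∃ r : ℕ, r ≤ 4 ∧ m = 2 * r ∧ ∃ p ∈ Lam r, Cov ν p := by
  intro m
  induction m using Nat.strong_induction_on with
  | _ m ih =>
    intro hm8 ν hνm hν0 hsd hν1 hdeg
    have hq1 : 1 ≤ Fintype.card F := Fintype.card_pos
    rcases Nat.eq_zero_or_pos m with h0 | hpos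
    · -- ν = 1
      subst h0
      have : ν = 1 := Polynomial.eq_one_of_monic_natDegree_zero hνm hdeg
      subst this
      exact ⟨0, by omega, rfl, (0, ∅), by simp [Lam], cov_one _⟩
    · rw [← hdeg] at hpos
      rcases selfdual_trichotomy_sp ν hνm hpos hν0 hsd with
        ⟨g₁, g₂, hg1m, hg2m, hcop, hd1, hd2, hfac, hsd1, hsd2⟩ | ⟨f, e, hfm, hfi, he, hsf, hfac⟩ |
        ⟨f, e, hfm, hfi, he, hsf, hfac⟩
      · -- coprime splitting
        have hdsum : g₁.natDegree + g₂.natDegree = m := by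
          rw [← hdeg, hfac, Polynomial.Monic.natDegree_mul hg1m hg2m]
        have hg10 : g₁.coeff 0 ≠ 0 := coeff_zero_ne_of_dvd' ⟨g₂, hfac⟩ hν0
        have hg20 : g₂.coeff 0 ≠ 0 := coeff_zero_ne_of_dvd' ⟨g₁, by rw [hfac, mul_comm]⟩ hν0
        have hg11 : g₁.eval 1 ≠ 0 := eval_one_ne_of_dvd ⟨g₂, hfac⟩ hν1
        have hg21 : g₂.eval 1 ≠ 0 := eval_one_ne_of_dvd ⟨g₁, by rw [hfac, mul_comm]⟩ hν1
        obtain ⟨r₁, hr1, hm1, p₁, hp1, hc1⟩ :=
          ih g₁.natDegree (by omega) (by omega) g₁ hg1m hg10 hsd1 hg11 rfl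
        obtain ⟨r₂, hr2, hm2, p₂, hp2, hc2⟩ :=
          ih g₂.natDegree (by omega) (by omega) g₂ hg2m hg20 hsd2 hg21 rfl
        have hr : r₁ + r₂ ≤ 4 := by omega
        obtain ⟨p'', hp'', hdom⟩ := lam_join r₁ r₂ (by omega) (by omega) hr p₁ hp1 p₂ hp2
        refine ⟨r₁ + r₂, hr, by omega, p'', hp'', ?_⟩
        rw [hfac]
        exact (Cov.mul hcop hc1 hc2).mono hdom
      · -- power of a self-dual irreducible
        have hf0 : f.coeff 0 ≠ 0 := coeff_zero_ne_of_dvd' ⟨f ^ (e - 1), by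
          rw [hfac, ← pow_succ', Nat.sub_add_cancel he]⟩ hν0
        have hf1 : f.eval 1 ≠ 0 := eval_one_ne_of_dvd ⟨f ^ (e - 1), by
          rw [hfac, ← pow_succ', Nat.sub_add_cancel he]⟩ hν1
        obtain ⟨d, hd1, hfd, hdvd⟩ := dvd_of_irreducible_selfdual f hfi hf0 hsf hf1
        have hmde : m = 2 * (d * e) := by
          rw [← hdeg, hfac, Polynomial.natDegree_pow, hfd]
          ring
        have hde : d * e ≤ 4 := by omega
        have hd4 : d ≤ 4 := by nlinarith
        have hcf : Cov f (0, Splus d) := cov_of_dvd (num_Splus _ d hd1 hd4) hdvd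
        have hcfe : Cov (f ^ e) (0 + Nat.clog 2 e, Splus d) :=
          hcf.pow e (Nat.clog 2 e) (Nat.le_pow_clog (by norm_num) e)
        rw [zero_add] at hcfe
        obtain ⟨p, hp, hdom⟩ := lam_plus d e hd1 he hde
        refine ⟨d * e, hde, hmde, p, hp, ?_⟩
        rw [hfac]
        exact hcfe.mono hdom
      · -- power of a dual pair
        have hdvd0 : f ∣ ν := ⟨dualS f * (f * dualS f) ^ (e - 1), by
          rw [hfac, ← mul_assoc, ← pow_succ', Nat.sub_add_cancel he]⟩
        have hf0 : f.coeff 0 ≠ 0 := coeff_zero_ne_of_dvd' hdvd0 hν0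
        have hdvd := dvd_of_irreducible_pair f hfm hfi hf0 hsf
        set d := f.natDegree with hd
        have hd1 : 1 ≤ d := hfi.natDegree_pos
        have hmde : m = 2 * (d * e) := by
          rw [← hdeg, hfac, Polynomial.natDegree_pow,
            Polynomial.Monic.natDegree_mul hfm (dualS_monic hf0), natDegree_dualS hf0]
          ring
        have hde : d * e ≤ 4 := by omega
        have hd4 : d ≤ 4 := by nlinarith
        have hcf : Cov (f * dualS f) (0, Sminus d) := cov_of_dvd (num_Sminus _ d hq1 hd1 hd4) hdvd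
        have hcfe : Cov ((f * dualS f) ^ e) (0 + Nat.clog 2 e, Sminus d) :=
          hcf.pow e (Nat.clog 2 e) (Nat.le_pow_clog (by norm_num) e)
        rw [zero_add] at hcfe
        obtain ⟨p, hp, hdom⟩ := lam_minus d e hd1 he hde
        refine ⟨d * e, hde, hmde, p, hp, ?_⟩
        rw [hfac]
        exact hcfe.mono hdom

end Cfsg.Agent.Lib.Helper15.SO8
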