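import Mathlib
import Cfsg.Agent.Lib.Helper15.SO8d

/-!
# S3589, part e: every element of `Sp_8(q)`, `q` even, is killed by one of the twelve numbers
-/

set_option autoImplicit false
set_option linter.unusedSectionVars false

namespace Cfsg.Agent.Lib.Helper15.SO8

open Polynomial Cfsg.Agent.Lib.Helper15.Sps Cfsg.Agent.Lib.Helper15.Spr

variable {F : Type*} [Field F] [Fintype F]

theorem sp8_pow_eq_one [CharP F 2] (A : Matrix.symplecticGroup (Fin 4) F) :
    ∃ p ∈ LL, A ^ num (Fintype.card F) p = 1 := by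
  classical
  have : Nonempty (Fin 4 ⊕ Fin 4) := ⟨Sum.inl 0⟩
  set M := matS A with hM
  have hAu : IsUnit M := IsUnit.of_mul_eq_one _ (matS_symp A)
  obtain ⟨hmonic, -, hdeg8, hc0, -⟩ := minpoly_facts' M hAu
  have hsd : dualS (minpoly F M) = minpoly F M := dualS_minpoly (by norm_num) M (matS_symp' A)
  set μ := minpoly F M with hμ
  have hcard : Fintype.card (Fin 4 ⊕ Fin 4) = 8 := by simp
  rw [hcard] at hdeg8
  -- split off the power of `X - 1`
  have hirr : Irreducible (X - C (1 : F)) := Polynomial.irreducible_X_sub_C 1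
  obtain ⟨e, ν, hnd, hfac⟩ := WfDvdMonoid.max_power_factor hmonic.ne_zero hirr
  have hXm : (X - C (1 : F)).Monic := Polynomial.monic_X_sub_C 1
  have hνm : ν.Monic := by
    apply Polynomial.Monic.of_mul_monic_left (hXm.pow e)
    rw [← hfac]
    exact hmonic
  have hν0 : ν.coeff 0 ≠ 0 := coeff_zero_ne_of_dvd' ⟨(X - C 1) ^ e, by rw [hfac, mul_comm]⟩ hc0
  have hν1 : ν.eval 1 ≠ 0 := by
    intro h
    apply hnd
    rw [Polynomial.dvd_iff_isRoot]
    exact h
  have hXsd : dualS (X - C (1 : F)) = X - C 1 := by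
    have := dualS_X_pow_sub_C (F := F) (j := 1) one_pos (one_ne_zero)
    rwa [pow_one, inv_one] at this
  have hνsd : dualS ν = ν := by
    have h1 : dualS μ = (X - C 1) ^ e * dualS ν := by
      rw [hfac, dualS_mul, dualS_pow, hXsd]
    rw [hsd, hfac] at h1
    exact (mul_left_cancel₀ (pow_ne_zero _ hXm.ne_zero) h1).symm
  have hdegsum : e + ν.natDegree = μ.natDegree := by
    rw [hfac, Polynomial.Monic.natDegree_mul (hXm.pow e) hνm, Polynomial.natDegree_pow,
      Polynomial.natDegree_X_sub_C, mul_one]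
  obtain ⟨r, hr4, hmr, p, hp, hcp⟩ := cover_main ν.natDegree (by omega) ν hνm hν0 hνsd hν1 rfl
  -- the unipotent factor
  have hcX : Cov (X - C (1 : F)) (0, ∅) := by
    unfold Cov num
    simp
  have hcXe : Cov ((X - C (1 : F)) ^ e) (0 + Nat.clog 2 e, ∅) :=
    hcX.pow e (Nat.clog 2 e) (Nat.le_pow_clog (by norm_num) e)
  rw [zero_add] at hcXe
  have hcop : IsCoprime ((X - C (1 : F)) ^ e) ν := (hirr.coprime_iff_not_dvd.mpr hnd).pow_left
  have hcμ : Cov μ (join (Nat.clog 2 e, ∅) p) := by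
    rw [hfac]
    exact Cov.mul hcop hcXe hcp
  obtain ⟨p', hp', hdom⟩ := lam_final e r (by omega) p hp
  have hfin : Cov μ p' := hcμ.mono hdom
  refine ⟨p', hp', ?_⟩
  apply matS_injective
  rw [matS_pow, matS_one, ← hM]
  have h1 : Polynomial.aeval M (X ^ num (Fintype.card F) p' - 1 : F[X]) = 0 :=
    aeval_eq_zero_of_dvd' M hfin
  rw [map_sub, map_pow, Polynomial.aeval_X, map_one, sub_eq_zero] at h1
  exact h1

end Cfsg.Agent.Lib.Helper15.SO8
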