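import Mathlib
import Cfsg.Agent.Lib.Helper15.SO8a
import Cfsg.Agent.Lib.Helper15.SO8b
import Cfsg.Agent.Lib.Helper15.SO8f
import Cfsg.Agent.Lib.Helper15.SO8g
import Cfsg.Agent.Lib.Helper15.SO8h
import Cfsg.Agent.Lib.Helper23.S3589D

/-!
# S3589, part i: every one of the twelve numbers divides the order of an isometry of the minus-type space
-/

set_option autoImplicit false
set_option linter.unusedSectionVars false

namespace Cfsg.Agent.Lib.Helper15.SO8

open Module QuadraticMap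

universe u

section arith

theorem coprime_of_dvd_add_two {X Y : ℕ} (hodd : ¬ 2 ∣ X) (h : Y ∣ X + 2) : Nat.Coprime X Y := by
  have hg : Nat.gcd X Y ∣ 2 := by
    have h1 : Nat.gcd X Y ∣ X := Nat.gcd_dvd_left _ _
    have h2 : Nat.gcd X Y ∣ X + 2 := (Nat.gcd_dvd_right _ _).trans h
    exact (Nat.dvd_add_right h1).mp h2
  rcases (Nat.dvd_prime Nat.prime_two).mp hg with h1 | h1
  · exact h1
  · exfalso
    apply hodd
    rw [← h1]
    exact Nat.gcd_dvd_left _ _

theorem coprime_of_dvd_sub_two {X Y : ℕ} (hodd : ¬ 2 ∣ X) (h2 : 2 ≤ X) (h : Y ∣ X - 2) : Nat.Coprime X Y := by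
  have hg : Nat.gcd X Y ∣ 2 := by
    have h1 : Nat.gcd X Y ∣ X := Nat.gcd_dvd_left _ _
    have h3 : Nat.gcd X Y ∣ X - 2 := (Nat.gcd_dvd_right _ _).trans h
    have := Nat.dvd_sub h1 h3
    have e : X - (X - 2) = 2 := by omega
    rwa [e] at this
  rcases (Nat.dvd_prime Nat.prime_two).mp hg with h1 | h1
  · exact h1
  · exfalso
    apply hodd
    rw [← h1]
    exact Nat.gcd_dvd_left _ _

theorem coprime_two_pow_of_odd {X : ℕ} (hodd : ¬ 2 ∣ X) (k : ℕ) : Nat.Coprime X (2 ^ k) := by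
  apply Nat.Coprime.pow_right
  rw [Nat.coprime_comm, Nat.Prime.coprime_iff_not_dvd Nat.prime_two]
  exact hodd

theorem mul_dvd_lcm_of_coprime {A B X Y : ℕ} (hc : Nat.Coprime A B) (hA : A ∣ X) (hB : B ∣ Y) :
    A * B ∣ Nat.lcm X Y :=
  Nat.Coprime.mul_dvd_of_dvd_of_dvd hc (hA.trans (Nat.dvd_lcm_left _ _)) (hB.trans (Nat.dvd_lcm_right _ _))

end arith

variable {F : Type u} [Field F] [Fintype F] [CharP F 2]

theorem two_dvd_card : 2 ∣ Fintype.card F := by
  rw [← CharP.cast_eq_zero_iff F 2]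
  exact Nat.cast_card_eq_zero F

theorem finish (a b : F)
    (hab : ∀ z₁ z₂ : F, z₁ ^ 2 + a * z₁ * z₂ + b * z₂ ^ 2 = 0 → z₁ = 0 ∧ z₂ = 0)
    {V : Type*} [AddCommGroup V] [Module F V] [FiniteDimensional F V] (hV : finrank F V = 8) {N n : ℕ}
    (h : RealIn F V false N) (hd : n ∣ N) :
    ∃ h : ↥(Cfsg.isometryGroup F (Cfsg.quadFormMinus 3 F a b)), n ∣ orderOf h := by
  obtain ⟨g, hg⟩ := Cfsg.Agent.Lib.Helper23.S3589.isometry_of_realIn a b hab hV h
  exact ⟨g, hg ▸ hd⟩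

theorem finrank_u6 : finrank F ((Fin 2 ⊕ Fin 2) ⊕ Fin 2 → F) = 6 := by
  rw [Module.finrank_fintype_fun_eq_card]
  rfl

theorem finrank_P (d : ℕ) : finrank F ((Fin d → F) × (Fin d → F)) = 2 * d := by
  rw [Module.finrank_prod, Module.finrank_fin_fun]
  ring

/-- Lemma E -/
theorem exists_isometry_of_mem_LL (a b : F)
    (hab : ∀ z₁ z₂ : F, z₁ ^ 2 + a * z₁ * z₂ + b * z₂ ^ 2 = 0 → z₁ = 0 ∧ z₂ = 0)
    (p : ℕ × Finset ℕ) (hp : p ∈ LL) :
    ∃ h : ↥(Cfsg.isometryGroup F (Cfsg.quadFormMinus 3 F a b)), num (Fintype.card F) p ∣ orderOf h := by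
  classical
  set q := Fintype.card F with hq
  have hq2 : 2 ≤ q := Fintype.one_lt_card
  have hev : 2 ∣ q := two_dvd_card
  have hq1 : 1 ≤ q := by omega
  have hqq : q ≤ q ^ 2 := by nlinarith
  have hp2 : 1 ≤ q ^ 2 := Nat.one_le_pow _ _ hq1
  have hp3 : 1 ≤ q ^ 3 := Nat.one_le_pow _ _ hq1
  have hev2 : 2 ∣ q ^ 2 := dvd_pow hev (by norm_num)
  have hev3 : 2 ∣ q ^ 3 := dvd_pow hev (by norm_num)
  have hev4 : 2 ∣ q ^ 4 := dvd_pow hev (by norm_num)
  -- oddness
  have o1 : ¬ 2 ∣ q - 1 := by omega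
  have o2 : ¬ 2 ∣ q + 1 := by omega
  have o21 : ¬ 2 ∣ q ^ 2 + 1 := by omega
  have o2m : ¬ 2 ∣ q ^ 2 - 1 := by omega
  have o31 : ¬ 2 ∣ q ^ 3 + 1 := by omega
  have o3m : ¬ 2 ∣ q ^ 3 - 1 := by omega
  -- identities
  have i1 : (q - 1) * (q + 1) = q ^ 2 - 1 := by
    zify [hq1, hp2]; ring
  have i2 : (q + 1) * (q ^ 2 - q + 1) = q ^ 3 + 1 := by
    zify [hqq]; ring
  have i3 : (q - 1) * (q ^ 2 + q + 1) = q ^ 3 - 1 := by
    zify [hq1, hp3]; ring
  -- the atoms
  have Ap1 : RealIn F ((Fin 1 → F) × (Fin 1 → F)) true (q - 1) := by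
    have := atom_plus (F := F) 2 1 le_rfl
    rwa [pow_one] at this
  have Ap2 : RealIn F ((Fin 2 → F) × (Fin 2 → F)) true (q ^ 2 - 1) := atom_plus (F := F) 2 2 (by norm_num)
  have Ap3 : RealIn F ((Fin 3 → F) × (Fin 3 → F)) true (q ^ 3 - 1) := atom_plus (F := F) 2 3 (by norm_num)
  obtain ⟨K1, iK1a, iK1b, iK1c, hK1, Am1⟩ := atom_minus (F := F) 1 le_rfl
  obtain ⟨K2, iK2a, iK2b, iK2c, hK2, Am2⟩ := atom_minus (F := F) 2 (by norm_num)
  obtain ⟨K3, iK3a, iK3b, iK3c, hK3, Am3⟩ := atom_minus (F := F) 3 (by norm_num)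
  obtain ⟨K4, iK4a, iK4b, iK4c, hK4, Am4⟩ := atom_minus (F := F) 4 (by norm_num)
  rw [pow_one] at Am1
  have fK1 : Finite K1 := Module.finite_of_finite F
  have fK2 : Finite K2 := Module.finite_of_finite F
  have fK3 : Finite K3 := Module.finite_of_finite F
  have fK4 : Finite K4 := Module.finite_of_finite F
  have Arp : RealIn F ((Fin 1 → F) × (Fin 1 → F)) true 2 := atom_refl_plus
  have Arm : RealIn F (Fin 2 → F) false 2 := atom_refl_minus a b hab
  have Au4 : RealIn F ((Fin 2 → F) × (Fin 2 → F)) true 4 := atom_u4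
  have Au6m : RealIn F ((Fin 2 ⊕ Fin 2) ⊕ Fin 2 → F) false 8 := atom_u6_minus a b hab
  have Au6p : RealIn F ((Fin 2 ⊕ Fin 2) ⊕ Fin 2 → F) true 8 := atom_u6_plus
  simp only [LL, List.mem_cons, List.not_mem_nil, or_false] at hp
  rcases hp with rfl | rfl | rfl | rfl | rfl | rfl | rfl | rfl | rfl | rfl | rfl | rfl
  · -- q^4 + 1
    refine finish a b hab (V := K4) (by rw [hK4]) Am4 ?_
    have e : num q (0, {8}) = q ^ 4 + 1 := by
      simp [num, Phi]
    rw [e]
  · -- (q-1)(q+1)(q^2+1)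
    have R : RealIn F (K2 × ((Fin 2 → F) × (Fin 2 → F))) false _ := Am2.sum Ap2
    refine finish a b hab (by rw [Module.finrank_prod, hK2, finrank_P]) R ?_
    have e : num q (0, {1, 2, 4}) = (q ^ 2 + 1) * (q ^ 2 - 1) := by
      simp [num, Phi]
      rw [← i1]; ring
    rw [e]
    exact mul_dvd_lcm_of_coprime (coprime_of_dvd_sub_two o21 (by omega) (by
      have : q ^ 2 + 1 - 2 = q ^ 2 - 1 := by omega
      rw [this])) dvd_rfl dvd_rfl
  · -- (q-1)(q^3+1)
    have R : RealIn F (K3 × ((Fin 1 → F) × (Fin 1 → F))) false _ := Am3.sum Ap1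
    refine finish a b hab (by rw [Module.finrank_prod, hK3, finrank_P]) R ?_
    have e : num q (0, {1, 2, 6}) = (q ^ 3 + 1) * (q - 1) := by
      simp [num, Phi]
      rw [← i2]; ring
    rw [e]
    refine mul_dvd_lcm_of_coprime (coprime_of_dvd_sub_two o31 (by omega) ?_) dvd_rfl dvd_rfl
    have : q ^ 3 + 1 - 2 = q ^ 3 - 1 := by omega
    rw [this, ← i3]
    exact dvd_mul_right _ _
  · -- (q+1)(q^3-1)
    have R : RealIn F (((Fin 3 → F) × (Fin 3 → F)) × K1) false _ := Ap3.sum Am1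
    refine finish a b hab (by rw [Module.finrank_prod, hK1, finrank_P]) R ?_
    have e : num q (0, {1, 2, 3}) = (q ^ 3 - 1) * (q + 1) := by
      simp [num, Phi]
      rw [← i3]; ring
    rw [e]
    refine mul_dvd_lcm_of_coprime (coprime_of_dvd_add_two o3m ?_) dvd_rfl dvd_rfl
    have : q ^ 3 - 1 + 2 = q ^ 3 + 1 := by omega
    rw [this, ← i2]
    exact dvd_mul_right _ _
  · -- 2(q+1)(q^2+1)
    have R : RealIn F ((K2 × K1) × (Fin 2 → F)) false _ := (Am2.sum Am1).sum Arm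
    refine finish a b hab (by rw [Module.finrank_prod, Module.finrank_prod, hK2, hK1, Module.finrank_fin_fun]) R ?_
    have e : num q (1, {2, 4}) = ((q ^ 2 + 1) * (q + 1)) * 2 := by
      simp [num, Phi]
      ring
    rw [e]
    have c1 : Nat.Coprime (q ^ 2 + 1) (q + 1) := by
      refine coprime_of_dvd_sub_two o21 (by omega) ?_
      have : q ^ 2 + 1 - 2 = q ^ 2 - 1 := by omega
      rw [this, ← i1]
      exact dvd_mul_left _ _
    refine mul_dvd_lcm_of_coprime ?_ (mul_dvd_lcm_of_coprime c1 dvd_rfl dvd_rfl) dvd_rfl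
    have := coprime_two_pow_of_odd (X := (q ^ 2 + 1) * (q + 1)) (by
      intro h
      rcases (Nat.Prime.dvd_mul Nat.prime_two).mp h with h | h
      · exact o21 h
      · exact o2 h) 1
    simpa using this
  · -- 2(q-1)(q^2+1)
    have R : RealIn F ((K2 × ((Fin 1 → F) × (Fin 1 → F))) × ((Fin 1 → F) × (Fin 1 → F))) false _ :=
      (Am2.sum Ap1).sum Arp
    refine finish a b hab (by rw [Module.finrank_prod, Module.finrank_prod, hK2, finrank_P]) R ?_
    have e : num q (1, {1, 4}) = ((q ^ 2 + 1) * (q - 1)) * 2 := by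
      simp [num, Phi]
      ring
    rw [e]
    have c1 : Nat.Coprime (q ^ 2 + 1) (q - 1) := by
      refine coprime_of_dvd_sub_two o21 (by omega) ?_
      have : q ^ 2 + 1 - 2 = q ^ 2 - 1 := by omega
      rw [this, ← i1]
      exact dvd_mul_right _ _
    refine mul_dvd_lcm_of_coprime ?_ (mul_dvd_lcm_of_coprime c1 dvd_rfl dvd_rfl) dvd_rfl
    have := coprime_two_pow_of_odd (X := (q ^ 2 + 1) * (q - 1)) (by
      intro h
      rcases (Nat.Prime.dvd_mul Nat.prime_two).mp h with h | h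
      · exact o21 h
      · exact o1 h) 1
    simpa using this
  · -- 4(q-1)(q+1)
    have R : RealIn F ((K1 × ((Fin 1 → F) × (Fin 1 → F))) × ((Fin 2 → F) × (Fin 2 → F))) false _ :=
      (Am1.sum Ap1).sum Au4
    refine finish a b hab (by rw [Module.finrank_prod, Module.finrank_prod, hK1, finrank_P, finrank_P]) R ?_
    have e : num q (2, {1, 2}) = ((q + 1) * (q - 1)) * 4 := by
      simp [num, Phi]
      ring
    rw [e]
    have c1 : Nat.Coprime (q + 1) (q - 1) := by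
      refine coprime_of_dvd_sub_two o2 (by omega) ?_
      have : q + 1 - 2 = q - 1 := by omega
      rw [this]
    refine mul_dvd_lcm_of_coprime ?_ (mul_dvd_lcm_of_coprime c1 dvd_rfl dvd_rfl) dvd_rfl
    have := coprime_two_pow_of_odd (X := (q + 1) * (q - 1)) (by
      intro h
      rcases (Nat.Prime.dvd_mul Nat.prime_two).mp h with h | h
      · exact o2 h
      · exact o1 h) 2
    simpa using this
  · -- 2(q^3+1)
    have R : RealIn F (K3 × ((Fin 1 → F) × (Fin 1 → F))) false _ := Am3.sum Arp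
    refine finish a b hab (by rw [Module.finrank_prod, hK3, finrank_P]) R ?_
    have e : num q (1, {2, 6}) = (q ^ 3 + 1) * 2 := by
      simp [num, Phi]
      rw [← i2]; ring
    rw [e]
    refine mul_dvd_lcm_of_coprime ?_ dvd_rfl dvd_rfl
    simpa using coprime_two_pow_of_odd o31 1
  · -- 2(q^3-1)
    have R : RealIn F (((Fin 3 → F) × (Fin 3 → F)) × (Fin 2 → F)) false _ := Ap3.sum Arm
    refine finish a b hab (by rw [Module.finrank_prod, finrank_P, Module.finrank_fin_fun]) R ?_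
    have e : num q (1, {1, 3}) = (q ^ 3 - 1) * 2 := by
      simp [num, Phi]
      rw [← i3]; ring
    rw [e]
    refine mul_dvd_lcm_of_coprime ?_ dvd_rfl dvd_rfl
    simpa using coprime_two_pow_of_odd o3m 1
  · -- 4(q^2+1)
    have R : RealIn F (K2 × ((Fin 2 → F) × (Fin 2 → F))) false _ := Am2.sum Au4
    refine finish a b hab (by rw [Module.finrank_prod, hK2, finrank_P]) R ?_
    have e : num q (2, {4}) = (q ^ 2 + 1) * 4 := by
      simp [num, Phi]
      ring
    rw [e]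
    refine mul_dvd_lcm_of_coprime ?_ dvd_rfl dvd_rfl
    simpa using coprime_two_pow_of_odd o21 2
  · -- 8(q+1)
    have R : RealIn F (K1 × ((Fin 2 ⊕ Fin 2) ⊕ Fin 2 → F)) false _ := Am1.sum Au6p
    refine finish a b hab (by rw [Module.finrank_prod, hK1, finrank_u6]) R ?_
    have e : num q (3, {2}) = (q + 1) * 8 := by
      simp [num, Phi]
      ring
    rw [e]
    refine mul_dvd_lcm_of_coprime ?_ dvd_rfl dvd_rfl
    simpa using coprime_two_pow_of_odd o2 3
  · -- 8(q-1)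
    have R : RealIn F (((Fin 1 → F) × (Fin 1 → F)) × ((Fin 2 ⊕ Fin 2) ⊕ Fin 2 → F)) false _ := Ap1.sum Au6m
    refine finish a b hab (by rw [Module.finrank_prod, finrank_P, finrank_u6]) R ?_
    have e : num q (3, {1}) = (q - 1) * 8 := by
      simp [num, Phi]
      ring
    rw [e]
    refine mul_dvd_lcm_of_coprime ?_ dvd_rfl dvd_rfl
    simpa using coprime_two_pow_of_odd o1 3

end Cfsg.Agent.Lib.Helper15.SO8
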