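import Mathlib
import Cfsg.Agent.Lib.Helper13.OrthGen
import Cfsg.Agent.Lib.Helper15.SO9a

/-!
# S3590, part b: the isometries whose fixed space has even codimension form a subgroup (char 2)
-/

set_option autoImplicit false
set_option linter.unusedSectionVars false

namespace Cfsg.Agent.Lib.Helper15.SO9

open Module QuadraticMap Cfsg.Agent.Lib.Helper13

universe u
variable {F V : Type u} [Field F] [Finite F] [CharP F 2] [AddCommGroup V] [Module F V]
  [FiniteDimensional F V] (Q : QuadraticForm F V)

theorem rk_le_step (σ : isoGroup Q) (a : V) (ha : Q a = 1) :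
    rk σ.1 ≤ rk (reflO Q a * σ).1 + 1 := by
  unfold rk
  have hsub : LinearMap.range (σ.1.toLinearMap - LinearMap.id) ≤
      LinearMap.range ((reflO Q a * σ).1.toLinearMap - LinearMap.id) ⊔ Submodule.span F {a} := by
    rintro _ ⟨x, rfl⟩
    have h1 : (reflO Q a * σ).1 x = σ.1 x + polar Q a (σ.1 x) • a := by
      change (reflO Q a).1 (σ.1 x) = _
      rw [reflO_apply Q a _ ha]
    have h2 : (σ.1.toLinearMap - LinearMap.id : V →ₗ[F] V) x =
        ((reflO Q a * σ).1.toLinearMap - LinearMap.id : V →ₗ[F] V) x + (-(polar Q a (σ.1 x))) • a := by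
      simp only [LinearMap.sub_apply, LinearEquiv.coe_coe, LinearMap.id_apply]
      rw [h1, neg_smul]
      abel
    rw [h2]
    exact Submodule.add_mem_sup (LinearMap.mem_range_self _ x)
      (Submodule.smul_mem _ _ (Submodule.mem_span_singleton_self a))
  calc finrank F (LinearMap.range (σ.1.toLinearMap - LinearMap.id))
      ≤ finrank F ↥(LinearMap.range ((reflO Q a * σ).1.toLinearMap - LinearMap.id) ⊔
          Submodule.span F {a}) := Submodule.finrank_mono hsub
    _ ≤ finrank F (LinearMap.range ((reflO Q a * σ).1.toLinearMap - LinearMap.id)) +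
          finrank F (Submodule.span F {a}) := Submodule.finrank_add_le_finrank_add_finrank _ _
    _ ≤ _ := by
        have ha0 : a ≠ 0 := by
          rintro rfl
          rw [QuadraticMap.map_zero] at ha
          exact zero_ne_one ha
        rw [finrank_span_singleton ha0]

/-- the Dickson homomorphism is the parity of the rank of `g - 1` -/
theorem dickson_eq (hQ : (polarBilin Q).Nondegenerate) (hdim : 5 ≤ finrank F V)
    (φ : isoGroup Q →* Multiplicative F)
    (hφ : ∀ a, Q a = 1 → φ (reflO Q a) = Multiplicative.ofAdd 1) :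
    ∀ (r : ℕ) (σ : isoGroup Q), rk σ.1 = r → φ σ = Multiplicative.ofAdd ((r : ℕ) : F) := by
  intro r
  induction r using Nat.strong_induction_on with
  | _ r ih =>
    intro σ hσ
    by_cases hts : ∀ x, Q (σ.1 x - x) = 0
    · obtain ⟨h1, h2⟩ := alt_of_ts Q hQ σ hts
      obtain ⟨h3, h4⟩ := alt_mem_commutator Q hQ hdim σ h1 h2
      have h5 : φ σ = 1 := Abelianization.commutator_subset_ker φ h3
      have h6 : ((r : ℕ) : F) = 0 := by
        rw [CharP.cast_eq_zero_iff F 2, ← hσ]
        exact even_iff_two_dvd.mp h4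
      rw [h5, h6]
      rfl
    · push Not at hts
      obtain ⟨x, hx⟩ := hts
      obtain ⟨a, ha, hlt⟩ := good_step Q σ x hx
      have hle := rk_le_step Q σ a ha
      change rk (reflO Q a * σ).1 < rk σ.1 at hlt
      rw [hσ] at hlt hle
      have hr : rk (reflO Q a * σ).1 = r - 1 := by omega
      have h1 := ih (r - 1) (by omega) (reflO Q a * σ) hr
      rw [map_mul, hφ a ha] at h1
      have h2 : φ σ = (Multiplicative.ofAdd (1 : F))⁻¹ * Multiplicative.ofAdd (((r - 1 : ℕ) : ℕ) : F) := by
        rw [← h1, inv_mul_cancel_left]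
      rw [h2, ← ofAdd_neg, ← ofAdd_add]
      congr 1
      have hr1 : 1 ≤ r := by omega
      rw [Nat.cast_sub hr1, Nat.cast_one]
      linear_combination (-1 : F) * (CharTwo.two_eq_zero : (2 : F) = 0)

/-- the isometries `g` with `rank (g - 1)` even -/
noncomputable def evenSub (hQ : (polarBilin Q).Nondegenerate) (hdim : 5 ≤ finrank F V) :
    Subgroup (isoGroup Q) :=
  ((Classical.choose (exists_dickson_hom Q hQ (by omega))).ker)

theorem mem_evenSub (hQ : (polarBilin Q).Nondegenerate) (hdim : 5 ≤ finrank F V) (g : isoGroup Q) :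
    g ∈ evenSub Q hQ hdim ↔ Even (rk g.1) := by
  unfold evenSub
  rw [MonoidHom.mem_ker, dickson_eq Q hQ hdim _
    (Classical.choose_spec (exists_dickson_hom Q hQ (by omega))) (rk g.1) g rfl]
  rw [even_iff_two_dvd, ← CharP.cast_eq_zero_iff F 2]
  constructor
  · intro h
    exact Multiplicative.ofAdd.injective h
  · intro h
    rw [h]
    rfl

end Cfsg.Agent.Lib.Helper15.SO9
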