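import Mathlib
import Cfsg.Agent.Lib.Helper15.SO8e
import Cfsg.Agent.Lib.Helper15.BC3
import Cfsg.Agent.Lib.Helper15.QuadCount7
import Cfsg.Agent.Lib.Helper13.OrthCharTwo

/-!
# S3590, part d: the covering lemma with the extra factor `X - 1`
-/

set_option autoImplicit false
set_option linter.unusedSectionVars false

namespace Cfsg.Agent.Lib.Helper15.SO9

open Module QuadraticMap Polynomial Cfsg.Agent.Lib.Helper15 Cfsg.Agent.Lib.Helper15.SO8
  Cfsg.Agent.Lib.Helper15.Sps Cfsg.Agent.Lib.Helper15.Spr Cfsg.Agent.Lib.Helper15.BC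

variable {F : Type*} [Field F] [Fintype F] [CharP F 2]

/-- covering of `(X - 1) * μ` for a self-dual polynomial `μ` of degree at most `8` -/
theorem cover_poly (μ : F[X]) (hmonic : μ.Monic) (hdeg8 : μ.natDegree ≤ 8) (hc0 : μ.coeff 0 ≠ 0)
    (hsd : dualS μ = μ) :
    (∃ p ∈ LL, (X - 1) * μ ∣ X ^ num (Fintype.card F) p - 1) ∨ (μ.natDegree = 8 ∧ μ.IsRoot 1) := by
  classical
  by_cases hbad : μ.natDegree = 8 ∧ μ.IsRoot 1
  · exact Or.inr hbad
  left
  -- split off the power of `X - 1`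
  have hirr : Irreducible (X - C (1 : F)) := Polynomial.irreducible_X_sub_C 1
  obtain ⟨e, ν, hnd, hfac⟩ := WfDvdMonoid.max_power_factor hmonic.ne_zero hirr
  have hXm : (X - C (1 : F)).Monic := Polynomial.monic_X_sub_C 1
  have hνm : ν.Monic := by
    apply Polynomial.Monic.of_mul_monic_left (hXm.pow e)
    rw [← hfac]
    exact hmonic
  have hν0 : ν.coeff 0 ≠ 0 := coeff_zero_ne_of_dvd' ⟨(X - C 1) ^ e, by rw [hfac, mul_comm]⟩ hc0
  have hν1 : ν.eval 1 ≠ 0 := by
    intro h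
    apply hnd
    rw [Polynomial.dvd_iff_isRoot]
    exact h
  have hXsd : dualS (X - C (1 : F)) = X - C 1 := by
    have := dualS_X_pow_sub_C (F := F) (j := 1) one_pos (one_ne_zero)
    rwa [pow_one, inv_one] at this
  have hνsd : dualS ν = ν := by
    have h1 : dualS μ = (X - C 1) ^ e * dualS ν := by
      rw [hfac, dualS_mul, dualS_pow, hXsd]
    rw [hsd, hfac] at h1
    exact (mul_left_cancel₀ (pow_ne_zero _ hXm.ne_zero) h1).symm
  have hdegsum : e + ν.natDegree = μ.natDegree := by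
    rw [hfac, Polynomial.Monic.natDegree_mul (hXm.pow e) hνm, Polynomial.natDegree_pow,
      Polynomial.natDegree_X_sub_C, mul_one]
  obtain ⟨r, hr4, hmr, p, hp, hcp⟩ := cover_main ν.natDegree (by omega) ν hνm hν0 hνsd hν1 rfl
  have hcX : Cov (X - C (1 : F)) (0, ∅) := by
    unfold Cov num
    simp
  -- the exponent to use for the unipotent factor
  have hroot : e ≠ 0 → μ.IsRoot 1 := by
    intro he
    rw [← Polynomial.dvd_iff_isRoot, hfac]
    exact Dvd.dvd.mul_right (dvd_pow_self _ he) _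
  obtain ⟨e', he', hsum⟩ : ∃ e' : ℕ, e + 1 ≤ 2 ^ Nat.clog 2 e' ∧ e' + 2 * r ≤ 8 := by
    by_cases h8 : μ.natDegree = 8
    · have he0 : e = 0 := by
        by_contra he
        exact hbad ⟨h8, hroot he⟩
      refine ⟨0, ?_, by omega⟩
      rw [he0]
      simp
    · refine ⟨e + 1, Nat.le_pow_clog (by norm_num) _, by omega⟩
  have hcXe : Cov ((X - C (1 : F)) ^ (e + 1)) (0 + Nat.clog 2 e', ∅) :=
    hcX.pow (e + 1) (Nat.clog 2 e') he'
  rw [zero_add] at hcXe
  have hcop : IsCoprime ((X - C (1 : F)) ^ (e + 1)) ν := (hirr.coprime_iff_not_dvd.mpr hnd).pow_left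
  have hcμ : Cov ((X - 1) * μ) (join (Nat.clog 2 e', ∅) p) := by
    have e1 : (X - 1 : F[X]) * μ = (X - C 1) ^ (e + 1) * ν := by
      rw [hfac, pow_succ, map_one]
      ring
    rw [e1]
    exact Cov.mul hcop hcXe hcp
  obtain ⟨p', hp', hdom⟩ := lam_final e' r hsum p hp
  exact ⟨p', hp', hcμ.mono hdom⟩

/-- the minimal polynomial of an isometry of a nondegenerate alternating form on an 8-dimensional space -/
theorem cover_end {V : Type*} [AddCommGroup V] [Module F V] [FiniteDimensional F V]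
    (B : V →ₗ[F] V →ₗ[F] F) (halt : ∀ x, B x x = 0) (hnd : Nondeg B) (hV : finrank F V = 2 * 4)
    (T : Module.End F V) (hT : IsIso B T) :
    (∃ p ∈ LL, (X - 1) * minpoly F T ∣ X ^ num (Fintype.card F) p - 1) ∨
      ((minpoly F T).natDegree = 8 ∧ (minpoly F T).IsRoot 1) := by
  classical
  obtain ⟨φ, hφ⟩ := exists_algEquiv_symp B halt hnd 4 (by norm_num) hV
  set s : Matrix.symplecticGroup (Fin 4) F := ⟨φ T, hφ T hT⟩ with hs
  have hsM : matS s = φ T := rfl
  have hmp : minpoly F (matS s) = minpoly F T := by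
    rw [hsM]
    exact minpoly.algEquiv_eq φ T
  have : Nonempty (Fin 4 ⊕ Fin 4) := ⟨Sum.inl 0⟩
  have hAu : IsUnit (matS s) := IsUnit.of_mul_eq_one _ (matS_symp s)
  obtain ⟨hmonic, -, hdeg8, hc0, -⟩ := minpoly_facts' (matS s) hAu
  have hsd : dualS (minpoly F (matS s)) = minpoly F (matS s) :=
    dualS_minpoly (by norm_num) (matS s) (matS_symp' s)
  have hcard : Fintype.card (Fin 4 ⊕ Fin 4) = 8 := by simp
  rw [hcard] at hdeg8
  rw [hmp] at hmonic hdeg8 hc0 hsd
  exact cover_poly _ hmonic hdeg8 hc0 hsd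

end Cfsg.Agent.Lib.Helper15.SO9
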