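import Mathlib
import Cfsg.Agent.Lib.Helper15.SO9b
import Cfsg.Agent.Lib.Helper15.SO9c
import Cfsg.Agent.Lib.Helper15.SO9d
import Cfsg.Agent.Lib.Helper7.S3590D
import Cfsg.Agent.Lib.Helper23.S3589D

/-!
# S3590, part e: the standard model and the upper bound for the element orders of `V^k ⋊ Ω`
-/

set_option autoImplicit false
set_option linter.unusedSectionVars false

namespace Cfsg.Agent.Lib.Helper15.SO9

open Module QuadraticMap Polynomial Cfsg.Agent.Lib.Helper15 Cfsg.Agent.Lib.Helper15.SO8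
  Cfsg.Agent.Lib.Helper13 Cfsg.Agent.Lib.Helper15.BC

universe u

variable {F : Type u} [Field F] [Fintype F] [CharP F 2]

/-- the standard 8-dimensional space -/
abbrev V₀ (F : Type u) : Type u := (Fin 3 ⊕ Fin 3) ⊕ Fin 2 → F

/-- the standard form of minus type -/
noncomputable abbrev Q₀ (a b : F) : QuadraticForm F (V₀ F) := Qgen 3 (binForm a b)

theorem finrank_V₀ : finrank F (V₀ F) = 8 := by
  rw [Module.finrank_fintype_fun_eq_card]
  rfl

theorem hdim₀ : 5 ≤ finrank F (V₀ F) := by rw [finrank_V₀]; norm_num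

theorem hQ₀ (a b : F) (hab : ∀ z₁ z₂ : F, z₁ ^ 2 + a * z₁ * z₂ + b * z₂ ^ 2 = 0 → z₁ = 0 ∧ z₂ = 0) :
    (polarBilin (Q₀ a b)).Nondegenerate :=
  nondegenerate_Qgen 3 (binForm a b) (nondegenerate_binForm a b hab)

theorem Q₀_apply (a b : F) (w : V₀ F) : Q₀ a b w = Cfsg.quadFormMinus 3 F a b w := by
  rw [Qgen_apply, binForm_apply]
  rfl

/-- the group `Ω` -/
noncomputable abbrev Om (a b : F) (hab : ∀ z₁ z₂ : F, z₁ ^ 2 + a * z₁ * z₂ + b * z₂ ^ 2 = 0 → z₁ = 0 ∧ z₂ = 0) :
    Subgroup (isoGroup (Q₀ a b)) :=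
  evenSub (Q₀ a b) (hQ₀ a b hab) hdim₀

/-- existence of an anisotropic binary form -/
theorem exists_aniso : ∃ a b : F, ∀ z₁ z₂ : F, z₁ ^ 2 + a * z₁ * z₂ + b * z₂ ^ 2 = 0 → z₁ = 0 ∧ z₂ = 0 := by
  classical
  have hns : ¬ Function.Surjective (fun t : F => t ^ 2 + t) := by
    intro hs
    have hinj : Function.Injective (fun t : F => t ^ 2 + t) := Finite.injective_iff_surjective.mpr hs
    have h01 : (fun t : F => t ^ 2 + t) 0 = (fun t : F => t ^ 2 + t) 1 := by
      simp only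
      rw [zero_pow (by norm_num), zero_add, one_pow]
      exact (CharTwo.add_self_eq_zero (1 : F)).symm
    exact zero_ne_one (hinj h01)
  unfold Function.Surjective at hns
  push Not at hns
  obtain ⟨ζ, hζ⟩ := hns
  refine ⟨1, ζ, Cfsg.Agent.Lib.Helper23.S3589.aniso_of_irred ζ ?_⟩
  intro t h
  apply hζ t
  show t ^ 2 + t = ζ
  have h2 : ζ + ζ = 0 := CharTwo.add_self_eq_zero ζ
  linear_combination h - h2

/-- coordinates on an abstract minus-type space of dimension `8` -/
theorem exists_coord (a b : F) (hab : ∀ z₁ z₂ : F, z₁ ^ 2 + a * z₁ * z₂ + b * z₂ ^ 2 = 0 → z₁ = 0 ∧ z₂ = 0)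
    {V : Type*} [AddCommGroup V] [Module F V] [FiniteDimensional F V] (hV : finrank F V = 8)
    (Q : QuadraticForm F V) (hQ : (polarBilin Q).Nondegenerate)
    (hs : Fintype.card F * nz F Q < Nat.card V) :
    ∃ θ : V₀ F ≃ₗ[F] V, ∀ w, Q (θ w) = Q₀ a b w := by
  classical
  have hfin : Finite V := Module.finite_of_finite F
  rcases classify_even Q hQ 4 (by norm_num) (by rw [hV]) with ⟨φ, hφ⟩ | ⟨ζ, hirr, φ, hφ⟩
  · exfalso
    have h1 : SO8.nz F Q = Nat.card {v : Fin 4 ⊕ Fin 4 → F // Cfsg.quadFormPlus 4 F v = 0} := by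
      unfold SO8.nz
      apply Nat.card_congr
      exact φ.toEquiv.subtypeEquiv (fun v => by rw [hφ v]; rfl)
    rw [card_plus_value 4 0, if_pos rfl] at h1
    have h2 : Nat.card V = Fintype.card F ^ 8 := by
      rw [Module.natCard_eq_pow_finrank (K := F) (V := V), hV, Nat.card_eq_fintype_card]
    rw [h1, h2] at hs
    have hq : 1 ≤ Fintype.card F := Fintype.card_pos
    obtain ⟨r, hr⟩ : ∃ r, Fintype.card F ^ 4 = r + 1 :=
      ⟨Fintype.card F ^ 4 - 1, by have := Nat.pow_pos (n := 4) hq; omega⟩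
    have h3 : Fintype.card F ^ 4 - 1 = r := by omega
    have h4 : Fintype.card F ^ (4 - 1) = Fintype.card F ^ 3 := rfl
    rw [h3, h4] at hs
    have h5 : Fintype.card F ^ 8 = Fintype.card F * ((r + 1) * Fintype.card F ^ 3) := by
      rw [← hr]; ring
    have h6 : Fintype.card F ^ 3 ≤ Fintype.card F ^ 4 := Nat.pow_le_pow_right hq (by norm_num)
    have h7 : (r + 1) * Fintype.card F ^ 3 ≤ r * Fintype.card F ^ 3 + Fintype.card F ^ 4 := by
      nlinarith
    have h8 := Nat.mul_le_mul_left (Fintype.card F) h7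
    omega
  · have hφ' : ∀ v, Q v = Cfsg.quadFormMinus 3 F 1 ζ (φ v) := hφ
    obtain ⟨Φ, hΦ⟩ := Cfsg.Agent.Lib.Helper23.S3589.exists_equiv_binForm a b 1 ζ hab
      (Cfsg.Agent.Lib.Helper23.S3589.aniso_of_irred ζ hirr)
    let θ : ((Fin 3 ⊕ Fin 3) ⊕ Fin 2 → F) ≃ₗ[F] V :=
      (Cfsg.Agent.Lib.Helper23.S3589.blockEquiv Φ).trans φ.symm
    refine ⟨θ, ?_⟩
    intro w
    rw [hφ' (θ w), Q₀_apply]
    show Cfsg.quadFormMinus 3 F 1 ζ (φ (φ.symm (Cfsg.Agent.Lib.Helper23.S3589.blockEquiv Φ w))) = _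
    rw [LinearEquiv.apply_symm_apply]
    exact Cfsg.Agent.Lib.Helper23.S3589.quadFormMinus_blockEquiv a b 1 ζ Φ hΦ w

/-- the covering lemma for the standard model -/
theorem cover_aff (a b : F) (hab : ∀ z₁ z₂ : F, z₁ ^ 2 + a * z₁ * z₂ + b * z₂ ^ 2 = 0 → z₁ = 0 ∧ z₂ = 0)
    (g : isoGroup (Q₀ a b)) :
    (∃ p ∈ LL, (X - 1) * minpoly F (g.1.toLinearMap) ∣ X ^ num (Fintype.card F) p - 1) ∨
      ((minpoly F (g.1.toLinearMap)).natDegree = 8 ∧ (minpoly F (g.1.toLinearMap)).IsRoot 1) := by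
  have h2 : (2 : F) = 0 := CharTwo.two_eq_zero
  have halt : ∀ x, (polarBilin (Q₀ a b)) x x = 0 := by
    intro x
    show polar (Q₀ a b) x x = 0
    rw [QuadraticMap.polar_self, two_smul]
    linear_combination (Q₀ a b x) * h2
  have hnd : Nondeg (polarBilin (Q₀ a b)) := (hQ₀ a b hab).1
  have hT : IsIso (polarBilin (Q₀ a b)) (g.1.toLinearMap) := by
    intro x y
    exact isoGroup_polar (Q₀ a b) g x y
  exact cover_end (polarBilin (Q₀ a b)) halt hnd (by rw [finrank_V₀]) _ hT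

/-- (E1): every element of `V^k ⋊ Ω` is killed by one of the twelve numbers -/
theorem aff_pow_eq_one (a b : F) (hab : ∀ z₁ z₂ : F, z₁ ^ 2 + a * z₁ * z₂ + b * z₂ ^ 2 = 0 → z₁ = 0 ∧ z₂ = 0)
    (k : ℕ) (x : Aff ↥(Om a b hab) (Fin k → V₀ F)) :
    ∃ p ∈ LL, x ^ num (Fintype.card F) p = 1 := by
  classical
  set g : isoGroup (Q₀ a b) := x.lin.1 with hg
  set T : Module.End F (V₀ F) := g.1.toLinearMap with hT
  have hpowT : ∀ i : ℕ, ∀ v : V₀ F, (T ^ i) v = (g.1 ^ i) v := by
    intro i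
    induction i with
    | zero => intro v; rfl
    | succ i ih =>
      intro v
      rw [pow_succ, pow_succ, Module.End.mul_apply, LinearEquiv.mul_apply, ih]
      rfl
  rcases cover_aff a b hab g with ⟨p, hp, hdvd⟩ | ⟨hdeg, hroot⟩
  · refine ⟨p, hp, ?_⟩
    set N := num (Fintype.card F) p with hN
    have hμ1 : minpoly F T ∣ X ^ N - 1 := (dvd_mul_left _ _).trans hdvd
    have hgeom : (X - 1 : F[X]) * ∑ i ∈ Finset.range N, X ^ i = X ^ N - 1 := mul_geom_sum X N
    have hμ2 : minpoly F T ∣ ∑ i ∈ Finset.range N, X ^ i := by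
      rw [← hgeom] at hdvd
      have hX1 : (X - 1 : F[X]) ≠ 0 := by
        have := Polynomial.X_sub_C_ne_zero (1 : F)
        rwa [map_one] at this
      exact (mul_dvd_mul_iff_left hX1).mp hdvd
    have hT1 : T ^ N = 1 := by
      have := minpoly.dvd_iff.mp hμ1
      rw [map_sub, map_pow, aeval_X, map_one, sub_eq_zero] at this
      exact this
    have hT2 : ∑ i ∈ Finset.range N, T ^ i = 0 := by
      have := minpoly.dvd_iff.mp hμ2
      rw [map_sum] at this
      simpa using this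
    rw [Aff.pow_eq_one_iff]
    constructor
    · apply Subtype.ext
      apply Subtype.ext
      apply LinearEquiv.ext
      intro v
      show (g.1 ^ N) v = v
      rw [← hpowT, hT1]
      rfl
    · funext j
      rw [Finset.sum_apply]
      have h1 : ∀ i : ℕ, (x.lin ^ i • x.tr) j = (T ^ i) (x.tr j) := by
        intro i
        rw [hpowT]
        rfl
      simp only [h1]
      rw [← LinearMap.sum_apply, hT2]
      rfl
  · exfalso
    have hle := Cfsg.Agent.Lib.Helper7.S3590D.finrank_ker_le_one_of_natDegree_minpoly T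
      (by rw [hdeg, finrank_V₀]) 1
    rw [map_one] at hle
    have hev : T.HasEigenvalue 1 := Module.End.hasEigenvalue_of_isRoot hroot
    have hne : LinearMap.ker (T - 1) ≠ ⊥ := by
      have := hev
      rw [Module.End.hasEigenvalue_iff, Module.End.eigenspace_def] at this
      simpa using this
    have hpos : 0 < finrank F (LinearMap.ker (T - 1)) := by
      rw [Module.finrank_pos_iff_exists_ne_zero]
      obtain ⟨v, hv, hv0⟩ := Submodule.exists_mem_ne_zero_of_ne_bot hne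
      exact ⟨⟨v, hv⟩, fun h => hv0 (congrArg Subtype.val h)⟩
    have hrn := LinearMap.finrank_range_add_finrank_ker (T - 1)
    rw [finrank_V₀] at hrn
    have hmem : x.lin.1 ∈ Om a b hab := x.lin.2
    rw [mem_evenSub] at hmem
    have hrk : rk g.1 = finrank F (LinearMap.range (T - 1)) := rfl
    rw [hrk] at hmem
    have h7 : finrank F (LinearMap.range (T - 1)) = 7 := by omega
    rw [h7] at hmem
    exact absurd hmem (by decide)

end Cfsg.Agent.Lib.Helper15.SO9
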