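import Mathlib
import Cfsg.Agent.Lib.Helper15.SO8f
import Cfsg.Agent.Lib.Helper15.SO9c

/-!
# S3590, part g: the Singer cycle on the hyperbolic space as an affine realisation
-/

set_option autoImplicit false
set_option linter.unusedSectionVars false

namespace Cfsg.Agent.Lib.Helper15.SO9

open Module QuadraticMap Matrix Cfsg.Agent.Lib.Helper15 Cfsg.Agent.Lib.Helper15.SO8

variable {F : Type*} [Field F]

/-- the product of two submodules is linearly equivalent to the product type -/
def submoduleProdEquiv {V W : Type*} [AddCommGroup V] [Module F V] [AddCommGroup W] [Module F W]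
    (p : Submodule F V) (q : Submodule F W) : ↥(p.prod q) ≃ₗ[F] (↥p × ↥q) where
  toFun x := (⟨x.1.1, x.2.1⟩, ⟨x.1.2, x.2.2⟩)
  invFun y := ⟨(y.1.1, y.2.1), ⟨y.1.2, y.2.2⟩⟩
  map_add' _ _ := rfl
  map_smul' _ _ := rfl
  left_inv _ := rfl
  right_inv _ := rfl

theorem finrank_submodule_prod {V W : Type*} [AddCommGroup V] [Module F V] [AddCommGroup W] [Module F W]
    [FiniteDimensional F V] [FiniteDimensional F W]
    (p : Submodule F V) (q : Submodule F W) : finrank F ↥(p.prod q) = finrank F p + finrank F q := by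
  rw [LinearEquiv.finrank_eq (submoduleProdEquiv p q), Module.finrank_prod]

theorem rk_prodCongr {V W : Type*} [AddCommGroup V] [Module F V] [AddCommGroup W] [Module F W]
    [FiniteDimensional F V] [FiniteDimensional F W] (g : V ≃ₗ[F] V) (h : W ≃ₗ[F] W) :
    rk (g.prodCongr h) = rk g + rk h := by
  unfold rk
  have h1 : ((g.prodCongr h).toLinearMap - LinearMap.id : V × W →ₗ[F] V × W) =
      (g.toLinearMap - LinearMap.id).prodMap (h.toLinearMap - LinearMap.id) := by
    ext x <;> simp
  rw [h1, LinearMap.range_prodMap, finrank_submodule_prod]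

section mat

variable {ι : Type*} [Fintype ι] [DecidableEq ι]

theorem rk_toLinearEquiv' (A : Matrix ι ι F) (hA : Invertible A) :
    rk (Matrix.toLinearEquiv' A hA) = (A - 1).rank := by
  unfold rk Matrix.rank
  have h1 : ((Matrix.toLinearEquiv' A hA).toLinearMap - LinearMap.id : (ι → F) →ₗ[F] (ι → F)) =
      (A - 1).mulVecLin := by
    ext x i
    simp [Matrix.sub_mulVec]
  rw [h1]

theorem rank_inv_transpose_sub_one (A B : Matrix ι ι F) (hAB : A * B = 1) (hBA : B * A = 1) :
    (Bᵀ - 1).rank = (A - 1).rank := by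
  have h1 : (Bᵀ - 1 : Matrix ι ι F) = (B - 1)ᵀ := by
    rw [Matrix.transpose_sub, Matrix.transpose_one]
  rw [h1, Matrix.rank_transpose]
  have h2 : B - 1 = B * (1 - A) := by
    rw [mul_sub, mul_one, hBA]
  have hBu : IsUnit B.det := by
    have : B.det * A.det = 1 := by rw [← Matrix.det_mul, hBA, Matrix.det_one]
    exact IsUnit.of_mul_eq_one _ this
  rw [h2, Matrix.rank_mul_eq_right_of_isUnit_det B _ hBu]
  have h3 : (1 - A : Matrix ι ι F) = (A - 1) * (-1 : Matrix ι ι F) := by
    rw [mul_neg, mul_one]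
    abel
  have hu : IsUnit (-1 : Matrix ι ι F).det := by
    rw [Matrix.det_neg, Matrix.det_one, mul_one]
    exact (isUnit_one.neg).pow _
  rw [h3, Matrix.rank_mul_eq_left_of_isUnit_det _ _ hu]

theorem even_rk_hypIso (A B : Matrix ι ι F) (hAB : A * B = 1) (hBA : B * A = 1) :
    Even (rk (hypIso A B hAB hBA)) := by
  unfold hypIso
  rw [rk_prodCongr, rk_toLinearEquiv', rk_toLinearEquiv', rank_inv_transpose_sub_one A B hAB hBA]
  exact ⟨_, rfl⟩

end mat

/-- FO-B1: the Singer cycle of `GL_d(q)` on the hyperbolic space of dimension `2d` -/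
theorem aff_plus [Fintype F] [CharP F 2] (d : ℕ) (hd : 1 ≤ d) :
    RealAff F ((Fin d → F) × (Fin d → F)) true true (Fintype.card F ^ d - 1) := by
  classical
  have : NeZero d := ⟨by omega⟩
  have hfr : Module.finrank F (FiniteField.Extension F 2 d) = d := FiniteField.finrank_extension F 2 d
  have hcard : Nat.card (FiniteField.Extension F 2 d) = Fintype.card F ^ d := by
    rw [FiniteField.natCard_extension, Nat.card_eq_fintype_card]
  obtain ⟨θ₀, hθ₀⟩ := IsCyclic.exists_generator (α := (FiniteField.Extension F 2 d)ˣ)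
  have hord : orderOf θ₀ = Fintype.card F ^ d - 1 := by
    rw [orderOf_eq_card_of_forall_mem_zpowers hθ₀, Nat.card_units, hcard]
  obtain ⟨X, hXd, hXp, -⟩ := Cfsg.Agent.Lib.Helper15.Spr.exists_matrix_of_algebra hfr
    (θ₀ : FiniteField.Extension F 2 d)
  have hX0 : X.det ≠ 0 := by
    rw [hXd, Ne, Algebra.norm_eq_zero_iff]
    exact θ₀.ne_zero
  have hXu : IsUnit X.det := isUnit_iff_ne_zero.mpr hX0
  have hAB : X * X⁻¹ = 1 := Matrix.mul_nonsing_inv X hXu
  have hBA : X⁻¹ * X = 1 := Matrix.nonsing_inv_mul X hXu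
  have hordX : orderOf X = Fintype.card F ^ d - 1 := by
    rw [← hord]
    apply Nat.dvd_antisymm
    · rw [orderOf_dvd_iff_pow_eq_one]
      have := (hXp (orderOf θ₀) 1).mpr (by
        rw [map_one, ← Units.val_pow_eq_pow_val, pow_orderOf_eq_one, Units.val_one])
      rwa [map_one] at this
    · rw [orderOf_dvd_iff_pow_eq_one]
      have := (hXp (orderOf X) 1).mp (by rw [pow_orderOf_eq_one, map_one])
      rw [map_one, ← Units.val_pow_eq_pow_val] at this
      exact Units.ext this
  refine ⟨dotQ F (Fin d), hypIso X X⁻¹ hAB hBA, 0, nondegenerate_dotQ F (Fin d), dotQ_hypIso X X⁻¹ hAB hBA,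
    ?_, ?_, ?_⟩
  · exact ⟨fun _ => rfl, fun _ => even_rk_hypIso X X⁻¹ hAB hBA⟩
  · intro m hm _
    rw [← hordX, ← orderOf_hypIso X X⁻¹ hAB hBA]
    exact orderOf_dvd_of_pow_eq_one hm
  · rw [if_pos rfl]
    exact sign_dotQ F (Fin d) (by rw [Fintype.card_fin]; exact hd)

end Cfsg.Agent.Lib.Helper15.SO9
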