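import Mathlib
import Cfsg.Agent.Lib.Helper15.SO8i
import Cfsg.Agent.Lib.Helper15.SO9e
import Cfsg.Agent.Lib.Helper15.SO9g
import Cfsg.Agent.Lib.Helper25.S3590A
import Cfsg.Agent.Lib.Helper28.S3590B
import Cfsg.Agent.Lib.Helper28.S3590B2
import Cfsg.Agent.H5.S3590B

/-!
# S3590, part f: each of the twelve numbers divides the order of an element of `V^k ⋊ Ω`
-/

set_option autoImplicit false
set_option linter.unusedSectionVars false

namespace Cfsg.Agent.Lib.Helper15.SO9

open Module QuadraticMap Cfsg.Agent.Lib.Helper15 Cfsg.Agent.Lib.Helper15.SO8 Cfsg.Agent.Lib.Helper13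

universe u

variable {F : Type u} [Field F] [Fintype F] [CharP F 2]

theorem rk_conj {V W : Type*} [AddCommGroup V] [Module F V] [AddCommGroup W] [Module F W]
    (θ : W ≃ₗ[F] V) (g : V ≃ₗ[F] V) : rk ((θ.trans g).trans θ.symm) = rk g := by
  unfold rk
  have h1 : (((θ.trans g).trans θ.symm).toLinearMap - LinearMap.id : W →ₗ[F] W) =
      (θ.symm.toLinearMap.comp (g.toLinearMap - LinearMap.id)).comp θ.toLinearMap := by
    ext w
    simp
  have h2 : LinearMap.range ((θ.symm.toLinearMap.comp (g.toLinearMap - LinearMap.id)).comp θ.toLinearMap) =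
      (LinearMap.range (g.toLinearMap - LinearMap.id)).map θ.symm.toLinearMap := by
    ext w
    simp only [LinearMap.mem_range, LinearMap.comp_apply, Submodule.mem_map, LinearEquiv.coe_coe]
    constructor
    · rintro ⟨y, rfl⟩
      exact ⟨_, ⟨θ y, rfl⟩, rfl⟩
    · rintro ⟨_, ⟨y, rfl⟩, rfl⟩
      exact ⟨θ.symm y, by rw [LinearEquiv.apply_symm_apply]⟩
  rw [h1, h2]
  exact LinearEquiv.finrank_map_eq θ.symm _

/-- orthogonal sums (alias) -/
theorem affSum {V W : Type*} [AddCommGroup V] [Module F V] [AddCommGroup W] [Module F W]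
    [Finite V] [Finite W] {s t e f : Bool} {N M : ℕ}
    (h1 : RealAff F V s e N) (h2 : RealAff F W t f M) :
    RealAff F (V × W) (s == t) (e == f) (Nat.lcm N M) :=
  Cfsg.Agent.Lib.Helper25.S3590.RealAff.sum h1 h2

/-- transport of an abstract realisation to the standard model -/
theorem exists_aff_of_realAff (a b : F)
    (hab : ∀ z₁ z₂ : F, z₁ ^ 2 + a * z₁ * z₂ + b * z₂ ^ 2 = 0 → z₁ = 0 ∧ z₂ = 0)
    {V : Type*} [AddCommGroup V] [Module F V] [FiniteDimensional F V] (hV : finrank F V = 8) {N : ℕ}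
    (h : RealAff F V false true N) (k : ℕ) :
    ∃ x : Aff ↥(Om a b hab) (Fin (k + 1) → V₀ F), N ∣ orderOf x := by
  classical
  obtain ⟨Q, g, v, hQ, hiso, hev, hord, hs⟩ := h
  simp only [Bool.false_eq_true, if_false] at hs
  obtain ⟨θ, hθ⟩ := exists_coord a b hab hV Q hQ hs
  set g' : V₀ F ≃ₗ[F] V₀ F := (θ.trans g).trans θ.symm with hg'
  have hg'app : ∀ w, g' w = θ.symm (g (θ w)) := fun w => rfl
  have hmem : g' ∈ isoGroup (Q₀ a b) := by
    intro w
    rw [← hθ, ← hθ, hg'app, LinearEquiv.apply_symm_apply, hiso]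
  have hrk : rk g' = rk g := rk_conj θ g
  have hmem2 : (⟨g', hmem⟩ : isoGroup (Q₀ a b)) ∈ Om a b hab := by
    rw [mem_evenSub]
    show Even (rk g')
    rw [hrk, hev]
  have hpow : ∀ i : ℕ, ∀ w, (g' ^ i) w = θ.symm ((g ^ i) (θ w)) := by
    intro i
    induction i with
    | zero => intro w; simp
    | succ i ih =>
      intro w
      rw [pow_succ, pow_succ, LinearEquiv.mul_apply, LinearEquiv.mul_apply, ih, hg'app,
        LinearEquiv.apply_symm_apply]
  refine ⟨⟨⟨⟨g', hmem⟩, hmem2⟩, fun _ => θ.symm v⟩, ?_⟩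
  set x : Aff ↥(Om a b hab) (Fin (k + 1) → V₀ F) := ⟨⟨⟨g', hmem⟩, hmem2⟩, fun _ => θ.symm v⟩ with hx
  have hone : x ^ orderOf x = 1 := pow_orderOf_eq_one x
  rw [Aff.pow_eq_one_iff] at hone
  obtain ⟨h1, h2⟩ := hone
  apply hord
  · -- g ^ m = 1
    have h3 : g' ^ orderOf x = 1 := by
      have := congrArg (fun z : ↥(Om a b hab) => (z.1.1 : V₀ F ≃ₗ[F] V₀ F)) h1
      exact this
    apply LinearEquiv.ext
    intro u
    have h4 := hpow (orderOf x) (θ.symm u)
    rw [h3, LinearEquiv.apply_symm_apply] at h4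
    have h5 : θ ((1 : V₀ F ≃ₗ[F] V₀ F) (θ.symm u)) = θ (θ.symm ((g ^ orderOf x) u)) := by rw [h4]
    rw [LinearEquiv.apply_symm_apply] at h5
    rw [← h5]
    simp
  · -- the sum
    have h3 := congrFun h2 0
    rw [Finset.sum_apply] at h3
    have h4 : ∀ i : ℕ, (x.lin ^ i • x.tr) 0 = θ.symm ((g ^ i) v) := by
      intro i
      have : (x.lin ^ i • x.tr) 0 = (g' ^ i) (θ.symm v) := rfl
      rw [this, hpow, LinearEquiv.apply_symm_apply]
    simp only [h4] at h3
    rw [← map_sum] at h3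
    have h5 : θ (θ.symm (∑ i ∈ Finset.range (orderOf x), (g ^ i) v)) = θ 0 := by
      rw [h3]
      rfl
    rw [LinearEquiv.apply_symm_apply, map_zero] at h5
    exact h5

theorem finrank_P' (d : ℕ) : finrank F ((Fin d → F) × (Fin d → F)) = 2 * d := by
  rw [Module.finrank_prod, Module.finrank_fin_fun]
  ring

/-- (E2) -/
theorem exists_aff_of_mem_LL (a b : F)
    (hab : ∀ z₁ z₂ : F, z₁ ^ 2 + a * z₁ * z₂ + b * z₂ ^ 2 = 0 → z₁ = 0 ∧ z₂ = 0)
    (k : ℕ) (p : ℕ × Finset ℕ) (hp : p ∈ LL) :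
    ∃ x : Aff ↥(Om a b hab) (Fin (k + 1) → V₀ F), num (Fintype.card F) p ∣ orderOf x := by
  classical
  have fin' : ∀ {V : Type u} [AddCommGroup V] [Module F V] [FiniteDimensional F V], finrank F V = 8 →
      ∀ {N : ℕ}, RealAff F V false true N → num (Fintype.card F) p ∣ N →
      ∃ x : Aff ↥(Om a b hab) (Fin (k + 1) → V₀ F), num (Fintype.card F) p ∣ orderOf x := by
    intro V _ _ _ hV N hR hd
    obtain ⟨x, hx⟩ := exists_aff_of_realAff a b hab hV hR k
    exact ⟨x, hd.trans hx⟩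
  set q := Fintype.card F with hq
  have hq2 : 2 ≤ q := Fintype.one_lt_card
  have hev : 2 ∣ q := two_dvd_card
  have hq1 : 1 ≤ q := by omega
  have hqq : q ≤ q ^ 2 := by nlinarith
  have hp2 : 1 ≤ q ^ 2 := Nat.one_le_pow _ _ hq1
  have hp3 : 1 ≤ q ^ 3 := Nat.one_le_pow _ _ hq1
  have hev2 : 2 ∣ q ^ 2 := dvd_pow hev (by norm_num)
  have hev3 : 2 ∣ q ^ 3 := dvd_pow hev (by norm_num)
  have hev4 : 2 ∣ q ^ 4 := dvd_pow hev (by norm_num)
  have o1 : ¬ 2 ∣ q - 1 := by omega
  have o2 : ¬ 2 ∣ q + 1 := by omega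
  have o21 : ¬ 2 ∣ q ^ 2 + 1 := by omega
  have o2m : ¬ 2 ∣ q ^ 2 - 1 := by omega
  have o31 : ¬ 2 ∣ q ^ 3 + 1 := by omega
  have o3m : ¬ 2 ∣ q ^ 3 - 1 := by omega
  have i1 : (q - 1) * (q + 1) = q ^ 2 - 1 := by
    zify [hq1, hp2]; ring
  have i2 : (q + 1) * (q ^ 2 - q + 1) = q ^ 3 + 1 := by
    zify [hqq]; ring
  have i3 : (q - 1) * (q ^ 2 + q + 1) = q ^ 3 - 1 := by
    zify [hq1, hp3]; ring
  -- the atoms
  have Ap1 : RealAff F ((Fin 1 → F) × (Fin 1 → F)) true true (q - 1) := by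
    have := aff_plus (F := F) 1 le_rfl
    rwa [pow_one] at this
  have Ap2 : RealAff F ((Fin 2 → F) × (Fin 2 → F)) true true (q ^ 2 - 1) := aff_plus (F := F) 2 (by norm_num)
  have Ap3 : RealAff F ((Fin 3 → F) × (Fin 3 → F)) true true (q ^ 3 - 1) := aff_plus (F := F) 3 (by norm_num)
  obtain ⟨K1, iK1a, iK1b, iK1c, hK1, Am1⟩ := Cfsg.Agent.Lib.Helper28.S3590.aff_minus (F := F) 1 le_rfl
  obtain ⟨K2, iK2a, iK2b, iK2c, hK2, Am2⟩ := Cfsg.Agent.Lib.Helper28.S3590.aff_minus (F := F) 2 (by norm_num)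
  obtain ⟨K3, iK3a, iK3b, iK3c, hK3, Am3⟩ := Cfsg.Agent.Lib.Helper28.S3590.aff_minus (F := F) 3 (by norm_num)
  obtain ⟨K4, iK4a, iK4b, iK4c, hK4, Am4⟩ := Cfsg.Agent.Lib.Helper28.S3590.aff_minus (F := F) 4 (by norm_num)
  rw [pow_one] at Am1
  have fK1 : Finite K1 := Module.finite_of_finite F
  have fK2 : Finite K2 := Module.finite_of_finite F
  have fK3 : Finite K3 := Module.finite_of_finite F
  have fK4 : Finite K4 := Module.finite_of_finite F
  have Aip : RealAff F ((Fin 1 → F) × (Fin 1 → F)) true true 2 := Cfsg.H5.S3590B.aff_id_plus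
  have Aim : RealAff F (Fin 2 → F) false true 2 := Cfsg.H5.S3590B.aff_id_minus a b hab
  have Aj2 : RealAff F ((Fin 2 → F) × (Fin 2 → F)) true true 4 := Cfsg.Agent.Lib.Helper28.S3590.aff_j2
  have Au4 : RealAff F ((Fin 2 → F) × (Fin 2 → F)) true false 8 := Cfsg.Agent.Lib.Helper28.S3590.aff_u4
  have Arp : RealAff F ((Fin 1 → F) × (Fin 1 → F)) true false 1 := Cfsg.H5.S3590B.aff_refl_plus
  have Arm : RealAff F (Fin 2 → F) false false 1 := Cfsg.H5.S3590B.aff_refl_minus a b hab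
  -- ULift for the one case where the space lives in `Type`
  simp only [LL, List.mem_cons, List.not_mem_nil, or_false] at hp
  rcases hp with rfl | rfl | rfl | rfl | rfl | rfl | rfl | rfl | rfl | rfl | rfl | rfl
  · -- q^4 + 1
    obtain ⟨x, hx⟩ := exists_aff_of_realAff a b hab (V := K4) (by rw [hK4]) Am4 k
    refine ⟨x, dvd_trans ?_ hx⟩
    have e : num q (0, {8}) = q ^ 4 + 1 := by
      simp [num, Phi]
    rw [e]
  · -- (q-1)(q+1)(q^2+1)
    have R : RealAff F (K2 × ((Fin 2 → F) × (Fin 2 → F))) false true _ := affSum Am2 Ap2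
    refine fin' (by rw [Module.finrank_prod, hK2, finrank_P']) R ?_
    have e : num q (0, {1, 2, 4}) = (q ^ 2 + 1) * (q ^ 2 - 1) := by
      simp [num, Phi]
      rw [← i1]; ring
    rw [e]
    exact mul_dvd_lcm_of_coprime (coprime_of_dvd_sub_two o21 (by omega) (by
      have : q ^ 2 + 1 - 2 = q ^ 2 - 1 := by omega
      rw [this])) dvd_rfl dvd_rfl
  · -- (q-1)(q^3+1)
    have R : RealAff F (K3 × ((Fin 1 → F) × (Fin 1 → F))) false true _ := affSum Am3 Ap1
    refine fin' (by rw [Module.finrank_prod, hK3, finrank_P']) R ?_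
    have e : num q (0, {1, 2, 6}) = (q ^ 3 + 1) * (q - 1) := by
      simp [num, Phi]
      rw [← i2]; ring
    rw [e]
    refine mul_dvd_lcm_of_coprime (coprime_of_dvd_sub_two o31 (by omega) ?_) dvd_rfl dvd_rfl
    have : q ^ 3 + 1 - 2 = q ^ 3 - 1 := by omega
    rw [this, ← i3]
    exact dvd_mul_right _ _
  · -- (q+1)(q^3-1)
    have R : RealAff F (((Fin 3 → F) × (Fin 3 → F)) × K1) false true _ := affSum Ap3 Am1
    refine fin' (by rw [Module.finrank_prod, hK1, finrank_P']) R ?_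
    have e : num q (0, {1, 2, 3}) = (q ^ 3 - 1) * (q + 1) := by
      simp [num, Phi]
      rw [← i3]; ring
    rw [e]
    refine mul_dvd_lcm_of_coprime (coprime_of_dvd_add_two o3m ?_) dvd_rfl dvd_rfl
    have : q ^ 3 - 1 + 2 = q ^ 3 + 1 := by omega
    rw [this, ← i2]
    exact dvd_mul_right _ _
  · -- 2(q+1)(q^2+1)
    have R : RealAff F ((K2 × K1) × (Fin 2 → F)) false true _ := affSum (affSum Am2 Am1) Aim
    refine fin' (by rw [Module.finrank_prod, Module.finrank_prod, hK2, hK1, Module.finrank_fin_fun]) R ?_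
    have e : num q (1, {2, 4}) = ((q ^ 2 + 1) * (q + 1)) * 2 := by
      simp [num, Phi]
      ring
    rw [e]
    have c1 : Nat.Coprime (q ^ 2 + 1) (q + 1) := by
      refine coprime_of_dvd_sub_two o21 (by omega) ?_
      have : q ^ 2 + 1 - 2 = q ^ 2 - 1 := by omega
      rw [this, ← i1]
      exact dvd_mul_left _ _
    refine mul_dvd_lcm_of_coprime ?_ (mul_dvd_lcm_of_coprime c1 dvd_rfl dvd_rfl) dvd_rfl
    have := coprime_two_pow_of_odd (X := (q ^ 2 + 1) * (q + 1)) (by
      intro h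
      rcases (Nat.Prime.dvd_mul Nat.prime_two).mp h with h | h
      · exact o21 h
      · exact o2 h) 1
    simpa using this
  · -- 2(q-1)(q^2+1)
    have R : RealAff F ((K2 × ((Fin 1 → F) × (Fin 1 → F))) × ((Fin 1 → F) × (Fin 1 → F))) false true _ :=
      affSum (affSum Am2 Ap1) Aip
    refine fin' (by rw [Module.finrank_prod, Module.finrank_prod, hK2, finrank_P']) R ?_
    have e : num q (1, {1, 4}) = ((q ^ 2 + 1) * (q - 1)) * 2 := by
      simp [num, Phi]
      ring
    rw [e]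
    have c1 : Nat.Coprime (q ^ 2 + 1) (q - 1) := by
      refine coprime_of_dvd_sub_two o21 (by omega) ?_
      have : q ^ 2 + 1 - 2 = q ^ 2 - 1 := by omega
      rw [this, ← i1]
      exact dvd_mul_right _ _
    refine mul_dvd_lcm_of_coprime ?_ (mul_dvd_lcm_of_coprime c1 dvd_rfl dvd_rfl) dvd_rfl
    have := coprime_two_pow_of_odd (X := (q ^ 2 + 1) * (q - 1)) (by
      intro h
      rcases (Nat.Prime.dvd_mul Nat.prime_two).mp h with h | h
      · exact o21 h
      · exact o1 h) 1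
    simpa using this
  · -- 4(q-1)(q+1)
    have R : RealAff F ((K1 × ((Fin 1 → F) × (Fin 1 → F))) × ((Fin 2 → F) × (Fin 2 → F))) false true _ :=
      affSum (affSum Am1 Ap1) Aj2
    refine fin' (by rw [Module.finrank_prod, Module.finrank_prod, hK1, finrank_P', finrank_P']) R ?_
    have e : num q (2, {1, 2}) = ((q + 1) * (q - 1)) * 4 := by
      simp [num, Phi]
      ring
    rw [e]
    have c1 : Nat.Coprime (q + 1) (q - 1) := by
      refine coprime_of_dvd_sub_two o2 (by omega) ?_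
      have : q + 1 - 2 = q - 1 := by omega
      rw [this]
    refine mul_dvd_lcm_of_coprime ?_ (mul_dvd_lcm_of_coprime c1 dvd_rfl dvd_rfl) dvd_rfl
    have := coprime_two_pow_of_odd (X := (q + 1) * (q - 1)) (by
      intro h
      rcases (Nat.Prime.dvd_mul Nat.prime_two).mp h with h | h
      · exact o2 h
      · exact o1 h) 2
    simpa using this
  · -- 2(q^3+1)
    have R : RealAff F (K3 × ((Fin 1 → F) × (Fin 1 → F))) false true _ := affSum Am3 Aip
    refine fin' (by rw [Module.finrank_prod, hK3, finrank_P']) R ?_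
    have e : num q (1, {2, 6}) = (q ^ 3 + 1) * 2 := by
      simp [num, Phi]
      rw [← i2]; ring
    rw [e]
    refine mul_dvd_lcm_of_coprime ?_ dvd_rfl dvd_rfl
    simpa using coprime_two_pow_of_odd o31 1
  · -- 2(q^3-1)
    have R : RealAff F (((Fin 3 → F) × (Fin 3 → F)) × (Fin 2 → F)) false true _ := affSum Ap3 Aim
    refine fin' (by rw [Module.finrank_prod, finrank_P', Module.finrank_fin_fun]) R ?_
    have e : num q (1, {1, 3}) = (q ^ 3 - 1) * 2 := by
      simp [num, Phi]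
      rw [← i3]; ring
    rw [e]
    refine mul_dvd_lcm_of_coprime ?_ dvd_rfl dvd_rfl
    simpa using coprime_two_pow_of_odd o3m 1
  · -- 4(q^2+1)
    have R : RealAff F (K2 × ((Fin 2 → F) × (Fin 2 → F))) false true _ := affSum Am2 Aj2
    refine fin' (by rw [Module.finrank_prod, hK2, finrank_P']) R ?_
    have e : num q (2, {4}) = (q ^ 2 + 1) * 4 := by
      simp [num, Phi]
      ring
    rw [e]
    refine mul_dvd_lcm_of_coprime ?_ dvd_rfl dvd_rfl
    simpa using coprime_two_pow_of_odd o21 2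
  · -- 8(q+1)
    have R : RealAff F ((K1 × ((Fin 2 → F) × (Fin 2 → F))) × ((Fin 1 → F) × (Fin 1 → F))) false true _ :=
      affSum (affSum Am1 Au4) Arp
    refine fin' (by rw [Module.finrank_prod, Module.finrank_prod, hK1, finrank_P', finrank_P']) R ?_
    have e : num q (3, {2}) = (q + 1) * 8 := by
      simp [num, Phi]
      ring
    rw [e]
    refine dvd_trans (mul_dvd_lcm_of_coprime ?_ dvd_rfl dvd_rfl) (Nat.dvd_lcm_left _ _)
    simpa using coprime_two_pow_of_odd o2 3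
  · -- 8(q-1)
    have R : RealAff F ((((Fin 1 → F) × (Fin 1 → F)) × ((Fin 2 → F) × (Fin 2 → F))) × (Fin 2 → F)) false true _ :=
      affSum (affSum Ap1 Au4) Arm
    refine fin' (by rw [Module.finrank_prod, Module.finrank_prod, finrank_P', finrank_P', Module.finrank_fin_fun]) R ?_
    have e : num q (3, {1}) = (q - 1) * 8 := by
      simp [num, Phi]
      ring
    rw [e]
    refine dvd_trans (mul_dvd_lcm_of_coprime ?_ dvd_rfl dvd_rfl) (Nat.dvd_lcm_left _ _)
    simpa using coprime_two_pow_of_odd o1 3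

end Cfsg.Agent.Lib.Helper15.SO9
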