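import Mathlib
import Cfsg.Agent.Lib.Helper15.SO8e
import Cfsg.Agent.Lib.Helper15.SO8i
import Cfsg.Agent.Lib.Helper10.S3589E
import Cfsg.Agent.Lib.Helper15.SO9e
import Cfsg.Agent.Lib.Helper15.SO9f

/-!
# S3590, part h: arbitrarily large groups with the spectrum of `PSp_8(q)`, `q` even
-/

set_option autoImplicit false
set_option linter.unusedSectionVars false

namespace Cfsg.Agent.Lib.Helper15.SO9

open Module QuadraticMap Polynomial Cfsg.Agent.Lib.Helper15 Cfsg.Agent.Lib.Helper15.SO8 Cfsg.Agent.Lib.Helper13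

universe u

variable {F : Type u} [Field F] [Fintype F] [CharP F 2]

theorem range_orderOf_subset {A : Type*} {B : Type*} [Group A] [Group B] [Finite A] [Finite B] (L : List ℕ)
    (h1 : ∀ x : A, ∃ n ∈ L, x ^ n = 1) (h2 : ∀ n ∈ L, ∃ y : B, n ∣ orderOf y) :
    Set.range (orderOf : A → ℕ) ⊆ Set.range (orderOf : B → ℕ) := by
  rintro _ ⟨x, rfl⟩
  obtain ⟨n, hn, hx⟩ := h1 x
  obtain ⟨y, hy⟩ := h2 n hn
  have hd : orderOf x ∣ orderOf y := (orderOf_dvd_of_pow_eq_one hx).trans hy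
  obtain ⟨c, hc⟩ := hd
  have hpos : 0 < orderOf y := orderOf_pos y
  have hc0 : 0 < c := by
    rcases Nat.eq_zero_or_pos c with h0 | h0
    · rw [h0, mul_zero] at hc; omega
    · exact h0
  refine ⟨y ^ c, ?_⟩
  rw [orderOf_pow' y (by omega), hc, Nat.gcd_mul_left_left]
  exact Nat.mul_div_cancel _ hc0

/-- two finite groups whose element orders are governed by the same list of numbers have the same spectrum -/
theorem range_orderOf_eq {X : Type*} {Y : Type*} [Group X] [Group Y] [Finite X] [Finite Y] (L : List ℕ)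
    (hX1 : ∀ x : X, ∃ n ∈ L, x ^ n = 1) (hX2 : ∀ n ∈ L, ∃ x : X, n ∣ orderOf x)
    (hY1 : ∀ y : Y, ∃ n ∈ L, y ^ n = 1) (hY2 : ∀ n ∈ L, ∃ y : Y, n ∣ orderOf y) :
    Set.range (orderOf : X → ℕ) = Set.range (orderOf : Y → ℕ) :=
  Set.eq_of_subset_of_subset (range_orderOf_subset L hX1 hY2) (range_orderOf_subset L hY1 hX2)

theorem main (M : ℕ) :
    ∃ (H : Type) (_ : Group H) (_ : Fintype H), M < Fintype.card H ∧
      Set.range (orderOf : H → ℕ) = Set.range (orderOf : Cfsg.PSp 4 F → ℕ) := by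
  classical
  obtain ⟨a, b, hab⟩ := exists_aniso (F := F)
  -- the big group
  let X := Aff ↥(Om a b hab) (Fin (M + 1) → V₀ F)
  have hfinV : Finite (V₀ F) := inferInstance
  have hfinL : Finite (V₀ F ≃ₗ[F] V₀ F) :=
    Finite.of_injective (fun e : V₀ F ≃ₗ[F] V₀ F => (e : V₀ F → V₀ F)) DFunLike.coe_injective
  have hfinI : Finite ↥(isoGroup (Q₀ a b)) := inferInstance
  have hfinO : Finite ↥(Om a b hab) := inferInstance
  have hfinX : Finite X := inferInstance
  -- the spectrum of `X`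
  have hq : Fintype.card F = Fintype.card F := rfl
  let L : List ℕ := LL.map (num (Fintype.card F))
  have hX1 : ∀ x : X, ∃ n ∈ L, x ^ n = 1 := by
    intro x
    obtain ⟨p, hp, hx⟩ := aff_pow_eq_one a b hab (M + 1) x
    exact ⟨_, List.mem_map.mpr ⟨p, hp, rfl⟩, hx⟩
  have hX2 : ∀ n ∈ L, ∃ x : X, n ∣ orderOf x := by
    intro n hn
    obtain ⟨p, hp, rfl⟩ := List.mem_map.mp hn
    exact exists_aff_of_mem_LL a b hab M p hp
  have hY1 : ∀ y : Cfsg.PSp 4 F, ∃ n ∈ L, y ^ n = 1 := by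
    intro y
    obtain ⟨A, rfl⟩ := QuotientGroup.mk_surjective y
    obtain ⟨p, hp, hA⟩ := sp8_pow_eq_one A
    refine ⟨_, List.mem_map.mpr ⟨p, hp, rfl⟩, ?_⟩
    rw [← QuotientGroup.mk_pow, hA]
    rfl
  have hY2 : ∀ n ∈ L, ∃ y : Cfsg.PSp 4 F, n ∣ orderOf y := by
    intro n hn
    obtain ⟨p, hp, rfl⟩ := List.mem_map.mp hn
    obtain ⟨h, hh⟩ := exists_isometry_of_mem_LL a b hab p hp
    obtain ⟨y, hy⟩ := Cfsg.Agent.Lib.Helper10.S3589.sp_of_isometry a b hab h
    exact ⟨y, hy ▸ hh⟩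
  have hYfin : Finite (Cfsg.PSp 4 F) := inferInstance
  have hspec := range_orderOf_eq L hX1 hX2 hY1 hY2
  -- the cardinality
  have hcard : M < Nat.card X := by
    rw [Aff.card_eq]
    have h1 : 0 < Nat.card ↥(Om a b hab) := Nat.card_pos
    have h2 : M < Nat.card (Fin (M + 1) → V₀ F) := by
      rw [Nat.card_eq_fintype_card, Fintype.card_fun, Fintype.card_fin]
      have h3 : 2 ≤ Fintype.card (V₀ F) := by
        have : Nontrivial (V₀ F) := inferInstance
        exact Fintype.one_lt_card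
      calc M < 2 ^ (M + 1) := by
            have := Nat.lt_two_pow_self (n := M + 1)
            omega
        _ ≤ Fintype.card (V₀ F) ^ (M + 1) := Nat.pow_le_pow_left h3 _
    calc M < Nat.card (Fin (M + 1) → V₀ F) := h2
      _ ≤ Nat.card ↥(Om a b hab) * Nat.card (Fin (M + 1) → V₀ F) := Nat.le_mul_of_pos_left _ h1
  -- transport to `Type`
  have hsmall : Small.{0} X := inferInstance
  let em : Shrink.{0} X ≃* X := Shrink.mulEquiv
  let fin : Fintype (Shrink.{0} X) := Fintype.ofFinite _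
  refine ⟨Shrink.{0} X, inferInstance, fin, ?_, ?_⟩
  · rw [← Nat.card_eq_fintype_card, Nat.card_congr em.toEquiv]
    exact hcard
  · rw [← hspec]
    apply Set.eq_of_subset_of_subset
    · rintro _ ⟨x, rfl⟩
      exact ⟨em x, MulEquiv.orderOf_eq em x⟩
    · rintro _ ⟨x, rfl⟩
      exact ⟨em.symm x, MulEquiv.orderOf_eq em.symm x⟩

end Cfsg.Agent.Lib.Helper15.SO9
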