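import Mathlib
import Cfsg.Agent.Lib.Helper15.ProjPts
set_option autoImplicit false
namespace Cfsg.Agent.Lib.Helper15

open Projectivization
open scoped LinearAlgebra.Projectivization

section dc

theorem double_count {P : Type*} [DecidableEq P] (Tf : Finset (Equiv.Perm P)) (Lf : Finset P)
    (h : ∀ b ∈ Lf, ∀ c ∈ Lf, (Tf.filter (fun t => t b = c)).card = 1) :
    ∑ t ∈ Tf, (Lf.filter (fun b => t b ∈ Lf)).card = Lf.card * Lf.card := by
  calc ∑ t ∈ Tf, (Lf.filter (fun b => t b ∈ Lf)).card
      = ∑ t ∈ Tf, ∑ b ∈ Lf, ∑ c ∈ Lf, (if t b = c then 1 else 0) := by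
        apply Finset.sum_congr rfl
        intro t _
        rw [Finset.card_filter]
        apply Finset.sum_congr rfl
        intro b _
        rw [Finset.sum_ite_eq]
    _ = ∑ b ∈ Lf, ∑ c ∈ Lf, ∑ t ∈ Tf, (if t b = c then 1 else 0) := by
        rw [Finset.sum_comm]
        apply Finset.sum_congr rfl
        intro b _
        rw [Finset.sum_comm]
    _ = ∑ b ∈ Lf, ∑ c ∈ Lf, 1 := by
        apply Finset.sum_congr rfl
        intro b hb
        apply Finset.sum_congr rfl
        intro c hc
        rw [← Finset.card_filter]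
        exact h b hb c hc
    _ = Lf.card * Lf.card := by simp

theorem exists_ne_zero_map_eq_zero {V X : Type*} [AddCommGroup V] [AddCommGroup X] [Finite V] [Finite X]
    (g : V →+ X) (hc : Nat.card X < Nat.card V) : ∃ w : V, w ≠ 0 ∧ g w = 0 := by
  classical
  haveI : Fintype V := Fintype.ofFinite V
  haveI : Fintype X := Fintype.ofFinite X
  rw [Nat.card_eq_fintype_card, Nat.card_eq_fintype_card] at hc
  obtain ⟨x, y, hxy, hg⟩ := Fintype.exists_ne_map_eq_of_card_lt g hc
  exact ⟨x - y, sub_ne_zero.2 hxy, by rw [map_sub, hg, sub_self]⟩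

end dc

section main
variable {F : Type*} [Field F] [Finite F]

theorem no_sharply_two_transitive (n : ℕ) (hn : 3 ≤ n) (S : Set (Equiv.Perm (ℙ F (Fin n → F))))
    (hS : ∀ s ∈ S, ∃ (σ : F ≃+* F) (f : (Fin n → F) →ₛₗ[(σ : F →+* F)] (Fin n → F)) (hf : Function.Injective f),
      ∀ x, s x = Projectivization.map f hf x) :
    ¬ (∀ a b c d : ℙ F (Fin n → F), a ≠ b → c ≠ d → ∃! s, s ∈ S ∧ s a = c ∧ s b = d) := by
  classical
  intro H
  haveI : Fintype F := Fintype.ofFinite F
  haveI : Fintype (ℙ F (Fin n → F)) := Fintype.ofFinite _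
  have hq : 1 < Nat.card F := Finite.one_lt_card
  haveI : Fact (1 < Nat.card F) := ⟨hq⟩
  let i₀ : Fin n := ⟨0, by omega⟩
  let φ : (Fin n → F) →ₗ[F] F := LinearMap.proj i₀
  let e₀ : Fin n → F := Pi.single i₀ 1
  have he₀ : e₀ ≠ 0 := by
    intro h
    have := congrFun h i₀
    simp [e₀] at this
  let a : ℙ F (Fin n → F) := Projectivization.mk F e₀ he₀
  let K : Submodule F (Fin n → F) := LinearMap.ker φ
  have haK : a.rep ∉ K := by
    rw [rep_mem_iff]
    simp [K, φ, e₀]
  have hcardV : Nat.card (Fin n → F) = Nat.card F ^ n := by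
    rw [Nat.card_fun, Nat.card_eq_fintype_card (α := Fin n), Fintype.card_fin]
  -- the hyperplane has a nonzero vector
  have hK : K ≠ ⊥ := by
    obtain ⟨w, hw0, hw⟩ := exists_ne_zero_map_eq_zero φ.toAddMonoidHom (by
      rw [hcardV]
      calc Nat.card F = Nat.card F ^ 1 := (pow_one _).symm
        _ < Nat.card F ^ n := Nat.pow_lt_pow_right hq (by omega))
    intro hbot
    have : w ∈ K := hw
    rw [hbot, Submodule.mem_bot] at this
    exact hw0 this
  set Lf : Finset (ℙ F (Fin n → F)) := Finset.univ.filter (fun x => x.rep ∈ K) with hLf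
  set Tf : Finset (Equiv.Perm (ℙ F (Fin n → F))) := Finset.univ.filter (fun s => s ∈ S ∧ s a = a) with hTf
  have cardfilter : ∀ (W : Submodule F (Fin n → F)), W ≠ ⊥ →
      (((Finset.univ.filter (fun x : ℙ F (Fin n → F) => x.rep ∈ W)).card : ℕ) : ZMod (Nat.card F)) = 1 := by
    intro W hW
    rw [← card_ptsIn_mod W hW]
    congr 1
    rw [Nat.card_eq_fintype_card, Fintype.card_subtype]
  have hLcard : ((Lf.card : ℕ) : ZMod (Nat.card F)) = 1 := cardfilter K hK
  have haL : a ∉ Lf := by
    rw [hLf, Finset.mem_filter]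
    exact fun h => haK h.2
  -- uniqueness gives fibre cardinality one
  have fibre : ∀ b d : ℙ F (Fin n → F), b ≠ a → d ≠ a → (Tf.filter (fun t => t b = d)).card = 1 := by
    intro b d hb hd
    obtain ⟨s₀, ⟨hs₀S, hs₀a, hs₀b⟩, huniq⟩ := H a b a d (Ne.symm hb) (Ne.symm hd)
    rw [Finset.card_eq_one]
    refine ⟨s₀, ?_⟩
    ext t
    rw [Finset.mem_filter, hTf, Finset.mem_filter, Finset.mem_singleton]
    constructor
    · rintro ⟨⟨-, htS, hta⟩, htb⟩
      exact huniq t ⟨htS, hta, htb⟩
    · rintro rfl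
      exact ⟨⟨Finset.mem_univ _, hs₀S, hs₀a⟩, hs₀b⟩
  have hdc := double_count Tf Lf (by
    intro b hb c hc
    exact fibre b c (fun h => haL (h ▸ hb)) (fun h => haL (h ▸ hc)))
  -- each term is 1 mod q
  have hterm : ∀ t ∈ Tf, (((Lf.filter (fun b => t b ∈ Lf)).card : ℕ) : ZMod (Nat.card F)) = 1 := by
    intro t ht
    rw [hTf, Finset.mem_filter] at ht
    obtain ⟨σ, f, hf, hmap⟩ := hS t ht.2.1
    set W : Submodule F (Fin n → F) := K ⊓ K.comap f with hW
    have hWne : W ≠ ⊥ := by
      obtain ⟨w, hw0, hw⟩ := exists_ne_zero_map_eq_zero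
        (AddMonoidHom.prod φ.toAddMonoidHom (φ.toAddMonoidHom.comp f.toAddMonoidHom)) (by
        rw [hcardV, Nat.card_prod, ← pow_two]
        exact Nat.pow_lt_pow_right hq (by omega))
      have hw' := Prod.ext_iff.1 hw
      intro hbot
      have : w ∈ W := by
        rw [hW, Submodule.mem_inf, Submodule.mem_comap]
        exact ⟨hw'.1, hw'.2⟩
      rw [hbot, Submodule.mem_bot] at this
      exact hw0 this
    have hset : Lf.filter (fun b => t b ∈ Lf) = Finset.univ.filter (fun x : ℙ F (Fin n → F) => x.rep ∈ W) := by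
      ext x
      simp only [hLf, Finset.mem_filter, Finset.mem_univ, true_and]
      induction x using Projectivization.ind with
      | h v hv =>
        rw [hmap, Projectivization.map_mk, rep_mem_iff, rep_mem_iff, rep_mem_iff, hW, Submodule.mem_inf,
          Submodule.mem_comap]
    rw [hset]
    exact cardfilter W hWne
  -- cardinality of Tf
  have hPcard : ((Fintype.card (ℙ F (Fin n → F)) : ℕ) : ZMod (Nat.card F)) = 1 := by
    have h1 := cardfilter ⊤ (by
      intro h
      have : e₀ ∈ (⊤ : Submodule F (Fin n → F)) := Submodule.mem_top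
      rw [h, Submodule.mem_bot] at this
      exact he₀ this)
    have h2 : (Finset.univ.filter (fun x : ℙ F (Fin n → F) => x.rep ∈ (⊤ : Submodule F (Fin n → F)))) = Finset.univ := by
      ext x; simp
    rw [h2, Finset.card_univ] at h1
    exact h1
  have hLne : Lf.Nonempty := by
    rw [← Finset.card_pos]
    by_contra h
    have h0 : Lf.card = 0 := by omega
    rw [h0, Nat.cast_zero] at hLcard
    exact zero_ne_one hLcard
  obtain ⟨b₀, hb₀⟩ := hLne
  have hb₀a : b₀ ≠ a := fun h => haL (h ▸ hb₀)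
  have hTcard : Tf.card = Fintype.card (ℙ F (Fin n → F)) - 1 := by
    rw [Finset.card_eq_sum_card_fiberwise (f := fun t : Equiv.Perm (ℙ F (Fin n → F)) => t b₀) (t := Finset.univ.erase a)]
    · rw [Finset.sum_congr rfl (fun d hd => fibre b₀ d hb₀a (Finset.ne_of_mem_erase hd))]
      simp
    · intro t ht
      rw [Finset.mem_coe, hTf, Finset.mem_filter] at ht
      rw [Finset.mem_coe, Finset.mem_erase]
      refine ⟨?_, Finset.mem_univ _⟩
      intro h
      have h' : t b₀ = a := h
      apply hb₀a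
      apply t.injective
      rw [h', ht.2.2]
  have hTz : ((Tf.card : ℕ) : ZMod (Nat.card F)) = 0 := by
    rw [hTcard, Nat.cast_sub (Fintype.card_pos_iff.2 ⟨a⟩), hPcard, Nat.cast_one, sub_self]
  have hsum : ((∑ t ∈ Tf, (Lf.filter (fun b => t b ∈ Lf)).card : ℕ) : ZMod (Nat.card F)) = (Tf.card : ZMod (Nat.card F)) := by
    rw [Nat.cast_sum, Finset.sum_congr rfl hterm]
    simp
  rw [hdc, hTz, Nat.cast_mul, hLcard, mul_one] at hsum
  exact one_ne_zero hsum

end main
end Cfsg.Agent.Lib.Helper15
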