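import Mathlib
import Cfsg.Agent.Lib.Helper15.Dk23

/-!
# Solubilizers in `PSL₂(2^p)`, part 1: general group theory and the structure of proper subgroups
-/

set_option autoImplicit false

open scoped Pointwise

namespace Cfsg.Agent.Lib.Helper15.Sol

open Matrix
open Cfsg.Agent.Lib.Helper14
open Cfsg.Agent.Lib.Helper15
open Cfsg.Agent.Lib.Helper15.Dk

section groups

/-- exponent as an integer -/
def zi (i : ZMod 0) : ℤ := i

theorem zi_add (i j : ZMod 0) : zi (i + j) = zi i + zi j := rfl
theorem zi_sub (i j : ZMod 0) : zi (i - j) = zi i - zi j := rfl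
theorem zi_zero : zi 0 = 0 := rfl
theorem zi_one : zi 1 = 1 := rfl

/-- the homomorphism from the infinite dihedral group attached to an involution inverting an element -/
def dihedralHom {G : Type*} [Group G] (x ρ : G) (hx : x * x = 1) (hinv : x * ρ * x⁻¹ = ρ⁻¹) :
    DihedralGroup 0 →* G :=
  MonoidHom.mk' (fun d => match d with
    | DihedralGroup.r i => ρ ^ zi i
    | DihedralGroup.sr i => x * ρ ^ zi i) (by
    have hconj : ∀ k : ℤ, x * ρ ^ k = ρ ^ (-k) * x := by
      intro k
      have h1 : x * ρ ^ k * x⁻¹ = (x * ρ * x⁻¹) ^ k := by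
        rw [← MulAut.conj_apply, map_zpow, MulAut.conj_apply]
      rw [hinv, _root_.inv_zpow, ← _root_.zpow_neg] at h1
      rw [← h1]; group
    intro a b
    rcases a with i | i <;> rcases b with j | j
    · show ρ ^ zi (i + j) = ρ ^ zi i * ρ ^ zi j
      rw [zi_add, _root_.zpow_add]
    · show x * ρ ^ zi (j - i) = ρ ^ zi i * (x * ρ ^ zi j)
      rw [zi_sub, ← mul_assoc, ← neg_neg (zi i), ← hconj, mul_assoc, ← _root_.zpow_add]
      congr 2; ring
    · show x * ρ ^ zi (i + j) = x * ρ ^ zi i * ρ ^ zi j
      rw [zi_add, _root_.zpow_add, mul_assoc]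
    · show ρ ^ zi (j - i) = x * ρ ^ zi i * (x * ρ ^ zi j)
      rw [zi_sub, hconj, mul_assoc, ← mul_assoc x x, hx, one_mul, ← _root_.zpow_add]
      congr 1; ring)

/-- two involutions generate a solvable group -/
theorem isSolvable_closure_pair {G : Type*} [Group G] (x z : G) (hx : x * x = 1) (hz : z * z = 1) :
    Group.IsSolvable (Subgroup.closure ({x, z} : Set G)) := by
  have hxi : x⁻¹ = x := inv_eq_of_mul_eq_one_right hx
  have hzi : z⁻¹ = z := inv_eq_of_mul_eq_one_right hz
  have hinv : x * (x * z) * x⁻¹ = (x * z)⁻¹ := by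
    rw [_root_.mul_inv_rev, hxi, hzi, ← mul_assoc, hx, one_mul]
  set φ := dihedralHom x (x * z) hx hinv with hφ
  have h1 : Subgroup.closure ({x, z} : Set G) ≤ φ.range := by
    rw [Subgroup.closure_le]
    intro y hy
    rcases hy with rfl | rfl
    · refine ⟨DihedralGroup.sr 0, ?_⟩
      show y * (y * z) ^ zi 0 = y
      rw [zi_zero, zpow_zero, mul_one]
    · refine ⟨DihedralGroup.sr 1, ?_⟩
      show x * (x * y) ^ zi 1 = y
      rw [zi_one, zpow_one, ← mul_assoc, hx, one_mul]
  have : Group.IsSolvable (DihedralGroup 0) := isSolvable_dihedral 0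
  have h2 : Group.IsSolvable φ.range :=
    Group.isSolvable_of_surjective (f := φ.rangeRestrict) φ.rangeRestrict_surjective
  exact Group.isSolvable_of_isSolvable_injective (Subgroup.inclusion_injective h1)

/-- a subgroup of a solvable subgroup is solvable -/
theorem isSolvable_of_le {G : Type*} [Group G] {H K : Subgroup G} (h : H ≤ K) (hK : Group.IsSolvable K) :
    Group.IsSolvable H :=
  Group.isSolvable_of_isSolvable_injective (Subgroup.inclusion_injective h)

/-- the closure of a pair inside a solvable subgroup is solvable -/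
theorem isSolvable_closure_of_mem {G : Type*} [Group G] {K : Subgroup G} (hK : Group.IsSolvable K)
    {x y : G} (hx : x ∈ K) (hy : y ∈ K) : Group.IsSolvable (Subgroup.closure ({x, y} : Set G)) := by
  apply isSolvable_of_le _ hK
  rw [Subgroup.closure_le]
  intro z hz
  rcases hz with rfl | rfl
  · exact hx
  · exact hy

/-- conjugates of solvable subgroups are solvable -/
theorem isSolvable_conj_smul {G : Type*} [Group G] (c : G) (K : Subgroup G) (hK : Group.IsSolvable K) :
    Group.IsSolvable (MulAut.conj c • K : Subgroup G) :=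
  Group.isSolvable_of_surjective (f := (Subgroup.equivSMul (MulAut.conj c) K).toMonoidHom)
    (Subgroup.equivSMul (MulAut.conj c) K).surjective

/-- solvability of the closure of a pair is invariant under simultaneous conjugation -/
theorem isSolvable_closure_conj_iff {G : Type*} [Group G] (c x y : G) :
    Group.IsSolvable (Subgroup.closure ({c * x * c⁻¹, c * y * c⁻¹} : Set G)) ↔
      Group.IsSolvable (Subgroup.closure ({x, y} : Set G)) := by
  have hf : Function.Injective (MulAut.conj c).toMonoidHom := (MulAut.conj c).injective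
  have h1 : Subgroup.closure ({c * x * c⁻¹, c * y * c⁻¹} : Set G) =
      (Subgroup.closure ({x, y} : Set G)).map (MulAut.conj c).toMonoidHom := by
    rw [MonoidHom.map_closure, Set.image_pair]
    rfl
  rw [h1]
  have e := Subgroup.equivMapOfInjective (Subgroup.closure ({x, y} : Set G)) _ hf
  constructor
  · intro h
    exact Group.isSolvable_of_surjective (f := e.symm.toMonoidHom) e.symm.surjective
  · intro h
    exact Group.isSolvable_of_surjective (f := e.toMonoidHom) e.surjective

/-- the solubilizer counts of conjugate elements agree -/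
theorem card_sol_conj {G : Type*} [Group G] (c x : G) :
    Nat.card {y : G // Group.IsSolvable ↥(Subgroup.closure ({c * x * c⁻¹, y} : Set G))} =
      Nat.card {y : G // Group.IsSolvable ↥(Subgroup.closure ({x, y} : Set G))} := by
  symm
  apply Nat.card_congr
  refine Equiv.subtypeEquiv (MulAut.conj c).toEquiv ?_
  intro y
  show _ ↔ Group.IsSolvable ↥(Subgroup.closure ({c * x * c⁻¹, c * y * c⁻¹} : Set G))
  rw [isSolvable_closure_conj_iff]

end groups

end Cfsg.Agent.Lib.Helper15.Sol
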