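import Mathlib
import Cfsg.Agent.Lib.Helper15.Sol1

/-!
# Solubilizers in `PSL₂(2^p)`, part 2: the structure of proper subgroups of `PSL₂(2^p)`, `p` prime
-/

set_option autoImplicit false

open scoped Pointwise

namespace Cfsg.Agent.Lib.Helper15.Sol

open Matrix
open Cfsg.Agent.Lib.Helper14
open Cfsg.Agent.Lib.Helper15
open Cfsg.Agent.Lib.Helper15.Dk

variable {F : Type*} [Field F] [Fintype F]

/-- general form of the subfield case in characteristic two -/
theorem cfg_char_two_general (h2 : (2 : F) = 0) (M : Subgroup (ProjectiveSpecialLinearGroup (Fin 2) F))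
    (b₁ : F) (w : SpecialLinearGroup (Fin 2) F) (c : Cfg (M.comap (toPSL2 F)) b₁ w) :
    ∃ (K : Type) (_ : Field K) (_ : Fintype K) (m : ℕ), Fintype.card K ^ m = Fintype.card F ∧
      (2 : K) = 0 ∧ Nonempty (M ≃* ProjectiveSpecialLinearGroup (Fin 2) K) := by
  obtain ⟨K, i1, i2, m, f, hm, hf⟩ := exists_type_field (multField (M.comap (toPSL2 F)))
  have h2K : (2 : K) = 0 := by
    apply f.injective
    rw [map_ofNat, map_zero]
    exact h2
  refine ⟨K, i1, i2, m, hm, h2K, ?_⟩
  rcases psl_or_pgl M b₁ w c f hf with h | ⟨⟨e⟩⟩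
  · exact h
  · obtain ⟨e'⟩ := pgl_equiv_psl_char_two K h2K
    exact ⟨e.trans e'⟩

omit [Fintype F] in
/-- a subgroup of order six has a normal torus part, in characteristic two -/
theorem hasNormalTorus_of_card_six (h2 : (2 : F) = 0)
    (M' : Subgroup (ProjectiveSpecialLinearGroup (Fin 2) F)) (hcard6 : Nat.card M' = 6) :
    HasNormalTorus M' := by
  have hfin : Finite M' := Nat.finite_of_card_ne_zero (by rw [hcard6]; norm_num)
  have : Fact (Nat.Prime 3) := ⟨Nat.prime_three⟩
  obtain ⟨y, hy⟩ := exists_prime_orderOf_dvd_card' (G := M') 3 (by rw [hcard6]; norm_num)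
  obtain ⟨g, hg⟩ := toPSL2_surjective (y : ProjectiveSpecialLinearGroup (Fin 2) F)
  have hy1 : y ≠ 1 := by
    rintro rfl
    rw [orderOf_one] at hy
    omega
  have hy2 : (y : ProjectiveSpecialLinearGroup (Fin 2) F) ^ 2 ≠ 1 := by
    intro h
    have h1 : y ^ 2 = 1 := Subtype.ext (by simpa using h)
    have h3 : orderOf y ∣ 2 := orderOf_dvd_of_pow_eq_one h1
    rw [hy] at h3
    omega
  have hidx : (Subgroup.zpowers y).index = 2 := by
    have h1 := Subgroup.card_mul_index (Subgroup.zpowers y)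
    rw [Nat.card_zpowers, hy, hcard6] at h1
    omega
  have hnormal : (Subgroup.zpowers y).Normal := Subgroup.normal_of_index_eq_two hidx
  refine ⟨g, ?_, trace_sq_ne_four_of_sq_ne_one h2 g (by rw [hg]; exact hy2), by rw [hg]; exact y.2, ?_⟩
  · intro hs
    apply hy1
    apply Subtype.ext
    rw [← hg]
    exact (toPSL2_eq_one_iff' g).2 hs
  · intro m hm
    rw [hg]
    have h1 := hnormal.conj_mem y (Subgroup.mem_zpowers y) ⟨m, hm⟩
    obtain ⟨i, hi⟩ := Subgroup.mem_zpowers_iff.1 h1
    refine Subgroup.mem_zpowers_iff.2 ⟨i, ?_⟩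
    have h3 := congrArg (fun z : ↥M' => (z : ProjectiveSpecialLinearGroup (Fin 2) F)) hi
    simpa using h3

/-- subgroups of odd order of `PSL₂(2^f)` are abelian -/
theorem comm_of_odd_char_two [CharP F 2] (heven : Even (Fintype.card F))
    (M : Subgroup (ProjectiveSpecialLinearGroup (Fin 2) F)) (hdiv : ¬ 2 ∣ Nat.card M) :
    ∀ a b : M, a * b = b * a := by
  have : Fact (Nat.Prime 2) := ⟨Nat.prime_two⟩
  rcases dickson_facts 2 M with ⟨-, hsq, -⟩ | ⟨-, hcomm, -⟩ | ⟨⟨e'⟩⟩ | ⟨⟨e'⟩⟩ | ⟨⟨e'⟩⟩ | ⟨K', i1, i2, m, hm, hL⟩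
  · exact comm_of_sq_comm_of_odd hdiv hsq
  · intro a b
    have hcop : Nat.Coprime 2 (Nat.card M) := (Nat.Prime.coprime_iff_not_dvd Nat.prime_two).2 hdiv
    exact comm_of_le_of_commutator_pow 2 (le_refl M) hcomm hcop (MulEquiv.refl M) a b
  · exfalso
    apply hdiv
    rw [Nat.card_congr e'.toEquiv, card_A4]
    norm_num
  · exfalso
    apply hdiv
    rw [Nat.card_congr e'.toEquiv, card_S4]
    norm_num
  · exfalso
    apply hdiv
    rw [Nat.card_congr e'.toEquiv, card_A5]
    norm_num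
  · exfalso
    apply hdiv
    have hK1 : 1 < Fintype.card K' := Fintype.one_lt_card
    have hF1 : 1 < Fintype.card F := Fintype.one_lt_card
    have hm0 : m ≠ 0 := by
      rintro rfl
      rw [pow_zero] at hm
      omega
    have h2K : 2 ∣ Fintype.card K' := by
      have h1 : 2 ∣ Fintype.card K' ^ m := by rw [hm]; exact heven.two_dvd
      exact Nat.prime_two.dvd_of_dvd_pow h1
    rcases card_subfield_type K' hL with h | h
    · have hg1 : Nat.gcd 2 (Fintype.card K' - 1) = 1 := by
        rcases (Nat.dvd_prime Nat.prime_two).1 (Nat.gcd_dvd_left 2 (Fintype.card K' - 1)) with h' | h'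
        · exact h'
        · exfalso
          have : 2 ∣ Fintype.card K' - 1 := by rw [← h']; exact Nat.gcd_dvd_right _ _
          omega
      rw [hg1, mul_one] at h
      rw [h]
      exact Dvd.dvd.mul_right h2K _
    · rw [h]
      exact Dvd.dvd.mul_right h2K _

/-- arithmetic: subfield orders of `F_{2^p}`, `p` prime -/
theorem card_subfield_cases (p k m : ℕ) (hp : p.Prime) (hk : 1 < k) (h : k ^ m = 2 ^ p) :
    k = 2 ∨ k = 2 ^ p := by
  have hm0 : m ≠ 0 := by
    rintro rfl
    rw [pow_zero] at h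
    have : 1 < 2 ^ p := Nat.one_lt_two_pow hp.ne_zero
    omega
  have hdvd : k ∣ 2 ^ p := by
    rw [← h]
    exact dvd_pow_self k hm0
  obtain ⟨d, hd, rfl⟩ := (Nat.dvd_prime_pow Nat.prime_two).1 hdvd
  rw [← pow_mul] at h
  have hdm : d * m = p := Nat.pow_right_injective (le_refl 2) h
  have hdp : d ∣ p := ⟨m, hdm.symm⟩
  rcases (Nat.dvd_prime hp).1 hdp with rfl | rfl
  · left; rw [pow_one]
  · right; rfl

/-- the structure of proper subgroups of `PSL₂(2^p)`, `p` prime, up to conjugacy -/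
theorem proper_subgroup_cases (p : ℕ) (hp : p.Prime) (hF : Fintype.card F = 2 ^ p)
    (H : Subgroup (ProjectiveSpecialLinearGroup (Fin 2) F)) (hH : H ≠ ⊤) (hH1 : H ≠ ⊥) :
    ∃ x : ProjectiveSpecialLinearGroup (Fin 2) F,
      HasNormalP 2 (MulAut.conj x • H) ∨ HasNormalTorus (MulAut.conj x • H) := by
  have heven : Even (Fintype.card F) := by
    rw [hF]
    exact (Nat.even_pow.2 ⟨even_two, hp.ne_zero⟩)
  have h2 : (2 : F) = 0 := two_dvd_card_iff.1 heven.two_dvd
  obtain ⟨p', hp'⟩ := CharP.exists F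
  have hpr : Fact p'.Prime := ⟨CharP.char_is_prime F p'⟩
  have hp2 : p' = 2 := by
    have h1 : ((2 : ℕ) : F) = 0 := by exact_mod_cast h2
    have h3 := (CharP.cast_eq_zero_iff F p' 2).1 h1
    exact (Nat.prime_dvd_prime_iff_eq hpr.out Nat.prime_two).1 h3
  subst hp2
  have hcen := center_SL2_eq_bot_of_two h2
  by_cases hdiv : 2 ∣ Nat.card H
  · obtain ⟨x, h | ⟨b₁, w, c⟩ | h | ⟨-, h⟩⟩ := dickson_refined 2 H hdiv
    · exact ⟨x, Or.inl h⟩
    · obtain ⟨K, i1, i2, m, hm, h2K, ⟨e⟩⟩ := cfg_char_two_general h2 (MulAut.conj x • H) b₁ w c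
      have hK1 : 1 < Fintype.card K := Fintype.one_lt_card
      have hcardK := card_PSL2_mul (F := K)
      rw [center_SL2_eq_bot_of_two h2K, Subgroup.card_bot, mul_one] at hcardK
      rw [hF] at hm
      rcases card_subfield_cases p _ m hp hK1 hm with hK2 | hKp
      · refine ⟨x, Or.inr (hasNormalTorus_of_card_six h2 _ ?_)⟩
        rw [Nat.card_congr e.toEquiv, hcardK, hK2]
        norm_num
      · exfalso
        apply hH
        have hcardF := card_PSL2_mul (F := F)
        rw [hcen, Subgroup.card_bot, mul_one] at hcardF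
        have h1 : Nat.card (MulAut.conj x • H : Subgroup (ProjectiveSpecialLinearGroup (Fin 2) F)) =
            Nat.card (ProjectiveSpecialLinearGroup (Fin 2) F) := by
          rw [Nat.card_congr e.toEquiv, hcardK, hcardF, hKp, hF]
        have h3 := (Subgroup.card_eq_iff_eq_top _).1 h1
        rw [eq_top_iff]
        intro g _
        have h4 : x * g * x⁻¹ ∈ MulAut.conj x • H := by rw [h3]; exact Subgroup.mem_top _
        rw [mem_conj_smul] at h4
        have e1 : x⁻¹ * (x * g * x⁻¹) * x = g := by group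
        rw [e1] at h4
        exact h4
    · exact ⟨x, Or.inr h⟩
    · exact (h rfl).elim
  · have hab := comm_of_odd_char_two heven H hdiv
    refine ⟨1, Or.inr ?_⟩
    rw [map_one, one_smul]
    exact hasNormalTorus_of_abelian_odd h2 H hH1 hab hdiv

end Cfsg.Agent.Lib.Helper15.Sol
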