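import Mathlib
import Cfsg.Agent.Lib.Helper15.Sol2

/-!
# Solubilizers in `PSL₂(2^p)`, part 3: overgroups of elements, normal forms
-/

set_option autoImplicit false

open scoped Pointwise

namespace Cfsg.Agent.Lib.Helper15.Sol

open Matrix
open Cfsg.Agent.Lib.Helper14
open Cfsg.Agent.Lib.Helper15
open Cfsg.Agent.Lib.Helper15.Dk

section general
variable {F : Type*} [Field F]

/-- the Weyl element -/
def wS : SpecialLinearGroup (Fin 2) F := nn 1 one_ne_zero

/-- the opposite Borel subgroup -/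
def Bm (F : Type*) [Field F] : Subgroup (ProjectiveSpecialLinearGroup (Fin 2) F) :=
  MulAut.conj (toPSL2 F wS) • Bbar F

theorem conj_wS_10 (g : SpecialLinearGroup (Fin 2) F) :
    ((wS⁻¹ * g * wS : SpecialLinearGroup (Fin 2) F) : Matrix (Fin 2) (Fin 2) F) 1 0 =
      -(g : Matrix (Fin 2) (Fin 2) F) 0 1 := by
  rw [Matrix.SpecialLinearGroup.coe_mul, Matrix.SpecialLinearGroup.coe_mul, Matrix.mul_apply,
    Fin.sum_univ_two, Matrix.mul_apply, Fin.sum_univ_two, Matrix.mul_apply, Fin.sum_univ_two,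
    inv_apply_10, inv_apply_11]
  simp [wS, nn]

theorem mem_Bm_iff (g : SpecialLinearGroup (Fin 2) F) :
    toPSL2 F g ∈ Bm F ↔ (g : Matrix (Fin 2) (Fin 2) F) 0 1 = 0 := by
  unfold Bm
  rw [mem_conj_smul, ← map_inv, ← map_mul, ← map_mul, mem_Bbar_iff]
  unfold Dk.IsB
  rw [conj_wS_10, neg_eq_zero]

/-- a conjugate of the Borel subgroup by an element of the Borel subgroup -/
theorem conj_Bbar_of_isB (m : SpecialLinearGroup (Fin 2) F) (hm : Dk.IsB m) :
    MulAut.conj (toPSL2 F m) • Bbar F = Bbar F :=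
  conj_smul_eq_self_iff.2 (Subgroup.le_normalizer ((mem_Bbar_iff m).2 hm))

/-- a conjugate of the Borel subgroup by an element moving the fixed point to the opposite one -/
theorem conj_Bbar_of_00 (m : SpecialLinearGroup (Fin 2) F)
    (hm : (m : Matrix (Fin 2) (Fin 2) F) 0 0 = 0) :
    MulAut.conj (toPSL2 F m) • Bbar F = Bm F := by
  have h1 : Dk.IsB (wS⁻¹ * m) := by
    unfold Dk.IsB
    rw [Matrix.SpecialLinearGroup.coe_mul, Matrix.mul_apply, Fin.sum_univ_two, inv_apply_10, inv_apply_11]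
    simp [wS, nn, hm]
  have h2 : m = wS * (wS⁻¹ * m) := by group
  unfold Bm
  rw [h2, map_mul, map_mul, mul_smul, conj_Bbar_of_isB _ h1]

/-- the Borel subgroups containing a unipotent element -/
theorem conj_Bbar_eq_of_uu_mem (b : F) (hb : b ≠ 0) (c : ProjectiveSpecialLinearGroup (Fin 2) F)
    (h : toPSL2 F (uu b) ∈ MulAut.conj c • Bbar F) : MulAut.conj c • Bbar F = Bbar F := by
  obtain ⟨m, rfl⟩ := toPSL2_surjective c
  rw [mem_conj_smul, ← map_inv, ← map_mul, ← map_mul, mem_Bbar_iff] at h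
  have h1 : ((m⁻¹ * uu b * m⁻¹⁻¹ : SpecialLinearGroup (Fin 2) F) : Matrix (Fin 2) (Fin 2) F) 1 0 = 0 := by
    rw [inv_inv]; exact h
  rw [conj_uu_10] at h1
  have h2 : ((m⁻¹ : SpecialLinearGroup (Fin 2) F) : Matrix (Fin 2) (Fin 2) F) 1 0 = 0 := by
    have h3 : (((m⁻¹ : SpecialLinearGroup (Fin 2) F) : Matrix (Fin 2) (Fin 2) F) 1 0) ^ 2 * b = 0 := by
      linear_combination -h1
    exact pow_eq_zero_iff (two_ne_zero) |>.mp ((mul_eq_zero.1 h3).resolve_right hb)
  have h4 : Dk.IsB m := by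
    have : Dk.IsB (m⁻¹)⁻¹ := Dk.IsB.inv h2
    rwa [inv_inv] at this
  exact conj_Bbar_of_isB m h4

/-- the Borel subgroups containing a diagonal element -/
theorem conj_Bbar_cases_of_diag_mem (a : F) (ha : a ≠ 0) (hne : a ≠ a⁻¹)
    (c : ProjectiveSpecialLinearGroup (Fin 2) F)
    (h : toPSL2 F (diagSL a ha) ∈ MulAut.conj c • Bbar F) :
    MulAut.conj c • Bbar F = Bbar F ∨ MulAut.conj c • Bbar F = Bm F := by
  obtain ⟨m, rfl⟩ := toPSL2_surjective c
  rw [mem_conj_smul, ← map_inv, ← map_mul, ← map_mul, mem_Bbar_iff] at h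
  have h1 : ((m⁻¹ * diagSL a ha * m : SpecialLinearGroup (Fin 2) F) : Matrix (Fin 2) (Fin 2) F) 1 0 =
      (m : Matrix (Fin 2) (Fin 2) F) 0 0 * (m : Matrix (Fin 2) (Fin 2) F) 1 0 * (a⁻¹ - a) := by
    rw [Matrix.SpecialLinearGroup.coe_mul, Matrix.SpecialLinearGroup.coe_mul]
    simp [diagSL, Matrix.mul_apply, Fin.sum_univ_two, Matrix.adjugate_fin_two]
    ring
  unfold Dk.IsB at h
  rw [h1] at h
  have h2 : (m : Matrix (Fin 2) (Fin 2) F) 0 0 * (m : Matrix (Fin 2) (Fin 2) F) 1 0 = 0 :=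
    (mul_eq_zero.1 h).resolve_right (sub_ne_zero.2 (Ne.symm hne))
  rcases mul_eq_zero.1 h2 with h3 | h3
  · right; exact conj_Bbar_of_00 m h3
  · left; exact conj_Bbar_of_isB m h3

/-- elements of Borel subgroups have split trace -/
theorem isSplitTrace_of_mem_conj_Bbar (g : SpecialLinearGroup (Fin 2) F)
    (c : ProjectiveSpecialLinearGroup (Fin 2) F) (h : toPSL2 F g ∈ MulAut.conj c • Bbar F) :
    IsSplitTrace (g : Matrix (Fin 2) (Fin 2) F).trace := by
  obtain ⟨m, rfl⟩ := toPSL2_surjective c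
  rw [mem_conj_smul, ← map_inv, ← map_mul, ← map_mul, mem_Bbar_iff] at h
  have hd := h.det
  have htr := trace_conj_eq m⁻¹ g
  rw [inv_inv] at htr
  rw [← htr, Matrix.trace_fin_two]
  have h0 : ((m⁻¹ * g * m : SpecialLinearGroup (Fin 2) F) : Matrix (Fin 2) (Fin 2) F) 0 0 ≠ 0 := by
    intro h0
    rw [h0, zero_mul] at hd
    exact zero_ne_one hd
  refine ⟨_, h0, ?_⟩
  congr 1
  exact eq_inv_of_mul_eq_one_right hd

end general

section finite
variable {F : Type*} [Field F] [Fintype F]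

/-- overgroups: the structure of proper subgroups of `PSL₂(2^p)`, `p` prime -/
theorem subgroup_le_cases (p : ℕ) (hp : p.Prime) (hF : Fintype.card F = 2 ^ p)
    (H : Subgroup (ProjectiveSpecialLinearGroup (Fin 2) F)) (hH : H ≠ ⊤) (hH1 : H ≠ ⊥) :
    (∃ c : ProjectiveSpecialLinearGroup (Fin 2) F, H ≤ MulAut.conj c • Bbar F) ∨
    (∃ g : SpecialLinearGroup (Fin 2) F, ¬ IsScalar2 (g : Matrix (Fin 2) (Fin 2) F) ∧
      (g : Matrix (Fin 2) (Fin 2) F).trace ^ 2 ≠ 4 ∧ toPSL2 F g ∈ H ∧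
      H ≤ Subgroup.normalizer ((Tor g : Subgroup (ProjectiveSpecialLinearGroup (Fin 2) F)) :
        Set (ProjectiveSpecialLinearGroup (Fin 2) F))) := by
  have heven : Even (Fintype.card F) := by
    rw [hF]
    exact (Nat.even_pow.2 ⟨even_two, hp.ne_zero⟩)
  have h2 : (2 : F) = 0 := two_dvd_card_iff.1 heven.two_dvd
  obtain ⟨p', hp'⟩ := CharP.exists F
  have hpr : Fact p'.Prime := ⟨CharP.char_is_prime F p'⟩
  have hp2 : p' = 2 := by
    have h1 : ((2 : ℕ) : F) = 0 := by exact_mod_cast h2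
    have h3 := (CharP.cast_eq_zero_iff F p' 2).1 h1
    exact (Nat.prime_dvd_prime_iff_eq hpr.out Nat.prime_two).1 h3
  subst hp2
  obtain ⟨x, h | h⟩ := proper_subgroup_cases p hp hF H hH hH1
  · left
    obtain ⟨S, -, hS, hS1, hnorm⟩ := h
    obtain ⟨P, hP⟩ := le_normalizer_sylow_of_normal 2 (MulAut.conj x • H) S hS hS1 hnorm
    obtain ⟨c, hc⟩ := MulAction.exists_smul_eq (ProjectiveSpecialLinearGroup (Fin 2) F) (UbarSylow 2) P
    have h1 : Subgroup.normalizer ((P : Subgroup (ProjectiveSpecialLinearGroup (Fin 2) F)) :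
        Set (ProjectiveSpecialLinearGroup (Fin 2) F)) = MulAut.conj c • Bbar F := by
      rw [← normalizer_Ubar, ← coe_UbarSylow 2, ← hc, Sylow.coe_subgroup_smul, normalizer_conj_smul]
    refine ⟨x⁻¹ * c, ?_⟩
    intro h hh
    have h3 : x * h * x⁻¹ ∈ MulAut.conj x • H := by
      rw [mem_conj_smul]
      have e1 : x⁻¹ * (x * h * x⁻¹) * x = h := by group
      rw [e1]; exact hh
    have h4 := hP h3
    rw [h1, mem_conj_smul] at h4
    rw [mem_conj_smul]
    have e2 : (x⁻¹ * c)⁻¹ * h * (x⁻¹ * c) = c⁻¹ * (x * h * x⁻¹) * c := by group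
    rw [e2]; exact h4
  · right
    obtain ⟨g, hg, ht, hgH, hnorm⟩ := h
    have hle := le_normalizer_Tor_of_normal (MulAut.conj x • H) g hg hnorm
    obtain ⟨n, rfl⟩ := toPSL2_surjective x
    have hT : Tor (n⁻¹ * g * n) = MulAut.conj (toPSL2 F n)⁻¹ • Tor g := by
      have := Tor_conj n⁻¹ g
      rw [inv_inv, map_inv] at this
      exact this.symm
    refine ⟨n⁻¹ * g * n, ?_, ?_, ?_, ?_⟩
    · intro hs
      apply hg
      have h1 : toPSL2 F (n⁻¹ * g * n) = 1 := (toPSL2_eq_one_iff' _).2 hs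
      rw [map_mul, map_mul, map_inv] at h1
      apply (toPSL2_eq_one_iff' g).1
      have : toPSL2 F g = toPSL2 F n * ((toPSL2 F n)⁻¹ * toPSL2 F g * toPSL2 F n) * (toPSL2 F n)⁻¹ := by group
      rw [this, h1]
      group
    · have htr := trace_conj_eq n⁻¹ g
      rw [inv_inv] at htr
      rw [htr]; exact ht
    · rw [mem_conj_smul] at hgH
      rw [map_mul, map_mul, map_inv]
      exact hgH
    · intro h hh
      rw [hT, normalizer_conj_smul, mem_conj_smul, inv_inv]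
      apply hle
      rw [mem_conj_smul]
      have e1 : (toPSL2 F n)⁻¹ * (toPSL2 F n * h * (toPSL2 F n)⁻¹) * toPSL2 F n = h := by group
      rw [e1]; exact hh

end finite

end Cfsg.Agent.Lib.Helper15.Sol
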