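import Mathlib
import Cfsg.Agent.Lib.Helper15.Sol3

/-!
# Solubilizers in `PSL₂(2^p)`, part 4: normal forms of elements in characteristic two
-/

set_option autoImplicit false

open scoped Pointwise

namespace Cfsg.Agent.Lib.Helper15.Sol

open Matrix
open Cfsg.Agent.Lib.Helper14
open Cfsg.Agent.Lib.Helper15
open Cfsg.Agent.Lib.Helper15.Dk

section arith

theorem coprime_pred_succ_of_even (q : ℕ) (hq : Even q) (h1 : 1 ≤ q) : Nat.Coprime (q - 1) (q + 1) := by
  obtain ⟨k, hk⟩ := hq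
  have h2 : q + 1 = 2 + (q - 1) := by omega
  rw [h2, Nat.coprime_add_self_right]
  rw [Nat.coprime_comm, Nat.Prime.coprime_iff_not_dvd Nat.prime_two]
  omega

theorem coprime_two_pred_of_even (q : ℕ) (hq : Even q) (h1 : 1 ≤ q) : Nat.Coprime 2 (q - 1) := by
  obtain ⟨k, hk⟩ := hq
  rw [Nat.Prime.coprime_iff_not_dvd Nat.prime_two]
  omega

theorem coprime_two_succ_of_even (q : ℕ) (hq : Even q) : Nat.Coprime 2 (q + 1) := by
  obtain ⟨k, hk⟩ := hq
  rw [Nat.Prime.coprime_iff_not_dvd Nat.prime_two]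
  omega

theorem eq_one_of_orderOf_dvd_coprime {G : Type*} [Group G] (g : G) (a b : ℕ) (hab : Nat.Coprime a b)
    (ha : orderOf g ∣ a) (hb : orderOf g ∣ b) : g = 1 := by
  have h1 : orderOf g ∣ Nat.gcd a b := Nat.dvd_gcd ha hb
  rw [hab] at h1
  exact orderOf_eq_one_iff.1 (Nat.dvd_one.1 h1)

end arith

section general
variable {F : Type*} [Field F]

theorem toPSL2_injective_char_two (h2 : (2 : F) = 0) : Function.Injective (toPSL2 F) := by
  intro g h hgh
  rw [toPSL2_eq_iff', center_SL2_eq_bot_of_two h2, Subgroup.mem_bot] at hgh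
  exact (inv_mul_eq_one.1 hgh)

theorem orderOf_toPSL2_char_two (h2 : (2 : F) = 0) (g : SpecialLinearGroup (Fin 2) F) :
    orderOf (toPSL2 F g) = orderOf g :=
  orderOf_injective (toPSL2 F) (toPSL2_injective_char_two h2) g

theorem toPSL2_eq_one_char_two (h2 : (2 : F) = 0) (g : SpecialLinearGroup (Fin 2) F) :
    toPSL2 F g = 1 ↔ g = 1 := by
  constructor
  · intro h
    apply toPSL2_injective_char_two h2
    rw [h, map_one]
  · rintro rfl
    exact map_one _

/-- in characteristic two, trace zero is the same as trace squared equal to four -/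
theorem trace_sq_eq_four_iff_char_two (h2 : (2 : F) = 0) (t : F) : t ^ 2 = 4 ↔ t = 0 := by
  have h4 : (4 : F) = 0 := by linear_combination 2 * h2
  rw [h4]
  exact pow_eq_zero_iff (two_ne_zero)

end general

section finite
variable {F : Type*} [Field F] [Fintype F]

omit [Fintype F] in
/-- an element of odd order in characteristic two has nonzero trace -/
theorem trace_ne_zero_of_odd_order (h2 : (2 : F) = 0) (g : SpecialLinearGroup (Fin 2) F) (hg1 : g ≠ 1)
    (n : ℕ) (hn : Nat.Coprime 2 n) (hord : orderOf g ∣ n) :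
    (g : Matrix (Fin 2) (Fin 2) F).trace ≠ 0 := by
  intro ht
  apply hg1
  have h1 := sq_eq_one_of_trace_zero h2 g ht
  exact eq_one_of_orderOf_dvd_coprime g 2 n hn (orderOf_dvd_of_pow_eq_one h1) hord

/-- an involution of `PSL₂` in characteristic two is conjugate to an upper unitriangular element -/
theorem exists_conj_uu_of_order_two [CharP F 2] (x : ProjectiveSpecialLinearGroup (Fin 2) F)
    (hx : orderOf x = 2) :
    ∃ (c : ProjectiveSpecialLinearGroup (Fin 2) F) (b : F), b ≠ 0 ∧ c * x * c⁻¹ = toPSL2 F (uu b) := by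
  have : Fact (Nat.Prime 2) := ⟨Nat.prime_two⟩
  have hP : IsPGroup 2 (Subgroup.zpowers x) := by
    apply IsPGroup.of_card (n := 1)
    rw [Nat.card_zpowers, hx, pow_one]
  obtain ⟨P, hxP⟩ := hP.exists_le_sylow
  obtain ⟨c, hc⟩ := MulAction.exists_smul_eq (ProjectiveSpecialLinearGroup (Fin 2) F) P (UbarSylow 2)
  have hxU : c * x * c⁻¹ ∈ Ubar F := by
    rw [← coe_UbarSylow 2, ← hc, Sylow.coe_subgroup_smul, mem_conj_smul]
    have e1 : c⁻¹ * (c * x * c⁻¹) * c = x := by group
    rw [e1]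
    exact hxP (Subgroup.mem_zpowers x)
  obtain ⟨k, hk⟩ := toPSL2_surjective (c * x * c⁻¹)
  have hkUT : IsUT k := by
    rw [← mem_Ubar_iff, hk]; exact hxU
  refine ⟨c, (k : Matrix (Fin 2) (Fin 2) F) 0 0 * (k : Matrix (Fin 2) (Fin 2) F) 0 1, ?_, ?_⟩
  · intro h0
    have h1 := isUT_toPSL2 k hkUT
    rw [h0, uu_zero, map_one, hk] at h1
    have h3 : x = 1 := by
      have : x = c⁻¹ * (c * x * c⁻¹) * c := by group
      rw [this, h1]; group
    rw [h3, orderOf_one] at hx
    omega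
  · rw [← isUT_toPSL2 k hkUT, hk]

/-- an element of order dividing `q - 1` is conjugate to a diagonal element -/
theorem exists_conj_diag_of_order_dvd (h2 : (2 : F) = 0) (heven : Even (Fintype.card F))
    (x : ProjectiveSpecialLinearGroup (Fin 2) F) (hx1 : x ≠ 1) (hx : orderOf x ∣ Fintype.card F - 1) :
    ∃ (c : ProjectiveSpecialLinearGroup (Fin 2) F) (a : F) (ha : a ≠ 0), a ≠ a⁻¹ ∧
      c * x * c⁻¹ = toPSL2 F (diagSL a ha) := by
  have hq1 : 1 ≤ Fintype.card F := Fintype.card_pos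
  obtain ⟨g, rfl⟩ := toPSL2_surjective x
  rw [orderOf_toPSL2_char_two h2] at hx
  have hg1 : g ≠ 1 := fun h => hx1 (by rw [h, map_one])
  have hgs : ¬ IsScalar2 (g : Matrix (Fin 2) (Fin 2) F) := fun hs => hx1 ((toPSL2_eq_one_iff' g).2 hs)
  have ht0 := trace_ne_zero_of_odd_order h2 g hg1 _ (coprime_two_pred_of_even _ heven hq1) hx
  have ht : (g : Matrix (Fin 2) (Fin 2) F).trace ^ 2 ≠ 4 := fun h =>
    ht0 ((trace_sq_eq_four_iff_char_two h2 _).1 h)
  have hsplit : IsSplitTrace (g : Matrix (Fin 2) (Fin 2) F).trace := by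
    by_contra hns
    apply hg1
    have h1 := pow_card_centralizer g
    rw [card_centralizer_nonsplit_odd g hgs hns] at h1
    exact eq_one_of_orderOf_dvd_coprime g _ _ (coprime_pred_succ_of_even _ heven hq1) hx
      (orderOf_dvd_of_pow_eq_one h1)
  obtain ⟨a, ha0, hta⟩ := hsplit
  have hne : a ≠ a⁻¹ := by
    intro h
    apply ht0
    rw [hta, ← h]
    linear_combination a * h2
  have htr : (g : Matrix (Fin 2) (Fin 2) F).trace =
      ((diagSL a ha0 : SpecialLinearGroup (Fin 2) F) : Matrix (Fin 2) (Fin 2) F).trace := by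
    rw [diagSL_trace, hta]
  have ht' : ((diagSL a ha0 : SpecialLinearGroup (Fin 2) F) : Matrix (Fin 2) (Fin 2) F).trace ^ 2 ≠ 4 := by
    rw [← htr]; exact ht
  obtain ⟨c, hc⟩ := isConj_iff.1 (isConj_of_trace_eq (diagSL a ha0) g htr ht')
  refine ⟨(toPSL2 F c)⁻¹, a, ha0, hne, ?_⟩
  rw [← hc, map_mul, map_mul, map_inv]
  group

/-- an element of order dividing `q + 1` is nonsplit -/
theorem nonsplit_of_order_dvd (h2 : (2 : F) = 0) (heven : Even (Fintype.card F))
    (g : SpecialLinearGroup (Fin 2) F) (hx1 : toPSL2 F g ≠ 1)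
    (hx : orderOf (toPSL2 F g) ∣ Fintype.card F + 1) :
    ¬ IsScalar2 (g : Matrix (Fin 2) (Fin 2) F) ∧ (g : Matrix (Fin 2) (Fin 2) F).trace ^ 2 ≠ 4 ∧
      ¬ IsSplitTrace (g : Matrix (Fin 2) (Fin 2) F).trace := by
  have hq1 : 1 ≤ Fintype.card F := Fintype.card_pos
  rw [orderOf_toPSL2_char_two h2] at hx
  have hg1 : g ≠ 1 := fun h => hx1 (by rw [h, map_one])
  have hgs : ¬ IsScalar2 (g : Matrix (Fin 2) (Fin 2) F) := fun hs => hx1 ((toPSL2_eq_one_iff' g).2 hs)
  have ht0 := trace_ne_zero_of_odd_order h2 g hg1 _ (coprime_two_succ_of_even _ heven) hx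
  have ht : (g : Matrix (Fin 2) (Fin 2) F).trace ^ 2 ≠ 4 := fun h =>
    ht0 ((trace_sq_eq_four_iff_char_two h2 _).1 h)
  refine ⟨hgs, ht, ?_⟩
  intro hs
  apply hg1
  have h1 := pow_card_centralizer g
  rw [card_centralizer_split_odd g hgs ht hs] at h1
  exact eq_one_of_orderOf_dvd_coprime g _ _ (coprime_pred_succ_of_even _ heven hq1)
    (orderOf_dvd_of_pow_eq_one h1) hx

end finite

end Cfsg.Agent.Lib.Helper15.Sol
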