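import Mathlib
import Cfsg.Agent.Lib.Helper15.Sol4

/-!
# Solubilizers in `PSL₂(2^p)`, part 5: counting involutions; the solubilizer of a semisimple element
-/

set_option autoImplicit false

open scoped Pointwise

namespace Cfsg.Agent.Lib.Helper15.Sol

open Matrix
open Cfsg.Agent.Lib.Helper14
open Cfsg.Agent.Lib.Helper15
open Cfsg.Agent.Lib.Helper15.Dk

variable {F : Type*} [Field F] [Fintype F]

theorem exists_sqrt2 (h2 : (2 : F) = 0) (c : F) : ∃ r : F, r * r = c := by
  have hc : CharP F 2 := CharTwo.of_one_ne_zero_of_two_eq_zero one_ne_zero h2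
  have hr : ringChar F = 2 := ringChar.eq F 2
  obtain ⟨r, hr⟩ := FiniteField.isSquare_of_char_two hr c
  exact ⟨r, hr.symm⟩

/-- a chosen square root in characteristic two -/
noncomputable def sqrt2 (h2 : (2 : F) = 0) (t : F) : F := (exists_sqrt2 h2 t).choose

theorem sqrt2_mul_self (h2 : (2 : F) = 0) (t : F) : sqrt2 h2 t * sqrt2 h2 t = t :=
  (exists_sqrt2 h2 t).choose_spec

omit [Fintype F] in
theorem eq_of_mul_self_eq_char_two (h2 : (2 : F) = 0) (a b : F) (h : a * a = b * b) : a = b := by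
  have h1 : (a - b) * (a - b) = 0 := by linear_combination h + (b * b - a * b) * h2
  have := mul_self_eq_zero.1 h1
  exact sub_eq_zero.1 this

/-- the involution with given off-diagonal entries -/
noncomputable def invMat (h2 : (2 : F) = 0) (b c : F) : SpecialLinearGroup (Fin 2) F :=
  ⟨!![sqrt2 h2 (1 + b * c), b; c, sqrt2 h2 (1 + b * c)], by
    rw [Matrix.det_fin_two_of, sqrt2_mul_self]; ring⟩

theorem invMat_01 (h2 : (2 : F) = 0) (b c : F) :
    ((invMat h2 b c : SpecialLinearGroup (Fin 2) F) : Matrix (Fin 2) (Fin 2) F) 0 1 = b := rfl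

theorem invMat_10 (h2 : (2 : F) = 0) (b c : F) :
    ((invMat h2 b c : SpecialLinearGroup (Fin 2) F) : Matrix (Fin 2) (Fin 2) F) 1 0 = c := rfl

theorem invMat_mul_self (h2 : (2 : F) = 0) (b c : F) : invMat h2 b c * invMat h2 b c = 1 := by
  have ht : ((invMat h2 b c : SpecialLinearGroup (Fin 2) F) : Matrix (Fin 2) (Fin 2) F).trace = 0 := by
    rw [Matrix.trace_fin_two]
    show sqrt2 h2 (1 + b * c) + sqrt2 h2 (1 + b * c) = 0
    linear_combination sqrt2 h2 (1 + b * c) * h2
  have := sq_eq_one_of_trace_zero h2 _ ht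
  rwa [pow_two] at this

omit [Fintype F] in
/-- an involution outside the Borel subgroup has trace zero -/
theorem trace_eq_zero_of_mul_self (g : SpecialLinearGroup (Fin 2) F) (hg : g * g = 1)
    (h10 : (g : Matrix (Fin 2) (Fin 2) F) 1 0 ≠ 0) : (g : Matrix (Fin 2) (Fin 2) F).trace = 0 := by
  have h1 : ((g * g : SpecialLinearGroup (Fin 2) F) : Matrix (Fin 2) (Fin 2) F) 1 0 = 0 := by
    rw [hg]; simp
  rw [Matrix.SpecialLinearGroup.coe_mul, Matrix.mul_apply, Fin.sum_univ_two] at h1
  rw [Matrix.trace_fin_two]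
  have h3 : (g : Matrix (Fin 2) (Fin 2) F) 1 0 *
      ((g : Matrix (Fin 2) (Fin 2) F) 0 0 + (g : Matrix (Fin 2) (Fin 2) F) 1 1) = 0 := by
    linear_combination h1
  exact (mul_eq_zero.1 h3).resolve_left h10

/-- the number of involutions outside the Borel subgroup -/
theorem ncard_invol (h2 : (2 : F) = 0) :
    Set.ncard {z : ProjectiveSpecialLinearGroup (Fin 2) F | z * z = 1 ∧ z ∉ Bbar F} =
      Fintype.card F * (Fintype.card F - 1) := by
  set ψ : F × F → ProjectiveSpecialLinearGroup (Fin 2) F := fun bc => toPSL2 F (invMat h2 bc.1 bc.2) with hψ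
  have hinj : Function.Injective ψ := by
    rintro ⟨b, c⟩ ⟨b', c'⟩ h
    have h1 := toPSL2_injective_char_two h2 h
    have e1 := congrArg (fun g : SpecialLinearGroup (Fin 2) F => (g : Matrix (Fin 2) (Fin 2) F) 0 1) h1
    have e2 := congrArg (fun g : SpecialLinearGroup (Fin 2) F => (g : Matrix (Fin 2) (Fin 2) F) 1 0) h1
    simp only [invMat_01, invMat_10] at e1 e2
    rw [e1, e2]
  have hset : {z : ProjectiveSpecialLinearGroup (Fin 2) F | z * z = 1 ∧ z ∉ Bbar F} =
      ψ '' ((Set.univ : Set F) ×ˢ ({0}ᶜ : Set F)) := by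
    ext z
    constructor
    · rintro ⟨hz, hzB⟩
      obtain ⟨g, rfl⟩ := toPSL2_surjective z
      rw [mem_Bbar_iff] at hzB
      have h10 : (g : Matrix (Fin 2) (Fin 2) F) 1 0 ≠ 0 := hzB
      have hgg : g * g = 1 := by
        apply toPSL2_injective_char_two h2
        rw [map_mul, hz, map_one]
      have ht := trace_eq_zero_of_mul_self g hgg h10
      rw [Matrix.trace_fin_two] at ht
      have h11 : (g : Matrix (Fin 2) (Fin 2) F) 1 1 = (g : Matrix (Fin 2) (Fin 2) F) 0 0 := by
        linear_combination ht - (g : Matrix (Fin 2) (Fin 2) F) 0 0 * h2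
      have hd := det_eq g
      rw [h11] at hd
      have h00 : (g : Matrix (Fin 2) (Fin 2) F) 0 0 =
          sqrt2 h2 (1 + (g : Matrix (Fin 2) (Fin 2) F) 0 1 * (g : Matrix (Fin 2) (Fin 2) F) 1 0) := by
        apply eq_of_mul_self_eq_char_two h2
        rw [sqrt2_mul_self]
        linear_combination hd
      refine ⟨((g : Matrix (Fin 2) (Fin 2) F) 0 1, (g : Matrix (Fin 2) (Fin 2) F) 1 0), ⟨Set.mem_univ _, h10⟩, ?_⟩
      show toPSL2 F (invMat h2 _ _) = toPSL2 F g
      congr 1
      apply Subtype.ext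
      apply mat2_ext
      · exact h00.symm
      · rfl
      · rfl
      · show sqrt2 h2 _ = _
        rw [h11]; exact h00.symm
    · rintro ⟨⟨b, c⟩, ⟨-, hc⟩, rfl⟩
      have hc0 : c ≠ 0 := hc
      constructor
      · show toPSL2 F (invMat h2 b c) * toPSL2 F (invMat h2 b c) = 1
        rw [← map_mul, invMat_mul_self, map_one]
      · show toPSL2 F (invMat h2 b c) ∉ Bbar F
        rw [mem_Bbar_iff]
        exact hc0
  rw [hset, Set.ncard_image_of_injective _ hinj, Set.ncard_prod, Set.ncard_univ, Set.ncard_compl,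
    Set.ncard_singleton, Nat.card_eq_fintype_card]

end Cfsg.Agent.Lib.Helper15.Sol
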