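import Mathlib
import Cfsg.Agent.Lib.Helper15.Sol5

/-!
# Solubilizers in `PSL₂(2^p)`, part 6: the solubilizer of a semisimple element
-/

set_option autoImplicit false

open scoped Pointwise

namespace Cfsg.Agent.Lib.Helper15.Sol

open Matrix
open Cfsg.Agent.Lib.Helper14
open Cfsg.Agent.Lib.Helper15
open Cfsg.Agent.Lib.Helper15.Dk

variable {F : Type*} [Field F] [Fintype F]

theorem basic_facts (p : ℕ) (hp : p.Prime) (hF : Fintype.card F = 2 ^ p) :
    Even (Fintype.card F) ∧ (2 : F) = 0 ∧ 4 ≤ Fintype.card F := by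
  have heven : Even (Fintype.card F) := by
    rw [hF]
    exact (Nat.even_pow.2 ⟨even_two, hp.ne_zero⟩)
  refine ⟨heven, two_dvd_card_iff.1 heven.two_dvd, ?_⟩
  rw [hF]
  calc 4 = 2 ^ 2 := by norm_num
    _ ≤ 2 ^ p := Nat.pow_le_pow_right (by norm_num) hp.two_le

theorem ne_top_of_isSolvable (hq : 4 ≤ Fintype.card F)
    (H : Subgroup (ProjectiveSpecialLinearGroup (Fin 2) F)) (hH : Group.IsSolvable H) : H ≠ ⊤ := by
  rintro rfl
  apply not_isSolvable_PSL2 hq
  exact Group.isSolvable_of_surjective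
    (f := (⊤ : Subgroup (ProjectiveSpecialLinearGroup (Fin 2) F)).subtype)
    (fun y => ⟨⟨y, Subgroup.mem_top y⟩, rfl⟩)

theorem isSolvable_normalizer_Tor (g : SpecialLinearGroup (Fin 2) F)
    (hg : ¬ IsScalar2 (g : Matrix (Fin 2) (Fin 2) F))
    (ht : (g : Matrix (Fin 2) (Fin 2) F).trace ^ 2 ≠ 4) :
    Group.IsSolvable (Subgroup.normalizer ((Tor g : Subgroup (ProjectiveSpecialLinearGroup (Fin 2) F)) :
      Set (ProjectiveSpecialLinearGroup (Fin 2) F))) := by
  obtain ⟨-, -, ⟨e⟩, -⟩ := torus_normalizer g hg ht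
  have := isSolvable_dihedral (Nat.card (Tor g))
  exact Group.isSolvable_of_surjective (f := e.symm.toMonoidHom) e.symm.surjective

/-- an element of odd order in the normalizer of a torus lies in the torus -/
theorem mem_Tor_of_odd_order (g₁ : SpecialLinearGroup (Fin 2) F)
    (hg₁ : ¬ IsScalar2 (g₁ : Matrix (Fin 2) (Fin 2) F))
    (ht₁ : (g₁ : Matrix (Fin 2) (Fin 2) F).trace ^ 2 ≠ 4)
    (x : ProjectiveSpecialLinearGroup (Fin 2) F) (hx1 : x ≠ 1) (n : ℕ) (hn : Nat.Coprime 2 n)
    (hx : orderOf x ∣ n)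
    (hxN : x ∈ Subgroup.normalizer ((Tor g₁ : Subgroup (ProjectiveSpecialLinearGroup (Fin 2) F)) :
      Set (ProjectiveSpecialLinearGroup (Fin 2) F))) : x ∈ Tor g₁ := by
  by_contra hnot
  have h3 := ((torus_normalizer g₁ hg₁ ht₁).2.2.2 _ hxN hnot).1
  apply hx1
  exact eq_one_of_orderOf_dvd_coprime _ 2 _ hn
    (orderOf_dvd_of_pow_eq_one (by rw [pow_two]; exact h3)) hx

/-- the solubilizer of a nonsplit semisimple element -/
theorem card_sol_nonsplit (p : ℕ) (hp : p.Prime) (hF : Fintype.card F = 2 ^ p)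
    (x : ProjectiveSpecialLinearGroup (Fin 2) F) (hx1 : x ≠ 1) (hx : orderOf x ∣ 2 ^ p + 1) :
    Nat.card {y : ProjectiveSpecialLinearGroup (Fin 2) F //
      Group.IsSolvable ↥(Subgroup.closure ({x, y} : Set (ProjectiveSpecialLinearGroup (Fin 2) F)))} =
      2 * (2 ^ p + 1) := by
  obtain ⟨heven, h2, hq4⟩ := basic_facts p hp hF
  obtain ⟨g, rfl⟩ := toPSL2_surjective x
  rw [← hF] at hx
  obtain ⟨hgs, ht, hns⟩ := nonsplit_of_order_dvd h2 heven g hx1 hx
  obtain ⟨-, hcardN, -, -⟩ := torus_normalizer g hgs ht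
  have hxT : toPSL2 F g ∈ Tor g := self_mem_Tor g
  have hxN : toPSL2 F g ∈ Subgroup.normalizer ((Tor g : Subgroup (ProjectiveSpecialLinearGroup (Fin 2) F)) :
      Set (ProjectiveSpecialLinearGroup (Fin 2) F)) := Subgroup.le_normalizer hxT
  have hiff : ∀ y : ProjectiveSpecialLinearGroup (Fin 2) F,
      Group.IsSolvable ↥(Subgroup.closure ({toPSL2 F g, y} : Set (ProjectiveSpecialLinearGroup (Fin 2) F))) ↔
      y ∈ Subgroup.normalizer ((Tor g : Subgroup (ProjectiveSpecialLinearGroup (Fin 2) F)) :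
        Set (ProjectiveSpecialLinearGroup (Fin 2) F)) := by
    intro y
    constructor
    · intro hsol
      set H := Subgroup.closure ({toPSL2 F g, y} : Set (ProjectiveSpecialLinearGroup (Fin 2) F)) with hH
      have hxH : toPSL2 F g ∈ H := Subgroup.subset_closure (Set.mem_insert _ _)
      have hyH : y ∈ H := Subgroup.subset_closure (Set.mem_insert_of_mem _ rfl)
      have hHtop : H ≠ ⊤ := ne_top_of_isSolvable hq4 H hsol
      have hHbot : H ≠ ⊥ := by
        intro h
        rw [h, Subgroup.mem_bot] at hxH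
        exact hx1 hxH
      rcases subgroup_le_cases p hp hF H hHtop hHbot with ⟨c, hc⟩ | ⟨g₁, hg₁, ht₁, -, hle⟩
      · exact (hns (isSplitTrace_of_mem_conj_Bbar g c (hc hxH))).elim
      · have hxT₁ : toPSL2 F g ∈ Tor g₁ :=
          mem_Tor_of_odd_order g₁ hg₁ ht₁ _ hx1 _ (coprime_two_succ_of_even _ heven) hx (hle hxH)
        have hTT : Tor g = Tor g₁ := Tor_eq_of_mem g₁ hg₁ g hxT₁ hgs
        rw [hTT]
        exact hle hyH
    · intro hyN
      exact isSolvable_closure_of_mem (isSolvable_normalizer_Tor g hgs ht) hxN hyN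
  rw [Nat.card_congr (Equiv.subtypeEquivRight hiff)]
  have h5 := card_Tor_mul g
  have hc1 : Nat.card (Subgroup.center (SpecialLinearGroup (Fin 2) F)) = 1 := by
    rw [center_SL2_eq_bot_of_two h2, Subgroup.card_bot]
  rw [hc1, mul_one, card_centralizer_nonsplit_odd g hgs hns, hF] at h5
  rw [← h5]
  exact hcardN

/-- the solubilizer of a split semisimple element -/
theorem card_sol_split (p : ℕ) (hp : p.Prime) (hF : Fintype.card F = 2 ^ p)
    (x : ProjectiveSpecialLinearGroup (Fin 2) F) (hx1 : x ≠ 1) (hx : orderOf x ∣ 2 ^ p - 1) :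
    Nat.card {y : ProjectiveSpecialLinearGroup (Fin 2) F //
      Group.IsSolvable ↥(Subgroup.closure ({x, y} : Set (ProjectiveSpecialLinearGroup (Fin 2) F)))} =
      2 * 2 ^ p * (2 ^ p - 1) := by
  obtain ⟨heven, h2, hq4⟩ := basic_facts p hp hF
  have hq1 : 1 ≤ Fintype.card F := Fintype.card_pos
  rw [← hF] at hx
  obtain ⟨c, a, ha, hne, hc⟩ := exists_conj_diag_of_order_dvd h2 heven x hx1 hx
  have hordc : orderOf (c * x * c⁻¹) = orderOf x := by
    have := orderOf_injective (MulAut.conj c).toMonoidHom (MulAut.conj c).injective x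
    exact this
  rw [← card_sol_conj c x, hc]
  rw [← hordc, hc] at hx
  have hu1 : toPSL2 F (diagSL a ha) ≠ 1 := by
    rw [← hc]
    intro h
    apply hx1
    have : x = c⁻¹ * (c * x * c⁻¹) * c := by group
    rw [this, h]; group
  set d := diagSL a ha with hd
  have hds : ¬ IsScalar2 (d : Matrix (Fin 2) (Fin 2) F) := diagSL_not_scalar a ha hne
  have htd : (d : Matrix (Fin 2) (Fin 2) F).trace ^ 2 ≠ 4 := by
    intro h
    have h0 := (trace_sq_eq_four_iff_char_two h2 _).1 h
    rw [hd, diagSL_trace] at h0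
    apply hne
    linear_combination h0 - a⁻¹ * h2
  obtain ⟨-, hcardN, -, hinvol⟩ := torus_normalizer d hds htd
  set T := Tor d with hT
  set N := Subgroup.normalizer ((T : Subgroup (ProjectiveSpecialLinearGroup (Fin 2) F)) :
      Set (ProjectiveSpecialLinearGroup (Fin 2) F)) with hN
  have hxT : toPSL2 F d ∈ T := self_mem_Tor d
  have hTN : T ≤ N := Subgroup.le_normalizer
  have hd01 : (d : Matrix (Fin 2) (Fin 2) F) 0 1 = 0 := by simp [hd, diagSL]
  have hd10 : (d : Matrix (Fin 2) (Fin 2) F) 1 0 = 0 := by simp [hd, diagSL]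
  have hxB : toPSL2 F d ∈ Bbar F := (mem_Bbar_iff d).2 hd10
  have hxBm : toPSL2 F d ∈ Bm F := (mem_Bm_iff d).2 hd01
  -- membership in the torus
  have hmemT : ∀ g : SpecialLinearGroup (Fin 2) F, toPSL2 F g ∈ T ↔
      ((g : Matrix (Fin 2) (Fin 2) F) 0 1 = 0 ∧ (g : Matrix (Fin 2) (Fin 2) F) 1 0 = 0) := by
    intro g
    rw [hT, mem_Tor_iff, hd, mem_centralizer_diagSL_iff a ha hne]
  have hiff : ∀ y : ProjectiveSpecialLinearGroup (Fin 2) F,
      Group.IsSolvable ↥(Subgroup.closure ({toPSL2 F d, y} : Set (ProjectiveSpecialLinearGroup (Fin 2) F))) ↔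
      y ∈ ((Bbar F : Set (ProjectiveSpecialLinearGroup (Fin 2) F)) ∪ (Bm F : Set _)) ∪ (N : Set _) := by
    intro y
    constructor
    · intro hsol
      set H := Subgroup.closure ({toPSL2 F d, y} : Set (ProjectiveSpecialLinearGroup (Fin 2) F)) with hH
      have hxH : toPSL2 F d ∈ H := Subgroup.subset_closure (Set.mem_insert _ _)
      have hyH : y ∈ H := Subgroup.subset_closure (Set.mem_insert_of_mem _ rfl)
      have hHtop : H ≠ ⊤ := ne_top_of_isSolvable hq4 H hsol
      have hHbot : H ≠ ⊥ := by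
        intro h
        rw [h, Subgroup.mem_bot] at hxH
        exact hu1 hxH
      rcases subgroup_le_cases p hp hF H hHtop hHbot with ⟨c', hc'⟩ | ⟨g₁, hg₁, ht₁, -, hle⟩
      · rcases conj_Bbar_cases_of_diag_mem a ha hne c' (hc' hxH) with h | h
        · left; left
          have := hc' hyH
          rw [h] at this
          exact this
        · left; right
          have := hc' hyH
          rw [h] at this
          exact this
      · right
        have hxT₁ : toPSL2 F d ∈ Tor g₁ :=
          mem_Tor_of_odd_order g₁ hg₁ ht₁ _ hu1 _ (coprime_two_pred_of_even _ heven hq1) hx (hle hxH)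
        have hTT : Tor d = Tor g₁ := Tor_eq_of_mem g₁ hg₁ d hxT₁ hds
        show y ∈ N
        rw [hN, hT, hTT]
        exact hle hyH
    · rintro ((hy | hy) | hy)
      · exact isSolvable_closure_of_mem isSolvable_Bbar hxB hy
      · exact isSolvable_closure_of_mem (isSolvable_conj_smul _ _ isSolvable_Bbar) hxBm hy
      · exact isSolvable_closure_of_mem (isSolvable_normalizer_Tor d hds htd) (hTN hxT) hy
  rw [Nat.card_congr (Equiv.subtypeEquivRight hiff)]
  -- the count
  have hc1 : Nat.card (Subgroup.center (SpecialLinearGroup (Fin 2) F)) = 1 := by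
    rw [center_SL2_eq_bot_of_two h2, Subgroup.card_bot]
  have hB : Nat.card (Bbar F) = Fintype.card F * (Fintype.card F - 1) := by
    have := card_Bbar_mul (F := F)
    rwa [hc1, mul_one] at this
  have hBm : Nat.card (Bm F) = Fintype.card F * (Fintype.card F - 1) := by
    unfold Bm
    rw [card_conj_smul, hB]
  have hint1 : (Bbar F : Set (ProjectiveSpecialLinearGroup (Fin 2) F)) ∩ (Bm F : Set _) = (T : Set _) := by
    ext y
    obtain ⟨g, rfl⟩ := toPSL2_surjective y
    simp only [Set.mem_inter_iff, SetLike.mem_coe]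
    rw [mem_Bbar_iff, mem_Bm_iff, hmemT]
    unfold Dk.IsB
    tauto
  have hint2 : ((Bbar F : Set (ProjectiveSpecialLinearGroup (Fin 2) F)) ∪ (Bm F : Set _)) ∩ (N : Set _) =
      (T : Set _) := by
    ext y
    constructor
    · rintro ⟨hyB, hyN⟩
      by_contra hyT
      have h3 := (hinvol y hyN hyT).2 _ hxT
      obtain ⟨g, rfl⟩ := toPSL2_surjective y
      rw [← map_inv, ← map_mul, ← map_mul, ← map_inv] at h3
      have h4 := toPSL2_injective_char_two h2 h3
      have h5 : g * d = d⁻¹ * g := by rw [← h4]; group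
      have h6 := congrArg (fun m : SpecialLinearGroup (Fin 2) F => (m : Matrix (Fin 2) (Fin 2) F)) h5
      simp only [Matrix.SpecialLinearGroup.coe_mul] at h6
      have e00 := congrFun (congrFun h6 0) 0
      have e11 := congrFun (congrFun h6 1) 1
      rw [Matrix.mul_apply, Fin.sum_univ_two, Matrix.mul_apply, Fin.sum_univ_two, inv_apply_00, inv_apply_01] at e00
      rw [Matrix.mul_apply, Fin.sum_univ_two, Matrix.mul_apply, Fin.sum_univ_two, inv_apply_10, inv_apply_11] at e11
      have hd00 : (d : Matrix (Fin 2) (Fin 2) F) 0 0 = a := by simp [hd, diagSL]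
      have hd11 : (d : Matrix (Fin 2) (Fin 2) F) 1 1 = a⁻¹ := by simp [hd, diagSL]
      rw [hd00, hd01, hd10, hd11] at e00 e11
      have hsub : a - a⁻¹ ≠ 0 := sub_ne_zero.2 hne
      have g00 : (g : Matrix (Fin 2) (Fin 2) F) 0 0 = 0 := by
        have : (g : Matrix (Fin 2) (Fin 2) F) 0 0 * (a - a⁻¹) = 0 := by linear_combination e00
        exact (mul_eq_zero.1 this).resolve_right hsub
      have g11 : (g : Matrix (Fin 2) (Fin 2) F) 1 1 = 0 := by
        have : (g : Matrix (Fin 2) (Fin 2) F) 1 1 * (a - a⁻¹) = 0 := by linear_combination -e11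
        exact (mul_eq_zero.1 this).resolve_right hsub
      have hdet := det_eq g
      rw [g00, g11] at hdet
      rcases hyB with hyB | hyB
      · have h10 : (g : Matrix (Fin 2) (Fin 2) F) 1 0 = 0 := (mem_Bbar_iff g).1 hyB
        rw [h10] at hdet
        simp at hdet
      · have h01 : (g : Matrix (Fin 2) (Fin 2) F) 0 1 = 0 := (mem_Bm_iff g).1 hyB
        rw [h01] at hdet
        simp at hdet
    · intro hyT
      have hyT' : y ∈ (Bbar F : Set (ProjectiveSpecialLinearGroup (Fin 2) F)) ∩ (Bm F : Set _) := by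
        rw [hint1]; exact hyT
      exact ⟨Or.inl hyT'.1, hTN hyT⟩
  have e1 := Set.ncard_union_add_ncard_inter (Bbar F : Set (ProjectiveSpecialLinearGroup (Fin 2) F))
    (Bm F : Set _)
  have e2 := Set.ncard_union_add_ncard_inter
    ((Bbar F : Set (ProjectiveSpecialLinearGroup (Fin 2) F)) ∪ (Bm F : Set _)) (N : Set _)
  rw [hint1] at e1
  rw [hint2] at e2
  have c1 : (Bbar F : Set (ProjectiveSpecialLinearGroup (Fin 2) F)).ncard = Nat.card (Bbar F) := rfl
  have c2 : (Bm F : Set (ProjectiveSpecialLinearGroup (Fin 2) F)).ncard = Nat.card (Bm F) := rfl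
  have c3 : (N : Set (ProjectiveSpecialLinearGroup (Fin 2) F)).ncard = Nat.card N := rfl
  have c4 : (T : Set (ProjectiveSpecialLinearGroup (Fin 2) F)).ncard = Nat.card T := rfl
  rw [c1, c2, c4, hB, hBm] at e1
  rw [c3, c4, hcardN] at e2
  show Set.ncard (((Bbar F : Set (ProjectiveSpecialLinearGroup (Fin 2) F)) ∪ (Bm F : Set _)) ∪ (N : Set _)) = _
  rw [← hF]
  have : 2 * Fintype.card F * (Fintype.card F - 1) =
      Fintype.card F * (Fintype.card F - 1) + Fintype.card F * (Fintype.card F - 1) := by ring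
  omega

end Cfsg.Agent.Lib.Helper15.Sol
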