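import Mathlib
import Cfsg.Agent.Lib.Helper15.Sol6

/-!
# Solubilizers in `PSL₂(2^p)`, part 7: the solubilizer of an involution
-/

set_option autoImplicit false

open scoped Pointwise

namespace Cfsg.Agent.Lib.Helper15.Sol

open Matrix
open Cfsg.Agent.Lib.Helper14
open Cfsg.Agent.Lib.Helper15
open Cfsg.Agent.Lib.Helper15.Dk

variable {F : Type*} [Field F] [Fintype F]

/-- the solubilizer of an involution -/
theorem card_sol_invol (p : ℕ) (hp : p.Prime) (hF : Fintype.card F = 2 ^ p)
    (x : ProjectiveSpecialLinearGroup (Fin 2) F) (hx : orderOf x = 2) :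
    Nat.card {y : ProjectiveSpecialLinearGroup (Fin 2) F //
      Group.IsSolvable ↥(Subgroup.closure ({x, y} : Set (ProjectiveSpecialLinearGroup (Fin 2) F)))} =
      3 * 2 ^ p * (2 ^ p - 1) := by
  obtain ⟨heven, h2, hq4⟩ := basic_facts p hp hF
  have hchar : CharP F 2 := CharTwo.of_one_ne_zero_of_two_eq_zero one_ne_zero h2
  obtain ⟨c, b, hb, hc⟩ := exists_conj_uu_of_order_two x hx
  rw [← card_sol_conj c x, hc]
  set u := toPSL2 F (uu b) with hu
  have hu1 : u ≠ 1 := fun h => uu_not_scalar b hb ((toPSL2_eq_one_iff' _).1 h)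
  have huu : u * u = 1 := by
    rw [hu, ← map_mul, uu_mul]
    have : b + b = 0 := by linear_combination b * h2
    rw [this, uu_zero, map_one]
  have hui : u⁻¹ = u := inv_eq_of_mul_eq_one_right huu
  have huB : u ∈ Bbar F := (mem_Bbar_iff _).2 (isUT_uu b).isB
  set I' : Set (ProjectiveSpecialLinearGroup (Fin 2) F) := {z | z * z = 1 ∧ z ∉ Bbar F} with hI'
  have hiff : ∀ y : ProjectiveSpecialLinearGroup (Fin 2) F,
      Group.IsSolvable ↥(Subgroup.closure ({u, y} : Set (ProjectiveSpecialLinearGroup (Fin 2) F))) ↔
      y ∈ ((Bbar F : Set (ProjectiveSpecialLinearGroup (Fin 2) F)) ∪ I') ∪ (fun z => u * z) '' I' := by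
    intro y
    constructor
    · intro hsol
      set H := Subgroup.closure ({u, y} : Set (ProjectiveSpecialLinearGroup (Fin 2) F)) with hH
      have huH : u ∈ H := Subgroup.subset_closure (Set.mem_insert _ _)
      have hyH : y ∈ H := Subgroup.subset_closure (Set.mem_insert_of_mem _ rfl)
      have hHtop : H ≠ ⊤ := ne_top_of_isSolvable hq4 H hsol
      have hHbot : H ≠ ⊥ := by
        intro h
        rw [h, Subgroup.mem_bot] at huH
        exact hu1 huH
      rcases subgroup_le_cases p hp hF H hHtop hHbot with ⟨c', hc'⟩ | ⟨g₁, hg₁, ht₁, -, hle⟩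
      · left; left
        have h1 := conj_Bbar_eq_of_uu_mem b hb c' (hc' huH)
        have := hc' hyH
        rw [h1] at this
        exact this
      · have huN := hle huH
        have huT : u ∉ Tor g₁ := by
          intro h
          have h1 : Tor (uu b) = Tor g₁ := Tor_eq_of_mem g₁ hg₁ (uu b) h (uu_not_scalar b hb)
          rw [Tor_uu b hb] at h1
          have h3 : toPSL2 F g₁ ∈ Ubar F := by rw [h1]; exact self_mem_Tor g₁
          rw [mem_Ubar_iff] at h3
          apply ht₁
          rw [Matrix.trace_fin_two, ← h3.2]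
          have := h3.sq
          linear_combination 4 * this
        obtain ⟨-, hinv⟩ := (torus_normalizer g₁ hg₁ ht₁).2.2.2 u huN huT
        by_cases hyT : y ∈ Tor g₁
        · have h3 := hinv y hyT
          rw [hui] at h3
          have hzz : (u * y) * (u * y) = 1 := by
            have : (u * y) * (u * y) = (u * y * u) * y := by group
            rw [this, h3, inv_mul_cancel]
          by_cases hzB : u * y ∈ Bbar F
          · left; left
            have : y = u * (u * y) := by rw [← mul_assoc, huu, one_mul]
            rw [this]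
            exact (Bbar F).mul_mem huB hzB
          · right
            exact ⟨u * y, ⟨hzz, hzB⟩, by simp only; rw [← mul_assoc, huu, one_mul]⟩
        · have h3 := ((torus_normalizer g₁ hg₁ ht₁).2.2.2 y (hle hyH) hyT).1
          by_cases hyB : y ∈ Bbar F
          · left; left; exact hyB
          · left; right; exact ⟨h3, hyB⟩
    · rintro ((hy | ⟨hyy, -⟩) | ⟨z, ⟨hzz, -⟩, rfl⟩)
      · exact isSolvable_closure_of_mem isSolvable_Bbar huB hy
      · exact isSolvable_closure_pair u y huu hyy
      · apply isSolvable_of_le _ (isSolvable_closure_pair u z huu hzz)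
        rw [Subgroup.closure_le]
        intro t ht
        rcases ht with rfl | rfl
        · exact Subgroup.subset_closure (Set.mem_insert _ _)
        · exact Subgroup.mul_mem _ (Subgroup.subset_closure (Set.mem_insert _ _))
            (Subgroup.subset_closure (Set.mem_insert_of_mem _ rfl))
  rw [Nat.card_congr (Equiv.subtypeEquivRight hiff)]
  -- the count
  have hc1 : Nat.card (Subgroup.center (SpecialLinearGroup (Fin 2) F)) = 1 := by
    rw [center_SL2_eq_bot_of_two h2, Subgroup.card_bot]
  have hB : Nat.card (Bbar F) = Fintype.card F * (Fintype.card F - 1) := by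
    have := card_Bbar_mul (F := F)
    rwa [hc1, mul_one] at this
  have hd1 : Disjoint (Bbar F : Set (ProjectiveSpecialLinearGroup (Fin 2) F)) I' := by
    rw [Set.disjoint_left]
    intro y hy hy'
    exact hy'.2 hy
  have hd2 : Disjoint ((Bbar F : Set (ProjectiveSpecialLinearGroup (Fin 2) F)) ∪ I')
      ((fun z => u * z) '' I') := by
    rw [Set.disjoint_left]
    rintro y hy ⟨z, ⟨hzz, hzB⟩, rfl⟩
    rcases hy with hy | ⟨hyy, -⟩
    · apply hzB
      have : z = u * (u * z) := by rw [← mul_assoc, huu, one_mul]
      rw [this]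
      exact (Bbar F).mul_mem huB hy
    · apply hzB
      have hzi : z⁻¹ = z := inv_eq_of_mul_eq_one_right hzz
      have hcomm : z * u = u * z := by
        have h1 : u * z = (u * z)⁻¹ := (inv_eq_of_mul_eq_one_right hyy).symm
        rw [_root_.mul_inv_rev, hzi, hui] at h1
        exact h1.symm
      obtain ⟨k, rfl⟩ := toPSL2_surjective z
      rw [hu, ← map_mul, ← map_mul] at hcomm
      have h3 := toPSL2_injective_char_two h2 hcomm
      have h4 : k ∈ Subgroup.centralizer ({uu b} : Set (SpecialLinearGroup (Fin 2) F)) := by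
        rw [Subgroup.mem_centralizer_singleton_iff]
        exact h3
      rw [mem_centralizer_uu_iff b hb] at h4
      exact (mem_Bbar_iff k).2 h4.isB
  show Set.ncard (((Bbar F : Set (ProjectiveSpecialLinearGroup (Fin 2) F)) ∪ I') ∪ (fun z => u * z) '' I') = _
  rw [Set.ncard_union_eq hd2, Set.ncard_union_eq hd1,
    Set.ncard_image_of_injective _ (mul_right_injective u), hI', ncard_invol h2]
  have c1 : (Bbar F : Set (ProjectiveSpecialLinearGroup (Fin 2) F)).ncard = Nat.card (Bbar F) := rfl
  rw [c1, hB, ← hF]
  ring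

end Cfsg.Agent.Lib.Helper15.Sol
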