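import Mathlib

/-!
# Normal forms of non-scalar `3 × 3` matrices (towards Sourour's factorisation theorem)
-/

set_option autoImplicit false

namespace Cfsg.Agent.Lib.Helper15.Sour

open Matrix Module

variable {F : Type*} [Field F]

/-- the matrix with prescribed columns -/
def colsMat (p₀ p₁ p₂ : Fin 3 → F) : Matrix (Fin 3) (Fin 3) F :=
  Matrix.of fun i j => (![p₀, p₁, p₂] j) i

omit [Field F] in
theorem colsMat_apply (p₀ p₁ p₂ : Fin 3 → F) (i j : Fin 3) :
    colsMat p₀ p₁ p₂ i j = (![p₀, p₁, p₂] j) i := rfl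

theorem isUnit_colsMat (p₀ p₁ p₂ : Fin 3 → F) (li : LinearIndependent F ![p₀, p₁, p₂]) :
    IsUnit (colsMat p₀ p₁ p₂) := by
  rw [← Matrix.linearIndependent_cols_iff_isUnit]
  exact li

/-- `A P = P C` if the columns of `C` give the coordinates of the images of the columns of `P` -/
theorem mul_colsMat_eq (A C : Matrix (Fin 3) (Fin 3) F) (p₀ p₁ p₂ : Fin 3 → F)
    (h0 : A *ᵥ p₀ = C 0 0 • p₀ + C 1 0 • p₁ + C 2 0 • p₂)
    (h1 : A *ᵥ p₁ = C 0 1 • p₀ + C 1 1 • p₁ + C 2 1 • p₂)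
    (h2 : A *ᵥ p₂ = C 0 2 • p₀ + C 1 2 • p₁ + C 2 2 • p₂) :
    A * colsMat p₀ p₁ p₂ = colsMat p₀ p₁ p₂ * C := by
  ext i j
  have hL : (A * colsMat p₀ p₁ p₂) i j = (A *ᵥ (![p₀, p₁, p₂] j)) i := by
    rw [Matrix.mul_apply, Matrix.mulVec, dotProduct]
    rfl
  have hR : (colsMat p₀ p₁ p₂ * C) i j = C 0 j * p₀ i + C 1 j * p₁ i + C 2 j * p₂ i := by
    rw [Matrix.mul_apply, Fin.sum_univ_three]
    simp only [colsMat_apply]
    simp only [Matrix.cons_val_zero, Matrix.cons_val_one, Matrix.cons_val]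
    ring
  rw [hL, hR]
  fin_cases j
  · have := congrFun h0 i
    simpa [mul_comm] using this
  · have := congrFun h1 i
    simpa [mul_comm] using this
  · have := congrFun h2 i
    simpa [mul_comm] using this

theorem colsMat_mulVec (p₀ p₁ p₂ c : Fin 3 → F) :
    colsMat p₀ p₁ p₂ *ᵥ c = c 0 • p₀ + c 1 • p₁ + c 2 • p₂ := by
  funext i
  rw [Matrix.mulVec, dotProduct, Fin.sum_univ_three]
  simp only [colsMat_apply, Matrix.cons_val_zero, Matrix.cons_val_one, Matrix.cons_val,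
    Pi.add_apply, Pi.smul_apply, smul_eq_mul]
  ring

/-- A non-scalar matrix moves some vector off its line. -/
theorem exists_li_pair {n : ℕ} (A : Matrix (Fin n) (Fin n) F) (hns : ∀ c : F, A ≠ c • 1) :
    ∃ v : Fin n → F, LinearIndependent F ![v, A *ᵥ v] := by
  by_contra hcon
  rw [not_exists] at hcon
  obtain ⟨a, ha⟩ := LinearMap.exists_eq_smul_id_of_forall_notLinearIndependent
    (f := Matrix.toLin' A) (fun v => by
      have := hcon v
      rwa [Matrix.toLin'_apply])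
  apply hns a
  apply Matrix.toLin'.injective
  rw [ha, map_smul, Matrix.toLin'_one]
  rfl

omit [Field F] in
theorem snoc_eq (p₀ p₁ p₂ : Fin 3 → F) :
    (Fin.snoc (![p₀, p₁] : Fin 2 → Fin 3 → F) p₂ : Fin 3 → Fin 3 → F) = ![p₀, p₁, p₂] := by
  funext i
  fin_cases i <;> rfl

/-- normal form of a non-scalar `3 × 3` matrix: it is conjugate to a matrix whose first column is
`e₁` and whose second column is `e₂` or lies in the span of `e₀, e₁` -/
theorem exists_normal_form (A : Matrix (Fin 3) (Fin 3) F) (hns : ∀ c : F, A ≠ c • 1) :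
    ∃ (P C : Matrix (Fin 3) (Fin 3) F), IsUnit P ∧ A * P = P * C ∧
      C 0 0 = 0 ∧ C 1 0 = 1 ∧ C 2 0 = 0 ∧
      ((C 0 1 = 0 ∧ C 1 1 = 0 ∧ C 2 1 = 1) ∨ C 2 1 = 0) := by
  obtain ⟨v, hv⟩ := exists_li_pair A hns
  have hrange : Set.range (![v, A *ᵥ v] : Fin 2 → Fin 3 → F) = {v, A *ᵥ v} := by
    ext x
    simp only [Set.mem_range, Set.mem_insert_iff, Set.mem_singleton_iff]
    constructor
    · rintro ⟨i, rfl⟩
      fin_cases i
      · left; rfl
      · right; rfl
    · rintro (rfl | rfl)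
      · exact ⟨0, rfl⟩
      · exact ⟨1, rfl⟩
  by_cases hcase : A *ᵥ (A *ᵥ v) ∈ Submodule.span F (Set.range (![v, A *ᵥ v] : Fin 2 → Fin 3 → F))
  · -- invariant plane
    rw [hrange, Submodule.mem_span_pair] at hcase
    obtain ⟨b, a, hba⟩ := hcase
    have hne : Submodule.span F (Set.range (![v, A *ᵥ v] : Fin 2 → Fin 3 → F)) ≠ ⊤ := by
      intro htop
      have h1 : finrank F (Submodule.span F (Set.range (![v, A *ᵥ v] : Fin 2 → Fin 3 → F))) ≤ 2 := by
        have := finrank_range_le_card (R := F) (![v, A *ᵥ v] : Fin 2 → Fin 3 → F)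
        rw [Fintype.card_fin] at this
        exact this
      rw [htop, finrank_top, Module.finrank_fin_fun] at h1
      omega
    obtain ⟨w, -, hw⟩ := SetLike.exists_of_lt (lt_top_iff_ne_top.mpr hne)
    have li₃ : LinearIndependent F ![v, A *ᵥ v, w] := by
      rw [← snoc_eq]
      exact hv.finSnoc hw
    have hP := isUnit_colsMat _ _ _ li₃
    set P := colsMat v (A *ᵥ v) w with hPdef
    set c : Fin 3 → F := P⁻¹ *ᵥ (A *ᵥ w) with hc
    have hPc : P *ᵥ c = A *ᵥ w := by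
      rw [hc, Matrix.mulVec_mulVec, Matrix.mul_nonsing_inv _ ((Matrix.isUnit_iff_isUnit_det _).mp hP),
        Matrix.one_mulVec]
    refine ⟨P, !![0, b, c 0; 1, a, c 1; 0, 0, c 2], hP, ?_, rfl, rfl, rfl, Or.inr rfl⟩
    apply mul_colsMat_eq
    · simp
    · simp only [Matrix.of_apply, Matrix.cons_val', Matrix.cons_val_zero, Matrix.cons_val_one,
        Matrix.cons_val, zero_smul, add_zero]
      rw [← hba]
    · rw [← hPc, hPdef, colsMat_mulVec]
      simp
  · have li₃ : LinearIndependent F ![v, A *ᵥ v, A *ᵥ (A *ᵥ v)] := by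
      rw [← snoc_eq]
      exact hv.finSnoc hcase
    have hP := isUnit_colsMat _ _ _ li₃
    set P := colsMat v (A *ᵥ v) (A *ᵥ (A *ᵥ v)) with hPdef
    set c : Fin 3 → F := P⁻¹ *ᵥ (A *ᵥ (A *ᵥ (A *ᵥ v))) with hc
    have hPc : P *ᵥ c = A *ᵥ (A *ᵥ (A *ᵥ v)) := by
      rw [hc, Matrix.mulVec_mulVec, Matrix.mul_nonsing_inv _ ((Matrix.isUnit_iff_isUnit_det _).mp hP),
        Matrix.one_mulVec]
    refine ⟨P, !![0, 0, c 0; 1, 0, c 1; 0, 1, c 2], hP, ?_, rfl, rfl, rfl, Or.inl ⟨rfl, rfl, rfl⟩⟩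
    apply mul_colsMat_eq
    · simp
    · simp
    · rw [← hPc, hPdef, colsMat_mulVec]
      simp

end Cfsg.Agent.Lib.Helper15.Sour
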