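import Mathlib
import Cfsg.Agent.Lib.Helper15.Sour1

set_option autoImplicit false

namespace Cfsg.Agent.Lib.Helper15.Sour

open Matrix Module

variable {F : Type*} [Field F]

/-- diagonal matrix -/
def dg (d₀ d₁ d₂ : F) : Matrix (Fin 3) (Fin 3) F := !![d₀, 0, 0; 0, d₁, 0; 0, 0, d₂]

/-- `C` is a product of two conjugates of `T` -/
def IsProd (T C : Matrix (Fin 3) (Fin 3) F) : Prop :=
  ∃ X Xi Y Yi : Matrix (Fin 3) (Fin 3) F, X * Xi = 1 ∧ Y * Yi = 1 ∧ C = X * T * Xi * (Y * T * Yi)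

theorem IsProd.conj {T C A P : Matrix (Fin 3) (Fin 3) F} (hP : IsUnit P) (h : A * P = P * C)
    (hC : IsProd T C) : IsProd T A := by
  obtain ⟨X, Xi, Y, Yi, hX, hY, hC⟩ := hC
  have hdet := (Matrix.isUnit_iff_isUnit_det _).mp hP
  have h1 : P * P⁻¹ = 1 := Matrix.mul_nonsing_inv _ hdet
  have h2 : P⁻¹ * P = 1 := Matrix.nonsing_inv_mul _ hdet
  refine ⟨P * X, Xi * P⁻¹, P * Y, Yi * P⁻¹, ?_, ?_, ?_⟩
  · calc P * X * (Xi * P⁻¹) = P * (X * Xi) * P⁻¹ := by simp only [Matrix.mul_assoc]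
      _ = 1 := by rw [hX, Matrix.mul_one, h1]
  · calc P * Y * (Yi * P⁻¹) = P * (Y * Yi) * P⁻¹ := by simp only [Matrix.mul_assoc]
      _ = 1 := by rw [hY, Matrix.mul_one, h1]
  · have hA : A = P * C * P⁻¹ := by
      calc A = A * (P * P⁻¹) := by rw [h1, Matrix.mul_one]
        _ = (A * P) * P⁻¹ := by rw [Matrix.mul_assoc]
        _ = P * C * P⁻¹ := by rw [h]
    rw [hA, hC]
    calc P * (X * T * Xi * (Y * T * Yi)) * P⁻¹
        = P * X * T * Xi * (1 : Matrix (Fin 3) (Fin 3) F) * Y * T * Yi * P⁻¹ := by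
          simp only [Matrix.mul_assoc, Matrix.one_mul]
      _ = P * X * T * Xi * (P⁻¹ * P) * Y * T * Yi * P⁻¹ := by rw [h2]
      _ = _ := by simp only [Matrix.mul_assoc]

/-- the LU factorisation of a matrix with prescribed leading "pivots" -/
theorem lu_of_good (M : Matrix (Fin 3) (Fin 3) F) (β₀ β₁ β₂ γ₀ γ₁ γ₂ : F)
    (hβ₀ : β₀ ≠ 0) (hβ₁ : β₁ ≠ 0) (hγ₀ : γ₀ ≠ 0) (hγ₁ : γ₁ ≠ 0)
    (h0 : M 0 0 = β₀ * γ₀) (h1 : M 1 1 * (β₀ * γ₀) - M 1 0 * M 0 1 = β₁ * γ₁ * (β₀ * γ₀))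
    (hdet : M.det = β₀ * γ₀ * (β₁ * γ₁) * (β₂ * γ₂)) :
    M = !![β₀, 0, 0; M 1 0 / γ₀, β₁, 0;
          M 2 0 / γ₀, (M 2 1 - M 2 0 * M 0 1 / (β₀ * γ₀)) / γ₁, β₂] *
        !![γ₀, M 0 1 / β₀, M 0 2 / β₀; 0, γ₁, (M 1 2 - M 1 0 * M 0 2 / (β₀ * γ₀)) / β₁;
          0, 0, γ₂] := by
  rw [Matrix.det_fin_three] at hdet
  ext i j
  fin_cases i <;> fin_cases j
  · simp [Matrix.mul_apply, Fin.sum_univ_three, h0]
  · simp [Matrix.mul_apply, Fin.sum_univ_three]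
    field_simp
  · simp [Matrix.mul_apply, Fin.sum_univ_three]
    field_simp
  · simp [Matrix.mul_apply, Fin.sum_univ_three]
    field_simp
  · simp [Matrix.mul_apply, Fin.sum_univ_three]
    field_simp
    linear_combination h1
  · simp [Matrix.mul_apply, Fin.sum_univ_three]
    field_simp
    ring
  · simp [Matrix.mul_apply, Fin.sum_univ_three]
    field_simp
  · simp [Matrix.mul_apply, Fin.sum_univ_three]
    field_simp
    ring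
  · simp [Matrix.mul_apply, Fin.sum_univ_three]
    field_simp
    rw [h0] at hdet
    linear_combination (-(β₀ * γ₀ * M 2 2 - M 2 0 * M 0 2)) * h1 + (β₀ * γ₀) * hdet


/-- a lower triangular matrix with distinct diagonal entries is diagonalisable -/
theorem lower_conj (β₀ β₁ β₂ l₁₀ l₂₀ l₂₁ : F) (h01 : β₀ ≠ β₁) (h02 : β₀ ≠ β₂) (h12 : β₁ ≠ β₂) :
    ∃ R Ri : Matrix (Fin 3) (Fin 3) F, R * Ri = 1 ∧
      !![β₀, 0, 0; l₁₀, β₁, 0; l₂₀, l₂₁, β₂] = R * dg β₀ β₁ β₂ * Ri := by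
  have d01 : β₀ - β₁ ≠ 0 := sub_ne_zero.mpr h01
  have d02 : β₀ - β₂ ≠ 0 := sub_ne_zero.mpr h02
  have d12 : β₁ - β₂ ≠ 0 := sub_ne_zero.mpr h12
  refine ⟨!![1, 0, 0; l₁₀ / (β₀ - β₁), 1, 0;
      (l₂₀ + l₂₁ * (l₁₀ / (β₀ - β₁))) / (β₀ - β₂), l₂₁ / (β₁ - β₂), 1],
    !![1, 0, 0; -(l₁₀ / (β₀ - β₁)), 1, 0;
      (l₁₀ / (β₀ - β₁)) * (l₂₁ / (β₁ - β₂)) - (l₂₀ + l₂₁ * (l₁₀ / (β₀ - β₁))) / (β₀ - β₂),
      -(l₂₁ / (β₁ - β₂)), 1], ?_, ?_⟩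
  · ext i j
    fin_cases i <;> fin_cases j <;> simp [Matrix.mul_apply, Fin.sum_univ_three] <;> ring
  · ext i j
    fin_cases i <;> fin_cases j <;> simp [dg, Matrix.mul_apply, Fin.sum_univ_three] <;>
      field_simp <;> ring

omit [Field F] in
theorem transpose_fin_three (a b c d e f g h i : F) :
    (!![a, b, c; d, e, f; g, h, i] : Matrix (Fin 3) (Fin 3) F)ᵀ = !![a, d, g; b, e, h; c, f, i] := by
  ext x y
  fin_cases x <;> fin_cases y <;> rfl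

/-- an upper triangular matrix with distinct diagonal entries is diagonalisable -/
theorem upper_conj (γ₀ γ₁ γ₂ u₀₁ u₀₂ u₁₂ : F) (h01 : γ₀ ≠ γ₁) (h02 : γ₀ ≠ γ₂) (h12 : γ₁ ≠ γ₂) :
    ∃ R Ri : Matrix (Fin 3) (Fin 3) F, R * Ri = 1 ∧
      !![γ₀, u₀₁, u₀₂; 0, γ₁, u₁₂; 0, 0, γ₂] = R * dg γ₀ γ₁ γ₂ * Ri := by
  obtain ⟨R, Ri, h1, h2⟩ := lower_conj γ₀ γ₁ γ₂ u₀₁ u₀₂ u₁₂ h01 h02 h12
  refine ⟨Riᵀ, Rᵀ, ?_, ?_⟩
  · rw [← Matrix.transpose_mul, h1, Matrix.transpose_one]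
  · have h3 := congrArg Matrix.transpose h2
    rw [transpose_fin_three, Matrix.transpose_mul, Matrix.transpose_mul] at h3
    have h4 : (dg γ₀ γ₁ γ₂)ᵀ = dg γ₀ γ₁ γ₂ := by
      unfold dg
      rw [transpose_fin_three]
    rw [h4, ← Matrix.mul_assoc] at h3
    exact h3

/-- a matrix with good pivots is a product of two conjugates of a diagonal matrix with distinct
entries -/
theorem isProd_of_good (M : Matrix (Fin 3) (Fin 3) F) (β₀ β₁ β₂ : F)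
    (hβ₀ : β₀ ≠ 0) (hβ₁ : β₁ ≠ 0) (h01 : β₀ ≠ β₁) (h02 : β₀ ≠ β₂) (h12 : β₁ ≠ β₂)
    (h0 : M 0 0 = β₀ * β₀) (h1 : M 1 1 * (β₀ * β₀) - M 1 0 * M 0 1 = β₁ * β₁ * (β₀ * β₀))
    (hdet : M.det = β₀ * β₀ * (β₁ * β₁) * (β₂ * β₂)) : IsProd (dg β₀ β₁ β₂) M := by
  have hLU := lu_of_good M β₀ β₁ β₂ β₀ β₁ β₂ hβ₀ hβ₁ hβ₀ hβ₁ h0 h1 hdet
  obtain ⟨R, Ri, hR, hL⟩ := lower_conj β₀ β₁ β₂ (M 1 0 / β₀) (M 2 0 / β₀)
    ((M 2 1 - M 2 0 * M 0 1 / (β₀ * β₀)) / β₁) h01 h02 h12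
  obtain ⟨R', Ri', hR', hU⟩ := upper_conj β₀ β₁ β₂ (M 0 1 / β₀) (M 0 2 / β₀)
    ((M 1 2 - M 1 0 * M 0 2 / (β₀ * β₀)) / β₁) h01 h02 h12
  refine ⟨R, Ri, R', Ri', hR, hR', ?_⟩
  rw [← hL, ← hU]
  exact hLU

/-- conjugation invariance of the pivot conditions: shape 1 -/
theorem good_shape1 (l1 l2 x0 y0 z0 : F) :
    ∃ E Ei : Matrix (Fin 3) (Fin 3) F, E * Ei = 1 ∧ Ei * E = 1 ∧
      (Ei * !![0, 0, x0; 1, 0, y0; 0, 1, z0] * E) 0 0 = l1 ∧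
      (Ei * !![0, 0, x0; 1, 0, y0; 0, 1, z0] * E) 1 1 * l1 -
        (Ei * !![0, 0, x0; 1, 0, y0; 0, 1, z0] * E) 1 0 *
        (Ei * !![0, 0, x0; 1, 0, y0; 0, 1, z0] * E) 0 1 = l2 * l1 := by
  refine ⟨!![1, -l1, l1 * l2; 0, 1, -l2; 0, 0, 1], !![1, l1, 0; 0, 1, l2; 0, 0, 1], ?_, ?_, ?_, ?_⟩
  · ext i j
    fin_cases i <;> fin_cases j <;> simp [Matrix.mul_apply, Fin.sum_univ_three]
  · ext i j
    fin_cases i <;> fin_cases j <;> simp [Matrix.mul_apply, Fin.sum_univ_three]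
  · simp [Matrix.mul_apply, Fin.sum_univ_three]
  · simp [Matrix.mul_apply, Fin.sum_univ_three]
    ring

/-- conjugation invariance of the pivot conditions: shape 2 -/
theorem good_shape2 (l1 l2 a b ξ η ρ : F) (hl1 : l1 ≠ 0) (hρ : ρ ≠ 0) :
    ∃ E Ei : Matrix (Fin 3) (Fin 3) F, E * Ei = 1 ∧ Ei * E = 1 ∧
      (Ei * !![0, b, ξ; 1, a, η; 0, 0, ρ] * E) 0 0 = l1 ∧
      (Ei * !![0, b, ξ; 1, a, η; 0, 0, ρ] * E) 1 1 * l1 -
        (Ei * !![0, b, ξ; 1, a, η; 0, 0, ρ] * E) 1 0 *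
        (Ei * !![0, b, ξ; 1, a, η; 0, 0, ρ] * E) 0 1 = l2 * l1 := by
  obtain ⟨ε, hε⟩ : ∃ ε : F, ξ - ε * ρ ≠ 0 := by
    by_cases hξ : ξ = 0
    · refine ⟨1, ?_⟩
      rw [hξ, one_mul, zero_sub]
      exact neg_ne_zero.mpr hρ
    · exact ⟨0, by rwa [zero_mul, sub_zero]⟩
  obtain ⟨κ, hκ, hκl⟩ : ∃ κ : F, κ ≠ 0 ∧ κ * l1 = -(ξ - ε * ρ) :=
    ⟨-(ξ - ε * ρ) / l1, div_ne_zero (neg_ne_zero.mpr hε) hl1, by field_simp⟩
  refine ⟨!![1, ε, -κ * l1 + (ρ - l2) * ε; 0, 0, κ; 0, 1, ρ - l2],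
    !![1, l1, -ε; 0, -(ρ - l2) / κ, 1; 0, 1 / κ, 0], ?_, ?_, ?_, ?_⟩
  · ext i j
    fin_cases i <;> fin_cases j <;> simp [Matrix.mul_apply, Fin.sum_univ_three] <;> field_simp <;> ring
  · ext i j
    fin_cases i <;> fin_cases j <;> simp [Matrix.mul_apply, Fin.sum_univ_three] <;> field_simp <;> ring
  · simp [Matrix.mul_apply, Fin.sum_univ_three]
  · simp [Matrix.mul_apply, Fin.sum_univ_three]
    field_simp
    linear_combination (ρ - l2) * hκl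


theorem det_conj_eq (E Ei C : Matrix (Fin 3) (Fin 3) F) (h : Ei * E = 1) :
    (Ei * C * E).det = C.det := by
  rw [Matrix.det_mul, Matrix.det_mul, mul_comm Ei.det, mul_assoc, ← Matrix.det_mul, h,
    Matrix.det_one, mul_one]

theorem isProd_of_conj_good {T C : Matrix (Fin 3) (Fin 3) F} (E Ei : Matrix (Fin 3) (Fin 3) F)
    (h1 : E * Ei = 1) (h2 : Ei * E = 1) (h : IsProd T (Ei * C * E)) : IsProd T C := by
  refine IsProd.conj (P := E) ⟨⟨E, Ei, h1, h2⟩, rfl⟩ ?_ h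
  calc C * E = (E * Ei) * C * E := by rw [h1, Matrix.one_mul]
    _ = E * (Ei * C * E) := by simp only [Matrix.mul_assoc]

/-- Sourour's theorem for `3 × 3` matrices of determinant one and the split class
`diag(1, a, a⁻¹)` -/
theorem isProd_split (a : F) (ha0 : a ≠ 0) (ha1 : a ≠ 1) (ha2 : a * a ≠ 1)
    (A : Matrix (Fin 3) (Fin 3) F) (hns : ∀ c : F, A ≠ c • 1) (hdet : A.det = 1) :
    IsProd (dg 1 a a⁻¹) A := by
  obtain ⟨P, C, hP, hAP, c00, c10, c20, hcase⟩ := exists_normal_form A hns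
  have hPdet := (Matrix.isUnit_iff_isUnit_det _).mp hP
  have hCdet : C.det = 1 := by
    have h1 := congrArg Matrix.det hAP
    rw [Matrix.det_mul, Matrix.det_mul, hdet, one_mul] at h1
    have h2 : P.det * 1 = P.det * C.det := by rw [mul_one]; exact h1
    exact (hPdet.mul_left_cancel h2).symm
  refine IsProd.conj hP hAP ?_
  have h1a : (1 : F) ≠ a := fun h => ha1 h.symm
  have h1ai : (1 : F) ≠ a⁻¹ := by
    intro h
    apply ha1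
    have := congrArg (fun x => x * a) h
    simp only [one_mul, inv_mul_cancel₀ ha0] at this
    exact this
  have haai : a ≠ a⁻¹ := by
    intro h
    apply ha2
    have := congrArg (fun x => x * a) h
    simp only [inv_mul_cancel₀ ha0] at this
    exact this
  have hdetval : (1 : F) * 1 * (a * a) * (a⁻¹ * a⁻¹) = 1 := by
    field_simp
  have key : ∀ (E Ei : Matrix (Fin 3) (Fin 3) F), E * Ei = 1 → Ei * E = 1 →
      (Ei * C * E) 0 0 = 1 →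
      (Ei * C * E) 1 1 * 1 - (Ei * C * E) 1 0 * (Ei * C * E) 0 1 = a * a * 1 → IsProd (dg 1 a a⁻¹) C := by
    intro E Ei h1 h2 h3 h4
    apply isProd_of_conj_good E Ei h1 h2
    apply isProd_of_good (Ei * C * E) 1 a a⁻¹ one_ne_zero ha0 h1a h1ai haai
    · rw [h3, one_mul]
    · rw [one_mul]
      exact h4
    · rw [det_conj_eq E Ei C h2, hCdet, hdetval]
  rcases hcase with ⟨c01, c11, c21⟩ | c21
  · have hC : C = !![0, 0, C 0 2; 1, 0, C 1 2; 0, 1, C 2 2] := by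
      rw [Matrix.eta_fin_three C, c00, c10, c20, c01, c11, c21]
      simp
    obtain ⟨E, Ei, h1, h2, h3, h4⟩ := good_shape1 (1 : F) (a * a) (C 0 2) (C 1 2) (C 2 2)
    rw [← hC] at h3 h4
    exact key E Ei h1 h2 h3 h4
  · have hC : C = !![0, C 0 1, C 0 2; 1, C 1 1, C 1 2; 0, 0, C 2 2] := by
      rw [Matrix.eta_fin_three C, c00, c10, c20, c21]
      simp
    have hρ : C 2 2 ≠ 0 := by
      intro h
      rw [Matrix.det_fin_three, c00, c10, c20, c21, h] at hCdet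
      simp at hCdet
    obtain ⟨E, Ei, h1, h2, h3, h4⟩ := good_shape2 (1 : F) (a * a) (C 1 1) (C 0 1) (C 0 2) (C 1 2)
      (C 2 2) one_ne_zero hρ
    rw [← hC] at h3 h4
    exact key E Ei h1 h2 h3 h4

end Cfsg.Agent.Lib.Helper15.Sour
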