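import Mathlib
import Cfsg.Agent.Lib.Helper15.Sour2

/-!
# The field with three elements: products of two conjugates of an element of order four
-/

set_option autoImplicit false

namespace Cfsg.Agent.Lib.Helper15.Sour

open Matrix

/-- an element of order four of `SL₃(𝔽₃)` -/
def T4 : Matrix (Fin 3) (Fin 3) (ZMod 3) := !![1, 0, 0; 0, 0, 2; 0, 1, 0]

theorem t4_shape1 (y z : ZMod 3) : IsProd T4 !![0, 0, 1; 1, 0, y; 0, 1, z] := by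
  fin_cases y <;> fin_cases z
  · exact ⟨!![0, 0, 1; 0, 1, 1; 1, 1, 1], !![0, 2, 1; 2, 1, 0; 1, 0, 0], !![1, 0, 1; 0, 2, 2; 2, 1, 1], !![0, 2, 2; 2, 1, 2; 1, 1, 1], by decide, by decide, by decide⟩
  · exact ⟨!![0, 0, 1; 0, 1, 1; 1, 2, 0], !![2, 1, 1; 2, 1, 0; 1, 0, 0], !![1, 0, 1; 0, 2, 2; 2, 1, 1], !![0, 2, 2; 2, 1, 2; 1, 1, 1], by decide, by decide, by decide⟩
  · exact ⟨!![0, 0, 1; 0, 1, 1; 1, 0, 2], !![1, 0, 1; 2, 1, 0; 1, 0, 0], !![1, 0, 1; 0, 2, 2; 2, 1, 1], !![0, 2, 2; 2, 1, 2; 1, 1, 1], by decide, by decide, by decide⟩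
  · exact ⟨!![0, 0, 1; 0, 1, 0; 1, 0, 2], !![1, 0, 1; 0, 1, 0; 1, 0, 0], !![1, 0, 1; 1, 1, 2; 1, 2, 2], !![2, 1, 1; 0, 2, 1; 2, 2, 2], by decide, by decide, by decide⟩
  · exact ⟨!![0, 0, 1; 0, 1, 0; 1, 1, 1], !![2, 2, 1; 0, 1, 0; 1, 0, 0], !![1, 0, 1; 1, 1, 2; 1, 2, 2], !![2, 1, 1; 0, 2, 1; 2, 2, 2], by decide, by decide, by decide⟩
  · exact ⟨!![0, 0, 1; 0, 1, 0; 1, 2, 0], !![0, 1, 1; 0, 1, 0; 1, 0, 0], !![1, 0, 1; 1, 1, 2; 1, 2, 2], !![2, 1, 1; 0, 2, 1; 2, 2, 2], by decide, by decide, by decide⟩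
  · exact ⟨!![0, 0, 1; 0, 1, 0; 1, 1, 0], !![0, 2, 1; 0, 1, 0; 1, 0, 0], !![1, 0, 1; 2, 2, 1; 2, 1, 1], !![2, 2, 2; 0, 1, 2; 2, 1, 1], by decide, by decide, by decide⟩
  · exact ⟨!![0, 0, 1; 0, 1, 0; 1, 2, 2], !![1, 1, 1; 0, 1, 0; 1, 0, 0], !![1, 0, 1; 2, 2, 1; 2, 1, 1], !![2, 2, 2; 0, 1, 2; 2, 1, 1], by decide, by decide, by decide⟩
  · exact ⟨!![0, 0, 1; 0, 1, 0; 1, 0, 1], !![2, 0, 1; 0, 1, 0; 1, 0, 0], !![1, 0, 1; 2, 2, 1; 2, 1, 1], !![2, 2, 2; 0, 1, 2; 2, 1, 1], by decide, by decide, by decide⟩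

theorem t4_shape2a (a ξ η : ZMod 3) : IsProd T4 !![0, 1, ξ; 1, a, η; 0, 0, 2] := by
  fin_cases a <;> fin_cases ξ <;> fin_cases η
  · exact ⟨!![0, 0, 1; 1, 0, 2; 0, 1, 0], !![1, 1, 0; 0, 0, 1; 1, 0, 0], !![1, 0, 1; 1, 0, 2; 1, 1, 0], !![2, 2, 0; 1, 1, 1; 2, 1, 0], by decide, by decide, by decide⟩
  · exact ⟨!![0, 0, 1; 0, 1, 0; 1, 0, 1], !![2, 0, 1; 0, 1, 0; 1, 0, 0], !![1, 0, 1; 2, 0, 0; 1, 2, 2], !![0, 2, 0; 2, 1, 2; 1, 1, 0], by decide, by decide, by decide⟩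
  · exact ⟨!![0, 0, 1; 0, 1, 0; 1, 0, 2], !![1, 0, 1; 0, 1, 0; 1, 0, 0], !![1, 0, 1; 2, 0, 0; 2, 1, 1], !![0, 2, 0; 2, 1, 1; 1, 1, 0], by decide, by decide, by decide⟩
  · exact ⟨!![0, 0, 1; 0, 1, 1; 1, 2, 2], !![0, 1, 1; 2, 1, 0; 1, 0, 0], !![1, 0, 1; 0, 2, 2; 2, 2, 2], !![0, 1, 2; 2, 0, 2; 1, 2, 1], by decide, by decide, by decide⟩
  · exact ⟨!![0, 0, 1; 0, 1, 0; 1, 2, 2], !![1, 1, 1; 0, 1, 0; 1, 0, 0], !![0, 0, 1; 1, 1, 0; 0, 2, 2], !![1, 1, 1; 2, 0, 2; 1, 0, 0], by decide, by decide, by decide⟩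
  · exact ⟨!![0, 0, 1; 0, 1, 0; 1, 1, 1], !![2, 2, 1; 0, 1, 0; 1, 0, 0], !![0, 0, 1; 1, 2, 0; 0, 1, 1], !![2, 1, 1; 2, 0, 1; 1, 0, 0], by decide, by decide, by decide⟩
  · exact ⟨!![0, 0, 1; 0, 1, 1; 1, 1, 1], !![0, 2, 1; 2, 1, 0; 1, 0, 0], !![1, 0, 1; 0, 2, 2; 1, 1, 1], !![0, 1, 1; 2, 0, 1; 1, 2, 2], by decide, by decide, by decide⟩
  · exact ⟨!![0, 0, 1; 0, 1, 0; 1, 2, 2], !![1, 1, 1; 0, 1, 0; 1, 0, 0], !![0, 0, 1; 1, 2, 0; 0, 2, 2], !![2, 1, 2; 2, 0, 2; 1, 0, 0], by decide, by decide, by decide⟩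
  · exact ⟨!![0, 0, 1; 0, 1, 0; 1, 1, 1], !![2, 2, 1; 0, 1, 0; 1, 0, 0], !![0, 0, 1; 1, 1, 0; 0, 1, 1], !![1, 1, 2; 2, 0, 1; 1, 0, 0], by decide, by decide, by decide⟩
  · exact ⟨!![0, 0, 1; 1, 0, 0; 1, 2, 2], !![0, 1, 0; 2, 1, 2; 1, 0, 0], !![0, 0, 1; 1, 1, 1; 0, 2, 2], !![0, 1, 1; 2, 0, 2; 1, 0, 0], by decide, by decide, by decide⟩
  · exact ⟨!![0, 0, 1; 0, 1, 0; 1, 0, 1], !![2, 0, 1; 0, 1, 0; 1, 0, 0], !![1, 0, 1; 1, 0, 0; 0, 2, 2], !![0, 1, 0; 2, 1, 2; 1, 2, 0], by decide, by decide, by decide⟩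
  · exact ⟨!![0, 0, 1; 0, 1, 0; 1, 0, 2], !![1, 0, 1; 0, 1, 0; 1, 0, 0], !![1, 0, 1; 1, 0, 0; 0, 1, 1], !![0, 1, 0; 2, 1, 1; 1, 2, 0], by decide, by decide, by decide⟩
  · exact ⟨!![0, 0, 1; 0, 1, 0; 1, 0, 1], !![2, 0, 1; 0, 1, 0; 1, 0, 0], !![1, 0, 1; 1, 2, 2; 0, 0, 2], !![1, 0, 1; 1, 2, 2; 0, 0, 2], by decide, by decide, by decide⟩
  · exact ⟨!![0, 0, 1; 0, 1, 0; 1, 0, 2], !![1, 0, 1; 0, 1, 0; 1, 0, 0], !![1, 0, 1; 1, 1, 2; 0, 1, 0], !![2, 2, 1; 0, 0, 1; 2, 1, 2], by decide, by decide, by decide⟩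
  · exact ⟨!![0, 0, 1; 0, 1, 1; 1, 2, 2], !![0, 1, 1; 2, 1, 0; 1, 0, 0], !![0, 0, 1; 1, 2, 2; 0, 2, 2], !![0, 1, 2; 2, 0, 2; 1, 0, 0], by decide, by decide, by decide⟩
  · exact ⟨!![0, 0, 1; 0, 1, 0; 1, 0, 2], !![1, 0, 1; 0, 1, 0; 1, 0, 0], !![1, 0, 1; 1, 2, 2; 0, 0, 1], !![1, 0, 2; 1, 2, 1; 0, 0, 1], by decide, by decide, by decide⟩
  · exact ⟨!![0, 0, 1; 0, 1, 1; 1, 1, 1], !![0, 2, 1; 2, 1, 0; 1, 0, 0], !![0, 0, 1; 1, 2, 2; 0, 1, 1], !![0, 1, 1; 2, 0, 1; 1, 0, 0], by decide, by decide, by decide⟩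
  · exact ⟨!![0, 0, 1; 0, 1, 0; 1, 0, 1], !![2, 0, 1; 0, 1, 0; 1, 0, 0], !![1, 0, 1; 1, 1, 2; 0, 2, 0], !![2, 2, 2; 0, 0, 2; 2, 1, 1], by decide, by decide, by decide⟩
  · exact ⟨!![0, 0, 1; 1, 0, 0; 1, 2, 0], !![0, 1, 0; 0, 1, 2; 1, 0, 0], !![1, 0, 1; 2, 1, 2; 0, 0, 1], !![1, 0, 2; 1, 1, 0; 0, 0, 1], by decide, by decide, by decide⟩
  · exact ⟨!![0, 0, 1; 0, 1, 0; 1, 0, 1], !![2, 0, 1; 0, 1, 0; 1, 0, 0], !![0, 0, 1; 1, 0, 0; 1, 2, 2], !![0, 1, 0; 2, 1, 2; 1, 0, 0], by decide, by decide, by decide⟩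
  · exact ⟨!![0, 0, 1; 0, 1, 0; 1, 0, 2], !![1, 0, 1; 0, 1, 0; 1, 0, 0], !![0, 0, 1; 1, 0, 0; 2, 1, 1], !![0, 1, 0; 2, 1, 1; 1, 0, 0], by decide, by decide, by decide⟩
  · exact ⟨!![0, 0, 1; 0, 1, 0; 1, 2, 0], !![0, 1, 1; 0, 1, 0; 1, 0, 0], !![1, 0, 1; 2, 1, 1; 0, 0, 1], !![1, 0, 2; 1, 1, 1; 0, 0, 1], by decide, by decide, by decide⟩
  · exact ⟨!![0, 0, 1; 0, 1, 1; 1, 2, 2], !![0, 1, 1; 2, 1, 0; 1, 0, 0], !![1, 0, 1; 1, 2, 2; 2, 2, 2], !![0, 2, 1; 2, 0, 2; 1, 1, 2], by decide, by decide, by decide⟩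
  · exact ⟨!![0, 0, 1; 0, 1, 0; 1, 1, 0], !![0, 2, 1; 0, 1, 0; 1, 0, 0], !![1, 0, 1; 2, 2, 1; 0, 2, 0], !![2, 1, 2; 0, 0, 2; 2, 2, 1], by decide, by decide, by decide⟩
  · exact ⟨!![0, 0, 1; 0, 1, 0; 1, 1, 0], !![0, 2, 1; 0, 1, 0; 1, 0, 0], !![1, 0, 1; 2, 1, 1; 0, 0, 2], !![1, 0, 1; 1, 1, 2; 0, 0, 2], by decide, by decide, by decide⟩
  · exact ⟨!![0, 0, 1; 0, 1, 0; 1, 2, 0], !![0, 1, 1; 0, 1, 0; 1, 0, 0], !![1, 0, 1; 2, 2, 1; 0, 1, 0], !![2, 1, 1; 0, 0, 1; 2, 2, 2], by decide, by decide, by decide⟩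
  · exact ⟨!![0, 0, 1; 0, 1, 1; 1, 1, 1], !![0, 2, 1; 2, 1, 0; 1, 0, 0], !![1, 0, 1; 1, 2, 2; 1, 1, 1], !![0, 2, 2; 2, 0, 1; 1, 1, 1], by decide, by decide, by decide⟩

theorem t4_shape2b (a ξ η : ZMod 3) : IsProd T4 !![0, 2, ξ; 1, a, η; 0, 0, 1] := by
  fin_cases a <;> fin_cases ξ <;> fin_cases η
  · exact ⟨!![0, 0, 1; 0, 1, 1; 1, 0, 0], !![0, 0, 1; 2, 1, 0; 1, 0, 0], !![0, 0, 1; 0, 2, 2; 1, 0, 0], !![0, 0, 1; 2, 2, 0; 1, 0, 0], by decide, by decide, by decide⟩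
  · exact ⟨!![0, 0, 1; 0, 1, 1; 1, 0, 0], !![0, 0, 1; 2, 1, 0; 1, 0, 0], !![1, 0, 1; 2, 2, 2; 2, 0, 0], !![0, 0, 2; 2, 2, 0; 1, 0, 1], by decide, by decide, by decide⟩
  · exact ⟨!![0, 0, 1; 0, 1, 1; 1, 0, 0], !![0, 0, 1; 2, 1, 0; 1, 0, 0], !![1, 0, 1; 2, 2, 2; 1, 0, 0], !![0, 0, 1; 2, 2, 0; 1, 0, 2], by decide, by decide, by decide⟩
  · exact ⟨!![0, 0, 1; 0, 1, 1; 1, 0, 0], !![0, 0, 1; 2, 1, 0; 1, 0, 0], !![1, 0, 1; 0, 2, 2; 2, 0, 0], !![0, 0, 2; 2, 2, 2; 1, 0, 1], by decide, by decide, by decide⟩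
  · exact ⟨!![0, 0, 1; 0, 1, 1; 1, 0, 0], !![0, 0, 1; 2, 1, 0; 1, 0, 0], !![1, 0, 1; 1, 2, 2; 1, 0, 0], !![0, 0, 1; 2, 2, 2; 1, 0, 2], by decide, by decide, by decide⟩
  · exact ⟨!![0, 0, 1; 0, 1, 1; 1, 0, 0], !![0, 0, 1; 2, 1, 0; 1, 0, 0], !![0, 0, 1; 1, 2, 2; 2, 0, 0], !![0, 0, 2; 2, 2, 2; 1, 0, 0], by decide, by decide, by decide⟩
  · exact ⟨!![0, 0, 1; 0, 1, 1; 1, 0, 0], !![0, 0, 1; 2, 1, 0; 1, 0, 0], !![1, 0, 1; 0, 2, 2; 1, 0, 0], !![0, 0, 1; 2, 2, 1; 1, 0, 2], by decide, by decide, by decide⟩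
  · exact ⟨!![0, 0, 1; 0, 1, 1; 1, 0, 0], !![0, 0, 1; 2, 1, 0; 1, 0, 0], !![0, 0, 1; 1, 2, 2; 1, 0, 0], !![0, 0, 1; 2, 2, 1; 1, 0, 0], by decide, by decide, by decide⟩
  · exact ⟨!![0, 0, 1; 0, 1, 1; 1, 0, 0], !![0, 0, 1; 2, 1, 0; 1, 0, 0], !![1, 0, 1; 1, 2, 2; 2, 0, 0], !![0, 0, 2; 2, 2, 1; 1, 0, 1], by decide, by decide, by decide⟩
  · exact ⟨!![0, 0, 1; 1, 0, 0; 1, 1, 1], !![0, 1, 0; 2, 2, 1; 1, 0, 0], !![0, 0, 1; 1, 1, 1; 0, 2, 1], !![1, 1, 1; 1, 0, 2; 1, 0, 0], by decide, by decide, by decide⟩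
  · exact ⟨!![0, 0, 1; 0, 1, 1; 1, 0, 2], !![1, 0, 1; 2, 1, 0; 1, 0, 0], !![1, 0, 1; 2, 2, 2; 0, 1, 1], !![0, 2, 2; 2, 2, 0; 1, 1, 1], by decide, by decide, by decide⟩
  · exact ⟨!![0, 0, 1; 0, 1, 1; 1, 0, 1], !![2, 0, 1; 2, 1, 0; 1, 0, 0], !![1, 0, 1; 2, 2, 2; 0, 2, 2], !![0, 2, 1; 2, 2, 0; 1, 1, 2], by decide, by decide, by decide⟩
  · exact ⟨!![0, 0, 1; 0, 1, 0; 1, 0, 1], !![2, 0, 1; 0, 1, 0; 1, 0, 0], !![1, 0, 1; 1, 2, 2; 2, 1, 0], !![1, 1, 1; 1, 1, 2; 0, 2, 2], by decide, by decide, by decide⟩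
  · exact ⟨!![0, 0, 1; 0, 1, 0; 1, 2, 2], !![1, 1, 1; 0, 1, 0; 1, 0, 0], !![0, 0, 1; 1, 1, 0; 2, 1, 2], !![1, 2, 1; 2, 2, 2; 1, 0, 0], by decide, by decide, by decide⟩
  · exact ⟨!![0, 0, 1; 0, 1, 0; 1, 1, 0], !![0, 2, 1; 0, 1, 0; 1, 0, 0], !![1, 0, 1; 2, 2, 1; 1, 0, 2], !![2, 0, 2; 0, 2, 2; 2, 0, 1], by decide, by decide, by decide⟩
  · exact ⟨!![0, 0, 1; 0, 1, 0; 1, 0, 2], !![1, 0, 1; 0, 1, 0; 1, 0, 0], !![1, 0, 1; 1, 2, 2; 1, 2, 0], !![1, 1, 2; 1, 1, 1; 0, 2, 1], by decide, by decide, by decide⟩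
  · exact ⟨!![0, 0, 1; 0, 1, 0; 1, 2, 0], !![0, 1, 1; 0, 1, 0; 1, 0, 0], !![1, 0, 1; 2, 2, 1; 2, 0, 1], !![2, 0, 1; 0, 2, 1; 2, 0, 2], by decide, by decide, by decide⟩
  · exact ⟨!![0, 0, 1; 0, 1, 0; 1, 1, 1], !![2, 2, 1; 0, 1, 0; 1, 0, 0], !![0, 0, 1; 1, 1, 0; 1, 2, 1], !![1, 2, 2; 2, 2, 1; 1, 0, 0], by decide, by decide, by decide⟩
  · exact ⟨!![0, 0, 1; 1, 0, 2; 0, 1, 0], !![1, 1, 0; 0, 0, 1; 1, 0, 0], !![1, 0, 1; 1, 0, 2; 2, 2, 0], !![2, 2, 0; 1, 1, 2; 2, 1, 0], by decide, by decide, by decide⟩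
  · exact ⟨!![0, 0, 1; 0, 1, 1; 1, 0, 1], !![2, 0, 1; 2, 1, 0; 1, 0, 0], !![1, 0, 1; 2, 2, 2; 1, 2, 2], !![0, 1, 2; 2, 2, 0; 1, 2, 1], by decide, by decide, by decide⟩
  · exact ⟨!![0, 0, 1; 0, 1, 1; 1, 0, 2], !![1, 0, 1; 2, 1, 0; 1, 0, 0], !![1, 0, 1; 2, 2, 2; 2, 1, 1], !![0, 1, 1; 2, 2, 0; 1, 2, 2], by decide, by decide, by decide⟩
  · exact ⟨!![0, 0, 1; 0, 1, 0; 1, 2, 0], !![0, 1, 1; 0, 1, 0; 1, 0, 0], !![1, 0, 1; 2, 1, 1; 1, 2, 0], !![1, 2, 2; 1, 2, 1; 0, 1, 1], by decide, by decide, by decide⟩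
  · exact ⟨!![0, 0, 1; 0, 1, 0; 1, 0, 2], !![1, 0, 1; 0, 1, 0; 1, 0, 0], !![1, 0, 1; 1, 1, 2; 2, 0, 1], !![2, 0, 1; 0, 1, 1; 2, 0, 2], by decide, by decide, by decide⟩
  · exact ⟨!![0, 0, 1; 0, 1, 0; 1, 1, 1], !![2, 2, 1; 0, 1, 0; 1, 0, 0], !![0, 0, 1; 1, 2, 0; 2, 2, 1], !![2, 2, 1; 2, 1, 1; 1, 0, 0], by decide, by decide, by decide⟩
  · exact ⟨!![0, 0, 1; 0, 1, 0; 1, 1, 0], !![0, 2, 1; 0, 1, 0; 1, 0, 0], !![1, 0, 1; 2, 1, 1; 2, 1, 0], !![1, 2, 1; 1, 2, 2; 0, 1, 2], by decide, by decide, by decide⟩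
  · exact ⟨!![0, 0, 1; 0, 1, 0; 1, 2, 2], !![1, 1, 1; 0, 1, 0; 1, 0, 0], !![0, 0, 1; 1, 2, 0; 1, 1, 2], !![2, 2, 2; 2, 1, 2; 1, 0, 0], by decide, by decide, by decide⟩
  · exact ⟨!![0, 0, 1; 0, 1, 0; 1, 0, 1], !![2, 0, 1; 0, 1, 0; 1, 0, 0], !![1, 0, 1; 1, 1, 2; 1, 0, 2], !![2, 0, 2; 0, 1, 2; 2, 0, 1], by decide, by decide, by decide⟩

/-- every non-scalar matrix of determinant one over `𝔽₃` is a product of two conjugates of `T4` -/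
theorem isProd_T4 (A : Matrix (Fin 3) (Fin 3) (ZMod 3)) (hns : ∀ c : ZMod 3, A ≠ c • 1)
    (hdet : A.det = 1) : IsProd T4 A := by
  obtain ⟨P, C, hP, hAP, c00, c10, c20, hcase⟩ := exists_normal_form A hns
  have hPdet := (Matrix.isUnit_iff_isUnit_det _).mp hP
  have hCdet : C.det = 1 := by
    have h1 := congrArg Matrix.det hAP
    rw [Matrix.det_mul, Matrix.det_mul, hdet, one_mul] at h1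
    have h2 : P.det * 1 = P.det * C.det := by rw [mul_one]; exact h1
    exact (hPdet.mul_left_cancel h2).symm
  refine IsProd.conj hP hAP ?_
  rcases hcase with ⟨c01, c11, c21⟩ | c21
  · have h02 : C 0 2 = 1 := by
      rw [Matrix.det_fin_three, c00, c10, c20, c01, c11, c21] at hCdet
      simpa using hCdet
    have hC : C = !![0, 0, 1; 1, 0, C 1 2; 0, 1, C 2 2] := by
      rw [Matrix.eta_fin_three C, c00, c10, c20, c01, c11, c21, h02]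
      simp
    rw [hC]
    exact t4_shape1 _ _
  · have hdet' : -(C 0 1 * C 2 2) = 1 := by
      rw [Matrix.det_fin_three, c00, c10, c20, c21] at hCdet
      simpa using hCdet
    have hC : C = !![0, C 0 1, C 0 2; 1, C 1 1, C 1 2; 0, 0, C 2 2] := by
      rw [Matrix.eta_fin_three C, c00, c10, c20, c21]
      simp
    have hcases : (C 0 1 = 1 ∧ C 2 2 = 2) ∨ (C 0 1 = 2 ∧ C 2 2 = 1) := by
      generalize C 0 1 = b at hdet'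
      generalize C 2 2 = r at hdet'
      revert hdet'
      revert b r
      decide
    rw [hC]
    rcases hcases with ⟨h1, h2⟩ | ⟨h1, h2⟩
    · rw [h1, h2]
      exact t4_shape2a _ _ _
    · rw [h1, h2]
      exact t4_shape2b _ _ _

end Cfsg.Agent.Lib.Helper15.Sour
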