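import Mathlib
import Cfsg.Agent.Lib.Helper15.Sour3

/-!
# From matrix factorisations to products of conjugacy classes in `PSL₃(F)`
-/

set_option autoImplicit false

namespace Cfsg.Agent.Lib.Helper15.Sour

open Matrix

variable {F : Type*} [Field F]

theorem dg_mul (a b c a' b' c' : F) : dg a b c * dg a' b' c' = dg (a * a') (b * b') (c * c') := by
  unfold dg
  ext i j
  fin_cases i <;> fin_cases j <;> simp [Matrix.mul_apply, Fin.sum_univ_three]

theorem dg_one : dg (1 : F) 1 1 = 1 := by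
  unfold dg
  ext i j
  fin_cases i <;> fin_cases j <;> simp

theorem det_dg (a b c : F) : (dg a b c).det = a * b * c := by
  unfold dg
  rw [Matrix.det_fin_three]
  simp

theorem dg_pow (a b c : F) (k : ℕ) : dg a b c ^ k = dg (a ^ k) (b ^ k) (c ^ k) := by
  induction k with
  | zero => simp [dg_one]
  | succ k ih => rw [pow_succ, ih, dg_mul, pow_succ, pow_succ, pow_succ]

/-- normalising determinants of the conjugating matrices -/
theorem IsProd.det_one {T A : Matrix (Fin 3) (Fin 3) F}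
    (hcomm : ∀ d : F, d ≠ 0 → dg d 1 1 * T = T * dg d 1 1) (h : IsProd T A) :
    ∃ X Xi Y Yi : Matrix (Fin 3) (Fin 3) F, X * Xi = 1 ∧ Y * Yi = 1 ∧ X.det = 1 ∧ Y.det = 1 ∧
      A = X * T * Xi * (Y * T * Yi) := by
  obtain ⟨X, Xi, Y, Yi, hX, hY, hA⟩ := h
  have key : ∀ Z Zi : Matrix (Fin 3) (Fin 3) F, Z * Zi = 1 →
      ∃ Z' Zi' : Matrix (Fin 3) (Fin 3) F, Z' * Zi' = 1 ∧ Z'.det = 1 ∧ Z' * T * Zi' = Z * T * Zi := by
    intro Z Zi hZ
    have hdet : Z.det ≠ 0 := by
      intro h0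
      have := congrArg Matrix.det hZ
      rw [Matrix.det_mul, h0, zero_mul, Matrix.det_one] at this
      exact zero_ne_one this
    refine ⟨Z * dg (Z.det)⁻¹ 1 1, dg Z.det 1 1 * Zi, ?_, ?_, ?_⟩
    · calc Z * dg (Z.det)⁻¹ 1 1 * (dg Z.det 1 1 * Zi)
          = Z * (dg (Z.det)⁻¹ 1 1 * dg Z.det 1 1) * Zi := by simp only [Matrix.mul_assoc]
        _ = 1 := by
          rw [dg_mul, inv_mul_cancel₀ hdet, mul_one, dg_one, Matrix.mul_one, hZ]
    · rw [Matrix.det_mul, det_dg, mul_one, mul_one, mul_inv_cancel₀ hdet]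
    · calc Z * dg (Z.det)⁻¹ 1 1 * T * (dg Z.det 1 1 * Zi)
          = Z * (dg (Z.det)⁻¹ 1 1 * T) * dg Z.det 1 1 * Zi := by simp only [Matrix.mul_assoc]
        _ = Z * T * (dg (Z.det)⁻¹ 1 1 * dg Z.det 1 1) * Zi := by
          rw [hcomm _ (inv_ne_zero hdet)]; simp only [Matrix.mul_assoc]
        _ = Z * T * Zi := by
          rw [dg_mul, inv_mul_cancel₀ hdet, mul_one, dg_one, Matrix.mul_one]
  obtain ⟨X', Xi', h1, h2, h3⟩ := key X Xi hX
  obtain ⟨Y', Yi', h4, h5, h6⟩ := key Y Yi hY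
  exact ⟨X', Xi', Y', Yi', h1, h4, h2, h5, by rw [h3, h6]; exact hA⟩

/-- the passage to `PSL₃(F)` -/
theorem psl_of_isProd (T : Matrix (Fin 3) (Fin 3) F) (hT : T.det = 1) (k : ℕ) (hk : T ^ k = 1)
    (hcomm : ∀ d : F, d ≠ 0 → dg d 1 1 * T = T * dg d 1 1)
    (hprod : ∀ A : Matrix (Fin 3) (Fin 3) F, (∀ c : F, A ≠ c • 1) → A.det = 1 → IsProd T A) :
    ∃ x : Matrix.ProjectiveSpecialLinearGroup (Fin 3) F, x ^ k = 1 ∧
      ∀ g : Matrix.ProjectiveSpecialLinearGroup (Fin 3) F, g ≠ 1 →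
        ∃ u v : Matrix.ProjectiveSpecialLinearGroup (Fin 3) F, g = (u * x * u⁻¹) * (v * x * v⁻¹) := by
  let Ts : Matrix.SpecialLinearGroup (Fin 3) F := ⟨T, hT⟩
  refine ⟨QuotientGroup.mk Ts, ?_, ?_⟩
  · rw [← QuotientGroup.mk_pow]
    have : Ts ^ k = 1 := by
      apply Subtype.ext
      rw [Matrix.SpecialLinearGroup.coe_pow]
      exact hk
    rw [this]
    rfl
  · intro g hg
    obtain ⟨A, rfl⟩ := QuotientGroup.mk_surjective g
    have hns : ∀ c : F, (A : Matrix (Fin 3) (Fin 3) F) ≠ c • 1 := by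
      intro c hc
      apply hg
      rw [QuotientGroup.eq_one_iff, Matrix.SpecialLinearGroup.mem_center_iff]
      refine ⟨c, ?_, ?_⟩
      · have := A.2
        rw [hc, Matrix.det_smul, Matrix.det_one, mul_one] at this
        simpa using this
      · rw [hc]
        ext i j
        simp [Matrix.scalar_apply, Matrix.smul_apply, Matrix.one_apply, Matrix.diagonal_apply]
    obtain ⟨X, Xi, Y, Yi, hX, hY, hXd, hYd, hA⟩ := (hprod A hns A.2).det_one hcomm
    have hXid : Xi.det = 1 := by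
      have := congrArg Matrix.det hX
      rw [Matrix.det_mul, hXd, one_mul, Matrix.det_one] at this
      exact this
    have hYid : Yi.det = 1 := by
      have := congrArg Matrix.det hY
      rw [Matrix.det_mul, hYd, one_mul, Matrix.det_one] at this
      exact this
    let Xs : Matrix.SpecialLinearGroup (Fin 3) F := ⟨X, hXd⟩
    let Xis : Matrix.SpecialLinearGroup (Fin 3) F := ⟨Xi, hXid⟩
    let Ys : Matrix.SpecialLinearGroup (Fin 3) F := ⟨Y, hYd⟩
    let Yis : Matrix.SpecialLinearGroup (Fin 3) F := ⟨Yi, hYid⟩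
    have hXs : Xis = Xs⁻¹ := by
      apply eq_inv_of_mul_eq_one_right
      apply Subtype.ext
      exact hX
    have hYs : Yis = Ys⁻¹ := by
      apply eq_inv_of_mul_eq_one_right
      apply Subtype.ext
      exact hY
    have hAs : A = Xs * Ts * Xs⁻¹ * (Ys * Ts * Ys⁻¹) := by
      rw [← hXs, ← hYs]
      apply Subtype.ext
      exact hA
    refine ⟨QuotientGroup.mk Xs, QuotientGroup.mk Ys, ?_⟩
    rw [hAs]
    rfl

end Cfsg.Agent.Lib.Helper15.Sour
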