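import Mathlib
import Cfsg.Agent.Lib.Helper15.Sour4

/-!
# A semisimple class `C` of `PSL₃(F)` with `C · C ⊇ PSL₃(F) ∖ {1}`
-/

set_option autoImplicit false

namespace Cfsg.Agent.Lib.Helper15.Sour

open Matrix

/-- transport of `IsProd` along a ring isomorphism of the coefficients -/
theorem IsProd.map {R S : Type*} [Field R] [Field S] (e : R ≃+* S)
    {T A : Matrix (Fin 3) (Fin 3) R} (h : IsProd T A) :
    IsProd (T.map e) (A.map e) := by
  obtain ⟨X, Xi, Y, Yi, hX, hY, hA⟩ := h
  refine ⟨X.map e, Xi.map e, Y.map e, Yi.map e, ?_, ?_, ?_⟩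
  · rw [← Matrix.map_mul, hX]
    exact Matrix.map_one _ (map_zero e) (map_one e)
  · rw [← Matrix.map_mul, hY]
    exact Matrix.map_one _ (map_zero e) (map_one e)
  · rw [hA]
    simp only [Matrix.map_mul]

section split

variable {F : Type*} [Field F] [Fintype F]

theorem exists_good_elt (h4 : 4 ≤ Fintype.card F) : ∃ a : F, a ≠ 0 ∧ a ≠ 1 ∧ a * a ≠ 1 := by
  classical
  have hcard : ({0, 1, -1} : Finset F).card < (Finset.univ : Finset F).card := by
    rw [Finset.card_univ]
    calc ({0, 1, -1} : Finset F).card ≤ 3 := Finset.card_le_three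
      _ < Fintype.card F := h4
  obtain ⟨a, -, ha⟩ := Finset.exists_mem_notMem_of_card_lt_card hcard
  simp only [Finset.mem_insert, Finset.mem_singleton, not_or] at ha
  refine ⟨a, ha.1, ha.2.1, ?_⟩
  intro h
  have h1 : (a - 1) * (a + 1) = 0 := by linear_combination h
  rcases mul_eq_zero.mp h1 with h2 | h2
  · exact ha.2.1 (sub_eq_zero.mp h2)
  · exact ha.2.2 (eq_neg_of_add_eq_zero_left h2)

theorem psl3_split (h4 : 4 ≤ Fintype.card F) :
    ∃ x : Matrix.ProjectiveSpecialLinearGroup (Fin 3) F, x ^ (Fintype.card F - 1) = 1 ∧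
      ∀ g : Matrix.ProjectiveSpecialLinearGroup (Fin 3) F, g ≠ 1 →
        ∃ u v : Matrix.ProjectiveSpecialLinearGroup (Fin 3) F, g = (u * x * u⁻¹) * (v * x * v⁻¹) := by
  obtain ⟨a, ha0, ha1, ha2⟩ := exists_good_elt h4
  apply psl_of_isProd (dg 1 a a⁻¹)
  · rw [det_dg, one_mul, mul_inv_cancel₀ ha0]
  · rw [dg_pow, one_pow, FiniteField.pow_card_sub_one_eq_one a ha0,
      FiniteField.pow_card_sub_one_eq_one a⁻¹ (inv_ne_zero ha0), dg_one]
  · intro d _
    rw [dg_mul, dg_mul, mul_comm d 1, mul_comm 1 a, mul_comm 1 a⁻¹]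
  · intro A hns hdet
    exact isProd_split a ha0 ha1 ha2 A hns hdet

end split

section three

variable {F : Type*} [Field F] [Fintype F]

theorem psl3_three (h3 : Fintype.card F = 3) :
    ∃ x : Matrix.ProjectiveSpecialLinearGroup (Fin 3) F, x ^ 4 = 1 ∧
      ∀ g : Matrix.ProjectiveSpecialLinearGroup (Fin 3) F, g ≠ 1 →
        ∃ u v : Matrix.ProjectiveSpecialLinearGroup (Fin 3) F, g = (u * x * u⁻¹) * (v * x * v⁻¹) := by
  let e : ZMod 3 ≃+* F := ZMod.ringEquivOfPrime F Nat.prime_three h3
  have hdetmap : ∀ M : Matrix (Fin 3) (Fin 3) (ZMod 3), (M.map e).det = e M.det := by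
    intro M
    exact (RingHom.map_det (e : ZMod 3 →+* F) M).symm
  have hdetmap' : ∀ M : Matrix (Fin 3) (Fin 3) F, (M.map e.symm).det = e.symm M.det := by
    intro M
    exact (RingHom.map_det (e.symm : F →+* ZMod 3) M).symm
  apply psl_of_isProd (T4.map e)
  · rw [hdetmap]
    have : T4.det = 1 := by decide
    rw [this, map_one]
  · have h1 : T4 ^ 4 = 1 := by decide
    have h2 : (T4.map e) ^ 4 = (T4 ^ 4).map e := by
      have := map_pow (e : ZMod 3 →+* F).mapMatrix T4 4
      simpa [RingHom.mapMatrix_apply] using this.symm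
    rw [h2, h1]
    exact Matrix.map_one _ (map_zero e) (map_one e)
  · intro d _
    ext i j
    fin_cases i <;> fin_cases j <;>
      simp [T4, dg, Matrix.mul_apply, Fin.sum_univ_three, Matrix.map_apply]
  · intro A hns hdet
    have hA : (A.map e.symm).map e = A := by
      ext i j
      simp
    have hns' : ∀ c : ZMod 3, A.map e.symm ≠ c • 1 := by
      intro c hc
      apply hns (e c)
      rw [← hA, hc]
      ext i j
      by_cases hij : i = j
      · subst hij
        simp
      · simp [Matrix.one_apply_ne hij]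
    have hdet' : (A.map e.symm).det = 1 := by
      rw [hdetmap', hdet, map_one]
    have := (isProd_T4 (A.map e.symm) hns' hdet').map e
    rw [hA] at this
    exact this

end three

end Cfsg.Agent.Lib.Helper15.Sour
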