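import Mathlib

/-!
# Exponent bound for `GL_n(2)` (for S2513)

`pow_EE_eq_one` : an invertible `n × n` matrix over a field with two elements satisfies
`M ^ (2 ^ clog 2 n * lcm_{1 ≤ d ≤ n} (2 ^ d - 1)) = 1`.
-/

set_option autoImplicit false

namespace Cfsg.Agent.Lib.Helper15.Sp2

open Polynomial

/-- If every irreducible factor of `p` divides `q` then `p ∣ q ^ N` for `N ≥ deg p`. -/
theorem dvd_pow_of_irreducible_factors {K : Type*} [Field K] (q : K[X]) :
    ∀ (N : ℕ) (p : K[X]), p ≠ 0 → p.natDegree ≤ N →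
      (∀ f : K[X], Irreducible f → f ∣ p → f ∣ q) → p ∣ q ^ N := by
  intro N
  induction N with
  | zero =>
    intro p hp hdeg _
    have h0 : p.natDegree = 0 := Nat.le_zero.mp hdeg
    have hu : IsUnit p := by
      rw [Polynomial.isUnit_iff]
      obtain ⟨c, hc⟩ := Polynomial.natDegree_eq_zero.mp h0
      refine ⟨c, ?_, hc⟩
      have : c ≠ 0 := by
        rintro rfl
        apply hp
        rw [← hc, map_zero]
      exact isUnit_iff_ne_zero.mpr this
    exact hu.dvd
  | succ N ih =>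
    intro p hp hdeg hfac
    by_cases hu : IsUnit p
    · exact hu.dvd
    obtain ⟨f, hf, hfp⟩ := WfDvdMonoid.exists_irreducible_factor hu hp
    obtain ⟨p', rfl⟩ := hfp
    have hf0 : f ≠ 0 := hf.ne_zero
    have hp'0 : p' ≠ 0 := right_ne_zero_of_mul hp
    have hd : (f * p').natDegree = f.natDegree + p'.natDegree := natDegree_mul hf0 hp'0
    have hfpos : 0 < f.natDegree := hf.natDegree_pos
    have h1 : p' ∣ q ^ N := by
      apply ih p' hp'0 (by omega)
      intro g hg hgp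
      exact hfac g hg (hgp.mul_left f)
    have h2 : f ∣ q := hfac f hf (dvd_mul_right f p')
    rw [pow_succ']
    exact mul_dvd_mul h2 h1

/-- `Λ n = lcm (2^d - 1 : 1 ≤ d ≤ n)`. -/
def LL (n : ℕ) : ℕ := (Finset.Icc 1 n).lcm (fun d => 2 ^ d - 1)

/-- `E n = 2 ^ ⌈log₂ n⌉ * Λ n`: the exponent of `GL_n(2)`. -/
def EE (n : ℕ) : ℕ := 2 ^ Nat.clog 2 n * LL n

theorem LL_ne_zero (n : ℕ) : LL n ≠ 0 := by
  unfold LL
  rw [Ne, Finset.lcm_eq_zero_iff]
  rintro ⟨d, hd, h0⟩
  have h1 : 1 ≤ d := (Finset.mem_Icc.mp hd).1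
  have : 2 ^ 1 ≤ 2 ^ d := Nat.pow_le_pow_right (by norm_num) h1
  have h0' : 2 ^ d - 1 = 0 := h0
  omega

theorem EE_ne_zero (n : ℕ) : EE n ≠ 0 := by
  unfold EE
  exact mul_ne_zero (pow_ne_zero _ (by norm_num)) (LL_ne_zero n)

theorem dvd_LL {n d : ℕ} (h1 : 1 ≤ d) (h2 : d ≤ n) : 2 ^ d - 1 ∣ LL n := by
  unfold LL
  exact Finset.dvd_lcm (f := fun d => 2 ^ d - 1) (Finset.mem_Icc.mpr ⟨h1, h2⟩)

section field

variable {F : Type*} [Field F] [Fintype F]

theorem eq_zero_or_eq_one_of_card (hF : Fintype.card F = 2) (x : F) : x = 0 ∨ x = 1 := by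
  classical
  by_contra h
  push Not at h
  have h3 : ({0, 1, x} : Finset F).card = 3 := by
    rw [Finset.card_insert_of_notMem, Finset.card_insert_of_notMem, Finset.card_singleton]
    · simpa using h.2.symm
    · simp only [Finset.mem_insert, Finset.mem_singleton, not_or]
      exact ⟨zero_ne_one, h.1.symm⟩
  have := Finset.card_le_univ ({0, 1, x} : Finset F)
  omega

theorem charP_two_of_card (hF : Fintype.card F = 2) : CharP F 2 := by
  have h2 : (2 : F) = 0 := by
    have := Nat.cast_card_eq_zero F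
    rw [hF] at this
    exact_mod_cast this
  exact CharTwo.of_one_ne_zero_of_two_eq_zero one_ne_zero h2

omit [Field F] in
theorem natCard_eq_two (hF : Fintype.card F = 2) : Nat.card F = 2 := by
  rw [Nat.card_eq_fintype_card, hF]

/-- Irreducible factors not dividing `X` divide `X ^ (2 ^ d - 1) - 1`. -/
theorem irreducible_dvd_X_pow_sub_one (hF : Fintype.card F = 2) {f : F[X]} (hf : Irreducible f)
    (hX : ¬ (X : F[X]) ∣ f) : f ∣ X ^ (2 ^ f.natDegree - 1) - 1 := by
  have h1 : f ∣ X ^ (Nat.card F) ^ f.natDegree - X :=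
    (hf.natDegree_dvd_iff_dvd_X_pow_card_pow_sub_X).mp dvd_rfl
  rw [natCard_eq_two hF] at h1
  have hpos : 0 < 2 ^ f.natDegree := by positivity
  have h2 : (X : F[X]) ^ 2 ^ f.natDegree - X = X * (X ^ (2 ^ f.natDegree - 1) - 1) := by
    rw [mul_sub, mul_one, ← pow_succ']
    congr 2
    omega
  rw [h2] at h1
  rcases hf.prime.dvd_or_dvd h1 with h | h
  · exact absurd (hf.dvd_symm Polynomial.irreducible_X h) hX
  · exact h

variable {n : ℕ}

theorem charpoly_dvd (hF : Fintype.card F = 2) (M : Matrix (Fin n) (Fin n) F) (hM : M.det ≠ 0) :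
    M.charpoly ∣ (X ^ LL n - 1 : F[X]) ^ n := by
  apply dvd_pow_of_irreducible_factors _ n M.charpoly (Matrix.charpoly_monic M).ne_zero
  · rw [Matrix.charpoly_natDegree_eq_dim, Fintype.card_fin]
  · intro f hf hfM
    have hX : ¬ (X : F[X]) ∣ f := by
      intro hXf
      have h0 : (X : F[X]) ∣ M.charpoly := hXf.trans hfM
      rw [Polynomial.X_dvd_iff] at h0
      apply hM
      rw [Matrix.det_eq_sign_charpoly_coeff, h0, mul_zero]
    have h1 := irreducible_dvd_X_pow_sub_one hF hf hX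
    have hd1 : 1 ≤ f.natDegree := hf.natDegree_pos
    have hd2 : f.natDegree ≤ n := by
      have := Polynomial.natDegree_le_of_dvd hfM (Matrix.charpoly_monic M).ne_zero
      rwa [Matrix.charpoly_natDegree_eq_dim, Fintype.card_fin] at this
    obtain ⟨c, hc⟩ := dvd_LL hd1 hd2
    refine h1.trans ?_
    rw [hc, pow_mul]
    simpa using sub_dvd_pow_sub_pow ((X : F[X]) ^ (2 ^ f.natDegree - 1)) 1 c

theorem pow_EE_eq_one (hF : Fintype.card F = 2) (M : Matrix (Fin n) (Fin n) F) (hM : M.det ≠ 0) :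
    M ^ EE n = 1 := by
  have : CharP F 2 := charP_two_of_card hF
  have : Fact (Nat.Prime 2) := ⟨Nat.prime_two⟩
  have h1 : M.charpoly ∣ (X ^ LL n - 1 : F[X]) ^ (2 ^ Nat.clog 2 n) :=
    (charpoly_dvd hF M hM).trans (pow_dvd_pow _ (Nat.le_pow_clog (by norm_num) n))
  have h2 : ((X : F[X]) ^ LL n - 1) ^ (2 ^ Nat.clog 2 n) = X ^ EE n - 1 := by
    rw [sub_pow_char_pow, one_pow, ← pow_mul, EE, mul_comm]
  rw [h2] at h1
  obtain ⟨r, hr⟩ := h1
  have h3 := congrArg (Polynomial.aeval M) hr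
  rw [map_mul, Matrix.aeval_self_charpoly, zero_mul, map_sub, map_pow, Polynomial.aeval_X,
    map_one] at h3
  exact sub_eq_zero.mp h3

end field

end Cfsg.Agent.Lib.Helper15.Sp2
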