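import Cfsg.Agent.Lib.Helper15.Sp2a

/-!
# Elements of prescribed order in `PSL_n(2)` (for S2513)
-/

set_option autoImplicit false

namespace Cfsg.Agent.Lib.Helper15.Sp2

open Polynomial Matrix

variable {F : Type*} [Field F] [Fintype F]

theorem center_SL_eq_bot (hF : Fintype.card F = 2) (n : ℕ) :
    Subgroup.center (SpecialLinearGroup (Fin n) F) = ⊥ := by
  rw [eq_bot_iff]
  intro A hA
  rw [Matrix.SpecialLinearGroup.mem_center_iff] at hA
  obtain ⟨r, hr, hA⟩ := hA
  rw [Subgroup.mem_bot]
  rcases eq_zero_or_eq_one_of_card hF r with h | h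
  · subst h
    rcases Nat.eq_zero_or_pos n with hn | hn
    · subst hn
      apply Subtype.ext
      ext i
      exact i.elim0
    · rw [Fintype.card_fin, zero_pow hn.ne'] at hr
      exact absurd hr zero_ne_one
  · subst h
    apply Subtype.ext
    rw [← hA]
    simp

theorem pow_EE_eq_one_psl (hF : Fintype.card F = 2) (n : ℕ)
    (g : ProjectiveSpecialLinearGroup (Fin n) F) : g ^ EE n = 1 := by
  induction g using QuotientGroup.induction_on with
  | H A =>
    rw [← QuotientGroup.mk_pow]
    have : A ^ EE n = 1 := by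
      apply Subtype.ext
      rw [Matrix.SpecialLinearGroup.coe_pow, Matrix.SpecialLinearGroup.coe_one]
      apply pow_EE_eq_one hF
      rw [A.2]
      exact one_ne_zero
    rw [this]
    rfl

/-- Units of finite-dimensional `F`-algebras give elements of `PSL_n(F)` of the same order. -/
theorem exists_orderOf_of_algebra (hF : Fintype.card F = 2) {A : Type*} [Ring A] [Algebra F A]
    [Module.Finite F A] {n : ℕ} (hn : Module.finrank F A = n) (u : A) (hu : orderOf u ≠ 0) :
    ∃ g : ProjectiveSpecialLinearGroup (Fin n) F, orderOf g = orderOf u := by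
  classical
  let b : Module.Basis (Fin n) F A := Module.finBasisOfFinrankEq F A hn
  let φ := Algebra.leftMulMatrix b
  have hφ : Function.Injective φ := Algebra.leftMulMatrix_injective b
  have hMpow : (φ u) ^ orderOf u = 1 := by
    rw [← map_pow, pow_orderOf_eq_one, map_one]
  have hdet : (φ u).det ≠ 0 := by
    intro h0
    have := congrArg Matrix.det hMpow
    rw [Matrix.det_pow, h0, zero_pow hu, Matrix.det_one] at this
    exact zero_ne_one this
  have hdet1 : (φ u).det = 1 := (eq_zero_or_eq_one_of_card hF _).resolve_left hdet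
  let A' : SpecialLinearGroup (Fin n) F := ⟨φ u, hdet1⟩
  have h1 : orderOf A' = orderOf u := by
    rw [orderOf_eq_orderOf_iff]
    intro k
    constructor
    · intro h
      have h2 : (φ u) ^ k = 1 := by
        have h3 := congrArg (fun B : SpecialLinearGroup (Fin n) F => (B : Matrix (Fin n) (Fin n) F)) h
        simp only [Matrix.SpecialLinearGroup.coe_pow, Matrix.SpecialLinearGroup.coe_one] at h3
        exact h3
      rw [← map_pow, ← map_one φ] at h2
      exact hφ h2
    · intro h
      apply Subtype.ext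
      rw [Matrix.SpecialLinearGroup.coe_pow, Matrix.SpecialLinearGroup.coe_one]
      change (φ u) ^ k = 1
      rw [← map_pow, h, map_one]
  refine ⟨QuotientGroup.mk' _ A', ?_⟩
  rw [← h1]
  apply orderOf_injective
  rw [← MonoidHom.ker_eq_bot_iff, QuotientGroup.ker_mk', center_SL_eq_bot hF]

/-- A regular unipotent element: order `2 ^ ⌈log₂ n⌉`. -/
theorem exists_unip (hF : Fintype.card F = 2) (n : ℕ) (hn : 2 ≤ n) :
    ∃ g : ProjectiveSpecialLinearGroup (Fin n) F, orderOf g = 2 ^ Nat.clog 2 n := by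
  have : CharP F 2 := charP_two_of_card hF
  have : Fact (Nat.Prime 2) := ⟨Nat.prime_two⟩
  have hmonic : (X ^ n : F[X]).Monic := monic_X_pow n
  let pb := AdjoinRoot.powerBasis' hmonic
  have : Module.Finite F (AdjoinRoot (X ^ n : F[X])) := pb.finite
  have hfr : Module.finrank F (AdjoinRoot (X ^ n : F[X])) = n := by
    rw [pb.finrank, AdjoinRoot.powerBasis'_dim, natDegree_X_pow]
  let u : AdjoinRoot (X ^ n : F[X]) := AdjoinRoot.mk _ (1 + X)
  have key : ∀ s : ℕ, u ^ 2 ^ s = 1 ↔ n ≤ 2 ^ s := by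
    intro s
    have h1 : u ^ 2 ^ s = 1 + AdjoinRoot.mk (X ^ n : F[X]) (X ^ 2 ^ s) := by
      change (AdjoinRoot.mk (X ^ n : F[X]) (1 + X)) ^ 2 ^ s = _
      rw [← map_pow, add_pow_char_pow, one_pow, map_add, map_one]
    rw [h1, add_eq_left, AdjoinRoot.mk_eq_zero]
    exact pow_dvd_pow_iff X_ne_zero not_isUnit_X
  obtain ⟨t', ht'⟩ : ∃ t', Nat.clog 2 n = t' + 1 := by
    have : 0 < Nat.clog 2 n := Nat.clog_pos (by norm_num) hn
    exact ⟨Nat.clog 2 n - 1, by omega⟩
  have hnot : ¬ u ^ 2 ^ t' = 1 := by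
    rw [key]
    have := Nat.pow_pred_clog_lt_self (b := 2) (by norm_num) (x := n) (by omega)
    rw [ht'] at this
    simpa using this
  have hfin : u ^ 2 ^ (t' + 1) = 1 := by
    rw [key, ← ht']
    exact Nat.le_pow_clog (by norm_num) n
  have hord : orderOf u = 2 ^ (t' + 1) := orderOf_eq_prime_pow hnot hfin
  obtain ⟨g, hg⟩ := exists_orderOf_of_algebra hF hfr u (by rw [hord]; positivity)
  exact ⟨g, by rw [hg, hord, ht']⟩

/-- A generator of the multiplicative group of the degree `d` extension. -/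
theorem exists_gen (hF : Fintype.card F = 2) [CharP F 2] [Fact (Nat.Prime 2)] (d : ℕ) [NeZero d] :
    ∃ u : FiniteField.Extension F 2 d, orderOf u = 2 ^ d - 1 := by
  obtain ⟨ζ, hζ⟩ := IsCyclic.exists_generator (α := (FiniteField.Extension F 2 d)ˣ)
  refine ⟨(ζ : FiniteField.Extension F 2 d), ?_⟩
  rw [orderOf_units, orderOf_eq_card_of_forall_mem_zpowers hζ, Nat.card_units,
    FiniteField.natCard_extension, natCard_eq_two hF]

theorem exists_singer (hF : Fintype.card F = 2) (n : ℕ) (hn : n ≠ 0) :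
    ∃ g : ProjectiveSpecialLinearGroup (Fin n) F, orderOf g = 2 ^ n - 1 := by
  have : CharP F 2 := charP_two_of_card hF
  have : Fact (Nat.Prime 2) := ⟨Nat.prime_two⟩
  have : NeZero n := ⟨hn⟩
  obtain ⟨u, hu⟩ := exists_gen hF n
  have h2 : 2 ^ 1 ≤ 2 ^ n := Nat.pow_le_pow_right (by norm_num) (by omega)
  obtain ⟨g, hg⟩ := exists_orderOf_of_algebra hF (FiniteField.finrank_extension F 2 n) u
    (by rw [hu]; omega)
  exact ⟨g, by rw [hg, hu]⟩

theorem exists_pair (hF : Fintype.card F = 2) (n a b : ℕ) (ha : a ≠ 0) (hb : b ≠ 0)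
    (hab : a + b = n) :
    ∃ g : ProjectiveSpecialLinearGroup (Fin n) F, orderOf g = Nat.lcm (2 ^ a - 1) (2 ^ b - 1) := by
  have : CharP F 2 := charP_two_of_card hF
  have : Fact (Nat.Prime 2) := ⟨Nat.prime_two⟩
  have : NeZero a := ⟨ha⟩
  have : NeZero b := ⟨hb⟩
  obtain ⟨u, hu⟩ := exists_gen hF a
  obtain ⟨v, hv⟩ := exists_gen hF b
  have h2a : 2 ^ 1 ≤ 2 ^ a := Nat.pow_le_pow_right (by norm_num) (by omega)
  have h2b : 2 ^ 1 ≤ 2 ^ b := Nat.pow_le_pow_right (by norm_num) (by omega)
  have hfr : Module.finrank F (FiniteField.Extension F 2 a × FiniteField.Extension F 2 b) = n := by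
    rw [Module.finrank_prod, FiniteField.finrank_extension, FiniteField.finrank_extension, hab]
  have hord : orderOf ((u, v) : FiniteField.Extension F 2 a × FiniteField.Extension F 2 b)
      = Nat.lcm (2 ^ a - 1) (2 ^ b - 1) := by
    rw [Prod.orderOf, hu, hv]
  obtain ⟨g, hg⟩ := exists_orderOf_of_algebra hF hfr (u, v) (by
    rw [hord]
    exact Nat.lcm_ne_zero (by omega) (by omega))
  exact ⟨g, by rw [hg, hord]⟩

end Cfsg.Agent.Lib.Helper15.Sp2
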