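import Cfsg.Agent.Lib.Helper15.Sp2b

/-!
# The spectrum of direct powers of `PSL_n(2)` (for S2513)

`range_orderOf_eq` : for `k ≥ ⌊(n+3)/2⌋` the set of element orders of `PSL_n(2)^k` is the set of
divisors of `EE n = 2 ^ ⌈log₂ n⌉ * lcm (2^d - 1 : 1 ≤ d ≤ n)`.
-/

set_option autoImplicit false

namespace Cfsg.Agent.Lib.Helper15.Sp2

open Matrix

variable {F : Type*} [Field F] [Fintype F]

theorem two_not_dvd_finset_lcm {ι : Type*} (s : Finset ι) (f : ι → ℕ)
    (h : ∀ i ∈ s, ¬ 2 ∣ f i) : ¬ 2 ∣ s.lcm f := by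
  classical
  induction s using Finset.induction_on with
  | empty => simp
  | insert a s ha ih =>
    rw [Finset.lcm_insert, lcm_eq_nat_lcm, Nat.prime_two.dvd_lcm, not_or]
    exact ⟨h a (Finset.mem_insert_self a s), ih fun i hi => h i (Finset.mem_insert_of_mem hi)⟩

theorem coprime_two_pow_LL (t n : ℕ) : Nat.Coprime (2 ^ t) (LL n) := by
  apply Nat.Coprime.pow_left
  rw [Nat.prime_two.coprime_iff_not_dvd]
  unfold LL
  apply two_not_dvd_finset_lcm
  intro d hd
  have h1 : 1 ≤ d := (Finset.mem_Icc.mp hd).1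
  have h2 : 2 ^ 1 ≤ 2 ^ d := Nat.pow_le_pow_right (by norm_num) h1
  have h3 : 2 ∣ 2 ^ d := dvd_pow_self 2 (by omega)
  omega

theorem exists_family (hF : Fintype.card F = 2) (n : ℕ) (hn : 2 ≤ n) :
    ∃ g : ℕ → ProjectiveSpecialLinearGroup (Fin n) F,
      orderOf (g 0) = 2 ^ Nat.clog 2 n ∧ orderOf (g 1) = 2 ^ n - 1 ∧
      ∀ a, 1 ≤ a → a < n → orderOf (g (a + 1)) = Nat.lcm (2 ^ a - 1) (2 ^ (n - a) - 1) := by
  obtain ⟨g0, h0⟩ := exists_unip hF n hn
  obtain ⟨g1, h1⟩ := exists_singer hF n (by omega)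
  have hp : ∀ a, ∃ g : ProjectiveSpecialLinearGroup (Fin n) F,
      1 ≤ a → a < n → orderOf g = Nat.lcm (2 ^ a - 1) (2 ^ (n - a) - 1) := by
    intro a
    by_cases h : 1 ≤ a ∧ a < n
    · obtain ⟨g, hg⟩ := exists_pair hF n a (n - a) (by omega) (by omega) (by omega)
      exact ⟨g, fun _ _ => hg⟩
    · exact ⟨1, fun h1 h2 => absurd ⟨h1, h2⟩ h⟩
  choose gp hgp using hp
  refine ⟨fun j => if j = 0 then g0 else if j = 1 then g1 else gp (j - 1), ?_, ?_, ?_⟩
  · simpa using h0
  · simpa using h1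
  · intro a ha1 han
    have e1 : a + 1 ≠ 0 := by omega
    have e2 : a + 1 ≠ 1 := by omega
    simp only [e1, e2, if_false, Nat.add_sub_cancel]
    exact hgp a ha1 han

theorem exists_orderOf_eq_EE (hF : Fintype.card F = 2) (n k : ℕ) (hn : 2 ≤ n)
    (hk : (n + 3) / 2 ≤ k) :
    ∃ f : Fin k → ProjectiveSpecialLinearGroup (Fin n) F, orderOf f = EE n := by
  obtain ⟨g, hg0, hg1, hgp⟩ := exists_family hF n hn
  refine ⟨fun i => g i.val, ?_⟩
  apply Nat.dvd_antisymm
  · apply orderOf_dvd_of_pow_eq_one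
    funext i
    simp only [Pi.pow_apply, Pi.one_apply]
    exact pow_EE_eq_one_psl hF n _
  · have key : ∀ j, j < k → orderOf (g j) ∣ orderOf (fun i : Fin k => g i.val) := by
      intro j hj
      exact orderOf_apply_dvd_orderOf (x := fun i : Fin k => g i.val) ⟨j, hj⟩
    unfold EE
    apply Nat.Coprime.mul_dvd_of_dvd_of_dvd (coprime_two_pow_LL _ _)
    · rw [← hg0]
      exact key 0 (by omega)
    · unfold LL
      apply Finset.lcm_dvd
      intro d hd
      rw [Finset.mem_Icc] at hd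
      by_cases hdn : d = n
      · subst hdn
        rw [← hg1]
        exact key 1 (by omega)
      · have hd' : d < n := by omega
        by_cases hc1 : d ≤ (n - 1) / 2
        · have h1 := hgp d hd.1 hd'
          have h2 := key (d + 1) (by omega)
          rw [h1] at h2
          exact (Nat.dvd_lcm_left _ _).trans h2
        · by_cases hc2 : n - d ≤ (n - 1) / 2
          · have h1 := hgp (n - d) (by omega) (by omega)
            have h2 := key (n - d + 1) (by omega)
            rw [h1] at h2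
            have e : n - (n - d) = d := by omega
            rw [e] at h2
            exact (Nat.dvd_lcm_right _ _).trans h2
          · have e : n = d * 2 := by omega
            have h2 := key 1 (by omega)
            rw [hg1] at h2
            refine dvd_trans ?_ h2
            exact Nat.pow_sub_one_dvd_pow_sub_one 2 (Dvd.intro 2 e.symm)

theorem range_orderOf_eq (hF : Fintype.card F = 2) (n k : ℕ) (hn : 2 ≤ n)
    (hk : (n + 3) / 2 ≤ k) :
    Set.range (orderOf : (Fin k → ProjectiveSpecialLinearGroup (Fin n) F) → ℕ)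
      = {m | m ∣ EE n} := by
  ext m
  constructor
  · rintro ⟨f, rfl⟩
    apply orderOf_dvd_of_pow_eq_one
    funext i
    simp only [Pi.pow_apply, Pi.one_apply]
    exact pow_EE_eq_one_psl hF n _
  · intro hm
    obtain ⟨f, hf⟩ := exists_orderOf_eq_EE hF n k hn hk
    obtain ⟨c, hc⟩ := hm
    have hc0 : c ≠ 0 := by
      rintro rfl
      exact EE_ne_zero n (by rw [hc, mul_zero])
    have hm0 : m ≠ 0 := by
      rintro rfl
      exact EE_ne_zero n (by rw [hc, zero_mul])
    refine ⟨f ^ c, ?_⟩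
    rw [orderOf_pow_of_dvd hc0 (by rw [hf, hc]; exact dvd_mul_left c m), hf, hc]
    exact Nat.mul_div_cancel m (Nat.pos_of_ne_zero hc0)

end Cfsg.Agent.Lib.Helper15.Sp2
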