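import Mathlib

/-!
# Block-diagonal twists in `PSL_n(q)` (for S2510)
-/

set_option autoImplicit false

namespace Cfsg.Agent.Lib.Helper15.Spr

open Matrix

variable {F : Type*} [Field F]

/-- Powers of the image of `A` in `PSL` are trivial iff the power of `A` is scalar. -/
theorem mk_pow_eq_one_iff {n : ℕ} (A : SpecialLinearGroup (Fin n) F) (j : ℕ) :
    ((QuotientGroup.mk A : ProjectiveSpecialLinearGroup (Fin n) F) ^ j = 1) ↔
      ∃ ν : F, (A : Matrix (Fin n) (Fin n) F) ^ j = Matrix.scalar (Fin n) ν := by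
  rw [← QuotientGroup.mk_pow, QuotientGroup.eq_one_iff, Matrix.SpecialLinearGroup.mem_center_iff]
  constructor
  · rintro ⟨ν, _, h⟩
    refine ⟨ν, ?_⟩
    rw [h, Matrix.SpecialLinearGroup.coe_pow]
  · rintro ⟨ν, h⟩
    refine ⟨ν, ?_, ?_⟩
    · have h1 := congrArg Matrix.det h
      rw [Matrix.det_pow, A.2, one_pow, Matrix.scalar_apply, Matrix.det_diagonal,
        Finset.prod_const, Finset.card_univ] at h1
      exact h1.symm
    · rw [Matrix.SpecialLinearGroup.coe_pow, h]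

theorem orderOf_mk_dvd_iff {n : ℕ} (A : SpecialLinearGroup (Fin n) F) (j : ℕ) :
    orderOf (QuotientGroup.mk A : ProjectiveSpecialLinearGroup (Fin n) F) ∣ j ↔
      ∃ ν : F, (A : Matrix (Fin n) (Fin n) F) ^ j = Matrix.scalar (Fin n) ν := by
  rw [orderOf_dvd_iff_pow_eq_one, mk_pow_eq_one_iff]

/-- The block diagonal matrix with blocks `A₁`, `A₂`, indexed by `Fin (n₁ + n₂)`. -/
noncomputable def blk {n₁ n₂ : ℕ} (A₁ : Matrix (Fin n₁) (Fin n₁) F) (A₂ : Matrix (Fin n₂) (Fin n₂) F) :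
    Matrix (Fin (n₁ + n₂)) (Fin (n₁ + n₂)) F :=
  Matrix.reindexAlgEquiv F F finSumFinEquiv (Matrix.fromBlocks A₁ 0 0 A₂)

section blk

variable {n₁ n₂ : ℕ}

theorem blk_mul (A₁ B₁ : Matrix (Fin n₁) (Fin n₁) F) (A₂ B₂ : Matrix (Fin n₂) (Fin n₂) F) :
    blk A₁ A₂ * blk B₁ B₂ = blk (A₁ * B₁) (A₂ * B₂) := by
  unfold blk
  rw [← map_mul, Matrix.fromBlocks_multiply]
  simp

theorem blk_one : blk (1 : Matrix (Fin n₁) (Fin n₁) F) (1 : Matrix (Fin n₂) (Fin n₂) F) = 1 := by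
  unfold blk
  rw [Matrix.fromBlocks_one, map_one]

theorem blk_pow (A₁ : Matrix (Fin n₁) (Fin n₁) F) (A₂ : Matrix (Fin n₂) (Fin n₂) F) (j : ℕ) :
    blk A₁ A₂ ^ j = blk (A₁ ^ j) (A₂ ^ j) := by
  induction j with
  | zero => simp [blk_one]
  | succ j ih => rw [pow_succ, ih, blk_mul, ← pow_succ, ← pow_succ]

theorem det_blk (A₁ : Matrix (Fin n₁) (Fin n₁) F) (A₂ : Matrix (Fin n₂) (Fin n₂) F) :
    (blk A₁ A₂).det = A₁.det * A₂.det := by
  unfold blk
  rw [Matrix.det_reindexAlgEquiv, Matrix.det_fromBlocks_zero₂₁]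

theorem blk_scalar (ν : F) :
    blk (Matrix.scalar (Fin n₁) ν) (Matrix.scalar (Fin n₂) ν) = Matrix.scalar (Fin (n₁ + n₂)) ν := by
  unfold blk
  rw [Matrix.scalar_apply, Matrix.scalar_apply, Matrix.fromBlocks_diagonal, Matrix.scalar_apply]
  ext i j
  simp only [Matrix.coe_reindexAlgEquiv, Matrix.reindex_apply, Matrix.submatrix_apply,
    Matrix.diagonal_apply]
  by_cases h : i = j
  · subst h
    simp only [if_true]
    rcases (finSumFinEquiv.symm i) with x | x <;> simp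
  · have : finSumFinEquiv.symm i ≠ finSumFinEquiv.symm j := fun h' => h (finSumFinEquiv.symm.injective h')
    simp [h, this]

theorem blk_injective {A₁ B₁ : Matrix (Fin n₁) (Fin n₁) F} {A₂ B₂ : Matrix (Fin n₂) (Fin n₂) F}
    (h : blk A₁ A₂ = blk B₁ B₂) : A₁ = B₁ ∧ A₂ = B₂ := by
  unfold blk at h
  have h1 := (Matrix.reindexAlgEquiv F F finSumFinEquiv).injective h
  rw [Matrix.fromBlocks_inj] at h1
  exact ⟨h1.1, h1.2.2.2⟩

theorem blk_eq_scalar_iff (A₁ : Matrix (Fin n₁) (Fin n₁) F) (A₂ : Matrix (Fin n₂) (Fin n₂) F) (ν : F) :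
    blk A₁ A₂ = Matrix.scalar (Fin (n₁ + n₂)) ν ↔
      A₁ = Matrix.scalar (Fin n₁) ν ∧ A₂ = Matrix.scalar (Fin n₂) ν := by
  rw [← blk_scalar]
  constructor
  · exact blk_injective
  · rintro ⟨h1, h2⟩
    rw [h1, h2]

end blk

end Cfsg.Agent.Lib.Helper15.Spr
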