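import Cfsg.Agent.Lib.Helper15.Spr1

/-!
# Twisting a block-diagonal element of `SL_n(q)` by block scalars of order `r` (for S2510)
-/

set_option autoImplicit false

namespace Cfsg.Agent.Lib.Helper15.Spr

open Matrix

variable {F : Type*} [Field F] [Fintype F]

theorem exists_unit_orderOf (r : ℕ) (hr : r.Prime) (hrq : r ∣ Fintype.card F - 1) :
    ∃ ρ : Fˣ, orderOf ρ = r := by
  classical
  haveI : Fact r.Prime := ⟨hr⟩
  apply exists_prime_orderOf_dvd_card r
  rwa [Fintype.card_units]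

instance finite_psl (n : ℕ) : Finite (ProjectiveSpecialLinearGroup (Fin n) F) := by
  classical
  unfold ProjectiveSpecialLinearGroup
  infer_instance

/-- **Twist lemma.** A block-diagonal matrix of determinant one whose projective order is a multiple
of `m` yields an element of `PSL` of order divisible by `lcm m r`. -/
theorem exists_twist {n₁ n₂ : ℕ} (h1 : 0 < n₁) (h2 : 0 < n₂) (r : ℕ) (hr : r.Prime)
    (hrq : r ∣ Fintype.card F - 1) (hrn : ¬ r ∣ n₁ + n₂)
    (A₁ : Matrix (Fin n₁) (Fin n₁) F) (A₂ : Matrix (Fin n₂) (Fin n₂) F)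
    (hdet : A₁.det * A₂.det = 1) (m : ℕ)
    (hm : ∀ (j : ℕ) (ν : F), A₁ ^ j = Matrix.scalar (Fin n₁) ν → A₂ ^ j = Matrix.scalar (Fin n₂) ν →
      m ∣ j) :
    ∃ g' : ProjectiveSpecialLinearGroup (Fin (n₁ + n₂)) F, Nat.lcm m r ∣ orderOf g' := by
  classical
  obtain ⟨ρ, hρ⟩ := exists_unit_orderOf (F := F) r hr hrq
  -- the element `A`
  let A : SpecialLinearGroup (Fin (n₁ + n₂)) F := ⟨blk A₁ A₂, by rw [det_blk, hdet]⟩
  -- the block scalars
  let ζ₁ : F := ((ρ ^ n₂ : Fˣ) : F)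
  let ζ₂ : F := (((ρ⁻¹) ^ n₁ : Fˣ) : F)
  have hζ : ζ₁ ^ n₁ * ζ₂ ^ n₂ = 1 := by
    have : ((ρ ^ n₂) ^ n₁ * ((ρ⁻¹) ^ n₁) ^ n₂ : Fˣ) = 1 := by
      rw [← pow_mul, ← pow_mul, inv_pow, mul_comm n₂ n₁, mul_inv_cancel]
    have h3 := congrArg (fun u : Fˣ => (u : F)) this
    simpa [ζ₁, ζ₂] using h3
  have hdetZ : (blk (Matrix.scalar (Fin n₁) ζ₁) (Matrix.scalar (Fin n₂) ζ₂)).det = 1 := by
    rw [det_blk, Matrix.scalar_apply, Matrix.scalar_apply, Matrix.det_diagonal, Matrix.det_diagonal,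
      Finset.prod_const, Finset.prod_const, Finset.card_univ, Finset.card_univ, Fintype.card_fin,
      Fintype.card_fin, hζ]
  let Z : SpecialLinearGroup (Fin (n₁ + n₂)) F :=
    ⟨blk (Matrix.scalar (Fin n₁) ζ₁) (Matrix.scalar (Fin n₂) ζ₂), hdetZ⟩
  have hcomm : Commute A Z := by
    apply Subtype.ext
    rw [Matrix.SpecialLinearGroup.coe_mul, Matrix.SpecialLinearGroup.coe_mul]
    change blk A₁ A₂ * blk _ _ = blk _ _ * blk A₁ A₂
    rw [blk_mul, blk_mul]
    congr 1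
    · exact ((Matrix.scalar_commute ζ₁ (fun _ => Commute.all _ _) A₁).symm).eq
    · exact ((Matrix.scalar_commute ζ₂ (fun _ => Commute.all _ _) A₂).symm).eq
  -- the order of `Z` in `PSL`
  have hZr : (QuotientGroup.mk Z : ProjectiveSpecialLinearGroup (Fin (n₁ + n₂)) F) ^ r = 1 := by
    rw [mk_pow_eq_one_iff]
    refine ⟨1, ?_⟩
    change blk _ _ ^ r = _
    rw [blk_pow, ← map_pow, ← map_pow, map_one]
    have e1 : ζ₁ ^ r = 1 := by
      have : ((ρ ^ n₂) ^ r : Fˣ) = 1 := by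
        rw [← pow_mul, mul_comm, pow_mul, ← hρ, pow_orderOf_eq_one, one_pow]
      have h3 := congrArg (fun u : Fˣ => (u : F)) this
      simpa [ζ₁] using h3
    have e2 : ζ₂ ^ r = 1 := by
      have : (((ρ⁻¹) ^ n₁) ^ r : Fˣ) = 1 := by
        rw [← pow_mul, mul_comm, pow_mul, inv_pow, ← hρ, pow_orderOf_eq_one, inv_one, one_pow]
      have h3 := congrArg (fun u : Fˣ => (u : F)) this
      simpa [ζ₂] using h3
    rw [e1, e2, map_one, map_one, blk_one]
  have hZ1 : (QuotientGroup.mk Z : ProjectiveSpecialLinearGroup (Fin (n₁ + n₂)) F) ≠ 1 := by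
    intro h
    have h' : (QuotientGroup.mk Z : ProjectiveSpecialLinearGroup (Fin (n₁ + n₂)) F) ^ 1 = 1 := by
      rw [pow_one, h]
    rw [mk_pow_eq_one_iff] at h'
    obtain ⟨ν, hν⟩ := h'
    rw [pow_one] at hν
    change blk _ _ = _ at hν
    rw [blk_eq_scalar_iff] at hν
    obtain ⟨e1, e2⟩ := hν
    have i1 : ζ₁ = ν := by
      have := congrFun (congrFun e1 ⟨0, h1⟩) ⟨0, h1⟩
      simpa [Matrix.scalar_apply] using this
    have i2 : ζ₂ = ν := by
      have := congrFun (congrFun e2 ⟨0, h2⟩) ⟨0, h2⟩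
      simpa [Matrix.scalar_apply] using this
    have i3 : (ρ ^ n₂ : Fˣ) = (ρ⁻¹) ^ n₁ := by
      apply Units.ext
      change ζ₁ = ζ₂
      rw [i1, i2]
    have i4 : ρ ^ (n₁ + n₂) = 1 := by
      rw [pow_add, i3, inv_pow, mul_inv_cancel]
    have i5 := orderOf_dvd_of_pow_eq_one i4
    rw [hρ] at i5
    exact hrn i5
  have hZord : orderOf (QuotientGroup.mk Z : ProjectiveSpecialLinearGroup (Fin (n₁ + n₂)) F) = r := by
    haveI : Fact r.Prime := ⟨hr⟩
    exact orderOf_eq_prime hZr hZ1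
  -- `m` divides the order of the image of `A`
  set gA : ProjectiveSpecialLinearGroup (Fin (n₁ + n₂)) F := QuotientGroup.mk A with hgA
  have hmA : m ∣ orderOf gA := by
    have h3 : orderOf gA ∣ orderOf gA := dvd_rfl
    rw [hgA, orderOf_mk_dvd_iff] at h3
    obtain ⟨ν, hν⟩ := h3
    change blk _ _ ^ _ = _ at hν
    rw [blk_pow, blk_eq_scalar_iff] at hν
    exact hm _ ν hν.1 hν.2
  by_cases hro : r ∣ orderOf gA
  · refine ⟨gA, ?_⟩
    exact Nat.lcm_dvd hmA hro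
  · have hcop : Nat.Coprime (orderOf gA) r := (Nat.Prime.coprime_iff_not_dvd hr).mpr hro |>.symm
    have hc2 : Commute gA (QuotientGroup.mk Z : ProjectiveSpecialLinearGroup (Fin (n₁ + n₂)) F) := by
      change (QuotientGroup.mk A : ProjectiveSpecialLinearGroup (Fin (n₁ + n₂)) F) *
        QuotientGroup.mk Z = QuotientGroup.mk Z * QuotientGroup.mk A
      rw [← QuotientGroup.mk_mul, ← QuotientGroup.mk_mul, hcomm.eq]
    refine ⟨gA * QuotientGroup.mk Z, ?_⟩
    rw [hc2.orderOf_mul_eq_mul_orderOf_of_coprime (by rw [hZord]; exact hcop), hZord]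
    exact Nat.lcm_dvd (Dvd.dvd.mul_right hmA r) (dvd_mul_left r _)

end Cfsg.Agent.Lib.Helper15.Spr
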