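import Cfsg.Agent.Lib.Helper15.Spr3

/-!
# Lemma K, the easy cases (for S2510)
-/

set_option autoImplicit false

namespace Cfsg.Agent.Lib.Helper15.Spr

open Matrix Polynomial

variable {F : Type*} [Field F]

theorem hasOrd_cast {n n' : ℕ} (h : n = n') (v : ℕ)
    (H : ∃ g : ProjectiveSpecialLinearGroup (Fin n) F, v ∣ orderOf g) :
    ∃ g : ProjectiveSpecialLinearGroup (Fin n') F, v ∣ orderOf g := by
  subst h
  exact H

/-- If the minimal polynomial has full degree, the determinant is read off from it. -/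
theorem det_eq_of_natDegree_minpoly {n : ℕ} (A : Matrix (Fin n) (Fin n) F)
    (hdeg : (minpoly F A).natDegree = n) :
    A.det = (-1) ^ n * (minpoly F A).coeff 0 := by
  have hint : IsIntegral F A := Matrix.isIntegral A
  have h1 : A.charpoly = minpoly F A := by
    apply Polynomial.eq_of_monic_of_dvd_of_natDegree_le (minpoly.monic hint) (Matrix.charpoly_monic A)
      (Matrix.minpoly_dvd_charpoly A)
    rw [Matrix.charpoly_natDegree_eq_dim, Fintype.card_fin, hdeg]
  rw [Matrix.det_eq_sign_charpoly_coeff, Fintype.card_fin, h1]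

/-- A monic polynomial of positive degree is either a power of an irreducible or a product
of two coprime monic factors of positive degree. -/
theorem factor_dichotomy (μ : F[X]) (hμ : μ.Monic) (hdeg : 0 < μ.natDegree) :
    (∃ (f : F[X]) (e : ℕ), f.Monic ∧ Irreducible f ∧ 0 < e ∧ μ = f ^ e) ∨
    (∃ g₁ g₂ : F[X], g₁.Monic ∧ g₂.Monic ∧ IsCoprime g₁ g₂ ∧ 0 < g₁.natDegree ∧
      0 < g₂.natDegree ∧ μ = g₁ * g₂) := by
  have hu : ¬ IsUnit μ := Polynomial.not_isUnit_of_natDegree_pos μ hdeg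
  obtain ⟨f, hfm, hfi, hfd⟩ := Polynomial.exists_monic_irreducible_factor μ hu
  obtain ⟨e, g₂, hnd, hfac⟩ := WfDvdMonoid.max_power_factor hμ.ne_zero hfi
  have he : 0 < e := by
    rcases Nat.eq_zero_or_pos e with h | h
    · exfalso
      rw [h, pow_zero, one_mul] at hfac
      rw [hfac] at hfd
      exact hnd hfd
    · exact h
  have hg2m : g₂.Monic := by
    apply Polynomial.Monic.of_mul_monic_left (hfm.pow e)
    rw [← hfac]
    exact hμ
  by_cases hd2 : g₂.natDegree = 0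
  · left
    have : g₂ = 1 := Polynomial.eq_one_of_monic_natDegree_zero hg2m hd2
    rw [this, mul_one] at hfac
    exact ⟨f, e, hfm, hfi, he, hfac⟩
  · right
    refine ⟨f ^ e, g₂, hfm.pow e, hg2m, ?_, ?_, Nat.pos_of_ne_zero hd2, hfac⟩
    · exact (hfi.coprime_iff_not_dvd.mpr hnd).pow_left
    · rw [Polynomial.natDegree_pow]
      have : 0 < f.natDegree := hfi.natDegree_pos
      positivity

variable [Fintype F]

/-- **Case I**: the minimal polynomial has degree less than `n`. -/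
theorem case_small_degree {n : ℕ} (hn : 0 < n) (r : ℕ) (hr : r.Prime)
    (hrq : r ∣ Fintype.card F - 1) (hrn : ¬ r ∣ n)
    (A : Matrix (Fin n) (Fin n) F) (hA : A.det = 1) (hdeg : (minpoly F A).natDegree < n) (m : ℕ)
    (hm : ∀ (j : ℕ) (ν : F), A ^ j = Matrix.scalar (Fin n) ν → m ∣ j) :
    ∃ g' : ProjectiveSpecialLinearGroup (Fin n) F, Nat.lcm m r ∣ orderOf g' := by
  classical
  obtain ⟨hmonic, hpos, -, hc0, hfacts⟩ := minpoly_facts hn A (by rw [hA]; exact one_ne_zero)
  obtain ⟨B₁, hdet1, hpow1, -⟩ := exists_companion (minpoly F A) hmonic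
  have hδ0 : (-1) ^ (minpoly F A).natDegree * (minpoly F A).coeff 0 ≠ 0 :=
    mul_ne_zero (pow_ne_zero _ (neg_ne_zero.mpr one_ne_zero)) hc0
  generalize (-1) ^ (minpoly F A).natDegree * (minpoly F A).coeff 0 = δ₀ at hδ0 hdet1
  obtain ⟨t, ht⟩ : ∃ t, (minpoly F A).natDegree + (t + 1) = n :=
    ⟨n - (minpoly F A).natDegree - 1, by omega⟩
  let B₂ : Matrix (Fin (t + 1)) (Fin (t + 1)) F :=
    Matrix.diagonal (fun i => if i = 0 then δ₀⁻¹ else 1)
  have hdet2 : B₂.det = δ₀⁻¹ := by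
    rw [Matrix.det_diagonal, Finset.prod_ite_eq']
    simp
  have hdet : B₁.det * B₂.det = 1 := by
    rw [hdet1, hdet2]
    exact mul_inv_cancel₀ hδ0
  have := exists_twist (F := F) hpos (Nat.succ_pos t) r hr hrq (by rw [ht]; exact hrn) B₁ B₂ hdet m
    (fun j ν h1 _ => hm j ν ((hfacts j ν).mpr ((hpow1 j ν).mp h1)))
  exact hasOrd_cast ht _ this

/-- **Case IIa**: the minimal polynomial has degree `n` and splits into two coprime factors. -/
theorem case_coprime_factors {n : ℕ} (hn : 0 < n) (r : ℕ) (hr : r.Prime)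
    (hrq : r ∣ Fintype.card F - 1) (hrn : ¬ r ∣ n)
    (A : Matrix (Fin n) (Fin n) F) (hA : A.det = 1) (hdeg : (minpoly F A).natDegree = n)
    (g₁ g₂ : F[X]) (h1 : g₁.Monic) (h2 : g₂.Monic) (hcop : IsCoprime g₁ g₂)
    (hd1 : 0 < g₁.natDegree) (hd2 : 0 < g₂.natDegree) (hμ : minpoly F A = g₁ * g₂) (m : ℕ)
    (hm : ∀ (j : ℕ) (ν : F), A ^ j = Matrix.scalar (Fin n) ν → m ∣ j) :
    ∃ g' : ProjectiveSpecialLinearGroup (Fin n) F, Nat.lcm m r ∣ orderOf g' := by
  classical
  obtain ⟨-, -, -, -, hfacts⟩ := minpoly_facts hn A (by rw [hA]; exact one_ne_zero)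
  obtain ⟨B₁, hdet1, hpow1, -⟩ := exists_companion g₁ h1
  obtain ⟨B₂, hdet2, hpow2, -⟩ := exists_companion g₂ h2
  have hsum : g₁.natDegree + g₂.natDegree = n := by
    rw [← hdeg, hμ, h1.natDegree_mul h2]
  have hdet : B₁.det * B₂.det = 1 := by
    rw [hdet1, hdet2]
    have := det_eq_of_natDegree_minpoly A hdeg
    rw [hA, hμ, Polynomial.mul_coeff_zero, ← hsum, pow_add] at this
    linear_combination (-1 : F) * this
  have := exists_twist (F := F) hd1 hd2 r hr hrq (by rw [hsum]; exact hrn) B₁ B₂ hdet m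
    (fun j ν e1 e2 => hm j ν ((hfacts j ν).mpr (by
      rw [hμ]
      exact hcop.mul_dvd ((hpow1 j ν).mp e1) ((hpow2 j ν).mp e2))))
  exact hasOrd_cast hsum _ this

end Cfsg.Agent.Lib.Helper15.Spr
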