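import Cfsg.Agent.Lib.Helper15.Spr4

/-!
# Lemma K, blocks for the primary case (for S2510)
-/

set_option autoImplicit false

namespace Cfsg.Agent.Lib.Helper15.Spr

open Matrix Polynomial

section general

variable {F : Type*} [Field F]

/-- In characteristic `p`, `f ∣ X ^ c - λ` implies `f ^ e ∣ X ^ (c p^T) - λ ^ (p^T)` for `e ≤ p^T`. -/
theorem pow_dvd_of_dvd_sub (p : ℕ) [Fact p.Prime] [CharP F p] (f : F[X]) (c : ℕ) (lam : F)
    (h : f ∣ X ^ c - C lam) (e T : ℕ) (heT : e ≤ p ^ T) :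
    f ^ e ∣ X ^ (c * p ^ T) - C (lam ^ p ^ T) := by
  have h1 : f ^ e ∣ f ^ (p ^ T) := pow_dvd_pow f heT
  have h2 : f ^ (p ^ T) ∣ (X ^ c - C lam) ^ (p ^ T) := pow_dvd_pow_of_dvd h _
  have h3 : (X ^ c - C lam : F[X]) ^ (p ^ T) = X ^ (c * p ^ T) - C (lam ^ p ^ T) := by
    rw [sub_pow_char_pow, ← pow_mul, ← C_pow]
  rw [← h3]
  exact h1.trans h2

/-- The unipotent Jordan block of size `n₂` in characteristic `p`. -/
theorem exists_unipotent_block (p : ℕ) [Fact p.Prime] [CharP F p] (n₂ : ℕ) (hn₂ : 0 < n₂) :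
    ∃ B : Matrix (Fin n₂) (Fin n₂) F, B.det = 1 ∧
      ∀ (j : ℕ) (ν : F), B ^ j = Matrix.scalar (Fin n₂) ν →
        ν = 1 ∧ ∃ s, n₂ ≤ p ^ s ∧ p ^ s ∣ j := by
  classical
  have hp := (Fact.out : p.Prime)
  have hgm : (X ^ n₂ : F[X]).Monic := monic_X_pow n₂
  have hgd : (X ^ n₂ : F[X]).natDegree = n₂ := natDegree_X_pow n₂
  let pb := AdjoinRoot.powerBasis hgm.ne_zero
  have : Module.Finite F (AdjoinRoot (X ^ n₂ : F[X])) := pb.finite
  have hfr : Module.finrank F (AdjoinRoot (X ^ n₂ : F[X])) = n₂ := by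
    rw [pb.finrank, AdjoinRoot.powerBasis_dim, hgd]
  have : Nontrivial (AdjoinRoot (X ^ n₂ : F[X])) :=
    AdjoinRoot.nontrivial _ (by rw [degree_X_pow]; exact_mod_cast hn₂.ne')
  have hinj : Function.Injective (algebraMap F (AdjoinRoot (X ^ n₂ : F[X]))) :=
    (algebraMap F (AdjoinRoot (X ^ n₂ : F[X]))).injective
  have : CharP (AdjoinRoot (X ^ n₂ : F[X])) p := charP_of_injective_algebraMap hinj p
  have hx0 : ∀ j, (AdjoinRoot.root (X ^ n₂ : F[X])) ^ j = 0 ↔ n₂ ≤ j := by
    intro j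
    rw [← AdjoinRoot.mk_X, ← map_pow, AdjoinRoot.mk_eq_zero]
    exact pow_dvd_pow_iff X_ne_zero not_isUnit_X
  have hu : ∀ s, (1 + AdjoinRoot.root (X ^ n₂ : F[X])) ^ p ^ s = 1 ↔ n₂ ≤ p ^ s := by
    intro s
    rw [add_pow_char_pow, one_pow, add_eq_left, hx0]
  let ε : AdjoinRoot (X ^ n₂ : F[X]) →+* F :=
    AdjoinRoot.lift (RingHom.id F) 0 (by rw [eval₂_X_pow, zero_pow hn₂.ne'])
  obtain ⟨B, hdet, hpow, -⟩ := exists_matrix_of_algebra hfr (1 + AdjoinRoot.root (X ^ n₂ : F[X]))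
  have hs0 : n₂ ≤ p ^ n₂ := (Nat.lt_pow_self hp.one_lt).le
  refine ⟨B, ?_, ?_⟩
  · have h1 : B ^ (p ^ n₂) = Matrix.scalar (Fin n₂) 1 := by
      rw [hpow, map_one]
      exact (hu n₂).mpr hs0
    have h2 := congrArg Matrix.det h1
    rw [Matrix.det_pow, map_one, Matrix.det_one] at h2
    have h3 : (B.det - 1) ^ p ^ n₂ = 0 := by rw [sub_pow_char_pow, h2, one_pow, sub_self]
    exact sub_eq_zero.mp ((pow_eq_zero_iff (pow_pos hp.pos _).ne').mp h3)
  · intro j ν hj
    rw [hpow] at hj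
    have hν : ν = 1 := by
      have := congrArg ε hj
      rw [map_pow, map_add, map_one, AdjoinRoot.lift_root, add_zero, one_pow,
        AdjoinRoot.algebraMap_eq, AdjoinRoot.lift_of] at this
      exact this.symm
    refine ⟨hν, ?_⟩
    rw [hν, map_one] at hj
    have hord : orderOf (1 + AdjoinRoot.root (X ^ n₂ : F[X])) ∣ p ^ n₂ :=
      orderOf_dvd_of_pow_eq_one ((hu n₂).mpr hs0)
    obtain ⟨s, -, hs⟩ := (Nat.dvd_prime_pow hp).mp hord
    refine ⟨s, ?_, ?_⟩
    · rw [← hu, ← hs]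
      exact pow_orderOf_eq_one _
    · rw [← hs]
      exact orderOf_dvd_of_pow_eq_one hj

/-- Facts about `F[X]/(f)` for monic `f`. -/
theorem adjoinRoot_facts (f : F[X]) (hf : f.Monic) :
    ∃ (_ : Module.Finite F (AdjoinRoot f)), Module.finrank F (AdjoinRoot f) = f.natDegree ∧
      (∀ h : F[X], Polynomial.aeval (AdjoinRoot.root f) h = 0 ↔ f ∣ h) ∧
      Algebra.norm F (AdjoinRoot.root f) = (-1) ^ f.natDegree * f.coeff 0 := by
  have hg0 : f ≠ 0 := hf.ne_zero
  let pb := AdjoinRoot.powerBasis hg0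
  have hfin : Module.Finite F (AdjoinRoot f) := pb.finite
  refine ⟨hfin, ?_, ?_, ?_⟩
  · rw [pb.finrank, AdjoinRoot.powerBasis_dim]
  · intro h
    rw [AdjoinRoot.aeval_eq, AdjoinRoot.mk_eq_zero]
  · have h1 := Algebra.PowerBasis.norm_gen_eq_coeff_zero_minpoly pb
    rw [AdjoinRoot.powerBasis_gen, AdjoinRoot.powerBasis_dim, AdjoinRoot.minpoly_root hg0,
      hf.leadingCoeff, inv_one, map_one, mul_one] at h1
    exact h1

end general

section finite

variable {F : Type*} [Field F] [Fintype F]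

/-- Elements of an extension field killed by `q - 1` lie in the base field. -/
theorem mem_range_algebraMap_of_pow {K : Type*} [Field K] [Algebra F K] (y : K)
    (hy : y ^ (Fintype.card F - 1) = 1) : ∃ ν : F, algebraMap F K ν = y := by
  classical
  have hq : 0 < Fintype.card F - 1 := by
    have := Fintype.one_lt_card (α := F)
    omega
  let S' : Finset K := (Finset.univ.filter (fun x : F => x ≠ 0)).image (algebraMap F K)
  have hcard : S'.card = Fintype.card F - 1 := by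
    rw [Finset.card_image_of_injective _ (algebraMap F K).injective, Finset.filter_ne',
      Finset.card_erase_of_mem (Finset.mem_univ _), Finset.card_univ]
  have hsub : S' ⊆ Polynomial.nthRootsFinset (Fintype.card F - 1) (1 : K) := by
    intro x hx
    rw [Finset.mem_image] at hx
    obtain ⟨ν, hν, rfl⟩ := hx
    rw [Polynomial.mem_nthRootsFinset hq, ← map_pow,
      FiniteField.pow_card_sub_one_eq_one ν (by simpa using hν), map_one]
  have hle : (Polynomial.nthRootsFinset (Fintype.card F - 1) (1 : K)).card ≤ S'.card := by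
    rw [hcard, Polynomial.nthRootsFinset_def]
    exact (Multiset.toFinset_card_le _).trans (Polynomial.card_nthRoots _ _)
  have := Finset.eq_of_subset_of_card_le hsub hle
  have hy' : y ∈ S' := by
    rw [this, Polynomial.mem_nthRootsFinset hq]
    exact hy
  rw [Finset.mem_image] at hy'
  obtain ⟨ν, _, h⟩ := hy'
  exact ⟨ν, h⟩

/-- The semisimple block: the matrix of `θ ^ (q - 1)` for `θ` in an extension field of degree `k`. -/
theorem exists_semisimple_block {K : Type*} [Field K] [Algebra F K] [Module.Finite F K] {k : ℕ}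
    (hk : Module.finrank F K = k) (θ : K) (hθ : θ ≠ 0) (p : ℕ) (hp : p.Prime)
    (hpq : p ∣ Fintype.card F) :
    ∃ (B : Matrix (Fin k) (Fin k) F) (c : ℕ) (lam : F), B.det = 1 ∧ Nat.Coprime c p ∧
      θ ^ c = algebraMap F K lam ∧ ∀ j, B ^ j = 1 → c ∣ j := by
  classical
  have : Finite K := Module.finite_of_finite F
  set q := Fintype.card F with hq
  let θ' : Kˣ := Units.mk0 θ hθ
  obtain ⟨B, hdet, hpow, -⟩ := exists_matrix_of_algebra hk (θ ^ (q - 1))
  have hunit : ∀ j, (θ ^ (q - 1)) ^ j = 1 ↔ (θ' ^ (q - 1)) ^ j = 1 := by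
    intro j
    rw [Units.ext_iff]
    simp [θ']
  have hc1 : (θ ^ orderOf (θ' ^ (q - 1))) ^ (q - 1) = 1 := by
    rw [← pow_mul, mul_comm, pow_mul, hunit]
    exact pow_orderOf_eq_one _
  obtain ⟨lam, hlam⟩ := mem_range_algebraMap_of_pow (F := F) _ hc1
  refine ⟨B, orderOf (θ' ^ (q - 1)), lam, ?_, ?_, hlam.symm, ?_⟩
  · rw [hdet, map_pow]
    apply FiniteField.pow_card_sub_one_eq_one
    rw [Ne, Algebra.norm_eq_zero_iff]
    exact hθ
  · have h1 : orderOf (θ' ^ (q - 1)) ∣ Nat.card Kˣ := orderOf_dvd_natCard _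
    rw [Nat.card_units, Module.natCard_eq_pow_finrank (K := F) (V := K), hk,
      Nat.card_eq_fintype_card] at h1
    have hk0 : 0 < k := by
      rw [← hk]
      exact Module.finrank_pos
    have h2 : p ∣ Fintype.card F ^ k := dvd_pow hpq hk0.ne'
    have h3 : 0 < Fintype.card F ^ k := pow_pos Fintype.card_pos k
    have h4 : ¬ p ∣ Fintype.card F ^ k - 1 := by
      intro h
      have := Nat.dvd_sub h2 h
      have e : Fintype.card F ^ k - (Fintype.card F ^ k - 1) = 1 := by omega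
      rw [e] at this
      exact hp.one_lt.ne' (Nat.dvd_one.mp this)
    exact Nat.Coprime.coprime_dvd_left h1 ((Nat.Prime.coprime_iff_not_dvd hp).mpr h4).symm
  · intro j hj
    have h1 : B ^ j = Matrix.scalar (Fin k) 1 := by rw [hj, map_one]
    rw [hpow, map_one, hunit] at h1
    exact orderOf_dvd_of_pow_eq_one h1

end finite

end Cfsg.Agent.Lib.Helper15.Spr
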