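import Cfsg.Agent.Lib.Helper15.Spr5

/-!
# Lemma K (for S2510)
-/

set_option autoImplicit false

namespace Cfsg.Agent.Lib.Helper15.Spr

open Matrix Polynomial

section numbers

/-- `(q ^ n - 1) / (q - 1)` -/
def QQ (q n : ℕ) : ℕ := (q ^ n - 1) / (q - 1)

/-- `(q ^ n - 1) / ((q - 1) gcd(n, q - 1))`, the projective order of a Singer cycle. -/
def SS (q n : ℕ) : ℕ := QQ q n / Nat.gcd n (q - 1)

theorem QQ_mul (q n : ℕ) : QQ q n * (q - 1) = q ^ n - 1 := by
  unfold QQ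
  apply Nat.div_mul_cancel
  exact Nat.sub_one_dvd_pow_sub_one q n

theorem QQ_eq_sum {q : ℕ} (hq : 2 ≤ q) (n : ℕ) : QQ q n = ∑ i ∈ Finset.range n, q ^ i := by
  unfold QQ
  rw [Nat.geomSum_eq hq]

theorem QQ_modEq {q : ℕ} (hq : 2 ≤ q) (n : ℕ) : QQ q n ≡ n [MOD (q - 1)] := by
  rw [QQ_eq_sum hq]
  have h1 : q ≡ 1 [MOD (q - 1)] := by
    have : (q - 1) ≡ 0 [MOD (q - 1)] := Nat.modEq_zero_iff_dvd.mpr dvd_rfl
    have h2 := Nat.ModEq.add_right 1 this
    rwa [Nat.sub_add_cancel (by omega), zero_add] at h2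
  induction n with
  | zero => simp [Nat.ModEq]
  | succ k ih =>
    rw [Finset.sum_range_succ]
    have h3 : q ^ k ≡ 1 [MOD (q - 1)] := by
      have := h1.pow k
      rwa [one_pow] at this
    exact ih.add h3

theorem gcd_QQ {q : ℕ} (hq : 2 ≤ q) (n : ℕ) : Nat.gcd (QQ q n) (q - 1) = Nat.gcd n (q - 1) :=
  (QQ_modEq hq n).gcd_eq

theorem SS_mul {q : ℕ} (hq : 2 ≤ q) (n : ℕ) : SS q n * Nat.gcd n (q - 1) = QQ q n := by
  unfold SS
  apply Nat.div_mul_cancel
  rw [← gcd_QQ hq n]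
  exact Nat.gcd_dvd_left _ _

theorem SS_coprime {q : ℕ} (hq : 2 ≤ q) (n : ℕ) :
    Nat.Coprime (SS q n) ((q - 1) / Nat.gcd n (q - 1)) := by
  unfold SS
  rw [← gcd_QQ hq n]
  apply Nat.coprime_div_gcd_div_gcd
  apply Nat.gcd_pos_of_pos_right
  omega

theorem QQ_pos {q : ℕ} (hq : 2 ≤ q) {n : ℕ} (hn : 0 < n) : 0 < QQ q n := by
  rw [QQ_eq_sum hq]
  apply Finset.sum_pos
  · intro i _
    positivity
  · exact ⟨0, Finset.mem_range.mpr hn⟩

theorem SS_pos {q : ℕ} (hq : 2 ≤ q) {n : ℕ} (hn : 0 < n) : 0 < SS q n := by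
  have h1 := SS_mul hq n
  have h2 := QQ_pos hq hn
  rw [← h1] at h2
  rcases Nat.eq_zero_or_pos (SS q n) with h0 | h0
  · rw [h0, zero_mul] at h2
    exact absurd h2 (lt_irrefl 0)
  · exact h0

/-- `Q ∣ (q - 1) j ↔ S ∣ j`. -/
theorem QQ_dvd_iff {q : ℕ} (hq : 2 ≤ q) (n j : ℕ) : QQ q n ∣ j * (q - 1) ↔ SS q n ∣ j := by
  set d := Nat.gcd n (q - 1) with hd
  have hdpos : 0 < d := Nat.gcd_pos_of_pos_right _ (by omega)
  have h1 : (q - 1) / d * d = q - 1 := Nat.div_mul_cancel (Nat.gcd_dvd_right _ _)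
  rw [← SS_mul hq n, ← hd]
  conv_lhs => rw [← h1, ← mul_assoc]
  rw [Nat.mul_dvd_mul_iff_right hdpos]
  constructor
  · intro h
    exact (SS_coprime hq n).dvd_of_dvd_mul_right h
  · intro h
    exact Dvd.dvd.mul_right h _


end numbers

variable {F : Type*} [Field F] [Fintype F]

/-- **Case IIb, e = 1**: irreducible characteristic polynomial. -/
theorem case_irreducible {n : ℕ} (hn : 0 < n) (A : Matrix (Fin n) (Fin n) F) (hA : A.det = 1)
    (hirr : Irreducible (minpoly F A)) (hdeg : (minpoly F A).natDegree = n) :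
    ∃ ν : F, A ^ (SS (Fintype.card F) n) = Matrix.scalar (Fin n) ν := by
  classical
  obtain ⟨hmonic, -, -, -, hfacts⟩ := minpoly_facts hn A (by rw [hA]; exact one_ne_zero)
  have hq : 2 ≤ Fintype.card F := Fintype.one_lt_card
  have : Fact (Irreducible (minpoly F A)) := ⟨hirr⟩
  obtain ⟨hfin, hfr, hae, hnorm⟩ := adjoinRoot_facts (minpoly F A) hmonic
  have : Finite (AdjoinRoot (minpoly F A)) := Module.finite_of_finite F
  have hN : Algebra.norm F (AdjoinRoot.root (minpoly F A)) = 1 := by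
    rw [hnorm, hdeg, ← det_eq_of_natDegree_minpoly A hdeg, hA]
  have h1 := FiniteField.algebraMap_norm_eq_pow (K := F) (K' := AdjoinRoot (minpoly F A))
    (x := AdjoinRoot.root (minpoly F A))
  rw [hN, map_one, Module.natCard_eq_pow_finrank (K := F) (V := AdjoinRoot (minpoly F A)), hfr, hdeg,
    Nat.card_eq_fintype_card] at h1
  have h2 : (AdjoinRoot.root (minpoly F A)) ^ QQ (Fintype.card F) n = 1 := h1.symm
  have h3 : ((AdjoinRoot.root (minpoly F A)) ^ SS (Fintype.card F) n) ^ (Fintype.card F - 1) = 1 := by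
    have e1 : (Fintype.card F - 1) / Nat.gcd n (Fintype.card F - 1) *
        Nat.gcd n (Fintype.card F - 1) = Fintype.card F - 1 :=
      Nat.div_mul_cancel (Nat.gcd_dvd_right _ _)
    rw [← pow_mul, ← e1, mul_comm ((Fintype.card F - 1) / Nat.gcd n (Fintype.card F - 1)),
      ← mul_assoc, SS_mul hq n, pow_mul, h2, one_pow]
  obtain ⟨ν, hν⟩ := mem_range_algebraMap_of_pow (F := F) _ h3
  refine ⟨ν, (hfacts _ ν).mpr ((hae _).mp ?_)⟩
  rw [map_sub, map_pow, Polynomial.aeval_X, Polynomial.aeval_C, hν, sub_self]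

/-- **Case IIb, e ≥ 2**: the minimal polynomial is a proper power of an irreducible. -/
theorem case_prime_power {n : ℕ} (hn : 0 < n) (p : ℕ) [Fact p.Prime] [CharP F p] (r : ℕ)
    (hr : r.Prime) (hrq : r ∣ Fintype.card F - 1) (hrn : ¬ r ∣ n)
    (A : Matrix (Fin n) (Fin n) F) (hA : A.det = 1) (f : F[X]) (e : ℕ) (hfm : f.Monic)
    (hfi : Irreducible f) (he : 2 ≤ e) (hμ : minpoly F A = f ^ e)
    (hdeg : (minpoly F A).natDegree = n) :
    ((∃ j : ℕ, n - 1 = p ^ j) ∧ ∃ (T : ℕ) (ν : F), A ^ (p ^ T) = Matrix.scalar (Fin n) ν) ∨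
    (∀ m : ℕ, (∀ (j : ℕ) (ν : F), A ^ j = Matrix.scalar (Fin n) ν → m ∣ j) →
      ∃ g' : ProjectiveSpecialLinearGroup (Fin n) F, Nat.lcm m r ∣ orderOf g') := by
  classical
  have hp : p.Prime := Fact.out
  obtain ⟨-, -, -, hc0, hfacts⟩ := minpoly_facts hn A (by rw [hA]; exact one_ne_zero)
  have hpq : p ∣ Fintype.card F := by
    rw [← CharP.cast_eq_zero_iff F p]
    exact Nat.cast_card_eq_zero F
  have hk : 0 < f.natDegree := hfi.natDegree_pos
  have hke : e * f.natDegree = n := by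
    rw [← hdeg, hμ, Polynomial.natDegree_pow]
  have h1 : e ≤ p ^ Nat.clog p e := Nat.le_pow_clog hp.one_lt e
  have h2 : p ^ (Nat.clog p e).pred < e := Nat.pow_pred_clog_lt_self hp.one_lt (by omega)
  have hT : 0 < Nat.clog p e := Nat.clog_pos hp.one_lt (by omega)
  have hf0 : f.coeff 0 ≠ 0 := by
    intro h0
    apply hc0
    rw [hμ, Polynomial.coeff_zero_eq_eval_zero, Polynomial.eval_pow,
      ← Polynomial.coeff_zero_eq_eval_zero, h0, zero_pow (by omega)]
  generalize hTT : Nat.clog p e = T at h1 h2 hT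
  by_cases hcase : f.natDegree = 1 ∧ n = p ^ (T - 1) + 1
  · left
    refine ⟨⟨T - 1, by omega⟩, T, ?_⟩
    have hfX : f = X + C (f.coeff 0) := hfm.eq_X_add_C hcase.1
    have hd : f ∣ X ^ 1 - C (- f.coeff 0) := by
      rw [pow_one, C_neg, sub_neg_eq_add, ← hfX]
    have := pow_dvd_of_dvd_sub p f 1 _ hd e T h1
    rw [← hμ, ← hfacts] at this
    rw [one_mul] at this
    exact ⟨_, this⟩
  · right
    intro m hm
    have : Fact (Irreducible f) := ⟨hfi⟩
    obtain ⟨hfin, hfr, hae, hnorm⟩ := adjoinRoot_facts f hfm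
    have hθ : AdjoinRoot.root f ≠ 0 := by
      intro h0
      rw [h0, Algebra.norm_zero] at hnorm
      exact mul_ne_zero (pow_ne_zero _ (neg_ne_zero.mpr one_ne_zero)) hf0 hnorm.symm
    obtain ⟨B₁, c, lam, hdet1, hcop, hlam, hB1⟩ :=
      exists_semisimple_block (F := F) hfr (AdjoinRoot.root f) hθ p hp hpq
    have hfdvd : f ∣ X ^ c - C lam := by
      apply (hae _).mp
      rw [map_sub, map_pow, Polynomial.aeval_X, Polynomial.aeval_C, hlam, sub_self]
    have hAc : A ^ (c * p ^ T) = Matrix.scalar (Fin n) (lam ^ p ^ T) := by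
      rw [hfacts, hμ]
      exact pow_dvd_of_dvd_sub p f c lam hfdvd e T h1
    have hP : 1 ≤ p ^ (T - 1) := Nat.one_le_pow _ _ hp.pos
    have h2' : p ^ (T - 1) < e := h2
    obtain ⟨n₂, hn₂⟩ : ∃ n₂, f.natDegree + n₂ = n := ⟨n - f.natDegree, by
      have : f.natDegree ≤ e * f.natDegree := Nat.le_mul_of_pos_left _ (by omega)
      omega⟩
    have hn₂P : p ^ (T - 1) + 1 ≤ n₂ := by
      rcases Nat.lt_or_ge 1 f.natDegree with hk2 | hk1
      · have h3 : (p ^ (T - 1) + 1) * f.natDegree ≤ e * f.natDegree :=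
          Nat.mul_le_mul_right _ h2'
        have h4 : p ^ (T - 1) * 2 ≤ p ^ (T - 1) * f.natDegree := Nat.mul_le_mul_left _ hk2
        rw [add_mul, one_mul] at h3
        omega
      · have hk1' : f.natDegree = 1 := by omega
        rw [hk1', mul_one] at hke
        have : n ≠ p ^ (T - 1) + 1 := fun h => hcase ⟨hk1', h⟩
        omega
    obtain ⟨B₂, hdet2, hB2⟩ := exists_unipotent_block (F := F) p n₂ (by omega)
    have := exists_twist (F := F) hk (by omega : 0 < n₂) r hr hrq (by rw [hn₂]; exact hrn) B₁ B₂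
      (by rw [hdet1, hdet2, one_mul]) m (fun j ν e1 e2 => by
        obtain ⟨hν, s, hs1, hs2⟩ := hB2 j ν e2
        subst hν
        have hc : c ∣ j := hB1 j (by rw [e1, map_one])
        have hTs : T ≤ s := by
          have h5 : p ^ (T - 1) < p ^ s := by omega
          have := (Nat.pow_lt_pow_iff_right hp.one_lt).mp h5
          omega
        have hpT : p ^ T ∣ j := (pow_dvd_pow p hTs).trans hs2
        have h6 : c * p ^ T ∣ j := Nat.Coprime.mul_dvd_of_dvd_of_dvd (hcop.pow_right T) hc hpT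
        exact (hm _ _ hAc).trans h6)
    exact hasOrd_cast hn₂ _ this

/-- **Lemma K**, matrix form. -/
theorem lemmaK_matrix {n : ℕ} (hn : 0 < n) (p : ℕ) [Fact p.Prime] [CharP F p] (r : ℕ)
    (hr : r.Prime) (hrq : r ∣ Fintype.card F - 1) (hrn : ¬ r ∣ n)
    (A : Matrix (Fin n) (Fin n) F) (hA : A.det = 1) :
    (∃ ν : F, A ^ (SS (Fintype.card F) n) = Matrix.scalar (Fin n) ν) ∨
    ((∃ j : ℕ, n - 1 = p ^ j) ∧ ∃ (T : ℕ) (ν : F), A ^ (p ^ T) = Matrix.scalar (Fin n) ν) ∨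
    (∀ m : ℕ, (∀ (j : ℕ) (ν : F), A ^ j = Matrix.scalar (Fin n) ν → m ∣ j) →
      ∃ g' : ProjectiveSpecialLinearGroup (Fin n) F, Nat.lcm m r ∣ orderOf g') := by
  obtain ⟨hmonic, hpos, hle, -, -⟩ := minpoly_facts hn A (by rw [hA]; exact one_ne_zero)
  by_cases hdeg : (minpoly F A).natDegree < n
  · right; right
    intro m hm
    exact case_small_degree hn r hr hrq hrn A hA hdeg m hm
  · have hdeg' : (minpoly F A).natDegree = n := by omega
    rcases factor_dichotomy (minpoly F A) hmonic hpos with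
      ⟨f, e, hfm, hfi, he, hμ⟩ | ⟨g₁, g₂, h1, h2, hcop, hd1, hd2, hμ⟩
    · rcases Nat.lt_or_ge 1 e with he2 | he1
      · right
        exact case_prime_power hn p r hr hrq hrn A hA f e hfm hfi he2 hμ hdeg'
      · left
        have : e = 1 := by omega
        rw [this, pow_one] at hμ
        exact case_irreducible hn A hA (by rw [hμ]; exact hfi) hdeg'
    · right; right
      intro m hm
      exact case_coprime_factors hn r hr hrq hrn A hA hdeg' g₁ g₂ h1 h2 hcop hd1 hd2 hμ m hm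

/-- **Lemma K**, group form. -/
theorem lemmaK {n : ℕ} (hn : 0 < n) (p : ℕ) [Fact p.Prime] [CharP F p] (r : ℕ)
    (hr : r.Prime) (hrq : r ∣ Fintype.card F - 1) (hrn : ¬ r ∣ n)
    (g : ProjectiveSpecialLinearGroup (Fin n) F) :
    orderOf g ∣ SS (Fintype.card F) n ∨
    ((∃ j : ℕ, n - 1 = p ^ j) ∧ ∃ t : ℕ, orderOf g = p ^ t) ∨
    (∃ g' : ProjectiveSpecialLinearGroup (Fin n) F, Nat.lcm (orderOf g) r ∣ orderOf g') := by
  have hp : p.Prime := Fact.out
  obtain ⟨A, rfl⟩ := QuotientGroup.mk_surjective g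
  rcases lemmaK_matrix hn p r hr hrq hrn (A : Matrix (Fin n) (Fin n) F) A.2 with h | h | h
  · left
    rw [orderOf_mk_dvd_iff]
    exact h
  · right; left
    refine ⟨h.1, ?_⟩
    obtain ⟨T, hT⟩ := h.2
    have h1 : orderOf (QuotientGroup.mk A : ProjectiveSpecialLinearGroup (Fin n) F) ∣ p ^ T := by
      rw [orderOf_mk_dvd_iff]
      exact hT
    obtain ⟨t, -, ht⟩ := (Nat.dvd_prime_pow hp).mp h1
    exact ⟨t, ht⟩
  · right; right
    apply h
    intro j ν hj
    rw [orderOf_mk_dvd_iff]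
    exact ⟨ν, hj⟩

end Cfsg.Agent.Lib.Helper15.Spr
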