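import Cfsg.Agent.Lib.Helper15.Spr6

/-!
# Special elements of `PSL_n(q)` and the combinatorial assembly (for S2510)
-/

set_option autoImplicit false

namespace Cfsg.Agent.Lib.Helper15.Spr

open Matrix Polynomial

/-- The set of element orders is closed under divisors. -/
theorem exists_orderOf_of_dvd {G : Type*} [Group G] (g : G) (hg : 0 < orderOf g) {u : ℕ}
    (hu : u ∣ orderOf g) : ∃ g' : G, orderOf g' = u := by
  refine ⟨g ^ (orderOf g / u), ?_⟩
  have hu0 : 0 < u := Nat.pos_of_dvd_of_pos hu hg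
  have h1 : orderOf g / u ≠ 0 := (Nat.div_pos (Nat.le_of_dvd hg hu) hu0).ne'
  rw [orderOf_pow_of_dvd h1 (Nat.div_dvd_of_dvd hu), Nat.div_div_self hu hg.ne']

variable {F : Type*} [Field F] [Fintype F]

theorem exists_orderOf_of_dvd_psl {n : ℕ} (g : ProjectiveSpecialLinearGroup (Fin n) F) {u : ℕ}
    (hu : u ∣ orderOf g) : ∃ g' : ProjectiveSpecialLinearGroup (Fin n) F, orderOf g' = u :=
  exists_orderOf_of_dvd g (orderOf_pos g) hu

/-- An element of order `r` in `PSL_n(q)`. -/
theorem exists_order_r {n : ℕ} (hn : 2 ≤ n) (r : ℕ) (hr : r.Prime)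
    (hrq : r ∣ Fintype.card F - 1) (hrn : ¬ r ∣ n) :
    ∃ g : ProjectiveSpecialLinearGroup (Fin n) F, orderOf g = r := by
  obtain ⟨n₂, hn₂⟩ : ∃ n₂, 1 + n₂ = n := ⟨n - 1, by omega⟩
  have := exists_twist (F := F) (n₁ := 1) (n₂ := n₂) one_pos (by omega) r hr hrq
    (by rw [hn₂]; exact hrn) 1 1 (by simp) 1 (fun _ _ _ _ => one_dvd _)
  obtain ⟨g, hg⟩ := hasOrd_cast hn₂ _ this
  rw [Nat.lcm_one_left] at hg
  exact exists_orderOf_of_dvd_psl g hg

/-- A Singer element: an element of `PSL_n(q)` of order `(q^n - 1)/((q - 1) gcd(n, q - 1))`. -/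
theorem exists_singer {n : ℕ} (hn : 0 < n) (p : ℕ) [Fact p.Prime] [CharP F p] :
    ∃ g : ProjectiveSpecialLinearGroup (Fin n) F, orderOf g = SS (Fintype.card F) n := by
  classical
  have hq : 2 ≤ Fintype.card F := Fintype.one_lt_card
  have : NeZero n := ⟨hn.ne'⟩
  have hfr : Module.finrank F (FiniteField.Extension F p n) = n :=
    FiniteField.finrank_extension F p n
  have hcard : Nat.card (FiniteField.Extension F p n) = Fintype.card F ^ n := by
    rw [FiniteField.natCard_extension, Nat.card_eq_fintype_card]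
  obtain ⟨θ₀, hθ₀⟩ := IsCyclic.exists_generator (α := (FiniteField.Extension F p n)ˣ)
  have hord : orderOf θ₀ = Fintype.card F ^ n - 1 := by
    rw [orderOf_eq_card_of_forall_mem_zpowers hθ₀, Nat.card_units, hcard]
  have hqne : Fintype.card F - 1 ≠ 0 := by omega
  have horda : orderOf (θ₀ ^ (Fintype.card F - 1)) = QQ (Fintype.card F) n := by
    rw [orderOf_pow_of_dvd hqne (by rw [hord]; exact Nat.sub_one_dvd_pow_sub_one _ _), hord]
    rfl
  obtain ⟨M, hdet, hpow, -⟩ := exists_matrix_of_algebra hfr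
    (((θ₀ ^ (Fintype.card F - 1) : (FiniteField.Extension F p n)ˣ) :
      FiniteField.Extension F p n))
  have hdet1 : M.det = 1 := by
    rw [hdet, Units.val_pow_eq_pow_val, map_pow]
    apply FiniteField.pow_card_sub_one_eq_one
    rw [Ne, Algebra.norm_eq_zero_iff]
    exact θ₀.ne_zero
  have hunit : ∀ j : ℕ, ((((θ₀ ^ (Fintype.card F - 1) : (FiniteField.Extension F p n)ˣ) :
      FiniteField.Extension F p n)) ^ j) ^ (Fintype.card F - 1) = 1 ↔
      SS (Fintype.card F) n ∣ j := by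
    intro j
    rw [← QQ_dvd_iff hq n j, ← horda, orderOf_dvd_iff_pow_eq_one, Units.ext_iff, pow_mul]
    simp
  have key : ∀ j : ℕ, (∃ ν : F, M ^ j = Matrix.scalar (Fin n) ν) ↔ SS (Fintype.card F) n ∣ j := by
    intro j
    rw [← hunit]
    constructor
    · rintro ⟨ν, hν⟩
      rw [hpow] at hν
      rw [hν, ← map_pow]
      have hν0 : ν ≠ 0 := by
        rintro rfl
        rw [map_zero] at hν
        exact (pow_ne_zero j (Units.ne_zero _)) hν
      rw [FiniteField.pow_card_sub_one_eq_one ν hν0, map_one]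
    · intro h
      obtain ⟨ν, hν⟩ := mem_range_algebraMap_of_pow (F := F) _ h
      exact ⟨ν, (hpow j ν).mpr hν.symm⟩
  let A : SpecialLinearGroup (Fin n) F := ⟨M, hdet1⟩
  have hA : ∀ j : ℕ, orderOf (QuotientGroup.mk A : ProjectiveSpecialLinearGroup (Fin n) F) ∣ j ↔
      SS (Fintype.card F) n ∣ j := by
    intro j
    rw [orderOf_mk_dvd_iff, ← key]
  refine ⟨QuotientGroup.mk A, ?_⟩
  apply Nat.dvd_antisymm
  · exact (hA _).mpr dvd_rfl
  · exact (hA _).mp dvd_rfl

end Cfsg.Agent.Lib.Helper15.Spr
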