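import Cfsg.Agent.Lib.Helper15.Spr7

/-!
# Combinatorial assembly of spectra of direct powers (for S2510)
-/

set_option autoImplicit false

namespace Cfsg.Agent.Lib.Helper15.Spr

/-- The characteristic of a finite field of order `p ^ a`. -/
theorem charP_of_card {F : Type*} [Field F] [Fintype F] (p a : ℕ) (hp : p.Prime)
    (hF : Fintype.card F = p ^ a) : CharP F p := by
  obtain ⟨p', hp'⟩ := CharP.exists F
  have hpp : p'.Prime := (CharP.char_is_prime_or_zero F p').resolve_right (by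
    intro h0
    subst h0
    have : (Fintype.card F : F) = 0 := Nat.cast_card_eq_zero F
    rw [CharP.cast_eq_zero_iff F 0, zero_dvd_iff] at this
    exact Fintype.card_ne_zero this)
  have h1 : p' ∣ Fintype.card F := by
    rw [← CharP.cast_eq_zero_iff F p']
    exact Nat.cast_card_eq_zero F
  rw [hF] at h1
  have h2 : p' = p := (Nat.prime_dvd_prime_iff_eq hpp hp).mp (hpp.dvd_of_dvd_pow h1)
  rw [← h2]
  exact hp'

/-- Orders of the form `lcm s π` with `s ∣ S` and `π` a `p`-power element order. -/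
def Good (L : Type*) [Group L] (p S v : ℕ) : Prop :=
  ∃ s π : ℕ, s ∣ S ∧ (∃ g : L, orderOf g = π) ∧ (∃ t : ℕ, π = p ^ t) ∧ v = Nat.lcm s π

theorem Good.lcm {L : Type*} [Group L] {p S u v : ℕ} (hu : Good L p S u) (hv : Good L p S v) :
    Good L p S (Nat.lcm u v) := by
  obtain ⟨s, π, hs, hg, ⟨t, ht⟩, rfl⟩ := hu
  obtain ⟨s', π', hs', hg', ⟨t', ht'⟩, rfl⟩ := hv
  rcases le_total t t' with h | h
  · refine ⟨Nat.lcm s s', π', Nat.lcm_dvd hs hs', hg', ⟨t', ht'⟩, ?_⟩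
    have h1 : Nat.lcm π π' = π' := by
      rw [ht, ht']
      exact Nat.lcm_eq_right (pow_dvd_pow p h)
    calc Nat.lcm (Nat.lcm s π) (Nat.lcm s' π') = Nat.lcm (Nat.lcm s s') (Nat.lcm π π') := by ac_rfl
      _ = _ := by rw [h1]
  · refine ⟨Nat.lcm s s', π, Nat.lcm_dvd hs hs', hg, ⟨t, ht⟩, ?_⟩
    have h1 : Nat.lcm π π' = π := by
      rw [ht, ht']
      exact Nat.lcm_eq_left (pow_dvd_pow p h)
    calc Nat.lcm (Nat.lcm s π) (Nat.lcm s' π') = Nat.lcm (Nat.lcm s s') (Nat.lcm π π') := by ac_rfl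
      _ = _ := by rw [h1]

/-- Three factors absorb the prime `r`. -/
theorem assembly3 {L : Type*} [Group L] (p r S : ℕ)
    (hr : ∃ g : L, orderOf g = r)
    (hS : ∀ u, u ∣ S → ∃ g : L, orderOf g = u)
    (hK : ∀ g : L, orderOf g ∣ S ∨ (∃ t : ℕ, orderOf g = p ^ t) ∨
      ∃ g' : L, orderOf g' = Nat.lcm (orderOf g) r)
    (x y w : L) :
    ∃ x' y' w' : L, Nat.lcm (orderOf x') (Nat.lcm (orderOf y') (orderOf w')) =
      Nat.lcm (orderOf x) (Nat.lcm (orderOf y) (Nat.lcm (orderOf w) r)) := by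
  have good : ∀ g : L, (∃ g' : L, orderOf g' = Nat.lcm (orderOf g) r) ∨ Good L p S (orderOf g) := by
    intro g
    rcases hK g with h | h | h
    · right
      exact ⟨orderOf g, 1, h, ⟨1, orderOf_one⟩, ⟨0, (pow_zero p).symm⟩, (Nat.lcm_one_right _).symm⟩
    · right
      exact ⟨1, orderOf g, one_dvd _, ⟨g, rfl⟩, h, (Nat.lcm_one_left _).symm⟩
    · left
      exact h
  rcases good x with ⟨x', hx'⟩ | gx
  · exact ⟨x', y, w, by rw [hx']; ac_rfl⟩
  rcases good y with ⟨y', hy'⟩ | gy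
  · exact ⟨x, y', w, by rw [hy']; ac_rfl⟩
  rcases good w with ⟨w', hw'⟩ | gw
  · exact ⟨x, y, w', by rw [hw']⟩
  obtain ⟨s, π, hs, ⟨gπ, hgπ⟩, -, hv⟩ := gx.lcm (gy.lcm gw)
  obtain ⟨gs, hgs⟩ := hS s hs
  obtain ⟨gr, hgr⟩ := hr
  refine ⟨gs, gπ, gr, ?_⟩
  rw [hgs, hgπ, hgr, ← Nat.lcm_assoc, ← hv]
  ac_rfl

/-- Two factors absorb the prime `r` when there is no exceptional unipotent class. -/
theorem assembly2 {L : Type*} [Group L] (r S : ℕ)
    (hr : ∃ g : L, orderOf g = r)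
    (hS : ∀ u, u ∣ S → ∃ g : L, orderOf g = u)
    (hK : ∀ g : L, orderOf g ∣ S ∨ ∃ g' : L, orderOf g' = Nat.lcm (orderOf g) r)
    (x y : L) :
    ∃ x' y' : L, Nat.lcm (orderOf x') (orderOf y') =
      Nat.lcm (orderOf x) (Nat.lcm (orderOf y) r) := by
  rcases hK x with hx | ⟨x', hx'⟩
  · rcases hK y with hy | ⟨y', hy'⟩
    · obtain ⟨gs, hgs⟩ := hS _ (Nat.lcm_dvd hx hy)
      obtain ⟨gr, hgr⟩ := hr
      exact ⟨gs, gr, by rw [hgs, hgr]; ac_rfl⟩
    · exact ⟨x, y', by rw [hy']⟩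
  · exact ⟨x', y, by rw [hx']; ac_rfl⟩

theorem orderOf_eq_one_or_of_pow {Z : Type*} [Group Z] (r : ℕ) (hr : r.Prime) (z : Z)
    (hz : z ^ r = 1) : orderOf z = 1 ∨ orderOf z = r :=
  (Nat.dvd_prime hr).mp (orderOf_dvd_of_pow_eq_one hz)

theorem range3 {L Z : Type*} [Group L] [Group Z] (r : ℕ) (hr : r.Prime) (hZ : ∀ z : Z, z ^ r = 1)
    (H : ∀ x y w : L, ∃ x' y' w' : L, Nat.lcm (orderOf x') (Nat.lcm (orderOf y') (orderOf w')) =
      Nat.lcm (orderOf x) (Nat.lcm (orderOf y) (Nat.lcm (orderOf w) r))) :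
    Set.range (orderOf : L × L × L × Z → ℕ) = Set.range (orderOf : L × L × L → ℕ) := by
  ext v
  constructor
  · rintro ⟨⟨x, y, w, z⟩, rfl⟩
    rcases orderOf_eq_one_or_of_pow r hr z (hZ z) with h | h
    · refine ⟨(x, y, w), ?_⟩
      rw [Prod.orderOf_mk, Prod.orderOf_mk, Prod.orderOf_mk, Prod.orderOf_mk, Prod.orderOf_mk, h,
        Nat.lcm_one_right]
    · obtain ⟨x', y', w', h'⟩ := H x y w
      refine ⟨(x', y', w'), ?_⟩
      rw [Prod.orderOf_mk, Prod.orderOf_mk, Prod.orderOf_mk, Prod.orderOf_mk, Prod.orderOf_mk, h, h']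
  · rintro ⟨⟨x, y, w⟩, rfl⟩
    refine ⟨(x, y, w, 1), ?_⟩
    rw [Prod.orderOf_mk, Prod.orderOf_mk, Prod.orderOf_mk, Prod.orderOf_mk, Prod.orderOf_mk,
      orderOf_one, Nat.lcm_one_right]

theorem range2 {L Z : Type*} [Group L] [Group Z] (r : ℕ) (hr : r.Prime) (hZ : ∀ z : Z, z ^ r = 1)
    (H : ∀ x y : L, ∃ x' y' : L, Nat.lcm (orderOf x') (orderOf y') =
      Nat.lcm (orderOf x) (Nat.lcm (orderOf y) r)) :
    Set.range (orderOf : L × L × Z → ℕ) = Set.range (orderOf : L × L → ℕ) := by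
  ext v
  constructor
  · rintro ⟨⟨x, y, z⟩, rfl⟩
    rcases orderOf_eq_one_or_of_pow r hr z (hZ z) with h | h
    · refine ⟨(x, y), ?_⟩
      rw [Prod.orderOf_mk, Prod.orderOf_mk, Prod.orderOf_mk, h, Nat.lcm_one_right]
    · obtain ⟨x', y', h'⟩ := H x y
      refine ⟨(x', y'), ?_⟩
      rw [Prod.orderOf_mk, Prod.orderOf_mk, Prod.orderOf_mk, h, h']
  · rintro ⟨⟨x, y⟩, rfl⟩
    refine ⟨(x, y, 1), ?_⟩
    rw [Prod.orderOf_mk, Prod.orderOf_mk, Prod.orderOf_mk, orderOf_one, Nat.lcm_one_right]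

theorem pow_eq_one_elementary (m r : ℕ) (z : Multiplicative (Fin m → ZMod r)) : z ^ r = 1 := by
  rw [← ofAdd_toAdd z, ← ofAdd_nsmul, ← ofAdd_zero]
  congr 1
  funext i
  rw [Pi.smul_apply, nsmul_eq_mul, ZMod.natCast_self, zero_mul]
  rfl

end Cfsg.Agent.Lib.Helper15.Spr
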