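import Cfsg.Agent.Lib.Helper15.Sps10

/-!
# Assembly with two Singer tori (for S2512)
-/

set_option autoImplicit false
set_option linter.unusedSectionVars false

namespace Cfsg.Agent.Lib.Helper15.Sps

section assembly

variable {L : Type*} [Group L]

/-- the three classes of "untwistable" orders -/
def Cls (p S₁ S₂ : ℕ) : Fin 3 → ℕ → Prop
  | 0, v => v ∣ S₁
  | 1, v => v ∣ S₂
  | 2, v => ∃ t : ℕ, v = p ^ t

theorem fin3_zero (a b c : Fin 3) (h1 : a ≠ b) (h2 : a ≠ c) (h3 : b ≠ c) :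
    a = 0 ∨ b = 0 ∨ c = 0 := by
  revert a b c; decide

theorem fin3_one (a b c : Fin 3) (h1 : a ≠ b) (h2 : a ≠ c) (h3 : b ≠ c) :
    a = 1 ∨ b = 1 ∨ c = 1 := by
  revert a b c; decide

theorem merge_cls (p S₁ S₂ : ℕ)
    (hS₁ : ∀ u, u ∣ S₁ → ∃ g : L, orderOf g = u)
    (hS₂ : ∀ u, u ∣ S₂ → ∃ g : L, orderOf g = u)
    (κ : Fin 3) (x y : L) (hx : Cls p S₁ S₂ κ (orderOf x)) (hy : Cls p S₁ S₂ κ (orderOf y)) :
    ∃ g : L, orderOf g = Nat.lcm (orderOf x) (orderOf y) := by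
  fin_cases κ
  · exact hS₁ _ (Nat.lcm_dvd hx hy)
  · exact hS₂ _ (Nat.lcm_dvd hx hy)
  · obtain ⟨s, hs⟩ := hx
    obtain ⟨t, ht⟩ := hy
    rcases Nat.le_total s t with h | h
    · refine ⟨y, ?_⟩
      have hd : orderOf x ∣ orderOf y := by rw [hs, ht]; exact pow_dvd_pow p h
      exact Nat.dvd_antisymm (Nat.dvd_lcm_right _ _) (Nat.lcm_dvd hd dvd_rfl)
    · refine ⟨x, ?_⟩
      have hd : orderOf y ∣ orderOf x := by rw [hs, ht]; exact pow_dvd_pow p h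
      exact Nat.dvd_antisymm (Nat.dvd_lcm_left _ _) (Nat.lcm_dvd dvd_rfl hd)

theorem assembly3' (p r S₁ S₂ : ℕ)
    (hr : ∃ g : L, orderOf g = r)
    (hS₁ : ∀ u, u ∣ S₁ → ∃ g : L, orderOf g = u)
    (hS₂ : ∀ u, u ∣ S₂ → ∃ g : L, orderOf g = u)
    (hrS : r ∣ S₁ ∨ r ∣ S₂)
    (hK : ∀ g : L, orderOf g ∣ S₁ ∨ orderOf g ∣ S₂ ∨ (∃ t : ℕ, orderOf g = p ^ t) ∨
      ∃ g' : L, orderOf g' = Nat.lcm (orderOf g) r)
    (x y w : L) :
    ∃ x' y' w' : L, Nat.lcm (orderOf x') (Nat.lcm (orderOf y') (orderOf w')) =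
      Nat.lcm (orderOf x) (Nat.lcm (orderOf y) (Nat.lcm (orderOf w) r)) := by
  obtain ⟨gr, hgr⟩ := hr
  have cls : ∀ g : L, (∃ κ, Cls p S₁ S₂ κ (orderOf g)) ∨
      ∃ g' : L, orderOf g' = Nat.lcm (orderOf g) r := by
    intro g
    rcases hK g with h | h | h | h
    · exact Or.inl ⟨0, h⟩
    · exact Or.inl ⟨1, h⟩
    · exact Or.inl ⟨2, h⟩
    · exact Or.inr h
  have absorb : ∀ g : L, (Cls p S₁ S₂ 0 (orderOf g) ∧ r ∣ S₁) ∨ (Cls p S₁ S₂ 1 (orderOf g) ∧ r ∣ S₂) →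
      ∃ g' : L, orderOf g' = Nat.lcm (orderOf g) r := by
    rintro g (⟨h1, h2⟩ | ⟨h1, h2⟩)
    · exact hS₁ _ (Nat.lcm_dvd h1 h2)
    · exact hS₂ _ (Nat.lcm_dvd h1 h2)
  have twx : (∃ g' : L, orderOf g' = Nat.lcm (orderOf x) r) → ∃ x' y' w' : L,
      Nat.lcm (orderOf x') (Nat.lcm (orderOf y') (orderOf w')) =
      Nat.lcm (orderOf x) (Nat.lcm (orderOf y) (Nat.lcm (orderOf w) r)) := by
    rintro ⟨x', hx'⟩
    exact ⟨x', y, w, by rw [hx']; ac_rfl⟩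
  have twy : (∃ g' : L, orderOf g' = Nat.lcm (orderOf y) r) → ∃ x' y' w' : L,
      Nat.lcm (orderOf x') (Nat.lcm (orderOf y') (orderOf w')) =
      Nat.lcm (orderOf x) (Nat.lcm (orderOf y) (Nat.lcm (orderOf w) r)) := by
    rintro ⟨y', hy'⟩
    exact ⟨x, y', w, by rw [hy']; ac_rfl⟩
  have tww : (∃ g' : L, orderOf g' = Nat.lcm (orderOf w) r) → ∃ x' y' w' : L,
      Nat.lcm (orderOf x') (Nat.lcm (orderOf y') (orderOf w')) =
      Nat.lcm (orderOf x) (Nat.lcm (orderOf y) (Nat.lcm (orderOf w) r)) := by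
    rintro ⟨w', hw'⟩
    exact ⟨x, y, w', by rw [hw']⟩
  rcases cls x with ⟨κx, hκx⟩ | hx
  swap
  · exact twx hx
  rcases cls y with ⟨κy, hκy⟩ | hy
  swap
  · exact twy hy
  rcases cls w with ⟨κw, hκw⟩ | hw
  swap
  · exact tww hw
  by_cases hxy : κx = κy
  · rw [← hxy] at hκy
    obtain ⟨g, hg⟩ := merge_cls p S₁ S₂ hS₁ hS₂ κx x y hκx hκy
    exact ⟨g, gr, w, by rw [hg, hgr]; ac_rfl⟩
  by_cases hxw : κx = κw
  · rw [← hxw] at hκw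
    obtain ⟨g, hg⟩ := merge_cls p S₁ S₂ hS₁ hS₂ κx x w hκx hκw
    exact ⟨g, gr, y, by rw [hg, hgr]; ac_rfl⟩
  by_cases hyw : κy = κw
  · rw [← hyw] at hκw
    obtain ⟨g, hg⟩ := merge_cls p S₁ S₂ hS₁ hS₂ κy y w hκy hκw
    exact ⟨g, gr, x, by rw [hg, hgr]; ac_rfl⟩
  rcases hrS with hrS | hrS
  · rcases fin3_zero κx κy κw hxy hxw hyw with h | h | h
    · rw [h] at hκx
      exact twx (absorb x (Or.inl ⟨hκx, hrS⟩))
    · rw [h] at hκy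
      exact twy (absorb y (Or.inl ⟨hκy, hrS⟩))
    · rw [h] at hκw
      exact tww (absorb w (Or.inl ⟨hκw, hrS⟩))
  · rcases fin3_one κx κy κw hxy hxw hyw with h | h | h
    · rw [h] at hκx
      exact twx (absorb x (Or.inr ⟨hκx, hrS⟩))
    · rw [h] at hκy
      exact twy (absorb y (Or.inr ⟨hκy, hrS⟩))
    · rw [h] at hκw
      exact tww (absorb w (Or.inr ⟨hκw, hrS⟩))

theorem assembly2' (r S₁ S₂ : ℕ)
    (hr : ∃ g : L, orderOf g = r)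
    (hS₁ : ∀ u, u ∣ S₁ → ∃ g : L, orderOf g = u)
    (hS₂ : ∀ u, u ∣ S₂ → ∃ g : L, orderOf g = u)
    (hrS : r ∣ S₁ ∨ r ∣ S₂)
    (hK : ∀ g : L, orderOf g ∣ S₁ ∨ orderOf g ∣ S₂ ∨
      ∃ g' : L, orderOf g' = Nat.lcm (orderOf g) r)
    (x y : L) :
    ∃ x' y' : L, Nat.lcm (orderOf x') (orderOf y') =
      Nat.lcm (orderOf x) (Nat.lcm (orderOf y) r) := by
  obtain ⟨gr, hgr⟩ := hr
  have twx : (∃ g' : L, orderOf g' = Nat.lcm (orderOf x) r) → ∃ x' y' : L,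
      Nat.lcm (orderOf x') (orderOf y') = Nat.lcm (orderOf x) (Nat.lcm (orderOf y) r) := by
    rintro ⟨x', hx'⟩
    exact ⟨x', y, by rw [hx']; ac_rfl⟩
  have twy : (∃ g' : L, orderOf g' = Nat.lcm (orderOf y) r) → ∃ x' y' : L,
      Nat.lcm (orderOf x') (orderOf y') = Nat.lcm (orderOf x) (Nat.lcm (orderOf y) r) := by
    rintro ⟨y', hy'⟩
    exact ⟨x, y', by rw [hy']⟩
  rcases hK x with hx | hx | hx
  · rcases hK y with hy | hy | hy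
    · obtain ⟨g, hg⟩ := hS₁ _ (Nat.lcm_dvd hx hy)
      exact ⟨g, gr, by rw [hg, hgr]; ac_rfl⟩
    · rcases hrS with h | h
      · exact twx (hS₁ _ (Nat.lcm_dvd hx h))
      · exact twy (hS₂ _ (Nat.lcm_dvd hy h))
    · exact twy hy
  · rcases hK y with hy | hy | hy
    · rcases hrS with h | h
      · exact twy (hS₁ _ (Nat.lcm_dvd hy h))
      · exact twx (hS₂ _ (Nat.lcm_dvd hx h))
    · obtain ⟨g, hg⟩ := hS₂ _ (Nat.lcm_dvd hx hy)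
      exact ⟨g, gr, by rw [hg, hgr]; ac_rfl⟩
    · exact twy hy
  · exact twx hx

end assembly

end Cfsg.Agent.Lib.Helper15.Sps
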