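import Cfsg.Agent.Lib.Helper15.Sps1

/-!
# Reciprocal polynomials and the minimal polynomial of a symplectic matrix (for S2512)
-/

set_option autoImplicit false
set_option linter.unusedSectionVars false

namespace Cfsg.Agent.Lib.Helper15.Sps

open Matrix Polynomial Cfsg Cfsg.Agent.Lib.Helper15.Spr Cfsg.Agent.Lib.Helper15.SpReg

variable {F : Type*} [Field F]

/-- The dual (monic reciprocal) of a polynomial: `g(0)⁻¹ · x^deg · g(1/x)`. -/
noncomputable def dualS (g : F[X]) : F[X] := C ((g.coeff 0)⁻¹) * g.reverse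

section dualS

theorem natDegree_reverse' {g : F[X]} (hg : g.coeff 0 ≠ 0) :
    g.reverse.natDegree = g.natDegree := by
  rw [Polynomial.reverse_natDegree]
  have : g.natTrailingDegree = 0 := by
    rw [Polynomial.natTrailingDegree_eq_zero]
    exact Or.inr hg
  rw [this, Nat.sub_zero]

theorem dualS_mul (g h : F[X]) : dualS (g * h) = dualS g * dualS h := by
  unfold dualS
  rw [Polynomial.mul_coeff_zero, mul_inv, C_mul, Polynomial.reverse_mul_of_domain]
  ring

theorem dualS_one : dualS (1 : F[X]) = 1 := by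
  have h : (1 : F[X]).reverse = 1 := by rw [← Polynomial.C_1, Polynomial.reverse_C]
  unfold dualS
  rw [h, Polynomial.coeff_one_zero, inv_one, C_1, one_mul]

theorem dualS_pow (g : F[X]) (e : ℕ) : dualS (g ^ e) = dualS g ^ e := by
  induction e with
  | zero => rw [pow_zero, pow_zero, dualS_one]
  | succ e ih => rw [pow_succ, dualS_mul, ih, pow_succ]

theorem natDegree_dualS {g : F[X]} (hg : g.coeff 0 ≠ 0) : (dualS g).natDegree = g.natDegree := by
  unfold dualS
  rw [Polynomial.natDegree_C_mul (inv_ne_zero hg), natDegree_reverse' hg]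

theorem dualS_monic {g : F[X]} (hg : g.coeff 0 ≠ 0) : (dualS g).Monic := by
  unfold dualS Polynomial.Monic
  rw [Polynomial.leadingCoeff_mul, Polynomial.leadingCoeff_C, Polynomial.reverse_leadingCoeff,
    Polynomial.trailingCoeff_eq_coeff_zero hg]
  exact inv_mul_cancel₀ hg

theorem coeff_zero_dualS {g : F[X]} (hm : g.Monic) : (dualS g).coeff 0 = (g.coeff 0)⁻¹ := by
  unfold dualS
  rw [Polynomial.mul_coeff_zero, Polynomial.coeff_C_zero, Polynomial.coeff_zero_reverse,
    hm.leadingCoeff, mul_one]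

theorem coeff_zero_dualS_ne {g : F[X]} (hm : g.Monic) (hg : g.coeff 0 ≠ 0) :
    (dualS g).coeff 0 ≠ 0 := by
  rw [coeff_zero_dualS hm]
  exact inv_ne_zero hg

theorem reverse_reverse' {g : F[X]} (hg : g.coeff 0 ≠ 0) : g.reverse.reverse = g := by
  have hd : g.reverse.natDegree = g.natDegree := natDegree_reverse' hg
  have e : g.reverse.reverse = Polynomial.reflect g.reverse.natDegree g.reverse := rfl
  rw [e, hd]
  change Polynomial.reflect g.natDegree (Polynomial.reflect g.natDegree g) = g
  exact Polynomial.reflect_reflect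

theorem dualS_dualS {g : F[X]} (hm : g.Monic) (hg : g.coeff 0 ≠ 0) : dualS (dualS g) = g := by
  have e1 : dualS (dualS g) = C (((dualS g).coeff 0)⁻¹) * (dualS g).reverse := rfl
  have e2 : dualS g = C (g.coeff 0)⁻¹ * g.reverse := rfl
  rw [e1, coeff_zero_dualS hm, inv_inv, e2, Polynomial.reverse_mul_of_domain, Polynomial.reverse_C,
    reverse_reverse' hg, ← mul_assoc, ← C_mul, mul_inv_cancel₀ hg, C_1, one_mul]

theorem coeff_zero_ne_of_dvd' {g h : F[X]} (hgh : g ∣ h) (hh : h.coeff 0 ≠ 0) : g.coeff 0 ≠ 0 := by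
  obtain ⟨k, rfl⟩ := hgh
  rw [Polynomial.mul_coeff_zero] at hh
  exact left_ne_zero_of_mul hh

theorem dualS_dvd {g h : F[X]} (hgh : g ∣ h) : dualS g ∣ dualS h := by
  obtain ⟨k, rfl⟩ := hgh
  rw [dualS_mul]
  exact dvd_mul_right _ _

theorem dualS_irreducible {f : F[X]} (hm : f.Monic) (hf : Irreducible f) (hf0 : f.coeff 0 ≠ 0) :
    Irreducible (dualS f) := by
  have hd : (dualS f).natDegree = f.natDegree := natDegree_dualS hf0
  have hpos : 0 < f.natDegree := hf.natDegree_pos
  rw [irreducible_iff]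
  constructor
  · intro hu
    have := Polynomial.natDegree_eq_zero_of_isUnit hu
    omega
  · intro a b hab
    have h0 : (dualS f).coeff 0 ≠ 0 := coeff_zero_dualS_ne hm hf0
    have ha0 : a.coeff 0 ≠ 0 := coeff_zero_ne_of_dvd' ⟨b, hab⟩ h0
    have hb0 : b.coeff 0 ≠ 0 := coeff_zero_ne_of_dvd' ⟨a, by rw [hab, mul_comm]⟩ h0
    have h1 : f = dualS a * dualS b := by
      rw [← dualS_mul, ← hab, dualS_dualS hm hf0]
    rcases hf.isUnit_or_isUnit h1 with hu | hu
    · left
      have h2 := Polynomial.natDegree_eq_zero_of_isUnit hu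
      rw [natDegree_dualS ha0] at h2
      have ha : a ≠ 0 := by
        rintro rfl
        simp at ha0
      exact Polynomial.isUnit_iff_degree_eq_zero.mpr (by
        rw [Polynomial.degree_eq_natDegree ha, h2]; rfl)
    · right
      have h2 := Polynomial.natDegree_eq_zero_of_isUnit hu
      rw [natDegree_dualS hb0] at h2
      have hb : b ≠ 0 := by
        rintro rfl
        simp at hb0
      exact Polynomial.isUnit_iff_degree_eq_zero.mpr (by
        rw [Polynomial.degree_eq_natDegree hb, h2]; rfl)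

theorem dualS_X_pow_sub_C {j : ℕ} (hj : 0 < j) {ν : F} (hν : ν ≠ 0) :
    dualS (X ^ j - C ν) = X ^ j - C (ν⁻¹) := by
  have h0 : (X ^ j - C ν : F[X]).coeff 0 = -ν := by
    rw [Polynomial.coeff_sub, Polynomial.coeff_X_pow, Polynomial.coeff_C_zero, if_neg hj.ne,
      zero_sub]
  have h1 : (X ^ j - C ν : F[X]).reverse = 1 + C (-ν) * X ^ j := by
    rw [sub_eq_add_neg, ← C_neg, Polynomial.reverse_add_C, Polynomial.natDegree_X_pow]
    congr 1
    have : (X ^ j : F[X]) = 1 * X ^ j := (one_mul _).symm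
    rw [this, Polynomial.reverse_mul_X_pow, ← C_1, Polynomial.reverse_C]
  unfold dualS
  rw [h0, h1, mul_add, mul_one, ← mul_assoc, ← C_mul, inv_neg, neg_mul_neg, inv_mul_cancel₀ hν, C_1,
    one_mul, C_neg]
  ring

end dualS

section eval

variable {ι : Type*} [Fintype ι] [DecidableEq ι]

/-- Evaluating a reflected polynomial at an invertible matrix. -/
theorem aeval_reflect' (A A' : Matrix ι ι F) (h1 : A' * A = 1) (N : ℕ) (g : F[X])
    (hg : g.natDegree ≤ N) :
    Polynomial.aeval A (g.reflect N) = Polynomial.aeval A' g * A ^ N := by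
  have h2 : A * A' = 1 := mul_eq_one_comm.mp h1
  have hc : Commute A' A := by
    change A' * A = A * A'
    rw [h1, h2]
  have hpow : ∀ k, A' ^ k * A ^ k = 1 := by
    intro k
    rw [← hc.mul_pow, h1, one_pow]
  refine Polynomial.induction_with_natDegree_le
    (fun g => Polynomial.aeval A (g.reflect N) = Polynomial.aeval A' g * A ^ N) N ?_ ?_ ?_ g hg
  · simp
  · intro k r _ hk
    rw [Polynomial.reflect_C_mul_X_pow, Polynomial.revAt_le hk]
    simp only [map_mul, map_pow, Polynomial.aeval_X, Polynomial.aeval_C]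
    rw [mul_assoc]
    congr 1
    have h3 : A ^ N = A ^ k * A ^ (N - k) := by
      rw [← pow_add]
      congr 1
      omega
    rw [h3, ← mul_assoc, hpow, one_mul]
  · intro f g _ _ hf hg'
    rw [Polynomial.reflect_add, map_add, map_add, add_mul, hf, hg']

end eval

section symp

variable {n : ℕ}

local notation "MM" => Matrix (Fin n ⊕ Fin n) (Fin n ⊕ Fin n) F

/-- The value of the dual polynomial at a symplectic matrix. -/
theorem aeval_dualS (A : MM) (hA : sig A * A = 1) (g : F[X]) :
    Polynomial.aeval A (dualS g) =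
      ((g.coeff 0)⁻¹) • (sig (Polynomial.aeval A g) * A ^ g.natDegree) := by
  unfold dualS
  rw [map_mul, Polynomial.aeval_C, Algebra.algebraMap_eq_smul_one, smul_mul_assoc, one_mul]
  congr 1
  unfold Polynomial.reverse
  rw [aeval_reflect' A (sig A) hA _ _ le_rfl, sig_aeval]

theorem aeval_dualS_eq_zero_iff (A : MM) (hA : sig A * A = 1) {g : F[X]}
    (hg : g.coeff 0 ≠ 0) : Polynomial.aeval A (dualS g) = 0 ↔ Polynomial.aeval A g = 0 := by
  rw [aeval_dualS A hA]
  have hAu : IsUnit (A ^ g.natDegree) := by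
    apply IsUnit.pow
    exact IsUnit.of_mul_eq_one _ (mul_eq_one_comm.mp hA)
  constructor
  · intro h
    rw [smul_eq_zero] at h
    rcases h with h | h
    · exact absurd h (inv_ne_zero hg)
    · have h3 : sig (Polynomial.aeval A g) = 0 := by
        obtain ⟨u, hu⟩ := hAu
        rw [← hu] at h
        have := congrArg (fun Y => Y * (↑u⁻¹ : MM)) h
        simpa [mul_assoc] using this
      apply sig_injective
      rw [h3, sig_zero]
  · intro h
    rw [h, sig_zero, zero_mul, smul_zero]

/-- The minimal polynomial of a symplectic matrix is self-dual. -/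
theorem dualS_minpoly (hn : 1 ≤ n) (A : MM) (hA : sig A * A = 1) :
    dualS (minpoly F A) = minpoly F A := by
  have : Nonempty (Fin n ⊕ Fin n) := ⟨Sum.inl ⟨0, hn⟩⟩
  have hAu : IsUnit A := IsUnit.of_mul_eq_one _ (mul_eq_one_comm.mp hA)
  obtain ⟨hmonic, -, -, hc0, -⟩ := minpoly_facts' A hAu
  have h1 : Polynomial.aeval A (dualS (minpoly F A)) = 0 := by
    rw [aeval_dualS_eq_zero_iff A hA hc0]
    exact minpoly.aeval F A
  have h2 : minpoly F A ∣ dualS (minpoly F A) := minpoly.dvd F A h1
  exact Polynomial.eq_of_monic_of_dvd_of_natDegree_le hmonic (dualS_monic hc0) h2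
    (by rw [natDegree_dualS hc0])

end symp

end Cfsg.Agent.Lib.Helper15.Sps
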