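import Cfsg.Agent.Lib.Helper15.Sps2

/-!
# Trichotomy for the minimal polynomial of a symplectic matrix (for S2512)
-/

set_option autoImplicit false
set_option linter.unusedSectionVars false

namespace Cfsg.Agent.Lib.Helper15.Sps

open Matrix Polynomial Cfsg Cfsg.Agent.Lib.Helper15.Spr

variable {F : Type*} [Field F]

theorem isCoprime_of_irreducible_ne' {f g : F[X]} (hf : Irreducible f) (hfm : f.Monic)
    (hg : Irreducible g) (hgm : g.Monic) (hne : f ≠ g) : IsCoprime f g := by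
  rw [hf.coprime_iff_not_dvd]
  intro h
  have := (hf.associated_of_dvd hg h)
  exact hne (Polynomial.eq_of_monic_of_associated hfm hgm this)

/-- **Trichotomy** for a monic self-dual polynomial with non-zero constant term. -/
theorem selfdual_trichotomy_sp (μ : F[X]) (hμ : μ.Monic) (hdeg : 0 < μ.natDegree) (hμ0 : μ.coeff 0 ≠ 0)
    (hsd : dualS μ = μ) :
    (∃ g₁ g₂ : F[X], g₁.Monic ∧ g₂.Monic ∧ IsCoprime g₁ g₂ ∧ 0 < g₁.natDegree ∧ 0 < g₂.natDegree ∧
      μ = g₁ * g₂ ∧ dualS g₁ = g₁ ∧ dualS g₂ = g₂) ∨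
    (∃ (f : F[X]) (e : ℕ), f.Monic ∧ Irreducible f ∧ 0 < e ∧ dualS f = f ∧ μ = f ^ e) ∨
    (∃ (f : F[X]) (e : ℕ), f.Monic ∧ Irreducible f ∧ 0 < e ∧ dualS f ≠ f ∧
      μ = (f * dualS f) ^ e) := by
  have hu : ¬ IsUnit μ := Polynomial.not_isUnit_of_natDegree_pos μ hdeg
  obtain ⟨f, hfm, hfi, hfd⟩ := Polynomial.exists_monic_irreducible_factor μ hu
  obtain ⟨e, g₂, hnd, hfac⟩ := WfDvdMonoid.max_power_factor hμ.ne_zero hfi
  have he : 0 < e := by
    rcases Nat.eq_zero_or_pos e with h | h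
    · exfalso
      rw [h, pow_zero, one_mul] at hfac
      rw [hfac] at hfd
      exact hnd hfd
    · exact h
  have hg2m : g₂.Monic := by
    apply Polynomial.Monic.of_mul_monic_left (hfm.pow e)
    rw [← hfac]
    exact hμ
  have hf0 : f.coeff 0 ≠ 0 := coeff_zero_ne_of_dvd' hfd hμ0
  have hg20 : g₂.coeff 0 ≠ 0 := coeff_zero_ne_of_dvd' ⟨f ^ e, by rw [hfac, mul_comm]⟩ hμ0
  have hfe0 : f ^ e ≠ 0 := pow_ne_zero _ hfm.ne_zero
  have hfepos : 0 < (f ^ e).natDegree := by
    rw [Polynomial.natDegree_pow]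
    have : 0 < f.natDegree := hfi.natDegree_pos
    positivity
  by_cases hsf : dualS f = f
  · -- self-dual irreducible factor
    have hg2sd : dualS g₂ = g₂ := by
      have h1 : dualS μ = f ^ e * dualS g₂ := by
        rw [hfac, dualS_mul, dualS_pow, hsf]
      rw [hsd, hfac] at h1
      exact (mul_left_cancel₀ hfe0 h1).symm
    by_cases hd2 : g₂.natDegree = 0
    · right; left
      have : g₂ = 1 := Polynomial.eq_one_of_monic_natDegree_zero hg2m hd2
      rw [this, mul_one] at hfac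
      exact ⟨f, e, hfm, hfi, he, hsf, hfac⟩
    · left
      refine ⟨f ^ e, g₂, hfm.pow e, hg2m, (hfi.coprime_iff_not_dvd.mpr hnd).pow_left, hfepos,
        Nat.pos_of_ne_zero hd2, hfac, ?_, hg2sd⟩
      rw [dualS_pow, hsf]
  · -- the dual factor is different
    have hf'm : (dualS f).Monic := dualS_monic hf0
    have hf'i : Irreducible (dualS f) := dualS_irreducible hfm hfi hf0
    have hf'0 : (dualS f).coeff 0 ≠ 0 := coeff_zero_dualS_ne hfm hf0
    have hcop : IsCoprime f (dualS f) :=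
      isCoprime_of_irreducible_ne' hfi hfm hf'i hf'm (fun h => hsf h.symm)
    have h1 : dualS f ^ e ∣ μ := by
      have := dualS_dvd (⟨g₂, hfac⟩ : f ^ e ∣ μ)
      rwa [hsd, dualS_pow] at this
    have h2 : dualS f ^ e ∣ g₂ := by
      rw [hfac] at h1
      exact (hcop.symm.pow).dvd_of_dvd_mul_left h1
    obtain ⟨g₃, hg3⟩ := h2
    have hfac' : μ = (f * dualS f) ^ e * g₃ := by
      rw [hfac, hg3, mul_pow, mul_assoc]
    have hg3m : g₃.Monic := by
      apply Polynomial.Monic.of_mul_monic_left ((hfm.mul hf'm).pow e)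
      rw [← hfac']
      exact hμ
    have hg30 : g₃.coeff 0 ≠ 0 := coeff_zero_ne_of_dvd' ⟨dualS f ^ e, by rw [hg3, mul_comm]⟩ hg20
    have hpsd : dualS ((f * dualS f) ^ e) = (f * dualS f) ^ e := by
      rw [dualS_pow, dualS_mul, dualS_dualS hfm hf0, mul_comm]
    have hg3sd : dualS g₃ = g₃ := by
      have h3 : dualS μ = (f * dualS f) ^ e * dualS g₃ := by
        rw [hfac', dualS_mul, hpsd]
      rw [hsd, hfac'] at h3
      exact (mul_left_cancel₀ (pow_ne_zero _ (mul_ne_zero hfm.ne_zero hf'm.ne_zero)) h3).symm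
    have hnf : ¬ f ∣ g₃ := fun h => hnd (by rw [hg3]; exact Dvd.dvd.mul_left h _)
    have hnf' : ¬ dualS f ∣ g₃ := by
      intro h
      have := dualS_dvd h
      rw [dualS_dualS hfm hf0, hg3sd] at this
      exact hnf this
    have hcop3 : IsCoprime ((f * dualS f) ^ e) g₃ := by
      apply IsCoprime.pow_left
      exact IsCoprime.mul_left (hfi.coprime_iff_not_dvd.mpr hnf) (hf'i.coprime_iff_not_dvd.mpr hnf')
    by_cases hd3 : g₃.natDegree = 0
    · right; right
      have : g₃ = 1 := Polynomial.eq_one_of_monic_natDegree_zero hg3m hd3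
      rw [this, mul_one] at hfac'
      exact ⟨f, e, hfm, hfi, he, hsf, hfac'⟩
    · left
      refine ⟨(f * dualS f) ^ e, g₃, (hfm.mul hf'm).pow e, hg3m, hcop3, ?_,
        Nat.pos_of_ne_zero hd3, hfac', hpsd, hg3sd⟩
      rw [Polynomial.natDegree_pow, Polynomial.natDegree_mul hfm.ne_zero hf'm.ne_zero]
      have : 0 < f.natDegree := hfi.natDegree_pos
      positivity

end Cfsg.Agent.Lib.Helper15.Sps
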