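import Cfsg.Agent.Lib.Helper15.Sps3

/-!
# The decomposable case: twisting a symplectic matrix by idempotents of `F[A]` (for S2512)
-/

set_option autoImplicit false
set_option linter.unusedSectionVars false

namespace Cfsg.Agent.Lib.Helper15.Sps

open Matrix Polynomial Cfsg Cfsg.Agent.Lib.Helper15.Spr Cfsg.Agent.Lib.Helper15.SpReg
  Cfsg.Agent.Lib.Helper15.Spu

variable {F : Type*} [Field F] {n : ℕ}

local notation "MM" => Matrix (Fin n ⊕ Fin n) (Fin n ⊕ Fin n) F

/-- **The decomposable case.** -/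
theorem decomposable_twist_sp (hn : 1 ≤ n) (h2 : (2 : F) ≠ 0) (A : MM) (hA : A * sig A = 1)
    (g₁ g₂ : F[X]) (hm1 : g₁.Monic) (hm2 : g₂.Monic) (hcop : IsCoprime g₁ g₂)
    (hd1 : 0 < g₁.natDegree) (hd2 : 0 < g₂.natDegree) (hμ : minpoly F A = g₁ * g₂)
    (hs1 : dualS g₁ = g₁) (hs2 : dualS g₂ = g₂) (m : ℕ)
    (hm : ∀ (j : ℕ) (ν : F), A ^ j = Matrix.scalar (Fin n ⊕ Fin n) ν → m ∣ j) :
    ∃ g' : Cfsg.PSp n F, Nat.lcm m 2 ∣ orderOf g' := by
  classical
  have : Nonempty (Fin n ⊕ Fin n) := ⟨Sum.inl ⟨0, hn⟩⟩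
  have hA' : sig A * A = 1 := mul_eq_one_comm.mp hA
  have hAu : IsUnit A := IsUnit.of_mul_eq_one _ hA
  obtain ⟨hmonic, -, -, hc0, -⟩ := minpoly_facts' A hAu
  have hg10 : g₁.coeff 0 ≠ 0 := coeff_zero_ne_of_dvd' ⟨g₂, hμ⟩ hc0
  have hg20 : g₂.coeff 0 ≠ 0 := coeff_zero_ne_of_dvd' ⟨g₁, by rw [hμ, mul_comm]⟩ hc0
  obtain ⟨a, b, hab⟩ := hcop
  -- the idempotents
  set E₁ : MM := Polynomial.aeval A (b * g₂) with hE₁
  set E₂ : MM := Polynomial.aeval A (a * g₁) with hE₂
  have hs : E₁ + E₂ = 1 := by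
    rw [hE₁, hE₂, ← map_add, add_comm, hab, map_one]
  have h12 : E₁ * E₂ = 0 := by
    rw [hE₁, hE₂, ← map_mul]
    apply aeval_eq_zero_of_dvd'
    rw [hμ]
    exact ⟨a * b, by ring⟩
  have h21 : E₂ * E₁ = 0 := by rw [hE₁, hE₂, aeval_commute', ← hE₁, ← hE₂, h12]
  have h11 : E₁ * E₁ = E₁ := by
    have : E₁ * (E₁ + E₂) = E₁ := by rw [hs, mul_one]
    rwa [mul_add, h12, add_zero] at this
  have h22 : E₂ * E₂ = E₂ := by
    have : E₂ * (E₁ + E₂) = E₂ := by rw [hs, mul_one]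
    rwa [mul_add, h21, zero_add] at this
  have hG1 : Polynomial.aeval A g₁ * E₁ = 0 := by
    rw [hE₁, ← map_mul]
    apply aeval_eq_zero_of_dvd'
    rw [hμ]
    exact ⟨b, by ring⟩
  have hG2 : Polynomial.aeval A g₂ * E₂ = 0 := by
    rw [hE₂, ← map_mul]
    apply aeval_eq_zero_of_dvd'
    rw [hμ]
    exact ⟨a, by ring⟩
  have hE1ne : E₁ ≠ 0 := by
    intro h0
    have h1 : E₂ = 1 := by rw [← hs, h0, zero_add]
    rw [h1, mul_one] at hG2
    have h2 : minpoly F A ∣ g₂ := minpoly.dvd F A hG2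
    have h3 := Polynomial.natDegree_le_of_dvd h2 hm2.ne_zero
    rw [hμ, hm1.natDegree_mul hm2] at h3
    omega
  have hE2ne : E₂ ≠ 0 := by
    intro h0
    have h1 : E₁ = 1 := by rw [← hs, h0, add_zero]
    rw [h1, mul_one] at hG1
    have h2 : minpoly F A ∣ g₁ := minpoly.dvd F A hG1
    have h3 := Polynomial.natDegree_le_of_dvd h2 hm1.ne_zero
    rw [hμ, hm1.natDegree_mul hm2] at h3
    omega
  -- self-adjointness of the idempotents
  have hkey : ∀ g : F[X], g.coeff 0 ≠ 0 → dualS g = g → ∀ E : MM,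
      Polynomial.aeval A g * E = 0 → sig E * Polynomial.aeval A g = 0 := by
    intro g hg0 hsd E hE
    have h1 := aeval_dualS A hA' g
    rw [hsd] at h1
    have h2 : sig E * sig (Polynomial.aeval A g) = 0 := by
      rw [← sig_mul, hE, sig_zero]
    rw [h1, mul_smul_comm, ← mul_assoc, h2, zero_mul, smul_zero]
  have hD1 : sig E₁ * Polynomial.aeval A g₁ = 0 := hkey g₁ hg10 hs1 E₁ hG1
  have hD2 : sig E₂ * Polynomial.aeval A g₂ = 0 := hkey g₂ hg20 hs2 E₂ hG2
  have hdE2 : sig E₂ = 1 - sig E₁ := by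
    have := congrArg sig hs
    rw [sig_add, sig_one] at this
    rw [← this]
    abel
  have hone : (1 : MM) =
      Polynomial.aeval A g₁ * Polynomial.aeval A a + Polynomial.aeval A g₂ * Polynomial.aeval A b := by
    rw [← map_mul, ← map_mul, ← map_add, mul_comm g₁, mul_comm g₂, hab, map_one]
  have hdag1 : sig E₁ = E₁ := by
    have hz : (sig E₁ - E₁) = 0 := by
      have e1 : (sig E₁ - E₁) * Polynomial.aeval A g₁ = 0 := by
        rw [sub_mul, hD1, aeval_commute', hG1, sub_zero]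
      have e2 : (sig E₁ - E₁) * Polynomial.aeval A g₂ = 0 := by
        have h3 : (1 - sig E₁) * Polynomial.aeval A g₂ = 0 := by rw [← hdE2]; exact hD2
        have h4 : (1 - E₁) * Polynomial.aeval A g₂ = 0 := by
          have : (1 : MM) - E₁ = E₂ := by rw [← hs]; abel
          rw [this, aeval_commute', hG2]
        have : sig E₁ - E₁ = (1 - E₁) - (1 - sig E₁) := by abel
        rw [this, sub_mul, h3, h4, sub_zero]
      calc sig E₁ - E₁ = (sig E₁ - E₁) * 1 := (mul_one _).symm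
        _ = 0 := by rw [hone, mul_add, ← mul_assoc, ← mul_assoc, e1, e2, zero_mul, zero_mul,
            add_zero]
    exact sub_eq_zero.mp hz
  have hdag2 : sig E₂ = E₂ := by
    rw [hdE2, hdag1, ← hs]
    abel
  -- the twisting element
  let u : F → F → MM := fun x y => x • E₁ + y • E₂
  have hu_mul : ∀ x y x' y', u x y * u x' y' = u (x * x') (y * y') := fun x y x' y' =>
    idem_mul E₁ E₂ h12 h21 h11 h22 x y x' y'
  have hu_pow : ∀ x y t, u x y ^ t = u (x ^ t) (y ^ t) := fun x y t =>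
    idem_pow E₁ E₂ h12 h21 h11 h22 hs x y t
  have hu_one : u 1 1 = 1 := by
    change (1 : F) • E₁ + (1 : F) • E₂ = 1
    rw [one_smul, one_smul, hs]
  have hu_sig : ∀ x y, sig (u x y) = u x y := by
    intro x y
    change sig (x • E₁ + y • E₂) = _
    rw [sig_add, sig_smul, sig_smul, hdag1, hdag2]
  have hu_comm : ∀ x y, A * u x y = u x y * A := by
    intro x y
    have hAX : A = Polynomial.aeval A (X : F[X]) := (Polynomial.aeval_X A).symm
    change A * (x • E₁ + y • E₂) = (x • E₁ + y • E₂) * A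
    rw [mul_add, add_mul, mul_smul_comm, mul_smul_comm, smul_mul_assoc, smul_mul_assoc]
    congr 2
    · conv_lhs => rw [hAX]
      conv_rhs => rw [hAX]
      rw [hE₁, aeval_commute']
    · conv_lhs => rw [hAX]
      conv_rhs => rw [hAX]
      rw [hE₂, aeval_commute']
  have hu_scalar : ∀ x y (ν : F), u x y = Matrix.scalar (Fin n ⊕ Fin n) ν → x = ν ∧ y = ν := by
    intro x y ν h
    have h1 : u x y = u ν ν := by
      rw [h, scalar_eq_smul_one', ← hs, smul_add]
    constructor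
    · have := congrArg (fun Y => Y * E₁) h1
      change (x • E₁ + y • E₂) * E₁ = (ν • E₁ + ν • E₂) * E₁ at this
      rw [add_mul, add_mul, smul_mul_assoc, smul_mul_assoc, smul_mul_assoc, smul_mul_assoc, h11, h21,
        smul_zero, smul_zero, add_zero, add_zero, ← sub_eq_zero, ← sub_smul, smul_eq_zero] at this
      rcases this with h | h
      · exact sub_eq_zero.mp h
      · exact absurd h hE1ne
    · have := congrArg (fun Y => Y * E₂) h1
      change (x • E₁ + y • E₂) * E₂ = (ν • E₁ + ν • E₂) * E₂ at this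
      rw [add_mul, add_mul, smul_mul_assoc, smul_mul_assoc, smul_mul_assoc, smul_mul_assoc, h22, h12,
        smul_zero, smul_zero, zero_add, zero_add, ← sub_eq_zero, ← sub_smul, smul_eq_zero] at this
      rcases this with h | h
      · exact sub_eq_zero.mp h
      · exact absurd h hE2ne
  have hsq : u 1 (-1) * u 1 (-1) = 1 := by
    rw [hu_mul, one_mul, neg_mul_neg, one_mul, hu_one]
  apply exists_of_commuting_twist_sp hn 2 Nat.prime_two A (u 1 (-1)) hA
    (by rw [hu_sig, hsq]) (hu_comm 1 (-1)) (by rw [pow_two, hsq]) ?_ m hm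
  rintro ⟨ν, hν⟩
  obtain ⟨i1, i2⟩ := hu_scalar 1 (-1) ν hν
  apply h2
  have h3 : (1 : F) = -1 := i1.trans i2.symm
  calc (2 : F) = 1 + 1 := by norm_num
    _ = 1 + -1 := by nth_rewrite 2 [h3]; rfl
    _ = 0 := by ring

end Cfsg.Agent.Lib.Helper15.Sps
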