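import Cfsg.Agent.Lib.Helper15.Sps5

/-!
# Symplectic blocks attached to irreducible polynomials (for S2512)
-/

set_option autoImplicit false
set_option linter.unusedSectionVars false

namespace Cfsg.Agent.Lib.Helper15.Sps

open Matrix Polynomial Cfsg Cfsg.Agent.Lib.Helper15.Spr Cfsg.Agent.Lib.Helper15.SpReg
  Cfsg.Agent.Lib.Helper15.Spu

variable {F : Type*} [Field F] [Fintype F]

theorem charP_dvd_card' (p : ℕ) [CharP F p] : p ∣ Fintype.card F := by
  rw [← CharP.cast_eq_zero_iff F p]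
  exact Nat.cast_card_eq_zero F

/-- Data attached to a non-zero element of an extension field: the order of `θ ^ 2`. -/
theorem theta_data_sp {K : Type*} [Field K] [Algebra F K] [Module.Finite F K] (θ : K) (hθ : θ ≠ 0)
    (p : ℕ) (hp : p.Prime) (hpq : p ∣ Fintype.card F) :
    ∃ (c : ℕ) (ε : F), 0 < c ∧ Nat.Coprime c p ∧ ε * ε = 1 ∧ θ ^ c = algebraMap F K ε ∧
      ∀ j, (θ ^ 2) ^ j = 1 → c ∣ j := by
  classical
  have : Finite K := Module.finite_of_finite F
  let θ' : Kˣ := Units.mk0 θ hθ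
  have hunit : ∀ j, (θ ^ 2) ^ j = 1 ↔ (θ' ^ 2) ^ j = 1 := by
    intro j
    rw [Units.ext_iff]
    simp [θ']
  have hc1 : (θ ^ orderOf (θ' ^ 2)) ^ 2 = 1 := by
    rw [← pow_mul, mul_comm, pow_mul, hunit]
    exact pow_orderOf_eq_one _
  obtain ⟨ε, hε1, hε⟩ := exists_sign_of_sq (F := F) _ hc1
  refine ⟨orderOf (θ' ^ 2), ε, orderOf_pos _, ?_, hε1, hε, ?_⟩
  · have h1 : orderOf (θ' ^ 2) ∣ Nat.card Kˣ := orderOf_dvd_natCard _
    set k := Module.finrank F K with hk
    rw [Nat.card_units, Module.natCard_eq_pow_finrank (K := F) (V := K),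
      Nat.card_eq_fintype_card] at h1
    have hk0 : 0 < k := Module.finrank_pos
    have h2 : p ∣ Fintype.card F ^ k := dvd_pow hpq hk0.ne'
    have h3 : 0 < Fintype.card F ^ k := pow_pos Fintype.card_pos k
    have h4 : ¬ p ∣ Fintype.card F ^ k - 1 := by
      intro h
      have := Nat.dvd_sub h2 h
      have e : Fintype.card F ^ k - (Fintype.card F ^ k - 1) = 1 := by omega
      rw [e] at this
      exact hp.one_lt.ne' (Nat.dvd_one.mp this)
    exact Nat.Coprime.coprime_dvd_left h1 ((Nat.Prime.coprime_iff_not_dvd hp).mpr h4).symm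
  · intro j hj
    rw [hunit] at hj
    exact orderOf_dvd_of_pow_eq_one hj

omit [Fintype F] in
/-- Transport of "a power is scalar" along a linear conjugacy. -/
theorem scalar_iff_of_conj {d : ℕ} {V : Type*} [AddCommGroup V] [Module F V]
    (x : Matrix (Fin d ⊕ Fin d) (Fin d ⊕ Fin d) F) (Ψ : (Fin d ⊕ Fin d → F) ≃ₗ[F] V)
    (y' : V →ₗ[F] V) (hΨ : ∀ u, Ψ (Matrix.toLin' x u) = y' (Ψ u)) (j : ℕ) (ν : F) :
    x ^ j = Matrix.scalar (Fin d ⊕ Fin d) ν ↔ ∀ v, (y' ^ j) v = ν • v := by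
  have hpow : ∀ k : ℕ, ∀ u, Ψ (Matrix.toLin' (x ^ k) u) = (y' ^ k) (Ψ u) := by
    intro k
    induction k with
    | zero => intro u; simp
    | succ k ih =>
      intro u
      rw [pow_succ', Matrix.toLin'_mul, LinearMap.comp_apply, hΨ, ih, pow_succ',
        Module.End.mul_apply]
  have hsc : ∀ u, Matrix.toLin' (Matrix.scalar (Fin d ⊕ Fin d) ν) u = ν • u := by
    intro u
    rw [Matrix.toLin'_apply, scalar_eq_smul_one', Matrix.smul_mulVec, Matrix.one_mulVec]
  constructor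
  · intro h v
    obtain ⟨u, rfl⟩ := Ψ.surjective v
    rw [← hpow, h, hsc, map_smul]
  · intro h
    apply Matrix.toLin'.injective
    apply LinearMap.ext
    intro u
    apply Ψ.injective
    rw [hpow, h, hsc, map_smul]

omit [Fintype F] in
/-- A scalar power of a symplectic matrix is `±1`. -/
theorem scalar_pow_symp {n : ℕ} (hn : 1 ≤ n) (s : Matrix.symplecticGroup (Fin n) F) (j : ℕ) (ν : F)
    (h : matS s ^ j = Matrix.scalar (Fin n ⊕ Fin n) ν) : ν * ν = 1 := by
  apply scalar_symp hn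
  rw [← h, ← matS_pow]
  exact matS_symp _

/-- The semisimple symplectic block for a self-dual irreducible polynomial of degree `≥ 2`. -/
theorem exists_block_selfdual_sp (p : ℕ) [Fact p.Prime] [CharP F p] (h2 : (2 : F) ≠ 0) (f : F[X])
    (hfm : f.Monic) (hfi : Irreducible f) (hf0 : f.coeff 0 ≠ 0) (hsd : dualS f = f)
    (hdeg : 2 ≤ f.natDegree) :
    ∃ (d : ℕ) (B₁ : Matrix.symplecticGroup (Fin d) F) (c : ℕ) (ε : F),
      f.natDegree = 2 * d ∧ 1 ≤ d ∧ 0 < c ∧ Nat.Coprime c p ∧ ε * ε = 1 ∧ f ∣ X ^ c - C ε ∧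
      ∀ (j : ℕ) (ν : F), matS B₁ ^ j = Matrix.scalar (Fin d ⊕ Fin d) ν → c ∣ j := by
  classical
  have hp : p.Prime := Fact.out
  have : Fact (Irreducible f) := ⟨hfi⟩
  obtain ⟨hfin, hfr, hae, -⟩ := adjoinRoot_facts f hfm
  have : Finite (AdjoinRoot f) := Module.finite_of_finite F
  obtain ⟨τ, hτ2, hτF, hτθ⟩ := exists_involution_adjoinRoot_sp f hf0 hsd
  set θ := AdjoinRoot.root f with hθdef
  have hθ0 : θ ≠ 0 := root_ne_zero' _ hf0
  have hτne : ∃ x, τ x ≠ x := by
    refine ⟨θ, fun h => ?_⟩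
    rw [h] at hτθ
    have h1 : (θ - 1) * (θ + 1) = 0 := by ring_nf; rw [sq, hτθ]; ring
    rcases mul_eq_zero.mp h1 with h3 | h3
    · have h4 : Polynomial.aeval θ (X - C (1 : F)) = 0 := by
        rw [map_sub, Polynomial.aeval_X, Polynomial.aeval_C, map_one]
        exact h3
      have h5 := Polynomial.natDegree_le_of_dvd ((hae _).mp h4) (Polynomial.X_sub_C_ne_zero 1)
      rw [Polynomial.natDegree_X_sub_C] at h5
      omega
    · have h4 : Polynomial.aeval θ (X - C (-1 : F)) = 0 := by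
        rw [map_sub, Polynomial.aeval_X, Polynomial.aeval_C, map_neg, map_one, sub_neg_eq_add]
        exact h3
      have h5 := Polynomial.natDegree_le_of_dvd ((hae _).mp h4) (Polynomial.X_sub_C_ne_zero _)
      rw [Polynomial.natDegree_X_sub_C] at h5
      omega
  obtain ⟨d, hd, hτpow⟩ := involution_eq_frob τ hτF hτ2 hτne
  have hfr' : Module.finrank F (AdjoinRoot f) = 2 * d := hd
  have hd1 : 1 ≤ d := by rw [hfr] at hd; omega
  have hτfrob : ∀ x, PSpD.frobPow F (AdjoinRoot f) d x = τ x := by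
    intro x
    rw [PSpD.frobPow_apply, hτpow]
  -- the skew element
  obtain ⟨β, hβ⟩ := hτne
  set δ := β - τ β with hδdef
  have hδ0 : δ ≠ 0 := by
    intro h
    apply hβ
    exact (sub_eq_zero.mp h).symm
  have hδ : PSpD.frobPow F (AdjoinRoot f) d δ = -δ := by
    rw [hτfrob, hδdef, map_sub, hτ2]
    ring
  have halt := PSpD.hermForm_alt (F := F) (E := AdjoinRoot f) h2 d hfr' δ hδ
  have hnd := PSpD.hermForm_nondeg (F := F) (E := AdjoinRoot f) d hfr' δ hδ0
  have hiso : ∀ a b, PSpD.hermForm F d δ (LinearMap.mulLeft F θ a) (LinearMap.mulLeft F θ b) =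
      PSpD.hermForm F d δ a b := by
    intro a b
    rw [LinearMap.mulLeft_apply, LinearMap.mulLeft_apply]
    apply PSpD.hermForm_inv
    rw [hτfrob, mul_comm]
    exact hτθ
  obtain ⟨x, Ψ, hΨ⟩ := PSpJ.exists_symp_conj (PSpD.hermForm F d δ) halt hnd d hd1 hfr'
    (LinearMap.mulLeft F θ) hiso
  obtain ⟨c, ε, hcpos, hcop, hε1, hεc, hcj⟩ :=
    theta_data_sp θ hθ0 p hp (charP_dvd_card' (F := F) p)
  refine ⟨d, x, c, ε, by rw [← hfr, hd], hd1, hcpos, hcop, hε1, ?_, ?_⟩
  · apply (hae _).mp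
    rw [map_sub, map_pow, Polynomial.aeval_X, Polynomial.aeval_C, hεc, sub_self]
  · intro j ν hj
    have hν := scalar_pow_symp hd1 x j ν hj
    have h3 := (scalar_iff_of_conj (matS x) Ψ (LinearMap.mulLeft F θ) hΨ j ν).mp hj 1
    rw [PSpD.mulLeft_pow_apply, mul_one, Algebra.smul_def, mul_one] at h3
    apply hcj
    rw [← pow_mul, mul_comm, pow_mul, h3, ← map_pow, sq, hν, map_one]

end Cfsg.Agent.Lib.Helper15.Sps
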