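import Cfsg.Agent.Lib.Helper15.Sps6

/-!
# Hyperbolic and unipotent symplectic blocks (for S2512)
-/

set_option autoImplicit false
set_option linter.unusedSectionVars false

namespace Cfsg.Agent.Lib.Helper15.Sps

open Matrix Polynomial Cfsg Cfsg.Agent.Lib.Helper15.Spr Cfsg.Agent.Lib.Helper15.SpReg
  Cfsg.Agent.Lib.Helper15.Spu

section hyp

variable {F : Type*} [Field F]

theorem scalar_sum_eq {k : ℕ} (ν : F) :
    Matrix.scalar (Fin k ⊕ Fin k) ν =
      fromBlocks (Matrix.scalar (Fin k) ν) 0 0 (Matrix.scalar (Fin k) ν) := by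
  rw [Matrix.scalar_apply, Matrix.scalar_apply, Matrix.fromBlocks_diagonal]
  congr 1
  funext i
  rcases i with i | i <;> rfl

/-- The hyperbolic symplectic block of an invertible matrix `X`. -/
theorem exists_hyperbolic_sp {k : ℕ} (hk : 1 ≤ k) (X : Matrix (Fin k) (Fin k) F) (hX : X.det ≠ 0) :
    ∃ M : Matrix.symplecticGroup (Fin k) F, ∀ (j : ℕ) (ν : F),
      matS M ^ j = Matrix.scalar (Fin k ⊕ Fin k) ν ↔
        (X ^ j = Matrix.scalar (Fin k) ν ∧ ν * ν = 1) := by
  have : Nonempty (Fin k) := ⟨⟨0, hk⟩⟩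
  have hXu : IsUnit X.det := isUnit_iff_ne_zero.mpr hX
  set Y : Matrix (Fin k) (Fin k) F := (X⁻¹)ᵀ with hY
  have hXX : X * X⁻¹ = 1 := Matrix.mul_nonsing_inv X hXu
  have hXX' : X⁻¹ * X = 1 := Matrix.nonsing_inv_mul X hXu
  have hYX : Y * Xᵀ = 1 := by rw [hY, ← transpose_mul, hXX, transpose_one]
  have hXY : Xᵀ * Y = 1 := by rw [hY, ← transpose_mul, hXX', transpose_one]
  have hmem : fromBlocks X 0 0 Y ∈ Matrix.symplecticGroup (Fin k) F := by
    rw [SymplecticGroup.mem_iff, Matrix.J, fromBlocks_transpose, fromBlocks_multiply,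
      fromBlocks_multiply]
    simp only [Matrix.mul_zero, Matrix.zero_mul, add_zero, zero_add, Matrix.mul_one,
      transpose_zero, Matrix.mul_neg, Matrix.neg_mul]
    rw [hY, transpose_transpose, hXX, ← hY, hYX, neg_zero]
  have hcomm : Commute Y Xᵀ := by
    change Y * Xᵀ = Xᵀ * Y
    rw [hYX, hXY]
  refine ⟨⟨fromBlocks X 0 0 Y, hmem⟩, ?_⟩
  intro j ν
  change (fromBlocks X 0 0 Y) ^ j = _ ↔ _
  rw [fromBlocks_diagonal_pow, scalar_sum_eq, fromBlocks_inj]
  have hkey : X ^ j = Matrix.scalar (Fin k) ν → ν • Y ^ j = 1 := by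
    intro h
    have h1 : Y ^ j * (Xᵀ) ^ j = 1 := by rw [← hcomm.mul_pow, hYX, one_pow]
    have h0 : (Xᵀ) ^ j = ν • (1 : Matrix (Fin k) (Fin k) F) := by
      rw [← transpose_pow, h, scalar_eq_smul_one', transpose_smul, transpose_one]
    rw [h0, Matrix.mul_smul, Matrix.mul_one] at h1
    exact h1
  constructor
  · rintro ⟨h1, -, -, h4⟩
    refine ⟨h1, ?_⟩
    have h5 := hkey h1
    rw [h4, scalar_eq_smul_one', smul_smul] at h5
    have h6 : Matrix.scalar (Fin k) (ν * ν) = Matrix.scalar (Fin k) 1 := by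
      rw [scalar_eq_smul_one', h5, map_one]
    exact scalar_injective' h6
  · rintro ⟨h1, h2⟩
    refine ⟨h1, rfl, rfl, ?_⟩
    have h5 := hkey h1
    have h6 : ν • (ν • Y ^ j) = ν • (1 : Matrix (Fin k) (Fin k) F) := by rw [h5]
    rw [smul_smul, h2, one_smul] at h6
    rw [h6, scalar_eq_smul_one']

end hyp

section blocks

variable {F : Type*} [Field F] [Fintype F]

/-- The semisimple symplectic block of hyperbolic type, for an arbitrary irreducible
polynomial. -/
theorem exists_block_pair_sp (p : ℕ) [Fact p.Prime] [CharP F p] (f : F[X]) (hfm : f.Monic)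
    (hfi : Irreducible f) (hf0 : f.coeff 0 ≠ 0) :
    ∃ (B₁ : Matrix.symplecticGroup (Fin f.natDegree) F) (c : ℕ) (ε : F),
      0 < c ∧ Nat.Coprime c p ∧ ε * ε = 1 ∧ f ∣ X ^ c - C ε ∧
      ∀ (j : ℕ) (ν : F), matS B₁ ^ j = Matrix.scalar (Fin f.natDegree ⊕ Fin f.natDegree) ν →
        c ∣ j := by
  classical
  have hp : p.Prime := Fact.out
  have : Fact (Irreducible f) := ⟨hfi⟩
  obtain ⟨hfin, hfr, hae, hnorm⟩ := adjoinRoot_facts f hfm
  have hN0 : Algebra.norm F (AdjoinRoot.root f) ≠ 0 := by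
    rw [hnorm]
    exact mul_ne_zero (pow_ne_zero _ (neg_ne_zero.mpr one_ne_zero)) hf0
  have hθ : AdjoinRoot.root f ≠ 0 := root_ne_zero' f hf0
  obtain ⟨c, ε, hcpos, hcop, hε1, hεc, hcj⟩ :=
    theta_data_sp (AdjoinRoot.root f) hθ p hp (charP_dvd_card' (F := F) p)
  obtain ⟨X₀, hdet, hpow, -⟩ := exists_matrix_of_algebra hfr (AdjoinRoot.root f)
  have hX0 : X₀.det ≠ 0 := by rw [hdet]; exact hN0
  obtain ⟨B₁, hB₁⟩ := exists_hyperbolic_sp hfi.natDegree_pos X₀ hX0
  refine ⟨B₁, c, ε, hcpos, hcop, hε1, ?_, ?_⟩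
  · apply (hae _).mp
    rw [map_sub, map_pow, Polynomial.aeval_X, Polynomial.aeval_C, hεc, sub_self]
  · intro j ν hj
    obtain ⟨h1, h2⟩ := (hB₁ j ν).mp hj
    have h3 := (hpow j ν).mp h1
    apply hcj
    rw [← pow_mul, mul_comm, pow_mul, h3, ← map_pow, sq, h2, map_one]

end blocks

section unip

variable {F : Type*} [Field F]

theorem toLin'_pow' {ι : Type*} [Fintype ι] [DecidableEq ι] (N : Matrix ι ι F) (k : ℕ) :
    Matrix.toLin' (N ^ k) = (Matrix.toLin' N) ^ k := by
  induction k with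
  | zero => rw [pow_zero, pow_zero, Matrix.toLin'_one]; rfl
  | succ k ih => rw [pow_succ, Matrix.toLin'_mul, ih, pow_succ, Module.End.mul_eq_comp]

/-- A nilpotent matrix of corank one on a `d`-dimensional space has nilpotency index `d`. -/
theorem le_of_pow_eq_zero_of_rank {ι : Type*} [Fintype ι] [DecidableEq ι] (N : Matrix ι ι F)
    (hr : N.rank + 1 = Fintype.card ι) (k : ℕ) (hk : N ^ k = 0) : Fintype.card ι ≤ k := by
  have h1 : Module.finrank F (LinearMap.range (Matrix.toLin' N)) = N.rank := by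
    rw [Matrix.rank, Matrix.toLin'_apply']
  have h2 := LinearMap.finrank_range_add_finrank_ker (Matrix.toLin' N)
  rw [h1, Module.finrank_fintype_fun_eq_card] at h2
  have h3 : Module.finrank F (LinearMap.ker (Matrix.toLin' N)) = 1 := by omega
  have h4 := Cfsg.Agent.Lib.Helper15.finrank_ker_pow_le (Matrix.toLin' N) k
  rw [← toLin'_pow', hk, map_zero, LinearMap.ker_zero, finrank_top,
    Module.finrank_fintype_fun_eq_card, h3, mul_one] at h4
  exact h4

/-- The regular unipotent block of `Sp_2m(F)` in odd characteristic `p`. -/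
theorem exists_unipotent_block_sp (p : ℕ) [Fact p.Prime] [CharP F p] (h2 : (2 : F) ≠ 0) (m : ℕ)
    (hm : 1 ≤ m) :
    ∃ U : Matrix.symplecticGroup (Fin m) F, ∀ (j : ℕ) (ν : F),
      matS U ^ j = Matrix.scalar (Fin m ⊕ Fin m) ν → ν = 1 ∧ ∃ s, 2 * m ≤ p ^ s ∧ p ^ s ∣ j := by
  classical
  have hp : p.Prime := Fact.out
  have : Nonempty (Fin m ⊕ Fin m) := ⟨Sum.inl ⟨0, hm⟩⟩
  obtain ⟨g, hnil, hrank⟩ := exists_regUnip (F := F) h2 hm
  set N : Matrix (Fin m ⊕ Fin m) (Fin m ⊕ Fin m) F := matS g - 1 with hN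
  have hcard : Fintype.card (Fin m ⊕ Fin m) = 2 * m := by simp [two_mul]
  have hidx : ∀ k, N ^ k = 0 → 2 * m ≤ k := by
    intro k hk
    rw [← hcard]
    apply le_of_pow_eq_zero_of_rank N _ k hk
    rw [hcard]
    have : N.rank = 2 * m - 1 := hrank
    omega
  have hg : matS g = 1 + N := by rw [hN]; abel
  have hpow : ∀ s, matS g ^ p ^ s = 1 ↔ 2 * m ≤ p ^ s := by
    intro s
    rw [hg, add_pow_char_pow_of_commute _ _ (Commute.one_left N), one_pow, add_eq_left]
    constructor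
    · exact hidx _
    · intro h
      obtain ⟨t, ht⟩ := Nat.exists_eq_add_of_le h
      rw [ht, pow_add]
      have : N ^ (2 * m) = 0 := hnil
      rw [this, zero_mul]
  -- a fixed vector
  have hker : ∃ v : Fin m ⊕ Fin m → F, v ≠ 0 ∧ N *ᵥ v = 0 := by
    by_contra hne
    push Not at hne
    have hinj : Function.Injective (Matrix.toLin' N) := by
      rw [← LinearMap.ker_eq_bot, LinearMap.ker_eq_bot']
      intro v hv
      by_contra hv0
      exact hne v hv0 (by rw [← Matrix.toLin'_apply]; exact hv)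
    have hinj' : ∀ k, Function.Injective (Matrix.toLin' (N ^ k)) := by
      intro k
      rw [toLin'_pow']
      induction k with
      | zero => rw [pow_zero]; exact Function.injective_id
      | succ k ih => rw [pow_succ]; exact ih.comp hinj
    have h0 := hinj' (2 * m)
    have hz : N ^ (2 * m) = 0 := hnil
    rw [hz, map_zero] at h0
    obtain ⟨i⟩ := (inferInstance : Nonempty (Fin m ⊕ Fin m))
    have h1 : (Pi.single i (1 : F) : Fin m ⊕ Fin m → F) = 0 := h0 (by simp)
    have := congrFun h1 i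
    simp at this
  obtain ⟨v, hv0, hNv⟩ := hker
  have hgv : ∀ j, (matS g ^ j) *ᵥ v = v := by
    intro j
    induction j with
    | zero => simp
    | succ j ih =>
      have h1 : matS g *ᵥ v = v := by
        rw [hg, Matrix.add_mulVec, Matrix.one_mulVec, hNv, add_zero]
      rw [pow_succ, ← Matrix.mulVec_mulVec, h1, ih]
  have hs0 : 2 * m ≤ p ^ (2 * m) := (Nat.lt_pow_self hp.one_lt).le
  refine ⟨g, ?_⟩
  intro j ν hj
  have hν : ν = 1 := by
    have h1 := hgv j
    rw [hj, scalar_eq_smul_one', Matrix.smul_mulVec, Matrix.one_mulVec] at h1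
    by_contra hne
    apply hv0
    have h3 : (ν - 1) • v = 0 := by rw [sub_smul, h1, one_smul, sub_self]
    rcases smul_eq_zero.mp h3 with h | h
    · exact absurd (sub_eq_zero.mp h) hne
    · exact h
  refine ⟨hν, ?_⟩
  rw [hν, map_one] at hj
  have hord : orderOf (matS g) ∣ p ^ (2 * m) := orderOf_dvd_of_pow_eq_one ((hpow (2 * m)).mpr hs0)
  obtain ⟨s, -, hs⟩ := (Nat.dvd_prime_pow hp).mp hord
  refine ⟨s, ?_, ?_⟩
  · rw [← hpow, ← hs]
    exact pow_orderOf_eq_one _
  · rw [← hs]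
    exact orderOf_dvd_of_pow_eq_one hj

end unip

end Cfsg.Agent.Lib.Helper15.Sps
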