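import Cfsg.Agent.Lib.Helper15.Sps7

/-!
# Direct sums of symplectic blocks and the fresh twist (for S2512)
-/

set_option autoImplicit false
set_option linter.unusedSectionVars false

namespace Cfsg.Agent.Lib.Helper15.Sps

open Matrix Polynomial Cfsg Cfsg.Agent.Lib.Helper15.Spr Cfsg.Agent.Lib.Helper15.SpReg
  Cfsg.Agent.Lib.Helper15.Spu Cfsg.Agent.Lib.Helper15.PGraph

section sum

variable {F : Type*} [Field F] {a b : ℕ}

/-- The reindexing used by `spFinSum`. -/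
def RR (a b : ℕ) (M : Matrix ((Fin a ⊕ Fin a) ⊕ (Fin b ⊕ Fin b)) ((Fin a ⊕ Fin a) ⊕ (Fin b ⊕ Fin b)) F) :
    Matrix (Fin (a + b) ⊕ Fin (a + b)) (Fin (a + b) ⊕ Fin (a + b)) F :=
  reindex ((finSumFinEquiv (m := a) (n := b)).sumCongr (finSumFinEquiv (m := a) (n := b)))
    ((finSumFinEquiv (m := a) (n := b)).sumCongr (finSumFinEquiv (m := a) (n := b)))
    (reindex (Equiv.sumSumSumComm (Fin a) (Fin a) (Fin b) (Fin b))
      (Equiv.sumSumSumComm (Fin a) (Fin a) (Fin b) (Fin b)) M)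

theorem matS_spFinSum (x : Matrix.symplecticGroup (Fin a) F) (y : Matrix.symplecticGroup (Fin b) F) :
    matS (spFinSum (F := F) a b (x, y)) = RR a b (fromBlocks (matS x) 0 0 (matS y)) := rfl

theorem RR_injective : Function.Injective (RR (F := F) a b) := by
  intro M N h
  unfold RR at h
  exact (reindex _ _).injective ((reindex _ _).injective h)

theorem reindex_smul_one {α β : Type*} [Fintype α] [DecidableEq α] [Fintype β] [DecidableEq β]
    (e : α ≃ β) (ν : F) :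
    reindex e e (ν • (1 : Matrix α α F)) = ν • (1 : Matrix β β F) := by
  ext i j
  simp only [reindex_apply, submatrix_apply, Matrix.smul_apply, Matrix.one_apply,
    EmbeddingLike.apply_eq_iff_eq]

theorem RR_scalar (ν : F) :
    RR a b (fromBlocks (Matrix.scalar (Fin a ⊕ Fin a) ν) 0 0 (Matrix.scalar (Fin b ⊕ Fin b) ν)) =
      Matrix.scalar (Fin (a + b) ⊕ Fin (a + b)) ν := by
  have h1 : fromBlocks (Matrix.scalar (Fin a ⊕ Fin a) ν) 0 0 (Matrix.scalar (Fin b ⊕ Fin b) ν) =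
      ν • (1 : Matrix ((Fin a ⊕ Fin a) ⊕ (Fin b ⊕ Fin b)) ((Fin a ⊕ Fin a) ⊕ (Fin b ⊕ Fin b)) F) := by
    rw [Matrix.scalar_apply, Matrix.scalar_apply, Matrix.fromBlocks_diagonal,
      Matrix.smul_one_eq_diagonal]
    congr 1
    funext i
    rcases i with i | i <;> rfl
  rw [h1, scalar_eq_smul_one']
  unfold RR
  rw [reindex_smul_one, reindex_smul_one]

theorem spFinSum_scalar_iff (x : Matrix.symplecticGroup (Fin a) F)
    (y : Matrix.symplecticGroup (Fin b) F) (j : ℕ) (ν : F) :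
    matS (spFinSum (F := F) a b (x, y)) ^ j = Matrix.scalar (Fin (a + b) ⊕ Fin (a + b)) ν ↔
      (matS x ^ j = Matrix.scalar (Fin a ⊕ Fin a) ν ∧
        matS y ^ j = Matrix.scalar (Fin b ⊕ Fin b) ν) := by
  rw [← matS_pow, ← map_pow, Prod.pow_mk, matS_spFinSum, ← RR_scalar, matS_pow, matS_pow]
  constructor
  · intro h
    have h1 := RR_injective h
    rw [fromBlocks_inj] at h1
    exact ⟨h1.1, h1.2.2.2⟩
  · rintro ⟨h1, h2⟩
    rw [h1, h2]

end sum

section fresh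

variable {F : Type*} [Field F] [Fintype F]

/-- Twisting a fresh block-diagonal element `B₁ ⊕ (unipotent block)`. -/
theorem fresh_twist_sp {n : ℕ} (p : ℕ) [Fact p.Prime] [CharP F p] (h2 : (2 : F) ≠ 0)
    (A : Matrix (Fin n ⊕ Fin n) (Fin n ⊕ Fin n) F) (m : ℕ)
    (hm : ∀ (j : ℕ) (ν : F), A ^ j = Matrix.scalar (Fin n ⊕ Fin n) ν → m ∣ j)
    (k₁ : ℕ) (hk₁ : 0 < k₁) (hk₁n : k₁ < n) (B₁ : Matrix.symplecticGroup (Fin k₁) F)
    (c T : ℕ) (hc : Nat.Coprime c p)
    (hB₁c : ∀ (j : ℕ) (ν : F), matS B₁ ^ j = Matrix.scalar (Fin k₁ ⊕ Fin k₁) ν → c ∣ j)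
    (hAc : ∃ ν : F, A ^ (c * p ^ T) = Matrix.scalar (Fin n ⊕ Fin n) ν)
    (hT : T = 0 ∨ p ^ (T - 1) + 1 ≤ 2 * (n - k₁)) :
    ∃ g' : Cfsg.PSp n F, Nat.lcm m 2 ∣ orderOf g' := by
  have hp : p.Prime := Fact.out
  obtain ⟨n₂, rfl⟩ : ∃ n₂, n = k₁ + n₂ := ⟨n - k₁, by omega⟩
  have hn₂pos : 1 ≤ n₂ := by omega
  obtain ⟨U, hU⟩ := exists_unipotent_block_sp (F := F) p h2 n₂ hn₂pos
  obtain ⟨ν₀, hν₀⟩ := hAc
  obtain ⟨negOne, hnegOne⟩ := exists_sp (-1 : Matrix (Fin n₂ ⊕ Fin n₂) (Fin n₂ ⊕ Fin n₂) F) (by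
    rw [sig_neg, sig_one, neg_mul_neg, one_mul])
  have hcen : ∀ y : Matrix.symplecticGroup (Fin n₂) F, y * negOne = negOne * y := by
    intro y
    apply matS_injective
    rw [matS_mul, matS_mul, hnegOne, mul_neg, neg_mul, mul_one, one_mul]
  set a := spFinSum (F := F) k₁ n₂ (B₁, U) with ha
  set z := spFinSum (F := F) k₁ n₂ (1, negOne) with hz
  have haz : a * z = z * a := by
    rw [ha, hz, ← map_mul, ← map_mul, Prod.mk_mul_mk, Prod.mk_mul_mk, mul_one, one_mul, hcen]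
  have hzz : z ^ 2 = 1 := by
    rw [hz, ← map_pow, Prod.pow_mk, one_pow]
    have : negOne ^ 2 = 1 := by
      apply matS_injective
      rw [matS_pow, hnegOne, matS_one, neg_sq, one_pow]
    rw [this]
    exact map_one _
  have : Nonempty (Fin k₁ ⊕ Fin k₁) := ⟨Sum.inl ⟨0, hk₁⟩⟩
  have : Nonempty (Fin n₂ ⊕ Fin n₂) := ⟨Sum.inl ⟨0, hn₂pos⟩⟩
  apply exists_of_commuting_twist_sp (by omega) 2 Nat.prime_two (matS a) (matS z) (matS_symp a)
    (matS_symp z) (by rw [← matS_mul, ← matS_mul, haz]) (by rw [← matS_pow, hzz, matS_one]) ?_ m ?_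
  · rintro ⟨ν, hν⟩
    have h3 := (spFinSum_scalar_iff (1 : Matrix.symplecticGroup (Fin k₁) F) negOne 1 ν).mp (by
      rw [pow_one]; exact hν)
    rw [pow_one, pow_one, matS_one, hnegOne] at h3
    have e1 : (1 : F) = ν := by
      apply scalar_injective' (ι := Fin k₁ ⊕ Fin k₁)
      rw [map_one]; exact h3.1
    have e2 : (-1 : F) = ν := by
      apply scalar_injective' (ι := Fin n₂ ⊕ Fin n₂)
      rw [map_neg, map_one]; exact h3.2
    apply h2
    have h4 : (1 : F) = -1 := e1.trans e2.symm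
    calc (2 : F) = 1 + 1 := by norm_num
      _ = 1 + -1 := by nth_rewrite 2 [h4]; rfl
      _ = 0 := by ring
  · intro j ν hj
    obtain ⟨e1, e2⟩ := (spFinSum_scalar_iff B₁ U j ν).mp hj
    obtain ⟨hν, s, hs1, hs2⟩ := hU j ν e2
    have hcj : c ∣ j := hB₁c j ν e1
    have hpT : p ^ T ∣ j := by
      rcases hT with h0 | h1
      · rw [h0, pow_zero]
        exact one_dvd _
      · have hTs : T ≤ s := by
          have h5 : p ^ (T - 1) < p ^ s := by omega
          have := (Nat.pow_lt_pow_iff_right hp.one_lt).mp h5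
          omega
        exact (pow_dvd_pow p hTs).trans hs2
    have h6 : c * p ^ T ∣ j := Nat.Coprime.mul_dvd_of_dvd_of_dvd (hc.pow_right T) hcj hpT
    exact (hm _ _ hν₀).trans h6

end fresh

end Cfsg.Agent.Lib.Helper15.Sps
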