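import Cfsg.Agent.Lib.Helper15.Sps8

/-!
# Lemma K for `PSp_2n(q)`, `q` odd (for S2512)
-/

set_option autoImplicit false
set_option linter.unusedSectionVars false

namespace Cfsg.Agent.Lib.Helper15.Sps

open Matrix Polynomial Cfsg Cfsg.Agent.Lib.Helper15.Spr Cfsg.Agent.Lib.Helper15.SpReg
  Cfsg.Agent.Lib.Helper15.Spu Cfsg.Agent.Lib.Helper15.PGraph

variable {F : Type*} [Field F] [Fintype F]

/-- **Lemma K** for symplectic matrices. -/
theorem lemmaK_sp_matrix {n : ℕ} (hn : 2 ≤ n) (p : ℕ) [Fact p.Prime] [CharP F p]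
    (hodd : Odd (Fintype.card F))
    (A : Matrix (Fin n ⊕ Fin n) (Fin n ⊕ Fin n) F) (hA : A * sig A = 1) :
    (∃ ν : F, A ^ ((Fintype.card F ^ n + 1) / 2) = Matrix.scalar (Fin n ⊕ Fin n) ν) ∨
    (∃ ν : F, A ^ ((Fintype.card F ^ n - 1) / 2) = Matrix.scalar (Fin n ⊕ Fin n) ν) ∨
    ((∃ j : ℕ, 2 * n - 1 = p ^ j) ∧
      ∃ (T : ℕ) (ν : F), A ^ (p ^ T) = Matrix.scalar (Fin n ⊕ Fin n) ν) ∨
    (∀ m : ℕ, (∀ (j : ℕ) (ν : F), A ^ j = Matrix.scalar (Fin n ⊕ Fin n) ν → m ∣ j) →
      ∃ g' : Cfsg.PSp n F, Nat.lcm m 2 ∣ orderOf g') := by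
  classical
  have hp : p.Prime := Fact.out
  have hn1 : 1 ≤ n := by omega
  have h2 : (2 : F) ≠ 0 := two_ne_zero_of_odd_card hodd
  have hpodd : Odd p := Odd.of_dvd_nat hodd (charP_dvd_card' (F := F) p)
  have : Nonempty (Fin n ⊕ Fin n) := ⟨Sum.inl ⟨0, hn1⟩⟩
  have hA' : sig A * A = 1 := mul_eq_one_comm.mp hA
  have hAu : IsUnit A := IsUnit.of_mul_eq_one _ hA
  obtain ⟨hmonic, hpos, hle, hc0, hfacts⟩ := minpoly_facts' A hAu
  have hcard : Fintype.card (Fin n ⊕ Fin n) = 2 * n := by simp [two_mul]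
  rw [hcard] at hle
  have hsd := dualS_minpoly hn1 A hA'
  rcases selfdual_trichotomy_sp (minpoly F A) hmonic hpos hc0 hsd with
    ⟨g₁, g₂, hm1, hm2, hcop, hd1, hd2, hμ, hs1, hs2⟩ | ⟨f, e, hfm, hfi, he, hsf, hμ⟩ |
    ⟨f, e, hfm, hfi, he, hsf, hμ⟩
  · right; right; right
    intro m hm
    exact decomposable_twist_sp hn1 h2 A hA g₁ g₂ hm1 hm2 hcop hd1 hd2 hμ hs1 hs2 m hm
  · -- T1 : μ = f ^ e with f self-dual
    have hf0 : f.coeff 0 ≠ 0 := coeff_zero_ne_of_dvd' ⟨f ^ (e - 1), by
      rw [hμ, ← pow_succ']; congr 1; omega⟩ hc0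
    have hk : 0 < f.natDegree := hfi.natDegree_pos
    have hke : e * f.natDegree ≤ 2 * n := by
      rw [← Polynomial.natDegree_pow, ← hμ]
      exact hle
    have hT1 : e ≤ p ^ Nat.clog p e := Nat.le_pow_clog hp.one_lt e
    by_cases hk1 : f.natDegree = 1
    · -- linear factor: `A` is `±` unipotent
      have hfX : f = X + C (f.coeff 0) := hfm.eq_X_add_C hk1
      have hd : f ∣ X ^ 1 - C (- f.coeff 0) := by
        rw [pow_one, C_neg, sub_neg_eq_add, ← hfX]
      have hsc := pow_dvd_of_dvd_sub p f 1 _ hd e _ hT1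
      rw [← hμ, ← hfacts, one_mul] at hsc
      by_cases he1 : e = 1
      · left
        have h3 : A ^ 1 = Matrix.scalar (Fin n ⊕ Fin n) (- f.coeff 0) := by
          rw [hfacts, hμ, he1, pow_one]
          exact hd
        rw [pow_one] at h3
        exact ⟨(- f.coeff 0) ^ ((Fintype.card F ^ n + 1) / 2), by rw [h3, map_pow]⟩
      · have he2 : 1 < e := by omega
        have hlt : p ^ (Nat.clog p e - 1) < e := Nat.pow_pred_clog_lt_self hp.one_lt he2
        rw [hk1, mul_one] at hke
        by_cases hex : 2 * n = p ^ (Nat.clog p e - 1) + 1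
        · right; right; left
          exact ⟨⟨Nat.clog p e - 1, by omega⟩, Nat.clog p e, _, hsc⟩
        · right; right; right
          intro m hm
          obtain ⟨t, ht⟩ := hpodd.pow (n := Nat.clog p e - 1)
          apply fresh_twist_sp p h2 A m hm 1 one_pos (by omega) 1 1 (Nat.clog p e)
            (Nat.coprime_one_left p) (fun _ _ _ => one_dvd _) ⟨_, by rw [one_mul]; exact hsc⟩
          right
          omega
    · have hk2 : 2 ≤ f.natDegree := by omega
      by_cases h1 : e = 1 ∧ f.natDegree = 2 * n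
      · left
        have hμ' : minpoly F A = f := by rw [hμ, h1.1, pow_one]
        exact case_irreducible_selfdual_sp hn hodd A hA' (by rw [hμ']; exact hfi)
          (by rw [hμ']; exact h1.2)
      · right; right; right
        intro m hm
        obtain ⟨d, B₁, c, ε, hk2d, hd1, hcpos, hcop, hε1, hfd, hB₁c⟩ :=
          exists_block_selfdual_sp p h2 f hfm hfi hf0 hsf hk2
        have hAc : ∃ ν : F, A ^ (c * p ^ Nat.clog p e) = Matrix.scalar (Fin n ⊕ Fin n) ν := by
          refine ⟨ε ^ p ^ Nat.clog p e, (hfacts _ _).mpr ?_⟩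
          rw [hμ]
          exact pow_dvd_of_dvd_sub p f c ε hfd e _ hT1
        rw [hk2d] at hke
        have hdn : d < n := by
          rcases Nat.lt_or_ge 1 e with he2 | he1
          · have : 2 * (2 * d) ≤ e * (2 * d) := Nat.mul_le_mul_right _ he2
            omega
          · have he1' : e = 1 := by omega
            have : f.natDegree ≠ 2 * n := fun h => h1 ⟨he1', h⟩
            rw [he1', one_mul] at hke
            omega
        apply fresh_twist_sp p h2 A m hm d (by omega) hdn B₁ c (Nat.clog p e) hcop hB₁c hAc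
        rcases Nat.lt_or_ge 1 e with he2 | he1
        · right
          have hlt : p ^ (Nat.clog p e - 1) < e := Nat.pow_pred_clog_lt_self hp.one_lt he2
          obtain ⟨e', rfl⟩ : ∃ e', e = e' + 1 := ⟨e - 1, by omega⟩
          have hP1 : (e' + 1) * (2 * d) = e' * (2 * d) + 2 * d := by ring
          have hP2 : e' * 2 ≤ e' * (2 * d) := Nat.mul_le_mul_left _ (by omega)
          omega
        · left
          have he1' : e = 1 := by omega
          rw [he1']
          exact Nat.clog_one_right p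
  · -- T2 : μ = (f f̃) ^ e with f not self-dual
    have hf0 : f.coeff 0 ≠ 0 := coeff_zero_ne_of_dvd' ⟨dualS f * (f * dualS f) ^ (e - 1), by
      rw [hμ]
      have : e = (e - 1) + 1 := by omega
      conv_lhs => rw [this, pow_succ']
      ring⟩ hc0
    have hk : 0 < f.natDegree := hfi.natDegree_pos
    have hf'm : (dualS f).Monic := dualS_monic hf0
    have hf'i : Irreducible (dualS f) := dualS_irreducible hfm hfi hf0
    have hcop' : IsCoprime f (dualS f) :=
      isCoprime_of_irreducible_ne' hfi hfm hf'i hf'm (fun h => hsf h.symm)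
    have hdegP : (f * dualS f).natDegree = 2 * f.natDegree := by
      rw [hfm.natDegree_mul hf'm, natDegree_dualS hf0, two_mul]
    have hke : e * (2 * f.natDegree) ≤ 2 * n := by
      rw [← hdegP, ← Polynomial.natDegree_pow, ← hμ]
      exact hle
    have hT1 : e ≤ p ^ Nat.clog p e := Nat.le_pow_clog hp.one_lt e
    by_cases h1 : e = 1 ∧ f.natDegree = n
    · right; left
      have hμ' : minpoly F A = f * dualS f := by rw [hμ, h1.1, pow_one]
      exact case_irreducible_pair_sp hn1 hodd A hA' f hfm hfi hμ'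
        (by rw [hμ', hdegP, h1.2]) hsf
    · right; right; right
      intro m hm
      obtain ⟨B₁, c, ε, hcpos, hcop, hε1, hfd, hB₁c⟩ := exists_block_pair_sp p f hfm hfi hf0
      have hε0 : ε ≠ 0 := by
        rintro rfl
        rw [mul_zero] at hε1
        exact zero_ne_one hε1
      have hεinv : ε⁻¹ = ε := inv_eq_of_mul_eq_one_right hε1
      have hfd' : dualS f ∣ X ^ c - C ε := by
        have h6 := dualS_dvd hfd
        rwa [dualS_X_pow_sub_C hcpos hε0, hεinv] at h6
      have hAc : ∃ ν : F, A ^ (c * p ^ Nat.clog p e) = Matrix.scalar (Fin n ⊕ Fin n) ν := by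
        refine ⟨ε ^ p ^ Nat.clog p e, (hfacts _ _).mpr ?_⟩
        rw [hμ]
        exact pow_dvd_of_dvd_sub p (f * dualS f) c ε (hcop'.mul_dvd hfd hfd') e _ hT1
      have hkn : f.natDegree < n := by
        rcases Nat.lt_or_ge 1 e with he2 | he1
        · have : 2 * (2 * f.natDegree) ≤ e * (2 * f.natDegree) := Nat.mul_le_mul_right _ he2
          omega
        · have he1' : e = 1 := by omega
          have : f.natDegree ≠ n := fun h => h1 ⟨he1', h⟩
          rw [he1', one_mul] at hke
          omega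
      apply fresh_twist_sp p h2 A m hm f.natDegree hk hkn B₁ c (Nat.clog p e) hcop hB₁c hAc
      rcases Nat.lt_or_ge 1 e with he2 | he1
      · right
        have hlt : p ^ (Nat.clog p e - 1) < e := Nat.pow_pred_clog_lt_self hp.one_lt he2
        obtain ⟨e', rfl⟩ : ∃ e', e = e' + 1 := ⟨e - 1, by omega⟩
        have hP1 : (e' + 1) * (2 * f.natDegree) = e' * (2 * f.natDegree) + 2 * f.natDegree := by ring
        have hP2 : e' * 2 ≤ e' * (2 * f.natDegree) := Nat.mul_le_mul_left _ (by omega)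
        omega
      · left
        have he1' : e = 1 := by omega
        rw [he1']
        exact Nat.clog_one_right p

/-- **Lemma K** for `PSp_2n(q)`, `q` odd. -/
theorem lemmaK_sp {n : ℕ} (hn : 2 ≤ n) (p : ℕ) [Fact p.Prime] [CharP F p]
    (hodd : Odd (Fintype.card F)) (g : Cfsg.PSp n F) :
    orderOf g ∣ (Fintype.card F ^ n + 1) / 2 ∨ orderOf g ∣ (Fintype.card F ^ n - 1) / 2 ∨
    ((∃ j : ℕ, 2 * n - 1 = p ^ j) ∧ ∃ t : ℕ, orderOf g = p ^ t) ∨
    (∃ g' : Cfsg.PSp n F, Nat.lcm (orderOf g) 2 ∣ orderOf g') := by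
  have hp : p.Prime := Fact.out
  have hn1 : 1 ≤ n := by omega
  obtain ⟨s, rfl⟩ := QuotientGroup.mk_surjective g
  rcases lemmaK_sp_matrix hn p hodd (matS s) (matS_symp s) with h | h | h | h
  · left
    rw [orderOf_mk_dvd_iff_sp hn1]
    exact h
  · right; left
    rw [orderOf_mk_dvd_iff_sp hn1]
    exact h
  · right; right; left
    refine ⟨h.1, ?_⟩
    obtain ⟨T, hT⟩ := h.2
    have h1 : orderOf (QuotientGroup.mk s : Cfsg.PSp n F) ∣ p ^ T := by
      rw [orderOf_mk_dvd_iff_sp hn1]
      exact hT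
    obtain ⟨t, -, ht⟩ := (Nat.dvd_prime_pow hp).mp h1
    exact ⟨t, ht⟩
  · right; right; right
    apply h
    intro j ν hj
    rw [orderOf_mk_dvd_iff_sp hn1]
    exact ⟨ν, hj⟩

end Cfsg.Agent.Lib.Helper15.Sps
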