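import Cfsg.Agent.Lib.Helper15.Spr8
import Cfsg.Agent.Lib.Helper16.SUCenter

/-!
# Unitary matrices: conjugate transpose, orders in `PSU_n(q)` (for S2511)
-/

set_option autoImplicit false

namespace Cfsg.Agent.Lib.Helper15.Spu

open Matrix Cfsg Cfsg.Agent.Lib.Helper6 Cfsg.Agent.Lib.Helper15.Spr

variable {F : Type*} [Field F] [Fintype F] {q : ℕ}

/-- `M` preserves the standard Hermitian form. -/
def Pres (q : ℕ) {n : ℕ} (M : Matrix (Fin n) (Fin n) F) : Prop :=
  ∀ x y, Cfsg.hermForm n F q (M *ᵥ x) (M *ᵥ y) = Cfsg.hermForm n F q x y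

/-- Conjugate transpose with respect to `x ↦ x ^ q`. -/
noncomputable def dag (hF : Fintype.card F = q ^ 2) {n : ℕ} (M : Matrix (Fin n) (Fin n) F) :
    Matrix (Fin n) (Fin n) F := (M.map (conjQ hF))ᵀ

section dag

variable (hF : Fintype.card F = q ^ 2) {n : ℕ}

include hF in
theorem q_ne_zero : q ≠ 0 := by
  have := two_le_q hF
  omega

theorem dag_apply (M : Matrix (Fin n) (Fin n) F) (i j : Fin n) : dag hF M i j = (M j i) ^ q := rfl

theorem dag_mul (M N : Matrix (Fin n) (Fin n) F) : dag hF (M * N) = dag hF N * dag hF M := by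
  unfold dag
  rw [Matrix.map_mul, Matrix.transpose_mul]

theorem dag_one : dag hF (1 : Matrix (Fin n) (Fin n) F) = 1 := by
  unfold dag
  rw [Matrix.map_one _ (map_zero _) (map_one _), Matrix.transpose_one]

theorem dag_zero : dag hF (0 : Matrix (Fin n) (Fin n) F) = 0 := by
  ext i j
  rw [dag_apply]
  simp [zero_pow (q_ne_zero hF)]

theorem dag_dag (M : Matrix (Fin n) (Fin n) F) : dag hF (dag hF M) = M := by
  ext i j
  rw [dag_apply, dag_apply]
  exact conjQ_conjQ hF _

theorem dag_add (M N : Matrix (Fin n) (Fin n) F) : dag hF (M + N) = dag hF M + dag hF N := by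
  unfold dag
  rw [Matrix.map_add _ (map_add _), Matrix.transpose_add]

theorem dag_smul (c : F) (M : Matrix (Fin n) (Fin n) F) : dag hF (c • M) = (c ^ q) • dag hF M := by
  ext i j
  rw [dag_apply, Matrix.smul_apply, Matrix.smul_apply, dag_apply, smul_eq_mul, smul_eq_mul, mul_pow]

theorem dag_pow (M : Matrix (Fin n) (Fin n) F) (j : ℕ) : dag hF (M ^ j) = dag hF M ^ j := by
  induction j with
  | zero => rw [pow_zero, pow_zero, dag_one]
  | succ j ih => rw [pow_succ, dag_mul, ih, ← pow_succ']

theorem dag_scalar (ν : F) : dag hF (Matrix.scalar (Fin n) ν) = Matrix.scalar (Fin n) (ν ^ q) := by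
  ext i j
  rw [dag_apply, Matrix.scalar_apply, Matrix.scalar_apply, Matrix.diagonal_apply,
    Matrix.diagonal_apply]
  by_cases h : i = j
  · subst h
    simp
  · have h' : j ≠ i := fun e => h e.symm
    simp [h, h', zero_pow (q_ne_zero hF)]

theorem dag_injective : Function.Injective (dag hF (n := n)) := by
  intro M N h
  rw [← dag_dag hF M, h, dag_dag]

theorem det_dag (M : Matrix (Fin n) (Fin n) F) : (dag hF M).det = M.det ^ q := by
  unfold dag
  rw [Matrix.det_transpose, ← conjQ_apply hF, RingHom.map_det]
  rfl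

/-- `†` of a polynomial in `A`. -/
theorem dag_aeval (A : Matrix (Fin n) (Fin n) F) (g : Polynomial F) :
    dag hF (Polynomial.aeval A g) = Polynomial.aeval (dag hF A) (g.map (conjQ hF)) := by
  induction g using Polynomial.induction_on' with
  | add g h hg hh => rw [map_add, dag_add, hg, hh, Polynomial.map_add, map_add]
  | monomial k c =>
    rw [Polynomial.map_monomial, Polynomial.aeval_monomial, Polynomial.aeval_monomial,
      Algebra.algebraMap_eq_smul_one, Algebra.algebraMap_eq_smul_one, smul_mul_assoc, one_mul,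
      smul_mul_assoc, one_mul, dag_smul, dag_pow, conjQ_apply]

theorem pres_iff (M : Matrix (Fin n) (Fin n) F) : Pres q M ↔ dag hF M * M = 1 := by
  classical
  have key : ∀ x y : Fin n → F, Cfsg.hermForm n F q (M *ᵥ x) (M *ᵥ y) =
      ∑ j, ∑ l, x j * (Mᵀ * M.map (conjQ hF)) j l * (y l) ^ q := by
    intro x y
    simp only [Cfsg.hermForm, Matrix.mulVec, dotProduct, Matrix.mul_apply, Matrix.transpose_apply,
      Matrix.map_apply, conjQ_apply]
    have hsum : ∀ i, (∑ l, M i l * y l) ^ q = ∑ l, (M i l) ^ q * (y l) ^ q := by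
      intro i
      rw [← conjQ_apply hF, map_sum]
      apply Finset.sum_congr rfl
      intro l _
      rw [map_mul]
      rfl
    have e1 : ∀ i, (∑ j, M i j * x j) * (∑ l, M i l * y l) ^ q =
        ∑ j, ∑ l, M i j * x j * ((M i l) ^ q * (y l) ^ q) := by
      intro i
      rw [hsum, Finset.sum_mul_sum]
    have e2 : ∀ j l, x j * (∑ i, M i j * (M i l) ^ q) * (y l) ^ q =
        ∑ i, M i j * x j * ((M i l) ^ q * (y l) ^ q) := by
      intro j l
      rw [Finset.mul_sum, Finset.sum_mul]
      apply Finset.sum_congr rfl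
      intro i _
      ring
    simp_rw [e1, e2]
    rw [Finset.sum_comm]
    apply Finset.sum_congr rfl
    intro j _
    rw [Finset.sum_comm]
  have h2 : dag hF M * M = 1 ↔ Mᵀ * M.map (conjQ hF) = 1 := by
    constructor
    · intro h
      have := congrArg (fun N : Matrix (Fin n) (Fin n) F => N.map (conjQ hF)) h
      simp only [Matrix.map_mul, Matrix.map_one _ (map_zero _) (map_one _)] at this
      rw [← this]
      unfold dag
      congr 1
      ext i j
      simp only [Matrix.map_apply, Matrix.transpose_apply]
      exact (conjQ_conjQ hF _).symm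
    · intro h
      have := congrArg (fun N : Matrix (Fin n) (Fin n) F => N.map (conjQ hF)) h
      simp only [Matrix.map_mul, Matrix.map_one _ (map_zero _) (map_one _)] at this
      rw [← this]
      unfold dag
      congr 1
      ext i j
      simp only [Matrix.map_apply]
      exact (conjQ_conjQ hF _).symm
  rw [h2]
  constructor
  · intro h
    ext j l
    have := h (Pi.single j 1) (Pi.single l 1)
    rw [key] at this
    simp only [Cfsg.hermForm] at this
    rw [Matrix.one_apply]
    have e1 : ∑ j', ∑ l', (Pi.single j 1 : Fin n → F) j' * (Mᵀ * M.map (conjQ hF)) j' l' *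
        ((Pi.single l 1 : Fin n → F) l') ^ q = (Mᵀ * M.map (conjQ hF)) j l := by
      rw [Finset.sum_eq_single j]
      · rw [Finset.sum_eq_single l]
        · simp
        · intro b _ hb
          simp [hb, zero_pow (q_ne_zero hF)]
        · intro hl; exact absurd (Finset.mem_univ _) hl
      · intro b _ hb
        apply Finset.sum_eq_zero
        intro l' _
        simp [hb]
      · intro hj; exact absurd (Finset.mem_univ _) hj
    rw [e1] at this
    rw [this]
    rw [Finset.sum_eq_single j]
    · by_cases hjl : j = l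
      · subst hjl
        simp
      · simp [hjl, zero_pow (q_ne_zero hF)]
    · intro b _ hb
      simp [hb]
    · intro hj; exact absurd (Finset.mem_univ _) hj
  · intro h x y
    rw [key, h]
    simp only [Cfsg.hermForm, Matrix.one_apply]
    apply Finset.sum_congr rfl
    intro j _
    rw [Finset.sum_eq_single j]
    · simp
    · intro b _ hb
      simp [hb.symm]
    · intro hj; exact absurd (Finset.mem_univ _) hj

end dag

end Cfsg.Agent.Lib.Helper15.Spu
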