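import Cfsg.Agent.Lib.Helper15.Spu9

/-!
# Lemma K for `PSU_n(q)` (for S2511)
-/

set_option autoImplicit false
set_option linter.unusedSectionVars false

namespace Cfsg.Agent.Lib.Helper15.Spu

open Matrix Polynomial Cfsg Cfsg.Agent.Lib.Helper6 Cfsg.Agent.Lib.Helper15.Spr

variable {F : Type*} [Field F] [Fintype F] {q : ℕ} (hF : Fintype.card F = q ^ 2)

include hF in
/-- **Lemma K** for unitary matrices. -/
theorem lemmaK_su_matrix {n : ℕ} (hn : 2 ≤ n) (p : ℕ) [Fact p.Prime] [CharP F p] (r : ℕ)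
    (hr : r.Prime) (hrq : r ∣ q + 1) (hrn : ¬ r ∣ n)
    (A : Matrix (Fin n) (Fin n) F) (hA : Pres q A) (hAd : A.det = 1) :
    (∃ ν : F, A ^ (SSU q n) = Matrix.scalar (Fin n) ν) ∨
    ((∃ j : ℕ, n - 1 = p ^ j) ∧ ∃ (T : ℕ) (ν : F), A ^ (p ^ T) = Matrix.scalar (Fin n) ν) ∨
    (∀ m : ℕ, (∀ (j : ℕ) (ν : F), A ^ j = Matrix.scalar (Fin n) ν → m ∣ j) →
      ∃ g' : Cfsg.PSU n F q, Nat.lcm m r ∣ orderOf g') := by
  classical
  have hp : p.Prime := Fact.out
  have hn0 : 0 < n := by omega
  have hA' : dag hF A * A = 1 := (pres_iff hF A).mp hA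
  obtain ⟨hmonic, hpos, hle, hc0, hfacts⟩ := minpoly_facts hn0 A (by rw [hAd]; exact one_ne_zero)
  have hsd := dualP_minpoly hF hn0 A hA'
  rcases selfdual_trichotomy hF (minpoly F A) hmonic hpos hc0 hsd with
    ⟨g₁, g₂, hm1, hm2, hcop, hd1, hd2, hμ, hs1, hs2⟩ | ⟨f, e, hfm, hfi, he, hsf, hμ⟩ |
    ⟨f, e, hfm, hfi, he, hsf, hμ⟩
  · right; right
    intro m hm
    exact decomposable_twist hF hn r hr hrq hrn A hA hAd g₁ g₂ hm1 hm2 hcop hd1 hd2 hμ hs1 hs2 m hm
  · -- T1 : μ = f ^ e with f self-dual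
    have hf0 : f.coeff 0 ≠ 0 := coeff_zero_ne_of_dvd ⟨f ^ (e - 1), by
      rw [hμ, ← pow_succ']; congr 1; omega⟩ hc0
    have hk : 0 < f.natDegree := hfi.natDegree_pos
    have hke : e * f.natDegree ≤ n := by
      rw [← Polynomial.natDegree_pow, ← hμ]
      exact hle
    by_cases h1 : e = 1 ∧ f.natDegree = n
    · left
      have hμ' : minpoly F A = f := by rw [hμ, h1.1, pow_one]
      exact case_irreducible_selfdual hF hn0 A hAd (by rw [hμ']; exact hfi)
        (by rw [hμ']; exact h1.2) (by rw [hμ']; exact hsf)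
    · have hT1 : e ≤ p ^ Nat.clog p e := Nat.le_pow_clog hp.one_lt e
      by_cases h2 : f.natDegree = 1 ∧ 2 ≤ e ∧ n = p ^ (Nat.clog p e - 1) + 1
      · right; left
        refine ⟨⟨Nat.clog p e - 1, by omega⟩, Nat.clog p e, ?_⟩
        have hfX : f = X + C (f.coeff 0) := hfm.eq_X_add_C h2.1
        have hd : f ∣ X ^ 1 - C (- f.coeff 0) := by
          rw [pow_one, C_neg, sub_neg_eq_add, ← hfX]
        have := pow_dvd_of_dvd_sub p f 1 _ hd e _ hT1
        rw [← hμ, ← hfacts, one_mul] at this
        exact ⟨_, this⟩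
      · right; right
        intro m hm
        obtain ⟨B₁, c, lam, hB₁, hB₁d, hcpos, hcop, hfd, hlam1, hB₁c⟩ :=
          exists_block_selfdual hF p f hfm hfi hf0 hsf
        have hAc : ∃ ν : F, A ^ (c * p ^ Nat.clog p e) = Matrix.scalar (Fin n) ν := by
          refine ⟨lam ^ p ^ Nat.clog p e, (hfacts _ _).mpr ?_⟩
          rw [hμ]
          exact pow_dvd_of_dvd_sub p f c lam hfd e _ hT1
        have hkn : f.natDegree < n := by
          rcases Nat.lt_or_ge 1 e with he2 | he1
          · have : 2 * f.natDegree ≤ e * f.natDegree := Nat.mul_le_mul_right _ he2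
            omega
          · have he1' : e = 1 := by omega
            rw [he1', one_mul] at hke
            have : f.natDegree ≠ n := fun h => h1 ⟨he1', h⟩
            omega
        apply fresh_twist hF p r hr hrq hrn A m hm f.natDegree hk hkn B₁ hB₁ hB₁d c
          (Nat.clog p e) hcop hB₁c hAc
        rcases Nat.lt_or_ge 1 e with he2 | he1
        · right
          have hlt : p ^ (Nat.clog p e - 1) < e := Nat.pow_pred_clog_lt_self hp.one_lt he2
          have hP : 1 ≤ p ^ (Nat.clog p e - 1) := Nat.one_le_pow _ _ hp.pos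
          rcases Nat.lt_or_ge 1 f.natDegree with hk2 | hk1
          · have h3 : (p ^ (Nat.clog p e - 1) + 1) * f.natDegree ≤ e * f.natDegree :=
              Nat.mul_le_mul_right _ hlt
            have h4 : p ^ (Nat.clog p e - 1) * 2 ≤ p ^ (Nat.clog p e - 1) * f.natDegree :=
              Nat.mul_le_mul_left _ hk2
            rw [add_mul, one_mul] at h3
            omega
          · have hk1' : f.natDegree = 1 := by omega
            rw [hk1', mul_one] at hke
            have : n ≠ p ^ (Nat.clog p e - 1) + 1 := fun h => h2 ⟨hk1', he2, h⟩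
            omega
        · left
          have he1' : e = 1 := by omega
          rw [he1']
          exact Nat.clog_one_right p
  · -- T2 : μ = (f f̃) ^ e with f not self-dual
    have hf0 : f.coeff 0 ≠ 0 := coeff_zero_ne_of_dvd ⟨dualP hF f * (f * dualP hF f) ^ (e - 1), by
      rw [hμ]
      have : e = (e - 1) + 1 := by omega
      conv_lhs => rw [this, pow_succ']
      ring⟩ hc0
    have hk : 0 < f.natDegree := hfi.natDegree_pos
    have hf'm : (dualP hF f).Monic := dualP_monic hF hf0
    have hf'i : Irreducible (dualP hF f) := dualP_irreducible hF hfm hfi hf0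
    have hcop' : IsCoprime f (dualP hF f) :=
      isCoprime_of_irreducible_ne hfi hfm hf'i hf'm (fun h => hsf h.symm)
    have hdegP : (f * dualP hF f).natDegree = f.natDegree + f.natDegree := by
      rw [hfm.natDegree_mul hf'm, natDegree_dualP hF hf0]
    have hke : e * (f.natDegree + f.natDegree) ≤ n := by
      rw [← hdegP, ← Polynomial.natDegree_pow, ← hμ]
      exact hle
    by_cases h1 : e = 1 ∧ f.natDegree + f.natDegree = n
    · left
      have hμ' : minpoly F A = f * dualP hF f := by rw [hμ, h1.1, pow_one]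
      exact case_irreducible_pair hF hn0 A hAd f hfm hfi hμ' (by rw [hμ', hdegP]; exact h1.2) hsf
    · right; right
      intro m hm
      have hT1 : e ≤ p ^ Nat.clog p e := Nat.le_pow_clog hp.one_lt e
      obtain ⟨B₁, c, lam, hB₁, hB₁d, hcpos, hcop, hfd, hlam1, hB₁c⟩ :=
        exists_block_pair hF p f hfm hfi hf0
      have hlam0 : lam ≠ 0 := by
        rintro rfl
        rw [zero_pow (Nat.succ_ne_zero q)] at hlam1
        exact zero_ne_one hlam1
      have hfd' : dualP hF f ∣ X ^ c - C lam := by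
        have h6 := dualP_dvd hF hfd
        rw [dualP_X_pow_sub_C hF hcpos hlam0] at h6
        have h7 : (lam ^ q)⁻¹ = lam := by
          have : lam ^ q * lam = 1 := by rw [← pow_succ, hlam1]
          exact inv_eq_of_mul_eq_one_right this
        rwa [h7] at h6
      have hAc : ∃ ν : F, A ^ (c * p ^ Nat.clog p e) = Matrix.scalar (Fin n) ν := by
        refine ⟨lam ^ p ^ Nat.clog p e, (hfacts _ _).mpr ?_⟩
        rw [hμ]
        exact pow_dvd_of_dvd_sub p (f * dualP hF f) c lam (hcop'.mul_dvd hfd hfd') e _ hT1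
      have hkn : f.natDegree + f.natDegree < n := by
        rcases Nat.lt_or_ge 1 e with he2 | he1
        · have : 2 * (f.natDegree + f.natDegree) ≤ e * (f.natDegree + f.natDegree) :=
            Nat.mul_le_mul_right _ he2
          omega
        · have he1' : e = 1 := by omega
          rw [he1', one_mul] at hke
          have : f.natDegree + f.natDegree ≠ n := fun h => h1 ⟨he1', h⟩
          omega
      apply fresh_twist hF p r hr hrq hrn A m hm (f.natDegree + f.natDegree) (by omega) hkn B₁ hB₁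
        hB₁d c (Nat.clog p e) hcop hB₁c hAc
      rcases Nat.lt_or_ge 1 e with he2 | he1
      · right
        have hlt : p ^ (Nat.clog p e - 1) < e := Nat.pow_pred_clog_lt_self hp.one_lt he2
        have hP : 1 ≤ p ^ (Nat.clog p e - 1) := Nat.one_le_pow _ _ hp.pos
        have h3 : (p ^ (Nat.clog p e - 1) + 1) * (f.natDegree + f.natDegree) ≤
            e * (f.natDegree + f.natDegree) := Nat.mul_le_mul_right _ hlt
        have h4 : p ^ (Nat.clog p e - 1) * 2 ≤ p ^ (Nat.clog p e - 1) * (f.natDegree + f.natDegree) :=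
          Nat.mul_le_mul_left _ (by omega)
        rw [add_mul, one_mul] at h3
        omega
      · left
        have he1' : e = 1 := by omega
        rw [he1']
        exact Nat.clog_one_right p

include hF in
/-- **Lemma K** for `PSU_n(q)`. -/
theorem lemmaK_su {n : ℕ} (hn : 2 ≤ n) (p : ℕ) [Fact p.Prime] [CharP F p] (r : ℕ)
    (hr : r.Prime) (hrq : r ∣ q + 1) (hrn : ¬ r ∣ n) (g : Cfsg.PSU n F q) :
    orderOf g ∣ SSU q n ∨
    ((∃ j : ℕ, n - 1 = p ^ j) ∧ ∃ t : ℕ, orderOf g = p ^ t) ∨
    (∃ g' : Cfsg.PSU n F q, Nat.lcm (orderOf g) r ∣ orderOf g') := by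
  have hp : p.Prime := Fact.out
  obtain ⟨s, rfl⟩ := QuotientGroup.mk_surjective g
  rcases lemmaK_su_matrix hF hn p r hr hrq hrn (matOf s) (matOf_pres s) (matOf_det s) with h | h | h
  · left
    rw [orderOf_mk_dvd_iff_su hF hn]
    exact h
  · right; left
    refine ⟨h.1, ?_⟩
    obtain ⟨T, hT⟩ := h.2
    have h1 : orderOf (QuotientGroup.mk s : Cfsg.PSU n F q) ∣ p ^ T := by
      rw [orderOf_mk_dvd_iff_su hF hn]
      exact hT
    obtain ⟨t, -, ht⟩ := (Nat.dvd_prime_pow hp).mp h1
    exact ⟨t, ht⟩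
  · right; right
    apply h
    intro j ν hj
    rw [orderOf_mk_dvd_iff_su hF hn]
    exact ⟨ν, hj⟩

end Cfsg.Agent.Lib.Helper15.Spu
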