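import Cfsg.Agent.Lib.Helper15.Spu10

/-!
# Singer-type elements of `PSU_n(q)` (for S2511)
-/

set_option autoImplicit false
set_option linter.unusedSectionVars false

namespace Cfsg.Agent.Lib.Helper15.Spu

open Matrix Polynomial Cfsg Cfsg.Agent.Lib.Helper6 Cfsg.Agent.Lib.Helper15.Spr

variable {F : Type*} [Field F] [Fintype F] {q : ℕ} (hF : Fintype.card F = q ^ 2)

include hF in
/-- From a unitary matrix of determinant one whose scalar powers are known, an element of
`PSU` of that order. -/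
theorem singer_of_matrix {n : ℕ} (hn : 2 ≤ n) (M : Matrix (Fin n) (Fin n) F) (hM : Pres q M)
    (hd : M.det = 1) (N : ℕ)
    (key : ∀ j : ℕ, (∃ ν : F, M ^ j = Matrix.scalar (Fin n) ν) ↔ N ∣ j) :
    ∃ g : Cfsg.PSU n F q, orderOf g = N := by
  obtain ⟨s, hs⟩ := exists_su M hM hd
  have hA : ∀ j : ℕ, orderOf (QuotientGroup.mk s : Cfsg.PSU n F q) ∣ j ↔ N ∣ j := by
    intro j
    rw [orderOf_mk_dvd_iff_su hF hn, hs, key]
  refine ⟨QuotientGroup.mk s, ?_⟩
  apply Nat.dvd_antisymm
  · exact (hA _).mpr dvd_rfl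
  · exact (hA _).mp dvd_rfl

theorem pow_unit_iff {K : Type*} [Field K] (θ : Kˣ) (n : ℕ) (hθ : orderOf θ = QU q n) (j : ℕ) :
    (((θ : K)) ^ j) ^ (q + 1) = 1 ↔ SSU q n ∣ j := by
  rw [← QU_dvd_iff, ← hθ, orderOf_dvd_iff_pow_eq_one, Units.ext_iff, pow_mul]
  simp

include hF in
/-- `q` is a power of the characteristic. -/
theorem q_eq_pow (p : ℕ) [Fact p.Prime] [CharP F p] : ∃ i, q = p ^ i := by
  have hp : p.Prime := Fact.out
  obtain ⟨m, -, hm⟩ := FiniteField.card F p
  have h1 : q ∣ p ^ (m : ℕ) := by rw [← hm, hF]; exact dvd_pow_self q two_ne_zero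
  obtain ⟨i, -, hi⟩ := (Nat.dvd_prime_pow hp).mp h1
  exact ⟨i, hi⟩

include hF in
/-- Singer-type element, odd dimension. -/
theorem exists_singer_su_odd {n : ℕ} (hn : 2 ≤ n) (hodd : ¬ Even n) (p : ℕ) [Fact p.Prime]
    [CharP F p] : ∃ g : Cfsg.PSU n F q, orderOf g = SSU q n := by
  classical
  have hp : p.Prime := Fact.out
  have hq := two_le_q hF
  have : NeZero n := ⟨by omega⟩
  obtain ⟨i, hi⟩ := q_eq_pow hF p
  have hfr : Module.finrank F (FiniteField.Extension F p n) = n :=
    FiniteField.finrank_extension F p n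
  have hcard : Nat.card (FiniteField.Extension F p n) = (q ^ n) ^ 2 := by
    rw [FiniteField.natCard_extension, Nat.card_eq_fintype_card, hF, ← pow_mul, ← pow_mul,
      mul_comm]
  have : CharP (FiniteField.Extension F p n) p :=
    charP_of_injective_algebraMap (algebraMap F (FiniteField.Extension F p n)).injective p
  have := Fintype.ofFinite (FiniteField.Extension F p n)
  have hcard' : Fintype.card (FiniteField.Extension F p n) = (q ^ n) ^ 2 := by
    rw [← Nat.card_eq_fintype_card, hcard]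
  -- the involution
  let τ : FiniteField.Extension F p n →+* FiniteField.Extension F p n :=
    iterateFrobenius (FiniteField.Extension F p n) p (i * n)
  have hτ : ∀ x, τ x = x ^ (q ^ n) := by
    intro x
    show iterateFrobenius (FiniteField.Extension F p n) p (i * n) x = _
    rw [iterateFrobenius_def, hi, ← pow_mul]
  have hτ2 : ∀ x, τ (τ x) = x := by
    intro x
    rw [hτ, hτ, ← pow_mul, ← sq, ← hcard']
    exact FiniteField.pow_card x
  have hτF : ∀ a : F, τ (algebraMap F _ a) = algebraMap F (FiniteField.Extension F p n) (a ^ q) := by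
    intro a
    obtain ⟨k, hk⟩ : ∃ k, n = 2 * k + 1 := by
      rcases Nat.even_or_odd' n with ⟨k, hk | hk⟩
      · exact absurd ⟨k, by omega⟩ hodd
      · exact ⟨k, hk⟩
    rw [hτ, ← map_pow]
    congr 1
    rw [hk, pow_succ, pow_mul, pow_q_pow_even hF]
  -- the element
  obtain ⟨θ₀, hθ₀⟩ := IsCyclic.exists_generator (α := (FiniteField.Extension F p n)ˣ)
  have hord : orderOf θ₀ = (q ^ n) ^ 2 - 1 := by
    rw [orderOf_eq_card_of_forall_mem_zpowers hθ₀, Nat.card_units, hcard]
  have hqn1 : 1 ≤ q ^ n := Nat.one_le_pow _ _ (by omega)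
  have hsplit : (q ^ n) ^ 2 - 1 = ((q ^ n - 1) * (q + 1)) * QU q n := by
    rw [sq_sub_one _ hqn1, mul_assoc, mul_comm (q + 1), QU_mul_odd q hodd]
  have hqn2 : q ^ n - 1 ≠ 0 := by
    have : 1 < q ^ n := Nat.one_lt_pow (by omega) (by omega)
    omega
  have hne : (q ^ n - 1) * (q + 1) ≠ 0 := Nat.mul_ne_zero hqn2 (Nat.succ_ne_zero q)
  have horda : orderOf (θ₀ ^ ((q ^ n - 1) * (q + 1))) = QU q n := by
    rw [orderOf_pow_of_dvd hne (by rw [hord, hsplit]; exact dvd_mul_right _ _), hord, hsplit]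
    exact Nat.mul_div_cancel_left _ (Nat.pos_of_ne_zero hne)
  set θu : (FiniteField.Extension F p n)ˣ := θ₀ ^ ((q ^ n - 1) * (q + 1)) with hθu
  have hθQ : (θu : FiniteField.Extension F p n) ^ QU q n = 1 := by
    have := pow_orderOf_eq_one θu
    rw [horda, Units.ext_iff] at this
    simpa using this
  have hθτ : τ (θu : FiniteField.Extension F p n) * θu = 1 := by
    rw [hτ, ← pow_succ, ← QU_mul_odd q hodd, pow_mul, hθQ, one_pow]
  have hnorm : Algebra.norm F (θu : FiniteField.Extension F p n) = 1 := by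
    apply (algebraMap F (FiniteField.Extension F p n)).injective
    rw [FiniteField.algebraMap_norm_eq_pow, map_one,
      Module.natCard_eq_pow_finrank (K := F) (V := FiniteField.Extension F p n), hfr,
      Nat.card_eq_fintype_card, hF]
    have : ((q ^ 2) ^ n - 1) / (q ^ 2 - 1) = QQ (q ^ 2) n := rfl
    rw [this, QQ_sq_odd hq hodd, mul_comm, pow_mul, hθQ, one_pow]
  obtain ⟨M, hM, hMd, hMp⟩ :=
    Cfsg.Agent.Lib.Helper3.UnitaryField.exists_unitary_of_field hF hfr τ hτ2 hτF
      (θu : FiniteField.Extension F p n) hθτ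
  apply singer_of_matrix hF hn M hM (by rw [hMd, hnorm])
  intro j
  rw [← pow_unit_iff θu n horda j]
  constructor
  · rintro ⟨ν, hν⟩
    rw [hMp] at hν
    have h1 : τ ((θu : FiniteField.Extension F p n) ^ j) * (θu : FiniteField.Extension F p n) ^ j
        = 1 := by
      rw [map_pow, ← mul_pow, hθτ, one_pow]
    have h2 : τ ((θu : FiniteField.Extension F p n) ^ j) =
        ((θu : FiniteField.Extension F p n) ^ j) ^ q := by
      rw [hν, hτF, map_pow]
    rw [pow_succ, ← h2]
    exact h1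
  · intro h
    obtain ⟨ν, hν, -⟩ := mem_range_of_pow_q_add_one hF _ h
    exact ⟨ν, (hMp j ν).mpr hν.symm⟩

include hF in
/-- Singer-type element, even dimension. -/
theorem exists_singer_su_even (k : ℕ) (hk : 0 < k) (p : ℕ) [Fact p.Prime]
    [CharP F p] : ∃ g : Cfsg.PSU (k + k) F q, orderOf g = SSU q (k + k) := by
  classical
  have hp : p.Prime := Fact.out
  have hq := two_le_q hF
  have : NeZero k := ⟨by omega⟩
  have heven : Even (k + k) := ⟨k, rfl⟩
  have hfr : Module.finrank F (FiniteField.Extension F p k) = k :=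
    FiniteField.finrank_extension F p k
  have hcard : Nat.card (FiniteField.Extension F p k) = q ^ (k + k) := by
    rw [FiniteField.natCard_extension, Nat.card_eq_fintype_card, hF, ← pow_mul, two_mul]
  obtain ⟨θ₀, hθ₀⟩ := IsCyclic.exists_generator (α := (FiniteField.Extension F p k)ˣ)
  have hord : orderOf θ₀ = q ^ (k + k) - 1 := by
    rw [orderOf_eq_card_of_forall_mem_zpowers hθ₀, Nat.card_units, hcard]
  have hsplit : q ^ (k + k) - 1 = (q + 1) * QU q (k + k) := by
    rw [mul_comm, QU_mul_even q heven]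
  have horda : orderOf (θ₀ ^ (q + 1)) = QU q (k + k) := by
    rw [orderOf_pow_of_dvd (Nat.succ_ne_zero q) (by rw [hord, hsplit]; exact dvd_mul_right _ _),
      hord, hsplit]
    exact Nat.mul_div_cancel_left _ (Nat.succ_pos q)
  set θu : (FiniteField.Extension F p k)ˣ := θ₀ ^ (q + 1) with hθu
  obtain ⟨X, hXd, hXp, -⟩ := exists_matrix_of_algebra hfr (θu : FiniteField.Extension F p k)
  have hN0 : Algebra.norm F (θ₀ : FiniteField.Extension F p k) ≠ 0 := by
    rw [Ne, Algebra.norm_eq_zero_iff]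
    exact θ₀.ne_zero
  have hXd' : X.det = (Algebra.norm F (θ₀ : FiniteField.Extension F p k)) ^ (q + 1) := by
    rw [hXd, hθu, Units.val_pow_eq_pow_val, map_pow]
  have hX0 : X.det ≠ 0 := by
    rw [hXd']
    exact pow_ne_zero _ hN0
  obtain ⟨M, hM, hMd, hMp⟩ :=
    Cfsg.Agent.Lib.Helper17.UnitaryHyp.exists_unitary_hyperbolic hF hk X hX0
  have hMd1 : M.det = 1 := by
    rw [hMd, hXd']
    have : ((Algebra.norm F (θ₀ : FiniteField.Extension F p k)) ^ (q + 1)) ^ q =
        (Algebra.norm F (θ₀ : FiniteField.Extension F p k)) ^ (q + 1) := by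
      rw [← pow_mul, show (q + 1) * q = q ^ 2 + q by ring, pow_add, pow_q_sq hF, pow_succ]
      ring
    rw [this]
    exact mul_inv_cancel₀ (pow_ne_zero _ hN0)
  apply singer_of_matrix hF (by omega) M hM hMd1
  intro j
  rw [← pow_unit_iff θu (k + k) horda j]
  constructor
  · rintro ⟨ν, hν⟩
    rw [hMp, hXp] at hν
    rw [hν.1, ← map_pow, hν.2, map_one]
  · intro h
    obtain ⟨ν, hν, hν1⟩ := mem_range_of_pow_q_add_one hF _ h
    exact ⟨ν, (hMp j ν).mpr ⟨(hXp j ν).mpr hν.symm, hν1⟩⟩

include hF in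
/-- Singer-type element of `PSU_n(q)`. -/
theorem exists_singer_su {n : ℕ} (hn : 2 ≤ n) (p : ℕ) [Fact p.Prime] [CharP F p] :
    ∃ g : Cfsg.PSU n F q, orderOf g = SSU q n := by
  by_cases he : Even n
  · obtain ⟨k, rfl⟩ := he
    exact exists_singer_su_even hF k (by omega) p
  · exact exists_singer_su_odd hF hn he p

end Cfsg.Agent.Lib.Helper15.Spu
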