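import Cfsg.Agent.Lib.Helper15.Spu11

/-!
# Elements of order `r` in `PSU_n(q)` (for S2511)
-/

set_option autoImplicit false
set_option linter.unusedSectionVars false

namespace Cfsg.Agent.Lib.Helper15.Spu

open Matrix Polynomial Cfsg Cfsg.Agent.Lib.Helper6 Cfsg.Agent.Lib.Helper15.Spr

variable {F : Type*} [Field F] [Fintype F] {q : ℕ} (hF : Fintype.card F = q ^ 2)

theorem pres_one {n : ℕ} : Pres q (1 : Matrix (Fin n) (Fin n) F) := by
  intro x y
  rw [Matrix.one_mulVec, Matrix.one_mulVec]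

theorem exists_orderOf_of_dvd_psu {n : ℕ} (g : Cfsg.PSU n F q) {u : ℕ}
    (hu : u ∣ orderOf g) : ∃ g' : Cfsg.PSU n F q, orderOf g' = u :=
  exists_orderOf_of_dvd g (orderOf_pos g) hu

include hF in
/-- An element of order `r` in `PSU_n(q)`. -/
theorem exists_order_r_su {n : ℕ} (hn : 2 ≤ n) (r : ℕ) (hr : r.Prime)
    (hrq : r ∣ q + 1) (hrn : ¬ r ∣ n) :
    ∃ g : Cfsg.PSU n F q, orderOf g = r := by
  obtain ⟨n₂, hn₂⟩ : ∃ n₂, 1 + n₂ = n := ⟨n - 1, by omega⟩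
  have := exists_twist_su hF (n₁ := 1) (n₂ := n₂) one_pos (by omega) r hr hrq
    (by rw [hn₂]; exact hrn) 1 1 pres_one pres_one (by simp) 1 (fun _ _ _ _ => one_dvd _)
  obtain ⟨g, hg⟩ := hasOrd_cast_su hn₂ _ this
  rw [Nat.lcm_one_left] at hg
  exact exists_orderOf_of_dvd_psu g hg

end Cfsg.Agent.Lib.Helper15.Spu
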