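import Cfsg.Agent.Lib.Helper15.Spu1

/-!
# Orders in `PSU_n(q)` and twisting by commuting elements of order `r` (for S2511)
-/

set_option autoImplicit false
set_option linter.unusedSectionVars false

namespace Cfsg.Agent.Lib.Helper15.Spu

open Matrix Cfsg Cfsg.Agent.Lib.Helper6 Cfsg.Agent.Lib.Helper15.Spr

variable {F : Type*} [Field F] [Fintype F] {q : ℕ}

instance finite_psu (n : ℕ) : Finite (Cfsg.PSU n F q) := by
  classical
  unfold Cfsg.PSU
  infer_instance

theorem scalar_eq_smul_one {n : ℕ} (ν : F) :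
    Matrix.scalar (Fin n) ν = ν • (1 : Matrix (Fin n) (Fin n) F) := by
  rw [Matrix.scalar_apply, Matrix.smul_one_eq_diagonal]

/-- The matrix of an element of `SU`. -/
def matOf {n : ℕ} (s : Cfsg.SU n F q) : Matrix (Fin n) (Fin n) F :=
  ((s : Matrix.SpecialLinearGroup (Fin n) F) : Matrix (Fin n) (Fin n) F)

theorem matOf_pres {n : ℕ} (s : Cfsg.SU n F q) : Pres q (matOf s) := s.2

theorem matOf_det {n : ℕ} (s : Cfsg.SU n F q) : (matOf s).det = 1 := s.1.2

theorem matOf_mul {n : ℕ} (s t : Cfsg.SU n F q) : matOf (s * t) = matOf s * matOf t := by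
  unfold matOf
  rw [Subgroup.coe_mul, Matrix.SpecialLinearGroup.coe_mul]

theorem matOf_pow {n : ℕ} (s : Cfsg.SU n F q) (j : ℕ) : matOf (s ^ j) = matOf s ^ j := by
  unfold matOf
  rw [SubmonoidClass.coe_pow, Matrix.SpecialLinearGroup.coe_pow]

theorem matOf_injective {n : ℕ} : Function.Injective (matOf (F := F) (q := q) (n := n)) := by
  intro s t h
  apply Subtype.ext
  apply Subtype.ext
  exact h

/-- Build an element of `SU` from a matrix. -/
theorem exists_su {n : ℕ} (M : Matrix (Fin n) (Fin n) F) (hM : Pres q M) (hd : M.det = 1) :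
    ∃ s : Cfsg.SU n F q, matOf s = M :=
  ⟨⟨⟨M, hd⟩, hM⟩, rfl⟩

variable (hF : Fintype.card F = q ^ 2)

include hF in
/-- A scalar matrix preserving the form has norm one. -/
theorem scalar_pres {n : ℕ} (hn : 0 < n) (ν : F) (h : Pres q (Matrix.scalar (Fin n) ν)) :
    ν ^ (q + 1) = 1 := by
  rw [pres_iff hF, dag_scalar, ← map_mul, ← map_one (Matrix.scalar (Fin n))] at h
  have := congrFun (congrFun h ⟨0, hn⟩) ⟨0, hn⟩
  simp only [Matrix.scalar_apply, Matrix.diagonal_apply_eq] at this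
  rw [pow_succ]
  exact this

include hF in
theorem mem_center_iff_su {n : ℕ} (hn : 2 ≤ n) (s : Cfsg.SU n F q) :
    s ∈ Subgroup.center (Cfsg.SU n F q) ↔ ∃ ν : F, matOf s = Matrix.scalar (Fin n) ν := by
  constructor
  · intro h
    obtain ⟨a, -, -, ha⟩ := Cfsg.Agent.Lib.Helper16.SU_center_scalar hF hn s h
    exact ⟨a, by rw [scalar_eq_smul_one]; exact ha⟩
  · rintro ⟨ν, hν⟩
    have h1 : ν ^ (q + 1) = 1 := by
      apply scalar_pres hF (by omega : 0 < n)
      rw [← hν]
      exact matOf_pres s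
    have h2 : ν ^ n = 1 := by
      have := matOf_det s
      rw [hν, Matrix.scalar_apply, Matrix.det_diagonal, Finset.prod_const, Finset.card_univ,
        Fintype.card_fin] at this
      exact this
    obtain ⟨z, hz, hzm⟩ := Cfsg.Agent.Lib.Helper16.SU_scalar_mem_center (q := q) (n := n) ν h1 h2
    have : z = s := by
      apply matOf_injective
      unfold matOf
      rw [hzm, ← scalar_eq_smul_one]
      exact hν.symm
    rw [← this]
    exact hz

include hF in
theorem orderOf_mk_dvd_iff_su {n : ℕ} (hn : 2 ≤ n) (s : Cfsg.SU n F q) (j : ℕ) :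
    orderOf (QuotientGroup.mk s : Cfsg.PSU n F q) ∣ j ↔
      ∃ ν : F, matOf s ^ j = Matrix.scalar (Fin n) ν := by
  rw [orderOf_dvd_iff_pow_eq_one, ← QuotientGroup.mk_pow, QuotientGroup.eq_one_iff,
    mem_center_iff_su hF hn, matOf_pow]

/-- Commuting elements, one of prime order `r`: some element has order divisible by the lcm. -/
theorem exists_lcm_of_commute {G : Type*} [Group G] (a z : G) (hc : Commute a z) (r : ℕ)
    (hr : r.Prime) (hz : orderOf z = r) (m : ℕ) (hm : m ∣ orderOf a) :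
    ∃ g' : G, Nat.lcm m r ∣ orderOf g' := by
  by_cases hro : r ∣ orderOf a
  · exact ⟨a, Nat.lcm_dvd hm hro⟩
  · have hcop : Nat.Coprime (orderOf a) r := (Nat.Prime.coprime_iff_not_dvd hr).mpr hro |>.symm
    refine ⟨a * z, ?_⟩
    rw [hc.orderOf_mul_eq_mul_orderOf_of_coprime (by rw [hz]; exact hcop), hz]
    exact Nat.lcm_dvd (Dvd.dvd.mul_right hm r) (dvd_mul_left r _)

include hF in
/-- Twisting by a commuting non-scalar element of order `r`. -/
theorem exists_of_commuting_twist {n : ℕ} (hn : 2 ≤ n) (r : ℕ) (hr : r.Prime)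
    (A Z : Matrix (Fin n) (Fin n) F) (hA : Pres q A) (hAd : A.det = 1) (hZ : Pres q Z)
    (hZd : Z.det = 1) (hcomm : A * Z = Z * A) (hZr : Z ^ r = 1)
    (hZns : ¬ ∃ ν : F, Z = Matrix.scalar (Fin n) ν) (m : ℕ)
    (hm : ∀ (j : ℕ) (ν : F), A ^ j = Matrix.scalar (Fin n) ν → m ∣ j) :
    ∃ g' : Cfsg.PSU n F q, Nat.lcm m r ∣ orderOf g' := by
  obtain ⟨a, ha⟩ := exists_su A hA hAd
  obtain ⟨z, hz⟩ := exists_su Z hZ hZd
  have hc : Commute a z := by
    apply matOf_injective
    rw [matOf_mul, matOf_mul, ha, hz, hcomm]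
  have hc' : Commute (QuotientGroup.mk a : Cfsg.PSU n F q) (QuotientGroup.mk z) := by
    change (QuotientGroup.mk a : Cfsg.PSU n F q) * QuotientGroup.mk z =
      QuotientGroup.mk z * QuotientGroup.mk a
    rw [← QuotientGroup.mk_mul, ← QuotientGroup.mk_mul, hc.eq]
  have hzr : (QuotientGroup.mk z : Cfsg.PSU n F q) ^ r = 1 := by
    rw [← orderOf_dvd_iff_pow_eq_one, orderOf_mk_dvd_iff_su hF hn, hz, hZr]
    exact ⟨1, (map_one _).symm⟩
  have hz1 : (QuotientGroup.mk z : Cfsg.PSU n F q) ≠ 1 := by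
    intro h
    rw [QuotientGroup.eq_one_iff, mem_center_iff_su hF hn, hz] at h
    exact hZns h
  have hzo : orderOf (QuotientGroup.mk z : Cfsg.PSU n F q) = r := by
    have : Fact r.Prime := ⟨hr⟩
    exact orderOf_eq_prime hzr hz1
  have hma : m ∣ orderOf (QuotientGroup.mk a : Cfsg.PSU n F q) := by
    have h3 : orderOf (QuotientGroup.mk a : Cfsg.PSU n F q) ∣
        orderOf (QuotientGroup.mk a : Cfsg.PSU n F q) := dvd_rfl
    rw [orderOf_mk_dvd_iff_su hF hn, ha] at h3
    obtain ⟨ν, hν⟩ := h3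
    exact hm _ ν hν
  exact exists_lcm_of_commute _ _ hc' r hr hzo m hma

end Cfsg.Agent.Lib.Helper15.Spu
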