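import Cfsg.Agent.Lib.Helper15.Spu2

/-!
# Block-diagonal unitary matrices and their twists (for S2511)
-/

set_option autoImplicit false
set_option linter.unusedSectionVars false

namespace Cfsg.Agent.Lib.Helper15.Spu

open Matrix Cfsg Cfsg.Agent.Lib.Helper6 Cfsg.Agent.Lib.Helper15.Spr

variable {F : Type*} [Field F] [Fintype F] {q : ℕ} (hF : Fintype.card F = q ^ 2)

theorem dag_blk {n₁ n₂ : ℕ} (A₁ : Matrix (Fin n₁) (Fin n₁) F) (A₂ : Matrix (Fin n₂) (Fin n₂) F) :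
    dag hF (blk A₁ A₂) = blk (dag hF A₁) (dag hF A₂) := by
  ext i j
  rw [dag_apply]
  unfold blk
  simp only [Matrix.coe_reindexAlgEquiv, Matrix.reindex_apply, Matrix.submatrix_apply]
  rcases hi : finSumFinEquiv.symm i with a | a <;> rcases hj : finSumFinEquiv.symm j with b | b <;>
    simp [dag_apply, zero_pow (q_ne_zero hF)]

include hF in
theorem pres_blk {n₁ n₂ : ℕ} (A₁ : Matrix (Fin n₁) (Fin n₁) F) (A₂ : Matrix (Fin n₂) (Fin n₂) F)
    (h1 : Pres q A₁) (h2 : Pres q A₂) : Pres q (blk A₁ A₂) := by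
  rw [pres_iff hF] at h1 h2 ⊢
  rw [dag_blk, blk_mul, h1, h2, blk_one]

include hF in
theorem pres_scalar {n : ℕ} (ν : F) (h : ν ^ (q + 1) = 1) : Pres q (Matrix.scalar (Fin n) ν) := by
  rw [pres_iff hF, dag_scalar, ← map_mul, ← pow_succ, h, map_one]

include hF in
/-- An element of `Fˣ` of order `r` for `r ∣ q + 1`. -/
theorem exists_rho (r : ℕ) (hr : r.Prime) (hrq : r ∣ q + 1) :
    ∃ ρ : Fˣ, orderOf ρ = r ∧ (ρ : F) ^ (q + 1) = 1 := by
  have hq := two_le_q hF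
  have h1 : r ∣ Fintype.card F - 1 := by
    rw [hF]
    have : q ^ 2 - 1 = (q - 1) * (q + 1) := by
      obtain ⟨t, rfl⟩ : ∃ t, q = t + 1 := ⟨q - 1, by omega⟩
      simp only [Nat.add_sub_cancel]
      have : (t + 1) ^ 2 = t * (t + 1 + 1) + 1 := by ring
      omega
    rw [this]
    exact Dvd.dvd.mul_left hrq _
  obtain ⟨ρ, hρ⟩ := exists_unit_orderOf (F := F) r hr h1
  refine ⟨ρ, hρ, ?_⟩
  have : ρ ^ (q + 1) = 1 := by
    rw [← orderOf_dvd_iff_pow_eq_one, hρ]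
    exact hrq
  have h3 := congrArg (fun u : Fˣ => (u : F)) this
  simpa using h3

include hF in
/-- **Twist lemma**, unitary version. -/
theorem exists_twist_su {n₁ n₂ : ℕ} (h1 : 0 < n₁) (h2 : 0 < n₂) (r : ℕ) (hr : r.Prime)
    (hrq : r ∣ q + 1) (hrn : ¬ r ∣ n₁ + n₂)
    (A₁ : Matrix (Fin n₁) (Fin n₁) F) (A₂ : Matrix (Fin n₂) (Fin n₂) F)
    (hP1 : Pres q A₁) (hP2 : Pres q A₂) (hdet : A₁.det * A₂.det = 1) (m : ℕ)
    (hm : ∀ (j : ℕ) (ν : F), A₁ ^ j = Matrix.scalar (Fin n₁) ν → A₂ ^ j = Matrix.scalar (Fin n₂) ν →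
      m ∣ j) :
    ∃ g' : Cfsg.PSU (n₁ + n₂) F q, Nat.lcm m r ∣ orderOf g' := by
  classical
  obtain ⟨ρ, hρ, hρq⟩ := exists_rho hF r hr hrq
  let ζ₁ : F := ((ρ ^ n₂ : Fˣ) : F)
  let ζ₂ : F := (((ρ⁻¹) ^ n₁ : Fˣ) : F)
  have hζ : ζ₁ ^ n₁ * ζ₂ ^ n₂ = 1 := by
    have : ((ρ ^ n₂) ^ n₁ * ((ρ⁻¹) ^ n₁) ^ n₂ : Fˣ) = 1 := by
      rw [← pow_mul, ← pow_mul, inv_pow, mul_comm n₂ n₁, mul_inv_cancel]
    have h3 := congrArg (fun u : Fˣ => (u : F)) this
    simpa [ζ₁, ζ₂] using h3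
  have hρq' : ρ ^ (q + 1) = 1 := by
    apply Units.ext
    rw [Units.val_pow_eq_pow_val, hρq, Units.val_one]
  have hζ1q : ζ₁ ^ (q + 1) = 1 := by
    have : ((ρ ^ n₂) ^ (q + 1) : Fˣ) = 1 := by
      rw [← pow_mul, mul_comm, pow_mul, hρq', one_pow]
    have h3 := congrArg (fun u : Fˣ => (u : F)) this
    simpa [ζ₁] using h3
  have hζ2q : ζ₂ ^ (q + 1) = 1 := by
    have : (((ρ⁻¹) ^ n₁) ^ (q + 1) : Fˣ) = 1 := by
      rw [← pow_mul, mul_comm, pow_mul, inv_pow, hρq', inv_one, one_pow]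
    have h3 := congrArg (fun u : Fˣ => (u : F)) this
    simpa [ζ₂] using h3
  have e1 : ζ₁ ^ r = 1 := by
    have : ((ρ ^ n₂) ^ r : Fˣ) = 1 := by
      rw [← pow_mul, mul_comm, pow_mul, ← hρ, pow_orderOf_eq_one, one_pow]
    have h3 := congrArg (fun u : Fˣ => (u : F)) this
    simpa [ζ₁] using h3
  have e2 : ζ₂ ^ r = 1 := by
    have : (((ρ⁻¹) ^ n₁) ^ r : Fˣ) = 1 := by
      rw [← pow_mul, mul_comm, pow_mul, inv_pow, ← hρ, pow_orderOf_eq_one, inv_one, one_pow]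
    have h3 := congrArg (fun u : Fˣ => (u : F)) this
    simpa [ζ₂] using h3
  apply exists_of_commuting_twist hF (by omega) r hr (blk A₁ A₂)
    (blk (Matrix.scalar (Fin n₁) ζ₁) (Matrix.scalar (Fin n₂) ζ₂))
    (pres_blk hF _ _ hP1 hP2) (by rw [det_blk, hdet])
    (pres_blk hF _ _ (pres_scalar hF _ hζ1q) (pres_scalar hF _ hζ2q))
  · rw [det_blk, Matrix.scalar_apply, Matrix.scalar_apply, Matrix.det_diagonal, Matrix.det_diagonal,
      Finset.prod_const, Finset.prod_const, Finset.card_univ, Finset.card_univ, Fintype.card_fin,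
      Fintype.card_fin, hζ]
  · rw [blk_mul, blk_mul]
    congr 1
    · exact ((Matrix.scalar_commute ζ₁ (fun _ => Commute.all _ _) A₁).symm).eq
    · exact ((Matrix.scalar_commute ζ₂ (fun _ => Commute.all _ _) A₂).symm).eq
  · rw [blk_pow, ← map_pow, ← map_pow, e1, e2, map_one, map_one, blk_one]
  · rintro ⟨ν, hν⟩
    rw [blk_eq_scalar_iff] at hν
    obtain ⟨f1, f2⟩ := hν
    have i1 : ζ₁ = ν := by
      have := congrFun (congrFun f1 ⟨0, h1⟩) ⟨0, h1⟩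
      simpa [Matrix.scalar_apply] using this
    have i2 : ζ₂ = ν := by
      have := congrFun (congrFun f2 ⟨0, h2⟩) ⟨0, h2⟩
      simpa [Matrix.scalar_apply] using this
    have i3 : (ρ ^ n₂ : Fˣ) = (ρ⁻¹) ^ n₁ := by
      apply Units.ext
      change ζ₁ = ζ₂
      rw [i1, i2]
    have i4 : ρ ^ (n₁ + n₂) = 1 := by
      rw [pow_add, i3, inv_pow, mul_inv_cancel]
    have i5 := orderOf_dvd_of_pow_eq_one i4
    rw [hρ] at i5
    exact hrn i5
  · intro j ν hj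
    rw [blk_pow, blk_eq_scalar_iff] at hj
    exact hm j ν hj.1 hj.2

theorem hasOrd_cast_su {n n' : ℕ} (h : n = n') (v : ℕ)
    (H : ∃ g : Cfsg.PSU n F q, v ∣ orderOf g) : ∃ g : Cfsg.PSU n' F q, v ∣ orderOf g := by
  subst h
  exact H

end Cfsg.Agent.Lib.Helper15.Spu
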