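import Cfsg.Agent.Lib.Helper15.Spu3

/-!
# Dual polynomials and the structure of the minimal polynomial of a unitary matrix (for S2511)
-/

set_option autoImplicit false
set_option linter.unusedSectionVars false

namespace Cfsg.Agent.Lib.Helper15.Spu

open Matrix Polynomial Cfsg Cfsg.Agent.Lib.Helper6 Cfsg.Agent.Lib.Helper15.Spr

variable {F : Type*} [Field F] [Fintype F] {q : ℕ} (hF : Fintype.card F = q ^ 2)

/-- The dual of a polynomial: `σ(g(0))⁻¹ · x^deg · ḡ(1/x)`. -/
noncomputable def dualP (g : F[X]) : F[X] :=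
  C ((conjQ hF (g.coeff 0))⁻¹) * (g.map (conjQ hF)).reverse

section dualP

theorem conjQ_ne_zero {a : F} (ha : a ≠ 0) : conjQ hF a ≠ 0 :=
  (map_ne_zero (conjQ hF)).mpr ha

theorem map_coeff_zero (g : F[X]) : (g.map (conjQ hF)).coeff 0 = conjQ hF (g.coeff 0) :=
  Polynomial.coeff_map _ _

theorem natDegree_map_conj (g : F[X]) : (g.map (conjQ hF)).natDegree = g.natDegree :=
  Polynomial.natDegree_map _

theorem natDegree_reverse_map {g : F[X]} (hg : g.coeff 0 ≠ 0) :
    (g.map (conjQ hF)).reverse.natDegree = g.natDegree := by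
  rw [Polynomial.reverse_natDegree, natDegree_map_conj]
  have : (g.map (conjQ hF)).natTrailingDegree = 0 := by
    rw [Polynomial.natTrailingDegree_eq_zero]
    right
    rw [map_coeff_zero]
    exact conjQ_ne_zero hF hg
  rw [this, Nat.sub_zero]

theorem dualP_mul (g h : F[X]) : dualP hF (g * h) = dualP hF g * dualP hF h := by
  unfold dualP
  rw [Polynomial.mul_coeff_zero, map_mul, mul_inv, C_mul, Polynomial.map_mul,
    Polynomial.reverse_mul_of_domain]
  ring

theorem dualP_one : dualP hF (1 : F[X]) = 1 := by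
  have h : (1 : F[X]).reverse = 1 := by rw [← Polynomial.C_1, Polynomial.reverse_C]
  unfold dualP
  rw [Polynomial.map_one, h, Polynomial.coeff_one_zero, map_one, inv_one, C_1, one_mul]

theorem dualP_pow (g : F[X]) (e : ℕ) : dualP hF (g ^ e) = dualP hF g ^ e := by
  induction e with
  | zero => rw [pow_zero, pow_zero, dualP_one]
  | succ e ih => rw [pow_succ, dualP_mul, ih, pow_succ]

theorem natDegree_dualP {g : F[X]} (hg : g.coeff 0 ≠ 0) : (dualP hF g).natDegree = g.natDegree := by
  unfold dualP
  rw [Polynomial.natDegree_C_mul (inv_ne_zero (conjQ_ne_zero hF hg)), natDegree_reverse_map hF hg]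

theorem dualP_monic {g : F[X]} (hg : g.coeff 0 ≠ 0) : (dualP hF g).Monic := by
  unfold dualP Polynomial.Monic
  rw [Polynomial.leadingCoeff_mul, Polynomial.leadingCoeff_C, Polynomial.reverse_leadingCoeff,
    Polynomial.trailingCoeff_eq_coeff_zero (by rw [map_coeff_zero]; exact conjQ_ne_zero hF hg),
    map_coeff_zero]
  exact inv_mul_cancel₀ (conjQ_ne_zero hF hg)

theorem coeff_zero_dualP {g : F[X]} (hm : g.Monic) :
    (dualP hF g).coeff 0 = (conjQ hF (g.coeff 0))⁻¹ := by
  unfold dualP
  rw [Polynomial.mul_coeff_zero, Polynomial.coeff_C_zero, Polynomial.coeff_zero_reverse,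
    (hm.map (conjQ hF)).leadingCoeff, mul_one]

theorem coeff_zero_dualP_ne {g : F[X]} (hm : g.Monic) (hg : g.coeff 0 ≠ 0) :
    (dualP hF g).coeff 0 ≠ 0 := by
  rw [coeff_zero_dualP hF hm]
  exact inv_ne_zero (conjQ_ne_zero hF hg)

theorem dualP_dualP {g : F[X]} (hm : g.Monic) (hg : g.coeff 0 ≠ 0) : dualP hF (dualP hF g) = g := by
  have h1 : ((g.map (conjQ hF)).reverse).map (conjQ hF) = g.reverse := by
    unfold Polynomial.reverse
    rw [← Polynomial.reflect_map, natDegree_map_conj]
    congr 1
    ext i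
    rw [Polynomial.coeff_map, Polynomial.coeff_map]
    exact conjQ_conjQ hF _
  have h2 : g.reverse.reverse = g := by
    have hd : g.reverse.natDegree = g.natDegree := by
      rw [Polynomial.reverse_natDegree]
      have : g.natTrailingDegree = 0 := by
        rw [Polynomial.natTrailingDegree_eq_zero]
        exact Or.inr hg
      rw [this, Nat.sub_zero]
    have e : g.reverse.reverse = Polynomial.reflect g.reverse.natDegree g.reverse := rfl
    rw [e, hd]
    change Polynomial.reflect g.natDegree (Polynomial.reflect g.natDegree g) = g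
    exact Polynomial.reflect_reflect
  have e1 : dualP hF (dualP hF g) = C ((conjQ hF ((dualP hF g).coeff 0))⁻¹) *
      ((dualP hF g).map (conjQ hF)).reverse := rfl
  have e2 : (dualP hF g).map (conjQ hF) = C (g.coeff 0)⁻¹ * g.reverse := by
    unfold dualP
    rw [Polynomial.map_mul, Polynomial.map_C, h1, map_inv₀ (conjQ hF), conjQ_conjQ]
  rw [e1, e2, coeff_zero_dualP hF hm, map_inv₀ (conjQ hF), conjQ_conjQ, inv_inv,
    Polynomial.reverse_mul_of_domain, Polynomial.reverse_C, h2, ← mul_assoc, ← C_mul,
    mul_inv_cancel₀ hg, C_1, one_mul]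

theorem coeff_zero_ne_of_dvd {g h : F[X]} (hgh : g ∣ h) (hh : h.coeff 0 ≠ 0) : g.coeff 0 ≠ 0 := by
  obtain ⟨k, rfl⟩ := hgh
  rw [Polynomial.mul_coeff_zero] at hh
  exact left_ne_zero_of_mul hh

theorem dualP_dvd {g h : F[X]} (hgh : g ∣ h) : dualP hF g ∣ dualP hF h := by
  obtain ⟨k, rfl⟩ := hgh
  rw [dualP_mul]
  exact dvd_mul_right _ _

theorem dualP_irreducible {f : F[X]} (hm : f.Monic) (hf : Irreducible f) (hf0 : f.coeff 0 ≠ 0) :
    Irreducible (dualP hF f) := by
  have hd : (dualP hF f).natDegree = f.natDegree := natDegree_dualP hF hf0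
  have hpos : 0 < f.natDegree := hf.natDegree_pos
  rw [irreducible_iff]
  constructor
  · intro hu
    have := Polynomial.natDegree_eq_zero_of_isUnit hu
    omega
  · intro a b hab
    have h0 : (dualP hF f).coeff 0 ≠ 0 := coeff_zero_dualP_ne hF hm hf0
    have ha0 : a.coeff 0 ≠ 0 := coeff_zero_ne_of_dvd ⟨b, hab⟩ h0
    have hb0 : b.coeff 0 ≠ 0 := coeff_zero_ne_of_dvd ⟨a, by rw [hab, mul_comm]⟩ h0
    have h1 : f = dualP hF a * dualP hF b := by
      rw [← dualP_mul, ← hab, dualP_dualP hF hm hf0]
    rcases hf.isUnit_or_isUnit h1 with hu | hu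
    · left
      have h2 := Polynomial.natDegree_eq_zero_of_isUnit hu
      rw [natDegree_dualP hF ha0] at h2
      have ha : a ≠ 0 := by
        rintro rfl
        simp at ha0
      exact Polynomial.isUnit_iff_degree_eq_zero.mpr (by
        rw [Polynomial.degree_eq_natDegree ha, h2]; rfl)
    · right
      have h2 := Polynomial.natDegree_eq_zero_of_isUnit hu
      rw [natDegree_dualP hF hb0] at h2
      have hb : b ≠ 0 := by
        rintro rfl
        simp at hb0
      exact Polynomial.isUnit_iff_degree_eq_zero.mpr (by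
        rw [Polynomial.degree_eq_natDegree hb, h2]; rfl)

end dualP

section eval

variable {n : ℕ}

/-- Evaluating a reflected polynomial at an invertible matrix. -/
theorem aeval_reflect (A A' : Matrix (Fin n) (Fin n) F) (h1 : A' * A = 1) (N : ℕ) (g : F[X])
    (hg : g.natDegree ≤ N) :
    Polynomial.aeval A (g.reflect N) = Polynomial.aeval A' g * A ^ N := by
  have h2 : A * A' = 1 := mul_eq_one_comm.mp h1
  have hc : Commute A' A := by
    change A' * A = A * A'
    rw [h1, h2]
  have hpow : ∀ k, A' ^ k * A ^ k = 1 := by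
    intro k
    rw [← hc.mul_pow, h1, one_pow]
  refine Polynomial.induction_with_natDegree_le
    (fun g => Polynomial.aeval A (g.reflect N) = Polynomial.aeval A' g * A ^ N) N ?_ ?_ ?_ g hg
  · simp
  · intro k r _ hk
    rw [Polynomial.reflect_C_mul_X_pow, Polynomial.revAt_le hk]
    simp only [map_mul, map_pow, Polynomial.aeval_X, Polynomial.aeval_C]
    rw [mul_assoc]
    congr 1
    have h3 : A ^ N = A ^ k * A ^ (N - k) := by
      rw [← pow_add]
      congr 1
      omega
    rw [h3, ← mul_assoc, hpow, one_mul]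
  · intro f g _ _ hf hg'
    rw [Polynomial.reflect_add, map_add, map_add, add_mul, hf, hg']

include hF in
/-- The value of the dual polynomial at a unitary matrix. -/
theorem aeval_dualP (A : Matrix (Fin n) (Fin n) F) (hA : dag hF A * A = 1) (g : F[X]) :
    Polynomial.aeval A (dualP hF g) =
      ((conjQ hF (g.coeff 0))⁻¹) • (dag hF (Polynomial.aeval A g) * A ^ g.natDegree) := by
  unfold dualP
  rw [map_mul, Polynomial.aeval_C, Algebra.algebraMap_eq_smul_one, smul_mul_assoc, one_mul]
  congr 1
  unfold Polynomial.reverse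
  rw [aeval_reflect A (dag hF A) hA _ _ le_rfl, natDegree_map_conj, dag_aeval]

include hF in
theorem aeval_dualP_eq_zero_iff (A : Matrix (Fin n) (Fin n) F) (hA : dag hF A * A = 1) {g : F[X]}
    (hg : g.coeff 0 ≠ 0) : Polynomial.aeval A (dualP hF g) = 0 ↔ Polynomial.aeval A g = 0 := by
  rw [aeval_dualP hF A hA]
  have hAu : IsUnit (A ^ g.natDegree) := by
    apply IsUnit.pow
    exact IsUnit.of_mul_eq_one _ (mul_eq_one_comm.mp hA)
  constructor
  · intro h
    rw [smul_eq_zero] at h
    rcases h with h | h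
    · exact absurd h (inv_ne_zero (conjQ_ne_zero hF hg))
    · have h3 : dag hF (Polynomial.aeval A g) = 0 := by
        obtain ⟨u, hu⟩ := hAu
        rw [← hu] at h
        have := congrArg (fun Y => Y * (↑u⁻¹ : Matrix (Fin n) (Fin n) F)) h
        simpa [mul_assoc] using this
      apply dag_injective hF
      rw [h3, dag_zero]
  · intro h
    rw [h, dag_zero, zero_mul, smul_zero]

include hF in
/-- The minimal polynomial of a unitary matrix is self-dual. -/
theorem dualP_minpoly (hn : 0 < n) (A : Matrix (Fin n) (Fin n) F) (hA : dag hF A * A = 1) :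
    dualP hF (minpoly F A) = minpoly F A := by
  have hdet : A.det ≠ 0 := by
    intro h0
    have := congrArg Matrix.det hA
    rw [Matrix.det_mul, h0, mul_zero, Matrix.det_one] at this
    exact zero_ne_one this
  obtain ⟨hmonic, -, -, hc0, -⟩ := minpoly_facts hn A hdet
  have h1 : Polynomial.aeval A (dualP hF (minpoly F A)) = 0 := by
    rw [aeval_dualP_eq_zero_iff hF A hA hc0]
    exact minpoly.aeval F A
  have h2 : minpoly F A ∣ dualP hF (minpoly F A) := minpoly.dvd F A h1
  exact Polynomial.eq_of_monic_of_dvd_of_natDegree_le hmonic (dualP_monic hF hc0) h2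
    (by rw [natDegree_dualP hF hc0])

end eval

end Cfsg.Agent.Lib.Helper15.Spu
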