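import Cfsg.Agent.Lib.Helper15.Spu5

/-!
# The decomposable case: twisting a unitary matrix by idempotents of `F[A]` (for S2511)
-/

set_option autoImplicit false
set_option linter.unusedSectionVars false

namespace Cfsg.Agent.Lib.Helper15.Spu

open Matrix Polynomial Cfsg Cfsg.Agent.Lib.Helper6 Cfsg.Agent.Lib.Helper15.Spr

section idem

variable {F : Type*} [Field F] {R : Type*} [Ring R] [Algebra F R]

theorem idem_mul (E₁ E₂ : R) (h12 : E₁ * E₂ = 0) (h21 : E₂ * E₁ = 0) (h11 : E₁ * E₁ = E₁)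
    (h22 : E₂ * E₂ = E₂) (x y x' y' : F) :
    (x • E₁ + y • E₂) * (x' • E₁ + y' • E₂) = (x * x') • E₁ + (y * y') • E₂ := by
  simp only [add_mul, mul_add, smul_mul_assoc, mul_smul_comm, h12, h21, h11, h22, smul_zero,
    add_zero, zero_add, smul_smul]
  rw [mul_comm x' x, mul_comm y' y]

theorem idem_pow (E₁ E₂ : R) (h12 : E₁ * E₂ = 0) (h21 : E₂ * E₁ = 0) (h11 : E₁ * E₁ = E₁)
    (h22 : E₂ * E₂ = E₂) (hs : E₁ + E₂ = 1) (x y : F) (t : ℕ) :
    (x • E₁ + y • E₂) ^ t = (x ^ t) • E₁ + (y ^ t) • E₂ := by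
  induction t with
  | zero => simp [hs]
  | succ t ih => rw [pow_succ, ih, idem_mul E₁ E₂ h12 h21 h11 h22, ← pow_succ, ← pow_succ]

end idem

variable {F : Type*} [Field F] [Fintype F] {q : ℕ} (hF : Fintype.card F = q ^ 2)

theorem aeval_eq_zero_of_dvd {n : ℕ} (A : Matrix (Fin n) (Fin n) F) {P : F[X]}
    (h : minpoly F A ∣ P) : Polynomial.aeval A P = 0 := by
  obtain ⟨K, rfl⟩ := h
  rw [map_mul, minpoly.aeval, zero_mul]

theorem aeval_commute {n : ℕ} (A : Matrix (Fin n) (Fin n) F) (P Q : F[X]) :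
    Polynomial.aeval A P * Polynomial.aeval A Q = Polynomial.aeval A Q * Polynomial.aeval A P := by
  rw [← map_mul, ← map_mul, mul_comm]

include hF in
/-- **The decomposable case.** -/
theorem decomposable_twist {n : ℕ} (hn : 2 ≤ n) (r : ℕ) (hr : r.Prime) (hrq : r ∣ q + 1)
    (hrn : ¬ r ∣ n) (A : Matrix (Fin n) (Fin n) F) (hA : Pres q A) (hAd : A.det = 1)
    (g₁ g₂ : F[X]) (hm1 : g₁.Monic) (hm2 : g₂.Monic) (hcop : IsCoprime g₁ g₂)
    (hd1 : 0 < g₁.natDegree) (hd2 : 0 < g₂.natDegree) (hμ : minpoly F A = g₁ * g₂)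
    (hs1 : dualP hF g₁ = g₁) (hs2 : dualP hF g₂ = g₂) (m : ℕ)
    (hm : ∀ (j : ℕ) (ν : F), A ^ j = Matrix.scalar (Fin n) ν → m ∣ j) :
    ∃ g' : Cfsg.PSU n F q, Nat.lcm m r ∣ orderOf g' := by
  classical
  have hn0 : 0 < n := by omega
  have hA' : dag hF A * A = 1 := (pres_iff hF A).mp hA
  obtain ⟨hmonic, -, -, hc0, -⟩ := minpoly_facts hn0 A (by rw [hAd]; exact one_ne_zero)
  have hg10 : g₁.coeff 0 ≠ 0 := coeff_zero_ne_of_dvd ⟨g₂, hμ⟩ hc0
  have hg20 : g₂.coeff 0 ≠ 0 := coeff_zero_ne_of_dvd ⟨g₁, by rw [hμ, mul_comm]⟩ hc0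
  obtain ⟨a, b, hab⟩ := hcop
  -- the idempotents
  set E₁ : Matrix (Fin n) (Fin n) F := Polynomial.aeval A (b * g₂) with hE₁
  set E₂ : Matrix (Fin n) (Fin n) F := Polynomial.aeval A (a * g₁) with hE₂
  have hs : E₁ + E₂ = 1 := by
    rw [hE₁, hE₂, ← map_add, add_comm, hab, map_one]
  have h12 : E₁ * E₂ = 0 := by
    rw [hE₁, hE₂, ← map_mul]
    apply aeval_eq_zero_of_dvd
    rw [hμ]
    exact ⟨a * b, by ring⟩
  have h21 : E₂ * E₁ = 0 := by rw [hE₁, hE₂, aeval_commute, ← hE₁, ← hE₂, h12]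
  have h11 : E₁ * E₁ = E₁ := by
    have : E₁ * (E₁ + E₂) = E₁ := by rw [hs, mul_one]
    rwa [mul_add, h12, add_zero] at this
  have h22 : E₂ * E₂ = E₂ := by
    have : E₂ * (E₁ + E₂) = E₂ := by rw [hs, mul_one]
    rwa [mul_add, h21, zero_add] at this
  have hG1 : Polynomial.aeval A g₁ * E₁ = 0 := by
    rw [hE₁, ← map_mul]
    apply aeval_eq_zero_of_dvd
    rw [hμ]
    exact ⟨b, by ring⟩
  have hG2 : Polynomial.aeval A g₂ * E₂ = 0 := by
    rw [hE₂, ← map_mul]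
    apply aeval_eq_zero_of_dvd
    rw [hμ]
    exact ⟨a, by ring⟩
  have hE1ne : E₁ ≠ 0 := by
    intro h0
    have h1 : E₂ = 1 := by rw [← hs, h0, zero_add]
    rw [h1, mul_one] at hG2
    have h2 : minpoly F A ∣ g₂ := minpoly.dvd F A hG2
    have h3 := Polynomial.natDegree_le_of_dvd h2 hm2.ne_zero
    rw [hμ, hm1.natDegree_mul hm2] at h3
    omega
  have hE2ne : E₂ ≠ 0 := by
    intro h0
    have h1 : E₁ = 1 := by rw [← hs, h0, add_zero]
    rw [h1, mul_one] at hG1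
    have h2 : minpoly F A ∣ g₁ := minpoly.dvd F A hG1
    have h3 := Polynomial.natDegree_le_of_dvd h2 hm1.ne_zero
    rw [hμ, hm1.natDegree_mul hm2] at h3
    omega
  -- self-adjointness of the idempotents
  have hkey : ∀ g : F[X], g.coeff 0 ≠ 0 → dualP hF g = g → ∀ E : Matrix (Fin n) (Fin n) F,
      Polynomial.aeval A g * E = 0 → dag hF E * Polynomial.aeval A g = 0 := by
    intro g hg0 hsd E hE
    have h1 := aeval_dualP hF A hA' g
    rw [hsd] at h1
    have h2 : dag hF E * dag hF (Polynomial.aeval A g) = 0 := by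
      rw [← dag_mul, hE, dag_zero]
    rw [h1, mul_smul_comm, ← mul_assoc, h2, zero_mul, smul_zero]
  have hD1 : dag hF E₁ * Polynomial.aeval A g₁ = 0 := hkey g₁ hg10 hs1 E₁ hG1
  have hD2 : dag hF E₂ * Polynomial.aeval A g₂ = 0 := hkey g₂ hg20 hs2 E₂ hG2
  have hdE2 : dag hF E₂ = 1 - dag hF E₁ := by
    have := congrArg (dag hF) hs
    rw [dag_add, dag_one] at this
    rw [← this]
    abel
  have hone : (1 : Matrix (Fin n) (Fin n) F) =
      Polynomial.aeval A g₁ * Polynomial.aeval A a + Polynomial.aeval A g₂ * Polynomial.aeval A b := by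
    rw [← map_mul, ← map_mul, ← map_add, mul_comm g₁, mul_comm g₂, hab, map_one]
  have hdag1 : dag hF E₁ = E₁ := by
    have hz : (dag hF E₁ - E₁) = 0 := by
      have e1 : (dag hF E₁ - E₁) * Polynomial.aeval A g₁ = 0 := by
        rw [sub_mul, hD1, aeval_commute, hG1, sub_zero]
      have e2 : (dag hF E₁ - E₁) * Polynomial.aeval A g₂ = 0 := by
        have h3 : (1 - dag hF E₁) * Polynomial.aeval A g₂ = 0 := by rw [← hdE2]; exact hD2
        have h4 : (1 - E₁) * Polynomial.aeval A g₂ = 0 := by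
          have : (1 : Matrix (Fin n) (Fin n) F) - E₁ = E₂ := by rw [← hs]; abel
          rw [this, aeval_commute, hG2]
        have : dag hF E₁ - E₁ = (1 - E₁) - (1 - dag hF E₁) := by abel
        rw [this, sub_mul, h3, h4, sub_zero]
      calc dag hF E₁ - E₁ = (dag hF E₁ - E₁) * 1 := (mul_one _).symm
        _ = 0 := by rw [hone, mul_add, ← mul_assoc, ← mul_assoc, e1, e2, zero_mul, zero_mul,
            add_zero]
    exact sub_eq_zero.mp hz
  have hdag2 : dag hF E₂ = E₂ := by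
    rw [hdE2, hdag1, ← hs]
    abel
  -- the twisting elements
  obtain ⟨ρ, hρ, hρq⟩ := exists_rho hF r hr hrq
  have hρr : (ρ : F) ^ r = 1 := by
    have : ρ ^ r = 1 := by rw [← hρ]; exact pow_orderOf_eq_one ρ
    have h3 := congrArg (fun u : Fˣ => (u : F)) this
    simpa using h3
  have hprim : IsPrimitiveRoot (ρ : F) r := by
    have := IsPrimitiveRoot.orderOf ρ
    rw [hρ] at this
    exact this.map_of_injective (f := Units.coeHom F) Units.val_injective
  have : NeZero r := ⟨hr.ne_zero⟩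
  let u : F → F → Matrix (Fin n) (Fin n) F := fun x y => x • E₁ + y • E₂
  have hu_mul : ∀ x y x' y', u x y * u x' y' = u (x * x') (y * y') := fun x y x' y' =>
    idem_mul E₁ E₂ h12 h21 h11 h22 x y x' y'
  have hu_pow : ∀ x y t, u x y ^ t = u (x ^ t) (y ^ t) := fun x y t =>
    idem_pow E₁ E₂ h12 h21 h11 h22 hs x y t
  have hu_one : u 1 1 = 1 := by
    change (1 : F) • E₁ + (1 : F) • E₂ = 1
    rw [one_smul, one_smul, hs]
  have hu_dag : ∀ x y, dag hF (u x y) = u (x ^ q) (y ^ q) := by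
    intro x y
    change dag hF (x • E₁ + y • E₂) = _
    rw [dag_add, dag_smul, dag_smul, hdag1, hdag2]
  have hu_pres : ∀ x y, x ^ (q + 1) = 1 → y ^ (q + 1) = 1 → Pres q (u x y) := by
    intro x y hx hy
    rw [pres_iff hF, hu_dag, hu_mul, ← pow_succ, ← pow_succ, hx, hy, hu_one]
  have hu_comm : ∀ x y, A * u x y = u x y * A := by
    intro x y
    have hAX : A = Polynomial.aeval A (X : F[X]) := (Polynomial.aeval_X A).symm
    change A * (x • E₁ + y • E₂) = (x • E₁ + y • E₂) * A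
    rw [mul_add, add_mul, mul_smul_comm, mul_smul_comm, smul_mul_assoc, smul_mul_assoc]
    congr 2
    · conv_lhs => rw [hAX]
      conv_rhs => rw [hAX]
      rw [hE₁, aeval_commute]
    · conv_lhs => rw [hAX]
      conv_rhs => rw [hAX]
      rw [hE₂, aeval_commute]
  have hu_scalar : ∀ x y (ν : F), u x y = Matrix.scalar (Fin n) ν → x = ν ∧ y = ν := by
    intro x y ν h
    have h1 : u x y = u ν ν := by
      rw [h, scalar_eq_smul_one, ← hs, smul_add]
    constructor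
    · have := congrArg (fun Y => Y * E₁) h1
      change (x • E₁ + y • E₂) * E₁ = (ν • E₁ + ν • E₂) * E₁ at this
      rw [add_mul, add_mul, smul_mul_assoc, smul_mul_assoc, smul_mul_assoc, smul_mul_assoc, h11, h21,
        smul_zero, smul_zero, add_zero, add_zero, ← sub_eq_zero, ← sub_smul, smul_eq_zero] at this
      rcases this with h | h
      · exact sub_eq_zero.mp h
      · exact absurd h hE1ne
    · have := congrArg (fun Y => Y * E₂) h1
      change (x • E₁ + y • E₂) * E₂ = (ν • E₁ + ν • E₂) * E₂ at this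
      rw [add_mul, add_mul, smul_mul_assoc, smul_mul_assoc, smul_mul_assoc, smul_mul_assoc, h22, h12,
        smul_zero, smul_zero, zero_add, zero_add, ← sub_eq_zero, ← sub_smul, smul_eq_zero] at this
      rcases this with h | h
      · exact sub_eq_zero.mp h
      · exact absurd h hE2ne
  -- determinants
  have hdet_r : ∀ x y, x ^ r = 1 → y ^ r = 1 → (u x y).det ^ r = 1 := by
    intro x y hx hy
    rw [← Matrix.det_pow, hu_pow, hx, hy, hu_one, Matrix.det_one]
  obtain ⟨α₁, -, hα₁⟩ := hprim.eq_pow_of_pow_eq_one (hdet_r (ρ : F) 1 hρr (one_pow r))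
  obtain ⟨α₂, -, hα₂⟩ := hprim.eq_pow_of_pow_eq_one (hdet_r 1 (ρ : F) (one_pow r) hρr)
  have hsum : (ρ : F) ^ (α₁ + α₂) = (ρ : F) ^ n := by
    rw [pow_add, hα₁, hα₂, ← Matrix.det_mul, hu_mul, mul_one, one_mul]
    have : u (ρ : F) (ρ : F) = Matrix.scalar (Fin n) (ρ : F) := by
      change (ρ : F) • E₁ + (ρ : F) • E₂ = _
      rw [← smul_add, hs, scalar_eq_smul_one]
    rw [this, Matrix.scalar_apply, Matrix.det_diagonal, Finset.prod_const, Finset.card_univ,
      Fintype.card_fin]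
  set x₀ : F := (ρ : F) ^ α₂ with hx₀
  set y₀ : F := (ρ : F) ^ ((r - 1) * α₁) with hy₀
  have hx₀q : x₀ ^ (q + 1) = 1 := by rw [hx₀, ← pow_mul, mul_comm, pow_mul, hρq, one_pow]
  have hy₀q : y₀ ^ (q + 1) = 1 := by rw [hy₀, ← pow_mul, mul_comm, pow_mul, hρq, one_pow]
  have hx₀r : x₀ ^ r = 1 := by rw [hx₀, ← pow_mul, mul_comm, pow_mul, hρr, one_pow]
  have hy₀r : y₀ ^ r = 1 := by rw [hy₀, ← pow_mul, mul_comm, pow_mul, hρr, one_pow]
  have hZdet : (u x₀ y₀).det = 1 := by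
    have h1 : u x₀ y₀ = u (ρ : F) 1 ^ α₂ * u 1 (ρ : F) ^ ((r - 1) * α₁) := by
      rw [hu_pow, hu_pow, hu_mul, one_pow, one_pow, mul_one, one_mul]
    rw [h1, Matrix.det_mul, Matrix.det_pow, Matrix.det_pow, ← hα₁, ← hα₂, ← pow_mul, ← pow_mul,
      ← pow_add]
    have h2 : α₁ * α₂ + α₂ * ((r - 1) * α₁) = r * (α₁ * α₂) := by
      obtain ⟨t, ht⟩ : ∃ t, r = t + 1 := ⟨r - 1, by have := hr.pos; omega⟩
      rw [ht]
      simp only [Nat.add_sub_cancel]
      ring
    rw [h2, pow_mul, hρr, one_pow]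
  apply exists_of_commuting_twist hF hn r hr A (u x₀ y₀) hA hAd (hu_pres x₀ y₀ hx₀q hy₀q) hZdet
    (hu_comm x₀ y₀) (by rw [hu_pow, hx₀r, hy₀r, hu_one]) ?_ m hm
  rintro ⟨ν, hν⟩
  obtain ⟨i1, i2⟩ := hu_scalar x₀ y₀ ν hν
  have h3 : (ρ : F) ^ (α₁ + α₂) = 1 := by
    have : x₀ = y₀ := by rw [i1, i2]
    rw [pow_add, ← hx₀, this, hy₀, ← pow_add]
    have h2 : α₁ + (r - 1) * α₁ = r * α₁ := by
      obtain ⟨t, ht⟩ : ∃ t, r = t + 1 := ⟨r - 1, by have := hr.pos; omega⟩
      rw [ht]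
      simp only [Nat.add_sub_cancel]
      ring
    rw [h2, pow_mul, hρr, one_pow]
  rw [hsum] at h3
  have h4 := (hprim.pow_eq_one_iff_dvd n).mp h3
  exact hrn h4

end Cfsg.Agent.Lib.Helper15.Spu
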