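import Cfsg.Agent.Lib.Helper15.Spu6

/-!
# Number theory and finite-field facts for the unitary case (for S2511)
-/

set_option autoImplicit false
set_option linter.unusedSectionVars false

namespace Cfsg.Agent.Lib.Helper15.Spu

open Matrix Polynomial Cfsg Cfsg.Agent.Lib.Helper6 Cfsg.Agent.Lib.Helper15.Spr

section numbers

/-- `(q ^ n - (-1) ^ n) / (q + 1)` -/
def QU (q n : ℕ) : ℕ := if Even n then (q ^ n - 1) / (q + 1) else (q ^ n + 1) / (q + 1)

/-- The projective order of a Singer-type cycle of `SU_n(q)`. -/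
def SSU (q n : ℕ) : ℕ := QU q n / Nat.gcd (QU q n) (q + 1)

theorem add_one_dvd_pow_sub_one (q : ℕ) {n : ℕ} (hn : Even n) : q + 1 ∣ q ^ n - 1 := by
  obtain ⟨k, rfl⟩ := hn
  have h1 : q ^ 2 - 1 ∣ (q ^ 2) ^ k - 1 := Nat.sub_one_dvd_pow_sub_one _ _
  have h2 : q + 1 ∣ q ^ 2 - 1 := by
    refine ⟨q - 1, ?_⟩
    rcases Nat.eq_zero_or_pos q with h | h
    · subst h; rfl
    · obtain ⟨t, rfl⟩ : ∃ t, q = t + 1 := ⟨q - 1, by omega⟩
      simp only [Nat.add_sub_cancel]
      have : (t + 1) ^ 2 = (t + 1 + 1) * t + 1 := by ring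
      omega
  have h3 : (q ^ 2) ^ k = q ^ (k + k) := by rw [← pow_mul]; congr 1; omega
  rw [← h3]
  exact h2.trans h1

theorem QU_mul_even (q : ℕ) {n : ℕ} (hn : Even n) : QU q n * (q + 1) = q ^ n - 1 := by
  unfold QU
  rw [if_pos hn]
  exact Nat.div_mul_cancel (add_one_dvd_pow_sub_one q hn)

theorem QU_mul_odd (q : ℕ) {n : ℕ} (hn : ¬ Even n) : QU q n * (q + 1) = q ^ n + 1 := by
  unfold QU
  rw [if_neg hn]
  apply Nat.div_mul_cancel
  have := (Nat.not_even_iff_odd.mp hn).nat_add_dvd_pow_add_pow q 1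
  rwa [one_pow] at this

theorem QU_pos {q n : ℕ} (hq : 2 ≤ q) (hn : 2 ≤ n) : 0 < QU q n := by
  by_cases he : Even n
  · have h := QU_mul_even q he
    have h1 : 1 < q ^ n := Nat.one_lt_pow (by omega) (by omega)
    rcases Nat.eq_zero_or_pos (QU q n) with h0 | h0
    · rw [h0, zero_mul] at h; omega
    · exact h0
  · have h := QU_mul_odd q he
    rcases Nat.eq_zero_or_pos (QU q n) with h0 | h0
    · rw [h0, zero_mul] at h; omega
    · exact h0

/-- `Q ∣ j M ↔ Q / gcd(Q, M) ∣ j`. -/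
theorem dvd_mul_iff_div_gcd (Q M j : ℕ) (hM : 0 < M) : Q ∣ j * M ↔ Q / Nat.gcd Q M ∣ j := by
  set d := Nat.gcd Q M with hd
  have hdpos : 0 < d := Nat.gcd_pos_of_pos_right _ hM
  have h1 : M / d * d = M := Nat.div_mul_cancel (Nat.gcd_dvd_right _ _)
  have h2 : Q / d * d = Q := Nat.div_mul_cancel (Nat.gcd_dvd_left _ _)
  have hcop : Nat.Coprime (Q / d) (M / d) := Nat.coprime_div_gcd_div_gcd hdpos
  conv_lhs => rw [← h1, ← h2, ← mul_assoc]
  rw [Nat.mul_dvd_mul_iff_right hdpos]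
  constructor
  · intro h
    exact hcop.dvd_of_dvd_mul_right h
  · intro h
    exact Dvd.dvd.mul_right h _

theorem QU_dvd_iff (q n j : ℕ) : QU q n ∣ j * (q + 1) ↔ SSU q n ∣ j :=
  dvd_mul_iff_div_gcd _ _ _ (Nat.succ_pos q)

theorem SSU_mul (q n : ℕ) : SSU q n * Nat.gcd (QU q n) (q + 1) = QU q n :=
  Nat.div_mul_cancel (Nat.gcd_dvd_left _ _)

end numbers

section involution

/-- An involutive automorphism of a finite field of order `Q ^ 2` is `x ↦ x ^ Q`. -/
theorem involution_eq_pow {K : Type*} [Field K] [Finite K] (Q : ℕ) (hQ : Nat.card K = Q ^ 2)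
    (τ : K →+* K) (hτ2 : ∀ x, τ (τ x) = x) (hne : ∃ x, τ x ≠ x) : ∀ x, τ x = x ^ Q := by
  classical
  have := Fintype.ofFinite K
  set p := ringChar K with hp
  have hcp : CharP K p := ringChar.charP K
  have hpp : Fact p.Prime := ⟨CharP.char_is_prime K p⟩
  let _ : Algebra (ZMod p) K := ZMod.algebra K p
  have hbij : Function.Bijective τ :=
    Function.bijective_iff_has_inverse.mpr ⟨τ, hτ2, hτ2⟩
  let g : K ≃ₐ[ZMod p] K := AlgEquiv.ofRingEquiv (f := RingEquiv.ofBijective τ hbij) (by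
    intro a
    have : τ.comp (algebraMap (ZMod p) K) = algebraMap (ZMod p) K := Subsingleton.elim _ _
    exact congrFun (congrArg DFunLike.coe this) a)
  have hg : ∀ x, g x = τ x := fun x => rfl
  obtain ⟨⟨i, hi⟩, hgi⟩ := (FiniteField.bijective_frobeniusAlgEquivOfAlgebraic_pow (ZMod p) K).2 g
  simp only at hgi
  have hord := FiniteField.orderOf_frobeniusAlgEquivOfAlgebraic (ZMod p) K
  have hpow : ∀ (t : ℕ) (x : K),
      (FiniteField.frobeniusAlgEquivOfAlgebraic (ZMod p) K ^ t) x = x ^ (p ^ t) := by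
    intro t x
    rw [AlgEquiv.coe_pow, FiniteField.coe_frobeniusAlgEquivOfAlgebraic_iterate, ZMod.card]
  have hgg : g ^ 2 = 1 := by
    ext x
    rw [pow_two, AlgEquiv.mul_apply, hg, hg, hτ2]
    rfl
  have h2i : Module.finrank (ZMod p) K ∣ 2 * i := by
    rw [← hord, orderOf_dvd_iff_pow_eq_one, mul_comm, pow_mul, hgi, hgg]
  have hi0 : i ≠ 0 := by
    intro h0
    obtain ⟨x, hx⟩ := hne
    apply hx
    rw [← hg, ← hgi, h0, pow_zero]
    rfl
  have hiN : 2 * i = Module.finrank (ZMod p) K := by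
    obtain ⟨c, hc⟩ := h2i
    have hc1 : c = 1 := by
      rcases c with _ | _ | c
      · omega
      · rfl
      · exfalso
        have : Module.finrank (ZMod p) K * (c + 1 + 1) ≥ Module.finrank (ZMod p) K * 2 :=
          Nat.mul_le_mul_left _ (by omega)
        omega
    rw [hc, hc1, mul_one]
  have hcard : Nat.card K = p ^ (2 * i) := by
    rw [hiN, Module.natCard_eq_pow_finrank (K := ZMod p) (V := K), Nat.card_zmod]
  have hQi : Q = p ^ i := by
    rw [hQ, mul_comm, pow_mul] at hcard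
    exact Nat.pow_left_injective (by norm_num : 2 ≠ 0) hcard
  intro x
  rw [← hg, ← hgi, hpow, hQi]

end involution

section tau

variable {F : Type*} [Field F] [Fintype F] {q : ℕ} (hF : Fintype.card F = q ^ 2)

/-- The involution of `F[X]/(f)` for a self-dual irreducible `f`. -/
theorem exists_involution_adjoinRoot (f : F[X]) (hfm : f.Monic) [hfi : Fact (Irreducible f)]
    (hf0 : f.coeff 0 ≠ 0) (hsd : dualP hF f = f) :
    ∃ τ : AdjoinRoot f →+* AdjoinRoot f, (∀ x, τ (τ x) = x) ∧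
      (∀ a : F, τ (algebraMap F (AdjoinRoot f) a) = algebraMap F (AdjoinRoot f) (a ^ q)) ∧
      τ (AdjoinRoot.root f) * AdjoinRoot.root f = 1 := by
  have hθ : AdjoinRoot.root f ≠ 0 := by
    intro h0
    have h1 := AdjoinRoot.eval₂_root f
    rw [h0, Polynomial.eval₂_at_zero] at h1
    have : (AdjoinRoot.of f) (f.coeff 0) = (AdjoinRoot.of f) 0 := by rw [h1, map_zero]
    exact hf0 ((AdjoinRoot.of f).injective this)
  have hrev : (f.map (conjQ hF)).reverse = C (conjQ hF (f.coeff 0)) * f := by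
    have h1 : C ((conjQ hF (f.coeff 0))⁻¹) * (f.map (conjQ hF)).reverse = f := hsd
    have h2 : C (conjQ hF (f.coeff 0)) * (C ((conjQ hF (f.coeff 0))⁻¹) *
        (f.map (conjQ hF)).reverse) = (f.map (conjQ hF)).reverse := by
      rw [← mul_assoc, ← C_mul, mul_inv_cancel₀ (conjQ_ne_zero hF hf0), C_1, one_mul]
    rw [h1] at h2
    exact h2.symm
  have h : Polynomial.eval₂ ((AdjoinRoot.of f).comp (conjQ hF)) (AdjoinRoot.root f)⁻¹ f = 0 := by
    rw [← Polynomial.eval₂_map]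
    let _ : Invertible (AdjoinRoot.root f)⁻¹ := invertibleOfNonzero (inv_ne_zero hθ)
    rw [← Polynomial.eval₂_reverse_eq_zero_iff, invOf_eq_inv, inv_inv, hrev, Polynomial.eval₂_mul,
      AdjoinRoot.eval₂_root, mul_zero]
  refine ⟨AdjoinRoot.lift ((AdjoinRoot.of f).comp (conjQ hF)) (AdjoinRoot.root f)⁻¹ h, ?_, ?_, ?_⟩
  · intro x
    have : (AdjoinRoot.lift ((AdjoinRoot.of f).comp (conjQ hF)) (AdjoinRoot.root f)⁻¹ h).comp
        (AdjoinRoot.lift ((AdjoinRoot.of f).comp (conjQ hF)) (AdjoinRoot.root f)⁻¹ h) =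
        RingHom.id _ := by
      apply AdjoinRoot.ringHom_ext
      · ext a
        simp only [RingHom.comp_apply, AdjoinRoot.lift_of, RingHom.id_apply]
        rw [conjQ_conjQ]
      · simp only [RingHom.comp_apply, AdjoinRoot.lift_root, RingHom.id_apply, map_inv₀, inv_inv]
    exact congrFun (congrArg DFunLike.coe this) x
  · intro a
    rw [AdjoinRoot.algebraMap_eq, AdjoinRoot.lift_of]
    rfl
  · rw [AdjoinRoot.lift_root]
    exact inv_mul_cancel₀ hθ

end tau

end Cfsg.Agent.Lib.Helper15.Spu
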