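import Cfsg.Agent.Lib.Helper15.Spu7

/-!
# The irreducible cases: elements of Singer type in `SU_n(q)` (for S2511)
-/

set_option autoImplicit false
set_option linter.unusedSectionVars false

namespace Cfsg.Agent.Lib.Helper15.Spu

open Matrix Polynomial Cfsg Cfsg.Agent.Lib.Helper6 Cfsg.Agent.Lib.Helper15.Spr

section numbers

theorem QQ_odd_eq {q : ℕ} (hq : 2 ≤ q) (k : ℕ) : ∃ t, QQ q (2 * k + 1) = 1 + (q + 1) * t := by
  induction k with
  | zero => exact ⟨0, by rw [QQ_eq_sum hq]; simp⟩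
  | succ k ih =>
    obtain ⟨t, ht⟩ := ih
    refine ⟨t + q ^ (2 * k + 1), ?_⟩
    rw [QQ_eq_sum hq] at ht ⊢
    have : 2 * (k + 1) + 1 = (2 * k + 1) + 1 + 1 := by ring
    rw [this, Finset.sum_range_succ, Finset.sum_range_succ, ht]
    ring

theorem sq_sub_one (q : ℕ) (hq : 1 ≤ q) : q ^ 2 - 1 = (q - 1) * (q + 1) := by
  obtain ⟨t, rfl⟩ : ∃ t, q = t + 1 := ⟨q - 1, by omega⟩
  simp only [Nat.add_sub_cancel]
  have : (t + 1) ^ 2 = t * (t + 1 + 1) + 1 := by ring
  omega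

/-- `(q^{2n} - 1)/(q^2 - 1) = (q^n - 1)/(q - 1) · (q^n + 1)/(q + 1)` for odd `n`. -/
theorem QQ_sq_odd {q : ℕ} (hq : 2 ≤ q) {n : ℕ} (hn : ¬ Even n) :
    QQ (q ^ 2) n = QQ q n * QU q n := by
  have h1 := QQ_mul (q ^ 2) n
  have h2 := QQ_mul q n
  have h3 := QU_mul_odd q hn
  have h4 : (q ^ 2) ^ n - 1 = (q ^ n - 1) * (q ^ n + 1) := by
    have : (q ^ 2) ^ n = (q ^ n) ^ 2 := by rw [← pow_mul, ← pow_mul, mul_comm]
    rw [this, sq_sub_one _ (Nat.one_le_pow _ _ (by omega))]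
  have h5 : 0 < (q - 1) * (q + 1) := Nat.mul_pos (by omega) (by omega)
  apply Nat.eq_of_mul_eq_mul_right h5
  calc QQ (q ^ 2) n * ((q - 1) * (q + 1)) = (q ^ n - 1) * (q ^ n + 1) := by
        rw [← sq_sub_one q (by omega), h1, h4]
    _ = (QQ q n * (q - 1)) * (QU q n * (q + 1)) := by rw [h2, h3]
    _ = QQ q n * QU q n * ((q - 1) * (q + 1)) := by ring

/-- `(q^{2k} - 1)/(q^2 - 1) · (q - 1) = (q^{2k} - 1)/(q + 1)`. -/
theorem QQ_sq_even {q : ℕ} (hq : 2 ≤ q) (k : ℕ) : QQ (q ^ 2) k * (q - 1) = QU q (k + k) := by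
  have h1 := QQ_mul (q ^ 2) k
  have h3 := QU_mul_even q (⟨k, rfl⟩ : Even (k + k))
  have h4 : (q ^ 2) ^ k = q ^ (k + k) := by rw [← pow_mul]; congr 1; omega
  apply Nat.eq_of_mul_eq_mul_right (Nat.succ_pos q)
  rw [h3, mul_assoc, ← sq_sub_one q (by omega), h1, h4]

end numbers

variable {F : Type*} [Field F] [Fintype F] {q : ℕ} (hF : Fintype.card F = q ^ 2)

include hF in
theorem pow_q_pow_even (a : F) (k : ℕ) : a ^ (q ^ (2 * k)) = a := by
  induction k with
  | zero => simp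
  | succ k ih =>
    have : q ^ (2 * (k + 1)) = q ^ (2 * k) * q * q := by
      rw [show 2 * (k + 1) = 2 * k + 1 + 1 by ring, pow_succ, pow_succ]
    rw [this, pow_mul, pow_mul, ih]
    exact Cfsg.Agent.S0779.pow_q_q hF a

include hF in
/-- Elements of an extension killed by `q + 1` lie in `F`. -/
theorem mem_range_of_pow_q_add_one {K : Type*} [Field K] [Algebra F K] (y : K)
    (hy : y ^ (q + 1) = 1) : ∃ ν : F, algebraMap F K ν = y ∧ ν ^ (q + 1) = 1 := by
  have hq := two_le_q hF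
  have h1 : y ^ (Fintype.card F - 1) = 1 := by
    rw [hF, sq_sub_one q (by omega), mul_comm, pow_mul, hy, one_pow]
  obtain ⟨ν, hν⟩ := mem_range_algebraMap_of_pow (F := F) y h1
  refine ⟨ν, hν, ?_⟩
  apply (algebraMap F K).injective
  rw [map_pow, hν, hy, map_one]

include hF in
/-- **Case T1, irreducible**: `A ^ SSU` is scalar. -/
theorem case_irreducible_selfdual {n : ℕ} (hn : 0 < n) (A : Matrix (Fin n) (Fin n) F)
    (hAd : A.det = 1) (hirr : Irreducible (minpoly F A)) (hdeg : (minpoly F A).natDegree = n)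
    (hsd : dualP hF (minpoly F A) = minpoly F A) :
    ∃ ν : F, A ^ (SSU q n) = Matrix.scalar (Fin n) ν := by
  classical
  have hq := two_le_q hF
  obtain ⟨hmonic, -, -, hc0, hfacts⟩ := minpoly_facts hn A (by rw [hAd]; exact one_ne_zero)
  have : Fact (Irreducible (minpoly F A)) := ⟨hirr⟩
  obtain ⟨hfin, hfr, hae, hnorm⟩ := adjoinRoot_facts (minpoly F A) hmonic
  have : Finite (AdjoinRoot (minpoly F A)) := Module.finite_of_finite F
  obtain ⟨τ, hτ2, hτF, hτθ⟩ := exists_involution_adjoinRoot hF (minpoly F A) hmonic hc0 hsd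
  have hN : Algebra.norm F (AdjoinRoot.root (minpoly F A)) = 1 := by
    rw [hnorm, hdeg, ← det_eq_of_natDegree_minpoly A hdeg, hAd]
  have hcard : Nat.card (AdjoinRoot (minpoly F A)) = (q ^ n) ^ 2 := by
    rw [Module.natCard_eq_pow_finrank (K := F) (V := AdjoinRoot (minpoly F A)), hfr, hdeg,
      Nat.card_eq_fintype_card, hF, ← pow_mul, ← pow_mul, mul_comm]
  have hτne : ∃ x, τ x ≠ x := by
    by_contra hall
    push Not at hall
    apply conjQ_ne_id hF
    ext a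
    have := hall (algebraMap F _ a)
    rw [hτF] at this
    exact (algebraMap F (AdjoinRoot (minpoly F A))).injective this
  have hτpow := involution_eq_pow (q ^ n) hcard τ hτ2 hτne
  -- `n` is odd
  have hodd : ¬ Even n := by
    rintro ⟨k, hk⟩
    apply conjQ_ne_id hF
    ext a
    have h1 := hτF a
    have hqn : q ^ n = q ^ (2 * k) := by rw [hk, two_mul]
    rw [hτpow, ← map_pow, hqn, pow_q_pow_even hF] at h1
    exact ((algebraMap F (AdjoinRoot (minpoly F A))).injective h1).symm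
  set θ := AdjoinRoot.root (minpoly F A) with hθdef
  have h1 : θ ^ (q ^ n + 1) = 1 := by
    rw [pow_succ, ← hτpow]
    exact hτθ
  have h2 := FiniteField.algebraMap_norm_eq_pow (K := F) (K' := AdjoinRoot (minpoly F A)) (x := θ)
  rw [hN, map_one, Module.natCard_eq_pow_finrank (K := F) (V := AdjoinRoot (minpoly F A)), hfr, hdeg,
    Nat.card_eq_fintype_card, hF] at h2
  have h3 : θ ^ (QQ q n * QU q n) = 1 := by
    rw [← QQ_sq_odd hq hodd]
    exact h2.symm
  -- `θ ^ QU = 1`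
  have h4 : θ ^ QU q n = 1 := by
    have e1 : (θ ^ QU q n) ^ (q + 1) = 1 := by
      rw [← pow_mul, QU_mul_odd q hodd, h1]
    obtain ⟨ν, hν, hν1⟩ := mem_range_of_pow_q_add_one hF _ e1
    obtain ⟨k, hk⟩ : ∃ k, n = 2 * k + 1 := by
      rcases Nat.even_or_odd' n with ⟨k, hk | hk⟩
      · exact absurd ⟨k, by omega⟩ hodd
      · exact ⟨k, hk⟩
    obtain ⟨t, ht⟩ := QQ_odd_eq hq k
    rw [← hk] at ht
    have e2 : ν ^ QQ q n = 1 := by
      apply (algebraMap F (AdjoinRoot (minpoly F A))).injective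
      rw [map_pow, hν, ← pow_mul, mul_comm, h3, map_one]
    rw [ht, pow_add, pow_one, pow_mul, hν1, one_pow, mul_one] at e2
    rw [← hν, e2, map_one]
  have h5 : (θ ^ SSU q n) ^ (q + 1) = 1 := by
    obtain ⟨c, hc⟩ := Nat.gcd_dvd_right (QU q n) (q + 1)
    rw [hc, pow_mul, ← pow_mul θ, SSU_mul, h4, one_pow]
  obtain ⟨ν, hν, -⟩ := mem_range_of_pow_q_add_one hF _ h5
  refine ⟨ν, (hfacts _ ν).mpr ((hae _).mp ?_)⟩
  rw [map_sub, map_pow, Polynomial.aeval_X, Polynomial.aeval_C, hν, sub_self]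

theorem dualP_X_pow_sub_C {j : ℕ} (hj : 0 < j) {ν : F} (hν : ν ≠ 0) :
    dualP hF (X ^ j - C ν) = X ^ j - C ((ν ^ q)⁻¹) := by
  have h0 : (X ^ j - C ν : F[X]).coeff 0 = -ν := by
    rw [Polynomial.coeff_sub, Polynomial.coeff_X_pow, Polynomial.coeff_C_zero, if_neg hj.ne,
      zero_sub]
  have h1 : ((X ^ j - C ν : F[X]).map (conjQ hF)).reverse = 1 + C (-(ν ^ q)) * X ^ j := by
    rw [Polynomial.map_sub, Polynomial.map_pow, Polynomial.map_X, Polynomial.map_C, conjQ_apply,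
      sub_eq_add_neg, ← C_neg, Polynomial.reverse_add_C, Polynomial.natDegree_X_pow]
    congr 1
    have : (X ^ j : F[X]) = 1 * X ^ j := (one_mul _).symm
    rw [this, Polynomial.reverse_mul_X_pow, ← C_1, Polynomial.reverse_C]
  have hνq : ν ^ q ≠ 0 := pow_ne_zero _ hν
  unfold dualP
  rw [h0, h1, map_neg, conjQ_apply, mul_add, mul_one, ← mul_assoc, ← C_mul,
    inv_mul_cancel₀ (neg_ne_zero.mpr hνq), C_1, one_mul, inv_neg, C_neg]
  ring

include hF in
/-- **Case T2, irreducible pair**: `A ^ SSU` is scalar. -/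
theorem case_irreducible_pair {n : ℕ} (hn : 0 < n) (A : Matrix (Fin n) (Fin n) F)
    (hAd : A.det = 1) (f : F[X]) (hfm : f.Monic) (hfi : Irreducible f)
    (hμ : minpoly F A = f * dualP hF f) (hdeg : (minpoly F A).natDegree = n)
    (hne : dualP hF f ≠ f) :
    ∃ ν : F, A ^ (SSU q n) = Matrix.scalar (Fin n) ν := by
  classical
  have hq := two_le_q hF
  obtain ⟨hmonic, -, -, hc0, hfacts⟩ := minpoly_facts hn A (by rw [hAd]; exact one_ne_zero)
  have hf0 : f.coeff 0 ≠ 0 := coeff_zero_ne_of_dvd ⟨_, hμ⟩ hc0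
  have hf'm : (dualP hF f).Monic := dualP_monic hF hf0
  have hf'i : Irreducible (dualP hF f) := dualP_irreducible hF hfm hfi hf0
  have hcop : IsCoprime f (dualP hF f) :=
    isCoprime_of_irreducible_ne hfi hfm hf'i hf'm (fun h => hne h.symm)
  have hk : f.natDegree + f.natDegree = n := by
    rw [← hdeg, hμ, hfm.natDegree_mul hf'm, natDegree_dualP hF hf0]
  have hkpos : 0 < f.natDegree := hfi.natDegree_pos
  have : Fact (Irreducible f) := ⟨hfi⟩
  obtain ⟨hfin, hfr, hae, hnorm⟩ := adjoinRoot_facts f hfm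
  have : Finite (AdjoinRoot f) := Module.finite_of_finite F
  -- the determinant condition
  have hdet := det_eq_of_natDegree_minpoly A hdeg
  rw [hAd, hμ, Polynomial.mul_coeff_zero, coeff_zero_dualP hF hfm, ← hk, ← two_mul, pow_mul] at hdet
  have hsq : ((-1 : F) ^ 2) = 1 := by ring
  rw [hsq, one_pow, one_mul] at hdet
  have hσ0 : conjQ hF (f.coeff 0) = f.coeff 0 := by
    have h1 := conjQ_ne_zero hF hf0
    field_simp at hdet
    exact hdet
  have hNq : (Algebra.norm F (AdjoinRoot.root f)) ^ q = Algebra.norm F (AdjoinRoot.root f) := by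
    rw [hnorm, ← conjQ_apply hF, map_mul, map_pow, map_neg, map_one, hσ0]
  have hN0 : Algebra.norm F (AdjoinRoot.root f) ≠ 0 := by
    rw [hnorm]
    exact mul_ne_zero (pow_ne_zero _ (neg_ne_zero.mpr one_ne_zero)) hf0
  have hNq1 : (Algebra.norm F (AdjoinRoot.root f)) ^ (q - 1) = 1 := by
    have h1 : (Algebra.norm F (AdjoinRoot.root f)) ^ (q - 1) * Algebra.norm F (AdjoinRoot.root f) =
        Algebra.norm F (AdjoinRoot.root f) := by
      rw [← pow_succ, Nat.sub_add_cancel (by omega), hNq]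
    exact mul_right_cancel₀ hN0 (by rw [h1, one_mul])
  set θ := AdjoinRoot.root f with hθdef
  have h2 := FiniteField.algebraMap_norm_eq_pow (K := F) (K' := AdjoinRoot f) (x := θ)
  rw [Module.natCard_eq_pow_finrank (K := F) (V := AdjoinRoot f), hfr,
    Nat.card_eq_fintype_card, hF] at h2
  have h4 : θ ^ QU q n = 1 := by
    rw [← hk, ← QQ_sq_even hq, pow_mul]
    change (θ ^ ((((q ^ 2) ^ f.natDegree) - 1) / (q ^ 2 - 1))) ^ (q - 1) = 1
    rw [← h2, ← map_pow, hNq1, map_one]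
  have h5 : (θ ^ SSU q n) ^ (q + 1) = 1 := by
    obtain ⟨c, hc⟩ := Nat.gcd_dvd_right (QU q n) (q + 1)
    rw [hc, pow_mul, ← pow_mul θ, SSU_mul, h4, one_pow]
  obtain ⟨ν, hν, hν1⟩ := mem_range_of_pow_q_add_one hF _ h5
  have hν0 : ν ≠ 0 := by
    rintro rfl
    rw [zero_pow (Nat.succ_ne_zero q)] at hν1
    exact zero_ne_one hν1
  have hSpos : 0 < SSU q n := by
    have h1 := QU_pos hq (by omega : 2 ≤ n)
    rw [← SSU_mul q n] at h1
    exact Nat.pos_of_ne_zero (fun h0 => by rw [h0, zero_mul] at h1; exact absurd h1 (lt_irrefl 0))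
  have hd1 : f ∣ X ^ SSU q n - C ν := by
    apply (hae _).mp
    rw [map_sub, map_pow, Polynomial.aeval_X, Polynomial.aeval_C, hν, sub_self]
  have hd2 : dualP hF f ∣ X ^ SSU q n - C ν := by
    have h6 := dualP_dvd hF hd1
    rw [dualP_X_pow_sub_C hF hSpos hν0] at h6
    have h7 : (ν ^ q)⁻¹ = ν := by
      have : ν ^ q * ν = 1 := by rw [← pow_succ, hν1]
      exact inv_eq_of_mul_eq_one_right this
    rwa [h7] at h6
  refine ⟨ν, (hfacts _ ν).mpr ?_⟩
  rw [hμ]
  exact hcop.mul_dvd hd1 hd2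

end Cfsg.Agent.Lib.Helper15.Spu
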