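import Cfsg.Agent.Lib.Helper15.Spu8
import Cfsg.Agent.Lib.Helper17.UnitaryHyp
import Cfsg.Agent.Lib.Helper7.UnitaryUnip3
import Cfsg.Agent.Lib.Helper3.UnitaryField

/-!
# Fresh unitary blocks and Lemma K for `SU_n(q)` (for S2511)
-/

set_option autoImplicit false
set_option linter.unusedSectionVars false

namespace Cfsg.Agent.Lib.Helper15.Spu

open Matrix Polynomial Cfsg Cfsg.Agent.Lib.Helper6 Cfsg.Agent.Lib.Helper15.Spr

variable {F : Type*} [Field F] [Fintype F] {q : ℕ} (hF : Fintype.card F = q ^ 2)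

include hF in
/-- Twisting a fresh block-diagonal element `B₁ ⊕ (unipotent block)`. -/
theorem fresh_twist {n : ℕ} (p : ℕ) [Fact p.Prime] [CharP F p] (r : ℕ) (hr : r.Prime)
    (hrq : r ∣ q + 1) (hrn : ¬ r ∣ n) (A : Matrix (Fin n) (Fin n) F) (m : ℕ)
    (hm : ∀ (j : ℕ) (ν : F), A ^ j = Matrix.scalar (Fin n) ν → m ∣ j)
    (k₁ : ℕ) (hk₁ : 0 < k₁) (hk₁n : k₁ < n) (B₁ : Matrix (Fin k₁) (Fin k₁) F) (hB₁ : Pres q B₁)
    (hB₁d : B₁.det = 1) (c T : ℕ) (hc : Nat.Coprime c p) (hB₁c : ∀ j, B₁ ^ j = 1 → c ∣ j)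
    (hAc : ∃ ν : F, A ^ (c * p ^ T) = Matrix.scalar (Fin n) ν)
    (hT : T = 0 ∨ p ^ (T - 1) + 1 ≤ n - k₁) :
    ∃ g' : Cfsg.PSU n F q, Nat.lcm m r ∣ orderOf g' := by
  have hp : p.Prime := Fact.out
  obtain ⟨n₂, hn₂⟩ : ∃ n₂, k₁ + n₂ = n := ⟨n - k₁, by omega⟩
  have hn₂pos : 0 < n₂ := by omega
  obtain ⟨B₂, hB₂, hB₂d, hB₂c⟩ :=
    Cfsg.Agent.Lib.Helper7.UnitaryBlock.exists_unitary_unipotent_block hF p n₂ hn₂pos
  obtain ⟨ν₀, hν₀⟩ := hAc
  have := exists_twist_su hF hk₁ hn₂pos r hr hrq (by rw [hn₂]; exact hrn) B₁ B₂ hB₁ hB₂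
    (by rw [hB₁d, hB₂d, one_mul]) m (fun j ν e1 e2 => by
      obtain ⟨hν, s, hs1, hs2⟩ := hB₂c j ν e2
      subst hν
      have hcj : c ∣ j := hB₁c j (by rw [e1, map_one])
      have hpT : p ^ T ∣ j := by
        rcases hT with h0 | h1
        · rw [h0, pow_zero]
          exact one_dvd _
        · have hTs : T ≤ s := by
            have h5 : p ^ (T - 1) < p ^ s := by omega
            have := (Nat.pow_lt_pow_iff_right hp.one_lt).mp h5
            omega
          exact (pow_dvd_pow p hTs).trans hs2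
      have h6 : c * p ^ T ∣ j := Nat.Coprime.mul_dvd_of_dvd_of_dvd (hc.pow_right T) hcj hpT
      exact (hm _ _ hν₀).trans h6)
  exact hasOrd_cast_su hn₂ _ this

include hF in
theorem pow_q_sq (a : F) : a ^ (q ^ 2) = a := by
  rw [← hF]
  exact FiniteField.pow_card a

include hF in
/-- Data attached to a non-zero element of an extension field: the order of `θ ^ (q + 1)`. -/
theorem theta_data {K : Type*} [Field K] [Algebra F K] [Module.Finite F K] (θ : K) (hθ : θ ≠ 0)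
    (p : ℕ) (hp : p.Prime) (hpq : p ∣ Fintype.card F) :
    ∃ (c : ℕ) (lam : F), 0 < c ∧ Nat.Coprime c p ∧ θ ^ c = algebraMap F K lam ∧
      lam ^ (q + 1) = 1 ∧ ∀ j, (θ ^ (q + 1)) ^ j = 1 → c ∣ j := by
  classical
  have : Finite K := Module.finite_of_finite F
  let θ' : Kˣ := Units.mk0 θ hθ
  have hunit : ∀ j, (θ ^ (q + 1)) ^ j = 1 ↔ (θ' ^ (q + 1)) ^ j = 1 := by
    intro j
    rw [Units.ext_iff]
    simp [θ']
  have hc1 : (θ ^ orderOf (θ' ^ (q + 1))) ^ (q + 1) = 1 := by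
    rw [← pow_mul, mul_comm, pow_mul, hunit]
    exact pow_orderOf_eq_one _
  obtain ⟨lam, hlam, hlam1⟩ := mem_range_of_pow_q_add_one hF _ hc1
  refine ⟨orderOf (θ' ^ (q + 1)), lam, orderOf_pos _, ?_, hlam.symm, hlam1, ?_⟩
  · have h1 : orderOf (θ' ^ (q + 1)) ∣ Nat.card Kˣ := orderOf_dvd_natCard _
    set k := Module.finrank F K with hk
    rw [Nat.card_units, Module.natCard_eq_pow_finrank (K := F) (V := K),
      Nat.card_eq_fintype_card] at h1
    have hk0 : 0 < k := Module.finrank_pos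
    have h2 : p ∣ Fintype.card F ^ k := dvd_pow hpq hk0.ne'
    have h3 : 0 < Fintype.card F ^ k := pow_pos Fintype.card_pos k
    have h4 : ¬ p ∣ Fintype.card F ^ k - 1 := by
      intro h
      have := Nat.dvd_sub h2 h
      have e : Fintype.card F ^ k - (Fintype.card F ^ k - 1) = 1 := by omega
      rw [e] at this
      exact hp.one_lt.ne' (Nat.dvd_one.mp this)
    exact Nat.Coprime.coprime_dvd_left h1 ((Nat.Prime.coprime_iff_not_dvd hp).mpr h4).symm
  · intro j hj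
    rw [hunit] at hj
    exact orderOf_dvd_of_pow_eq_one hj

include hF in
theorem charP_dvd_card (p : ℕ) [CharP F p] : p ∣ Fintype.card F := by
  rw [← CharP.cast_eq_zero_iff F p]
  exact Nat.cast_card_eq_zero F

include hF in
/-- The semisimple block of hyperbolic type, for an arbitrary irreducible polynomial. -/
theorem exists_block_pair (p : ℕ) [Fact p.Prime] [CharP F p] (f : F[X]) (hfm : f.Monic)
    (hfi : Irreducible f) (hf0 : f.coeff 0 ≠ 0) :
    ∃ (B₁ : Matrix (Fin (f.natDegree + f.natDegree)) (Fin (f.natDegree + f.natDegree)) F) (c : ℕ)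
      (lam : F), Pres q B₁ ∧ B₁.det = 1 ∧ 0 < c ∧ Nat.Coprime c p ∧ f ∣ X ^ c - C lam ∧
      lam ^ (q + 1) = 1 ∧ ∀ j, B₁ ^ j = 1 → c ∣ j := by
  classical
  have hp : p.Prime := Fact.out
  have : Fact (Irreducible f) := ⟨hfi⟩
  obtain ⟨hfin, hfr, hae, hnorm⟩ := adjoinRoot_facts f hfm
  have hN0 : Algebra.norm F (AdjoinRoot.root f) ≠ 0 := by
    rw [hnorm]
    exact mul_ne_zero (pow_ne_zero _ (neg_ne_zero.mpr one_ne_zero)) hf0
  have hθ : AdjoinRoot.root f ≠ 0 := by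
    intro h0
    rw [h0, Algebra.norm_zero] at hN0
    exact hN0 rfl
  obtain ⟨c, lam, hcpos, hcop, hlam, hlam1, hcj⟩ :=
    theta_data hF (AdjoinRoot.root f) hθ p hp (charP_dvd_card hF p)
  obtain ⟨X₀, hdet, hpow, -⟩ := exists_matrix_of_algebra hfr ((AdjoinRoot.root f) ^ (q + 1))
  have hX0 : X₀.det ≠ 0 := by
    rw [hdet, map_pow]
    exact pow_ne_zero _ hN0
  obtain ⟨B₁, hB₁, hB₁d, hB₁p⟩ :=
    Cfsg.Agent.Lib.Helper17.UnitaryHyp.exists_unitary_hyperbolic hF hfi.natDegree_pos X₀ hX0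
  refine ⟨B₁, c, lam, hB₁, ?_, hcpos, hcop, ?_, hlam1, ?_⟩
  · rw [hB₁d, hdet, map_pow]
    have : ((Algebra.norm F (AdjoinRoot.root f)) ^ (q + 1)) ^ q =
        (Algebra.norm F (AdjoinRoot.root f)) ^ (q + 1) := by
      rw [← pow_mul, show (q + 1) * q = q ^ 2 + q by ring, pow_add, pow_q_sq hF, pow_succ]
      ring
    rw [this]
    exact mul_inv_cancel₀ (pow_ne_zero _ hN0)
  · apply (hae _).mp
    rw [map_sub, map_pow, Polynomial.aeval_X, Polynomial.aeval_C, hlam, sub_self]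
  · intro j hj
    have h1 : B₁ ^ j = Matrix.scalar _ 1 := by rw [hj, map_one]
    rw [hB₁p] at h1
    have h2 := (hpow j 1).mp h1.1
    rw [map_one] at h2
    exact hcj j h2

include hF in
/-- The semisimple block for a self-dual irreducible polynomial. -/
theorem exists_block_selfdual (p : ℕ) [Fact p.Prime] [CharP F p] (f : F[X]) (hfm : f.Monic)
    (hfi : Irreducible f) (hf0 : f.coeff 0 ≠ 0) (hsd : dualP hF f = f) :
    ∃ (B₁ : Matrix (Fin f.natDegree) (Fin f.natDegree) F) (c : ℕ)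
      (lam : F), Pres q B₁ ∧ B₁.det = 1 ∧ 0 < c ∧ Nat.Coprime c p ∧ f ∣ X ^ c - C lam ∧
      lam ^ (q + 1) = 1 ∧ ∀ j, B₁ ^ j = 1 → c ∣ j := by
  classical
  have hp : p.Prime := Fact.out
  have : Fact (Irreducible f) := ⟨hfi⟩
  obtain ⟨hfin, hfr, hae, hnorm⟩ := adjoinRoot_facts f hfm
  have hN0 : Algebra.norm F (AdjoinRoot.root f) ≠ 0 := by
    rw [hnorm]
    exact mul_ne_zero (pow_ne_zero _ (neg_ne_zero.mpr one_ne_zero)) hf0
  have hθ : AdjoinRoot.root f ≠ 0 := by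
    intro h0
    rw [h0, Algebra.norm_zero] at hN0
    exact hN0 rfl
  obtain ⟨c, lam, hcpos, hcop, hlam, hlam1, hcj⟩ :=
    theta_data hF (AdjoinRoot.root f) hθ p hp (charP_dvd_card hF p)
  obtain ⟨τ, hτ2, hτF, hτθ⟩ := exists_involution_adjoinRoot hF f hfm hf0 hsd
  obtain ⟨B₁, hB₁, hB₁d, hB₁p⟩ :=
    Cfsg.Agent.Lib.Helper3.UnitaryField.exists_unitary_of_field hF hfr τ hτ2 hτF
      ((AdjoinRoot.root f) ^ (q + 1)) (by rw [map_pow, ← mul_pow, hτθ, one_pow])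
  refine ⟨B₁, c, lam, hB₁, ?_, hcpos, hcop, ?_, hlam1, ?_⟩
  · rw [hB₁d, map_pow, hnorm, mul_pow, ← pow_mul, mul_comm f.natDegree, pow_mul,
      Cfsg.Agent.Lib.Helper16.conj_neg_one hF, one_pow, one_mul]
    have h1 := coeff_zero_dualP hF hfm
    rw [hsd] at h1
    rw [pow_succ, ← conjQ_apply hF]
    have h2 := conjQ_ne_zero hF hf0
    calc conjQ hF (f.coeff 0) * f.coeff 0
        = conjQ hF (f.coeff 0) * (conjQ hF (f.coeff 0))⁻¹ := by rw [← h1]
      _ = 1 := mul_inv_cancel₀ h2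
  · apply (hae _).mp
    rw [map_sub, map_pow, Polynomial.aeval_X, Polynomial.aeval_C, hlam, sub_self]
  · intro j hj
    have h1 : B₁ ^ j = Matrix.scalar _ 1 := by rw [hj, map_one]
    rw [hB₁p, map_one] at h1
    exact hcj j h1

end Cfsg.Agent.Lib.Helper15.Spu
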