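import Mathlib

/-!
# A group with a nontrivial normal `3`-subgroup and prescribed maximal element orders, part a:
semidirect products with commutative kernel
-/

set_option autoImplicit false

namespace Cfsg.Agent.Lib.Helper15.Tr3

open SemidirectProduct

variable {N G : Type*} [CommGroup N] [Group G] (φ : G →* MulAut N)

/-- a power of `h` killing the right component lies in the kernel -/
theorem pow_eq_inl (h : N ⋊[φ] G) (n : ℕ) (hn : h.right ^ n = 1) : h ^ n = inl (h ^ n).left := by
  have h1 : (rightHom (h ^ n) : G) = 1 := by
    rw [map_pow]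
    exact hn
  have h2 : h ^ n ∈ (rightHom : N ⋊[φ] G →* G).ker := h1
  rw [← range_inl_eq_ker_rightHom] at h2
  obtain ⟨w, hw⟩ := h2
  rw [← hw, left_inl]

/-- the kernel part of such a power is fixed by the right component -/
theorem fixed_of_pow (h : N ⋊[φ] G) (n : ℕ) (hn : h.right ^ n = 1) :
    φ h.right (h ^ n).left = (h ^ n).left := by
  have h1 := pow_eq_inl φ h n hn
  have hcomm : h * h ^ n = h ^ n * h := by rw [← pow_succ', ← pow_succ]
  have h2 := congrArg SemidirectProduct.left hcomm
  rw [mul_left, mul_left] at h2
  have h3 : (h ^ n).right = 1 := by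
    have : (rightHom (h ^ n) : G) = 1 := by rw [map_pow]; exact hn
    exact this
  rw [h3, map_one, MulAut.one_apply] at h2
  rw [mul_comm] at h2
  exact mul_right_cancel h2

/-- fixed-point-free action: the order is the order of the right component -/
theorem orderOf_eq_of_fpf (h : N ⋊[φ] G) (hfpf : ∀ w : N, φ h.right w = w → w = 1) :
    orderOf h = orderOf h.right := by
  apply Nat.dvd_antisymm
  · apply orderOf_dvd_of_pow_eq_one
    have hn : h.right ^ orderOf h.right = 1 := pow_orderOf_eq_one _
    rw [pow_eq_inl φ h _ hn, hfpf _ (fixed_of_pow φ h _ hn), map_one]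
  · have : h.right = (rightHom h : G) := rfl
    rw [this]
    exact orderOf_map_dvd _ h

/-- in general the order divides the order of the right component times the exponent of the kernel -/
theorem pow_mul_eq_one (h : N ⋊[φ] G) (n e : ℕ) (hn : h.right ^ n = 1) (he : ∀ w : N, w ^ e = 1) :
    h ^ (n * e) = 1 := by
  rw [pow_mul, pow_eq_inl φ h n hn, ← map_pow, he, map_one]

/-- fixed points of an element are fixed by its powers -/
theorem fpf_of_pow (x : G) (k : ℕ) (hfpf : ∀ w : N, φ (x ^ k) w = w → w = 1) :
    ∀ w : N, φ x w = w → w = 1 := by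
  intro w hw
  apply hfpf
  rw [map_pow]
  have : ∀ j : ℕ, (φ x ^ j) w = w := by
    intro j
    induction j with
    | zero => simp
    | succ j ih => rw [pow_succ, MulAut.mul_apply, hw, ih]
  exact this k

end Cfsg.Agent.Lib.Helper15.Tr3
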