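import Mathlib
import Cfsg.Agent.Lib.Helper15.Tr3a
import Cfsg.Agent.Lib.Helper15.PSL2Orders4
import Cfsg.Agent.Lib.Helper15.Klein2

/-!
# A group with a nontrivial normal `3`-subgroup and prescribed maximal element orders, part b:
the twisted action of `PSL₂(F)` on `2 × 2` matrices in characteristic `3`
-/

set_option autoImplicit false

namespace Cfsg.Agent.Lib.Helper15.Tr3

open Matrix
open Cfsg.Agent.Lib.Helper14
open Cfsg.Agent.Lib.Helper15

variable {F : Type*} [Field F] [CharP F 3]

instance : Fact (Nat.Prime 3) := ⟨Nat.prime_three⟩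

/-- the Frobenius twist of `SL₂(F)` -/
noncomputable def fr : SpecialLinearGroup (Fin 2) F →* SpecialLinearGroup (Fin 2) F :=
  SpecialLinearGroup.map (frobenius F 3)

theorem fr_coe (g : SpecialLinearGroup (Fin 2) F) (i j : Fin 2) :
    (fr g : Matrix (Fin 2) (Fin 2) F) i j = (g : Matrix (Fin 2) (Fin 2) F) i j ^ 3 := rfl

theorem trace_fr (g : SpecialLinearGroup (Fin 2) F) :
    (fr g : Matrix (Fin 2) (Fin 2) F).trace = (g : Matrix (Fin 2) (Fin 2) F).trace ^ 3 := by
  rw [trace_fin_two, trace_fin_two, fr_coe, fr_coe]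
  exact (add_pow_char _ _ 3).symm

theorem fr_neg_one : fr (-1 : SpecialLinearGroup (Fin 2) F) = -1 := by
  apply Subtype.ext
  ext i j
  rw [fr_coe]
  fin_cases i <;> fin_cases j <;> simp [Odd.neg_one_pow (by decide : Odd 3)]

/-- the twisted action on matrices -/
noncomputable def actFun (g : SpecialLinearGroup (Fin 2) F) (Y : Matrix (Fin 2) (Fin 2) F) :
    Matrix (Fin 2) (Fin 2) F :=
  (g : Matrix (Fin 2) (Fin 2) F) * Y * (fr g⁻¹ : SpecialLinearGroup (Fin 2) F)

theorem actFun_def (g : SpecialLinearGroup (Fin 2) F) (Y : Matrix (Fin 2) (Fin 2) F) :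
    actFun g Y = (g : Matrix (Fin 2) (Fin 2) F) * Y * (fr g⁻¹ : SpecialLinearGroup (Fin 2) F) := rfl

theorem actFun_add (g : SpecialLinearGroup (Fin 2) F) (Y Z : Matrix (Fin 2) (Fin 2) F) :
    actFun g (Y + Z) = actFun g Y + actFun g Z := by
  rw [actFun_def, actFun_def, actFun_def, Matrix.mul_add, Matrix.add_mul]

theorem actFun_one (Y : Matrix (Fin 2) (Fin 2) F) : actFun 1 Y = Y := by
  rw [actFun_def, inv_one, map_one, Matrix.SpecialLinearGroup.coe_one, Matrix.one_mul, Matrix.mul_one]

theorem actFun_mul (g h : SpecialLinearGroup (Fin 2) F) (Y : Matrix (Fin 2) (Fin 2) F) :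
    actFun (g * h) Y = actFun g (actFun h Y) := by
  rw [actFun_def, actFun_def, actFun_def, _root_.mul_inv_rev, map_mul, Matrix.SpecialLinearGroup.coe_mul, Matrix.SpecialLinearGroup.coe_mul]
  simp only [Matrix.mul_assoc]

theorem actFun_neg_one (Y : Matrix (Fin 2) (Fin 2) F) : actFun (-1) Y = Y := by
  rw [actFun_def]
  have : (-1 : SpecialLinearGroup (Fin 2) F)⁻¹ = -1 := by
    rw [inv_eq_iff_eq_inv]
    apply eq_inv_of_mul_eq_one_left
    apply Subtype.ext
    simp
  rw [this, fr_neg_one]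
  simp

/-- the action as an additive equivalence -/
noncomputable def actEquiv (g : SpecialLinearGroup (Fin 2) F) :
    Matrix (Fin 2) (Fin 2) F ≃+ Matrix (Fin 2) (Fin 2) F where
  toFun := actFun g
  invFun := actFun g⁻¹
  left_inv Y := by rw [← actFun_mul, inv_mul_cancel, actFun_one]
  right_inv Y := by rw [← actFun_mul, mul_inv_cancel, actFun_one]
  map_add' := actFun_add g

/-- the action as a homomorphism to the automorphism group of the multiplicative copy -/
noncomputable def actSL : SpecialLinearGroup (Fin 2) F →* MulAut (Multiplicative (Matrix (Fin 2) (Fin 2) F)) where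
  toFun g := AddEquiv.toMultiplicative (actEquiv g)
  map_one' := by
    apply MulEquiv.ext
    intro Y
    exact congrArg Multiplicative.ofAdd (actFun_one Y.toAdd)
  map_mul' g h := by
    apply MulEquiv.ext
    intro Y
    exact congrArg Multiplicative.ofAdd (actFun_mul g h Y.toAdd)

theorem actSL_apply (g : SpecialLinearGroup (Fin 2) F) (Y : Multiplicative (Matrix (Fin 2) (Fin 2) F)) :
    actSL g Y = Multiplicative.ofAdd (actFun g Y.toAdd) := rfl

theorem center_le_ker_actSL (h2 : (2 : F) ≠ 0) :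
    Subgroup.center (SpecialLinearGroup (Fin 2) F) ≤ (actSL (F := F)).ker := by
  intro z hz
  rw [mem_center_SL2_iff h2] at hz
  rw [MonoidHom.mem_ker]
  rcases hz with rfl | rfl
  · exact map_one _
  · apply MulEquiv.ext
    intro Y
    exact congrArg Multiplicative.ofAdd (actFun_neg_one Y.toAdd)

/-- the action of `PSL₂(F)` -/
noncomputable def actP (h2 : (2 : F) ≠ 0) :
    ProjectiveSpecialLinearGroup (Fin 2) F →* MulAut (Multiplicative (Matrix (Fin 2) (Fin 2) F)) :=
  QuotientGroup.lift _ actSL (center_le_ker_actSL h2)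

theorem actP_toPSL2 (h2 : (2 : F) ≠ 0) (g : SpecialLinearGroup (Fin 2) F) :
    actP h2 (toPSL2 F g) = actSL g := rfl

omit [CharP F 3] in
/-- `g + g⁻¹` is the trace -/
theorem add_inv_eq_trace (g : SpecialLinearGroup (Fin 2) F) :
    (g : Matrix (Fin 2) (Fin 2) F) + (g⁻¹ : SpecialLinearGroup (Fin 2) F) =
      (g : Matrix (Fin 2) (Fin 2) F).trace • (1 : Matrix (Fin 2) (Fin 2) F) := by
  rw [Matrix.SpecialLinearGroup.coe_inv, adjugate_fin_two, trace_fin_two]
  ext i j
  fin_cases i <;> fin_cases j <;> simp [add_comm]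

/-- a nonzero fixed point forces the trace into the prime field -/
theorem trace_of_fixed (g : SpecialLinearGroup (Fin 2) F) (Y : Matrix (Fin 2) (Fin 2) F) (hY : Y ≠ 0)
    (hfix : actFun g Y = Y) :
    (g : Matrix (Fin 2) (Fin 2) F).trace ^ 3 = (g : Matrix (Fin 2) (Fin 2) F).trace := by
  rw [actFun_def] at hfix
  -- `g Y = Y fr(g)` and `g⁻¹ Y = Y fr(g)⁻¹`
  have e1 : (g : Matrix (Fin 2) (Fin 2) F) * Y = Y * (fr g : SpecialLinearGroup (Fin 2) F) := by
    conv_rhs => rw [← hfix]
    rw [Matrix.mul_assoc, ← Matrix.SpecialLinearGroup.coe_mul, ← map_mul, inv_mul_cancel, map_one,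
      Matrix.SpecialLinearGroup.coe_one, Matrix.mul_one]
  have e2 : ((g⁻¹ : SpecialLinearGroup (Fin 2) F) : Matrix (Fin 2) (Fin 2) F) * Y =
      Y * (fr g⁻¹ : SpecialLinearGroup (Fin 2) F) := by
    conv_lhs => rw [← hfix]
    rw [← Matrix.mul_assoc, ← Matrix.mul_assoc, ← Matrix.SpecialLinearGroup.coe_mul, inv_mul_cancel,
      Matrix.SpecialLinearGroup.coe_one, Matrix.one_mul]
  have e3 : (g : Matrix (Fin 2) (Fin 2) F).trace • Y = ((g : Matrix (Fin 2) (Fin 2) F).trace ^ 3) • Y := by
    have h1 : (g : Matrix (Fin 2) (Fin 2) F).trace • Y =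
        ((g : Matrix (Fin 2) (Fin 2) F) + (g⁻¹ : SpecialLinearGroup (Fin 2) F)) * Y := by
      rw [add_inv_eq_trace, Matrix.smul_mul, Matrix.one_mul]
    have h2 : ((g : Matrix (Fin 2) (Fin 2) F).trace ^ 3) • Y =
        Y * ((fr g : SpecialLinearGroup (Fin 2) F) + (fr g⁻¹ : SpecialLinearGroup (Fin 2) F)) := by
      rw [map_inv, add_inv_eq_trace, trace_fr, Matrix.mul_smul, Matrix.mul_one]
    rw [h1, h2, Matrix.add_mul, Matrix.mul_add, e1, e2]
  by_contra hne
  apply hY
  have h4 : ((g : Matrix (Fin 2) (Fin 2) F).trace ^ 3 - (g : Matrix (Fin 2) (Fin 2) F).trace) • Y = 0 := by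
    rw [sub_smul, e3, sub_self]
  rcases smul_eq_zero.1 h4 with h | h
  · exact absurd (sub_eq_zero.1 h) hne
  · exact h

/-- elements whose square and cube are nontrivial act without fixed points -/
theorem actP_fpf (h2 : (2 : F) ≠ 0) (x : ProjectiveSpecialLinearGroup (Fin 2) F) (hx2 : x ^ 2 ≠ 1)
    (hx3 : x ^ 3 ≠ 1) (w : Multiplicative (Matrix (Fin 2) (Fin 2) F)) (hw : actP h2 x w = w) : w = 1 := by
  obtain ⟨g, rfl⟩ := toPSL2_surjective x
  rw [actP_toPSL2, actSL_apply] at hw
  have hfix : actFun g w.toAdd = w.toAdd := congrArg Multiplicative.toAdd hw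
  by_contra hw1
  have hY : w.toAdd ≠ 0 := fun h => hw1 (by rw [← ofAdd_toAdd w, h]; rfl)
  have ht := trace_of_fixed g _ hY hfix
  set t := (g : Matrix (Fin 2) (Fin 2) F).trace with htdef
  have hc := cayley2 (g : Matrix (Fin 2) (Fin 2) F)
  rw [g.det_coe, ← htdef] at hc
  have h3 : (3 : F) = 0 := by
    have := CharP.cast_eq_zero F 3
    exact_mod_cast this
  have hfac : t * (t - 1) * (t + 1) = 0 := by linear_combination ht
  rcases mul_eq_zero.1 hfac with h | h
  · rcases mul_eq_zero.1 h with h | h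
    · -- trace zero: `g² = -1`
      apply hx2
      rw [← map_pow, toPSL2_eq_one_iff h2]
      right
      apply Subtype.ext
      rw [Matrix.SpecialLinearGroup.coe_pow, pow_two, hc, h]
      simp
    · -- trace one: `g³ = -1`
      apply hx3
      rw [← map_pow, toPSL2_eq_one_iff h2]
      right
      apply Subtype.ext
      have ht1 : t = 1 := by linear_combination h
      rw [ht1, one_smul, one_smul] at hc
      rw [Matrix.SpecialLinearGroup.coe_pow, pow_succ, pow_two, hc, Matrix.sub_mul, hc, Matrix.one_mul]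
      simp
  · -- trace minus one: `g³ = 1`
    apply hx3
    rw [← map_pow, toPSL2_eq_one_iff h2]
    left
    apply Subtype.ext
    have ht1 : t = -1 := by linear_combination h
    rw [ht1, one_smul, neg_one_smul] at hc
    rw [Matrix.SpecialLinearGroup.coe_pow, pow_succ, pow_two, hc, Matrix.sub_mul, Matrix.neg_mul, hc, Matrix.one_mul]
    simp

end Cfsg.Agent.Lib.Helper15.Tr3
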