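import Mathlib
import Cfsg.Agent.Lib.Helper15.Tr3b

/-!
# A group with a nontrivial normal `3`-subgroup and prescribed maximal element orders, part c:
the group `M₂(F) ⋊ (C₂ × PSL₂(F))` and the orders of its elements
-/

set_option autoImplicit false

namespace Cfsg.Agent.Lib.Helper15.Tr3

open Matrix
open Cfsg.Agent.Lib.Helper14
open Cfsg.Agent.Lib.Helper15
open SemidirectProduct

variable {F : Type*} [Field F] [CharP F 3]

theorem three_eq_zero : (3 : F) = 0 := by
  have := CharP.cast_eq_zero F 3
  exact_mod_cast this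

theorem two_ne_zero3 : (2 : F) ≠ 0 := by
  intro h
  have h3 := three_eq_zero (F := F)
  have : (1 : F) = 0 := by linear_combination h3 - h
  exact one_ne_zero this

variable (F) in
/-- the kernel -/
abbrev Nn := Multiplicative (Matrix (Fin 2) (Fin 2) F)

variable (F) in
/-- the complement -/
abbrev Xx := ℤˣ × ProjectiveSpecialLinearGroup (Fin 2) F

/-- the kernel has exponent three -/
theorem Nn_pow_three (w : Nn F) : w ^ 3 = 1 := by
  have h : (3 : ℕ) • w.toAdd = 0 := by
    ext i j
    rw [Matrix.smul_apply, nsmul_eq_mul, Matrix.zero_apply]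
    have := three_eq_zero (F := F)
    push_cast
    rw [this, zero_mul]
  exact congrArg Multiplicative.ofAdd h

/-- the action of the sign group by inversion -/
noncomputable def sgn : ℤˣ →* MulAut (Nn F) where
  toFun u :=
    { toFun := fun n => n ^ (u : ℤ)
      invFun := fun n => n ^ (u : ℤ)
      left_inv := fun n => by
        show (n ^ (u : ℤ)) ^ (u : ℤ) = n
        rw [← _root_.zpow_mul, ← Units.val_mul, Int.units_mul_self, Units.val_one, zpow_one]
      right_inv := fun n => by
        show (n ^ (u : ℤ)) ^ (u : ℤ) = n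
        rw [← _root_.zpow_mul, ← Units.val_mul, Int.units_mul_self, Units.val_one, zpow_one]
      map_mul' := fun a b => mul_zpow a b _ }
  map_one' := by
    apply MulEquiv.ext
    intro n
    show n ^ ((1 : ℤˣ) : ℤ) = n
    rw [Units.val_one, zpow_one]
  map_mul' u v := by
    apply MulEquiv.ext
    intro n
    show n ^ ((u * v : ℤˣ) : ℤ) = (n ^ (v : ℤ)) ^ (u : ℤ)
    rw [Units.val_mul, mul_comm, _root_.zpow_mul]

omit [CharP F 3] in
theorem sgn_apply (u : ℤˣ) (n : Nn F) : sgn u n = n ^ (u : ℤ) := rfl

/-- the projective action -/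
noncomputable def actP' : ProjectiveSpecialLinearGroup (Fin 2) F →* MulAut (Nn F) := actP two_ne_zero3

/-- the full action -/
noncomputable def Psi : Xx F →* MulAut (Nn F) :=
  MonoidHom.noncommCoprod sgn actP' (by
    intro u x
    apply MulEquiv.ext
    intro n
    show sgn u (actP' x n) = actP' x (sgn u n)
    rw [sgn_apply, sgn_apply, map_zpow])

theorem Psi_apply (u : ℤˣ) (x : ProjectiveSpecialLinearGroup (Fin 2) F) (n : Nn F) :
    Psi (u, x) n = (actP' x n) ^ (u : ℤ) := rfl

theorem Psi_one_left (x : ProjectiveSpecialLinearGroup (Fin 2) F) (n : Nn F) :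
    Psi (1, x) n = actP' x n := by
  rw [Psi_apply, Units.val_one, zpow_one]

theorem Psi_neg_one (n : Nn F) : Psi ((-1 : ℤˣ), (1 : ProjectiveSpecialLinearGroup (Fin 2) F)) n = n⁻¹ := by
  rw [Psi_apply, map_one, MulAut.one_apply]
  simp

/-- inversion has no fixed points -/
theorem Psi_neg_one_fpf (w : Nn F) (hw : Psi ((-1 : ℤˣ), (1 : ProjectiveSpecialLinearGroup (Fin 2) F)) w = w) :
    w = 1 := by
  rw [Psi_neg_one] at hw
  have h1 : w ^ 2 = 1 := by
    rw [pow_two]
    nth_rewrite 1 [← hw]
    exact inv_mul_cancel w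
  have h3 := Nn_pow_three w
  have : w = w ^ 3 * (w ^ 2)⁻¹ := by group
  rw [this, h3, h1, inv_one, mul_one]

variable (F) in
/-- the group -/
abbrev HH := Nn F ⋊[Psi] Xx F

end Cfsg.Agent.Lib.Helper15.Tr3
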