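import Mathlib
import Cfsg.Agent.Lib.Helper15.Tr3c

/-!
# A group with a nontrivial normal `3`-subgroup and prescribed maximal element orders, part d:
the orders of the elements of `M₂(F) ⋊ (C₂ × PSL₂(F))`
-/

set_option autoImplicit false

namespace Cfsg.Agent.Lib.Helper15.Tr3

open Matrix
open Cfsg.Agent.Lib.Helper14
open Cfsg.Agent.Lib.Helper15
open SemidirectProduct

variable {F : Type*} [Field F] [CharP F 3]

theorem HH_pow_mul (h : HH F) (n : ℕ) (hn : h.right ^ n = 1) : h ^ (n * 3) = 1 :=
  pow_mul_eq_one (N := Nn F) (G := Xx F) Psi h n 3 hn Nn_pow_three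

theorem HH_orderOf_fpf (h : HH F) (hfpf : ∀ w : Nn F, Psi h.right w = w → w = 1) :
    orderOf h = orderOf h.right :=
  orderOf_eq_of_fpf (N := Nn F) (G := Xx F) Psi h hfpf

theorem HH_fpf_of_pow (x : Xx F) (k : ℕ) (hfpf : ∀ w : Nn F, Psi (x ^ k) w = w → w = 1) :
    ∀ w : Nn F, Psi x w = w → w = 1 :=
  fpf_of_pow (N := Nn F) (G := Xx F) Psi x k hfpf

section finite

variable [Fintype F]

/-- the orders of the elements -/
theorem orderOf_dvd (k : ℕ) (hk : Fintype.card F = 24 * k + 3) (h : HH F) :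
    orderOf h ∣ 6 ∨ orderOf h ∣ 9 ∨ orderOf h ∣ Fintype.card F - 1 ∨ orderOf h ∣ (Fintype.card F + 1) / 2 := by
  have h2 := two_ne_zero3 (F := F)
  obtain ⟨ε, x, hεx⟩ : ∃ ε x, h.right = (ε, x) := ⟨h.right.1, h.right.2, rfl⟩
  have hε2 : ε ^ 2 = 1 := Int.units_sq ε
  have hpowr : ∀ n : ℕ, h.right ^ n = (ε ^ n, x ^ n) := by
    intro n
    rw [hεx]
    rfl
  obtain ⟨g, hg⟩ := toPSL2_surjective x
  have hord := orderOf_mk_dvd 3 g
  have hgx : QuotientGroup.mk' (Subgroup.center (SpecialLinearGroup (Fin 2) F)) g = x := hg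
  rw [hgx, gcd_two_of_ne h2, hk] at hord
  have e1 : (24 * k + 3 - 1) / 2 = 12 * k + 1 := by omega
  have e2 : (24 * k + 3 + 1) / 2 = 12 * k + 2 := by omega
  rw [e1, e2] at hord
  rw [hk, e2]
  have e3 : 24 * k + 3 - 1 = 2 * (12 * k + 1) := by omega
  rw [e3]
  by_cases hx3 : x ^ 3 = 1
  · rcases Int.units_eq_one_or ε with he | he
    · right; left
      apply orderOf_dvd_of_pow_eq_one
      have e9 : (9 : ℕ) = 3 * 3 := by norm_num
      rw [e9]
      apply HH_pow_mul h 3
      rw [hpowr, hx3, he, one_pow]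
      rfl
    · left
      have hfpf : ∀ w : Nn F, Psi h.right w = w → w = 1 := by
        apply HH_fpf_of_pow h.right 3
        rw [hpowr, hx3, he]
        have : ((-1 : ℤˣ)) ^ 3 = -1 := by decide
        rw [this]
        exact Psi_neg_one_fpf
      rw [HH_orderOf_fpf h hfpf]
      apply orderOf_dvd_of_pow_eq_one
      rw [hpowr]
      have e6 : x ^ 6 = 1 := by
        have : x ^ 6 = (x ^ 3) ^ 2 := by rw [← pow_mul]
        rw [this, hx3, one_pow]
      have e6' : ε ^ 6 = 1 := by
        have : ε ^ 6 = (ε ^ 2) ^ 3 := by rw [← pow_mul]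
        rw [this, hε2, one_pow]
      rw [e6, e6']
      rfl
  · by_cases hx2 : x ^ 2 = 1
    · left
      apply orderOf_dvd_of_pow_eq_one
      have e6 : (6 : ℕ) = 2 * 3 := by norm_num
      rw [e6]
      apply HH_pow_mul h 2
      rw [hpowr, hx2, hε2]
      rfl
    · have hd : orderOf x ∣ 12 * k + 1 ∨ orderOf x ∣ 12 * k + 2 := by
        rcases hord with hd | hd | hd
        · exact absurd (orderOf_dvd_iff_pow_eq_one.1 hd) hx3
        · exact Or.inl hd
        · exact Or.inr hd
      have hx4 : (x ^ 2) ^ 2 ≠ 1 := by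
        intro h4
        rw [← pow_mul] at h4
        have h4' : orderOf x ∣ 4 := orderOf_dvd_of_pow_eq_one h4
        apply hx2
        apply orderOf_dvd_iff_pow_eq_one.1
        rcases hd with hd | hd
        · have : orderOf x ∣ 12 * k + 1 - 4 * (3 * k) := Nat.dvd_sub hd (Dvd.dvd.mul_right h4' _)
          have e : 12 * k + 1 - 4 * (3 * k) = 1 := by omega
          rw [e] at this
          exact this.trans (one_dvd _)
        · have : orderOf x ∣ 12 * k + 2 - 4 * (3 * k) := Nat.dvd_sub hd (Dvd.dvd.mul_right h4' _)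
          have e : 12 * k + 2 - 4 * (3 * k) = 2 := by omega
          rw [e] at this
          exact this
      have hx6 : (x ^ 2) ^ 3 ≠ 1 := by
        intro h6
        rw [← pow_mul] at h6
        have h6' : orderOf x ∣ 6 := orderOf_dvd_of_pow_eq_one h6
        apply hx2
        apply orderOf_dvd_iff_pow_eq_one.1
        rcases hd with hd | hd
        · have : orderOf x ∣ 12 * k + 1 - 6 * (2 * k) := Nat.dvd_sub hd (Dvd.dvd.mul_right h6' _)
          have e : 12 * k + 1 - 6 * (2 * k) = 1 := by omega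
          rw [e] at this
          exact this.trans (one_dvd _)
        · have : orderOf x ∣ 12 * k + 2 - 6 * (2 * k) := Nat.dvd_sub hd (Dvd.dvd.mul_right h6' _)
          have e : 12 * k + 2 - 6 * (2 * k) = 2 := by omega
          rw [e] at this
          exact this
      have hfpf : ∀ w : Nn F, Psi h.right w = w → w = 1 := by
        apply HH_fpf_of_pow h.right 2
        rw [hpowr, hε2]
        intro w hw
        rw [Psi_one_left] at hw
        exact actP_fpf two_ne_zero3 (x ^ 2) hx4 hx6 w hw
      rw [HH_orderOf_fpf h hfpf]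
      rcases hd with hd | hd
      · right; right; left
        apply orderOf_dvd_of_pow_eq_one
        rw [hpowr, pow_mul ε, hε2, one_pow, mul_comm 2, pow_mul x, orderOf_dvd_iff_pow_eq_one.1 hd, one_pow]
        rfl
      · right; right; right
        apply orderOf_dvd_of_pow_eq_one
        have e : 12 * k + 2 = 2 * (6 * k + 1) := by ring
        rw [hpowr, orderOf_dvd_iff_pow_eq_one.1 hd, e, pow_mul ε, hε2, one_pow]
        rfl

end finite

end Cfsg.Agent.Lib.Helper15.Tr3
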