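import Mathlib
import Cfsg.Agent.Lib.Helper15.Tr3d
import Cfsg.Agent.Lib.Helper14.SL2Conj

/-!
# A group with a nontrivial normal `3`-subgroup and prescribed maximal element orders, part e:
elements of the maximal orders, the normal `3`-subgroup
-/

set_option autoImplicit false

namespace Cfsg.Agent.Lib.Helper15.Tr3

open Matrix
open Cfsg.Agent.Lib.Helper14
open Cfsg.Agent.Lib.Helper15
open SemidirectProduct

section general

variable {N G : Type*} [Group N] [Group G] (φ : G →* MulAut N)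

theorem pow_three_left (h : N ⋊[φ] G) :
    (h ^ 3).left = h.left * φ h.right h.left * φ (h.right * h.right) h.left := by
  rw [pow_succ, pow_two, mul_left, mul_left, mul_right]

theorem orderOf_inr (y : G) : orderOf (inr y : N ⋊[φ] G) = orderOf y :=
  orderOf_injective inr inr_injective y

end general

theorem orderOf_neg_one_units : orderOf (-1 : ℤˣ) = 2 := by
  apply orderOf_eq_prime
  · decide
  · decide

variable {F : Type*} [Field F] [CharP F 3]

/-- the lower left matrix unit -/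
def E21 : Matrix (Fin 2) (Fin 2) F := !![0, 0; 1, 0]

theorem actFun_upper_01 (a : F) : actFun (upperSL 1 a (one_mul 1)) (E21 : Matrix (Fin 2) (Fin 2) F) 0 1 = -a ^ 4 := by
  have hinv : (upperSL 1 a (one_mul 1))⁻¹ = upperSL 1 (-a) (one_mul 1) := by
    rw [inv_eq_iff_mul_eq_one, Cfsg.Agent.Lib.Helper14.upperSL_one_mul, add_neg_cancel]
    apply Subtype.ext
    simp [Matrix.one_fin_two]
  rw [actFun_def, hinv, Matrix.mul_apply, Fin.sum_univ_two, fr_coe, fr_coe, Matrix.mul_apply, Matrix.mul_apply,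
    Fin.sum_univ_two, Fin.sum_univ_two]
  simp [E21]
  ring

/-- the element of order nine -/
noncomputable def h9 : HH F :=
  ⟨Multiplicative.ofAdd E21, ((1 : ℤˣ), toPSL2 F (upperSL 1 1 (one_mul 1)))⟩

theorem orderOf_h9 : orderOf (h9 : HH F) = 9 := by
  have h3 := three_eq_zero (F := F)
  have hu3 : (upperSL 1 (1 : F) (one_mul 1)) ^ 3 = 1 := by
    rw [← orderOf_upperSL 3 (1 : F) one_ne_zero, pow_orderOf_eq_one]
  have hr3 : (h9 : HH F).right ^ 3 = 1 := by
    show (((1 : ℤˣ), toPSL2 F (upperSL 1 1 (one_mul 1))) : Xx F) ^ 3 = 1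
    rw [Prod.pow_mk, one_pow, ← map_pow, hu3, map_one]
    rfl
  have h9' : (h9 : HH F) ^ 9 = 1 := by
    have e9 : (9 : ℕ) = 3 * 3 := by norm_num
    rw [e9]
    exact HH_pow_mul h9 3 hr3
  have hne : (h9 : HH F) ^ 3 ≠ 1 := by
    intro h
    have h1 := congrArg SemidirectProduct.left h
    rw [pow_three_left] at h1
    have e1 : (h9 : HH F).left = Multiplicative.ofAdd E21 := rfl
    have e2 : (h9 : HH F).right = ((1 : ℤˣ), toPSL2 F (upperSL 1 1 (one_mul 1))) := rfl
    have e3 : (h9 : HH F).right * (h9 : HH F).right =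
        ((1 : ℤˣ), toPSL2 F (upperSL 1 (1 + 1) (one_mul 1))) := by
      rw [e2, Prod.mk_mul_mk, one_mul, ← map_mul, Cfsg.Agent.Lib.Helper14.upperSL_one_mul]
    rw [e3, e2, e1, Psi_one_left, Psi_one_left] at h1
    have h2 := congrArg Multiplicative.toAdd h1
    have h4 : (E21 : Matrix (Fin 2) (Fin 2) F) + actFun (upperSL 1 1 (one_mul 1)) E21 +
        actFun (upperSL 1 (1 + 1) (one_mul 1)) E21 = 0 := h2
    have h5 := congrFun (congrFun h4 0) 1
    rw [Matrix.add_apply, Matrix.add_apply, actFun_upper_01, actFun_upper_01] at h5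
    simp only [E21, Matrix.zero_apply, Matrix.of_apply, Matrix.cons_val_zero, Matrix.cons_val_one] at h5
    have : (1 : F) = 0 := by linear_combination h5 + 6 * h3
    exact one_ne_zero this
  have hd : orderOf (h9 : HH F) ∣ 3 ^ 2 := by
    apply orderOf_dvd_of_pow_eq_one
    exact h9'
  rw [Nat.dvd_prime_pow Nat.prime_three] at hd
  obtain ⟨j, hj, hoj⟩ := hd
  interval_cases j
  · exfalso
    apply hne
    rw [pow_zero, orderOf_eq_one_iff] at hoj
    rw [hoj, one_pow]
  · exfalso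
    apply hne
    rw [pow_one] at hoj
    rw [← hoj, pow_orderOf_eq_one]
  · rw [hoj]
    norm_num

/-- the normal `3`-subgroup -/
theorem exists_normal_three : ∃ P : Subgroup (HH F), P.Normal ∧ P ≠ ⊥ ∧ IsPGroup 3 ↥P := by
  refine ⟨(inl : Nn F →* HH F).range, ?_, ?_, ?_⟩
  · rw [range_inl_eq_ker_rightHom]
    exact MonoidHom.normal_ker _
  · intro hbot
    have hmem : (inl (Multiplicative.ofAdd (1 : Matrix (Fin 2) (Fin 2) F)) : HH F) ∈ (inl : Nn F →* HH F).range :=
      ⟨_, rfl⟩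
    rw [hbot, Subgroup.mem_bot] at hmem
    have h1 : Multiplicative.ofAdd (1 : Matrix (Fin 2) (Fin 2) F) = 1 := inl_injective (by rw [hmem, map_one])
    have h2 : (1 : Matrix (Fin 2) (Fin 2) F) = 0 := congrArg Multiplicative.toAdd h1
    exact one_ne_zero h2
  · rintro ⟨g, w, rfl⟩
    refine ⟨1, ?_⟩
    apply Subtype.ext
    rw [pow_one, Subgroup.coe_pow, Subgroup.coe_one, ← map_pow, Nn_pow_three, map_one]

section finite

variable [Fintype F]

instance : Finite (HH F) := Finite.of_equiv _ (equivProd (N := Nn F) (G := Xx F) (φ := Psi)).symm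

/-- elements of the four maximal orders -/
theorem exists_orders (k : ℕ) (hk1 : 1 ≤ k) (hk : Fintype.card F = 24 * k + 3) :
    (∃ h : HH F, orderOf h = 6) ∧ (∃ h : HH F, orderOf h = 9) ∧
    (∃ h : HH F, orderOf h = Fintype.card F - 1) ∧ (∃ h : HH F, orderOf h = (Fintype.card F + 1) / 2) := by
  have h2 := two_ne_zero3 (F := F)
  have h4 : 4 ≤ Fintype.card F := by rw [hk]; omega
  have hr := range_orderOf_psl (F := F) 3 h4
  rw [gcd_two_of_ne h2, hk] at hr
  have e1 : (24 * k + 3 - 1) / 2 = 12 * k + 1 := by omega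
  have e2 : (24 * k + 3 + 1) / 2 = 12 * k + 2 := by omega
  rw [e1, e2] at hr
  have ex : ∀ m : ℕ, (m ∣ 3 ∨ m ∣ 12 * k + 1 ∨ m ∣ 12 * k + 2) →
      ∃ x : ProjectiveSpecialLinearGroup (Fin 2) F, orderOf x = m := by
    intro m hm
    have : m ∈ Set.range (orderOf : ProjectiveSpecialLinearGroup (Fin 2) F → ℕ) := by
      rw [hr]
      exact hm
    exact this
  obtain ⟨x3, hx3⟩ := ex 3 (Or.inl (dvd_refl 3))
  obtain ⟨y1, hy1⟩ := ex (12 * k + 1) (Or.inr (Or.inl (dvd_refl _)))
  obtain ⟨y2, hy2⟩ := ex (12 * k + 2) (Or.inr (Or.inr (dvd_refl _)))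
  refine ⟨⟨inr ((-1 : ℤˣ), x3), ?_⟩, ⟨h9, orderOf_h9⟩, ⟨inr ((-1 : ℤˣ), y1), ?_⟩, ⟨inr ((1 : ℤˣ), y2), ?_⟩⟩
  · rw [orderOf_inr, Prod.orderOf_mk, orderOf_neg_one_units, hx3]
    rfl
  · rw [orderOf_inr, Prod.orderOf_mk, orderOf_neg_one_units, hy1, hk]
    have hc : Nat.Coprime 2 (12 * k + 1) := by
      rw [Nat.coprime_two_left, Nat.odd_iff]
      omega
    rw [hc.lcm_eq_mul]
    omega
  · rw [orderOf_inr, Prod.orderOf_mk, orderOf_one, hy2, hk, e2, Nat.lcm_one_left]

end finite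

end Cfsg.Agent.Lib.Helper15.Tr3
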