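import Mathlib
import Cfsg.Agent.Lib.Helper15.Tr3e

/-!
# A group with a nontrivial normal `3`-subgroup and prescribed maximal element orders, part f:
the assembly
-/

set_option autoImplicit false

namespace Cfsg.Agent.Lib.Helper15.Tr3

open Matrix
open Cfsg.Agent.Lib.Helper14
open Cfsg.Agent.Lib.Helper15
open SemidirectProduct

theorem nine_pow_mod (j : ℕ) : 9 ^ j % 8 = 1 := by
  induction j with
  | zero => rfl
  | succ j ih =>
    rw [pow_succ]
    omega

theorem three_pow_odd (α : ℕ) (hα : 3 ≤ α) (hodd : Odd α) : ∃ k : ℕ, 1 ≤ k ∧ 3 ^ α = 24 * k + 3 := by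
  obtain ⟨j, rfl⟩ := hodd
  have h1 := nine_pow_mod j
  have h2 : 9 ^ 1 ≤ 9 ^ j := Nat.pow_le_pow_right (by norm_num) (by omega)
  have e : 3 ^ (2 * j + 1) = 3 * 9 ^ j := by
    rw [pow_succ, pow_mul]
    norm_num
    ring
  refine ⟨9 ^ j / 8, by omega, ?_⟩
  rw [e]
  omega

theorem four_antichain (k : ℕ) (hk : 1 ≤ k) (a b : ℕ)
    (ha : a = 6 ∨ a = 9 ∨ a = 24 * k + 2 ∨ a = 12 * k + 2)
    (hb : b = 6 ∨ b = 9 ∨ b = 24 * k + 2 ∨ b = 12 * k + 2) (hab : a ∣ b) : a = b := by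
  have hbpos : 0 < b := by omega
  have hle := Nat.le_of_dvd hbpos hab
  rcases ha with rfl | rfl | rfl | rfl <;> rcases hb with rfl | rfl | rfl | rfl <;>
    first
    | rfl
    | omega
    | (exfalso
       have h2 : 12 * k + 2 ∣ 2 * (12 * k + 2) - (24 * k + 2) := Nat.dvd_sub (Dvd.intro_left _ rfl) hab
       have e : 2 * (12 * k + 2) - (24 * k + 2) = 2 := by omega
       rw [e] at h2
       have := Nat.le_of_dvd (by norm_num) h2
       omega)

variable {F : Type*} [Field F] [CharP F 3] [Fintype F]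

/-- the set of maximal element orders -/
theorem maximal_orders (k : ℕ) (hk1 : 1 ≤ k) (hk : Fintype.card F = 24 * k + 3) :
    {n : ℕ | n ∈ Set.range (orderOf : HH F → ℕ) ∧ ∀ m ∈ Set.range (orderOf : HH F → ℕ), n ∣ m → m = n} =
      ({6, 9, Fintype.card F - 1, (Fintype.card F + 1) / 2} : Set ℕ) := by
  obtain ⟨⟨a6, ha6⟩, ⟨a9, ha9⟩, ⟨aq, haq⟩, ⟨ar, har⟩⟩ := exists_orders (F := F) k hk1 hk
  have e1 : Fintype.card F - 1 = 24 * k + 2 := by omega
  have e2 : (Fintype.card F + 1) / 2 = 12 * k + 2 := by omega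
  have hdvd : ∀ h : HH F, orderOf h ∣ 6 ∨ orderOf h ∣ 9 ∨ orderOf h ∣ 24 * k + 2 ∨ orderOf h ∣ 12 * k + 2 := by
    intro h
    have := orderOf_dvd k hk h
    rwa [e1, e2] at this
  rw [e1] at haq
  rw [e2] at har
  rw [e1, e2]
  ext n
  simp only [Set.mem_ofPred_eq, Set.mem_insert_iff, Set.mem_singleton_iff]
  constructor
  · rintro ⟨⟨h, rfl⟩, hmax⟩
    rcases hdvd h with hd | hd | hd | hd
    · left; exact (hmax 6 ⟨a6, ha6⟩ hd).symm
    · right; left; exact (hmax 9 ⟨a9, ha9⟩ hd).symm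
    · right; right; left; exact (hmax _ ⟨aq, haq⟩ hd).symm
    · right; right; right; exact (hmax _ ⟨ar, har⟩ hd).symm
  · intro hn
    have hnS : n ∈ Set.range (orderOf : HH F → ℕ) := by
      rcases hn with rfl | rfl | rfl | rfl
      · exact ⟨a6, ha6⟩
      · exact ⟨a9, ha9⟩
      · exact ⟨aq, haq⟩
      · exact ⟨ar, har⟩
    refine ⟨hnS, ?_⟩
    rintro m ⟨h, rfl⟩ hnm
    have key : ∀ b : ℕ, (b = 6 ∨ b = 9 ∨ b = 24 * k + 2 ∨ b = 12 * k + 2) → orderOf h ∣ b → orderOf h = n := by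
      intro b hb hd
      have := four_antichain k hk1 n b hn hb (hnm.trans hd)
      rw [← this] at hd
      exact Nat.dvd_antisymm hd hnm
    rcases hdvd h with hd | hd | hd | hd
    · exact key 6 (Or.inl rfl) hd
    · exact key 9 (Or.inr (Or.inl rfl)) hd
    · exact key _ (Or.inr (Or.inr (Or.inl rfl))) hd
    · exact key _ (Or.inr (Or.inr (Or.inr rfl))) hd

end Cfsg.Agent.Lib.Helper15.Tr3
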