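import Mathlib
import Cfsg.Agent.Lib.Helper15.CycForm
set_option autoImplicit false
namespace Cfsg.Agent.Lib.Helper15
open Polynomial DirectSum
variable {K : Type*} [Field K] {V : Type*} [AddCommGroup V] [Module K V] [FiniteDimensional K V]

theorem exists_selfAdjoint_form (φ : Module.End K V) :
    ∃ B : V →ₗ[K] V →ₗ[K] K, (∀ x y, B (φ x) y = B x (φ y)) ∧ B.SeparatingLeft := by
  classical
  have h1 : Module.IsTorsion K[X] (Module.AEval' φ) := Module.AEval.isTorsion_of_finiteDimensional K V φ
  obtain ⟨ι, hι, p, hp, e, ⟨E⟩⟩ := Module.equiv_directSum_of_isTorsion h1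
  have hg : ∀ i, p i ^ e i ≠ 0 := fun i => pow_ne_zero _ (hp i).ne_zero
  -- components
  let comp : V → ∀ i, K[X] ⧸ Submodule.span K[X] {p i ^ e i} := fun x i => (E (Module.AEval'.of φ x)) i
  have comp_add : ∀ x y i, comp (x + y) i = comp x i + comp y i := by
    intro x y i
    simp only [comp, map_add, DirectSum.add_apply]
  have comp_smul : ∀ (c : K) x i, comp (c • x) i = C c • comp x i := by
    intro c x i
    simp only [comp]
    rw [map_smul, ← Module.AEval.C_smul, map_smul, DirectSum.smul_apply]
  have comp_phi : ∀ x i, comp (φ x) i = (X : K[X]) • comp x i := by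
    intro x i
    simp only [comp]
    rw [← Module.AEval'.X_smul_of, map_smul, DirectSum.smul_apply]
  let B : V →ₗ[K] V →ₗ[K] K := LinearMap.mk₂ K (fun x y => ∑ i, cycForm (p i ^ e i) (comp x i) (comp y i))
    (by
      intro x x' y
      simp only [comp_add, cycForm_add_left, Finset.sum_add_distrib])
    (by
      intro c x y
      simp only [comp_smul, cycForm_C_smul_left _ (hg _), Finset.mul_sum, smul_eq_mul])
    (by
      intro x y y'
      simp only [comp_add, cycForm_add_right, Finset.sum_add_distrib])
    (by
      intro c x y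
      simp only [comp_smul, ← cycForm_smul_comm, cycForm_C_smul_left _ (hg _), Finset.mul_sum, smul_eq_mul])
  refine ⟨B, ?_, ?_⟩
  · intro x y
    simp only [B, LinearMap.mk₂_apply, comp_phi, cycForm_smul_comm]
  · intro x hx
    have hcomp : ∀ i, comp x i = 0 := by
      intro i
      apply cycForm_nondeg _ (hg i)
      intro b
      have := hx ((Module.AEval'.of φ).symm (E.symm (DirectSum.of _ i b)))
      simp only [B, LinearMap.mk₂_apply, comp] at this
      rw [LinearEquiv.apply_symm_apply, LinearEquiv.apply_symm_apply] at this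
      rw [Finset.sum_eq_single i] at this
      · rw [DirectSum.of_eq_same] at this
        exact this
      · intro j _ hji
        rw [DirectSum.of_eq_of_ne _ _ _ hji]
        have h0 := cycForm_add_right (p j ^ e j) ((E (Module.AEval'.of φ x)) j) 0 0
        rw [add_zero] at h0
        exact left_eq_add.mp h0
      · intro h
        exact absurd (Finset.mem_univ i) h
    have : E (Module.AEval'.of φ x) = 0 := by
      ext i
      exact hcomp i
    rw [LinearEquiv.map_eq_zero_iff, LinearEquiv.map_eq_zero_iff] at this
    exact this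

/-- every square matrix over a field is similar to its transpose -/
theorem isConj_transpose {n : Type*} [Fintype n] [DecidableEq n] (A : Matrix n n K) : IsConj A A.transpose := by
  obtain ⟨B, hB, hsep⟩ := exists_selfAdjoint_form (Matrix.toLin' A)
  set P := LinearMap.toMatrix₂' K B with hP
  have hdet : P.det ≠ 0 := Matrix.separatingLeft_iff_det_ne_zero.mp (LinearMap.separatingLeft_toMatrix₂'_iff.mpr hsep)
  have h1 : B.compl₁₂ (Matrix.toLin' A) LinearMap.id = B.compl₁₂ LinearMap.id (Matrix.toLin' A) := by
    apply LinearMap.ext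
    intro x
    apply LinearMap.ext
    intro y
    rw [LinearMap.compl₁₂_apply, LinearMap.compl₁₂_apply, LinearMap.id_apply, LinearMap.id_apply]
    exact hB _ _
  have h2 := congrArg (LinearMap.toMatrix₂' K) h1
  rw [LinearMap.toMatrix₂'_compl₁₂, LinearMap.toMatrix₂'_compl₁₂, LinearMap.toMatrix'_toLin', LinearMap.toMatrix'_id,
    Matrix.transpose_one, Matrix.one_mul, Matrix.mul_one] at h2
  have hu : IsUnit P := (Matrix.isUnit_iff_isUnit_det P).mpr (isUnit_iff_ne_zero.mpr hdet)
  obtain ⟨c, hc⟩ := hu
  refine ⟨c, ?_⟩
  show (c : Matrix n n K) * A = A.transpose * c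
  rw [hc]
  exact h2.symm

end Cfsg.Agent.Lib.Helper15
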