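import Mathlib

set_option autoImplicit false

namespace Cfsg.Agent.Lib.Helper15

open Module Matrix

variable {F : Type*} [Field F]

/-- a rank one square-zero matrix has a basis with `N b₀ = b₁`, `N bⱼ = 0` for `j ≠ 0`. -/
theorem exists_basis_transvection {m : ℕ} (N : Matrix (Fin (m + 2)) (Fin (m + 2)) F) (hrank : N.rank = 1)
    (hsq : N * N = 0) :
    ∃ b : Module.Basis (Fin (m + 2)) F (Fin (m + 2) → F), N *ᵥ (b 0) = b 1 ∧ ∀ j, j ≠ 0 → N *ᵥ (b j) = 0 := by
  classical
  set f : Module.End F (Fin (m + 2) → F) := N.mulVecLin with hf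
  have hr : finrank F (LinearMap.range f) = 1 := hrank
  have hff : ∀ x, f (f x) = 0 := by
    intro x
    simp only [hf, Matrix.mulVecLin_apply, Matrix.mulVec_mulVec, hsq, Matrix.zero_mulVec]
  obtain ⟨⟨a, ⟨y, hy⟩⟩, ha0⟩ : ∃ a : LinearMap.range f, a ≠ 0 := by
    rw [← Module.finrank_pos_iff_exists_ne_zero (R := F)]
    omega
  have ha : a ≠ 0 := fun h => ha0 (Subtype.ext h)
  have hfa : f a = 0 := by rw [← hy]; exact hff y
  have hspan : ∀ x, ∃ c : F, f x = c • a := by
    intro x
    obtain ⟨c, hc⟩ := exists_smul_eq_of_finrank_eq_one hr (x := (⟨a, ⟨y, hy⟩⟩ : LinearMap.range f)) ha0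
      ⟨f x, ⟨x, rfl⟩⟩
    exact ⟨c, (congrArg Subtype.val hc).symm⟩
  obtain ⟨i, hi⟩ : ∃ i, a i ≠ 0 := by
    by_contra hcon
    push Not at hcon
    exact ha (funext hcon)
  let ψ : (Fin (m + 2) → F) →ₗ[F] F := (a i)⁻¹ • LinearMap.proj i
  have hψa : ψ a = 1 := by
    simp [ψ, hi]
  let K : Submodule F (Fin (m + 2) → F) := LinearMap.ker f
  let U : Submodule F (Fin (m + 2) → F) := K ⊓ LinearMap.ker ψ
  obtain ⟨d, hd⟩ : ∃ d, finrank F U = d := ⟨_, rfl⟩
  let bU : Module.Basis (Fin d) F U := Module.finBasisOfFinrankEq F U hd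
  have haK : a ∈ K := hfa
  let bK : Module.Basis (Fin (d + 1)) F K := Module.Basis.mkFinConsOfLE a haK bU inf_le_left
    (by
      intro c x hx hcx
      have := congrArg ψ hcx
      rw [map_add, map_smul, hψa, LinearMap.mem_ker.mp hx.2, map_zero] at this
      simpa using this)
    (by
      intro z hz
      refine ⟨-ψ z, ⟨K.add_mem hz (K.smul_mem _ haK), ?_⟩⟩
      show ψ (z + -ψ z • a) = 0
      rw [map_add, map_smul, hψa]
      simp)
  let b : Module.Basis (Fin (d + 1 + 1)) F (Fin (m + 2) → F) := Module.Basis.mkFinCons y bK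
    (by
      intro c x hx hcx
      have := congrArg f hcx
      rw [map_add, map_smul, hy, LinearMap.mem_ker.mp hx, map_zero, add_zero] at this
      exact (smul_eq_zero.mp this).resolve_right ha)
    (by
      intro z
      obtain ⟨c, hc⟩ := hspan z
      refine ⟨-c, ?_⟩
      show f (z + -c • y) = 0
      rw [map_add, map_smul, hy, hc]
      simp)
  have hcard : m + 2 = d + 1 + 1 := by
    have h1 := Module.finrank_eq_card_basis b
    rw [Module.finrank_fin_fun, Fintype.card_fin] at h1
    exact h1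
  obtain rfl : d = m := by omega
  refine ⟨b, ?_, ?_⟩
  · have h0 : b 0 = y := by
      simp only [b, Module.Basis.coe_mkFinCons, Fin.cons_zero]
    have h1 : b 1 = a := by
      have : (1 : Fin (d + 1 + 1)) = Fin.succ 0 := rfl
      rw [this]
      simp only [b, Module.Basis.coe_mkFinCons, Fin.cons_succ, Function.comp_apply, bK,
        Module.Basis.coe_mkFinConsOfLE, Fin.cons_zero]
    rw [h0, h1]
    exact hy
  · intro j hj
    obtain ⟨j', rfl⟩ := Fin.exists_succ_eq.mpr hj
    have : b (Fin.succ j') = (bK j' : Fin (d + 2) → F) := by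
      simp only [b, Module.Basis.coe_mkFinCons, Fin.cons_succ, Function.comp_apply]
    rw [this]
    exact (bK j').2


/-- the standard transvection `1 + E₁₀` -/
def stdTrv (m : ℕ) : Matrix (Fin (m + 2)) (Fin (m + 2)) F := 1 + Matrix.single 1 0 1

theorem exists_conj_stdTrv {m : ℕ} (s : Matrix (Fin (m + 2)) (Fin (m + 2)) F) (hrank : (s - 1).rank = 1)
    (hsq : (s - 1) * (s - 1) = 0) :
    ∃ g : Matrix (Fin (m + 2)) (Fin (m + 2)) F, IsUnit g.det ∧ s * g = g * stdTrv m := by
  classical
  obtain ⟨b, hb0, hbj⟩ := exists_basis_transvection (s - 1) hrank hsq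
  refine ⟨(Pi.basisFun F (Fin (m + 2))).toMatrix b, ?_, ?_⟩
  · have := Module.Basis.invertibleToMatrix (Pi.basisFun F (Fin (m + 2))) b
    exact Matrix.isUnit_det_of_invertible _
  · ext i j
    have h1 : (s * (Pi.basisFun F (Fin (m + 2))).toMatrix b) i j = (s *ᵥ b j) i := by
      simp only [Matrix.mul_apply, Matrix.mulVec, dotProduct, Module.Basis.toMatrix_apply, Pi.basisFun_repr]
    have h2 : s *ᵥ b j = b j + (s - 1) *ᵥ b j := by
      rw [Matrix.sub_mulVec, Matrix.one_mulVec]; abel
    rw [h1, h2, stdTrv, mul_add, mul_one, Matrix.add_apply, Pi.add_apply]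
    congr 1
    by_cases hj : j = 0
    · subst hj
      rw [hb0, Matrix.mul_single_apply_same, mul_one, Module.Basis.toMatrix_apply, Pi.basisFun_repr]
    · rw [hbj j hj, Matrix.mul_single_apply_of_ne (c := (1 : F)) 1 0 i j hj]
      rfl

/-- the diagonal matrix `diag(1,1,c,1,…)` -/
def diagTwo (m : ℕ) (c : F) : Matrix (Fin (m + 3)) (Fin (m + 3)) F := Matrix.diagonal (Function.update 1 2 c)

theorem det_diagTwo (m : ℕ) (c : F) : (diagTwo m c).det = c := by
  classical
  rw [diagTwo, Matrix.det_diagonal, Finset.prod_eq_single (2 : Fin (m + 3))]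
  · simp
  · intro j _ hj
    simp [Function.update_of_ne hj]
  · intro h
    exact absurd (Finset.mem_univ _) h

theorem diagTwo_comm (m : ℕ) (c : F) : diagTwo m c * stdTrv (m + 1) = stdTrv (m + 1) * diagTwo m c := by
  classical
  ext i j
  rw [diagTwo, Matrix.diagonal_mul, Matrix.mul_diagonal, stdTrv, Matrix.add_apply, Matrix.single_apply]
  have h02 : (0 : Fin (m + 3)) ≠ 2 := by
    intro h
    have := congrArg Fin.val h
    rw [Fin.val_two, Fin.val_zero] at this
    omega
  have h12 : (1 : Fin (m + 3)) ≠ 2 := by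
    intro h
    have := congrArg Fin.val h
    rw [Fin.val_two, Fin.val_one] at this
    omega
  by_cases h : (1 : Fin (m + 3)) = i ∧ (0 : Fin (m + 3)) = j
  · obtain ⟨rfl, rfl⟩ := h
    simp [Function.update_of_ne h02, Function.update_of_ne h12]
  · simp only [h, if_false, add_zero]
    by_cases hij : i = j
    · subst hij
      simp [mul_comm]
    · simp [Matrix.one_apply_ne hij]

end Cfsg.Agent.Lib.Helper15
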