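import Mathlib
import Cfsg.Agent.Lib.Helper15.Transvection

set_option autoImplicit false

namespace Cfsg.Agent.Lib.Helper15

open Matrix

variable {F : Type*} [Field F]

/-- the block `[[lam, w], [0, Y]]` -/
def blkB {m : ℕ} (lam : F) (w : Fin m → F) (Y : Matrix (Fin m) (Fin m) F) : Matrix (Fin (m + 1)) (Fin (m + 1)) F :=
  Matrix.of fun i j => Fin.cases (Fin.cases lam w j) (fun i' => Fin.cases 0 (Y i') j) i

/-- the block `[[lam, 0], [u, B]]` -/
def blkX {m : ℕ} (lam : F) (u : Fin (m + 1) → F) (B : Matrix (Fin (m + 1)) (Fin (m + 1)) F) :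
    Matrix (Fin (m + 2)) (Fin (m + 2)) F :=
  Matrix.of fun i j => Fin.cases (Fin.cases lam (fun _ => 0) j) (fun i' => Fin.cases (u i') (B i') j) i

@[simp] theorem blkB_zero_zero {m : ℕ} (lam : F) (w : Fin m → F) (Y : Matrix (Fin m) (Fin m) F) :
    blkB lam w Y 0 0 = lam := rfl
@[simp] theorem blkB_zero_succ {m : ℕ} (lam : F) (w : Fin m → F) (Y : Matrix (Fin m) (Fin m) F) (j : Fin m) :
    blkB lam w Y 0 j.succ = w j := rfl
@[simp] theorem blkB_succ_zero {m : ℕ} (lam : F) (w : Fin m → F) (Y : Matrix (Fin m) (Fin m) F) (i : Fin m) :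
    blkB lam w Y i.succ 0 = 0 := rfl
@[simp] theorem blkB_succ_succ {m : ℕ} (lam : F) (w : Fin m → F) (Y : Matrix (Fin m) (Fin m) F) (i j : Fin m) :
    blkB lam w Y i.succ j.succ = Y i j := rfl

@[simp] theorem blkX_zero_zero {m : ℕ} (lam : F) (u : Fin (m + 1) → F) (B : Matrix (Fin (m + 1)) (Fin (m + 1)) F) :
    blkX lam u B 0 0 = lam := rfl
@[simp] theorem blkX_zero_succ {m : ℕ} (lam : F) (u : Fin (m + 1) → F) (B : Matrix (Fin (m + 1)) (Fin (m + 1)) F)
    (j : Fin (m + 1)) : blkX lam u B 0 j.succ = 0 := rfl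
@[simp] theorem blkX_succ_zero {m : ℕ} (lam : F) (u : Fin (m + 1) → F) (B : Matrix (Fin (m + 1)) (Fin (m + 1)) F)
    (i : Fin (m + 1)) : blkX lam u B i.succ 0 = u i := rfl
@[simp] theorem blkX_succ_succ {m : ℕ} (lam : F) (u : Fin (m + 1) → F) (B : Matrix (Fin (m + 1)) (Fin (m + 1)) F)
    (i j : Fin (m + 1)) : blkX lam u B i.succ j.succ = B i j := rfl

theorem det_blkX {m : ℕ} (lam : F) (u : Fin (m + 1) → F) (B : Matrix (Fin (m + 1)) (Fin (m + 1)) F) :
    (blkX lam u B).det = lam * B.det := by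
  rw [Matrix.det_succ_row_zero, Fin.sum_univ_succ]
  have h1 : (blkX lam u B).submatrix Fin.succ (Fin.succAbove 0) = B := by
    ext i j
    simp [Fin.succAbove_zero]
  rw [h1]
  simp

theorem det_blkB {m : ℕ} (lam : F) (w : Fin m → F) (Y : Matrix (Fin m) (Fin m) F) :
    (blkB lam w Y).det = lam * Y.det := by
  rw [Matrix.det_succ_column_zero, Fin.sum_univ_succ]
  have h1 : (blkB lam w Y).submatrix (Fin.succAbove 0) Fin.succ = Y := by
    ext i j
    simp [Fin.succAbove_zero]
  rw [h1]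
  simp


theorem comm_single_iff {m : ℕ} (X : Matrix (Fin (m + 2)) (Fin (m + 2)) F) :
    X * Matrix.single 1 0 (1 : F) = Matrix.single 1 0 (1 : F) * X ↔
      X 1 1 = X 0 0 ∧ (∀ i, i ≠ 1 → X i 1 = 0) ∧ (∀ j, j ≠ 0 → X 0 j = 0) := by
  constructor
  · intro h
    refine ⟨?_, ?_, ?_⟩
    · have := congrFun (congrFun h 1) 0
      rw [Matrix.mul_single_apply_same, Matrix.single_mul_apply_same] at this
      simpa using this
    · intro i hi
      have := congrFun (congrFun h i) 0
      rw [Matrix.mul_single_apply_same, Matrix.single_mul_apply_of_ne _ _ _ _ _ hi] at this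
      simpa using this
    · intro j hj
      have := congrFun (congrFun h 1) j
      rw [Matrix.mul_single_apply_of_ne _ _ _ _ _ hj, Matrix.single_mul_apply_same] at this
      simpa using this.symm
  · rintro ⟨h1, h2, h3⟩
    ext i j
    by_cases hj : j = 0
    · subst hj
      rw [Matrix.mul_single_apply_same]
      by_cases hi : i = 1
      · subst hi
        rw [Matrix.single_mul_apply_same, h1]
        ring
      · rw [Matrix.single_mul_apply_of_ne _ _ _ _ _ hi, h2 i hi, zero_mul]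
    · rw [Matrix.mul_single_apply_of_ne _ _ _ _ _ hj]
      by_cases hi : i = 1
      · subst hi
        rw [Matrix.single_mul_apply_same, h3 j hj, mul_zero]
      · rw [Matrix.single_mul_apply_of_ne _ _ _ _ _ hi]

theorem comm_stdTrv_iff {m : ℕ} (X : Matrix (Fin (m + 2)) (Fin (m + 2)) F) :
    X * stdTrv m = stdTrv m * X ↔
      X 1 1 = X 0 0 ∧ (∀ i, i ≠ 1 → X i 1 = 0) ∧ (∀ j, j ≠ 0 → X 0 j = 0) := by
  rw [← comm_single_iff, stdTrv, mul_add, add_mul, mul_one, one_mul]
  constructor
  · intro h; exact add_left_cancel h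
  · intro h; rw [h]

/-- the blocks of a matrix commuting with the standard transvection -/
theorem eq_blkX_of_comm {m : ℕ} (X : Matrix (Fin (m + 2)) (Fin (m + 2)) F)
    (h : X * stdTrv m = stdTrv m * X) :
    X = blkX (X 0 0) (fun i => X i.succ 0)
      (blkB (X 0 0) (fun j => X 1 j.succ.succ) (X.submatrix (fun i => i.succ.succ) (fun j => j.succ.succ))) := by
  obtain ⟨h1, h2, h3⟩ := (comm_stdTrv_iff X).mp h
  ext i j
  refine Fin.cases ?_ (fun i' => ?_) i <;> refine Fin.cases ?_ (fun j' => ?_) j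
  · simp
  · simp only [blkX_zero_succ]
    exact h3 _ (Fin.succ_ne_zero j')
  · simp
  · simp only [blkX_succ_succ]
    refine Fin.cases ?_ (fun i'' => ?_) i' <;> refine Fin.cases ?_ (fun j'' => ?_) j'
    · simp only [blkB_zero_zero]
      exact h1
    · simp only [blkB_zero_succ]
      rfl
    · simp only [blkB_succ_zero]
      apply h2
      intro hcon
      have := congrArg Fin.val hcon
      simp at this
    · simp

theorem blkX_comm {m : ℕ} (lam : F) (u : Fin (m + 1) → F) (w : Fin m → F) (Y : Matrix (Fin m) (Fin m) F) :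
    blkX lam u (blkB lam w Y) * stdTrv m = stdTrv m * blkX lam u (blkB lam w Y) := by
  rw [comm_stdTrv_iff]
  refine ⟨rfl, ?_, ?_⟩
  · intro i
    refine Fin.cases ?_ (fun i' => ?_) i
    · intro _
      rfl
    · refine Fin.cases ?_ (fun i'' => ?_) i'
      · intro hi
        exact absurd rfl hi
      · intro _
        rfl
  · intro j hj
    obtain ⟨j', rfl⟩ := Fin.exists_succ_eq.mpr hj
    rfl

end Cfsg.Agent.Lib.Helper15
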