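import Mathlib
import Cfsg.Agent.Lib.Helper15.TrvCent1

set_option autoImplicit false

namespace Cfsg.Agent.Lib.Helper15

open Matrix

variable {F : Type*} [Field F]

/-- matrices commuting with the standard transvection, in coordinates -/
def trvCentEquiv (m : ℕ) :
    {X : Matrix (Fin (m + 2)) (Fin (m + 2)) F // X * stdTrv m = stdTrv m * X ∧ X.det ≠ 0} ≃
      {lam : F // lam ≠ 0} × (Fin (m + 1) → F) × (Fin m → F) × {Y : Matrix (Fin m) (Fin m) F // Y.det ≠ 0} where
  toFun X :=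
    have hX := eq_blkX_of_comm X.1 X.2.1
    have hdet : X.1 0 0 * (X.1 0 0 * (X.1.submatrix (fun i : Fin m => i.succ.succ) (fun j : Fin m => j.succ.succ)).det) ≠ 0 := by
      rw [← det_blkB, ← det_blkX, ← hX]
      exact X.2.2
    (⟨X.1 0 0, left_ne_zero_of_mul hdet⟩, fun i => X.1 i.succ 0, fun j => X.1 1 j.succ.succ,
      ⟨X.1.submatrix (fun i : Fin m => i.succ.succ) (fun j : Fin m => j.succ.succ), right_ne_zero_of_mul (right_ne_zero_of_mul hdet)⟩)
  invFun p := ⟨blkX p.1.1 p.2.1 (blkB p.1.1 p.2.2.1 p.2.2.2.1), blkX_comm _ _ _ _, by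
    rw [det_blkX, det_blkB]
    exact mul_ne_zero p.1.2 (mul_ne_zero p.1.2 p.2.2.2.2)⟩
  left_inv X := by
    apply Subtype.ext
    exact (eq_blkX_of_comm X.1 X.2.1).symm
  right_inv p := by
    obtain ⟨⟨lam, hlam⟩, u, w, ⟨Y, hY⟩⟩ := p
    rfl

/-- invertible matrices as a subtype -/
def glEquivDetNeZero (n : ℕ) : GL (Fin n) F ≃ {Y : Matrix (Fin n) (Fin n) F // Y.det ≠ 0} where
  toFun g := ⟨g.1, Matrix.GeneralLinearGroup.det_ne_zero g⟩
  invFun Y := Matrix.GeneralLinearGroup.mkOfDetNeZero Y.1 Y.2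
  left_inv g := by
    apply Units.ext
    rfl
  right_inv Y := rfl


theorem card_comm_stdTrv [Fintype F] (m : ℕ) :
    Nat.card {X : Matrix (Fin (m + 2)) (Fin (m + 2)) F // X * stdTrv m = stdTrv m * X ∧ X.det ≠ 0} =
      (Fintype.card F - 1) * (Fintype.card F ^ (m + 1) * (Fintype.card F ^ m *
        ∏ i : Fin m, (Fintype.card F ^ m - Fintype.card F ^ (i : ℕ)))) := by
  classical
  rw [Nat.card_congr (trvCentEquiv m), Nat.card_prod, Nat.card_prod, Nat.card_prod]
  have h1 : Nat.card {lam : F // lam ≠ 0} = Fintype.card F - 1 := by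
    rw [← Nat.card_congr (unitsEquivNeZero (G₀ := F)), Nat.card_eq_fintype_card, Fintype.card_units]
  have h2 : ∀ k : ℕ, Nat.card (Fin k → F) = Fintype.card F ^ k := by
    intro k
    rw [Nat.card_eq_fintype_card, Fintype.card_fun, Fintype.card_fin]
  have h3 : Nat.card {Y : Matrix (Fin m) (Fin m) F // Y.det ≠ 0} =
      ∏ i : Fin m, (Fintype.card F ^ m - Fintype.card F ^ (i : ℕ)) := by
    rw [← Nat.card_congr (glEquivDetNeZero (F := F) m), Matrix.card_GL_field]
  rw [h1, h2, h2, h3]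

/-- conjugate elements have centralisers of the same order -/
theorem card_centralizer_conj {G : Type*} [Group G] (a b : G) :
    Nat.card (Subgroup.centralizer ({b⁻¹ * a * b} : Set G)) = Nat.card (Subgroup.centralizer ({a} : Set G)) := by
  apply Nat.card_congr
  refine
    { toFun := fun x => ⟨b * x.1 * b⁻¹, ?_⟩
      invFun := fun y => ⟨b⁻¹ * y.1 * b, ?_⟩
      left_inv := fun x => by apply Subtype.ext; simp [mul_assoc]
      right_inv := fun y => by apply Subtype.ext; simp [mul_assoc] }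
  · have hx := Subgroup.mem_centralizer_singleton_iff.mp x.2
    rw [Subgroup.mem_centralizer_singleton_iff]
    symm
    calc a * (b * x.1 * b⁻¹) = b * ((b⁻¹ * a * b) * x.1) * b⁻¹ := by simp [mul_assoc]
      _ = b * (x.1 * (b⁻¹ * a * b)) * b⁻¹ := by rw [← hx]
      _ = b * x.1 * b⁻¹ * a := by simp [mul_assoc]
  · have hy := Subgroup.mem_centralizer_singleton_iff.mp y.2
    rw [Subgroup.mem_centralizer_singleton_iff]
    symm
    calc b⁻¹ * a * b * (b⁻¹ * y.1 * b) = b⁻¹ * (a * y.1) * b := by simp [mul_assoc]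
      _ = b⁻¹ * (y.1 * a) * b := by rw [← hy]
      _ = b⁻¹ * y.1 * b * (b⁻¹ * a * b) := by simp [mul_assoc]

end Cfsg.Agent.Lib.Helper15
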