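import Mathlib
import Cfsg.Agent.Lib.Helper15.EigF1
import Cfsg.Agent.Lib.Helper14.HCount1

/-!
# Multiplicities of eigenvalues (in an extension field) of matrices over a finite field
-/

set_option autoImplicit false
set_option linter.unusedSectionVars false

namespace Cfsg.Agent.Lib.Helper15.Eig

open Matrix Module Polynomial

/-! ### root multiplicities of the reversed polynomial -/

section
variable {K : Type*} [Field K]

theorem reverse_X_sub_C (b : K) (hb : b ≠ 0) :
    (X - C b : K[X]).reverse = C (-b) * (X - C b⁻¹) := by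
  have h1 : (X - C b : K[X]) = X + C (-b) := by rw [map_neg, sub_eq_add_neg]
  rw [h1, reverse_add_C, natDegree_X, pow_one]
  have h2 : (X : K[X]).reverse = 1 := by
    have := reverse_mul_X (1 : K[X])
    rw [one_mul] at this
    rw [this]
    have h3 : (1 : K[X]) = C 1 := by rw [map_one]
    rw [h3, reverse_C]
  rw [h2, mul_sub, ← C_mul, neg_mul, mul_inv_cancel₀ hb]
  simp only [map_neg, map_one]
  ring

theorem reverse_X_sub_C_pow (b : K) (hb : b ≠ 0) (k : ℕ) :
    ((X - C b : K[X]) ^ k).reverse = (C (-b) * (X - C b⁻¹)) ^ k := by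
  induction k with
  | zero =>
    rw [pow_zero, pow_zero]
    have h3 : (1 : K[X]) = C 1 := by rw [map_one]
    rw [h3, reverse_C]
  | succ k ih => rw [pow_succ, reverse_mul_of_domain, ih, reverse_X_sub_C b hb, pow_succ]

theorem rootMultiplicity_le_reverse (p : K[X]) (hp : p ≠ 0) (a : K) (ha : a ≠ 0) :
    rootMultiplicity a⁻¹ p ≤ rootMultiplicity a p.reverse := by
  obtain ⟨g, hg, -⟩ := exists_eq_pow_rootMultiplicity_mul_and_not_dvd p hp a⁻¹
  rw [le_rootMultiplicity_iff (by rwa [Ne, reverse_eq_zero])]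
  have h1 : p.reverse = ((X - C a⁻¹ : K[X]) ^ rootMultiplicity a⁻¹ p).reverse * g.reverse := by
    conv_lhs => rw [hg]
    rw [reverse_mul_of_domain]
  rw [h1, reverse_X_sub_C_pow a⁻¹ (inv_ne_zero ha), inv_inv, mul_pow, mul_assoc]
  exact Dvd.dvd.mul_left (Dvd.intro _ rfl) _

theorem rootMultiplicity_reverse (p : K[X]) (hp : p.coeff 0 ≠ 0) (a : K) (ha : a ≠ 0) :
    rootMultiplicity a p.reverse = rootMultiplicity a⁻¹ p := by
  have hp0 : p ≠ 0 := by
    rintro rfl
    exact hp (coeff_zero 0)
  apply le_antisymm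
  · have h := rootMultiplicity_le_reverse p.reverse (by rwa [Ne, reverse_eq_zero]) a⁻¹
      (inv_ne_zero ha)
    rwa [inv_inv, Cfsg.Agent.Lib.Helper14.HCount.reverse_reverse' hp] at h
  · exact rootMultiplicity_le_reverse p hp0 a ha

end

/-! ### multiplicities -/

section
variable {F : Type*} [Field F] {Ω : Type*} [Field Ω] [Algebra F Ω]
variable {ι : Type*} [Fintype ι] [DecidableEq ι]

/-- the algebraic multiplicity of `ν` as an eigenvalue of `M` -/
noncomputable def mult (Ω : Type*) [Field Ω] [Algebra F Ω] (M : Matrix ι ι F) (ν : Ω) : ℕ :=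
  rootMultiplicity ν (M.charpoly.map (algebraMap F Ω))

theorem mult_pos_iff (M : Matrix ι ι F) (ν : Ω) : 0 < mult Ω M ν ↔ ν ∈ eigs Ω M := by
  unfold mult
  rw [rootMultiplicity_pos (charpoly_map_ne_zero M), mem_eigs_iff_isRoot]

theorem sum_mult_le (M : Matrix ι ι F) (S : Finset Ω) :
    ∑ ν ∈ S, mult Ω M ν ≤ Fintype.card ι := by
  classical
  set R := (M.charpoly.map (algebraMap F Ω)).roots with hR
  have h1 : ∀ ν, mult Ω M ν = R.count ν := fun ν => (count_roots _).symm
  have h2 : Multiset.card R ≤ Fintype.card ι := by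
    calc Multiset.card R ≤ (M.charpoly.map (algebraMap F Ω)).natDegree := card_roots' _
      _ = M.charpoly.natDegree := natDegree_map _
      _ = Fintype.card ι := Matrix.charpoly_natDegree_eq_dim M
  calc ∑ ν ∈ S, mult Ω M ν = ∑ ν ∈ S, R.count ν := Finset.sum_congr rfl (fun ν _ => h1 ν)
    _ = ∑ ν ∈ S.filter (· ∈ R.toFinset), R.count ν := by
        rw [Finset.sum_filter]
        apply Finset.sum_congr rfl
        intro ν _
        split_ifs with h
        · rfl
        · rw [Multiset.mem_toFinset] at h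
          exact Multiset.count_eq_zero_of_notMem h
    _ ≤ ∑ ν ∈ R.toFinset, R.count ν := by
        apply Finset.sum_le_sum_of_subset
        intro ν hν
        exact (Finset.mem_filter.mp hν).2
    _ = Multiset.card R := Multiset.toFinset_sum_count_eq R
    _ ≤ Fintype.card ι := h2

theorem sum_mult_eigs [IsAlgClosed Ω] (M : Matrix ι ι F) :
    ∑ ν ∈ eigs Ω M, mult Ω M ν = Fintype.card ι := by
  classical
  set R := (M.charpoly.map (algebraMap F Ω)).roots with hR
  have h1 : ∀ ν, mult Ω M ν = R.count ν := fun ν => (count_roots _).symm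
  have h2 : Multiset.card R = Fintype.card ι := by
    rw [hR, IsAlgClosed.card_roots_eq_natDegree, natDegree_map, Matrix.charpoly_natDegree_eq_dim]
  have h3 : eigs Ω M = R.toFinset := by
    unfold eigs
    convert rfl
  rw [h3, ← h2, ← Multiset.toFinset_sum_count_eq R]
  exact Finset.sum_congr rfl (fun ν _ => h1 ν)

/-- a matrix with fewer distinct eigenvalues than its size has a multiple eigenvalue -/
theorem exists_two_le_mult [IsAlgClosed Ω] (M : Matrix ι ι F)
    (h : (eigs Ω M).card < Fintype.card ι) : ∃ ν : Ω, 2 ≤ mult Ω M ν := by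
  by_contra hcon
  push Not at hcon
  have h1 := sum_mult_eigs (Ω := Ω) M
  have h2 : ∑ ν ∈ eigs Ω M, mult Ω M ν ≤ ∑ _ν ∈ eigs Ω M, 1 := by
    apply Finset.sum_le_sum
    intro ν _
    have := hcon ν
    omega
  rw [Finset.sum_const, smul_eq_mul, mul_one] at h2
  omega

end

end Cfsg.Agent.Lib.Helper15.Eig
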