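import Mathlib
import Cfsg.Agent.Lib.Helper15.UMult1
import Cfsg.Agent.Lib.Helper15.EigF7

/-!
# Multiplicities of eigenvalues: unitary symmetry, and commuting unipotent elements
-/

set_option autoImplicit false
set_option linter.unusedSectionVars false

namespace Cfsg.Agent.Lib.Helper15.Eig

open Matrix Module Polynomial

section
variable {F : Type*} [Field F] {Ω : Type*} [Field Ω] [Algebra F Ω]
variable {ι : Type*} [Fintype ι] [DecidableEq ι]

/-- the multiplicities of the eigenvalues of a unitary matrix are invariant under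
`ν ↦ ν ^ (-q)` -/
theorem mult_unitary (p : ℕ) [Fact p.Prime] [CharP F p] [CharP Ω p] (f : ℕ) (M : Matrix ι ι F)
    (ε : F) (hε : ε ≠ 0)
    (hadm : M.charpoly.map (iterateFrobenius F p f) = C ε * M.charpoly.reverse)
    (h0 : M.charpoly.coeff 0 ≠ 0) (ν : Ω) :
    mult Ω M ((ν ^ (p ^ f))⁻¹) = mult Ω M ν := by
  have hinj : Function.Injective (algebraMap F Ω) := (algebraMap F Ω).injective
  set P := M.charpoly with hP
  set PΩ := P.map (algebraMap F Ω) with hPΩ
  have hPΩ0 : PΩ ≠ 0 := charpoly_map_ne_zero M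
  have h1 : (algebraMap F Ω).comp (iterateFrobenius F p f)
      = (iterateFrobenius Ω p f).comp (algebraMap F Ω) := by
    ext x
    simp only [RingHom.comp_apply, iterateFrobenius_def, map_pow]
  have h2 : (P.map (iterateFrobenius F p f)).map (algebraMap F Ω)
      = PΩ.map (iterateFrobenius Ω p f) := by
    rw [Polynomial.map_map, h1, ← Polynomial.map_map]
  have h3 : (P.reverse).map (algebraMap F Ω) = PΩ.reverse := by
    unfold Polynomial.reverse
    rw [← reflect_map, hPΩ, natDegree_map]
  have h4 : PΩ.map (iterateFrobenius Ω p f) = C (algebraMap F Ω ε) * PΩ.reverse := by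
    rw [← h2, hadm, Polynomial.map_mul, map_C, h3]
  have hφinj : Function.Injective (iterateFrobenius Ω p f) := (iterateFrobenius Ω p f).injective
  have h5 : rootMultiplicity ν PΩ
      = rootMultiplicity (iterateFrobenius Ω p f ν) (PΩ.map (iterateFrobenius Ω p f)) :=
    eq_rootMultiplicity_map hφinj ν
  have hε' : algebraMap F Ω ε ≠ 0 := (map_ne_zero (algebraMap F Ω)).mpr hε
  have hrev0 : PΩ.reverse ≠ 0 := by rwa [Ne, reverse_eq_zero]
  have hcoeff : PΩ.coeff 0 ≠ 0 := by
    rw [hPΩ, coeff_map]
    exact (map_ne_zero (algebraMap F Ω)).mpr h0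
  have hν' : iterateFrobenius Ω p f ν = ν ^ (p ^ f) := iterateFrobenius_def p f ν
  unfold mult
  rw [← hP, ← hPΩ, h5, h4, rootMultiplicity_mul (mul_ne_zero (C_ne_zero.mpr hε') hrev0),
    rootMultiplicity_C, zero_add, hν']
  by_cases hν0 : ν = 0
  · -- both sides vanish
    have hz : (ν ^ (p ^ f)) = 0 := by
      rw [hν0, zero_pow]
      exact pow_ne_zero _ (Fact.out : p.Prime).ne_zero
    rw [hz, _root_.inv_zero]
    have ha : rootMultiplicity (0 : Ω) PΩ = 0 := by
      apply rootMultiplicity_eq_zero
      rw [IsRoot.def, ← coeff_zero_eq_eval_zero]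
      exact hcoeff
    have hb : rootMultiplicity (0 : Ω) PΩ.reverse = 0 := by
      apply rootMultiplicity_eq_zero
      rw [IsRoot.def, ← coeff_zero_eq_eval_zero, coeff_zero_reverse]
      exact leadingCoeff_ne_zero.mpr hPΩ0
    rw [ha, hb]
  · rw [rootMultiplicity_reverse PΩ hcoeff _ (pow_ne_zero _ hν0)]

/-- a matrix commuting with a nontrivial unipotent matrix has a repeated eigenvalue -/
theorem card_eigs_lt_of_commute_unipotent [Nonempty ι] (p : ℕ) [Fact p.Prime] [CharP F p]
    (M U : Matrix ι ι F) (hMU : M * U = U * M) (hUp : U ^ p = 1) (hU1 : U ≠ 1) :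
    (eigs Ω M).card < Fintype.card ι := by
  classical
  have hinj : Function.Injective (algebraMap F Ω) := (algebraMap F Ω).injective
  have : CharP Ω p := charP_of_injective_algebraMap hinj p
  by_contra hcon
  have hS : (eigs Ω M).card = Fintype.card ι := le_antisymm (card_eigs_le M) (not_lt.mp hcon)
  obtain ⟨b, hb⟩ := exists_eigenbasis (M.map (algebraMap F Ω)) (eigs Ω M) hS
    (fun ν hν => (mem_eigs_iff M ν).mp hν)
  set A : Module.End Ω (ι → Ω) := Matrix.toLin' (M.map (algebraMap F Ω)) with hA
  set T : Module.End Ω (ι → Ω) := Matrix.toLin' (U.map (algebraMap F Ω)) with hT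
  have hAT : A * T = T * A := by
    rw [hA, hT, Module.End.mul_eq_comp, Module.End.mul_eq_comp, ← Matrix.toLin'_mul,
      ← Matrix.toLin'_mul, ← Matrix.map_mul, ← Matrix.map_mul, hMU]
  have hTp : T ^ p = 1 := by
    rw [hT, ← Matrix.toLin'_pow, ← Matrix.map_pow, hUp,
      Matrix.map_one _ (map_zero _) (map_one _), Matrix.toLin'_one]
    rfl
  -- `A` is diagonal in the basis `b`
  have hdiag : ∀ (x : ι → Ω) (κ : eigs Ω M), b.repr (A x) κ = (κ : Ω) * b.repr x κ := by
    intro x κ
    have h1 : (b.coord κ).comp A = (κ : Ω) • b.coord κ := by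
      apply b.ext
      intro ν
      rw [LinearMap.comp_apply, hb ν, map_smul, LinearMap.smul_apply, Basis.coord_apply,
        Basis.repr_self, Finsupp.single_apply]
      split_ifs with h
      · rw [h]
      · simp
    have h2 := congrArg (fun g : (ι → Ω) →ₗ[Ω] Ω => g x) h1
    simpa using h2
  have hscal : ∀ ν : eigs Ω M, T (b ν) = b.repr (T (b ν)) ν • b ν := by
    intro ν
    have h1 : A (T (b ν)) = (ν : Ω) • T (b ν) := by
      have : (A * T) (b ν) = (T * A) (b ν) := by rw [hAT]
      rw [Module.End.mul_apply, Module.End.mul_apply, hb ν, map_smul] at this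
      exact this
    apply b.repr.injective
    ext κ
    rw [map_smul, Basis.repr_self, Finsupp.smul_apply, Finsupp.single_apply]
    by_cases hκ : ν = κ
    · rw [if_pos hκ, smul_eq_mul, mul_one, hκ]
    · rw [if_neg hκ, smul_zero]
      have h2 := hdiag (T (b ν)) κ
      rw [h1, map_smul, Finsupp.smul_apply, smul_eq_mul] at h2
      have h3 : ((ν : Ω) - (κ : Ω)) * b.repr (T (b ν)) κ = 0 := by
        rw [sub_mul, h2, sub_self]
      rcases mul_eq_zero.mp h3 with h4 | h4
      · exact absurd (Subtype.ext (sub_eq_zero.mp h4)) hκ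
      · exact h4
  have hfix : ∀ ν : eigs Ω M, T (b ν) = b ν := by
    intro ν
    set c := b.repr (T (b ν)) ν with hc
    have h1 : ∀ j : ℕ, (T ^ j) (b ν) = c ^ j • b ν := by
      intro j
      induction j with
      | zero => simp
      | succ j ih =>
        rw [pow_succ, Module.End.mul_apply, hscal ν, map_smul, ih, smul_smul, pow_succ']
    have h2 := h1 p
    rw [hTp, Module.End.one_apply] at h2
    have h3 : (c ^ p - 1) • b ν = 0 := by rw [sub_smul, one_smul, ← h2, sub_self]
    have h4 : c ^ p - 1 = 0 := by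
      rcases smul_eq_zero.mp h3 with h | h
      · exact h
      · exact absurd h (b.ne_zero ν)
    have h5 : (c - 1) ^ p = 0 := by rw [sub_pow_char, one_pow, h4]
    have h6 : c = 1 := sub_eq_zero.mp (pow_eq_zero_iff (Fact.out : p.Prime).ne_zero |>.mp h5)
    rw [hscal ν, ← hc, h6, one_smul]
  have hT1 : T = 1 := by
    apply b.ext
    intro ν
    rw [hfix ν, Module.End.one_apply]
  apply hU1
  have h7 : U.map (algebraMap F Ω) = 1 := by
    apply Matrix.toLin'.injective
    rw [← hT, hT1, Matrix.toLin'_one]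
    rfl
  ext i j
  apply hinj
  have := congrFun (congrFun h7 i) j
  rw [Matrix.map_apply] at this
  rw [this, Matrix.one_apply, Matrix.one_apply]
  split_ifs <;> simp

end

end Cfsg.Agent.Lib.Helper15.Eig
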