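import Mathlib
import Cfsg.Agent.Lib.Helper15.UMult2
import Cfsg.Agent.Lib.Helper15.EigU1

/-!
# A semisimple unitary element of prime order commuting with a nontrivial unipotent element
-/

set_option autoImplicit false
set_option linter.unusedSectionVars false

namespace Cfsg.Agent.Lib.Helper15.Eig

open Matrix Module Polynomial

variable {F : Type*} [Field F] [Fintype F]

/-- the orbit of an eigenvalue of order `r` of a unitary matrix under `ν ↦ ν ^ (-q)`: it has
`ord_r(-q)` elements, all of the same multiplicity -/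
theorem exists_orbit_mult [DecidableEq (AlgebraicClosure F)] (p : ℕ) [Fact p.Prime] [CharP F p]
    (f : ℕ) {n : ℕ} (M : Matrix (Fin n) (Fin n) F)
    (ε : F) (hε : ε ≠ 0)
    (hadm : M.charpoly.map (iterateFrobenius F p f) = C ε * M.charpoly.reverse)
    (h0 : M.charpoly.coeff 0 ≠ 0)
    (r : ℕ) (hr : r.Prime) (e : ℕ)
    (he : orderOf (((-((p ^ f : ℕ) : ℤ)) : ℤ) : ZMod r) = e) (he0 : 0 < e)
    (ν : AlgebraicClosure F) (hνr : ν ^ r = 1) (hν1 : ν ≠ 1) :
    ∃ S : Finset (AlgebraicClosure F), S.card = e ∧ (1 : AlgebraicClosure F) ∉ S ∧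
      ∀ κ ∈ S, mult (AlgebraicClosure F) M κ = mult (AlgebraicClosure F) M ν := by
  let Ω := AlgebraicClosure F
  have : CharP Ω p := charP_of_injective_algebraMap (algebraMap F Ω).injective p
  have : Fact r.Prime := ⟨hr⟩
  set a : ℤ := -((p ^ f : ℕ) : ℤ) with ha
  have hν0 : ν ≠ 0 := by
    rintro rfl
    rw [zero_pow hr.ne_zero] at hνr
    exact zero_ne_one hνr
  set νu : Ωˣ := Units.mk0 ν hν0 with hνu
  have hνur : νu ^ r = 1 := by
    apply Units.ext
    rw [Units.val_pow_eq_pow_val]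
    exact hνr
  have hνu1 : νu ≠ 1 := by
    intro h
    apply hν1
    have := congrArg Units.val h
    exact this
  have hord : orderOf νu = r := orderOf_eq_prime hνur hνu1
  have hfin : IsOfFinOrder (((a : ℤ) : ZMod r)) := by
    rw [← orderOf_pos_iff, he]
    exact he0
  have hinj : Set.InjOn (fun i : ℕ => ((νu ^ (a ^ i) : Ωˣ) : Ω)) (Finset.range e : Set ℕ) := by
    intro i hi j hj hij
    rw [Finset.coe_range, Set.mem_Iio] at hi hj
    have hij' : νu ^ (a ^ i) = νu ^ (a ^ j) := Units.ext hij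
    have h1 : a ^ i ≡ a ^ j [ZMOD (orderOf νu : ℤ)] := zpow_eq_zpow_iff_modEq.mp hij'
    rw [hord] at h1
    have h3 : ((a ^ i : ℤ) : ZMod r) = ((a ^ j : ℤ) : ZMod r) :=
      (ZMod.intCast_eq_intCast_iff _ _ _).mpr h1
    rw [Int.cast_pow, Int.cast_pow, hfin.pow_eq_pow_iff_modEq, he] at h3
    exact h3.eq_of_lt_of_lt hi hj
  have hmult : ∀ i : ℕ, mult Ω M ((νu ^ (a ^ i) : Ωˣ) : Ω) = mult Ω M ν := by
    intro i
    induction i with
    | zero => simp [hνu]
    | succ i ih =>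
      rw [pow_succ, _root_.zpow_mul, ha, _root_.zpow_neg, zpow_natCast, Units.val_inv_eq_inv_val,
        Units.val_pow_eq_pow_val, mult_unitary p f M ε hε hadm h0]
      exact ih
  refine ⟨(Finset.range e).image (fun i : ℕ => ((νu ^ (a ^ i) : Ωˣ) : Ω)), ?_, ?_, ?_⟩
  · rw [Finset.card_image_of_injOn hinj, Finset.card_range]
  · intro h1
    obtain ⟨i, -, hi⟩ := Finset.mem_image.mp h1
    have h2 : νu ^ (a ^ i) = 1 := Units.ext hi
    have h3 : ((orderOf νu : ℕ) : ℤ) ∣ a ^ i := orderOf_dvd_iff_zpow_eq_one.mpr h2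
    rw [hord] at h3
    have h4 : (((a ^ i : ℤ)) : ZMod r) = 0 := (ZMod.intCast_zmod_eq_zero_iff_dvd _ _).mpr h3
    rw [Int.cast_pow] at h4
    have h5 : (((a : ℤ) : ZMod r) ^ e) ^ i = 1 := by
      rw [← he, pow_orderOf_eq_one, one_pow]
    rw [← pow_mul, mul_comm, pow_mul, h4, zero_pow he0.ne'] at h5
    exact zero_ne_one h5
  · intro κ hκ
    obtain ⟨i, -, rfl⟩ := Finset.mem_image.mp hκ
    exact hmult i

/-- **Key bound.** A unitary matrix of prime order `r` commuting with a nontrivial unipotent matrix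
lives in dimension at least `ord_r(-q) + 2`. -/
theorem unitary_order_add_two_le (p : ℕ) [Fact p.Prime] [CharP F p] (f : ℕ) {n : ℕ}
    (M U : Matrix (Fin n) (Fin n) F) (ε : F) (hε : ε ≠ 0)
    (hadm : M.charpoly.map (iterateFrobenius F p f) = C ε * M.charpoly.reverse)
    (h0 : M.charpoly.coeff 0 ≠ 0)
    (r : ℕ) (hr : r.Prime) (hrF : (r : F) ≠ 0) (hMr : M ^ r = 1) (hM1 : M ≠ 1)
    (hMU : M * U = U * M) (hUp : U ^ p = 1) (hU1 : U ≠ 1)
    (e : ℕ) (he : orderOf (((-((p ^ f : ℕ) : ℤ)) : ℤ) : ZMod r) = e) (he2 : 2 ≤ e) :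
    e + 2 ≤ n := by
  classical
  let Ω := AlgebraicClosure F
  have hn0 : 0 < n := by
    rcases Nat.eq_zero_or_pos n with h | h
    · subst h
      exact absurd (Subsingleton.elim U 1) hU1
    · exact h
  have : Nonempty (Fin n) := ⟨⟨0, hn0⟩⟩
  have hlt := card_eigs_lt_of_commute_unipotent (Ω := Ω) p M U hMU hUp hU1
  obtain ⟨ν₀, hν₀⟩ := exists_two_le_mult (Ω := Ω) M hlt
  have hν₀mem : ν₀ ∈ eigs Ω M := (mult_pos_iff M ν₀).mp (by omega)
  have hroot : ∀ ν ∈ eigs Ω M, ν ^ r = 1 := fun ν hν => pow_eq_one_of_mem_eigs M r hMr ν hν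
  by_cases h1 : ν₀ = 1
  · -- a nontrivial eigenvalue
    obtain ⟨lam, hlam, hlam1⟩ := exists_mem_eigs_pow_ne_one (Ω := Ω) M r 1 hrF
      (by rw [pow_one]; exact hMr) (by rw [pow_one]; exact hM1)
    rw [pow_one] at hlam1
    obtain ⟨S, hScard, hS1, hSm⟩ := exists_orbit_mult p f M ε hε hadm h0 r hr e he (by omega) lam
      (hroot lam hlam) hlam1
    have h2 := sum_mult_le (Ω := Ω) M (insert 1 S)
    rw [Finset.sum_insert hS1, Fintype.card_fin] at h2
    have h3 : ∑ κ ∈ S, mult Ω M κ = e * mult Ω M lam := by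
      rw [Finset.sum_congr rfl hSm, Finset.sum_const, smul_eq_mul, hScard]
    have h4 : 1 ≤ mult Ω M lam := (mult_pos_iff M lam).mpr hlam
    rw [h1] at hν₀
    have h5 : e * 1 ≤ e * mult Ω M lam := Nat.mul_le_mul_left e h4
    omega
  · obtain ⟨S, hScard, -, hSm⟩ := exists_orbit_mult p f M ε hε hadm h0 r hr e he (by omega) ν₀
      (hroot ν₀ hν₀mem) h1
    have h2 := sum_mult_le (Ω := Ω) M S
    rw [Fintype.card_fin] at h2
    have h3 : ∑ κ ∈ S, mult Ω M κ = e * mult Ω M ν₀ := by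
      rw [Finset.sum_congr rfl hSm, Finset.sum_const, smul_eq_mul, hScard]
    have h5 : e * 2 ≤ e * mult Ω M ν₀ := Nat.mul_le_mul_left e hν₀
    rw [h3] at h2
    have h6 : e * 2 ≤ n := le_trans h5 h2
    omega

end Cfsg.Agent.Lib.Helper15.Eig
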