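import Mathlib
import Cfsg.Agent.Lib.Helper15.UMult3
import Cfsg.Agent.Lib.Helper15.EigF3
import Cfsg.Agent.Lib.Helper15.EigF9
import Cfsg.Agent.Lib.Helper6.AutPSU1
import Cfsg.Agent.Lib.Helper14.HCount5
import Cfsg.Agent.S0278

/-!
# Primes dividing the order of the centralizer of an element of order `p` in `PSU_m(q)`
-/

set_option autoImplicit false
set_option linter.unusedSectionVars false

namespace Cfsg.Agent.Lib.Helper15.Eig

open Matrix Module Polynomial Cfsg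

variable {F : Type*} [Field F] [Fintype F]

/-- divisors of the order of `SU_n(q)` -/
theorem dvd_card_SU_of_dvd_factor {q : ℕ} (hF : Fintype.card F = q ^ 2) (n : ℕ) (j : ℕ)
    (hj1 : 1 ≤ j) (hjn : j < n) (r : ℕ)
    (hr : r ∣ (if Even j then q ^ (j + 1) + 1 else q ^ (j + 1) - 1)) :
    r ∣ Nat.card ↥(Cfsg.SU n F q) := by
  have hq2 : 2 ≤ q := Cfsg.Agent.Lib.Helper6.two_le_q hF
  have h1 := Cfsg.Agent.S0278.result hF n (by omega)
  obtain ⟨k, rfl⟩ : ∃ k, n = k + 1 := ⟨n - 1, by omega⟩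
  rw [Finset.prod_range_succ'] at h1
  simp only [Even.zero, if_true, zero_add, pow_one] at h1
  have h2 : Nat.card ↥(Cfsg.SU (k + 1) F q) = q ^ ((k + 1) * (k + 1 - 1) / 2) *
      ∏ i ∈ Finset.range k, (if Even (i + 1) then q ^ (i + 1 + 1) + 1 else q ^ (i + 1 + 1) - 1) := by
    apply Nat.eq_of_mul_eq_mul_left (by omega : 0 < q + 1)
    rw [h1]
    ring
  rw [h2]
  apply Dvd.dvd.mul_left
  obtain ⟨j', rfl⟩ : ∃ j', j = j' + 1 := ⟨j - 1, by omega⟩
  exact hr.trans (Finset.dvd_prod_of_mem _ (Finset.mem_range.mpr (by omega)))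

theorem char_dvd_card_SU {q : ℕ} (hF : Fintype.card F = q ^ 2) (p : ℕ) [Fact p.Prime] [CharP F p]
    (n : ℕ) (hn : 2 ≤ n) : p ∣ Nat.card ↥(Cfsg.SU n F q) := by
  have hp := (Fact.out : p.Prime)
  have hq2 : 2 ≤ q := Cfsg.Agent.Lib.Helper6.two_le_q hF
  obtain ⟨f, hf1, hq⟩ := Cfsg.Agent.Lib.Helper6.AutPSU.q_eq_pow (p := p) hF
  have h1 := Cfsg.Agent.S0278.result hF n (by omega)
  have h2 : p ∣ q ^ (n * (n - 1) / 2) := by
    have h3 : 1 ≤ n * (n - 1) / 2 := by
      rw [Nat.le_div_iff_mul_le (by norm_num)]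
      have : 2 * 1 ≤ n * (n - 1) := Nat.mul_le_mul hn (by omega)
      omega
    rw [hq, ← pow_mul]
    exact dvd_pow_self p (by
      have : 0 < f * (n * (n - 1) / 2) := Nat.mul_pos (by omega) (by omega)
      omega)
  have h4 : p ∣ (q + 1) * Nat.card ↥(Cfsg.SU n F q) := by
    rw [h1]
    exact Dvd.dvd.mul_right h2 _
  rcases hp.dvd_mul.mp h4 with h5 | h5
  · exfalso
    have h6 : p ∣ q := by
      rw [hq]
      exact dvd_pow_self p (by omega)
    have h7 : p ∣ 1 := (Nat.dvd_add_right h6).mp h5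
    exact hp.one_lt.ne' (Nat.dvd_one.mp h7)
  · exact h5

/-- **Matrix form of the main statement.** -/
theorem dvd_card_SU_of_commuting {q : ℕ} (hF : Fintype.card F = q ^ 2) (p : ℕ) [Fact p.Prime]
    [CharP F p] (m : ℕ) (hm : 4 ≤ m) (s u : ↥(Cfsg.SU m F q)) (r : ℕ) (hr : r.Prime)
    (hrp : r ≠ p) (hrq : ¬ r ∣ q ^ 2 - 1) (hsr : s ^ r = 1) (hs1 : s ≠ 1) (hup : u ^ p = 1)
    (hu1 : u ≠ 1) (hsu : s * u = u * s) : r ∣ Nat.card ↥(Cfsg.SU (m - 2) F q) := by
  have hp := (Fact.out : p.Prime)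
  have hq2 : 2 ≤ q := Cfsg.Agent.Lib.Helper6.two_le_q hF
  obtain ⟨f, hf1, hq⟩ := Cfsg.Agent.Lib.Helper6.AutPSU.q_eq_pow (p := p) hF
  have : Fact r.Prime := ⟨hr⟩
  -- `r` does not divide `q`
  have hrq0 : ¬ r ∣ q := by
    intro h
    rw [hq] at h
    exact hrp ((Nat.prime_dvd_prime_iff_eq hr hp).mp (hr.dvd_of_dvd_pow h))
  have hrF : (r : F) ≠ 0 := by
    intro h0
    have h1 : p ∣ r := (CharP.cast_eq_zero_iff F p r).mp h0
    exact hrp ((Nat.prime_dvd_prime_iff_eq hp hr).mp h1).symm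
  -- the unitary order
  have hqr : ((q : ℕ) : ZMod r) ≠ 0 := by
    rw [Ne, ZMod.natCast_eq_zero_iff]
    exact hrq0
  set a : ZMod r := (((-(q : ℤ)) : ℤ) : ZMod r) with ha
  have ha' : a = -((q : ℕ) : ZMod r) := by rw [ha, Int.cast_neg, Int.cast_natCast]
  have hasq : a ^ 2 = ((q : ℕ) : ZMod r) ^ 2 := by rw [ha', neg_pow_two]
  have hcop : Nat.Coprime q r := (Nat.Prime.coprime_iff_not_dvd hr).mpr hrq0 |>.symm
  have hoq : 0 < orderOf ((q : ℕ) : ZMod r) := orderOf_zmod_pos q r hcop hr.pos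
  set e := orderOf a with he
  have he0 : 0 < e := by
    rw [he, orderOf_pos_iff, isOfFinOrder_iff_pow_eq_one]
    refine ⟨2 * orderOf ((q : ℕ) : ZMod r), by omega, ?_⟩
    rw [pow_mul, hasq, ← pow_mul, mul_comm, pow_mul, pow_orderOf_eq_one, one_pow]
  have hq21 : 1 ≤ q ^ 2 := Nat.one_le_pow _ _ (by omega)
  have hsq_ne : a ^ 2 ≠ 1 := by
    rw [hasq]
    intro h
    exact hrq ((zmod_pow_eq_one_iff r q 2 (by omega)).mp h)
  have he1 : e ≠ 1 := by
    intro h
    have h1 : a = 1 := orderOf_eq_one_iff.mp (he ▸ h)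
    exact hsq_ne (by rw [h1, one_pow])
  have he2 : e ≠ 2 := by
    intro h
    have h1 : a ^ 2 = 1 := by rw [← h, he]; exact pow_orderOf_eq_one a
    exact hsq_ne h1
  have he3 : 3 ≤ e := by omega
  -- the matrices
  set M : Matrix (Fin m) (Fin m) F :=
    ((s : Matrix.SpecialLinearGroup (Fin m) F) : Matrix (Fin m) (Fin m) F) with hM
  set U : Matrix (Fin m) (Fin m) F :=
    ((u : Matrix.SpecialLinearGroup (Fin m) F) : Matrix (Fin m) (Fin m) F) with hU
  have hcoe : ∀ (x : ↥(Cfsg.SU m F q)) (t : ℕ), (((x ^ t : ↥(Cfsg.SU m F q)) :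
      Matrix.SpecialLinearGroup (Fin m) F) : Matrix (Fin m) (Fin m) F) =
      ((x : Matrix.SpecialLinearGroup (Fin m) F) : Matrix (Fin m) (Fin m) F) ^ t := by
    intro x t
    rw [Subgroup.coe_pow, Matrix.SpecialLinearGroup.coe_pow]
  have hval : ∀ x y : ↥(Cfsg.SU m F q),
      ((x : Matrix.SpecialLinearGroup (Fin m) F) : Matrix (Fin m) (Fin m) F) =
      ((y : Matrix.SpecialLinearGroup (Fin m) F) : Matrix (Fin m) (Fin m) F) → x = y :=
    fun x y h => Subtype.ext (Subtype.ext h)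
  have hMr : M ^ r = 1 := by
    rw [hM, ← hcoe, hsr]
    rfl
  have hM1 : M ≠ 1 := by
    intro h
    exact hs1 (hval s 1 h)
  have hUp : U ^ p = 1 := by
    rw [hU, ← hcoe, hup]
    rfl
  have hU1 : U ≠ 1 := by
    intro h
    exact hu1 (hval u 1 h)
  have hMU : M * U = U * M := by
    have := congrArg (fun x : ↥(Cfsg.SU m F q) =>
      ((x : Matrix.SpecialLinearGroup (Fin m) F) : Matrix (Fin m) (Fin m) F)) hsu
    simpa using this
  have hMpres : ∀ x y, hermForm m F q (M *ᵥ x) (M *ᵥ y) = hermForm m F q x y := s.2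
  have hadm := Cfsg.Agent.Lib.Helper14.HCount.charpoly_adm hF M hMpres
    (s : Matrix.SpecialLinearGroup (Fin m) F).2
  have hadm' : M.charpoly.map (iterateFrobenius F p f)
      = C ((-1 : F) ^ m) * M.charpoly.reverse := by
    rw [← hadm.2.2]
    congr 1
    ext x
    rw [iterateFrobenius_def, ← hq]
    rfl
  have hkey := unitary_order_add_two_le p f M U ((-1 : F) ^ m)
    (Cfsg.Agent.Lib.Helper14.HCount.eps_ne m) hadm' hadm.coeff_zero_ne r hr hrF hMr hM1 hMU hUp hU1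
    e (by rw [he, ha, hq]) (by omega)
  -- the factor `(-q)^e - 1` of the order
  apply dvd_card_SU_of_dvd_factor hF (m - 2) (e - 1) (by omega) (by omega)
  have hpow : a ^ e = 1 := pow_orderOf_eq_one a
  rw [ha', neg_pow] at hpow
  have he' : e - 1 + 1 = e := by omega
  rw [he']
  rcases Nat.even_or_odd e with hev | hod
  · have h1 : ¬ Even (e - 1) := by
      rw [Nat.not_even_iff_odd]
      obtain ⟨k, hk⟩ := hev
      exact ⟨k - 1, by omega⟩
    rw [if_neg h1]
    rw [hev.neg_one_pow, one_mul] at hpow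
    exact (zmod_pow_eq_one_iff r q e (by omega)).mp hpow
  · have h1 : Even (e - 1) := by
      obtain ⟨k, hk⟩ := hod
      exact ⟨k, by omega⟩
    rw [if_pos h1]
    rw [hod.neg_one_pow] at hpow
    rw [← ZMod.natCast_eq_zero_iff]
    push_cast
    linear_combination -hpow

end Cfsg.Agent.Lib.Helper15.Eig
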