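import Cfsg.Agent.Lib.Helper17.CountChain
import Cfsg.Agent.Lib.Helper21.SuzOP3

/-!
# Table-free stabilizer chains: transversals by Schreier-vector walks

A level consists of a base point, a list of generators (pairs of packed tables) and a packed
Schreier vector: the entry of a point `x` of the basic orbit is `j + 1`, where the generator `j`
maps the previous point of the walk to `x`; the entry of points outside the orbit is `0`.
The transversal element `u x` is the product of the generators along the walk from `x` back to the
base point; it is never stored.  With the counting criterion (`CountChain`) and the known order of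
the group, every group element sifts through such a chain, and sifting of base images only needs
table lookups along the walks.
-/

set_option autoImplicit false

namespace Cfsg.Agent.Lib.Helper15.Walk

open Cfsg.Agent.Lib.Helper28.BSGS Cfsg.Agent.Lib.Helper22.SuzOut MulAction

/-- a level: base point, generators, packed Schreier vector -/
structure WLevel where
  /-- base point -/
  b : ℕ
  /-- generators: table and inverse table -/
  gs : List (ℕ × ℕ)
  /-- Schreier vector, `sw` bits per point -/
  sv : ℕ

/-- the point lies in the basic orbit -/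
def inOrb (sw : ℕ) (lv : WLevel) (x : ℕ) : Bool := Nat.blt 0 (look sw lv.sv x)

/-- the pair of tables of the generator attached to the point `x` -/
def stepG (sw : ℕ) (lv : WLevel) (x : ℕ) : ℕ × ℕ := lv.gs.getD (look sw lv.sv x - 1) (0, 0)

/-- the walk from `x` reaches the base point within `fuel` steps, through valid entries -/
noncomputable def walkOK (w sw : ℕ) (lv : WLevel) (fuel : ℕ) : ℕ → Bool :=
  Nat.rec (motive := fun _ => ℕ → Bool) (fun x => Nat.beq x lv.b)
    (fun _ ih x => Nat.beq x lv.b ||
      (Nat.blt 0 (look sw lv.sv x) && Nat.blt (look sw lv.sv x - 1) lv.gs.length &&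
        ih (look w (stepG sw lv x).2 x))) fuel

/-- image of `y` under the inverse of the transversal element of `x` -/
noncomputable def walkInv (w sw : ℕ) (lv : WLevel) (fuel : ℕ) : ℕ → ℕ → ℕ :=
  Nat.rec (motive := fun _ => ℕ → ℕ → ℕ) (fun _ y => y)
    (fun _ ih x y => cond (Nat.beq x lv.b) y
      (ih (look w (stepG sw lv x).2 x) (look w (stepG sw lv x).2 y))) fuel

/-- the transversal element of `x`: product of the generators along the walk -/
noncomputable def walkP (n w sw : ℕ) (lv : WLevel) (fuel : ℕ) : ℕ → Equiv.Perm (Fin n) :=
  Nat.rec (motive := fun _ => ℕ → Equiv.Perm (Fin n)) (fun _ => 1)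
    (fun _ ih x => if x = lv.b then 1 else
      permOf n w (stepG sw lv x).1 (stepG sw lv x).2 * ih (look w (stepG sw lv x).2 x)) fuel

theorem walkOK_zero (w sw : ℕ) (lv : WLevel) (x : ℕ) :
    walkOK w sw lv 0 x = Nat.beq x lv.b := rfl

theorem walkOK_succ (w sw : ℕ) (lv : WLevel) (f x : ℕ) :
    walkOK w sw lv (f + 1) x = (Nat.beq x lv.b ||
      (Nat.blt 0 (look sw lv.sv x) && Nat.blt (look sw lv.sv x - 1) lv.gs.length &&
        walkOK w sw lv f (look w (stepG sw lv x).2 x))) := rfl

theorem walkInv_zero (w sw : ℕ) (lv : WLevel) (x y : ℕ) : walkInv w sw lv 0 x y = y := rfl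

theorem walkInv_succ (w sw : ℕ) (lv : WLevel) (f x y : ℕ) :
    walkInv w sw lv (f + 1) x y = cond (Nat.beq x lv.b) y
      (walkInv w sw lv f (look w (stepG sw lv x).2 x) (look w (stepG sw lv x).2 y)) := rfl

theorem walkP_zero (n w sw : ℕ) (lv : WLevel) (x : ℕ) : walkP n w sw lv 0 x = 1 := rfl

theorem walkP_succ (n w sw : ℕ) (lv : WLevel) (f x : ℕ) :
    walkP n w sw lv (f + 1) x = if x = lv.b then 1 else
      permOf n w (stepG sw lv x).1 (stepG sw lv x).2 *
        walkP n w sw lv f (look w (stepG sw lv x).2 x) := rfl

section spec

variable (n w sw : ℕ) [NeZero n]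

/-- the main properties of the walk -/
theorem walk_spec (K : Subgroup (Equiv.Perm (Fin n))) (lv : WLevel)
    (hgs : ∀ g ∈ lv.gs, pairOK n w g.1 g.2 = true ∧ permOf n w g.1 g.2 ∈ K) :
    ∀ (fuel x : ℕ), x < n → walkOK w sw lv fuel x = true →
      walkP n w sw lv fuel x ∈ K ∧ walkP n w sw lv fuel x (pt n lv.b) = pt n x ∧
      (∀ p : Fin n, ((walkP n w sw lv fuel x)⁻¹ p).val = walkInv w sw lv fuel x p.val) ∧
      (∀ q : Fin n, (∀ g ∈ lv.gs, permOf n w g.1 g.2 q = q) → walkP n w sw lv fuel x q = q) := by
  intro fuel
  induction fuel with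
  | zero =>
    intro x hx h
    rw [walkOK_zero] at h
    have hxb : x = lv.b := Nat.eq_of_beq_eq_true h
    rw [walkP_zero]
    refine ⟨K.one_mem, by rw [hxb]; rfl, fun p => by rw [inv_one, walkInv_zero]; rfl, fun q _ => rfl⟩
  | succ f ih =>
    intro x hx h
    rw [walkOK_succ] at h
    by_cases hxb : x = lv.b
    · rw [walkP_succ, if_pos hxb]
      refine ⟨K.one_mem, by rw [hxb]; rfl, fun p => ?_, fun q _ => rfl⟩
      rw [inv_one, walkInv_succ]
      have : Nat.beq x lv.b = true := by rw [hxb]; exact Nat.beq_refl _
      rw [this]; rfl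
    · have hne : Nat.beq x lv.b = false := by
        cases hbb : Nat.beq x lv.b with
        | false => rfl
        | true => exact absurd (Nat.eq_of_beq_eq_true hbb) hxb
      rw [hne, Bool.false_or, Bool.and_eq_true, Bool.and_eq_true] at h
      obtain ⟨⟨_, h2⟩, h3⟩ := h
      have hj : look sw lv.sv x - 1 < lv.gs.length := by
        have := h2
        simp only [Nat.blt_eq] at this
        exact this
      have hmem : stepG sw lv x ∈ lv.gs := by
        unfold stepG
        rw [List.getD_eq_getElem _ _ hj]
        exact List.getElem_mem hj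
      obtain ⟨hp, hK⟩ := hgs _ hmem
      obtain ⟨_, _, s3, s4⟩ := pairOK_spec hp hx
      obtain ⟨i1, i2, i3, i4⟩ := ih _ s3 h3
      rw [walkP_succ, if_neg hxb]
      refine ⟨K.mul_mem hK i1, ?_, fun p => ?_, fun q hq => ?_⟩
      · rw [Equiv.Perm.mul_apply, i2]
        apply Fin.ext
        rw [permOf_apply hp, pt_val n s3, s4, pt_val n hx]
      · rw [mul_inv_rev, Equiv.Perm.mul_apply, i3, permOf_inv_apply hp, walkInv_succ, hne]
        rfl
      · rw [Equiv.Perm.mul_apply, i4 q hq, hq _ hmem]

end spec

section chain

variable (n w sw D : ℕ) [NeZero n]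

/-- the points of the basic orbit -/
def orbList (lv : WLevel) : List ℕ := (List.range n).filter fun x => inOrb sw lv x

/-- the semantic level -/
noncomputable def semW (lv : WLevel) : SLevel (Equiv.Perm (Fin n)) (Fin n) where
  b := pt n lv.b
  O := (orbList n sw lv).map (pt n)
  u := fun x => walkP n w sw lv D x.val
  S' := []

/-- the Boolean conditions on one level: base point in range, generators fix the previous base
points, every point of the orbit walks back to the base point -/
noncomputable def wlevelOK (prev : List ℕ) (lv : WLevel) : Bool :=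
  Nat.blt lv.b n && lv.gs.all (fun g => prev.all fun p => Nat.beq (look w g.1 p) p) &&
    allBelow (fun x => !(inOrb sw lv x) || walkOK w sw lv D x) n

/-- the Boolean conditions along the chain -/
noncomputable def wchainOK : List ℕ → List WLevel → Bool
  | _, [] => true
  | prev, lv :: rest => wlevelOK n w sw D prev lv && wchainOK (lv.b :: prev) rest

theorem mem_orbList {lv : WLevel} {x : ℕ} :
    x ∈ orbList n sw lv ↔ x < n ∧ inOrb sw lv x = true := by
  unfold orbList
  rw [List.mem_filter, List.mem_range]

theorem countChain_walk (K : Subgroup (Equiv.Perm (Fin n))) :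
    ∀ (levels : List WLevel) (prev : List ℕ), (∀ p ∈ prev, p < n) →
    (∀ lv ∈ levels, ∀ g ∈ lv.gs, pairOK n w g.1 g.2 = true ∧ permOf n w g.1 g.2 ∈ K) →
    wchainOK n w sw D prev levels = true →
    CountChain K (prev.map (pt n)) (levels.map (semW n w sw D)) := by
  intro levels
  induction levels with
  | nil => intro prev _ _ _; trivial
  | cons lv rest ih =>
    intro prev hprev hgs h
    unfold wchainOK at h
    rw [Bool.and_eq_true] at h
    obtain ⟨h1, h2⟩ := h
    unfold wlevelOK at h1
    rw [Bool.and_eq_true, Bool.and_eq_true] at h1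
    obtain ⟨⟨hb, hfix⟩, hall⟩ := h1
    have hb' : lv.b < n := by simpa using hb
    have hgs' := hgs lv List.mem_cons_self
    rw [List.map_cons]
    refine ⟨?_, ?_, ?_⟩
    · show ((orbList n sw lv).map (pt n)).Nodup
      apply List.Nodup.map_on
      · intro x hx y hy hxy
        have hx' := ((mem_orbList n sw).mp hx).1
        have hy' := ((mem_orbList n sw).mp hy).1
        have := congrArg Fin.val hxy
        rwa [pt_val n hx', pt_val n hy'] at this
      · exact (List.nodup_range).filter _
    · intro x hx
      have hx1 : x ∈ (orbList n sw lv).map (pt n) := hx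
      rw [List.mem_map] at hx1
      obtain ⟨x', hx', rfl⟩ := hx1
      obtain ⟨hlt, hin⟩ := (mem_orbList n sw).mp hx'
      have hw : walkOK w sw lv D x' = true := by
        have := allBelow_spec hall x' hlt
        rw [hin] at this
        simpa using this
      obtain ⟨k1, k2, _, k4⟩ := walk_spec n w sw K lv hgs' D x' hlt hw
      have hval : (pt n x').val = x' := pt_val n hlt
      show walkP n w sw lv D (pt n x').val ∈ K ∧ walkP n w sw lv D (pt n x').val • pt n lv.b = pt n x' ∧
        ∀ p ∈ prev.map (pt n), walkP n w sw lv D (pt n x').val • p = p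
      rw [hval]
      refine ⟨k1, k2, ?_⟩
      intro p hp
      rw [List.mem_map] at hp
      obtain ⟨p', hp', rfl⟩ := hp
      apply k4
      intro g hg
      rw [List.all_eq_true] at hfix
      have h3 := hfix g hg
      rw [List.all_eq_true] at h3
      have h4 := Nat.eq_of_beq_eq_true (h3 p' hp')
      have hp'n := hprev p' hp'
      apply Fin.ext
      rw [permOf_apply (hgs' g hg).1, pt_val n hp'n, h4]
    · have := ih (lv.b :: prev) (by
        intro p hp
        rcases List.mem_cons.mp hp with rfl | hp
        · exact hb'
        · exact hprev p hp) (fun lv' hlv' => hgs lv' (List.mem_cons_of_mem _ hlv')) h2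
      rwa [List.map_cons] at this

/-- product of the orbit lengths -/
def wsize : List WLevel → ℕ
  | [] => 1
  | lv :: rest => (orbList n sw lv).length * wsize rest

theorem chainSize_walk : ∀ levels : List WLevel,
    chainSize (levels.map (semW n w sw D)) = wsize n sw levels := by
  intro levels
  induction levels with
  | nil => rfl
  | cons lv rest ih =>
    rw [List.map_cons]
    unfold chainSize wsize
    rw [ih]
    show ((orbList n sw lv).map (pt n)).length * _ = _
    rw [List.length_map]

/-- MAIN: with the Boolean conditions and `|K| ≤` the product of the orbit lengths, every element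
of `K` sifts through the chain -/
theorem walk_main (K : Subgroup (Equiv.Perm (Fin n))) (levels : List WLevel)
    (hgs : ∀ lv ∈ levels, ∀ g ∈ lv.gs, pairOK n w g.1 g.2 = true ∧ permOf n w g.1 g.2 ∈ K)
    (hc : wchainOK n w sw D [] levels = true)
    (hcard : Nat.card K ≤ wsize n sw levels) :
    Nat.card K = wsize n sw levels ∧ ∀ z ∈ K, Sifts (levels.map (semW n w sw D)) z := by
  have h1 := countChain_walk n w sw D K levels [] (by intro p hp; simp at hp) hgs hc
  rw [List.map_nil] at h1
  have h2 := count_chain_main K _ h1 (by rw [chainSize_walk]; exact hcard)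
  rw [chainSize_walk] at h2
  exact h2

end chain

section sift

variable (n w sw D : ℕ) [NeZero n]

/-- sifting of a tuple of base images: at every level the image of the base point lies in the basic
orbit; the later images are moved back by the inverse of the transversal element -/
noncomputable def wsift : List WLevel → List ℕ → Bool
  | [], _ => true
  | _ :: _, [] => false
  | lv :: rest, y :: ys => inOrb sw lv y && wsift rest (ys.map (walkInv w sw lv D y))

/-- the data needed for soundness of `wsift`: what `wchainOK` provides -/
def WalkWF (levels : List WLevel) : Prop :=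
  ∀ lv ∈ levels, (∀ g ∈ lv.gs, pairOK n w g.1 g.2 = true) ∧
    ∀ x, x < n → inOrb sw lv x = true → walkOK w sw lv D x = true

theorem walkWF_of_chainOK : ∀ (levels : List WLevel) (prev : List ℕ),
    (∀ lv ∈ levels, ∀ g ∈ lv.gs, pairOK n w g.1 g.2 = true) →
    wchainOK n w sw D prev levels = true → WalkWF n w sw D levels := by
  intro levels
  induction levels with
  | nil => intro _ _ _ lv hlv; simp at hlv
  | cons lv rest ih =>
    intro prev hgs h lv' hlv'
    unfold wchainOK at h
    rw [Bool.and_eq_true] at h
    obtain ⟨h1, h2⟩ := h
    rcases List.mem_cons.mp hlv' with rfl | hlv'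
    · refine ⟨hgs _ List.mem_cons_self, ?_⟩
      intro x hx hin
      unfold wlevelOK at h1
      rw [Bool.and_eq_true] at h1
      have := allBelow_spec h1.2 x hx
      rw [hin] at this
      simpa using this
    · exact ih (lv.b :: prev) (fun l hl => hgs l (List.mem_cons_of_mem _ hl)) h2 lv' hlv'

/-- SOUNDNESS of sifting base images -/
theorem wsift_sound : ∀ (levels : List WLevel), WalkWF n w sw D levels →
    ∀ (z : Equiv.Perm (Fin n)), Sifts (levels.map (semW n w sw D)) z →
    ∀ imgs : List ℕ, List.Forall₂ (fun (lv : WLevel) (y : ℕ) => (z (pt n lv.b)).val = y) levels imgs →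
    wsift w sw D levels imgs = true := by
  intro levels
  induction levels with
  | nil => intro _ _ _ imgs _; cases imgs <;> rfl
  | cons lv rest ih =>
    intro hwf z hs imgs himg
    cases himg with
    | cons hy hys =>
      rename_i y ys
      rw [List.map_cons] at hs
      obtain ⟨hO, hrest⟩ := hs
      have hO' : z • pt n lv.b ∈ (orbList n sw lv).map (pt n) := hO
      rw [List.mem_map] at hO'
      obtain ⟨x', hx', hxe⟩ := hO'
      obtain ⟨hlt, hin⟩ := (mem_orbList n sw).mp hx'
      have hzb : (z (pt n lv.b)).val = x' := by
        have : z (pt n lv.b) = pt n x' := hxe.symm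
        rw [this, pt_val n hlt]
      have hyx : y = x' := hy.symm.trans hzb
      obtain ⟨hg, hwalk⟩ := hwf lv List.mem_cons_self
      have hw := hwalk x' hlt hin
      obtain ⟨_, _, k3, _⟩ := walk_spec n w sw ⊤ lv (fun g hgm => ⟨hg g hgm, Subgroup.mem_top _⟩) D x' hlt hw
      unfold wsift
      rw [Bool.and_eq_true]
      refine ⟨by rw [hyx]; exact hin, ?_⟩
      have hres : ((semW n w sw D lv).u (z • (semW n w sw D lv).b))⁻¹ * z =
          (walkP n w sw lv D x')⁻¹ * z := by
        show (walkP n w sw lv D (z • pt n lv.b).val)⁻¹ * z = _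
        have : (z • pt n lv.b).val = x' := hzb
        rw [this]
      rw [hres] at hrest
      apply ih (fun l hl => hwf l (List.mem_cons_of_mem _ hl)) _ hrest
      rw [List.forall₂_map_right_iff]
      refine List.Forall₂.imp ?_ hys
      intro lv' y' hy'
      rw [Equiv.Perm.mul_apply, k3, hy', hyx]

end sift

section abstract

variable {G₀ : Type*} [Group G₀] {X : Type*} [MulAction G₀ X]

/-- two elements that sift through a chain and agree on all base points are equal -/
theorem eq_of_sifts : ∀ (levels : List (SLevel G₀ X)) (z z' : G₀), Sifts levels z → Sifts levels z' →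
    (∀ lv ∈ levels, z • lv.b = z' • lv.b) → z = z' := by
  intro levels
  induction levels with
  | nil =>
    intro z z' hs hs' _
    have h1 : z = 1 := hs
    have h2 : z' = 1 := hs'
    rw [h1, h2]
  | cons lv rest ih =>
    intro z z' hs hs' h
    obtain ⟨_, hr⟩ := hs
    obtain ⟨_, hr'⟩ := hs'
    have hb := h lv List.mem_cons_self
    rw [← hb] at hr'
    have := ih _ _ hr hr' (by
      intro lv' hlv'
      rw [mul_smul, mul_smul, h lv' (List.mem_cons_of_mem _ hlv')])
    exact mul_left_cancel this

end abstract

end Cfsg.Agent.Lib.Helper15.Walk
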